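import Cfsg.Agent.Lib.ClassK.LineAction
import Cfsg.Agent.Lib.Transfer.Simple168
import Cfsg.Agent.Lib.Classical.PSLTwoPerm
import Cfsg.Agent.Lib.Classical.SLGen

/-!
# Uniqueness of the simple groups of order 60, 168, 660, 1092
-/

set_option autoImplicit false

namespace CfsgLib.ClassK

open Subgroup

theorem isSimpleGroup_psl_two {F : Type*} [Field F] [Fintype F] (h4 : 4 ≤ Fintype.card F) :
    IsSimpleGroup (Matrix.ProjectiveSpecialLinearGroup (Fin 2) F) := by
  classical
  obtain ⟨a, ha, ha2⟩ : ∃ a : F, a ≠ 0 ∧ a ^ 2 ≠ 1 := by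
    by_contra hcon
    simp only [not_exists, not_and, not_not] at hcon
    have hsub : (Finset.univ : Finset F) ⊆ {0, 1, -1} := fun a _ => by
      by_cases ha : a = 0
      · simp [ha]
      · rcases sq_eq_one_iff.1 (hcon a ha) with h | h <;> simp [h]
    have := (Finset.card_le_card hsub).trans Finset.card_le_three
    rw [Finset.card_univ] at this
    omega
  exact CfsgLib.Classical.isSimpleGroup_psl_of_perfect (Matrix.SL2.commutator_eq_top ha ha2)

/-- Generators of the squares of `ZMod p`, as multiplications. -/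
def mulGen5 : ZMod 5 ≃+ ZMod 5 := AddAut.mulLeft (⟨4, 4, rfl, rfl⟩ : (ZMod 5)ˣ)
@[inherit_doc mulGen5]
def mulGen7 : ZMod 7 ≃+ ZMod 7 := AddAut.mulLeft (⟨2, 4, rfl, rfl⟩ : (ZMod 7)ˣ)
@[inherit_doc mulGen5]
def mulGen11 : ZMod 11 ≃+ ZMod 11 := AddAut.mulLeft (⟨4, 3, rfl, rfl⟩ : (ZMod 11)ˣ)
@[inherit_doc mulGen5]
def mulGen13 : ZMod 13 ≃+ ZMod 13 := AddAut.mulLeft (⟨4, 10, rfl, rfl⟩ : (ZMod 13)ˣ)

local instance : Fact (Nat.Prime 5) := ⟨by norm_num⟩
local instance : Fact (Nat.Prime 7) := ⟨by norm_num⟩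
local instance : Fact (Nat.Prime 11) := ⟨by norm_num⟩
local instance : Fact (Nat.Prime 13) := ⟨by norm_num⟩

variable {G H : Type*} [Group G] [Finite G] [IsSimpleGroup G] [Group H] [Finite H] [IsSimpleGroup H]

theorem card_sylow_eq_succ {p m : ℕ} [Fact p.Prime] (hc : Nat.card G = p * ((p + 1) * m))
    (hnp : ¬ (Nat.card G).Prime)
    (hnum : ∀ n ≤ (p + 1) * m, n ∣ (p + 1) * m → n % p = 1 → 1 < n → n = p + 1) :
    Nat.card (Sylow p G) = p + 1 := by
  have hp : p.Prime := Fact.out
  obtain ⟨h1, hm, hd, -⟩ := CfsgLib.Transfer.sylow_count_of_simple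
    (CfsgLib.Transfer.not_isMulCommutative_of_not_prime hnp) (p := p) (hc ▸ dvd_mul_right p _)
  rw [hc] at hd
  have hd' : Nat.card (Sylow p G) ∣ (p + 1) * m := by
    refine Nat.Coprime.dvd_of_dvd_mul_left ?_ hd
    refine Nat.Coprime.symm (hp.coprime_iff_not_dvd.2 fun h => ?_)
    rw [Nat.mod_eq_zero_of_dvd h] at hm
    omega
  refine hnum _ (Nat.le_of_dvd ?_ hd') hd' hm h1
  rcases Nat.eq_zero_or_pos ((p + 1) * m) with h | h
  · rw [h, mul_zero] at hc
    exact absurd hc (Nat.card_pos).ne'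
  · exact h

theorem nonempty_equiv_sixty (h : Nat.card G = 60) (h' : Nat.card H = 60) : Nonempty (G ≃* H) := by
  have hne : ¬ (60 : ℕ).Prime := by norm_num
  obtain ⟨f, hf, hl⟩ := exists_lineGroup_prime (p := 5) (m := 2)
    (CfsgLib.Transfer.not_isMulCommutative_of_not_prime (h ▸ hne)) h le_rfl (by norm_num)
    (card_sylow_eq_succ (m := 2) h (h ▸ hne) (by decide)) mulGen5 (by decide +kernel)
  obtain ⟨f', hf', hl'⟩ := exists_lineGroup_prime (p := 5) (m := 2)
    (CfsgLib.Transfer.not_isMulCommutative_of_not_prime (h' ▸ hne)) h' le_rfl (by norm_num)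
    (card_sylow_eq_succ (m := 2) h' (h' ▸ hne) (by decide)) mulGen5 (by decide +kernel)
  exact nonempty_mulEquiv_of_lineGroup hf hf' hl hl' (u := 1) (v := 2) one_ne_zero (by decide +kernel)
    (by decide +kernel) (e₀ := 1) (c₀ := 1) (d₀ := 3) (by decide +kernel)

/-- In a simple group of order 168 an element swapping two points inverts their stabilizer. -/
theorem allowed_168 {K : Type*} [Group K] [Finite K] [IsSimpleGroup K] (h : Nat.card K = 168)
    {g : ZMod 7 ≃+ ZMod 7} (hg1 : g 1 = 2) {f : K →* Equiv.Perm (Option (ZMod 7))}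
    (hf : Function.Injective f) (hl : LineGroup g 3 (fun _ => true) f.range) :
    LineGroup g 3 (fun e => e == 2) f.range := by
  refine ⟨hl.trans_mem, hl.mul_mem', hl.stab, hl.moves, ?_⟩
  rintro e he _ ⟨ω, rfl⟩ hwn hwz hwe
  by_contra hne
  obtain ⟨γ, hγ⟩ := hl.mul_mem'
  have he' : e = 0 ∨ e = 1 := by simp at hne; omega
  have hgo : orderOf γ = 3 := by
    rw [← orderOf_injective f hf, hγ]
    refine orderOf_eq_prime (Equiv.ext fun x => ?_) fun h1 => ?_
    · rcases x with _ | x
      · rw [ptMul_pow_none]; rfl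
      · rw [ptMul_pow_some, addEquiv_zmod_apply]
        show some ((g : ZMod 7 → ZMod 7)^[3] 1 * x) = some x
        have h2 : (g : ZMod 7 → ZMod 7)^[3] 1 = 1 := by
          show g (g (g 1)) = 1
          have hmul : ∀ y, g y = g 1 * y := fun y => addEquiv_zmod_apply g 1 y
          rw [hg1, hmul 2, hg1, hmul, hg1]; decide
        rw [h2, one_mul]
    · have := congrArg (fun π : Equiv.Perm (Option (ZMod 7)) => π (some 1)) h1
      simp [hg1] at this
      exact absurd this (by decide)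
  rcases he' with rfl | rfl
  · rw [pow_zero, one_mul, ← hγ, ← map_mul] at hwe
    have := hf hwe
    rw [mul_eq_left] at this
    rw [this, orderOf_one] at hgo
    norm_num at hgo
  · rw [pow_one, ← hγ, ← map_mul, ← map_mul] at hwe
    have hC := CfsgLib.Transfer.centralizer_order_three_168 h hgo
    have hle : zpowers γ ≤ centralizer ({γ} : Set K) :=
      zpowers_le.2 (mem_centralizer_singleton_iff.2 rfl)
    have heq := eq_of_le_of_card_ge hle (by rw [hC, Nat.card_zpowers, hgo])
    have hω : ω ∈ zpowers γ := heq ▸ mem_centralizer_singleton_iff.2 (hf hwe)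
    obtain ⟨i, hi⟩ := mem_powers_iff_mem_zpowers.2 hω
    rw [← show γ ^ i = ω from hi, map_pow, hγ, ptMul_pow_none] at hwn
    simp at hwn

theorem nonempty_equiv_168 (h : Nat.card G = 168) (h' : Nat.card H = 168) : Nonempty (G ≃* H) := by
  obtain ⟨f, hf, hl⟩ := exists_lineGroup_prime (p := 7) (m := 3) (CfsgLib.Transfer.nonabelian_168 h)
    h (by norm_num) (by norm_num) (CfsgLib.Transfer.sylow7_168 h).1 mulGen7 (by decide +kernel)
  obtain ⟨f', hf', hl'⟩ := exists_lineGroup_prime (p := 7) (m := 3) (CfsgLib.Transfer.nonabelian_168 h')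
    h' (by norm_num) (by norm_num) (CfsgLib.Transfer.sylow7_168 h').1 mulGen7 (by decide +kernel)
  exact nonempty_mulEquiv_of_lineGroup hf hf' (allowed_168 h rfl hf hl) (allowed_168 h' rfl hf' hl')
    (u := 1) (v := 3) one_ne_zero (by decide +kernel) (by decide +kernel)
    (e₀ := 2) (c₀ := 3) (d₀ := 1) (by decide +kernel)

theorem nonempty_equiv_660 (h : Nat.card G = 660) (h' : Nat.card H = 660) : Nonempty (G ≃* H) := by
  have hne : ¬ (660 : ℕ).Prime := by norm_num
  obtain ⟨f, hf, hl⟩ := exists_lineGroup_prime (p := 11) (m := 5)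
    (CfsgLib.Transfer.not_isMulCommutative_of_not_prime (h ▸ hne)) h (by norm_num) (by norm_num)
    (card_sylow_eq_succ (m := 5) h (h ▸ hne) (by decide +kernel)) mulGen11 (by decide +kernel)
  obtain ⟨f', hf', hl'⟩ := exists_lineGroup_prime (p := 11) (m := 5)
    (CfsgLib.Transfer.not_isMulCommutative_of_not_prime (h' ▸ hne)) h' (by norm_num) (by norm_num)
    (card_sylow_eq_succ (m := 5) h' (h' ▸ hne) (by decide +kernel)) mulGen11 (by decide +kernel)
  exact nonempty_mulEquiv_of_lineGroup hf hf' hl hl' (u := 1) (v := 2) one_ne_zero (by decide +kernel)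
    (by decide +kernel) (e₀ := 4) (c₀ := 2) (d₀ := 1) (by decide +kernel)

theorem nonempty_equiv_1092 (h : Nat.card G = 1092) (h' : Nat.card H = 1092) :
    Nonempty (G ≃* H) := by
  have hne : ¬ (1092 : ℕ).Prime := by norm_num
  obtain ⟨f, hf, hl⟩ := exists_lineGroup_prime (p := 13) (m := 6)
    (CfsgLib.Transfer.not_isMulCommutative_of_not_prime (h ▸ hne)) h (by norm_num) (by norm_num)
    (card_sylow_eq_succ (m := 6) h (h ▸ hne) (by decide +kernel)) mulGen13 (by decide +kernel)
  obtain ⟨f', hf', hl'⟩ := exists_lineGroup_prime (p := 13) (m := 6)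
    (CfsgLib.Transfer.not_isMulCommutative_of_not_prime (h' ▸ hne)) h' (by norm_num) (by norm_num)
    (card_sylow_eq_succ (m := 6) h' (h' ▸ hne) (by decide +kernel)) mulGen13 (by decide +kernel)
  exact nonempty_mulEquiv_of_lineGroup hf hf' hl hl' (u := 1) (v := 2) one_ne_zero (by decide +kernel)
    (by decide +kernel) (e₀ := 5) (c₀ := 1) (d₀ := 7) (by decide +kernel)

end CfsgLib.ClassK
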