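import Cfsg.Agent.Lib.ClassK.PushBaumann
import Cfsg.Agent.Lib.Amalgam.ChermakDelgado
import Cfsg.Agent.Lib.Transfer.PPrimeAut
import Cfsg.Agent.Lib.StructC.BurnsideBasis

/-!
Minimal centrally large subgroups in the basic pushing-up situation: when `Z(S)` is not normal, each
of them outside the kernel has a partner inside the kernel with the same derived and Frattini subgroup.
-/

set_option autoImplicit false
set_option linter.style.haveILetI false
set_option linter.unusedSectionVars false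
set_option linter.unusedVariables false

namespace CfsgLib.ClassK.Push

open Subgroup Cfsg
open scoped MatrixGroups Pointwise commutatorElement

section Transfer

variable {H L : Type*} [Group H] [Group L] {f : H →* L}

theorem map_inf_centralizer (hf : Function.Injective f) (X : Subgroup H) :
    (X ⊓ centralizer (X : Set H)).map f = X.map f ⊓ centralizer (X.map f : Set L) := by
  ext y
  constructor
  · rintro ⟨x, ⟨hx, hxc⟩, rfl⟩
    refine ⟨mem_map_of_mem f hx, ?_⟩
    rintro _ ⟨z, hz, rfl⟩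
    rw [← map_mul, ← map_mul, hxc z hz]
  · rintro ⟨⟨x, hx, rfl⟩, hxc⟩
    refine ⟨x, ⟨hx, fun z hz => hf ?_⟩, rfl⟩
    rw [map_mul, map_mul, hxc _ ⟨z, hz, rfl⟩]

theorem map_omegaOne (hf : Function.Injective f) (p : ℕ) (X : Subgroup H) :
    (omegaOne p X).map f = omegaOne p (X.map f) := by
  rw [omegaOne, omegaOne, MonoidHom.map_closure]
  congr 1
  ext y
  constructor
  · rintro ⟨x, ⟨hx, hxp⟩, rfl⟩
    exact ⟨mem_map_of_mem f hx, by rw [← map_pow, hxp, map_one]⟩
  · rintro ⟨⟨x, hx, rfl⟩, hxp⟩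
    exact ⟨x, ⟨hx, hf (by rw [map_pow, hxp, map_one])⟩, rfl⟩

theorem map_omegaOneCenter (hf : Function.Injective f) (p : ℕ) (X : Subgroup H) :
    (omegaOneCenter p X).map f = omegaOneCenter p (X.map f) := by
  rw [omegaOneCenter, omegaOneCenter, map_omegaOne hf, map_inf_centralizer hf]

theorem map_frattini_subtype (hf : Function.Injective f) (X : Subgroup H) :
    ((frattini X).map X.subtype).map f = (frattini (X.map f)).map (X.map f).subtype := by
  set e := X.equivMapOfInjective f hf with he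
  have h2 : (frattini X).map e.toMonoidHom = frattini (X.map f) := by
    refine le_antisymm (map_le_iff_le_comap.2 (frattini_le_comap_frattini_of_surjective e.surjective)) ?_
    intro y hy
    refine ⟨e.symm y, frattini_le_comap_frattini_of_surjective (φ := e.symm.toMonoidHom) e.symm.surjective hy,
      e.apply_symm_apply y⟩
  rw [← h2, map_map, map_map]
  rfl

theorem card_measure_map [Finite H] (hf : Function.Injective f) (X : Subgroup H) :
    Nat.card X * Nat.card (center X) = Nat.card (X.map f) * Nat.card (center (X.map f)) := by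
  rw [Amalgam.card_center_eq, Amalgam.card_center_eq, ← map_inf_centralizer hf,
    card_map_of_injective hf, card_map_of_injective hf]

theorem mcl_of_map [Finite H] {g : H →* L} (hf : Function.Injective f) (hg : Function.Injective g)
    {R R' : Subgroup H} (h : R.map f = R'.map g) (hR : IsMinimalCentrallyLarge R) :
    IsMinimalCentrallyLarge R' := by
  have key : ∀ A B : Subgroup H, A.map f = B.map g →
      Nat.card A * Nat.card (center A) = Nat.card B * Nat.card (center B) := fun A B hAB => by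
    rw [card_measure_map hf, card_measure_map hg, hAB]
  refine ⟨(key R R' h).symm.trans hR.1, fun B hB hBc => ?_⟩
  have h1 : (R ⊓ (B.map g).comap f).map f = B.map g := by
    refine le_antisymm (fun y hy => ?_) fun y hy => ?_
    · obtain ⟨x, hx, rfl⟩ := hy
      exact hx.2
    · obtain ⟨x, hx, rfl⟩ := (h.ge (map_mono hB hy) : y ∈ R.map f)
      exact ⟨x, ⟨hx, hy⟩, rfl⟩
  have h2 := hR.2 (R ⊓ (B.map g).comap f) inf_le_left ((key _ B h1).trans hBc)
  rw [h2, h] at h1
  exact (map_injective hg h1).symm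

end Transfer

section General

variable {G : Type*} [Group G] [Finite G] {p : ℕ}

theorem card_eq_mul {A B : Subgroup G} (h : A ≤ B) : Nat.card B = Nat.card A * A.relIndex B := by
  rw [← relIndex_bot_left, ← relIndex_bot_left, relIndex_mul_relIndex _ _ _ bot_le h]

theorem mem_omegaOneCenter {X : Subgroup G} {x : G} :
    x ∈ omegaOneCenter p X ↔ x ∈ X ⊓ centralizer (X : Set G) ∧ x ^ p = 1 := by
  have hab : X ⊓ centralizer (X : Set G) ≤ centralizer ((X ⊓ centralizer (X : Set G) : Subgroup G) : Set G) :=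
    inf_le_right.trans (centralizer_le inf_le_left)
  constructor
  · intro hx
    exact (closure_le (torsionOf p _ hab)).2 (fun y hy => hy) hx
  · exact fun hx => subset_closure hx

theorem frattini_map_le [Fact p.Prime] {X N : Subgroup G} (hc : ⁅X, X⁆ ≤ N)
    (hpow : ∀ x ∈ X, x ^ p ∈ N) : (frattini X).map X.subtype ≤ N := by
  haveI : (N.subgroupOf X).Normal := ⟨fun m hm g => by
    have : ((g * m * g⁻¹ : X) : G) = ⁅(g : G), (m : G)⁆ * (m : G) := by
      simp [commutatorElement_def]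
    rw [mem_subgroupOf, this]
    exact mul_mem (hc (commutator_mem_commutator g.2 m.2)) hm⟩
  have := Transfer.frattini_le_of_elementary_quotient (p := p) (N.subgroupOf X)
    (fun x y => hc (commutator_mem_commutator x.2 y.2)) (fun x => hpow x x.2)
  exact (map_mono this).trans (map_le_iff_le_comap.2 le_rfl)

theorem le_frattini_map [Fact p.Prime] {X : Subgroup G} (hX : IsPGroup p X) :
    ⁅X, X⁆ ≤ (frattini X).map X.subtype ∧ ∀ x ∈ X, x ^ p ∈ (frattini X).map X.subtype := by
  refine ⟨(commutator_le).2 fun a ha b hb => ⟨⁅(⟨a, ha⟩ : X), ⟨b, hb⟩⁆, ?_, rfl⟩,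
    fun x hx => ⟨⟨x, hx⟩ ^ p, Transfer.pow_mem_frattini hX _, rfl⟩⟩
  simpa [commutatorElement_def] using StructC.comm_mem_frattini hX (⟨a, ha⟩⁻¹ : X) ⟨b, hb⟩⁻¹

end General

variable {G : Type*} [Group G] [Finite G] {p n : ℕ} [Fact p.Prime] {F : Type*} [Field F] [Fintype F]

namespace Sit

variable {S : Sylow p G} {M : Subgroup G}
  {φ : G →* Matrix.ProjectiveSpecialLinearGroup (Fin 2) F} (h : Sit (F := F) S M φ n)
include h

/-- The normal closure `V` of `Z(S)`. -/
theorem closure_center_facts (hJ : ¬ Cfsg.thompsonSubgroupAOf (S : Subgroup G) ≤ φ.ker)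
    (hZ : ¬ ((S : Subgroup G) ⊓ centralizer ((S : Subgroup G) : Set G)).Normal) :
    ∃ V W : Subgroup G, V.Normal ∧ W.Normal ∧ W ≤ V ∧
      (S : Subgroup G) ⊓ centralizer ((S : Subgroup G) : Set G) ≤ V ∧
      V ≤ Cfsg.pCore p G ⊓ centralizer (Cfsg.pCore p G : Set G) ∧
      (∀ b ∈ (S : Subgroup G), φ b ≠ 1 →
        V ⊓ centralizer ({b} : Set G) ≤ (S : Subgroup G) ⊓ centralizer ((S : Subgroup G) : Set G)) ∧
      ((S : Subgroup G) ⊓ centralizer ((S : Subgroup G) : Set G)).relIndex V = p ^ n ∧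
      (∀ w ∈ W, w ^ p = 1) ∧
      p ^ n ≤ ((S : Subgroup G) ⊓ centralizer ((S : Subgroup G) : Set G)).relIndex W := by
  set Z := (S : Subgroup G) ⊓ centralizer ((S : Subgroup G) : Set G) with hZdef
  set Q := Cfsg.pCore p G with hQdef
  haveI hQn : Q.Normal := Cfsg.pCore_normal p G
  set V := normalClosure (Z : Set G) with hVdef
  have hQS : Q ≤ (S : Subgroup G) := h.pCore_le
  have hZV : Z ≤ V := subset_normalClosure
  have hVQ : V ≤ Q ⊓ centralizer (Q : Set G) :=
    normalClosure_le_normal (le_inf h.center_le_pCore (inf_le_right.trans (centralizer_le hQS)))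
  have hVQ' : V ≤ Q := hVQ.trans inf_le_left
  have hVS : V ≤ (S : Subgroup G) := hVQ'.trans hQS
  have hVab : V ≤ centralizer (V : Set G) := (hVQ.trans inf_le_right).trans (centralizer_le hVQ')
  have hVp : IsPGroup p V := S.isPGroup'.to_le hVS
  set W := torsionOf p V hVab with hWdef
  haveI hWn : W.Normal := torsionOf_normal hVab
  have hWV : W ≤ V := fun v hv => hv.1
  have hWe : ∀ w ∈ W, w ^ p = 1 := fun v hv => hv.2
  have hWab : W ≤ centralizer (W : Set G) := (hWV.trans hVab).trans (centralizer_le hWV)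
  have hVc : ¬ Cfsg.pResidual p G ≤ centralizer (V : Set G) := fun hc =>
    hZ (h.normal_of_centralized (le_centralizer_iff.1 inf_le_right) (hc.trans (centralizer_le hZV)))
  have hWc : ¬ Cfsg.pResidual p G ≤ centralizer (W : Set G) := fun hc => hVc ((closure_le _).2
    fun x hx => mem_centralizer_of_torsion hVab hVp hx (hc (Transfer.mem_pResidual_of_coprime hx)))
  have hZC : ∀ b ∈ (S : Subgroup G), Z ≤ centralizer ({b} : Set G) := fun b hb =>
    inf_le_right.trans (centralizer_le (Set.singleton_subset_iff.2 hb))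
  have hVge : ∀ b ∈ (S : Subgroup G), φ b ≠ 1 →
      p ^ n ≤ (V ⊓ centralizer ({b} : Set G)).relIndex V := fun b hb hb1 =>
    calc p ^ n ≤ (W ⊓ centralizer ({b} : Set G)).relIndex W :=
          h.le_relIndex_centralizer hWe hWab hWc hb hb1
      _ = (V ⊓ centralizer ({b} : Set G)).relIndex W := by
          rw [← inf_relIndex_right (V ⊓ _), inf_comm (V ⊓ _) W, ← inf_assoc, inf_eq_left.2 hWV]
      _ ≤ _ := relIndex_le_of_le' hWV
  obtain ⟨A, hA, hAK⟩ : ∃ A ∈ PLocal.maxAbIn (S : Subgroup G), ¬ A ≤ φ.ker := by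
    by_contra hcon
    simp only [not_exists, not_and, not_not] at hcon
    exact hJ ((PLocal.thompsonAOf_eq _).le.trans (sSup_le hcon))
  obtain ⟨a, haA, ha⟩ := SetLike.not_le_iff_exists.1 hAK
  have haS : a ∈ (S : Subgroup G) := hA.1 haA
  have ha1 : φ a ≠ 1 := fun e => ha (MonoidHom.mem_ker.2 e)
  have hAab := comm_le_centralizer hA.2.1
  set A' := A ⊓ φ.ker with hA'def
  have hA'Q : A' ≤ Q := (le_inf (inf_le_left.trans hA.1) inf_le_right).trans h.pCore_eq.ge
  have hA'V : A' ≤ centralizer (V : Set G) :=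
    hA'Q.trans (le_centralizer_iff.1 (hVQ.trans inf_le_right))
  have hge : p ^ n ≤ A'.relIndex V := by
    refine (hVge a haS ha1).trans ?_
    rw [← inf_relIndex_right A' V]
    exact Nat.le_of_dvd (relIndex_pos' _ _) (relIndex_dvd_of_le_left V
      (le_inf inf_le_right ((inf_le_left.trans inf_le_left).trans
        (hAab.trans (centralizer_le (Set.singleton_subset_iff.2 haA))))))
  have hle : A'.relIndex V ≤ A'.relIndex A := relIndex_le_of_maxAb hA inf_le_left hVS hVab hA'V
  have hAq : A'.relIndex A ≤ p ^ n := h.relIndex_inf_ker_le hA.1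
  have hSAQ : (S : Subgroup G) ≤ A ⊔ Q := h.sylow_le_sup hA.1 (hge.trans hle)
  have hZA : Z ≤ A := fun z hz =>
    PLocal.mem_maxAbIn_of_centralizes hA hz.1 (centralizer_le hA.1 hz.2)
  have hVA : A ⊓ V = Z := by
    refine le_antisymm ?_ (le_inf hZA hZV)
    intro v hv
    refine ⟨hA.1 hv.1, ?_⟩
    refine le_centralizer_iff.1 ?_ (mem_zpowers v)
    refine hSAQ.trans (sup_le ?_ ?_)
    · exact hAab.trans (centralizer_le (zpowers_le.2 hv.1))
    · exact (le_centralizer_iff.1 (hVQ.trans inf_le_right)).trans (centralizer_le (zpowers_le.2 hv.2))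
  have hA'V' : A' ⊓ V = Z := by
    rw [hA'def, inf_assoc, inf_eq_right.2 (hVQ'.trans h.pCore_le_ker), hVA]
  have hZrel : Z.relIndex V = p ^ n := by
    rw [← hA'V', inf_relIndex_right]
    exact le_antisymm (hle.trans hAq) hge
  refine ⟨V, W, normalClosure_normal, hWn, hWV, hZV, hVQ, fun b hb hb1 => ?_, hZrel, hWe, ?_⟩
  · have h1 : Z ≤ V ⊓ centralizer ({b} : Set G) := le_inf hZV (hZC b hb)
    have h2 := relIndex_mul_relIndex Z (V ⊓ centralizer ({b} : Set G)) V h1 inf_le_left
    have h3 := hVge b hb hb1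
    have h4 := relIndex_pos' Z (V ⊓ centralizer ({b} : Set G))
    have h5 : 0 < p ^ n := pow_pos (Fact.out : p.Prime).pos n
    rw [hZrel] at h2
    have h6 : Z.relIndex (V ⊓ centralizer ({b} : Set G)) = 1 := by nlinarith
    exact relIndex_eq_one.1 h6
  · rw [← inf_relIndex_right Z W]
    exact (h.le_relIndex_centralizer hWe hWab hWc haS ha1).trans
      (Nat.le_of_dvd (relIndex_pos' _ _) (relIndex_dvd_of_le_left W
        (le_inf inf_le_right (inf_le_left.trans (hZC a haS)))))

theorem thompson_not_le_ker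
    (hJS : (S : Subgroup G) ≤ centralizer (Cfsg.centerThompsonAOf (S : Subgroup G) : Set G))
    (hZ : ¬ ((S : Subgroup G) ⊓ centralizer ((S : Subgroup G) : Set G)).Normal) :
    ¬ Cfsg.thompsonSubgroupAOf (S : Subgroup G) ≤ φ.ker := by
  intro hJ
  by_cases hc : Cfsg.pResidual p G ≤ centralizer (Cfsg.centerThompsonAOf (S : Subgroup G) : Set G)
  · exact hZ (h.normal_of_centralized (le_centralizer_iff.1 inf_le_right)
      (hc.trans (centralizer_le h.center_le_centerThompson)))
  · have hn := h.jTilde_normal_of_le_ker hJ hc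
    rw [inf_eq_left.2 hJS] at hn
    obtain ⟨a, ha, ha1⟩ := h.exists_mem_sylow_not_ker
    exact ha1 (MonoidHom.mem_ker.1 (h.pCore_le_ker (Amalgam.le_pCore hn S.isPGroup' ha)))

theorem subgroupOf_ker_index : (φ.ker.subgroupOf (S : Subgroup G)).index = p ^ n := by
  rw [← relIndex, relIndex_ker, h.card_map]

theorem relIndex_subgroupOf_ker_le (A : Subgroup ↥(S : Subgroup G)) :
    (φ.ker.subgroupOf (S : Subgroup G)).relIndex A ≤ p ^ n := by
  rw [← h.subgroupOf_ker_index, ← relIndex_top_right]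
  exact relIndex_le_of_le' le_top

set_option maxHeartbeats 1600000 in
/-- A minimal centrally large subgroup outside the kernel and its partner inside. -/
theorem exists_mcl_partner (hJ : ¬ Cfsg.thompsonSubgroupAOf (S : Subgroup G) ≤ φ.ker)
    (hZ : ¬ ((S : Subgroup G) ⊓ centralizer ((S : Subgroup G) : Set G)).Normal)
    {Q : Subgroup ↥(S : Subgroup G)} (hQ : IsMinimalCentrallyLarge Q)
    (hQK : ¬ Q ≤ φ.ker.subgroupOf (S : Subgroup G)) :
    ∃ R, IsMinimalCentrallyLarge R ∧ R ≤ φ.ker.subgroupOf (S : Subgroup G) ∧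
      (∃ b ∈ centralizer (Q : Set ↥(S : Subgroup G)), φ b ≠ 1) ∧
      ((∀ R' : Subgroup ↥(S : Subgroup G), IsMinimalCentrallyLarge R' →
          Nat.card (omegaOneCenter p R') ≤ Nat.card (omegaOneCenter p Q)) →
        Nat.card (omegaOneCenter p R) = Nat.card (omegaOneCenter p Q) ∧
          (frattini R).map R.subtype = (frattini Q).map Q.subtype) := by
  obtain ⟨V₀, W₀, hVn, hWn, hWV₀, hZV₀, hVQ₀, hfix₀, hidx₀, hWe₀, hWidx₀⟩ :=
    h.closure_center_facts hJ hZ
  have hq : 0 < p ^ n := pow_pos (Fact.out : p.Prime).pos n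
  have hQ₀S : Cfsg.pCore p G ≤ (S : Subgroup G) := h.pCore_le
  set V := V₀.subgroupOf (S : Subgroup G) with hVdef
  set W := W₀.subgroupOf (S : Subgroup G) with hWdef
  set K := φ.ker.subgroupOf (S : Subgroup G) with hKdef
  have hZeq : ((S : Subgroup G) ⊓ centralizer ((S : Subgroup G) : Set G)).subgroupOf (S : Subgroup G) =
      center ↥(S : Subgroup G) := by
    ext x
    constructor
    · intro hx
      exact mem_center_iff.2 fun y => Subtype.ext (hx.2 y y.2)
    · intro hx
      exact ⟨x.2, fun y hy => congrArg Subtype.val (mem_center_iff.1 hx ⟨y, hy⟩)⟩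
  have hVS : V₀ ≤ (S : Subgroup G) := (hVQ₀.trans inf_le_left).trans hQ₀S
  have hidx : (center ↥(S : Subgroup G)).relIndex V = p ^ n := by
    rw [← hZeq, hVdef, relIndex_subgroupOf hVS, hidx₀]
  have hWidx : p ^ n ≤ (center ↥(S : Subgroup G)).relIndex W := by
    rw [← hZeq, hWdef, relIndex_subgroupOf (hWV₀.trans hVS)]
    exact hWidx₀
  have hWV : W ≤ V := fun x hx => hWV₀ hx
  have hZV : center ↥(S : Subgroup G) ≤ V := hZeq.ge.trans fun x hx => hZV₀ hx
  have hVK : V ≤ K := fun x hx => h.pCore_le_ker (hVQ₀ hx).1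
  have hKV : K ≤ centralizer (V : Set ↥(S : Subgroup G)) := fun k hk v hv => Subtype.ext
    (((hVQ₀ hv).2 k (h.pCore_eq.ge ⟨k.2, hk⟩)).symm)
  have hfix : ∀ b : ↥(S : Subgroup G), b ∉ K → ∀ v ∈ V, Commute b v → v ∈ center ↥(S : Subgroup G) :=
    fun b hb v hv hc => hZeq.le (hfix₀ b b.2 (fun e => hb e)
      ⟨hv, mem_centralizer_singleton_iff.2 (congrArg Subtype.val hc.eq).symm⟩)
  obtain ⟨-, hCQ⟩ := Amalgam.isCentrallyLarge_iff.1 hQ.1
  set ZQ := centralizer (Q : Set ↥(S : Subgroup G)) with hZQdef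
  set P := Q ⊓ K with hPdef
  set PZ := ZQ ⊓ K with hPZdef
  set R := P ⊔ V with hRdef
  set Y := PZ ⊔ V with hYdef
  have hmQ : maxCentralProduct ↥(S : Subgroup G) = Nat.card Q * Nat.card ZQ := by
    rw [← hQ.1, Amalgam.card_center_eq, inf_eq_right.2 hCQ]
  have hPV : P ≤ centralizer (V : Set ↥(S : Subgroup G)) := inf_le_right.trans hKV
  have hPPZ : PZ ≤ P := inf_le_inf_right K hCQ
  have hYR : Y ≤ R ⊓ centralizer (R : Set ↥(S : Subgroup G)) := by
    refine le_inf (sup_le_sup_right hPPZ V) ?_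
    rw [hRdef, Amalgam.centralizer_sup]
    refine le_inf (sup_le ?_ (le_centralizer_iff.1 hPV)) (sup_le (inf_le_right.trans hKV) (hVK.trans hKV))
    exact inf_le_left.trans (centralizer_le inf_le_left)
  have hmeas : Nat.card R * Nat.card Y ≤ Nat.card Q * Nat.card ZQ := by
    refine le_trans ?_ (hmQ ▸ Amalgam.central_le_max R)
    rw [Amalgam.card_center_eq]
    exact Nat.mul_le_mul_left _ (card_le_of_le hYR)
  set t := P.relIndex Q with ht
  set u := PZ.relIndex ZQ with hu
  have htq : t ≤ p ^ n := by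
    rw [ht, hPdef, inf_relIndex_left]
    exact h.relIndex_subgroupOf_ker_le Q
  have huq : u ≤ p ^ n := by
    rw [hu, hPZdef, inf_relIndex_left]
    exact h.relIndex_subgroupOf_ker_le ZQ
  obtain ⟨b₀, hb₀Q, hb₀K⟩ := SetLike.not_le_iff_exists.1 hQK
  have hPZV : p ^ n ≤ PZ.relIndex V := by
    rw [← hidx, ← inf_relIndex_right PZ V]
    refine Nat.le_of_dvd (relIndex_pos' _ _) (relIndex_dvd_of_le_left V ?_)
    rintro x ⟨hx, hxV⟩
    exact hfix b₀ hb₀K x hxV (hx.1 b₀ hb₀Q)
  have hRge : Nat.card P * P.relIndex V ≤ Nat.card R := by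
    rw [card_eq_mul (show P ≤ R from le_sup_left)]
    exact Nat.mul_le_mul_left _ (relIndex_le_of_le' le_sup_right)
  have hYge : Nat.card PZ * p ^ n ≤ Nat.card Y := by
    rw [card_eq_mul (show PZ ≤ Y from le_sup_left)]
    exact Nat.mul_le_mul_left _ (hPZV.trans (relIndex_le_of_le' le_sup_right))
  have hQc : Nat.card Q = Nat.card P * t := card_eq_mul inf_le_left
  have hZQc : Nat.card ZQ = Nat.card PZ * u := card_eq_mul inf_le_left
  have hP0 : 0 < Nat.card P := Nat.card_pos
  have hPZ0 : 0 < Nat.card PZ := Nat.card_pos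
  have hmain : P.relIndex V * p ^ n ≤ t * u := by
    refine Nat.le_of_mul_le_mul_left ?_ (Nat.mul_pos hP0 hPZ0)
    calc Nat.card P * Nat.card PZ * (P.relIndex V * p ^ n)
        = (Nat.card P * P.relIndex V) * (Nat.card PZ * p ^ n) := by ring
      _ ≤ Nat.card R * Nat.card Y := Nat.mul_le_mul hRge hYge
      _ ≤ Nat.card Q * Nat.card ZQ := hmeas
      _ = _ := by rw [hQc, hZQc]; ring
  have hlarge : Nat.card Q * Nat.card ZQ ≤ Nat.card R * Nat.card Y → IsCentrallyLarge R := fun hge => by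
    refine le_antisymm (Amalgam.central_le_max R) ?_
    rw [hmQ, Amalgam.card_center_eq]
    exact hge.trans (Nat.mul_le_mul_left _ (card_le_of_le hYR))
  have hv0 := relIndex_pos' P V
  obtain ⟨b, hbZ, hbK⟩ : ∃ b ∈ ZQ, b ∉ K := by
    by_contra hcon
    simp only [not_exists, not_and, not_not] at hcon
    have hu1 : u = 1 := relIndex_eq_one.2 (le_inf le_rfl hcon)
    have hv1 : P.relIndex V = 1 := by rw [hu1] at hmain; nlinarith
    have hRQ : R ≤ Q := sup_le inf_le_left ((relIndex_eq_one.1 hv1).trans inf_le_left)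
    have hCLR : IsCentrallyLarge R := hlarge <| by
      rw [hQc, hZQc, hu1, mul_one]
      calc Nat.card P * t * Nat.card PZ ≤ Nat.card P * p ^ n * Nat.card PZ := by gcongr
        _ = Nat.card P * (Nat.card PZ * p ^ n) := by ring
        _ ≤ Nat.card R * Nat.card Y := Nat.mul_le_mul (card_le_of_le le_sup_left) hYge
    exact hQK ((hQ.2 R hRQ hCLR).ge.trans (sup_le inf_le_right hVK))
  have hv : p ^ n ≤ P.relIndex V := by
    rw [← hidx, ← inf_relIndex_right P V]
    refine Nat.le_of_dvd (relIndex_pos' _ _) (relIndex_dvd_of_le_left V ?_)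
    rintro x ⟨hx, hxV⟩
    exact hfix b hbK x hxV (hbZ x hx.1).symm
  have htu : t = p ^ n ∧ u = p ^ n := ⟨by nlinarith, by nlinarith⟩
  have hRQc : Nat.card Q ≤ Nat.card R := by
    rw [hQc, htu.1]; exact (Nat.mul_le_mul_left _ hv).trans hRge
  have hYQc : Nat.card ZQ ≤ Nat.card Y := by rw [hZQc, htu.2]; exact hYge
  have hRcard : Nat.card R = Nat.card Q := by
    refine le_antisymm (Nat.le_of_mul_le_mul_right ?_ (Nat.card_pos (α := ZQ))) hRQc
    exact (Nat.mul_le_mul_left _ hYQc).trans hmeas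
  have hCLR : IsCentrallyLarge R := hlarge (Nat.mul_le_mul hRQc hYQc)
  have hR : IsMinimalCentrallyLarge R := by
    obtain ⟨R', hR'R, hR'⟩ := Amalgam.exists_isMinimalCentrallyLarge_le hCLR
    have := eq_of_le_of_card_ge hR'R
      (hRcard.le.trans (Amalgam.card_eq_of_minimalCentrallyLarge hQ hR').1.le)
    exact this ▸ hR'
  refine ⟨R, hR, sup_le inf_le_right hVK, ⟨b, hbZ, hbK⟩, fun hmax => ?_⟩
  set Ω := omegaOneCenter p Q with hΩdef
  set Ω' := (Ω ⊓ K) ⊔ W with hΩ'def
  have hΩZ : Ω ≤ ZQ := fun x hx => (mem_omegaOneCenter.1 hx).1.2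
  have hΩ'le : Ω' ≤ omegaOneCenter p R := by
    refine sup_le (fun x hx => ?_) (fun x hx => ?_)
    · exact mem_omegaOneCenter.2 ⟨hYR (mem_sup_left (T := V) ⟨hΩZ hx.1, hx.2⟩), (mem_omegaOneCenter.1 hx.1).2⟩
    · exact mem_omegaOneCenter.2 ⟨hYR (mem_sup_right (S := PZ) (hWV hx)),
        Subtype.ext (hWe₀ x hx)⟩
  have hwq : p ^ n ≤ (Ω ⊓ K).relIndex W := by
    refine hWidx.trans ?_
    rw [← inf_relIndex_right (Ω ⊓ K) W]
    refine Nat.le_of_dvd (relIndex_pos' _ _) (relIndex_dvd_of_le_left W ?_)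
    rintro x ⟨hx, hxW⟩
    exact hfix b₀ hb₀K x (hWV hxW) (hΩZ hx.1 b₀ hb₀Q)
  have h1 : Nat.card (↥(Ω ⊓ K)) * p ^ n ≤ Nat.card Ω' := by
    rw [card_eq_mul (show Ω ⊓ K ≤ Ω' from le_sup_left)]
    exact Nat.mul_le_mul_left _ (hwq.trans (relIndex_le_of_le' le_sup_right))
  have hu'le : (Ω ⊓ K).relIndex Ω ≤ p ^ n := by
    rw [inf_relIndex_left]; exact h.relIndex_subgroupOf_ker_le Ω
  have hΩc : Nat.card Ω = Nat.card (↥(Ω ⊓ K)) * (Ω ⊓ K).relIndex Ω := card_eq_mul inf_le_left
  have hu' : (Ω ⊓ K).relIndex Ω = p ^ n := by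
    refine le_antisymm hu'le (Nat.le_of_mul_le_mul_left ?_ (Nat.card_pos (α := ↥(Ω ⊓ K))))
    rw [← hΩc]
    exact h1.trans ((card_le_of_le hΩ'le).trans (hmax R hR))
  refine ⟨le_antisymm (hmax R hR) ?_, ?_⟩
  · rw [hΩc, hu']
    exact h1.trans (card_le_of_le hΩ'le)
  have hΩK : Ω ⊔ K = ⊤ := by
    have h2 := relIndex_mul_relIndex K (Ω ⊔ K) ⊤ le_sup_right le_top
    rw [relIndex_top_right, relIndex_top_right, h.subgroupOf_ker_index, relIndex_sup_right,
      ← inf_relIndex_left Ω K, hu'] at h2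
    exact index_eq_one.1 ((Nat.mul_eq_left hq.ne').1 h2)
  have hVW : V ≤ center ↥(S : Subgroup G) ⊔ W := by
    have h2 := relIndex_mul_relIndex (center ↥(S : Subgroup G)) (center ↥(S : Subgroup G) ⊔ W) V
      le_sup_left (sup_le hZV hWV)
    have h3 := hWidx.trans (relIndex_le_of_le' (le_sup_right (a := center ↥(S : Subgroup G))))
    have h4 := relIndex_pos' (center ↥(S : Subgroup G) ⊔ W) V
    rw [hidx] at h2
    exact relIndex_eq_one.1 (by nlinarith)
  have hpR : IsPGroup p R := S.isPGroup'.to_subgroup R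
  have hpQ : IsPGroup p Q := S.isPGroup'.to_subgroup Q
  obtain ⟨hcR, hpowR⟩ := le_frattini_map hpR
  obtain ⟨hcQ, hpowQ⟩ := le_frattini_map hpQ
  refine le_antisymm (frattini_map_le (p := p) ?_ fun r hr => ?_) (frattini_map_le (p := p) ?_ fun x hx => ?_)
  · refine le_trans ?_ hcQ
    rw [Amalgam.commutator_eq_inf hR hQ]
    exact commutator_mono inf_le_right inf_le_right
  · haveI : V.Normal := inferInstance
    obtain ⟨k, hk, v, hv, rfl⟩ := mem_sup_of_normal_right.1 hr
    obtain ⟨c, hc, w, hw, rfl⟩ := mem_sup_of_normal_left.1 (hVW hv)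
    have hcQ' : c ∈ Q := hCQ (fun y _ => mem_center_iff.1 hc y)
    have hcomm : Commute (k * c) w :=
      (show Commute k w from (hPV hk w (hWV hw)).symm).mul_left (mem_center_iff.1 hc w).symm
    rw [← mul_assoc, hcomm.mul_pow, show w ^ p = 1 from Subtype.ext (hWe₀ w hw), mul_one]
    exact hpowQ _ (mul_mem hk.1 hcQ')
  · refine le_trans ?_ hcR
    rw [Amalgam.commutator_eq_inf hQ hR]
    exact commutator_mono inf_le_right inf_le_right
  · haveI : K.Normal := inferInstance
    obtain ⟨z, hz, k, hk, rfl⟩ := mem_sup_of_normal_right.1 (hΩK ▸ mem_top x : x ∈ Ω ⊔ K)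
    have hzQ : z ∈ Q := (mem_omegaOneCenter.1 hz).1.1
    have hkQ : k ∈ Q := by simpa using mul_mem (inv_mem hzQ) hx
    rw [(show Commute z k from (hΩZ hz k hkQ).symm).mul_pow, (mem_omegaOneCenter.1 hz).2, one_mul]
    exact hpowR _ (mem_sup_left (T := V) (show k ∈ P from ⟨hkQ, hk⟩))

/-- Subgroups of `O_p(G)` have their conjugates inside `S`. -/
theorem exists_conj_subgroup (R : Subgroup ↥(S : Subgroup G))
    (hR : R ≤ φ.ker.subgroupOf (S : Subgroup G)) (g : G) :
    ∃ R' : Subgroup ↥(S : Subgroup G), R' ≤ φ.ker.subgroupOf (S : Subgroup G) ∧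
      R.map ((MulAut.conj g).toMonoidHom.comp (S : Subgroup G).subtype) =
        R'.map (S : Subgroup G).subtype := by
  haveI := Cfsg.pCore_normal p G
  have hle : R.map ((MulAut.conj g).toMonoidHom.comp (S : Subgroup G).subtype) ≤ Cfsg.pCore p G := by
    rintro _ ⟨x, hx, rfl⟩
    exact (Cfsg.pCore_normal p G).conj_mem _ (h.pCore_eq.ge ⟨x.2, hR hx⟩) g
  exact ⟨_, fun x hx => h.pCore_le_ker (hle hx),
    (map_subgroupOf_eq_of_le (hle.trans h.pCore_le)).symm⟩

/-- A join of a conjugation invariant family of subgroups is normal. -/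
theorem iSup_map_normal (P : Subgroup ↥(S : Subgroup G) → Prop)
    (f : Subgroup ↥(S : Subgroup G) → Subgroup ↥(S : Subgroup G))
    (hP : ∀ R, P R → R ≤ φ.ker.subgroupOf (S : Subgroup G))
    (hinv : ∀ R R' (g : G), P R → R.map ((MulAut.conj g).toMonoidHom.comp (S : Subgroup G).subtype) =
      R'.map (S : Subgroup G).subtype → P R' ∧
      (f R).map ((MulAut.conj g).toMonoidHom.comp (S : Subgroup G).subtype) =
        (f R').map (S : Subgroup G).subtype) :
    ((⨆ R : {R // P R}, f R).map (S : Subgroup G).subtype).Normal := by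
  suffices key : ∀ g : G, ((⨆ R : {R // P R}, f R).map (S : Subgroup G).subtype).map
      (MulAut.conj g).toMonoidHom ≤ (⨆ R : {R // P R}, f R).map (S : Subgroup G).subtype from
    ⟨fun x hx g => key g ⟨x, hx, rfl⟩⟩
  intro g
  rw [map_map, Subgroup.map_iSup]
  refine iSup_le fun R => ?_
  obtain ⟨R', -, hR'⟩ := h.exists_conj_subgroup R (hP _ R.2) g
  obtain ⟨hPR', hf⟩ := hinv _ _ g R.2 hR'
  exact hf.le.trans (map_mono (le_iSup (fun R : {R // P R} => f R) ⟨R', hPR'⟩))

end Sit

end CfsgLib.ClassK.Push
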