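import Cfsg.Agent.Lib.ClassK.PushThree

/-!
The structure of a group that cannot be pushed up: the quotient by `O_p` and the noncentral chief
factors inside `O_p`.
-/

set_option autoImplicit false
set_option linter.style.haveILetI false
set_option linter.unusedSectionVars false

namespace CfsgLib.ClassK.Push

open Subgroup
open scoped MatrixGroups Pointwise commutatorElement

variable {G : Type*} [Group G] [Finite G] {p n : ℕ} [Fact p.Prime] {F : Type*} [Field F] [Fintype F]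
  {S : Sylow p G} {M : Subgroup G} {φ : G →* Matrix.ProjectiveSpecialLinearGroup (Fin 2) F}

theorem iterCommutator_inf_center {V : Subgroup G} :
    Cfsg.iterCommutator (V ⊓ center G) ⊤ 1 = ⊥ := by
  show ⁅V ⊓ center G, (⊤ : Subgroup G)⁆ = ⊥
  rw [commutator_eq_bot_iff_le_centralizer]
  exact fun x hx y _ => mem_center_iff.1 hx.2 y

namespace Sit

/-- The natural sections of `O_p`. -/
theorem pushing_structure (h : Sit (F := F) S M φ n) (hd : NoChar S) :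
    ∃ (V : Subgroup G) (ρ : G →* SL(2, F)), Datum p (S : Subgroup G) (Cfsg.pCore p G) V (p ^ n) ∧
      ρ.ker = Cfsg.pCore p G ∧ Natural ρ V (V ⊓ center G) ∧
      (((∀ x ∈ Cfsg.pResidual p G, ∀ y ∈ Cfsg.pCore p G, ⁅y, x⁆ ∈ V) ∧
          (S : Subgroup G).lowerCentralSeries 2 = ⊥ ∧ (S : Subgroup G).lowerCentralSeries 1 ≠ ⊥ ∧
          (p = 2 → Monoid.exponent ↥(S : Subgroup G) = 4) ∧
          (p ≠ 2 → Monoid.exponent ↥(S : Subgroup G) = p)) ∨
        (∃ Y : Subgroup G, V ≤ Y ∧ (∀ x ∈ Cfsg.pResidual p G, ∀ y ∈ Y, ⁅y, x⁆ ∈ V) ∧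
          Natural ρ (Cfsg.pCore p G) Y ∧ p = 3 ∧ (S : Subgroup G).lowerCentralSeries 3 = ⊥ ∧
          (S : Subgroup G).lowerCentralSeries 2 ≠ ⊥ ∧ Monoid.exponent ↥(S : Subgroup G) = 9)) := by
  obtain ⟨φ', hpre, hU⟩ := h.toPre.exists_normalized
  have h' : Sit (F := F) S M φ' n := ⟨hpre, h.charP⟩
  obtain ⟨V, hD, -⟩ := h'.exists_datum hd
  obtain ⟨ρ, hρ, hn, hQ⟩ := h'.natural_module hU hD
  rcases hD.orbit_cases hd with ⟨γ, hγ⟩ | ⟨A, B, E, g, hM⟩
  · obtain ⟨hLQ, hrest⟩ := h'.caseOne hD hd hγ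
    exact ⟨V, ρ, hD, h'.ker_eq_one hd hU hD hn hQ hLQ, hn, Or.inl ⟨hLQ, hrest⟩⟩
  · have hp3 := h'.p_eq_three hU hD hM hρ hn
    have hVY : V ≤ Cfsg.pCore p G ⊓ centralizer (A : Set G) ⊓ centralizer (B : Set G) :=
      fun v hv => ⟨⟨hD.V_le hv, fun a ha => hD.V_cent hv a (hM.A_le ha)⟩,
        fun b hb => hD.V_cent hv b (hM.B_le hb)⟩
    refine ⟨V, ρ, hD, h'.ker_eq_two hd hU hD hM hn hQ hρ, hn, Or.inr
      ⟨_, hVY, h'.residual_y hD hM,
        (h'.natural_top hU hD hM hρ).1, hp3, (Mid.lcs hD hM hd).1, (Mid.lcs hD hM hd).2,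
        Mid.exponent_nine hD hM hd hp3⟩⟩

/-- Noncentral chief factors inside `O_p` are natural modules. -/
theorem chief_natural (h : Sit (F := F) S M φ n) (hd : NoChar S) {U W : Subgroup G} [W.Normal]
    (hU : U ≤ Cfsg.pCore p G) (hUW : Cfsg.IsChiefFactor U W) (hnc : ¬ ⁅U, (⊤ : Subgroup G)⁆ ≤ W) :
    Cfsg.IsNaturalSL2Module F (U.map (QuotientGroup.mk' W)) (⊤ : Subgroup (G ⧸ W)) := by
  obtain ⟨V, ρ, hD, hker, hn, hcase⟩ := h.pushing_structure hd
  haveI := hD.V_normal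
  haveI := hD.Q_normal
  have hWρ : W ≤ ρ.ker := (hUW.1.le.trans hU).trans hker.ge
  have hC : U ⊓ (V ⊓ center G) ≤ W :=
    inf_le_of_hyper hUW hnc iterCommutator_inf_center.le (by simp)
  by_cases hV : U ⊓ V ≤ W
  swap
  · exact hn.isNatural_of_chief hUW hWρ hC hV
  have hQ : ¬ U ⊓ Cfsg.pCore p G ≤ W := fun hle =>
    hUW.1.not_ge ((le_inf le_rfl hU).trans hle)
  rcases hcase with ⟨hLQ, -⟩ | ⟨Y, hVY, hLY, hnY, -⟩
  · obtain ⟨k, hk⟩ := exists_iterCommutator_le S hD.Q_le hLQ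
    exact absurd (inf_le_of_hyper hUW hnc hk hV) hQ
  · haveI := hnY.N_normal
    obtain ⟨k, hk⟩ := exists_iterCommutator_le S (hnY.le.trans hD.Q_le) hLY
    exact hnY.isNatural_of_chief hUW hWρ (inf_le_of_hyper hUW hnc hk hV) hQ

end Sit

end CfsgLib.ClassK.Push
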