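import Cfsg.Prelude.Def_CaseTheorems
import Mathlib.GroupTheory.Index

set_option autoImplicit false

namespace CfsgLib.ClassK

variable {G : Type*} [Group G] [Finite G] {p : ℕ}

omit [Finite G] in
theorem card_sup_dvd_mul (N H : Subgroup G) [N.Normal] :
    Nat.card ↥(N ⊔ H) ∣ Nat.card N * Nat.card H := by
  have h1 : Nat.card ↥(N ⊔ H) = Nat.card N * N.relIndex (H ⊔ N) := by
    rw [← Subgroup.relIndex_bot_left, ← Subgroup.relIndex_bot_left,
      Subgroup.relIndex_mul_relIndex ⊥ N (H ⊔ N) bot_le le_sup_right, sup_comm]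
  rw [h1, Subgroup.relIndex_sup_right]
  exact mul_dvd_mul_left _ (Subgroup.relIndex_dvd_card _ _)

theorem coprime_card_pPrimeCore : (Nat.card ↥(Cfsg.pPrimeCore p G)).Coprime p := by
  obtain ⟨N, ⟨hN, hNp⟩, hmax⟩ := Set.Finite.exists_maximalFor (fun N : Subgroup G => N)
    {N : Subgroup G | N.Normal ∧ (Nat.card N).Coprime p} (Set.toFinite _)
    ⟨⊥, inferInstance, by simp⟩
  have h : Cfsg.pPrimeCore p G = N := by
    refine le_antisymm (sSup_le fun M hM => ?_) (le_sSup ⟨hN, hNp⟩)
    obtain ⟨hMn, hMp⟩ := hM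
    have := hmax (j := N ⊔ M) ⟨Subgroup.sup_normal N M,
      Nat.Coprime.coprime_dvd_left (card_sup_dvd_mul N M) (Nat.Coprime.mul_left hNp hMp)⟩ le_sup_left
    exact le_sup_right.trans this
  rw [h]; exact hNp

omit [Finite G] in
theorem le_pPrimeCore {N : Subgroup G} (h : N.Normal) (hp : (Nat.card N).Coprime p) :
    N ≤ Cfsg.pPrimeCore p G := le_sSup ⟨h, hp⟩

omit [Finite G] in
theorem normalizer_le_normalizer_map (K : Subgroup G) (C : Subgroup ↥K) [C.Characteristic] :
    Subgroup.normalizer (K : Set G) ≤ Subgroup.normalizer ((C.map K.subtype : Subgroup G) : Set G) := by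
  intro m hm
  rw [Subgroup.mem_normalizer_iff] at hm
  have key : ∀ m : G, (∀ h, h ∈ K ↔ m * h * m⁻¹ ∈ K) → ∀ h ∈ C.map K.subtype,
      m * h * m⁻¹ ∈ C.map K.subtype := by
    intro m hm h hh
    obtain ⟨c, hc, rfl⟩ := hh
    let φ : ↥K ≃* ↥K :=
      ((MulAut.conj m).subgroupMap K).trans (MulEquiv.subgroupCongr (by
        ext x
        constructor
        · rintro ⟨y, hy, rfl⟩
          exact (hm y).mp hy
        · intro hx
          exact ⟨m⁻¹ * x * m, by rw [SetLike.mem_coe, hm]; simpa [mul_assoc] using hx,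
            by simp [mul_assoc]⟩))
    refine ⟨φ c, ?_, rfl⟩
    rw [← (‹C.Characteristic›.fixed φ)] at hc
    exact hc
  rw [Subgroup.mem_normalizer_iff]
  refine fun h => ⟨key m hm h, fun h' => ?_⟩
  have := key m⁻¹ (fun x => by
    have := (hm (m⁻¹ * x * m)).symm
    simpa [mul_assoc] using this) _ h'
  simpa [mul_assoc] using this

theorem pPrimeCore_characteristic : (Cfsg.pPrimeCore p G).Characteristic := by
  rw [Subgroup.characteristic_iff_map_le]
  intro φ
  have : (Cfsg.pPrimeCore p G).Normal := Cfsg.pPrimeCore_normal p G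
  refine le_pPrimeCore (this.map _ φ.surjective) ?_
  rw [Subgroup.card_map_of_injective φ.injective]
  exact coprime_card_pPrimeCore

theorem le_pPrimeCore_of_isSubnormal {H : Subgroup G} (hH : H.IsSubnormal)
    (hp : (Nat.card H).Coprime p) : H ≤ Cfsg.pPrimeCore p G := by
  suffices key : ∀ K : Subgroup G, K.IsSubnormal → ∀ L : Subgroup G, L ≤ K →
      (L.subgroupOf K).Normal → (Nat.card L).Coprime p → L ≤ Cfsg.pPrimeCore p G by
    cases hH with
    | top => exact key ⊤ .top ⊤ le_rfl inferInstance hp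
    | step H K hle hK hN => exact key K hK H hle hN hp
  intro K hK
  induction hK with
  | top =>
    intro L _ hN hL
    refine le_pPrimeCore ⟨fun n hn g => ?_⟩ hL
    exact Subgroup.mem_subgroupOf.mp
      (hN.conj_mem ⟨n, trivial⟩ (Subgroup.mem_subgroupOf.mpr hn) ⟨g, trivial⟩)
  | step K M hKM _ hKn ih =>
    intro L hL hN hLp
    have hC : (Cfsg.pPrimeCore p ↥K).Characteristic := pPrimeCore_characteristic
    have hle : L ≤ (Cfsg.pPrimeCore p ↥K).map K.subtype := by
      rw [← Subgroup.map_subgroupOf_eq_of_le hL]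
      refine Subgroup.map_mono (le_pPrimeCore hN ?_)
      rwa [Nat.card_congr (Subgroup.subgroupOfEquivOfLe hL).toEquiv]
    refine hle.trans (ih _ ((Subgroup.map_subtype_le _).trans hKM) ?_ ?_)
    · rw [Subgroup.normal_subgroupOf_iff_le_normalizer ((Subgroup.map_subtype_le _).trans hKM)]
      rw [Subgroup.normal_subgroupOf_iff_le_normalizer hKM] at hKn
      exact hKn.trans (normalizer_le_normalizer_map K _)
    · rw [Subgroup.card_map_of_injective K.subtype_injective]
      exact coprime_card_pPrimeCore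

theorem isPGroup_of_pPrimeCore_eq_bot [hp : Fact p.Prime] (hO : Cfsg.pPrimeCore p G = ⊥)
    {Z : Subgroup G} (hZ : Z.IsSubnormal) (hc : IsMulCommutative Z) : IsPGroup p Z := by
  intro z
  obtain ⟨k, m, hm, hkm⟩ :=
    Nat.exists_eq_pow_mul_and_not_dvd (Nat.card_pos (α := ↥(Subgroup.zpowers z))).ne' p hp.out.ne_one
  refine ⟨k, ?_⟩
  rw [Nat.card_zpowers] at hkm
  have : Subgroup.zpowers (z ^ p ^ k) = ⊥ := by
    have hord : orderOf (z ^ p ^ k) = m := by
      rw [orderOf_pow, hkm, Nat.gcd_mul_right_left, Nat.mul_div_cancel_left _ (pow_pos hp.out.pos k)]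
    have hsn : ((Subgroup.zpowers (z ^ p ^ k)).map Z.subtype).IsSubnormal := by
      refine Subgroup.IsSubnormal.trans' (Subgroup.Normal.isSubnormal ⟨fun n hn g => ?_⟩) hZ
      rw [mul_comm' g n, mul_inv_cancel_right]; exact hn
    have := le_pPrimeCore_of_isSubnormal (p := p) hsn (by
      rw [Subgroup.card_map_of_injective Z.subtype_injective, Nat.card_zpowers, hord]
      exact ((hp.out.coprime_iff_not_dvd).2 hm).symm)
    rw [hO, le_bot_iff, Subgroup.map_eq_bot_iff_of_injective _ Z.subtype_injective] at this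
    exact this
  exact Subgroup.zpowers_eq_bot.mp this

end CfsgLib.ClassK
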