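import Mathlib.RingTheory.Polynomial.Cyclotomic.Eval
import Mathlib.RingTheory.Polynomial.Cyclotomic.Expand
import Mathlib.Tactic

/-!
Zsigmondy's theorem for `a ^ n - 1`, and the primitive prime powers used for `SL₂`-modules.
-/

set_option autoImplicit false
set_option linter.style.haveILetI false

namespace CfsgLib.ClassK

open Polynomial

variable {a n r : ℕ}

/-- `Φ_n(a)` as an integer. -/
private noncomputable abbrev phi (n a : ℕ) : ℤ := (cyclotomic n ℤ).eval (a : ℤ)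

private theorem dvd_phi_iff [Fact r.Prime] :
    (r : ℤ) ∣ phi n a ↔ (cyclotomic n (ZMod r)).IsRoot (a : ZMod r) := by
  rw [← ZMod.intCast_zmod_eq_zero_iff_dvd, Polynomial.IsRoot.def,
    ← Polynomial.map_cyclotomic n (Int.castRingHom (ZMod r)),
    show (a : ZMod r) = Int.castRingHom (ZMod r) (a : ℤ) by simp, Polynomial.eval_map_apply]
  simp

private theorem phi_dvd_pow_sub_one (n a : ℕ) : phi n a ∣ (a : ℤ) ^ n - 1 := by
  have := eval_dvd (x := (a : ℤ)) (cyclotomic.dvd_X_pow_sub_one n ℤ)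
  simpa using this

/-- A prime divisor of `Φ_n(a)` not dividing `n` is primitive. -/
private theorem primitive_of_not_dvd (hr : r.Prime) (hd : (r : ℤ) ∣ phi n a) (hn : ¬ r ∣ n) :
    r ∣ a ^ n - 1 ∧ ∀ k : ℕ, 0 < k → k < n → ¬ r ∣ a ^ k - 1 := by
  haveI : Fact r.Prime := ⟨hr⟩
  haveI : NeZero (n : ZMod r) := ⟨fun h => hn ((ZMod.natCast_eq_zero_iff _ _).1 h)⟩
  have hroot := isRoot_cyclotomic_iff.1 (dvd_phi_iff.1 hd)
  have hn0 : 0 < n := Nat.pos_of_ne_zero fun h => hn (h ▸ dvd_zero r)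
  have h0 : (a : ZMod r) ≠ 0 := hroot.ne_zero hn0.ne'
  have key : ∀ k, r ∣ a ^ k - 1 ↔ (a : ZMod r) ^ k = 1 := by
    intro k
    rw [← ZMod.natCast_eq_zero_iff, Nat.cast_sub, Nat.cast_pow, Nat.cast_one, sub_eq_zero]
    exact Nat.one_le_pow _ _ (Nat.pos_of_ne_zero fun h => h0 (by simp [h]))
  refine ⟨(key n).2 hroot.pow_eq_one, fun k hk hkn h => ?_⟩
  exact hroot.pow_ne_one_of_pos_of_lt hk.ne' hkn ((key k).1 h)

/-- A prime divisor of `Φ_n(a)` dividing `n` is the largest prime divisor of `n`. -/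
private theorem le_of_dvd_phi (hr : r.Prime) (hd : (r : ℤ) ∣ phi n a) (hn : r ∣ n) (hn0 : 0 < n)
    {s : ℕ} (hs : s.Prime) (hsn : s ∣ n) : s ≤ r := by
  haveI : Fact r.Prime := ⟨hr⟩
  obtain ⟨k, m, hm, rfl⟩ := Nat.exists_eq_pow_mul_and_not_dvd hn0.ne' r hr.ne_one
  haveI : NeZero (m : ZMod r) := ⟨fun h => hm ((ZMod.natCast_eq_zero_iff _ _).1 h)⟩
  have hroot := isRoot_cyclotomic_prime_pow_mul_iff_of_charP.1 (dvd_phi_iff.1 hd)
  rcases (Nat.Prime.dvd_mul hs).1 hsn with h | h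
  · exact (Nat.prime_dvd_prime_iff_eq hs hr).1 (hs.dvd_of_dvd_pow h) |>.le
  · have hm0 : m ≠ 0 := fun h0 => hm (h0 ▸ dvd_zero r)
    have h1 : m ∣ r - 1 :=
      hroot.dvd_of_pow_eq_one _ (ZMod.pow_card_sub_one_eq_one (hroot.ne_zero hm0))
    have := Nat.le_of_dvd (by have := hr.two_le; omega) (h.trans h1)
    omega

/-- For `n > 2` a prime dividing `n` and `Φ_n(a)` divides the latter once only. -/
private theorem not_sq_dvd_phi (hr : r.Prime) (hd : (r : ℤ) ∣ phi n a) (hrn : r ∣ n) (hn : 2 < n) :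
    ¬ (r : ℤ) ^ 2 ∣ phi n a := by
  intro h2
  haveI : Fact r.Prime := ⟨hr⟩
  obtain ⟨d, rfl⟩ := hrn
  have hd0 : 0 < d := Nat.pos_of_ne_zero (by rintro rfl; simp at hn)
  have hdp : d ∈ (r * d).properDivisors :=
    Nat.mem_properDivisors.2 ⟨dvd_mul_left d r, by nlinarith [hr.two_le]⟩
  set b : ℤ := (a : ℤ) ^ d
  -- `Φ_n(a)` divides the geometric sum
  have hgeom : phi (r * d) a ∣ ∑ i ∈ Finset.range r, b ^ i := by
    have hne : (X ^ d - 1 : ℤ[X]) ≠ 0 := (monic_X_pow_sub_C 1 hd0.ne').ne_zero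
    have hdiv := X_pow_sub_one_mul_cyclotomic_dvd_X_pow_sub_one_of_dvd ℤ hdp
    have hsum : (X ^ (r * d) - 1 : ℤ[X]) = (X ^ d - 1) * ∑ i ∈ Finset.range r, (X ^ d) ^ i := by
      rw [mul_geom_sum, ← pow_mul, mul_comm r d]
    rw [hsum, mul_dvd_mul_iff_left hne] at hdiv
    have := eval_dvd (x := (a : ℤ)) hdiv
    simpa [phi, b, eval_finsetSum, ← pow_mul] using this
  have hb1 : (r : ℤ) ∣ b - 1 := by
    have h1 : (r : ℤ) ∣ (a : ℤ) ^ (r * d) - 1 := hd.trans (phi_dvd_pow_sub_one _ _)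
    rw [← ZMod.intCast_zmod_eq_zero_iff_dvd] at h1 ⊢
    push_cast [b] at h1 ⊢
    rw [mul_comm, pow_mul, ZMod.pow_card] at h1
    exact h1
  have hsq : (r : ℤ) ^ 2 ∣ ∑ i ∈ Finset.range r, b ^ i := h2.trans hgeom
  obtain ⟨t, ht⟩ := hb1
  have hbt : b = 1 + r * t := by linarith
  -- `∑ bⁱ ≡ r + t r² (r-1)/2`
  have hmod : ∀ i : ℕ, (r : ℤ) ^ 2 ∣ b ^ i - (1 + i * (r * t)) := by
    intro i
    induction i with
    | zero => simp
    | succ i ih =>
      have e : b ^ (i + 1) - (1 + ((i + 1 : ℕ) : ℤ) * (r * t)) =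
          (b ^ i - (1 + i * (r * t))) * b + (r : ℤ) ^ 2 * (i * t ^ 2) := by
        push_cast; rw [pow_succ, hbt]; ring
      rw [e]
      exact dvd_add (dvd_mul_of_dvd_left ih _) (dvd_mul_right _ _)
  have hs2 : ∀ m : ℕ, 2 * ∑ i ∈ Finset.range m, (i : ℤ) = (m : ℤ) * ((m : ℤ) - 1) := by
    intro m
    induction m with
    | zero => simp
    | succ m ih => rw [Finset.sum_range_succ, mul_add, ih]; push_cast; ring
  have hlin : (r : ℤ) ^ 2 ∣ (r : ℤ) + (∑ i ∈ Finset.range r, (i : ℤ)) * (r * t) := by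
    have h := dvd_sub hsq (Finset.dvd_sum fun i (_ : i ∈ Finset.range r) => hmod i)
    rw [← Finset.sum_sub_distrib] at h
    simpa [Finset.sum_add_distrib, ← Finset.sum_mul] using h
  rcases hr.eq_two_or_odd with rfl | hodd
  · -- `r = 2`: then `b` is an odd square
    have hd2 : 2 ∣ d := by
      by_contra hc
      have hd1 : d ≠ 1 := by omega
      have h3 := le_of_dvd_phi hr hd (dvd_mul_right 2 d) (by omega) (Nat.minFac_prime hd1)
        ((Nat.minFac_dvd d).trans (dvd_mul_left d 2))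
      have h2' := (Nat.minFac_prime hd1).two_le
      exact hc ((show d.minFac = 2 by omega) ▸ Nat.minFac_dvd d)
    obtain ⟨c, rfl⟩ := hd2
    simp [Finset.sum_range_succ] at hlin
    have hb : b = ((a : ℤ) ^ c) ^ 2 := by rw [← pow_mul, mul_comm c 2]
    rcases Int.even_or_odd ((a : ℤ) ^ c) with ⟨u, hu⟩ | ⟨u, hu⟩ <;> rw [hu, hbt] at hb <;>
      push_cast at hb <;> ring_nf at hb <;> omega
  · obtain ⟨j, hj⟩ : ∃ j, r = 2 * j + 1 := ⟨r / 2, by omega⟩
    have h4 : ∑ i ∈ Finset.range r, (i : ℤ) = (r : ℤ) * j := by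
      have := hs2 r
      have hj' : (r : ℤ) = 2 * j + 1 := by exact_mod_cast hj
      rw [hj'] at this ⊢
      linarith
    rw [h4, show (r : ℤ) * j * (r * t) = (r : ℤ) ^ 2 * (j * t) by ring,
      dvd_add_left (dvd_mul_right _ _)] at hlin
    have := Int.le_of_dvd (by exact_mod_cast hr.pos) hlin
    have h2' : (2 : ℤ) ≤ r := by exact_mod_cast hr.two_le
    nlinarith

private theorem natAbs_phi_expand {r m a : ℕ} (hr : r.Prime) (h : r ∣ m) :
    phi (m * r) a = phi m (a ^ r) := by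
  rw [phi, ← cyclotomic_expand_eq_cyclotomic hr h, expand_eval]
  rfl

private theorem natAbs_phi_expand_mul {r m a : ℕ} (hr : r.Prime) (h : ¬ r ∣ m) :
    phi (m * r) a * phi m a = phi m (a ^ r) := by
  rw [phi, phi, ← eval_mul, ← cyclotomic_expand_eq_cyclotomic_mul hr h, expand_eval]
  rfl

private theorem add_two_le_two_pow {r : ℕ} (h : 2 ≤ r) : r + 2 ≤ 2 ^ r := by
  induction r, h using Nat.le_induction with
  | base => norm_num
  | succ r _ ih => rw [pow_succ]; omega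

/-- **Zsigmondy's theorem.** -/
theorem zsigmondy {a n : ℕ} (ha : 1 < a) (hn : 1 < n) (h6 : ¬ (a = 2 ∧ n = 6))
    (h2 : ¬ (n = 2 ∧ ∃ m : ℕ, a + 1 = 2 ^ m)) :
    ∃ r : ℕ, r.Prime ∧ r ∣ a ^ n - 1 ∧ ∀ k : ℕ, 0 < k → k < n → ¬ r ∣ a ^ k - 1 := by
  by_contra hcon
  set N := (phi n a).natAbs with hN
  have hlow : (a - 1) ^ n.totient < N := sub_one_pow_totient_lt_natAbs_cyclotomic_eval hn (by omega)
  have hdvd : ∀ r : ℕ, r.Prime → r ∣ N → r ∣ n ∧ (r : ℤ) ∣ phi n a := by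
    intro r hr h
    have h' : (r : ℤ) ∣ phi n a := Int.natCast_dvd.2 h
    refine ⟨?_, h'⟩
    by_contra hrn
    exact hcon ⟨r, hr, primitive_of_not_dvd hr h' hrn⟩
  have hN1 : N ≠ 1 := by
    have : 1 ≤ (a - 1) ^ n.totient := Nat.one_le_pow _ _ (by omega)
    omega
  obtain ⟨r, hr, hrN⟩ := Nat.exists_prime_and_dvd hN1
  obtain ⟨hrn, hrd⟩ := hdvd r hr hrN
  have huniq : ∀ s : ℕ, s.Prime → s ∣ N → s = r := fun s hs h =>
    le_antisymm (le_of_dvd_phi hr hrd hrn (by omega) hs (hdvd s hs h).1)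
      (le_of_dvd_phi hs (hdvd s hs h).2 (hdvd s hs h).1 (by omega) hr hrn)
  have hpow : N = r ^ N.primeFactorsList.length :=
    Nat.eq_prime_pow_of_unique_prime_dvd (by omega) fun {d} hd hdN => huniq d hd hdN
  rcases (show n = 2 ∨ 2 < n by omega) with rfl | hn2
  · -- `a + 1` is a power of two
    have hr2 : r = 2 := (Nat.prime_dvd_prime_iff_eq hr Nat.prime_two).1 hrn
    refine h2 ⟨rfl, N.primeFactorsList.length, ?_⟩
    rw [← hr2, ← hpow, hN, phi, cyclotomic_two]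
    simp only [eval_add, eval_X, eval_one]
    omega
  have hNr : N = r := by
    rcases hL : N.primeFactorsList.length with _ | _ | k
    · rw [hL, pow_zero] at hpow; omega
    · rw [hpow, hL, zero_add, pow_one]
    · exfalso
      refine not_sq_dvd_phi hr hrd hrn hn2 ?_
      rw [← Nat.cast_pow, Int.natCast_dvd, ← hN, hpow, hL]
      exact pow_dvd_pow r (by omega)
  obtain ⟨d, rfl⟩ := hrn
  have hd0 : 0 < d := Nat.pos_of_ne_zero (by rintro rfl; simp at hn)
  have htr : r.totient ≤ (r * d).totient :=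
    Nat.le_of_dvd (Nat.totient_pos.2 (by omega)) (Nat.totient_dvd_of_dvd (dvd_mul_right r d))
  rw [Nat.totient_prime hr] at htr
  have hr2 := hr.two_le
  -- `a = 2`
  obtain rfl : a = 2 := by
    by_contra ha2
    have h1 : 2 ^ (r - 1) ≤ (a - 1) ^ (r * d).totient :=
      (Nat.pow_le_pow_left (show 2 ≤ a - 1 by omega) _).trans
        (Nat.pow_le_pow_right (by omega) htr)
    have h3 : r - 1 < 2 ^ (r - 1) := Nat.lt_two_pow_self
    omega
  have hodd : ¬ 2 ∣ N := fun h => by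
    have h1 : (2 : ℤ) ∣ (2 : ℤ) ^ (r * d) - 1 :=
      (Int.natCast_dvd.2 h).trans (by simpa using phi_dvd_pow_sub_one (r * d) 2)
    have h3 := dvd_sub (dvd_pow_self (2 : ℤ) (show r * d ≠ 0 by omega)) h1
    norm_num at h3
  have hrodd : r ≠ 2 := fun h => hodd (h ▸ hrN)
  have h2r : r + 2 ≤ 2 ^ r := add_two_le_two_pow hr2
  by_cases hrd' : r ∣ d
  · have e := natAbs_phi_expand (a := 2) hr hrd'
    rw [mul_comm d r] at e
    have h1 := sub_one_pow_totient_lt_natAbs_cyclotomic_eval (n := d) (q := 2 ^ r)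
      (lt_of_lt_of_le (by omega) (Nat.le_of_dvd hd0 hrd')) (by omega)
    have h3 : (2 ^ r - 1) ^ d.totient ≥ 2 ^ r - 1 := Nat.le_self_pow (Nat.totient_pos.2 hd0).ne' _
    rw [hN, e] at hNr
    simp only [phi] at hNr
    omega
  · have e := natAbs_phi_expand_mul (a := 2) hr hrd'
    rw [mul_comm d r] at e
    have e' : N * (phi d 2).natAbs = (phi d (2 ^ r)).natAbs := by rw [hN, ← Int.natAbs_mul, e]
    rw [hNr] at e'
    -- `d` divides `r - 1`
    have hdr : d ∣ r - 1 := by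
      haveI : Fact r.Prime := ⟨hr⟩
      haveI : NeZero (d : ZMod r) := ⟨fun h => hrd' ((ZMod.natCast_eq_zero_iff _ _).1 h)⟩
      have hroot := (isRoot_cyclotomic_prime_pow_mul_iff_of_charP (k := 1)).1
        (by rw [pow_one]; exact dvd_phi_iff.1 hrd)
      exact hroot.dvd_of_pow_eq_one _ (ZMod.pow_card_sub_one_eq_one (hroot.ne_zero hd0.ne'))
    have hup : (phi d 2).natAbs ≤ 2 ^ d - 1 := by
      have h1 := Int.natAbs_dvd_natAbs.2 (phi_dvd_pow_sub_one d 2)
      have h3 : ((((2 : ℕ) : ℤ)) ^ d - 1).natAbs = 2 ^ d - 1 := by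
        rw [← Nat.cast_pow, show ((1 : ℤ)) = ((1 : ℕ) : ℤ) from rfl,
          ← Nat.cast_sub Nat.one_le_two_pow, Int.natAbs_natCast]
      rw [h3] at h1
      exact Nat.le_of_dvd (by have : 1 < 2 ^ d := Nat.one_lt_two_pow hd0.ne'; omega) h1
    have hlow' : (2 ^ r - 1) ^ d.totient ≤ (phi d (2 ^ r)).natAbs := by
      rcases (show d = 1 ∨ 1 < d by omega) with rfl | h
      · simp only [Nat.totient_one, pow_one, phi, cyclotomic_one, eval_sub, eval_X, eval_one]
        omega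
      · exact (sub_one_pow_totient_lt_natAbs_cyclotomic_eval h (by omega)).le
    have hle : (2 ^ r - 1) ^ d.totient ≤ r * (2 ^ d - 1) :=
      hlow'.trans (e' ▸ Nat.mul_le_mul_left r hup)
    have hd_le : d ≤ r - 1 := Nat.le_of_dvd (by omega) hdr
    rcases (show d ≤ 2 ∨ 3 ≤ d by omega) with h | h
    · have hr3 : r = 3 := by
        have h4 : r * (2 ^ d - 1) ≤ r * 3 := Nat.mul_le_mul_left r (by
          rcases (show d = 1 ∨ d = 2 by omega) with rfl | rfl <;> norm_num)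
        have h5 : 2 ^ r - 1 ≤ (2 ^ r - 1) ^ d.totient := Nat.le_self_pow (Nat.totient_pos.2 hd0).ne' _
        by_contra hne
        have : ∀ k, 4 ≤ k → 3 * k + 2 ≤ 2 ^ k := by
          intro k hk
          induction k, hk using Nat.le_induction with
          | base => norm_num
          | succ k _ ih => rw [pow_succ]; omega
        have := this r (by omega)
        omega
      subst hr3
      rcases (show d = 1 ∨ d = 2 by omega) with rfl | rfl
      · norm_num [hN, phi, cyclotomic_prime, Finset.sum_range_succ] at hNr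
      · exact h6 ⟨rfl, rfl⟩
    · have ht2 : 2 ≤ d.totient := by
        obtain ⟨u, hu⟩ := Nat.totient_even (show 2 < d by omega)
        have := Nat.totient_pos.2 hd0
        omega
      have h4 : (2 ^ r - 1) * (2 ^ r - 1) ≤ (2 ^ r - 1) ^ d.totient := by
        rw [← pow_two]; exact Nat.pow_le_pow_right (by omega) ht2
      have h5 : r * (2 ^ d - 1) ≤ r * (2 ^ r - 1) :=
        Nat.mul_le_mul_left r (Nat.sub_le_sub_right (Nat.pow_le_pow_right (by omega) (by omega)) 1)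
      have h6 : r * (2 ^ r - 1) < (2 ^ r - 1) * (2 ^ r - 1) :=
        Nat.mul_lt_mul_of_pos_right (by omega) (by omega)
      omega

/-- A prime power `m` dividing `p ^ n + 1` that divides no `p ^ b - 1` with `0 < b < 2n`. -/
theorem exists_primitive_prime_pow (p n : ℕ) (hp : p.Prime) (hn : 2 ≤ n) :
    ∃ r j : ℕ, r.Prime ∧ r ≠ 2 ∧ r ^ (j + 1) ∣ p ^ n + 1 ∧
      ∀ b : ℕ, 0 < b → r ^ (j + 1) ∣ p ^ b - 1 → 2 * n ≤ b := by
  by_cases h : p = 2 ∧ n = 3
  · obtain ⟨rfl, rfl⟩ := h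
    refine ⟨3, 1, Nat.prime_three, by omega, by norm_num, fun b hb hd => ?_⟩
    by_contra hlt
    interval_cases b <;> norm_num at hd
  obtain ⟨r, hr, hd, hk⟩ := zsigmondy hp.one_lt (show 1 < 2 * n by omega)
    (fun h' => h ⟨h'.1, by omega⟩) (fun h' => by omega)
  have hndn : ¬ r ∣ p ^ n - 1 := hk n (by omega) (by omega)
  have hr2 : r ≠ 2 := by
    rintro rfl
    rcases hp.eq_two_or_odd with rfl | hodd
    · have h1 : 2 ∣ 2 ^ (2 * n) := dvd_pow_self 2 (by omega)
      have h3 := Nat.dvd_sub h1 hd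
      rw [Nat.sub_sub_self Nat.one_le_two_pow] at h3
      omega
    · refine hk 1 (by omega) (by omega) ?_
      rw [pow_one]; omega
  have hdiv : r ∣ p ^ n + 1 := by
    have : p ^ (2 * n) - 1 = (p ^ n + 1) * (p ^ n - 1) := by
      rw [mul_comm 2 n, pow_mul]; exact Nat.sq_sub_sq _ 1 |>.trans (by ring_nf)
    rw [this] at hd
    exact (hr.dvd_mul.1 hd).resolve_right hndn
  refine ⟨r, 0, hr, hr2, by simpa using hdiv, fun b hb hdb => ?_⟩
  by_contra hlt
  exact hk b hb (by omega) (by simpa using hdb)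

end CfsgLib.ClassK
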