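import Mathlib.FieldTheory.ChevalleyWarning
import Mathlib.LinearAlgebra.Matrix.Charpoly.Minpoly
import Mathlib.LinearAlgebra.Matrix.Charpoly.Coeff
import Mathlib.RingTheory.Polynomial.GaussLemma
import Mathlib.RingTheory.Polynomial.UniqueFactorization
import Mathlib.RingTheory.PowerBasis
import Mathlib.RingTheory.Localization.FractionRing
import Mathlib.Algebra.MvPolynomial.NoZeroDivisors
import Mathlib.Tactic.NoncommRing
import Mathlib.RingTheory.Polynomial.RationalRoot

/-!
# An additive spread set over `𝔽₂` closed under `(s, t) ↦ s t s` is a field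
-/

set_option autoImplicit false

namespace CfsgLib.ClassK

open Matrix MvPolynomial

variable {n : ℕ}

local notation "K2" => ZMod 2
local notation "Mat" => Matrix (Fin n) (Fin n) (ZMod 2)
local notation "R2" => MvPolynomial (Fin n) (ZMod 2)
local notation "F2" => FractionRing (MvPolynomial (Fin n) (ZMod 2))

/-- The generic element of the span of `e`. -/
noncomputable def genericElt (e : Fin n → Mat) : Matrix (Fin n) (Fin n) R2 :=
  ∑ i, (MvPolynomial.X i : R2) • (e i).map MvPolynomial.C

theorem genericElt_map_eval (e : Fin n → Mat) (c : Fin n → K2) :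
    (genericElt e).map (MvPolynomial.eval c) = ∑ i, c i • e i := by
  ext a b
  simp [genericElt, Matrix.sum_apply]

theorem totalDegree_det_genericElt_le (e : Fin n → Mat) :
    (genericElt e).det.totalDegree ≤ n := by
  rw [Matrix.det_apply']
  refine (totalDegree_finsetSum _ _).trans (Finset.sup_le fun σ _ => ?_)
  refine (totalDegree_mul _ _).trans ?_
  have h1 : ((((Equiv.Perm.sign σ : ℤˣ) : ℤ) : R2)).totalDegree = 0 := by
    rw [← map_intCast (MvPolynomial.C : K2 →+* R2), totalDegree_C]
  rw [h1, zero_add]
  refine (totalDegree_finsetProd _ _).trans ?_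
  refine (Finset.sum_le_card_nsmul _ _ 1 fun j _ => ?_).trans (by simp)
  have hentry : genericElt e (σ j) j = ∑ i, MvPolynomial.X i * MvPolynomial.C (e i (σ j) j) := by
    simp [genericElt, Matrix.sum_apply]
  rw [hentry]
  refine (totalDegree_finsetSum _ _).trans (Finset.sup_le fun i _ => ?_)
  refine (totalDegree_mul _ _).trans ?_
  rw [totalDegree_X, totalDegree_C]

theorem irreducible_charpoly_genericElt (hn : 0 < n) (e : Fin n → Mat)
    (hinv : ∀ c : Fin n → K2, c ≠ 0 → (∑ i, c i • e i).det = 1) :
    Irreducible (genericElt e).charpoly := by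
  classical
  have hmon := (genericElt e).charpoly_monic
  have hdeg : (genericElt e).charpoly.natDegree = n := by
    rw [Matrix.charpoly_natDegree_eq_dim, Fintype.card_fin]
  refine hmon.irreducible_iff_natDegree.2 ⟨fun h => ?_, fun g h hg hh hgh => ?_⟩
  · rw [h, Polynomial.natDegree_one] at hdeg; omega
  by_contra hne
  simp only [not_or] at hne
  have hdet : (genericElt e).det = g.coeff 0 * h.coeff 0 := by
    rw [Matrix.det_eq_sign_charpoly_coeff, CharTwo.neg_eq, one_pow, one_mul, ← hgh,
      Polynomial.mul_coeff_zero]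
  have heval : ∀ c : Fin n → K2, c ≠ 0 → MvPolynomial.eval c (g.coeff 0 * h.coeff 0) = 1 := by
    intro c hc
    rw [← hdet, RingHom.map_det, RingHom.mapMatrix_apply, genericElt_map_eval]
    exact hinv c hc
  -- at the origin both constant terms vanish
  have hzero : ∀ u : Polynomial R2, u.Monic → u.natDegree ≠ 0 → u ∣ (genericElt e).charpoly →
      MvPolynomial.eval 0 (u.coeff 0) = 0 := by
    intro u hu hu0 hdvd
    have h1 : u.map (MvPolynomial.eval 0) ∣ (Polynomial.X : Polynomial K2) ^ n := by
      have h2 := Polynomial.map_dvd (MvPolynomial.eval (0 : Fin n → K2)) hdvd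
      rwa [← Matrix.charpoly_map, genericElt_map_eval, show (∑ i, (0 : Fin n → K2) i • e i) = 0 by
        simp, Matrix.charpoly_zero, Fintype.card_fin] at h2
    obtain ⟨j, -, hj⟩ := (dvd_prime_pow Polynomial.prime_X _).1 h1
    have hm := hu.map (MvPolynomial.eval (0 : Fin n → K2))
    have hj' := Polynomial.eq_of_monic_of_associated hm (Polynomial.monic_X_pow j) hj
    have hj0 : j ≠ 0 := by
      rintro rfl
      have := congrArg Polynomial.natDegree hj'
      rw [hu.natDegree_map, pow_zero, Polynomial.natDegree_one] at this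
      exact hu0 this
    rw [← Polynomial.coeff_map, hj', Polynomial.coeff_X_pow, if_neg (Ne.symm hj0)]
  have hg0 := hzero g hg hne.1 ⟨h, hgh.symm⟩
  have hh0 := hzero h hh hne.2 ⟨g, by rw [← hgh, mul_comm]⟩
  let one : Fin n → K2 := fun _ => 1
  have hone : one ≠ 0 := fun h0 => one_ne_zero (congrFun h0 ⟨0, hn⟩ : (1 : K2) = 0)
  have hgne : g.coeff 0 ≠ 0 := fun h0 => by
    have := heval one hone
    rw [h0, zero_mul, map_zero] at this
    exact zero_ne_one this
  have hhne : h.coeff 0 ≠ 0 := fun h0 => by
    have := heval one hone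
    rw [h0, mul_zero, map_zero] at this
    exact zero_ne_one this
  have hhdeg : 0 < (h.coeff 0).totalDegree := by
    by_contra hle
    have hC := totalDegree_eq_zero_iff_eq_C.1 (Nat.eq_zero_of_le_zero (not_lt.1 hle))
    apply hhne
    rw [hC] at hh0 ⊢
    rw [eval_C] at hh0
    rw [hh0, map_zero]
  have hgdeg : (g.coeff 0).totalDegree < n := by
    have h1 := totalDegree_det_genericElt_le e
    rw [hdet, totalDegree_mul_of_isDomain hgne hhne] at h1
    omega
  have hsum := MvPolynomial.sum_eval_eq_zero (g.coeff 0) (by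
    rw [ZMod.card, Fintype.card_fin]; simpa using hgdeg)
  rw [← Finset.add_sum_erase _ _ (Finset.mem_univ (0 : Fin n → K2)), hg0, zero_add,
    Finset.sum_congr rfl (g := fun _ => (1 : K2)) fun c hc => ?_] at hsum
  · rw [Finset.sum_const, nsmul_one, Finset.card_erase_of_mem (Finset.mem_univ _), Finset.card_univ,
      Fintype.card_fun, ZMod.card, Fintype.card_fin, Nat.cast_sub Nat.one_le_two_pow, Nat.cast_pow,
      show ((2 : ℕ) : K2) = 0 from rfl, zero_pow (Nat.pos_iff_ne_zero.1 hn), Nat.cast_one, zero_sub,
      neg_eq_zero] at hsum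
    exact one_ne_zero hsum
  · have h1 := heval c (Finset.ne_of_mem_erase hc)
    rw [map_mul] at h1
    generalize MvPolynomial.eval c (g.coeff 0) = a at h1 ⊢
    generalize MvPolynomial.eval c (h.coeff 0) = b at h1
    revert h1
    revert a b
    decide

theorem sum_sum_mem_of_symm {K M ι : Type*} [Field K] [AddCommGroup M] [Module K M] (W : Submodule K M)
    (x : ι → K) (T : ι → ι → M) (hd : ∀ i, T i i ∈ W) (hs : ∀ i k, T i k + T k i ∈ W)
    (s : Finset ι) : ∑ i ∈ s, ∑ k ∈ s, (x i * x k) • T i k ∈ W := by
  classical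
  induction s using Finset.induction_on with
  | empty => simp
  | insert a s ha ih =>
    rw [Finset.sum_insert ha, Finset.sum_insert ha,
      Finset.sum_congr rfl fun i _ => Finset.sum_insert ha, Finset.sum_add_distrib,
      add_assoc, ← add_assoc (∑ k ∈ s, (x a * x k) • T a k), ← Finset.sum_add_distrib]
    refine W.add_mem (W.smul_mem _ (hd a)) (W.add_mem (W.sum_mem fun k _ => ?_) ih)
    rw [mul_comm (x k) (x a), ← smul_add]
    exact W.smul_mem _ (hs a k)

/-- A spread set `S` of `n × n` matrices over `𝔽₂` containing `1` and closed under `s t s` is a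
field: its elements commute and their products lie in it. -/
theorem mul_comm_mem_of_spread (S : Submodule K2 Mat) (h1 : (1 : Mat) ∈ S)
    (hU : ∀ s ∈ S, ∀ t ∈ S, s * t * s ∈ S) (hinv : ∀ s ∈ S, s ≠ 0 → IsUnit s.det)
    (hc : Nat.card S = 2 ^ n) :
    ∀ s ∈ S, ∀ t ∈ S, s * t = t * s ∧ s * t ∈ S := by
  classical
  rcases Nat.eq_zero_or_pos n with hn | hn
  · subst hn
    intro s _ t _
    exact ⟨Subsingleton.elim _ _, Subsingleton.elim (1 : Matrix (Fin 0) (Fin 0) K2) (s * t) ▸ h1⟩
  have : Nonempty (Fin n) := ⟨⟨0, hn⟩⟩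
  have hfr : Module.finrank K2 S = n := by
    have := Module.natCard_eq_pow_finrank (K := K2) (V := S)
    rw [hc, Nat.card_zmod] at this
    exact (Nat.pow_right_injective le_rfl this).symm
  let b := Module.finBasisOfFinrankEq K2 S hfr
  let e : Fin n → Mat := fun i => (b i : Mat)
  have he : ∀ i, e i ∈ S := fun i => (b i).2
  have hspan : ∀ c : Fin n → K2, c ≠ 0 → (∑ i, c i • e i).det = 1 := by
    intro c hc0
    have hmem : (∑ i, c i • e i) ∈ S := S.sum_mem fun i _ => S.smul_mem _ (he i)
    have hne : (∑ i, c i • e i) ≠ 0 := fun h => hc0 <| funext fun i => by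
      refine Fintype.linearIndependent_iff.1 b.linearIndependent c ?_ i
      exact Subtype.ext (by simpa [e] using h)
    have h := (hinv _ hmem hne).ne_zero
    generalize (∑ i, c i • e i).det = z at h ⊢
    revert z
    decide
  -- pass to the fraction field
  let φ : K2 →+* F2 := (algebraMap R2 F2).comp MvPolynomial.C
  let x : Fin n → F2 := fun i => algebraMap R2 F2 (MvPolynomial.X i)
  let eK : Fin n → Matrix (Fin n) (Fin n) F2 := fun i => (e i).map φ
  let XK : Matrix (Fin n) (Fin n) F2 := (genericElt e).map (algebraMap R2 F2)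
  have hXK : XK = ∑ i, x i • eK i := by
    ext a c
    simp only [XK, x, eK, φ, genericElt, Matrix.map_apply, Matrix.sum_apply, Matrix.smul_apply,
      smul_eq_mul, map_sum, map_mul, RingHom.comp_apply]
  let W : Submodule F2 (Matrix (Fin n) (Fin n) F2) := Submodule.span F2 (Set.range eK)
  have hmemW : ∀ s ∈ S, s.map φ ∈ W := by
    intro s hs
    have hrep : s = ∑ i, b.repr ⟨s, hs⟩ i • e i := by
      refine (congrArg Subtype.val (b.sum_repr ⟨s, hs⟩)).symm.trans ?_
      push_cast
      rfl
    rw [hrep]
    have : (∑ i, b.repr ⟨s, hs⟩ i • e i).map φ = ∑ i, φ (b.repr ⟨s, hs⟩ i) • eK i := by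
      ext a c
      simp [eK, Matrix.sum_apply]
    rw [this]
    exact W.sum_mem fun i _ => W.smul_mem _ (Submodule.subset_span ⟨i, rfl⟩)
  have hone : (1 : Matrix (Fin n) (Fin n) F2) ∈ W := by
    have := hmemW 1 h1
    rwa [Matrix.map_one _ (map_zero φ) (map_one φ)] at this
  have hstep : ∀ T ∈ W, XK * T * XK ∈ W := by
    intro T hT
    induction hT using Submodule.span_induction with
    | mem T hT =>
      obtain ⟨j, rfl⟩ := hT
      rw [hXK, Finset.sum_mul, Finset.sum_mul]
      simp only [Finset.mul_sum, smul_mul_assoc, mul_smul_comm, smul_smul]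
      rw [Finset.sum_congr rfl fun i _ => Finset.sum_congr rfl fun k _ => by rw [mul_comm (x k) (x i)]]
      have hprod : ∀ i k, eK i * eK j * eK k = (e i * e j * e k).map φ := fun i k => by
        simp only [eK, Matrix.map_mul]
      refine sum_sum_mem_of_symm W x _ (fun i => ?_) (fun i k => ?_) _
      · rw [hprod]; exact hmemW _ (hU _ (he i) _ (he j))
      · rw [hprod, hprod, ← Matrix.map_add _ (map_add φ)]
        refine hmemW _ ?_
        have h := S.sub_mem (S.sub_mem (hU _ (S.add_mem (he i) (he k)) _ (he j))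
          (hU _ (he i) _ (he j))) (hU _ (he k) _ (he j))
        convert h using 1
        noncomm_ring
    | zero => simp
    | add T T' _ _ hT hT' => rw [mul_add, add_mul]; exact W.add_mem hT hT'
    | smul a T _ hT => rw [mul_smul_comm, smul_mul_assoc]; exact W.smul_mem _ hT
  have hpow : ∀ j : ℕ, XK ^ j ∈ W ∧ XK ^ (j + 1) ∈ W := by
    have hX1 : XK ∈ W := hXK ▸ W.sum_mem fun i _ => W.smul_mem _ (Submodule.subset_span ⟨i, rfl⟩)
    have h2 : ∀ j : ℕ, XK ^ j ∈ W := by
      intro j
      induction j using Nat.strong_induction_on with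
      | _ j ih =>
        match j with
        | 0 => simpa using hone
        | 1 => simpa using hX1
        | j + 2 =>
          rw [pow_succ, pow_succ']
          exact hstep _ (ih j (by omega))
    exact fun j => ⟨h2 j, h2 _⟩
  have hirr : Irreducible XK.charpoly := by
    rw [Matrix.charpoly_map]
    exact ((genericElt e).charpoly_monic.irreducible_iff_irreducible_map_fraction_map).1
      (irreducible_charpoly_genericElt hn e hspan)
  have hmin : (minpoly F2 XK).natDegree = n := by
    rw [← minpoly.eq_of_irreducible_of_monic hirr (Matrix.aeval_self_charpoly XK) XK.charpoly_monic,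
      Matrix.charpoly_natDegree_eq_dim, Fintype.card_fin]
  have hli := linearIndependent_pow (K := F2) XK
  have hWle : Module.finrank F2 W ≤ n := by
    have := finrank_range_le_card (R := F2) eK
    simpa [W, Set.finrank, Fintype.card_fin] using this
  have hW : Submodule.span F2 (Set.range fun i : Fin (minpoly F2 XK).natDegree => XK ^ (i : ℕ)) = W := by
    refine Submodule.eq_of_le_of_finrank_le (Submodule.span_le.2 ?_) ?_
    · rintro _ ⟨i, rfl⟩; exact (hpow _).1
    · rw [finrank_span_eq_card hli, Fintype.card_fin, hmin]; exact hWle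
  have hcommK : ∀ P ∈ W, ∀ Q ∈ W, Commute P Q := by
    have hX : ∀ Q ∈ W, Commute XK Q := by
      intro Q hQ
      rw [← hW] at hQ
      induction hQ using Submodule.span_induction with
      | mem Q hQ => obtain ⟨i, rfl⟩ := hQ; exact Commute.self_pow _ _
      | zero => exact Commute.zero_right _
      | add _ _ _ _ h h' => exact h.add_right h'
      | smul a _ _ h => exact h.smul_right a
    intro P hP Q hQ
    rw [← hW] at hP
    induction hP using Submodule.span_induction with
    | mem P hP => obtain ⟨i, rfl⟩ := hP; exact (hX Q hQ).pow_left _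
    | zero => exact Commute.zero_left _
    | add _ _ _ _ h h' => exact h.add_left h'
    | smul a _ _ h => exact h.smul_left a
  have hφ : Function.Injective φ := φ.injective
  have hcomm : ∀ s ∈ S, ∀ t ∈ S, s * t = t * s := fun s hs t ht => by
    apply Matrix.map_injective hφ
    simp only []
    rw [Matrix.map_mul, Matrix.map_mul]
    exact (hcommK _ (hmemW s hs) _ (hmemW t ht)).eq
  intro s hs t ht
  refine ⟨hcomm s hs t ht, ?_⟩
  -- every element is a square
  let sq : S → S := fun r => ⟨(r : Mat) * r, by simpa using hU _ r.2 1 h1⟩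
  have hsq : Function.Injective sq := by
    intro r r' h
    have h0 : ((r : Mat) - r') * ((r : Mat) - r') = 0 := by
      have h2 : (r : Mat) * r = (r' : Mat) * r' := congrArg Subtype.val h
      rw [sub_mul, mul_sub, mul_sub, hcomm r' r'.2 r r.2, h2]
      have hchar : ∀ M : Mat, M + M = 0 := fun M => by
        ext a c
        exact CharTwo.add_self_eq_zero (M a c)
      rw [show ∀ A B : Mat, A - B - (B - A) = (A + A) - (B + B) from fun A B => by abel, hchar,
        hchar, sub_zero]
    refine Subtype.ext (sub_eq_zero.1 ?_)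
    by_contra hne
    have hu := hinv _ (S.sub_mem r.2 r'.2) hne
    have hd := congrArg Matrix.det h0
    rw [Matrix.det_mul, Matrix.det_zero] at hd
    exact (hu.mul hu).ne_zero hd
  obtain ⟨r, hr⟩ := (Finite.injective_iff_surjective.1 hsq) ⟨s, hs⟩
  have hr' : (r : Mat) * r = s := congrArg Subtype.val hr
  rw [← hr', mul_assoc, hcomm r r.2 t ht, ← mul_assoc]
  exact hU _ r.2 _ ht

end CfsgLib.ClassK
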