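import Cfsg.Agent.Lib.ClassK.PushStruct

/-!
Distance two: the prime is odd, `S` has class three and, for `p = 3`, exponent nine, and `O^p(G)`
is trivial on `Y/V` for `Y = C_{O_p}(A) ∩ C_{O_p}(B)`.
-/

set_option autoImplicit false
set_option linter.style.haveILetI false
set_option linter.unusedSectionVars false
set_option maxHeartbeats 2000000

namespace CfsgLib.ClassK.Push

open Subgroup
open scoped MatrixGroups Pointwise commutatorElement

variable {G : Type*} [Group G] [Finite G] {p n : ℕ} [Fact p.Prime] {F : Type*} [Field F] [Fintype F]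
  {S : Sylow p G} {M : Subgroup G} {φ : G →* Matrix.ProjectiveSpecialLinearGroup (Fin 2) F}

namespace Mid

variable {V A B E : Subgroup G} {g : G} {q₀ : ℕ}
  (hD : Datum p (S : Subgroup G) (Cfsg.pCore p G) V (p ^ n))
  (hM : Mid p q₀ (S : Subgroup G) (Cfsg.pCore p G) V A B E g)
include hD hM

/-- `C_{O_p}(A) ∩ C_{O_p}(B)`. -/
theorem y_normal : (Cfsg.pCore p G ⊓ centralizer (A : Set G) ⊓ centralizer (B : Set G)).Normal := by
  haveI := hD.Q_normal
  set Q := Cfsg.pCore p G
  set Y := Q ⊓ centralizer (A : Set G) ⊓ centralizer (B : Set G)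
  have hQ' : Q ≤ cj g (S : Subgroup G) := fun y hy => mem_cj.2
    (hD.Q_le (by simpa using hD.Q_normal.conj_mem y hy g⁻¹))
  have hQY : Q ≤ normalizer (Y : Set G) := fun y hy => Subgroup.inf_normalizer_le_normalizer_inf
    (show y ∈ normalizer ((Q ⊓ centralizer (A : Set G) : Subgroup G) : Set G) ⊓
        normalizer (centralizer (B : Set G) : Set G) from
      ⟨Subgroup.inf_normalizer_le_normalizer_inf
        (show y ∈ normalizer (Q : Set G) ⊓ normalizer (centralizer (A : Set G) : Set G) from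
          ⟨Subgroup.le_normalizer hy, CfsgLib.Comp.le_normalizer_centralizer hM.A_norm (hD.Q_le hy)⟩),
        CfsgLib.Comp.le_normalizer_centralizer hM.B_norm (hQ' hy)⟩)
  have key : ∀ e : G, (∀ y ∈ Y, ⁅y, e⁆ ∈ V) → e ∈ normalizer (Y : Set G) := fun e he => by
    refine CfsgLib.Comp.map_conj_eq_iff.1 (eq_of_le_of_card_ge ?_
      (card_map_of_injective (MulAut.conj e).injective).ge)
    rintro _ ⟨y, hy, rfl⟩
    show e * y * e⁻¹ ∈ Y
    rw [show e * y * e⁻¹ = ⁅y, e⁆⁻¹ * y by simp [commutatorElement_def, mul_assoc]]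
    exact mul_mem (inv_mem ⟨⟨hD.V_le (he y hy), fun a ha => (hD.V_cent (he y hy) a (hM.A_le ha))⟩,
      fun b hb => hD.V_cent (he y hy) b (hM.B_le hb)⟩) hy
  obtain ⟨E', hE'S, hE'B, hcov', hact'⟩ := hM.other
  refine normalizer_eq_top_iff.1 (top_le_iff.1 (hM.gen.ge.trans (sup_le ?_ ?_)))
  · exact hM.cover.trans (sup_le (fun e he => key e fun y hy => hM.E_act y hy.1 e he) hQY)
  · exact hcov'.trans (sup_le (fun e he => key e fun y hy => hact' y ⟨hy.1.1, hy.2⟩ e he) hQY)

/-- `C_{O_p}(A)` is `A V` times elements centralizing `A`, `B` and `E`. -/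
theorem d_le : Cfsg.pCore p G ⊓ centralizer (A : Set G) ≤ (A ⊔ V) ⊔
    (Cfsg.pCore p G ⊓ centralizer (A : Set G) ⊓ centralizer (B : Set G) ⊓ centralizer (E : Set G)) := by
  haveI := hD.Q_normal
  haveI := hD.V_normal
  intro y hy
  obtain ⟨v, hv, x, hx, rfl⟩ := mem_sup_of_normal_left.1 (hM.E_split hy)
  refine mul_mem (mem_sup_left (mem_sup_right hv)) ?_
  have hAn : A ≤ normalizer ((Cfsg.pCore p G ⊓ centralizer (B : Set G) : Subgroup G) : Set G) :=
    fun a ha => Subgroup.inf_normalizer_le_normalizer_inf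
      (show a ∈ normalizer (Cfsg.pCore p G : Set G) ⊓ normalizer (centralizer (B : Set G) : Set G) from
      ⟨Subgroup.le_normalizer (hM.A_le ha), CfsgLib.Comp.le_normalizer_centralizer
        hM.B_norm (mem_cj.2 (hD.Q_le (by simpa using hD.Q_normal.conj_mem a (hM.A_le ha) g⁻¹)))⟩)
  obtain ⟨c, hc, a, ha, rfl⟩ := CfsgLib.Comp.exists_mul_of_mem_sup hAn
    (by rw [sup_comm]; exact hM.Q_B hx.1.1)
  refine mul_mem (mem_sup_right ⟨⟨⟨hc.1, ?_⟩, hc.2⟩, ?_⟩) (mem_sup_left (mem_sup_left ha))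
  · show c ∈ centralizer (A : Set G)
    exact (mul_mem_cancel_right (show a ∈ centralizer (A : Set G) from hM.A_ab ha)).1
      (show c * a ∈ centralizer (A : Set G) from hx.1.2)
  · show c ∈ centralizer (E : Set G)
    exact (mul_mem_cancel_right (show a ∈ centralizer (E : Set G) from le_centralizer_iff.1 hM.E_A ha)).1
      (show c * a ∈ centralizer (E : Set G) from hx.2)

theorem sylow_le_closure : (S : Subgroup G) ≤ closure ((E : Set G) ∪ A ∪ B ∪ V ∪
    (Cfsg.pCore p G ⊓ centralizer (A : Set G) ⊓ centralizer (B : Set G) ⊓ centralizer (E : Set G) :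
      Subgroup G)) := by
  refine hM.cover.trans (sup_le (fun x hx => subset_closure (Or.inl (Or.inl (Or.inl (Or.inl hx))))) ?_)
  refine hM.Q_A.trans (sup_le (fun x hx => subset_closure (Or.inl (Or.inl (Or.inr hx)))) ?_)
  refine (d_le hD hM).trans (sup_le (sup_le (fun x hx => subset_closure (Or.inl (Or.inl (Or.inl (Or.inr hx)))))
    (fun x hx => subset_closure (Or.inl (Or.inr hx)))) (fun x hx => subset_closure (Or.inr hx)))

theorem A_le_S : A ≤ (S : Subgroup G) := hM.A_le.trans hD.Q_le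

theorem B_le_S : B ≤ (S : Subgroup G) := hM.B_le.trans hD.Q_le

theorem V_A : V ≤ centralizer (A : Set G) := fun v hv a ha => hD.V_cent hv a (hM.A_le ha)

theorem sup_A_V_pow {m : G} (hm : m ∈ A ⊔ V) : m ^ p = 1 := by
  haveI := hD.V_normal
  obtain ⟨v, hv, a, ha, rfl⟩ := mem_sup_of_normal_left.1 ((sup_comm A V).le hm)
  rw [(show Commute v a from (V_A hD hM hv a ha).symm).mul_pow, hD.exp v hv, hM.A_exp a ha, one_mul]

/-- `[E, B] ≤ A V`. -/
theorem comm_mem_sup {e b : G} (he : e ∈ E) (hb : b ∈ B) : ⁅e, b⁆ ∈ A ⊔ V := by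
  haveI := hD.Q_normal
  haveI := hD.V_normal
  set m := ⁅e, b⁆ with hm
  have hmQ : m ∈ Cfsg.pCore p G :=
    mul_mem (hD.Q_normal.conj_mem b (hM.B_le hb) e) (inv_mem (hM.B_le hb))
  have hmA : m ∈ centralizer (A : Set G) := fun a ha => by
    have hea : Commute e a := (hM.E_A he a ha).symm
    have hc : ⁅a, b⁆ ∈ center G := hM.A_central a ha b (hM.B_le hb)
    have hce : ∀ x, Commute ⁅a, b⁆ x := fun x => (mem_center_iff.1 hc x).symm
    have h2 : a * b = ⁅a, b⁆ * b * a := by simp [commutatorElement_def, mul_assoc]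
    have h3 : a * b⁻¹ = ⁅a, b⁆⁻¹ * b⁻¹ * a := by
      rw [mul_inv_eq_iff_eq_mul, mul_assoc (⁅a, b⁆⁻¹ * b⁻¹) a b, h2]
      have hx : b⁻¹ * (⁅a, b⁆ * b * a) = ⁅a, b⁆ * a := by
        rw [mul_assoc ⁅a, b⁆, ← mul_assoc b⁻¹, ← (hce b⁻¹).eq, mul_assoc, inv_mul_cancel_left]
      rw [mul_assoc ⁅a, b⁆⁻¹ b⁻¹, hx, inv_mul_cancel_left]
    calc a * m = (a * e) * b * e⁻¹ * b⁻¹ := by simp [m, commutatorElement_def, mul_assoc]
      _ = e * (a * b) * e⁻¹ * b⁻¹ := by rw [← hea.eq]; group
      _ = e * (⁅a, b⁆ * b) * (a * e⁻¹) * b⁻¹ := by rw [h2]; group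
      _ = e * (⁅a, b⁆ * b) * e⁻¹ * (a * b⁻¹) := by rw [← hea.inv_left.eq]; group
      _ = (e * ⁅a, b⁆) * b * e⁻¹ * ⁅a, b⁆⁻¹ * b⁻¹ * a := by rw [h3]; group
      _ = ⁅a, b⁆ * e * b * e⁻¹ * ⁅a, b⁆⁻¹ * b⁻¹ * a := by rw [(hce e).eq]
      _ = e * b * e⁻¹ * b⁻¹ * a := by
          rw [show ⁅a, b⁆ * e * b * e⁻¹ * ⁅a, b⁆⁻¹ = e * b * e⁻¹ by
            rw [mul_assoc ⁅a, b⁆ e b, mul_assoc ⁅a, b⁆ (e * b) e⁻¹, (hce _).eq, mul_inv_cancel_right]]
      _ = m * a := by simp [m, commutatorElement_def, mul_assoc]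
  obtain ⟨w, hw, δ, hδ, hwδ⟩ := CfsgLib.Comp.exists_mul_of_mem_sup (H := A ⊔ V)
    ((inf_le_left.trans inf_le_left).trans (inf_le_left.trans fun y hy =>
      CfsgLib.Comp.le_normalizer_sup (hM.A_norm.trans' hD.Q_le) (by rw [normalizer_eq_top]; exact le_top) hy))
    (d_le hD hM (show m ∈ Cfsg.pCore p G ⊓ centralizer (A : Set G) from ⟨hmQ, hmA⟩))
  suffices hδS : δ ∈ zOf (S : Subgroup G) by
    rw [← hwδ]; exact mul_mem hw (mem_sup_left (hM.A_center hδS))
  refine ⟨hD.Q_le hδ.1.1.1, fun s hs => ?_⟩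
  have hle : closure ((E : Set G) ∪ A ∪ B ∪ V ∪
      (Cfsg.pCore p G ⊓ centralizer (A : Set G) ⊓ centralizer (B : Set G) ⊓ centralizer (E : Set G) :
        Subgroup G)) ≤ centralizer ({δ} : Set G) := by
    refine (closure_le _).2 ?_
    rintro x ((((hx | hx) | hx) | hx) | hx) <;> refine mem_centralizer_singleton_iff.2 ?_
    · exact hδ.2 x hx
    · exact hδ.1.1.2 x hx
    · exact hδ.1.2 x hx
    · exact (hD.V_cent hx δ hδ.1.1.1).symm
    · have hxm : Commute x m := by
        have h1 : Commute x e := (hx.2 e he).symm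
        have h2 : Commute x b := (hx.1.2 b hb).symm
        exact ((h1.mul_right h2).mul_right h1.inv_right).mul_right h2.inv_right
      have hxw : Commute x w := by
        have hle' : A ⊔ V ≤ centralizer ({x} : Set G) := sup_le
          (fun a ha => mem_centralizer_singleton_iff.2 (hx.1.1.2 a ha))
          (fun v hv => mem_centralizer_singleton_iff.2 (hD.V_cent hv x hx.1.1.1).symm)
        exact (mem_centralizer_singleton_iff.1 (hle' hw)).symm
      have e1 : δ = w⁻¹ * m := by rw [← hwδ, inv_mul_cancel_left]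
      rw [e1]
      exact (hxw.inv_right.mul_right hxm).eq
  exact mem_centralizer_singleton_iff.1 (hle ((sylow_le_closure hD hM) hs))

/-- Some `[e, b]` has a noncentral `V`-part. -/
theorem exists_twist : ∃ e ∈ E, ∃ b ∈ B, ∃ a ∈ A, ∃ v ∈ V, ⁅e, b⁆ = a * v ∧ e ∉ Cfsg.pCore p G ∧
    v ∉ zOf (S : Subgroup G) := by
  haveI := hD.V_normal
  obtain ⟨e, he, b, hb, hA⟩ := hM.twist
  obtain ⟨v, hv, a, ha, hva⟩ := mem_sup_of_normal_left.1 ((sup_comm A V).le (comm_mem_sup hD hM he hb))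
  rw [show v * a = a * v from (V_A hD hM hv a ha).symm] at hva
  refine ⟨e, he, b, hb, a, ha, v, hv, hva.symm, fun heQ => hA ?_, fun hvZ => hA ?_⟩
  · have hmS : ⁅e, b⁆ ∈ (S : Subgroup G) := mul_mem (mul_mem (mul_mem (hM.E_le he) (B_le_S hD hM hb))
      (inv_mem (hM.E_le he))) (inv_mem (B_le_S hD hM hb))
    refine hM.A_center ⟨hmS, fun s _ => ?_⟩
    rw [← commutatorElement_inv b e]
    exact mem_center_iff.1 (inv_mem (hM.B_central b hb e heQ)) s
  · rw [← hva]; exact mul_mem ha (hM.A_center hvZ)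

/-- The prime is odd. -/
theorem p_ne_two : p ≠ 2 := by
  rintro rfl
  obtain ⟨e, he, b, hb, a, ha, v, hv, hm, heQ, hvZ⟩ := exists_twist hD hM
  apply hvZ
  set m := ⁅e, b⁆ with hmdef
  have hinv : ∀ {x : G}, x ^ 2 = 1 → x⁻¹ = x := fun hx => by
    rw [pow_two] at hx; exact inv_eq_of_mul_eq_one_right hx
  have he2 := hinv (hM.E_exp e he)
  have hb2 := hinv (hM.B_exp b hb)
  have hm2 := hinv (sup_A_V_pow hD hM (comm_mem_sup hD hM he hb))
  have h1 : e * m * e⁻¹ = m := by
    calc e * m * e⁻¹ = (e * e) * b * e⁻¹ * b⁻¹ * e⁻¹ := by simp [m, commutatorElement_def, mul_assoc]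
      _ = b * e * b * e := by
          rw [he2, hb2, show e * e = 1 by rw [← pow_two]; exact hM.E_exp e he, one_mul]
      _ = b * e * b⁻¹ * e⁻¹ := by rw [he2, hb2]
      _ = m⁻¹ := by simp [m, commutatorElement_def, mul_assoc]
      _ = m := hm2
  refine hD.fix e (hM.E_le he) heQ ⟨hv, mem_centralizer_singleton_iff.2 ?_⟩
  have h2 : Commute e a := (hM.E_A he a ha).symm
  have h3 : Commute e m := by
    show e * m = m * e
    calc e * m = (e * m * e⁻¹) * e := by group
      _ = _ := by rw [h1]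
  have h4 : v = a⁻¹ * m := by rw [hm, inv_mul_cancel_left]
  rw [h4]
  exact (h2.inv_right.mul_right h3).symm.eq

theorem closure_gen_normal_sup {x : G}
    (hx : x ∈ (E : Set G) ∪ A ∪ B ∪ V ∪ (Cfsg.pCore p G ⊓ centralizer (A : Set G) ⊓
      centralizer (B : Set G) ⊓ centralizer (E : Set G) : Subgroup G)) :
    x ∈ (S : Subgroup G) := by
  rcases hx with (((hx | hx) | hx) | hx) | hx
  exacts [hM.E_le hx, A_le_S hD hM hx, B_le_S hD hM hx, hD.Q_le (hD.V_le hx), hD.Q_le hx.1.1.1]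

set_option maxHeartbeats 4000000 in
/-- Class three. -/
theorem lcs (hd : NoChar S) :
    (S : Subgroup G).lowerCentralSeries 3 = ⊥ ∧ (S : Subgroup G).lowerCentralSeries 2 ≠ ⊥ := by
  haveI := hD.Q_normal
  haveI := hD.V_normal
  set Q := Cfsg.pCore p G with hQ
  set D0 := Q ⊓ centralizer (A : Set G) ⊓ centralizer (B : Set G) ⊓ centralizer (E : Set G) with hD0
  set X := (E : Set G) ∪ A ∪ B ∪ V ∪ (D0 : Set G) with hX
  set Zs := zOf (S : Subgroup G)
  have hS : (S : Subgroup G) ≤ closure X := sylow_le_closure hD hM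
  have hXS : ∀ x ∈ X, x ∈ (S : Subgroup G) := fun x hx => closure_gen_normal_sup hD hM hx
  have hc0 : ∀ d ∈ D0, ∀ x ∈ X, x ∈ (D0 : Set G) ∨ Commute x d := by
    rintro d hd' x ((((hx | hx) | hx) | hx) | hx)
    · exact Or.inr (hd'.2 x hx)
    · exact Or.inr (hd'.1.1.2 x hx)
    · exact Or.inr (hd'.1.2 x hx)
    · exact Or.inr (hD.V_cent hx d hd'.1.1.1).symm
    · exact Or.inl hx
  have hn : ∀ (R : Subgroup G), R ≤ D0 → D0 ≤ normalizer (R : Set G) → X ⊆ normalizer (R : Set G) := by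
    intro R hR hRn x hx
    by_cases hxD : x ∈ D0
    · exact hRn hxD
    · refine centralizer_le_normalizer _ fun r hr => ?_
      exact ((hc0 r (hR hr) x hx).resolve_left hxD).eq.symm
  have hD'le : ⁅D0, D0⁆ ≤ D0 := commutator_le_self D0
  have hD''le : ⁅⁅D0, D0⁆, D0⁆ ≤ D0 := commutator_le.2 fun x hx y hy =>
    mul_mem (mul_mem (mul_mem (hD'le hx) hy) (inv_mem (hD'le hx))) (inv_mem hy)
  have hnD : D0 ≤ normalizer ((⁅D0, D0⁆ : Subgroup G) : Set G) := fun d hd' =>
    CfsgLib.Comp.map_conj_eq_iff.1 (by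
      rw [Subgroup.map_commutator, CfsgLib.Comp.map_conj_eq_iff.2 (Subgroup.le_normalizer hd')])
  have hnD2 : D0 ≤ normalizer ((⁅⁅D0, D0⁆, D0⁆ : Subgroup G) : Set G) := fun d hd' =>
    CfsgLib.Comp.map_conj_eq_iff.1 (by
      rw [Subgroup.map_commutator, CfsgLib.Comp.map_conj_eq_iff.2 (hnD hd'),
        CfsgLib.Comp.map_conj_eq_iff.2 (Subgroup.le_normalizer hd')])
  have hAn : X ⊆ normalizer (A : Set G) := fun x hx => hM.A_norm (hXS x hx)
  have hnZ : X ⊆ normalizer (Zs : Set G) := fun x hx => mem_normalizer_iff.2 fun z =>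
    ⟨fun hz => by rwa [conj_mem_of_mem_zOf (hXS x hx) hz], fun hz => by
      have := conj_mem_of_mem_zOf (inv_mem (hXS x hx)) hz
      rw [inv_inv, show x⁻¹ * (x * z * x⁻¹) * x = z by group] at this
      rwa [this]⟩
  set N2 := A ⊔ V ⊔ ⁅D0, D0⁆
  set N3 := Zs ⊔ ⁅⁅D0, D0⁆, D0⁆
  have hN2 : X ⊆ normalizer (N2 : Set G) := fun x hx => CfsgLib.Comp.le_normalizer_sup
    (M := zpowers x) (CfsgLib.Comp.le_normalizer_sup (zpowers_le.2 (hAn hx))
      (by rw [normalizer_eq_top]; exact le_top)) (zpowers_le.2 (hn _ hD'le hnD hx)) (mem_zpowers x)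
  have hN3 : X ⊆ normalizer (N3 : Set G) := fun x hx => CfsgLib.Comp.le_normalizer_sup
    (M := zpowers x) (zpowers_le.2 (hnZ hx)) (zpowers_le.2 (hn _ hD''le hnD2 hx)) (mem_zpowers x)
  have hZ2 : Zs ≤ N2 := hM.A_center.trans (le_sup_left.trans le_sup_left)
  have hAS2 : ∀ a ∈ A, ∀ y ∈ X, ⁅a, y⁆ ∈ Zs := fun a ha y hy => hM.A_comm a ha y (hXS y hy)
  have hVS2 : ∀ a ∈ V, ∀ y ∈ X, ⁅a, y⁆ ∈ Zs := fun a ha y hy => hD.comm_mem a ha y (hXS y hy)
  have sw : ∀ {x y : G}, ⁅y, x⁆ ∈ N2 → ⁅x, y⁆ ∈ N2 := fun h => by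
    rw [← commutatorElement_inv]; exact inv_mem h
  have h1 : ⁅(S : Subgroup G), (S : Subgroup G)⁆ ≤ N2 := by
    refine commutator_le_of_generators hS hS hN2 hN2 fun x hx y hy => ?_
    have hone : ∀ {x y : G}, Commute x y → ⁅x, y⁆ ∈ N2 := fun h => by
      rw [commutatorElement_eq_one_iff_mul_comm.2 h.eq]; exact one_mem _
    rcases hx with (((hx | hx) | hx) | hx) | hx
    rotate_left
    · exact hZ2 (hAS2 x hx y hy)
    rotate_left
    · exact hZ2 (hVS2 x hx y hy)
    · by_cases hyD : y ∈ D0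
      · exact mem_sup_right (commutator_mem_commutator hx hyD)
      · exact hone ((hc0 x hx y hy).resolve_left hyD).symm
    · rcases hy with (((hy | hy) | hy) | hy) | hy
      · exact hone (hM.E_ab hy x hx)
      · exact sw (hZ2 (hAS2 y hy x (Or.inl (Or.inl (Or.inl (Or.inl hx))))))
      · exact le_sup_left (b := ⁅D0, D0⁆) (comm_mem_sup hD hM hx hy)
      · exact sw (hZ2 (hVS2 y hy x (Or.inl (Or.inl (Or.inl (Or.inl hx))))))
      · exact hone (hy.2 x hx)
    · rcases hy with (((hy | hy) | hy) | hy) | hy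
      · exact sw (le_sup_left (b := ⁅D0, D0⁆) (comm_mem_sup hD hM hy hx))
      · exact sw (hZ2 (hAS2 y hy x (Or.inl (Or.inl (Or.inr hx)))))
      · exact hone (hM.B_ab hy x hx)
      · exact sw (hZ2 (hVS2 y hy x (Or.inl (Or.inl (Or.inr hx)))))
      · exact hone (hy.1.2 x hx)
  have h2 : ⁅⁅(S : Subgroup G), (S : Subgroup G)⁆, (S : Subgroup G)⁆ ≤ N3 := by
    refine commutator_le_of_generators (X := (A : Set G) ∪ V ∪ (⁅D0, D0⁆ : Subgroup G)) (h1.trans ?_) hS
      ?_ hN3 fun x hx y hy => ?_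
    · exact sup_le (sup_le (fun x hx => subset_closure (Or.inl (Or.inl hx)))
        fun x hx => subset_closure (Or.inl (Or.inr hx))) fun x hx => subset_closure (Or.inr hx)
    · rintro x ((hx | hx) | hx)
      · exact hN3 (Or.inl (Or.inl (Or.inl (Or.inr hx))))
      · exact hN3 (Or.inl (Or.inr hx))
      · exact hN3 (Or.inr (hD'le hx))
    · rcases hx with (hx | hx) | hx
      · exact mem_sup_left (hAS2 x hx y hy)
      · exact mem_sup_left (hVS2 x hx y hy)
      · by_cases hyD : y ∈ D0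
        · exact mem_sup_right (commutator_mem_commutator hx hyD)
        · rw [commutatorElement_eq_one_iff_mul_comm.2 ((hc0 x (hD'le hx) y hy).resolve_left hyD).eq.symm]
          exact one_mem _
  have hlcs2 : (S : Subgroup G).lowerCentralSeries 2 = ⁅⁅(S : Subgroup G), (S : Subgroup G)⁆, (S : Subgroup G)⁆ := by
    rw [Subgroup.lowerCentralSeries_succ, Subgroup.lowerCentralSeries_succ, Subgroup.lowerCentralSeries_zero]
  refine ⟨?_, ?_⟩
  · have h3 : ⁅⁅⁅(S : Subgroup G), (S : Subgroup G)⁆, (S : Subgroup G)⁆, (S : Subgroup G)⁆ ≤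
        ⁅⁅⁅Q, Q⁆, Q⁆, Q⁆ := by
      refine commutator_le_of_generators (X := (Zs : Set G) ∪ (⁅⁅D0, D0⁆, D0⁆ : Subgroup G))
        (h2.trans (sup_eq_closure _ _).le) hS
        (fun _ _ => by rw [normalizer_eq_top]; trivial) (fun _ _ => by rw [normalizer_eq_top]; trivial) ?_
      rintro x (hx | hx) y hy
      · rw [commutatorElement_eq_one_iff_mul_comm.2 (hx.2 y (hXS y hy)).symm]; exact one_mem _
      · by_cases hyD : y ∈ D0
        · have hDQ : D0 ≤ Q := fun d hd' => hd'.1.1.1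
          exact commutator_mem_commutator (commutator_mono (commutator_mono hDQ hDQ) hDQ hx) (hDQ hyD)
        · rw [commutatorElement_eq_one_iff_mul_comm.2 ((hc0 x (hD''le hx) y hy).resolve_left hyD).eq.symm]
          exact one_mem _
    have e : (S : Subgroup G).lowerCentralSeries 3 = ⁅⁅⁅Q, Q⁆, Q⁆, Q⁆ := by
      rw [Subgroup.lowerCentralSeries_succ, hlcs2]
      exact le_antisymm h3 (commutator_mono (commutator_mono (commutator_mono hD.Q_le hD.Q_le) hD.Q_le) hD.Q_le)
    refine hd.eq_bot ?_ (lcs_subgroupOf_characteristic (S : Subgroup G) 3) (e ▸ inferInstance)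
    rw [e]
    exact (commutator_le_right _ Q).trans hD.Q_le
  · intro hb
    obtain ⟨e, he, b, hb', a, ha, v, hv, hm, heQ, hvZ⟩ := exists_twist hD hM
    refine hvZ (hD.fix e (hM.E_le he) heQ ⟨hv, mem_centralizer_singleton_iff.2 ?_⟩)
    have h4 : ⁅⁅e, b⁆, e⁆ = 1 := mem_bot.1 (hb ▸ hlcs2 ▸ commutator_mem_commutator
      (commutator_mem_commutator (hM.E_le he) (B_le_S hD hM hb')) (hM.E_le he))
    rw [hm, commutatorElement_eq_one_iff_mul_comm] at h4
    have h5 : Commute e a := (hM.E_A he a ha).symm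
    rw [show v = a⁻¹ * (a * v) by group]
    exact (h5.inv_right.mul_right (show Commute e (a * v) from h4.symm)).symm.eq

/-- Exponent nine for `p = 3`. -/
theorem exponent_nine (hd : NoChar S) (hp3 : p = 3) : Monoid.exponent ↥(S : Subgroup G) = 9 := by
  subst hp3
  haveI := hD.Q_normal
  haveI := hD.V_normal
  set Q := Cfsg.pCore 3 G with hQ
  set D0 := Q ⊓ centralizer (A : Set G) ⊓ centralizer (B : Set G) ⊓ centralizer (E : Set G) with hD0
  set T1 := A ⊔ B ⊔ V with hT1
  have hT1Q : T1 ≤ Q := sup_le (sup_le hM.A_le hM.B_le) hD.V_le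
  -- `T1` has exponent three
  let N : Subgroup G :=
    { carrier := {z | z ∈ center G ∧ z ^ 3 = 1}
      one_mem' := ⟨one_mem _, one_pow 3⟩
      mul_mem' := by
        rintro x y ⟨hx, hx'⟩ ⟨hy, hy'⟩
        exact ⟨mul_mem hx hy, by rw [(show Commute x y from (mem_center_iff.1 hx y).symm).mul_pow, hx', hy', one_mul]⟩
      inv_mem' := by rintro x ⟨hx, hx'⟩; exact ⟨inv_mem hx, by rw [inv_pow, hx', inv_one]⟩ }
  have hgen : T1 ≤ closure ((A : Set G) ∪ B ∪ V) := sup_le (sup_le
    (fun x hx => subset_closure (Or.inl (Or.inl hx))) fun x hx => subset_closure (Or.inl (Or.inr hx)))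
    fun x hx => subset_closure (Or.inr hx)
  have hA3 : ∀ a ∈ A, ∀ y ∈ Q, ⁅a, y⁆ ∈ N := fun a ha y hy => ⟨hM.A_central a ha y hy,
    hM.A_exp _ (hM.A_center (hM.A_comm a ha y (hD.Q_le hy)))⟩
  have hB3 : ∀ b ∈ B, ∀ y ∈ Q, ⁅b, y⁆ ∈ N := fun b hb y hy => ⟨hM.B_central b hb y hy,
    hM.B_exp _ (hM.B_center (hM.B_comm b hb y (mem_cj.2 (hD.Q_le (by
      simpa using hD.Q_normal.conj_mem y hy g⁻¹)))))⟩
  have hNn : ((A : Set G) ∪ B ∪ V) ⊆ normalizer (N : Set G) := fun x _ =>
    centralizer_le_normalizer _ fun z hz => (mem_center_iff.1 hz.1 x).symm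
  have hcomm : ⁅T1, T1⁆ ≤ N := by
    refine commutator_le_of_generators hgen hgen hNn hNn ?_
    rintro x ((hx | hx) | hx) y hy
    · exact hA3 x hx y (hy.elim (fun h => h.elim (fun h => hM.A_le h) fun h => hM.B_le h) fun h => hD.V_le h)
    · exact hB3 x hx y (hy.elim (fun h => h.elim (fun h => hM.A_le h) fun h => hM.B_le h) fun h => hD.V_le h)
    · rw [commutatorElement_eq_one_iff_mul_comm.2 (hD.V_cent hx y
        (hy.elim (fun h => h.elim (fun h => hM.A_le h) fun h => hM.B_le h) fun h => hD.V_le h)).symm]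
      exact one_mem _
  have hexp : ∀ x ∈ T1, x ^ 3 = 1 := by
    intro x hx
    have hx' := hgen hx
    clear hx
    induction hx' using Subgroup.closure_induction with
    | mem x hx => rcases hx with (hx | hx) | hx
                  exacts [hM.A_exp x hx, hM.B_exp x hx, hD.exp x hx]
    | one => exact one_pow 3
    | mul x y hx hy ihx ihy =>
      have hxT : x ∈ T1 := (closure_le _).2 (by
        rintro z ((hz | hz) | hz)
        exacts [mem_sup_left (mem_sup_left hz), mem_sup_left (mem_sup_right hz), mem_sup_right hz]) hx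
      have hyT : y ∈ T1 := (closure_le _).2 (by
        rintro z ((hz | hz) | hz)
        exacts [mem_sup_left (mem_sup_left hz), mem_sup_left (mem_sup_right hz), mem_sup_right hz]) hy
      have hc := hcomm (commutator_mem_commutator hyT hxT)
      rw [pow_mul_of_central (fun z _ => (mem_center_iff.1 hc.1 z).symm), ihx, ihy, one_mul, one_mul,
        show Nat.choose 3 2 = 3 by decide, hc.2]
    | inv x hx ihx => rw [inv_pow, ihx, inv_one]
  -- `s ^ 9` is a ninth power in `Q`
  have hpow : ∀ s ∈ (S : Subgroup G), s ^ 9 = 1 := by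
    refine pow_eq_one_of_noChar hd hD.Q_normal hD.Q_le 9 fun s hs => ?_
    obtain ⟨y, hy, e, he, rfl⟩ := mem_sup_of_normal_left.1 ((sup_comm E Q).le (hM.cover hs))
    have hyd : ∃ t ∈ T1, ∃ d ∈ D0, y = t * d := by
      have hT1n : D0 ≤ normalizer (T1 : Set G) := fun d hd' => by
        refine centralizer_le_normalizer _ fun t ht => ?_
        have hle : T1 ≤ centralizer ({d} : Set G) := sup_le (sup_le
          (fun a ha => mem_centralizer_singleton_iff.2 (hd'.1.1.2 a ha))
          fun b hb => mem_centralizer_singleton_iff.2 (hd'.1.2 b hb))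
          fun v hv => mem_centralizer_singleton_iff.2 (hD.V_cent hv d hd'.1.1.1).symm
        exact mem_centralizer_singleton_iff.1 (hle ht)
      obtain ⟨t, ht, d, hd', rfl⟩ := CfsgLib.Comp.exists_mul_of_mem_sup hT1n
        (show y ∈ T1 ⊔ D0 from (hM.Q_A.trans (sup_le (le_sup_right.trans (le_sup_left.trans le_sup_left))
          ((d_le hD hM).trans (sup_le_sup_right (sup_le (le_sup_left.trans le_sup_left) le_sup_right) _)))) hy)
      exact ⟨t, ht, d, hd', rfl⟩
    obtain ⟨t, ht, d, hd', rfl⟩ := hyd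
    refine ⟨t * d, hy, ?_⟩
    have hdt : Commute d t := by
      have hle : T1 ≤ centralizer ({d} : Set G) := sup_le (sup_le
        (fun a ha => mem_centralizer_singleton_iff.2 (hd'.1.1.2 a ha))
        fun b hb => mem_centralizer_singleton_iff.2 (hd'.1.2 b hb))
        fun v hv => mem_centralizer_singleton_iff.2 (hD.V_cent hv d hd'.1.1.1).symm
      exact (mem_centralizer_singleton_iff.1 (hle ht)).symm
    have hde : Commute d e := (hd'.2 e he).symm
    have hen : e ∈ normalizer (T1 : Set G) := by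
      refine CfsgLib.Comp.map_conj_eq_iff.1 (eq_of_le_of_card_ge ?_
        (card_map_of_injective (MulAut.conj e).injective).ge)
      rw [Subgroup.map_sup, Subgroup.map_sup]
      refine sup_le (sup_le ?_ ?_) (le_of_eq_of_le (CfsgLib.Comp.map_conj_eq_iff.2
        (by rw [normalizer_eq_top]; trivial)) le_sup_right)
      · exact le_of_eq_of_le (CfsgLib.Comp.map_conj_eq_iff.2 (hM.A_norm (hM.E_le he)))
          (le_sup_left.trans le_sup_left)
      · rintro _ ⟨b, hb, rfl⟩
        show e * b * e⁻¹ ∈ T1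
        rw [show e * b * e⁻¹ = ⁅e, b⁆ * b by simp [commutatorElement_def, mul_assoc]]
        exact mul_mem ((sup_le (le_sup_left.trans le_sup_left) le_sup_right : A ⊔ V ≤ T1) (comm_mem_sup hD hM he hb))
          (mem_sup_left (mem_sup_right hb))
    have h3 : (t * e) ^ 3 ∈ T1 := by
      have hee : e * e * e = 1 := by rw [← hM.E_exp e he]; simp [pow_succ]
      rw [show (t * e) ^ 3 = t * (e * t * e⁻¹) * (e * (e * t * e⁻¹) * e⁻¹) * (e * e * e) by
        simp [pow_succ, mul_assoc], hee, mul_one]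
      exact mul_mem (mul_mem ht ((mem_normalizer_iff.1 hen t).1 ht))
        ((mem_normalizer_iff.1 hen _).1 ((mem_normalizer_iff.1 hen t).1 ht))
    rw [show t * d * e = (t * e) * d by rw [mul_assoc, hde.eq, mul_assoc],
      (hdt.mul_right hde).symm.mul_pow, hdt.symm.mul_pow, show (9 : ℕ) = 3 * 3 by norm_num,
      pow_mul (t * e), hexp _ h3, pow_mul t, hexp t ht, one_pow]
  have hdvd : Monoid.exponent ↥(S : Subgroup G) ∣ 3 ^ 2 := Monoid.exponent_dvd_of_forall_pow_eq_one
    fun s => Subtype.ext (by simpa using hpow s s.2)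
  obtain ⟨i, hi, he⟩ := (Nat.dvd_prime_pow Nat.prime_three).1 hdvd
  rcases Nat.lt_or_ge i 2 with h2 | h2
  swap
  · rw [he, show i = 2 by omega]; rfl
  exfalso
  obtain ⟨e, hee, b, hb, a, ha, v, hv, hm, heQ, hvZ⟩ := exists_twist hD hM
  have h3 : (b * e) ^ 3 = 1 := by
    have := congrArg Subtype.val (Monoid.pow_exponent_eq_one
      (⟨b * e, mul_mem (B_le_S hD hM hb) (hM.E_le hee)⟩ : ↥(S : Subgroup G)))
    rw [he, SubmonoidClass.coe_pow] at this
    interval_cases i
    · simp at this; rw [this, one_pow]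
    · simpa using this
  set m := ⁅e, b⁆ with hmdef
  set r := ⁅e, v⁆ with hr
  set c := ⁅b, a⁆ with hc
  have hc0 : c ∈ center G := hM.B_central b hb a (hM.A_le ha)
  have hrZ : r ∈ zOf (S : Subgroup G) := by
    rw [hr, ← commutatorElement_inv]
    exact inv_mem (hD.comm_mem v hv e (hM.E_le hee))
  have hrc : ∀ x ∈ (S : Subgroup G), x * r = r * x := fun x hx => hrZ.2 x hx
  have hcc : ∀ x, x * c = c * x := fun x => mem_center_iff.1 hc0 x
  have hea : e * a = a * e := (hM.E_A hee a ha).symm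
  have hebm : e * b = m * b * e := by simp [m, commutatorElement_def, mul_assoc]
  have hev : e * v = r * v * e := by simp [r, commutatorElement_def, mul_assoc]
  have hbv : b * v = v * b := hD.V_cent hv b (hM.B_le hb)
  have hba : b * a = c * a * b := by simp [c, commutatorElement_def, mul_assoc]
  have hem : e * m = r * m * e := by
    rw [hm, ← mul_assoc, hea, mul_assoc a e v, hev]
    simp only [← mul_assoc]
    rw [hrc a (A_le_S hD hM ha)]
  have hbm : b * m = c * m * b := by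
    rw [hm, ← mul_assoc, hba, mul_assoc _ b v, hbv]
    simp only [← mul_assoc]
  have hmS : m ∈ (S : Subgroup G) := by
    rw [hm]; exact mul_mem (A_le_S hD hM ha) (hD.Q_le (hD.V_le hv))
  have heb' : ∀ k : G, e * (b * k) = m * (b * (e * k)) := fun k => by
    rw [← mul_assoc, hebm, mul_assoc, mul_assoc]
  have hem' : ∀ k : G, e * (m * k) = r * (m * (e * k)) := fun k => by
    rw [← mul_assoc, hem, mul_assoc, mul_assoc]
  have e1 : (b * e) ^ 3 = b * m * b * (r * (m * m) * b) * (e * e * e) := by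
    simp only [pow_succ, pow_zero, one_mul, mul_assoc, heb', hem']
  have hm3 : m * m * m = 1 := by
    rw [← sup_A_V_pow hD hM (comm_mem_sup hD hM hee hb)]; simp [m, pow_succ, mul_assoc]
  have hb3 : b * b * b = 1 := by rw [← hM.B_exp b hb]; simp [pow_succ, mul_assoc]
  have he3 : e * e * e = 1 := by rw [← hM.E_exp e hee]; simp [pow_succ, mul_assoc]
  have hrb := hrc b (B_le_S hD hM hb)
  have hrm := hrc m hmS
  rw [e1, he3, mul_one] at h3
  have h4 : b * m * b * (r * (m * m) * b) = c ^ 5 * r := by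
    have hbb : ∀ k : G, b * (m * k) = c * (m * (b * k)) := fun k => by
      rw [← mul_assoc, hbm]; simp only [mul_assoc]
    have hbc : ∀ x k : G, x * (c * k) = c * (x * k) := fun x k => by rw [← mul_assoc, hcc, mul_assoc]
    have hbr : ∀ k : G, b * (r * k) = r * (b * k) := fun k => by rw [← mul_assoc, hrb, mul_assoc]
    have hmr : ∀ k : G, m * (r * k) = r * (m * k) := fun k => by rw [← mul_assoc, hrm, mul_assoc]
    have hb' : b * (b * b) = 1 := by rw [← mul_assoc, hb3]
    have hm' : m * (m * m) = 1 := by rw [← mul_assoc, hm3]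
    simp only [mul_assoc, hbb, hbc, hbr, hmr, hb', mul_one, hm']
    simp only [pow_succ, pow_zero, one_mul, mul_assoc, hbc r, hcc r]
  rw [h4] at h3
  have hrcen : r ∈ center G := by
    rw [show r = (c ^ 5)⁻¹ from eq_inv_of_mul_eq_one_right h3]
    exact inv_mem (pow_mem hc0 5)
  have hve : ⁅v, e⁆ = 1 := by
    refine hD.comm_fix v hv e (hM.E_le hee) ?_
    rw [← commutatorElement_inv, ← hr]
    exact inv_mem hrcen
  exact hvZ (hD.fix e (hM.E_le hee) heQ ⟨hv, mem_centralizer_singleton_iff.2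
    (commutatorElement_eq_one_iff_mul_comm.1 hve)⟩)

end Mid

end CfsgLib.ClassK.Push
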