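import Cfsg.Agent.Lib.ClassK.PushSection
import Cfsg.Agent.Lib.ClassK.PushStructTwo

/-!
Pushing up: `G/O_p(G) ≅ SL₂(q)`, the natural sections `V/(V ∩ Z(G))` and, at distance two,
`O_p(G)/Y`, and `p = 3` at distance two.
-/

set_option autoImplicit false
set_option linter.style.haveILetI false
set_option linter.unusedSectionVars false
set_option maxHeartbeats 1000000

namespace CfsgLib.ClassK.Push

open Subgroup
open scoped MatrixGroups Pointwise commutatorElement

variable {G : Type*} [Group G] [Finite G] {p n : ℕ} [Fact p.Prime] {F : Type*} [Field F] [Fintype F]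

local notation "PS" => Matrix.ProjectiveSpecialLinearGroup (Fin 2) F
local notation "π" => QuotientGroup.mk' (Subgroup.center (Matrix.SpecialLinearGroup (Fin 2) F))
local notation "u" => CfsgLib.Classical.uElt

/-- `φ` sends `S` onto the unitriangular group. -/
def Normalized (S : Sylow p G) (φ : G →* Matrix.ProjectiveSpecialLinearGroup (Fin 2) F) : Prop :=
  (S : Subgroup G).map φ = (CfsgLib.Classical.uSL F).map π

variable {S : Sylow p G} {M : Subgroup G} {φ : G →* Matrix.ProjectiveSpecialLinearGroup (Fin 2) F}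

namespace Pre

variable (h : Pre (F := F) S M φ n)
include h

/-- Move `S` onto the unitriangular group. -/
theorem exists_normalized : ∃ φ' : G →* PS, Pre (F := F) S M φ' n ∧
    Normalized S φ' := by
  obtain ⟨P₀, hP₀, -⟩ := exists_sylow_psl (F := F) h.card
  obtain ⟨v, hv⟩ := MulAction.exists_smul_eq PS (S.mapSurjective h.surj) P₀
  refine ⟨(MulAut.conj v).toMonoidHom.comp φ,
    ⟨h.coatom, h.le, h.unique, (MulAut.conj v).surjective.comp h.surj, h.card⟩, ?_⟩
  show (S : Subgroup G).map _ = _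
  rw [← hP₀, ← hv, Sylow.coe_subgroup_smul, Sylow.coe_mapSurjective, ← Subgroup.map_map]
  rfl

/-- Two lifts to `SL₂` of `φ` agree. -/
theorem rep_unique {ρ ρ' : G →* SL(2, F)} (hρ : ∀ g, π (ρ g) = φ g) (hρ' : ∀ g, π (ρ' g) = φ g) :
    ρ = ρ' := by
  have hz : ∀ g, ρ g * (ρ' g)⁻¹ ∈ center SL(2, F) := fun g => by
    rw [← QuotientGroup.eq_one_iff (N := center SL(2, F))]
    show π (ρ g * (ρ' g)⁻¹) = 1
    rw [map_mul, map_inv, hρ, hρ', mul_inv_cancel]
  have hp : ∀ g, (∃ k, g ^ p ^ k = 1) → ρ g = ρ' g := by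
    rintro g ⟨k, hk⟩
    set z := ρ g * (ρ' g)⁻¹ with hzdef
    have hc : Commute z (ρ' g) := (mem_center_iff.1 (hz g) (ρ' g)).symm
    have h1 : z ^ p ^ k = 1 := by
      have h2 : ρ g = z * ρ' g := by rw [hzdef, inv_mul_cancel_right]
      have h3 := congrArg (· ^ p ^ k) h2
      simp only [← map_pow, hk, map_one, hc.mul_pow, mul_one] at h3
      exact h3.symm
    have h4 : orderOf z ∣ Nat.gcd (Nat.card (center SL(2, F))) (p ^ k) := Nat.dvd_gcd
      ((center SL(2, F)).orderOf_dvd_natCard (hz g)) (orderOf_dvd_of_pow_eq_one h1)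
    rw [(Nat.Coprime.pow_right k ((Nat.Prime.coprime_iff_not_dvd Fact.out).2
      (not_dvd_center (F := F) h.card)).symm).gcd_eq_one, Nat.dvd_one, orderOf_eq_one_iff, hzdef,
      mul_inv_eq_one] at h4
    exact h4
  obtain ⟨x, hx⟩ := h.exists_conjugate_not_le
  have htop : (S : Subgroup G) ⊔ (S : Subgroup G).map (MulAut.conj x).toMonoidHom = ⊤ := by
    by_contra hne
    exact hx (le_sup_right.trans (h.le_of_ne_top le_sup_left hne))
  refine MonoidHom.eq_of_eqOn_dense (s := ((S : Subgroup G) : Set G) ∪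
    ((S : Subgroup G).map (MulAut.conj x).toMonoidHom : Set G))
    (by rw [← sup_eq_closure, htop]) ?_
  rintro g (hg | hg)
  · obtain ⟨k, hk⟩ := S.isPGroup' ⟨g, hg⟩
    exact hp g ⟨k, congrArg Subtype.val hk⟩
  · obtain ⟨k, hk⟩ := (S.isPGroup'.map _) ⟨g, hg⟩
    exact hp g ⟨k, congrArg Subtype.val hk⟩

/-- A section with a fixed line is a natural module. -/
theorem exists_natural (hU : (S : Subgroup G).map φ = (CfsgLib.Classical.uSL F).map π)
    {X N L₀ : Subgroup G} [X.Normal] [N.Normal] (hXQ : X ≤ Cfsg.pCore p G) (hNX : N ≤ X)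
    (hNL : N ≤ L₀) (hLX : L₀ ≤ X) (hexp : ∀ x ∈ X, x ^ p ∈ N) (hab : ∀ x ∈ X, ∀ y ∈ X, ⁅x, y⁆ ∈ N)
    (hX : N.relIndex X = (p ^ n) ^ 2) (hL : N.relIndex L₀ = p ^ n)
    (hfix : ∀ s ∈ (S : Subgroup G), ∀ l ∈ L₀, ⁅s, l⁆ ∈ N)
    (hcomm : ∀ x ∈ X, ∀ s ∈ (S : Subgroup G), ⁅s, x⁆ ∈ L₀)
    (hQc : ∀ y ∈ Cfsg.pCore p G, ∀ x ∈ X, ⁅y, x⁆ ∈ N)
    (hnt : ¬ ∀ g ∈ Cfsg.pResidual p G, ∀ x ∈ X, ⁅x, g⁆ ∈ N) :
    ∃ ρ : G →* SL(2, F), (∀ g, π (ρ g) = φ g) ∧ Natural ρ X N ∧ Cfsg.pCore p G ≤ ρ.ker ∧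
      ∀ x ∈ X, (∀ s ∈ (S : Subgroup G), ⁅s, x⁆ ∈ N) → x ∈ L₀ := by
  have hNker : N ≤ φ.ker := (hNX.trans hXQ).trans (h.pCore_eq.le.trans inf_le_right)
  have hq := h.quotient hNker
  set σ := QuotientGroup.mk' N with hσ
  have hσs := QuotientGroup.mk'_surjective N
  have h1 : ∀ {x : G}, σ x = 1 ↔ x ∈ N := fun {x} => QuotientGroup.eq_one_iff x
  have hQ : Cfsg.pCore p (G ⧸ N) ≤ (Cfsg.pCore p G).map σ := by
    intro x hx
    obtain ⟨hxS, hxk⟩ := hq.pCore_eq.le hx
    rw [Sylow.coe_mapSurjective] at hxS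
    obtain ⟨s, hs, rfl⟩ := hxS
    exact mem_map_of_mem σ ((h.mem_pCore_iff hs).2 hxk)
  have hmem : ∀ {H : Subgroup G}, N ≤ H → ∀ {x : G}, σ x ∈ H.map σ ↔ x ∈ H := fun {H} hH {x} => by
    rw [← Subgroup.mem_comap, comap_map_eq, QuotientGroup.ker_mk', sup_eq_left.2 hH]
  have hP : Plane p (p ^ n) ((S.mapSurjective hσs : Sylow p (G ⧸ N)) : Subgroup (G ⧸ N))
      (Cfsg.pCore p (G ⧸ N)) (X.map σ) (L₀.map σ) := by
    refine ⟨Subgroup.Normal.map inferInstance _ hσs, ?_, ?_, map_mono hLX, ?_, ?_, ?_, ?_, ?_, ?_⟩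
    · rintro _ ⟨x, hx, rfl⟩ _ ⟨y, hy, rfl⟩
      rw [← commutatorElement_eq_one_iff_mul_comm, ← map_commutatorElement]
      exact h1.2 (hab y hy x hx)
    · rintro _ ⟨x, hx, rfl⟩
      rw [← map_pow]
      exact h1.2 (hexp x hx)
    · rw [← relIndex_ker, hσ, QuotientGroup.ker_mk', hX]
    · rw [← relIndex_ker, hσ, QuotientGroup.ker_mk', hL]
    · rw [Sylow.coe_mapSurjective]
      rintro _ ⟨s, hs, rfl⟩ _ ⟨l, hl, rfl⟩
      rw [← commutatorElement_eq_one_iff_mul_comm, ← map_commutatorElement, ← commutatorElement_inv,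
        map_inv, inv_eq_one]
      exact h1.2 (hfix s hs l hl)
    · rintro _ ⟨x, hx, rfl⟩ z hz
      rw [Sylow.coe_mapSurjective] at hz
      obtain ⟨s, hs, rfl⟩ := hz
      rw [← map_inv, ← map_inv, ← map_mul, ← map_mul, ← map_mul]
      exact mem_map_of_mem σ (hcomm x hx s hs)
    · refine hQ.trans ?_
      rintro _ ⟨y, hy, rfl⟩ _ ⟨x, hx, rfl⟩
      rw [← commutatorElement_eq_one_iff_mul_comm, ← map_commutatorElement, ← commutatorElement_inv,
        map_inv, inv_eq_one]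
      exact h1.2 (hQc y hy x hx)
    · intro hle
      refine hnt fun g hg x hx => h1.1 ?_
      rw [map_commutatorElement, commutatorElement_eq_one_iff_mul_comm]
      exact hle (CfsgLib.Transfer.map_pResidual_le σ (mem_map_of_mem σ hg)) _ (mem_map_of_mem σ hx)
  have hU' : ((S.mapSurjective hσs : Sylow p (G ⧸ N)) : Subgroup (G ⧸ N)).map
      (QuotientGroup.lift N φ hNker) = (CfsgLib.Classical.uSL F).map π := by
    rw [Sylow.coe_mapSurjective, Subgroup.map_map, ← hU]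
    rfl
  obtain ⟨ρ, ψ, hsurj, hρφ, hker, hψ⟩ := hq.exists_plane_rep hP hU'
  refine ⟨ρ.comp σ, fun g => hρφ (σ g), ?_, ?_, ?_⟩
  · refine ⟨inferInstance, inferInstance, hNX, hsurj.comp hσs, ?_⟩
    refine ⟨(MulEquiv.toMonoidHom (AddEquiv.toMultiplicativeRight ψ)).comp
      ((σ.comp X.subtype).codRestrict _ fun x => mem_map_of_mem σ x.2), ?_, ?_, fun g x x' hx => ?_⟩
    · refine (AddEquiv.toMultiplicativeRight ψ).surjective.comp ?_
      rintro ⟨_, x, hx, rfl⟩
      exact ⟨⟨x, hx⟩, rfl⟩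
    · ext x
      rw [MonoidHom.mem_ker, mem_subgroupOf, MonoidHom.comp_apply, MulEquiv.coe_toMonoidHom,
        MulEquiv.map_eq_one_iff]
      constructor
      · intro hx
        exact h1.1 (congrArg Subtype.val hx)
      · intro hx
        exact Subtype.ext (h1.2 hx)
    · refine hψ (σ g) ⟨σ x, mem_map_of_mem σ x.2⟩ ⟨σ x', mem_map_of_mem σ x'.2⟩ ?_
      show σ x' = σ g * σ x * (σ g)⁻¹
      rw [hx, map_mul, map_mul, map_inv]
  · intro y hy
    refine MonoidHom.mem_ker.2 (MonoidHom.mem_ker.1 (hker.ge ?_))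
    rintro _ ⟨x, hx, rfl⟩
    rw [← commutatorElement_eq_one_iff_mul_comm, ← map_commutatorElement, ← commutatorElement_inv,
      map_inv, inv_eq_one]
    exact h1.2 (hQc y hy x hx)
  · intro x hx hs
    refine (hmem hNL).1 ((hq.mem_line_iff hP).2 ⟨mem_map_of_mem σ hx, fun z hz => ?_⟩)
    rw [Sylow.coe_mapSurjective] at hz
    obtain ⟨s, hs', rfl⟩ := hz
    rw [← commutatorElement_eq_one_iff_mul_comm, ← map_commutatorElement]
    exact h1.2 (hs s hs')

end Pre

theorem eq_one_of_coprime_pow {x : G} (hx : (orderOf x).Coprime p) {k : ℕ} (hk : x ^ p ^ k = 1) :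
    x = 1 :=
  orderOf_eq_one_iff.1 (Nat.eq_one_of_dvd_coprimes (hx.pow_right k) dvd_rfl (orderOf_dvd_of_pow_eq_one hk))

namespace Sit

variable (h : Sit (F := F) S M φ n) (hd : NoChar S)
  (hU : Normalized S φ)
  {V : Subgroup G} (hD : Datum p (S : Subgroup G) (Cfsg.pCore p G) V (p ^ n))
include h hd hU hD

omit hd hU in
/-- `O^p(G)` moves the module. -/
theorem residual_moves : ¬ Cfsg.pResidual p G ≤ centralizer (V : Set G) := fun hc => by
  refine hD.not_central fun z hz => mem_center_iff.2 fun g => ?_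
  have hle : (⊤ : Subgroup G) ≤ centralizer ({z} : Set G) :=
    (CfsgLib.Transfer.pResidual_sup_sylow S).ge.trans (sup_le
      (hc.trans (centralizer_le (Set.singleton_subset_iff.2 (hD.center_le hz))))
      (fun s hs => mem_centralizer_singleton_iff.2 (hz.2 s hs)))
  exact mem_centralizer_singleton_iff.1 (hle (mem_top g))

omit hd in
theorem natural_module : ∃ ρ : G →* SL(2, F), (∀ g, π (ρ g) = φ g) ∧
    Natural ρ V (V ⊓ center G) ∧ Cfsg.pCore p G ≤ ρ.ker := by
  haveI := hD.V_normal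
  have hCZ : V ⊓ center G ≤ zOf (S : Subgroup G) := fun c hc =>
    ⟨hD.Q_le (hD.V_le hc.1), fun s _ => mem_center_iff.1 hc.2 s⟩
  obtain ⟨ρ, hρ, hnat, hQ, -⟩ := h.toPre.exists_natural hU (X := V) (N := V ⊓ center G)
    (L₀ := zOf (S : Subgroup G)) hD.V_le inf_le_left hCZ hD.center_le
    (fun x hx => by rw [hD.exp x hx]; exact one_mem _)
    (fun x hx y hy => by
      rw [commutatorElement_eq_one_iff_mul_comm.2 (hD.V_ab hx hy).eq]; exact one_mem _)
    (by
      have hm := relIndex_mul_relIndex (V ⊓ center G) (zOf (S : Subgroup G)) V hCZ hD.center_le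
      rw [hD.relC, hD.relV] at hm
      rw [← hm, sq])
    hD.relC
    (fun s hs l hl => by
      rw [commutatorElement_eq_one_iff_mul_comm.2 (hl.2 s hs)]; exact one_mem _)
    (fun x hx s hs => by rw [← commutatorElement_inv]; exact inv_mem (hD.comm_mem x hx s hs))
    (fun y hy x hx => by
      rw [commutatorElement_eq_one_iff_mul_comm.2 (hD.V_cent hx y hy)]; exact one_mem _)
    (fun hall => h.residual_moves hD ((closure_le _).2 fun g hg v hv => by
      refine commutatorElement_eq_one_iff_mul_comm.1 (commutatorElement_eq_one_of_coprime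
        CfsgLib.Amalgam.isPGroup_pCore hg (hD.V_le (hall g (subset_closure hg) v hv).1)
          (commutatorElement_eq_one_iff_mul_comm.2 ?_))
      exact (mem_center_iff.1 (hall g (subset_closure hg) v hv).2 g).symm))
  exact ⟨ρ, hρ, hnat, hQ⟩

omit hU in
theorem fix_of_ker {ρ : G →* SL(2, F)} (hn : Natural ρ V (V ⊓ center G)) {x : G} (hx : ρ x = 1)
    (hxo : (orderOf x).Coprime p) : ∀ v ∈ V, ⁅v, x⁆ = 1 := fun v hv => by
  have h1 := hn.acts_trivially hx hv
  exact commutatorElement_eq_one_of_coprime CfsgLib.Amalgam.isPGroup_pCore hxo (hD.V_le h1.1)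
    (commutatorElement_eq_one_iff_mul_comm.2 (mem_center_iff.1 h1.2 x).symm)

omit hd hU in
theorem ker_eq_pCore {ρ : G →* SL(2, F)} (hQ : Cfsg.pCore p G ≤ ρ.ker)
    (hfix : ∀ x ∈ ρ.ker, (orderOf x).Coprime p → ∀ y ∈ Cfsg.pCore p G, ⁅y, x⁆ = 1) :
    ρ.ker = Cfsg.pCore p G := by
  refine le_antisymm (CfsgLib.Amalgam.le_pCore inferInstance
    (CfsgLib.PLocal.isPGroup_of_forall_coprime fun x hx hxo => ?_)) hQ
  obtain ⟨k, hk⟩ := CfsgLib.Amalgam.isPGroup_pCore ⟨x, h.charP fun y hy =>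
    commutatorElement_eq_one_iff_mul_comm.1 (hfix x hx hxo y hy)⟩
  exact eq_one_of_coprime_pow hxo (congrArg Subtype.val hk)

/-- Distance one. -/
theorem ker_eq_one {ρ : G →* SL(2, F)} (hn : Natural ρ V (V ⊓ center G)) (hQ : Cfsg.pCore p G ≤ ρ.ker)
    (hLQ : ∀ x ∈ Cfsg.pResidual p G, ∀ y ∈ Cfsg.pCore p G, ⁅y, x⁆ ∈ V) :
    ρ.ker = Cfsg.pCore p G := by
  refine h.ker_eq_pCore hD hQ fun x hx hxo y hy => ?_
  have hc := hLQ x (CfsgLib.Transfer.mem_pResidual_of_coprime hxo) y hy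
  exact commutatorElement_eq_one_of_coprime CfsgLib.Amalgam.isPGroup_pCore hxo (hD.V_le hc)
    (h.fix_of_ker hd hD hn (MonoidHom.mem_ker.1 hx) hxo _ hc)

section Mid

variable {A B E : Subgroup G} {g : G}

section Any

variable {q₀ : ℕ} (hM : Mid p q₀ (S : Subgroup G) (Cfsg.pCore p G) V A B E g)
include hM

omit hd hU in
/-- Distance two: facts about `O_p/Y`. -/
theorem mid_facts :
    let Y := Cfsg.pCore p G ⊓ centralizer (A : Set G) ⊓ centralizer (B : Set G)
    Y.Normal ∧ ⁅Cfsg.pCore p G, Cfsg.pCore p G⁆ ≤ Y ∧ (∀ x ∈ Cfsg.pCore p G, x ^ p ∈ Y) ∧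
      ⁅A ⊔ Y, (S : Subgroup G)⁆ ≤ Y ∧ ⁅(S : Subgroup G), Cfsg.pCore p G⁆ ≤ A ⊔ Y ∧
      (A ⊔ Y) ⊓ B = cj g (zOf (S : Subgroup G)) ∧ (A ⊔ Y) ⊔ B = Cfsg.pCore p G ∧
      B ≤ normalizer ((A ⊔ Y : Subgroup G) : Set G) ∧ A ⊓ Y = zOf (S : Subgroup G) ∧
      ¬ ∀ x ∈ Cfsg.pResidual p G, ∀ y ∈ Cfsg.pCore p G, ⁅y, x⁆ ∈ Y := by
  intro Y'
  haveI := hD.Q_normal
  haveI := hD.V_normal
  set Q := Cfsg.pCore p G
  set Y := Q ⊓ centralizer (A : Set G) ⊓ centralizer (B : Set G) with hY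
  haveI : Y.Normal := Mid.y_normal hD hM
  set T := A ⊔ Y with hT
  have hVY : V ≤ Y := fun v hv => ⟨⟨hD.V_le hv, fun a ha => hD.V_cent hv a (hM.A_le ha)⟩,
    fun b hb => hD.V_cent hv b (hM.B_le hb)⟩
  have hcY : ∀ c ∈ center G, c ∈ Q → c ∈ Y := fun c hc hcQ =>
    ⟨⟨hcQ, fun a _ => mem_center_iff.1 hc a⟩, fun b _ => mem_center_iff.1 hc b⟩
  have hYn : ∀ {y : G}, y ∈ Y → ∀ z, ⁅y, z⁆ ∈ Y := fun {y} hy z =>
    commutator_le_left Y ⊤ (commutator_mem_commutator hy (mem_top z))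
  have hdle : Q ⊓ centralizer (A : Set G) ≤ T := (Mid.d_le hD hM).trans
    (sup_le (sup_le le_sup_left (hVY.trans le_sup_right)) (inf_le_left.trans le_sup_right))
  have hQgen : Q ≤ closure ((A : Set G) ∪ B ∪ Y) := by
    refine hM.Q_A.trans (sup_le (fun x hx => subset_closure (Or.inl (Or.inr hx))) (hdle.trans ?_))
    exact sup_le (fun x hx => subset_closure (Or.inl (Or.inl hx))) fun x hx => subset_closure (Or.inr hx)
  have hbQ : ∀ {a b : G}, a ∈ Q → b ∈ Q → ⁅a, b⁆ ∈ Q := fun ha hb =>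
    commutator_le_self Q (commutator_mem_commutator ha hb)
  have hgenY : ∀ x ∈ ((A : Set G) ∪ B ∪ Y), x ∈ Q := by
    rintro x ((hx | hx) | hx)
    exacts [hM.A_le hx, hM.B_le hx, hx.1.1]
  have hQQ : ⁅Q, Q⁆ ≤ Y := by
    refine commutator_le_of_generators hQgen hQgen (fun _ _ => by rw [normalizer_eq_top]; trivial)
      (fun _ _ => by rw [normalizer_eq_top]; trivial) fun x hx y hy => ?_
    rcases hx with (hx | hx) | hx
    · exact hcY _ (hM.A_central x hx y (hgenY y hy)) (hbQ (hM.A_le hx) (hgenY y hy))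
    · exact hcY _ (hM.B_central x hx y (hgenY y hy)) (hbQ (hM.B_le hx) (hgenY y hy))
    · exact hYn hx y
  have hTQ : T ≤ Q := sup_le hM.A_le (inf_le_left.trans inf_le_left)
  have hAY : A ⊓ Y ≤ zOf (S : Subgroup G) := fun a ha => hM.A_inter ⟨ha.1, ha.2.2⟩
  have hZgY : cj g (zOf (S : Subgroup G)) ≤ Y := by
    rintro _ ⟨z, hz, rfl⟩
    exact hVY (hD.V_normal.conj_mem z (hD.center_le hz) g)
  have hBn : B ≤ normalizer (T : Set G) := by
    intro b hb
    refine cj_le_normalizer_iff ?_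
    show T.map _ ≤ T
    rw [hT, Subgroup.map_sup]
    refine sup_le ?_ (le_of_eq_of_le (CfsgLib.Comp.map_conj_eq_iff.2
      (by rw [normalizer_eq_top]; trivial)) le_sup_right)
    rintro _ ⟨a, ha, rfl⟩
    show b * a * b⁻¹ ∈ A ⊔ Y
    rw [show b * a * b⁻¹ = ⁅b, a⁆ * a by simp [commutatorElement_def, mul_assoc]]
    exact mul_mem (mem_sup_right (hQQ (commutator_mem_commutator (hM.B_le hb) (hM.A_le ha))))
      (mem_sup_left ha)
  have hYS : (Y : Subgroup G) ≤ (S : Subgroup G) := (inf_le_left.trans inf_le_left).trans hD.Q_le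
  have hTB : T ⊓ B = cj g (zOf (S : Subgroup G)) := by
    refine le_antisymm ?_ (le_inf (hZgY.trans le_sup_right) hM.B_center)
    rintro x ⟨hxT, hxB⟩
    refine hM.B_inter ⟨hxB, ?_⟩
    exact (sup_le hM.A_ab (inf_le_left.trans inf_le_right) : T ≤ centralizer (A : Set G)) hxT
  have hsup : T ⊔ B = Q := le_antisymm (sup_le hTQ hM.B_le) (hM.Q_A.trans (sup_le le_sup_right (hdle.trans le_sup_left)))
  have hexp : ∀ x ∈ Q, x ^ p ∈ Y := by
    intro x hx
    have hx' := hQgen hx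
    clear hx
    suffices hh : x ∈ Q ∧ x ^ p ∈ Y from hh.2
    induction hx' using Subgroup.closure_induction with
    | mem x hx =>
      refine ⟨hgenY x hx, ?_⟩
      rcases hx with (hx | hx) | hx
      · rw [hM.A_exp x hx]; exact one_mem _
      · rw [hM.B_exp x hx]; exact one_mem _
      · exact pow_mem hx p
    | one => exact ⟨one_mem _, by rw [one_pow]; exact one_mem _⟩
    | mul x y _ _ ihx ihy =>
      refine ⟨mul_mem ihx.1 ihy.1, ?_⟩
      rw [← QuotientGroup.eq_one_iff (N := Y)]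
      show QuotientGroup.mk' Y ((x * y) ^ p) = 1
      have hc : Commute (QuotientGroup.mk' Y x) (QuotientGroup.mk' Y y) := by
        rw [← commutatorElement_eq_one_iff_commute, ← map_commutatorElement]
        exact (QuotientGroup.eq_one_iff _).2 (hQQ (commutator_mem_commutator ihx.1 ihy.1))
      rw [map_pow, map_mul, hc.mul_pow, ← map_pow, ← map_pow,
        show QuotientGroup.mk' Y (x ^ p) = 1 from (QuotientGroup.eq_one_iff _).2 ihx.2,
        show QuotientGroup.mk' Y (y ^ p) = 1 from (QuotientGroup.eq_one_iff _).2 ihy.2, mul_one]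
    | inv x _ ih => exact ⟨inv_mem ih.1, by rw [inv_pow]; exact inv_mem ih.2⟩
  have hSn : (S : Subgroup G) ≤ normalizer (T : Set G) :=
    CfsgLib.Comp.le_normalizer_sup hM.A_norm (by rw [normalizer_eq_top]; exact le_top)
  have hfix : ⁅T, (S : Subgroup G)⁆ ≤ Y := by
    refine commutator_le_of_generators (X := (A : Set G) ∪ Y)
      (sup_le (fun x hx => subset_closure (Or.inl hx)) fun x hx => subset_closure (Or.inr hx))
      (Y := ((S : Subgroup G) : Set G)) (fun x hx => subset_closure hx)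
      (fun _ _ => by rw [normalizer_eq_top]; trivial) (fun _ _ => by rw [normalizer_eq_top]; trivial) ?_
    rintro x (hx | hx) s hs
    · exact hVY (hD.center_le (hM.A_comm x hx s hs))
    · exact hYn hx s
  have hcomm : ⁅(S : Subgroup G), Q⁆ ≤ T := by
    refine commutator_le_of_generators (X := (E : Set G) ∪ (A ∪ B ∪ Y)) (hM.cover.trans (sup_le
      (fun x hx => subset_closure (Or.inl hx)) (hQgen.trans (closure_mono Set.subset_union_right))))
      hQgen ?_ ?_ ?_
    · rintro x (hx | ((hx | hx) | hx))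
      exacts [hSn (hM.E_le hx), hSn (hD.Q_le (hM.A_le hx)), hBn hx, hSn (hYS hx)]
    · rintro x ((hx | hx) | hx)
      exacts [hSn (hD.Q_le (hM.A_le hx)), hBn hx, hSn (hYS hx)]
    · rintro x (hx | hx) y hy
      · rcases hy with (hy | hy) | hy
        · rw [commutatorElement_eq_one_iff_mul_comm.2 (hM.E_A hx y hy).symm]; exact one_mem _
        · exact (sup_le le_sup_left (hVY.trans le_sup_right) : A ⊔ V ≤ T) (Mid.comm_mem_sup hD hM hx hy)
        · rw [← commutatorElement_inv]; exact mem_sup_right (inv_mem (hYn hy x))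
      · exact mem_sup_right (hQQ (commutator_mem_commutator (hgenY x hx) (hgenY y hy)))
  have hnt : ¬ ∀ x ∈ Cfsg.pResidual p G, ∀ y ∈ Q, ⁅y, x⁆ ∈ Y := by
    intro hall
    obtain ⟨e, he, b, hb, heb⟩ := hM.twistV
    haveI := CfsgLib.Transfer.pResidual_normal (G := G) (p := p)
    obtain ⟨l, hl, s₀, hs₀, hgls⟩ := mem_sup_of_normal_left.1
      ((CfsgLib.Transfer.pResidual_sup_sylow S).ge (mem_top g))
    set σ := QuotientGroup.mk' Y
    set t := g * (s₀⁻¹ * e * s₀) * g⁻¹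
    have htB : ⁅b, t⁆ ∈ Y := hVY (by
      have h1 := hM.B_comm b hb t
        ⟨_, mul_mem (mul_mem (inv_mem hs₀) (hM.E_le he)) hs₀, rfl⟩
      obtain ⟨z, hz, hz'⟩ := h1
      rw [← hz']
      exact hD.V_normal.conj_mem z (hD.center_le hz) g)
    have hl' : ∀ y ∈ Q, Commute (σ y) (σ l) := fun y hy => by
      rw [← commutatorElement_eq_one_iff_commute, ← map_commutatorElement]
      exact (QuotientGroup.eq_one_iff _).2 (hall l hl y hy)
    have ht : t = l * e * l⁻¹ := by simp [t, ← hgls, mul_assoc]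
    have hteq : ∀ y ∈ Q, σ (t * y * t⁻¹) = σ (e * y * e⁻¹) := by
      intro y hy
      have h1 : Commute (σ y) (σ l) := hl' y hy
      have h2 : Commute (σ (e * y * e⁻¹)) (σ l) := hl' _ (hD.Q_normal.conj_mem y hy e)
      rw [ht, show l * e * l⁻¹ * y * (l * e * l⁻¹)⁻¹ = l * (e * (l⁻¹ * y * l) * e⁻¹) * l⁻¹ by group]
      simp only [map_mul, map_inv] at h2 ⊢
      rw [show (σ l)⁻¹ * σ y * σ l = σ y by rw [mul_assoc, h1.eq, inv_mul_cancel_left],
        ← h2.eq, mul_inv_cancel_right]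
    obtain ⟨v, hv, a, ha, hva⟩ := mem_sup_of_normal_left.1
      ((sup_comm A V).le (Mid.comm_mem_sup hD hM he hb))
    have haY : a ∈ Y := by
      have h1 : ⁅e, b⁆ ∈ Y := by
        rw [← QuotientGroup.eq_one_iff (N := Y)]
        show σ (e * b * e⁻¹ * b⁻¹) = 1
        rw [map_mul, ← hteq b (hM.B_le hb), ← map_mul]
        refine (QuotientGroup.eq_one_iff _).2 ?_
        show ⁅t, b⁆ ∈ Y
        rw [← commutatorElement_inv]; exact inv_mem htB
      rw [show a = v⁻¹ * ⁅e, b⁆ by rw [← hva, inv_mul_cancel_left]]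
      exact mul_mem (inv_mem (hVY hv)) h1
    exact heb (hva ▸ mul_mem hv (hD.center_le (hAY ⟨ha, haY⟩)))
  exact ⟨inferInstanceAs Y.Normal, hQQ, hexp, hfix, hcomm, hTB, hsup, hBn,
    le_antisymm hAY (le_inf hM.A_center (hD.center_le.trans hVY)), hnt⟩

omit hd hU in
/-- The parameter of the middle bounds the one of the neighbours from below. -/
theorem le_mid_param : p ^ n ≤ q₀ := by
  haveI := hD.Q_normal
  haveI := hD.V_normal
  obtain ⟨hYn, hQQ, hexp, hfix, -, hTB, hsup, hBn, -, hnt⟩ := h.mid_facts hD hM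
  set Q := Cfsg.pCore p G
  set Y := Q ⊓ centralizer (A : Set G) ⊓ centralizer (B : Set G)
  haveI := hYn
  set T := A ⊔ Y with hT
  set σ := QuotientGroup.mk' Y
  have hσs := QuotientGroup.mk'_surjective Y
  have hq := h.toPre.quotient (N := Y) ((inf_le_left.trans inf_le_left).trans h.pCore_le_ker)
  haveI : (Q.map σ).Normal := Subgroup.Normal.map inferInstance _ hσs
  have hW : ∀ w ∈ Q.map σ, w ^ p = 1 := by
    rintro _ ⟨x, hx, rfl⟩
    rw [← map_pow]
    exact (QuotientGroup.eq_one_iff _).2 (hexp x hx)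
  have hWab : Q.map σ ≤ centralizer (Q.map σ : Set (G ⧸ Y)) := by
    rintro _ ⟨x, hx, rfl⟩ _ ⟨y, hy, rfl⟩
    rw [← commutatorElement_eq_one_iff_mul_comm, ← map_commutatorElement]
    exact (QuotientGroup.eq_one_iff _).2 (hQQ (commutator_mem_commutator hy hx))
  have hWc : ¬ Cfsg.pResidual p (G ⧸ Y) ≤ centralizer (Q.map σ : Set (G ⧸ Y)) := by
    intro hle
    set C := (centralizer (Q.map σ : Set (G ⧸ Y))).comap σ
    have hC : Cfsg.pResidual p G ≤ C := CfsgLib.Transfer.pResidual_le_of_isPGroup_quotient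
      (CfsgLib.Transfer.isPGroup_quotient_of_coprime_mem fun x hx =>
        hle (CfsgLib.Transfer.mem_pResidual_of_coprime (hx.coprime_dvd_left (orderOf_map_dvd σ x))))
    refine hnt fun x hx y hy => ?_
    rw [← QuotientGroup.eq_one_iff]
    show σ ⁅y, x⁆ = 1
    rw [map_commutatorElement, commutatorElement_eq_one_iff_mul_comm]
    exact hC hx _ (mem_map_of_mem σ hy)
  obtain ⟨e, he, b, -, a, -, v, -, -, heQ, -⟩ := Mid.exists_twist hD hM
  have heS := hM.E_le he
  have h1 : p ^ n ≤ (Q.map σ ⊓ centralizer ({σ e} : Set (G ⧸ Y))).relIndex (Q.map σ) :=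
    hq.le_relIndex_centralizer hW hWab hWc (a := σ e)
      (by rw [Sylow.coe_mapSurjective]; exact mem_map_of_mem σ heS)
      (fun e1 => heQ ((h.mem_pCore_iff heS).2 e1))
  rw [← relIndex_comap] at h1
  have hTle : T ≤ (Q.map σ ⊓ centralizer ({σ e} : Set (G ⧸ Y))).comap σ := fun x hx =>
    mem_comap.2 (mem_inf.2 ⟨mem_map_of_mem σ (sup_le hM.A_le (inf_le_left.trans inf_le_left) hx),
      mem_centralizer_singleton_iff.2 (by
        rw [← commutatorElement_eq_one_iff_mul_comm, ← map_commutatorElement]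
        exact (QuotientGroup.eq_one_iff _).2 (hfix (commutator_mem_commutator hx heS)))⟩)
  have hnn : T ⊔ B ≤ normalizer (T : Set G) := sup_le Subgroup.le_normalizer hBn
  calc p ^ n ≤ T.relIndex Q :=
        h1.trans (Nat.le_of_dvd (relIndex_pos' _ _) (relIndex_dvd_of_le_left _ hTle))
    _ = T.relIndex B := by
        haveI : (T.subgroupOf (T ⊔ B)).Normal := normal_subgroupOf_of_le_normalizer hnn
        have hTB' : T.relIndex (T ⊔ B) = T.relIndex B := by
          rw [← relIndex_subgroupOf (le_refl (T ⊔ B)), ← relIndex_subgroupOf (le_sup_right : B ≤ T ⊔ B),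
            subgroupOf_sup le_sup_left le_sup_right, relIndex_sup_left]
        rw [← hsup, hTB']
    _ = (cj g (zOf (S : Subgroup G))).relIndex B := by rw [← inf_relIndex_right, hTB]
    _ = q₀ := hM.B_rel

omit hd hU in
/-- `O^p` is trivial on `Y/V`. -/
theorem residual_y : ∀ x ∈ Cfsg.pResidual p G,
    ∀ y ∈ Cfsg.pCore p G ⊓ centralizer (A : Set G) ⊓ centralizer (B : Set G), ⁅y, x⁆ ∈ V := by
  haveI := hD.V_normal
  haveI : (Cfsg.pCore p G ⊓ centralizer (A : Set G) ⊓ centralizer (B : Set G)).Normal :=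
    Mid.y_normal hD hM
  obtain ⟨e, he, b, hb, a, ha, v, hv, hm, heQ, hvZ⟩ := Mid.exists_twist hD hM
  exact h.residual_act hD (hM.E_le he) heQ fun y hy => hM.E_act y hy.1 e he


end Any

variable (hM : Mid p (p ^ n) (S : Subgroup G) (Cfsg.pCore p G) V A B E g)
include hM

omit hd in
/-- Distance two: `O_p/Y` is natural, for the same representation. -/
theorem natural_top {ρ : G →* SL(2, F)} (hρ : ∀ g, π (ρ g) = φ g) :
    Natural ρ (Cfsg.pCore p G)
      (Cfsg.pCore p G ⊓ centralizer (A : Set G) ⊓ centralizer (B : Set G)) ∧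
    ∀ x ∈ Cfsg.pCore p G, (∀ s ∈ (S : Subgroup G), ⁅s, x⁆ ∈
        Cfsg.pCore p G ⊓ centralizer (A : Set G) ⊓ centralizer (B : Set G)) →
      x ∈ A ⊔ (Cfsg.pCore p G ⊓ centralizer (A : Set G) ⊓ centralizer (B : Set G)) := by
  haveI := hD.Q_normal
  obtain ⟨hYn, hQQ, hexp, hfix, hcomm, hTB, hsup, hBn, hAY, hnt⟩ := h.mid_facts hD hM
  set Q := Cfsg.pCore p G
  set Y := Q ⊓ centralizer (A : Set G) ⊓ centralizer (B : Set G)
  haveI := hYn
  set T := A ⊔ Y with hT
  have hTQ : T ≤ Q := sup_le hM.A_le (inf_le_left.trans inf_le_left)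
  have hrelA : Y.relIndex T = p ^ n := by
    rw [hT, relIndex_sup_right, ← inf_relIndex_right, inf_comm, hAY, hM.A_rel]
  have hrelT : T.relIndex Q = p ^ n := by
    have hnn : T ⊔ B ≤ normalizer (T : Set G) := sup_le Subgroup.le_normalizer hBn
    haveI : (T.subgroupOf (T ⊔ B)).Normal := normal_subgroupOf_of_le_normalizer hnn
    have hTB' : T.relIndex (T ⊔ B) = T.relIndex B := by
      rw [← relIndex_subgroupOf (le_refl (T ⊔ B)), ← relIndex_subgroupOf (le_sup_right : B ≤ T ⊔ B),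
        subgroupOf_sup le_sup_left le_sup_right, relIndex_sup_left]
    rw [← hsup, hTB', ← inf_relIndex_right, hTB, hM.B_rel]
  obtain ⟨ρ', hρ', hnat, -, hline⟩ := h.toPre.exists_natural hU (X := Q) (N := Y) (L₀ := T) le_rfl
    (inf_le_left.trans inf_le_left) le_sup_right hTQ hexp
    (fun x hx y hy => hQQ (commutator_mem_commutator hx hy))
    (by
      rw [← relIndex_mul_relIndex Y T Q le_sup_right hTQ, hrelA, hrelT, sq])
    hrelA
    (fun s hs l hl => by
      rw [← commutatorElement_inv]; exact inv_mem (hfix (commutator_mem_commutator hl hs)))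
    (fun x hx s hs => hcomm (commutator_mem_commutator hs hx))
    (fun y hy x hx => hQQ (commutator_mem_commutator hy hx)) hnt
  rw [h.toPre.rep_unique hρ hρ']
  exact ⟨hnat, hline⟩

/-- Distance two. -/
theorem ker_eq_two {ρ : G →* SL(2, F)} (hn : Natural ρ V (V ⊓ center G))
    (hQ : Cfsg.pCore p G ≤ ρ.ker) (hρ : ∀ g, π (ρ g) = φ g) : ρ.ker = Cfsg.pCore p G := by
  haveI := hD.V_normal
  refine h.ker_eq_pCore hD hQ fun x hx hxo y hy => ?_
  have hxL := CfsgLib.Transfer.mem_pResidual_of_coprime hxo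
  have hfixY : ∀ z ∈ Cfsg.pCore p G ⊓ centralizer (A : Set G) ⊓ centralizer (B : Set G), ⁅z, x⁆ = 1 :=
    fun z hz => by
      have hc := h.residual_y hD hM x hxL z hz
      exact commutatorElement_eq_one_of_coprime CfsgLib.Amalgam.isPGroup_pCore hxo (hD.V_le hc)
        (h.fix_of_ker hd hD hn (MonoidHom.mem_ker.1 hx) hxo _ hc)
  have hc := (h.natural_top hU hD hM hρ).1.acts_trivially (MonoidHom.mem_ker.1 hx) hy
  exact commutatorElement_eq_one_of_coprime CfsgLib.Amalgam.isPGroup_pCore hxo hc.1.1 (hfixY _ hc)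

end Mid

end Sit

end CfsgLib.ClassK.Push
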