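import Cfsg.Agent.Lib.ClassK.PushStructTwo
import Cfsg.Prelude.Def_EvenTechniques
import Cfsg.Agent.Lib.PLocal.PSLTwoBorel
import Cfsg.Agent.Lib.PLocal.Section

/-!
Pushing up: irreducibility of `V/(V ∩ Z(G))`, and the near component of a group with
`G/O₂(G) ≅ PSL₂(2ⁿ)` and `[O₂(G), O²(G)] ≤ V`.
-/

set_option autoImplicit false
set_option linter.style.haveILetI false
set_option linter.unusedSectionVars false
set_option maxHeartbeats 1000000

namespace CfsgLib.ClassK.Push

open Subgroup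
open scoped MatrixGroups Pointwise commutatorElement

variable {G : Type*} [Group G] [Finite G] {p n : ℕ} [Fact p.Prime]

/-- A `p'`-element acting on a `p`-group moves nothing it moves only once. -/
theorem commutatorElement_eq_one_of_coprime {Q : Subgroup G} (hQ : IsPGroup p Q) {x y : G}
    (hx : (orderOf x).Coprime p) (hc : ⁅y, x⁆ ∈ Q) (hcx : ⁅⁅y, x⁆, x⁆ = 1) : ⁅y, x⁆ = 1 := by
  set c := ⁅y, x⁆ with hcdef
  have hcomm : Commute c x := commutatorElement_eq_one_iff_mul_comm.1 hcx
  have e : y * x * y⁻¹ = c * x := by simp [c, commutatorElement_def]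
  have h1 : c ^ orderOf x = 1 := by
    have h2 := congrArg (· ^ orderOf x) e
    simp only [conj_pow, pow_orderOf_eq_one, mul_one, mul_inv_cancel, hcomm.mul_pow] at h2
    exact h2.symm
  obtain ⟨k, hk⟩ := hQ ⟨c, hc⟩
  have hk' : c ^ p ^ k = 1 := by simpa using congrArg Subtype.val hk
  have h2 : orderOf c ∣ (orderOf x).gcd (p ^ k) :=
    Nat.dvd_gcd (orderOf_dvd_of_pow_eq_one h1) (orderOf_dvd_of_pow_eq_one hk')
  rw [(hx.pow_right k).gcd_eq_one, Nat.dvd_one, orderOf_eq_one_iff] at h2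
  exact h2

/-- Above the Borel subgroup there is only one maximal subgroup. -/
theorem existsUnique_coatom {F : Type*} [Field F] [Fintype F] (hF : Fintype.card F = p ^ n)
    (φ : G →* Matrix.ProjectiveSpecialLinearGroup (Fin 2) F) (hφ : Function.Surjective φ)
    (S : Sylow p G) (hker : φ.ker ≤ (S : Subgroup G)) :
    ∃! M : Subgroup G, IsCoatom M ∧ (S : Subgroup G) ≤ M := by
  set P := S.mapSurjective hφ
  have hP : (P : Subgroup (Matrix.ProjectiveSpecialLinearGroup (Fin 2) F)) = (S : Subgroup G).map φ :=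
    Sylow.coe_mapSurjective _ _
  set B := (normalizer ((P : Subgroup (Matrix.ProjectiveSpecialLinearGroup (Fin 2) F)) : Set (Matrix.ProjectiveSpecialLinearGroup (Fin 2) F))).comap φ
  have hB : B ≠ ⊤ := by
    intro htop
    have h1 : normalizer ((P : Subgroup (Matrix.ProjectiveSpecialLinearGroup (Fin 2) F)) : Set (Matrix.ProjectiveSpecialLinearGroup (Fin 2) F)) = ⊤ := by
      rw [← map_comap_eq_self_of_surjective hφ
        (normalizer ((P : Subgroup (Matrix.ProjectiveSpecialLinearGroup (Fin 2) F)) : Set (Matrix.ProjectiveSpecialLinearGroup (Fin 2) F)))]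
      change B.map φ = ⊤
      rw [htop, map_top_of_surjective φ hφ]
    haveI := normalizer_eq_top_iff.1 h1
    have h2 := normal_pGroup_psl_eq_bot (F := F) hF _ P.isPGroup'
    have h3 := card_sylow_psl (F := F) hF P
    rw [h2, card_bot] at h3
    have := Nat.one_lt_pow (by have := one_le_exponent (F := F) hF; omega : n ≠ 0) (Fact.out : p.Prime).one_lt
    omega
  have hSB : (S : Subgroup G) ≤ B := map_le_iff_le_comap.1 (hP.ge.trans Subgroup.le_normalizer)
  have key : ∀ N : Subgroup G, (S : Subgroup G) ≤ N → N ≠ ⊤ → N ≤ B := by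
    intro N hN hne
    rcases CfsgLib.PLocal.le_normalizer_or_eq_top_psl hF P (M := N.map φ) (hP ▸ map_mono hN) with h | h
    · exact map_le_iff_le_comap.1 h
    · refine absurd ?_ hne
      rw [← comap_map_eq_self (hker.trans hN), h, comap_top]
  obtain ⟨M, hM, hBM⟩ := (eq_top_or_exists_le_coatom B).resolve_left hB
  refine ⟨M, ⟨hM, hSB.trans hBM⟩, fun N ⟨hN, hSN⟩ => ?_⟩
  exact ((hN.le_iff.1 ((key N hSN hN.1).trans hBM)).resolve_left hM.1).symm

section Datum

variable {S Q V : Subgroup G} {q : ℕ} (hD : Datum p S Q V q)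
include hD

theorem Datum.V_ab {a b : G} (ha : a ∈ V) (hb : b ∈ V) : Commute a b :=
  (hD.V_cent ha b (hD.V_le hb)).symm

/-- A nontrivial element of `(W ∩ Z(S))/(V ∩ Z(G))` produces a whole conjugate line. -/
theorem Datum.line_le {W : Subgroup G} [W.Normal] (hCW : V ⊓ center G ≤ W) {x : G}
    (hx : (zOf S).map (MulAut.conj x).toMonoidHom ≠ zOf S) {z : G} (hzW : z ∈ W) (hzZ : z ∈ zOf S)
    (hzC : z ∉ center G) : (zOf S).map (MulAut.conj x).toMonoidHom ≤ W := by
  haveI := hD.V_normal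
  haveI := hD.Q_normal
  set C := V ⊓ center G with hC
  set Z' := (zOf S).map (MulAut.conj x).toMonoidHom with hZ'
  set T := S.map (MulAut.conj x).toMonoidHom with hT
  set π := QuotientGroup.mk' C
  have hzV : z ∈ V := hD.center_le hzZ
  have hcomm : ∀ t ∈ T, ∀ v ∈ V, t * v * t⁻¹ * v⁻¹ ∈ Z' ∧
      (t * v * t⁻¹ * v⁻¹ ∈ center G → t * v * t⁻¹ * v⁻¹ = 1) := by
    rintro _ ⟨s, hs, rfl⟩ v hv
    have hv' : x⁻¹ * v * x ∈ V := by simpa using hD.V_normal.conj_mem v hv x⁻¹
    set d := ⁅x⁻¹ * v * x, s⁆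
    have e : x * s * x⁻¹ * v * (x * s * x⁻¹)⁻¹ * v⁻¹ = x * d⁻¹ * x⁻¹ := by
      simp [d, commutatorElement_def, mul_assoc]
    simp only [MulEquiv.coe_toMonoidHom, MulAut.conj_apply]
    rw [e]
    refine ⟨⟨d⁻¹, inv_mem (hD.comm_mem _ hv' s hs), by simp⟩, fun hc => ?_⟩
    have hd : d ∈ center G := by
      have h1 := Subgroup.Normal.conj_mem (inferInstance : (center G).Normal) _ hc x⁻¹
      rw [show x⁻¹ * (x * d⁻¹ * x⁻¹) * x⁻¹⁻¹ = d⁻¹ by group] at h1
      simpa using inv_mem h1
    rw [show d = 1 from hD.comm_fix _ hv' s hs hd, inv_one, mul_one, mul_inv_cancel]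
  have hZ'c : ∀ t ∈ T, ∀ w ∈ Z', t * w * t⁻¹ = w := by
    rintro _ ⟨s, hs, rfl⟩ _ ⟨w, hw, rfl⟩
    simp only [MulEquiv.coe_toMonoidHom, MulAut.conj_apply]
    rw [show x * s * x⁻¹ * (x * w * x⁻¹) * (x * s * x⁻¹)⁻¹ = x * (s * w * s⁻¹) * x⁻¹ by group,
      conj_mem_of_mem_zOf hs hw]
  have hZ'V : Z' ≤ V := by
    rintro _ ⟨w, hw, rfl⟩
    exact hD.V_normal.conj_mem w (hD.center_le hw) x
  let f : T →* G ⧸ C :=
    { toFun := fun t => π (t * z * (t : G)⁻¹ * z⁻¹)
      map_one' := by simp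
      map_mul' := fun a b => by
        rw [← map_mul]
        congr 1
        set u := (b : G) * z * (b : G)⁻¹ * z⁻¹
        have hu : u ∈ Z' := (hcomm b b.2 z hzV).1
        calc ((a * b : T) : G) * z * ((a * b : T) : G)⁻¹ * z⁻¹
            = (a : G) * u * (a : G)⁻¹ * ((a : G) * z * (a : G)⁻¹ * z⁻¹) := by
              simp [u, mul_assoc]
          _ = u * ((a : G) * z * (a : G)⁻¹ * z⁻¹) := by rw [hZ'c a a.2 u hu]
          _ = _ := (hD.V_ab (hZ'V hu) (hZ'V (hcomm a a.2 z hzV).1)).eq }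
  have hker : f.ker ≤ (Q.subgroupOf T) := by
    intro t ht
    rw [MonoidHom.mem_ker] at ht
    have h1 : (t : G) * z * (t : G)⁻¹ * z⁻¹ = 1 :=
      (hcomm t t.2 z hzV).2 ((QuotientGroup.eq_one_iff _).1 ht).2
    rw [mul_inv_eq_one, mul_inv_eq_iff_eq_mul] at h1
    by_contra htQ
    refine hzC (mem_center_iff.2 fun g => ?_)
    have hle : (⊤ : Subgroup G) ≤ centralizer ({z} : Set G) := (hD.gen x hx t t.2 htQ).ge.trans
      (sup_le (fun s hs => mem_centralizer_singleton_iff.2 (hzZ.2 s hs))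
        (zpowers_le.2 (mem_centralizer_singleton_iff.2 h1)))
    exact mem_centralizer_singleton_iff.1 (hle (mem_top g))
  have hcT : q ≤ Nat.card f.range := by
    rw [← index_ker f]
    refine le_of_eq_of_le ?_ (Nat.le_of_dvd (Nat.pos_of_ne_zero index_ne_zero_of_finite) (index_dvd_of_le hker))
    have hQT : Q = Q.map (MulAut.conj x).toMonoidHom :=
      (CfsgLib.Comp.map_conj_eq_iff.2 (by rw [normalizer_eq_top]; trivial)).symm
    change q = Q.relIndex T
    rw [hQT, hT, relIndex_map_map_of_injective _ _ (MulAut.conj x).injective, hD.relQ]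
  have hcZ : Nat.card ↥(Z'.map π) = q := by
    rw [← relIndex_ker, QuotientGroup.ker_mk']
    have hCC : C = C.map (MulAut.conj x).toMonoidHom :=
      (CfsgLib.Comp.map_conj_eq_iff.2 (by rw [normalizer_eq_top]; trivial)).symm
    rw [hCC, hZ', relIndex_map_map_of_injective _ _ (MulAut.conj x).injective, hD.relC]
  have hle1 : f.range ≤ (Z' ⊓ W).map π := by
    rintro _ ⟨t, rfl⟩
    exact ⟨_, ⟨(hcomm t t.2 z hzV).1, W.mul_mem (Subgroup.Normal.conj_mem ‹W.Normal› z hzW t) (W.inv_mem hzW)⟩, rfl⟩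
  have heq : Z'.map π ≤ (Z' ⊓ W).map π :=
    (eq_of_le_of_card_ge (map_mono inf_le_left) (hcZ.le.trans (hcT.trans (card_le_of_le hle1)))).ge
  intro w hw
  obtain ⟨w', hw', he⟩ := heq (mem_map_of_mem π hw)
  rw [QuotientGroup.mk'_eq_mk'] at he
  obtain ⟨c, hc, rfl⟩ := he
  exact mul_mem hw'.2 (hCW hc)

/-- `V / (V ∩ Z(G))` is irreducible. -/
theorem Datum.le_of_normal {W : Subgroup G} [W.Normal] (hCW : V ⊓ center G ≤ W) (hWV : W ≤ V)
    (hW : ¬ W ≤ center G) : V ≤ W := by
  haveI := hD.V_normal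
  obtain ⟨z, hzW, hzZ, hzC⟩ : ∃ z ∈ W, z ∈ zOf S ∧ z ∉ center G := by
    obtain ⟨w, hw, hwC⟩ := SetLike.not_le_iff_exists.1 hW
    by_cases hwZ : w ∈ zOf S
    · exact ⟨w, hw, hwZ, hwC⟩
    · obtain ⟨s, hs, hne⟩ : ∃ s ∈ S, ⁅w, s⁆ ≠ 1 := by
        by_contra! hall
        exact hwZ ⟨hD.Q_le (hD.V_le (hWV hw)), fun s hs =>
          (commutatorElement_eq_one_iff_mul_comm.1 (hall s hs)).symm⟩
      refine ⟨⁅w, s⁆, ?_, hD.comm_mem w (hWV hw) s hs, fun hc => hne (hD.comm_fix w (hWV hw) s hs hc)⟩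
      rw [show ⁅w, s⁆ = w * (s * w⁻¹ * s⁻¹) by simp [commutatorElement_def, mul_assoc]]
      exact mul_mem hw (Subgroup.Normal.conj_mem ‹W.Normal› _ (inv_mem hw) s)
  obtain ⟨x, hx⟩ := hD.opp
  have h1 := hD.line_le hCW hx hzW hzZ hzC
  have hx' : (zOf S).map (MulAut.conj x⁻¹).toMonoidHom ≠ zOf S := fun h => hx (by
    conv_lhs => rw [← h]
    rw [Subgroup.map_map]
    convert Subgroup.map_id _
    ext y
    simp [mul_assoc])
  have h2 := hD.line_le hCW hx' hzW hzZ hzC
  have hZW : zOf S ≤ W := fun w hw => by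
    have := Subgroup.Normal.conj_mem ‹W.Normal› _ (h2 (mem_map_of_mem _ hw)) x
    simpa [mul_assoc] using this
  set Z' := (zOf S).map (MulAut.conj x).toMonoidHom
  have hZ'V : Z' ≤ V := by
    rintro _ ⟨w, hw, rfl⟩
    exact hD.V_normal.conj_mem w (hD.center_le hw) x
  obtain ⟨a, haT, haQ⟩ := SetLike.not_le_iff_exists.1
    (show ¬ S.map (MulAut.conj x).toMonoidHom ≤ Q from fun hle => by
      have h1 : S ≤ Q := fun s hs => by
        have := hD.Q_normal.conj_mem _ (hle (mem_map_of_mem _ hs)) x⁻¹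
        simpa [mul_assoc] using this
      have := hD.relQ
      rw [relIndex_eq_one.2 h1] at this
      exact hD.one_lt.ne this)
  have hinf : zOf S ⊓ Z' ≤ V ⊓ center G := by
    rintro w ⟨hw, hw'⟩
    refine ⟨hD.center_le hw, mem_center_iff.2 fun g => ?_⟩
    have hle : (⊤ : Subgroup G) ≤ centralizer ({w} : Set G) := (hD.gen x hx a haT haQ).ge.trans
      (sup_le (fun s hs => mem_centralizer_singleton_iff.2 (hw.2 s hs)) (zpowers_le.2 ?_))
    · exact mem_centralizer_singleton_iff.1 (hle (mem_top g))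
    · obtain ⟨s, hs, rfl⟩ := haT
      obtain ⟨v, hv, rfl⟩ := hw'
      refine mem_centralizer_singleton_iff.2 ?_
      simp only [MulEquiv.coe_toMonoidHom, MulAut.conj_apply]
      rw [show x * s * x⁻¹ * (x * v * x⁻¹) = x * (s * v) * x⁻¹ by group, hv.2 s hs]
      group
  have hrel : q ≤ (zOf S).relIndex (zOf S ⊔ Z') := by
    refine le_trans ?_ (relIndex_le_of_le' (le_sup_right (a := zOf S)))
    refine le_of_eq_of_le ?_ (le_of_le_of_eq (Nat.le_of_dvd (relIndex_pos' _ _)
      (relIndex_dvd_of_le_left _ hinf)) (inf_relIndex_right _ _))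
    have hCC : V ⊓ center G = (V ⊓ center G).map (MulAut.conj x).toMonoidHom :=
      (CfsgLib.Comp.map_conj_eq_iff.2 (by rw [normalizer_eq_top]; trivial)).symm
    rw [hCC, relIndex_map_map_of_injective _ _ (MulAut.conj x).injective, hD.relC]
  have hsup : V ≤ zOf S ⊔ Z' := by
    have hm := relIndex_mul_relIndex (zOf S) (zOf S ⊔ Z') V le_sup_left (sup_le hD.center_le hZ'V)
    rw [hD.relV] at hm
    have h5 := relIndex_pos' (zOf S ⊔ Z') V
    have h6 := hD.one_lt
    exact relIndex_eq_one.1 (by nlinarith)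
  exact hsup.trans (sup_le hZW h1)

end Datum

namespace Sit

variable {F : Type*} [Field F] [Fintype F] {S : Sylow 2 G} {M V : Subgroup G}
  {φ : G →* Matrix.ProjectiveSpecialLinearGroup (Fin 2) F}
  (h : Sit (F := F) S M φ n) (hD : Datum 2 (S : Subgroup G) (Cfsg.pCore 2 G) V (2 ^ n))
  (hker : φ.ker = Cfsg.pCore 2 G)
  (hLQ : ∀ x ∈ Cfsg.pResidual 2 G, ∀ y ∈ Cfsg.pCore 2 G, ⁅y, x⁆ ∈ V)
include h hD hker hLQ

theorem mem_pCore_residual (x : ↥(Cfsg.pResidual 2 G)) :
    x ∈ Cfsg.pCore 2 ↥(Cfsg.pResidual 2 G) ↔ (x : G) ∈ Cfsg.pCore 2 G := by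
  haveI := CfsgLib.Transfer.pResidual_normal (G := G) (p := 2)
  haveI := Cfsg.pCore_normal 2 G
  constructor
  · intro hx
    haveI := CfsgLib.Solvable.pCore_characteristic 2 ↥(Cfsg.pResidual 2 G)
    exact CfsgLib.Amalgam.le_pCore (ConjAct.normal_of_characteristic_of_normal)
      (CfsgLib.Amalgam.isPGroup_pCore.map _) (mem_map_of_mem (Cfsg.pResidual 2 G).subtype hx)
  · intro hx
    refine CfsgLib.Amalgam.le_pCore (N := (Cfsg.pCore 2 G).subgroupOf _) inferInstance ?_ hx
    exact CfsgLib.Amalgam.isPGroup_pCore.comap_of_injective _ (Subgroup.subtype_injective _)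

theorem residual_ne_bot : ∃ x : ↥(Cfsg.pResidual 2 G), (orderOf x).Coprime 2 ∧ x ≠ 1 := by
  by_contra! hall
  refine h.not_residual_le ((closure_le _).2 fun g hg => ?_)
  have h1 := hall ⟨g, subset_closure hg⟩ (by rw [← Subgroup.orderOf_coe]; exact hg)
  rw [show g = 1 from congrArg Subtype.val h1]
  exact one_mem M

theorem centralizer_residual_le :
    centralizer (Cfsg.pCore 2 ↥(Cfsg.pResidual 2 G) : Set ↥(Cfsg.pResidual 2 G)) ≤
      Cfsg.pCore 2 ↥(Cfsg.pResidual 2 G) := by
  haveI := CfsgLib.Transfer.pResidual_normal (G := G) (p := 2)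
  refine CfsgLib.Amalgam.le_pCore inferInstance (CfsgLib.PLocal.isPGroup_of_forall_coprime ?_)
  intro x hx hxo
  rw [← Subgroup.orderOf_coe] at hxo
  refine Subtype.ext ?_
  have hcent : (x : G) ∈ centralizer (Cfsg.pCore 2 G : Set G) := fun y hy => by
    refine commutatorElement_eq_one_iff_mul_comm.1
      (commutatorElement_eq_one_of_coprime CfsgLib.Amalgam.isPGroup_pCore hxo
        (hD.V_le (hLQ x x.2 y hy)) (commutatorElement_eq_one_iff_mul_comm.2 ?_))
    have hcL : ⁅y, (x : G)⁆ ∈ Cfsg.pResidual 2 G :=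
      mul_mem (Subgroup.Normal.conj_mem ‹_› _ x.2 y) (inv_mem x.2)
    exact congrArg Subtype.val
      (hx ⟨_, hcL⟩ ((h.mem_pCore_residual hD hker hLQ ⟨_, hcL⟩).2 (hD.V_le (hLQ x x.2 y hy))))
  obtain ⟨k, hk⟩ := CfsgLib.Amalgam.isPGroup_pCore ⟨(x : G), h.charP hcent⟩
  have hk' : (x : G) ^ 2 ^ k = 1 := by simpa using congrArg Subtype.val hk
  exact orderOf_eq_one_iff.1 (Nat.eq_one_of_dvd_coprimes (hxo.pow_right k) dvd_rfl
    (orderOf_dvd_of_pow_eq_one hk'))

theorem quotient_simple :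
    IsSimpleGroup (↥(Cfsg.pResidual 2 G) ⧸ Cfsg.pCore 2 ↥(Cfsg.pResidual 2 G)) := by
  haveI := CfsgLib.Transfer.pResidual_normal (G := G) (p := 2)
  set f := φ.comp (Cfsg.pResidual 2 G).subtype with hf
  have hk : Cfsg.pCore 2 ↥(Cfsg.pResidual 2 G) = f.ker := by
    ext x
    rw [h.mem_pCore_residual hD hker hLQ, ← hker]
    rfl
  set R := (Cfsg.pResidual 2 G).map φ with hR
  have hrange : f.range = R := by rw [hf, MonoidHom.range_comp, range_subtype]
  have hsimple : IsSimpleGroup R := by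
    haveI : R.Normal := Subgroup.Normal.map inferInstance _ h.surj
    have hRne : R ≠ ⊥ := fun hb => h.not_residual_le (((Subgroup.map_eq_bot_iff _).1 hb).trans h.ker_le)
    rcases (show n = 1 ∨ 2 ≤ n by have := h.one_le; omega) with hn | hn
    · subst hn
      haveI := charP_of_card (F := F) h.card
      have hPS : Nat.card (Matrix.ProjectiveSpecialLinearGroup (Fin 2) F) = 6 := by
        have h1 := CfsgLib.Classical.card_center_sl_mul_card_psl (ι := Fin 2) (F := F)
        rw [CfsgLib.Classical.card_sl_two_eq, CfsgLib.Classical.card_center_sl, Fintype.card_fin,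
          h.card] at h1
        simpa using h1
      haveI : Fact (Nat.Prime 3) := ⟨Nat.prime_three⟩
      obtain ⟨N, hN⟩ := Sylow.exists_subgroup_card_pow_prime 3 (n := 1)
        (show 3 ^ 1 ∣ Nat.card (Matrix.ProjectiveSpecialLinearGroup (Fin 2) F) by rw [hPS]; norm_num)
      have hNi : N.index = 2 := by
        have h1 := N.card_mul_index
        rw [hN, hPS] at h1
        omega
      haveI : N.Normal := normal_of_index_eq_two hNi
      have hRN : R ≤ N := (CfsgLib.Transfer.map_pResidual_le φ).trans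
        (CfsgLib.Transfer.pResidual_le_of_isPGroup_quotient
          (IsPGroup.of_card (n := 1) (by rw [← index_eq_card, hNi, pow_one])))
      have h3 : Nat.card R = 3 := by
        rcases (Nat.dvd_prime Nat.prime_three).1 (by simpa [hN] using card_dvd_of_le hRN) with h1 | h1
        · exact absurd (eq_bot_of_card_eq _ h1) hRne
        · exact h1
      exact isSimpleGroup_of_prime_card h3
    · haveI : IsSimpleGroup (Matrix.ProjectiveSpecialLinearGroup (Fin 2) F) :=
        isSimpleGroup_psl_two (F := F) (by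
          rw [h.card]
          exact le_trans (by norm_num) (Nat.pow_le_pow_right (by norm_num) hn))
      rw [(Subgroup.Normal.eq_bot_or_eq_top (inferInstance : R.Normal)).resolve_left hRne]
      exact Subgroup.topEquiv.isSimpleGroup
  haveI := hsimple
  exact ((QuotientGroup.quotientMulEquivOfEq hk).trans
    ((QuotientGroup.quotientKerEquivRange f).trans (MulEquiv.subgroupCongr hrange))).isSimpleGroup

theorem mem_center_of_commute {v : G} (hv : v ∈ V)
    (hc : ∀ x ∈ Cfsg.pResidual 2 G, x * v = v * x) : v ∈ center G := by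
  haveI := CfsgLib.Transfer.pResidual_normal (G := G) (p := 2)
  have hvS : ∀ s ∈ (S : Subgroup G), s * v = v * s := by
    intro s hs
    refine (commutatorElement_eq_one_iff_mul_comm.1 (hD.comm_fix v hv s hs ?_)).symm
    have hZ := hD.comm_mem v hv s hs
    have hw : ∀ x ∈ Cfsg.pResidual 2 G, Commute x (s * v * s⁻¹) := fun x hx => by
      have h1 : s⁻¹ * x * s ∈ Cfsg.pResidual 2 G := by simpa using Subgroup.Normal.conj_mem ‹_› x hx s⁻¹
      show x * (s * v * s⁻¹) = s * v * s⁻¹ * x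
      calc x * (s * v * s⁻¹) = s * (s⁻¹ * x * s * v) * s⁻¹ := by group
        _ = s * (v * (s⁻¹ * x * s)) * s⁻¹ := by rw [hc _ h1]
        _ = _ := by group
    refine mem_center_iff.2 fun g => ?_
    have hle : (⊤ : Subgroup G) ≤ centralizer ({⁅v, s⁆} : Set G) :=
      (CfsgLib.Transfer.pResidual_sup_sylow S).ge.trans (sup_le (fun x hx => ?_) fun t ht => ?_)
    · exact mem_centralizer_singleton_iff.1 (hle (mem_top g))
    · refine mem_centralizer_singleton_iff.2 ?_
      rw [show ⁅v, s⁆ = v * (s * v * s⁻¹)⁻¹ by simp [commutatorElement_def, mul_assoc]]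
      exact ((show Commute x v from hc x hx).mul_right (hw x hx).inv_right).eq
    · exact mem_centralizer_singleton_iff.2 (hZ.2 t ht)
  refine mem_center_iff.2 fun g => ?_
  have hle : (⊤ : Subgroup G) ≤ centralizer ({v} : Set G) :=
    (CfsgLib.Transfer.pResidual_sup_sylow S).ge.trans
      (sup_le (fun x hx => mem_centralizer_singleton_iff.2 (hc x hx))
        fun t ht => mem_centralizer_singleton_iff.2 (hvS t ht))
  exact mem_centralizer_singleton_iff.1 (hle (mem_top g))

theorem le_of_residual_invariant {W : Subgroup G} (hCW : V ⊓ center G ≤ W) (hWV : W ≤ V)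
    (hW : ¬ W ≤ center G) (hn' : Cfsg.pResidual 2 G ≤ normalizer (W : Set G)) : V ≤ W := by
  haveI := hD.V_normal
  haveI := hD.Q_normal
  haveI := CfsgLib.Transfer.pResidual_normal (G := G) (p := 2)
  rcases (show n = 1 ∨ 2 ≤ n by have := h.one_le; omega) with hn | hn
  · have hrel : (V ⊓ center G).relIndex V = 4 := by
      have hm := relIndex_mul_relIndex (V ⊓ center G) (zOf (S : Subgroup G)) V (fun c hc =>
        ⟨hD.Q_le (hD.V_le hc.1), fun s _ => mem_center_iff.1 hc.2 s⟩) hD.center_le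
      rw [hD.relC, hD.relV, hn] at hm
      exact hm.symm
    have hm := relIndex_mul_relIndex (V ⊓ center G) W V hCW hWV
    rw [hrel] at hm
    obtain ⟨i, hi, he⟩ := (Nat.dvd_prime_pow Nat.prime_two (m := 2)).1
      (show (V ⊓ center G).relIndex W ∣ 4 from Dvd.intro _ hm)
    interval_cases i
    · exact absurd ((relIndex_eq_one.1 (by simpa using he)).trans inf_le_right) hW
    · exfalso
      refine hW fun w hw => ?_
      refine h.mem_center_of_commute hD hker hLQ (hWV hw) ?_
      have hle : Cfsg.pResidual 2 G ≤ centralizer ({w} : Set G) := by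
        refine (closure_le _).2 fun x hx => mem_centralizer_singleton_iff.2 ?_
        have hxn := hn' (subset_closure hx)
        have hc : ⁅w, x⁆ ∈ V ⊓ center G := by
          have hxw : x * w⁻¹ * x⁻¹ ∈ W := (mem_normalizer_iff.1 hxn _).1 (inv_mem hw)
          rw [show ⁅w, x⁆ = w * (x * w⁻¹ * x⁻¹) by simp [commutatorElement_def, mul_assoc]]
          by_cases hwC : w ∈ V ⊓ center G
          · rw [show x * w⁻¹ = w⁻¹ * x from mem_center_iff.1 (inv_mem hwC.2) x]
            simp [hwC]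
          · have h2 : ((V ⊓ center G).subgroupOf W).index = 2 := by simpa [relIndex] using he
            have key := Subgroup.mul_mem_iff_of_index_two h2
              (a := (⟨w, hw⟩ : W)) (b := ⟨_, hxw⟩)
            simp only [mem_subgroupOf, Subgroup.coe_mul] at key
            refine key.2 ⟨fun h1 => absurd h1 hwC, fun h1 => absurd ?_ hwC⟩
            have h3 : w⁻¹ ∈ V ⊓ center G := by
              have hn2 : (V ⊓ center G).Normal := inferInstance
              have := hn2.conj_mem _ h1 x⁻¹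
              simpa [mul_assoc] using this
            simpa using inv_mem h3
        exact (commutatorElement_eq_one_iff_mul_comm.1 (commutatorElement_eq_one_of_coprime
          CfsgLib.Amalgam.isPGroup_pCore hx (hD.V_le hc.1) (commutatorElement_eq_one_iff_mul_comm.2
            (mem_center_iff.1 hc.2 x).symm))).symm
      exact fun x hx => mem_centralizer_singleton_iff.1 (hle hx)
    · have he' : (V ⊓ center G).relIndex W = 4 := by simpa using he
      rw [he'] at hm
      exact relIndex_eq_one.1 (by omega)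
  · haveI : W.Normal := by
      refine normalizer_eq_top_iff.1 (top_le_iff.1 ?_)
      have htop : (⊤ : Subgroup G) ≤ Cfsg.pResidual 2 G ⊔ φ.ker := by
        haveI : IsSimpleGroup (Matrix.ProjectiveSpecialLinearGroup (Fin 2) F) :=
          isSimpleGroup_psl_two (F := F) (by
            rw [h.card]
            exact le_trans (by norm_num) (Nat.pow_le_pow_right (by norm_num) hn))
        haveI : ((Cfsg.pResidual 2 G).map φ).Normal := Subgroup.Normal.map inferInstance _ h.surj
        rw [← comap_map_eq, (Subgroup.Normal.eq_bot_or_eq_top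
          (inferInstance : ((Cfsg.pResidual 2 G).map φ).Normal)).resolve_left
            (fun hb => h.not_residual_le (((Subgroup.map_eq_bot_iff _).1 hb).trans h.ker_le)), comap_top]
      refine htop.trans (sup_le hn' ?_)
      rw [hker]
      intro y hy
      exact centralizer_le_normalizer _ fun w hw => (hD.V_cent (hWV hw) y hy).symm
    exact hD.le_of_normal hCW hWV hW

/-- `O²(G)` is a near component. -/
theorem nearComponent : Cfsg.IsNearComponent ↥(Cfsg.pResidual 2 G) := by
  haveI := CfsgLib.Transfer.pResidual_normal (G := G) (p := 2)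
  haveI := hD.V_normal
  set L := Cfsg.pResidual 2 G with hL
  set P := Cfsg.pCore 2 ↥L with hP
  set W₀ := ⁅P, (⊤ : Subgroup ↥L)⁆ with hW₀
  have hmem := h.mem_pCore_residual hD hker hLQ
  have hW₀V : ∀ u ∈ W₀, (u : G) ∈ V := by
    suffices hle : W₀ ≤ V.subgroupOf L from fun u hu => hle hu
    exact commutator_le.2 fun a ha b _ => by
      rw [mem_subgroupOf]
      exact hLQ b b.2 a ((hmem a).1 ha)
  have hW₀P : ∀ u ∈ W₀, u ∈ P := fun u hu => (hmem u).2 (hD.V_le (hW₀V u hu))
  have hW₀C : ∀ u ∈ W₀, u ∈ center ↥L → (u : G) ∈ V ⊓ center G := fun u hu hc =>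
    ⟨hW₀V u hu, h.mem_center_of_commute hD hker hLQ (hW₀V u hu) fun x hx =>
      congrArg Subtype.val (mem_center_iff.1 hc ⟨x, hx⟩)⟩
  refine ⟨h.centralizer_residual_le hD hker hLQ, Or.inr (h.quotient_simple hD hker hLQ),
    CfsgLib.Transfer.pResidual_pResidual, ?_, ?_, ?_⟩
  · refine fun u hu => subset_closure ⟨⟨hW₀P u hu, fun y hy => Subtype.ext ?_⟩, Subtype.ext ?_⟩
    · exact hD.V_cent (hW₀V u hu) _ ((hmem y).1 hy)
    · simpa using hD.exp _ (hW₀V u hu)
  · intro hle
    obtain ⟨x, hx, hx1⟩ := h.residual_ne_bot hD hker hLQ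
    refine hx1 ?_
    have hxP : x ∈ P := by
      refine h.centralizer_residual_le hD hker hLQ fun y hy => ?_
      have hc1 : ⁅y, x⁆ ∈ W₀ := commutator_mem_commutator hy (mem_top x)
      have hc2 : ⁅⁅y, x⁆, x⁆ ∈ W₀ ⊓ center ↥L := hle (commutator_mem_commutator hc1 (mem_top x))
      have h1 : ⁅⁅y, x⁆, x⁆ = 1 := commutatorElement_eq_one_of_coprime CfsgLib.Amalgam.isPGroup_pCore
        hx (hW₀P _ hc2.1) (commutatorElement_eq_one_iff_mul_comm.2 (mem_center_iff.1 hc2.2 x).symm)
      exact commutatorElement_eq_one_iff_mul_comm.1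
        (commutatorElement_eq_one_of_coprime CfsgLib.Amalgam.isPGroup_pCore hx (hW₀P _ hc1) h1)
    obtain ⟨k, hk⟩ := (CfsgLib.Amalgam.isPGroup_pCore (G := ↥L)) ⟨x, hxP⟩
    have hk' : x ^ 2 ^ k = 1 := by simpa using congrArg Subtype.val hk
    exact orderOf_eq_one_iff.1 (Nat.eq_one_of_dvd_coprimes (hx.pow_right k) dvd_rfl
      (orderOf_dvd_of_pow_eq_one hk'))
  · intro W hWn hle1 hle2
    by_cases hWc : W ≤ center ↥L
    · exact Or.inl (le_antisymm (le_inf hle2 hWc) hle1)
    refine Or.inr (le_antisymm hle2 ?_)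
    obtain ⟨w, hw, hwc⟩ := SetLike.not_le_iff_exists.1 hWc
    set W' := W.map L.subtype ⊔ (V ⊓ center G) with hW'
    have hWg : W.map L.subtype ≤ V := by
      rintro _ ⟨u, hu, rfl⟩
      exact hW₀V u (hle2 hu)
    have hV : V ≤ W' := by
      refine h.le_of_residual_invariant hD hker hLQ le_sup_right (sup_le hWg inf_le_left) ?_ ?_
      · intro hc
        refine hwc (mem_center_iff.2 fun y => Subtype.ext ?_)
        exact mem_center_iff.1 (hc (mem_sup_left (mem_map_of_mem _ hw))) (y : G)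
      · refine CfsgLib.Comp.le_normalizer_sup ?_ (by rw [normalizer_eq_top]; exact le_top)
        intro x hx
        refine CfsgLib.Comp.map_conj_eq_iff.1 (eq_of_le_of_card_ge ?_
          (card_map_of_injective (MulAut.conj x).injective).ge)
        rintro _ ⟨_, ⟨u, hu, rfl⟩, rfl⟩
        exact ⟨⟨x, hx⟩ * u * ⟨x, hx⟩⁻¹, hWn.conj_mem u hu _, by simp⟩
    intro u hu
    have hu' : (u : G) ∈ W' := hV (hW₀V u hu)
    rw [hW', sup_comm] at hu'
    obtain ⟨c, hc, a, ⟨u', hu', rfl⟩, hca⟩ := mem_sup_of_normal_left.1 hu'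
    have hc' : ((u * u'⁻¹ : ↥L) : G) = c := (eq_mul_inv_of_mul_eq hca).symm
    have hcu : u * u'⁻¹ ∈ W := by
      refine hle1 ⟨W₀.mul_mem hu (W₀.inv_mem (hle2 hu')), mem_center_iff.2 fun y => Subtype.ext ?_⟩
      simp only [Subgroup.coe_mul, hc']
      exact mem_center_iff.1 hc.2 (y : G)
    simpa using mul_mem hcu hu'

end Sit

end CfsgLib.ClassK.Push
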