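import Cfsg.Agent.Lib.KnownB.PSL2Elem
import Cfsg.Agent.Lib.Classical.SLTwoSylow
import Cfsg.Agent.Lib.Classical.PSLTwoPerm
import Mathlib.NumberTheory.LegendreSymbol.QuadraticChar.Basic

/-!
`PSL₂(q)` facts for pushing up: Sylow `p`-subgroups, and products of two conjugate `p`-elements of
given odd order dividing `q + 1`.
-/

set_option autoImplicit false
set_option linter.style.haveILetI false
set_option linter.unusedSectionVars false

namespace CfsgLib.ClassK.Push

open Matrix Subgroup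
open scoped MatrixGroups

variable {F : Type*} [Field F] [Fintype F] {p n : ℕ} [Fact p.Prime]

local notation "PS" => Matrix.ProjectiveSpecialLinearGroup (Fin 2) F
local notation "π" => QuotientGroup.mk' (Subgroup.center (Matrix.SpecialLinearGroup (Fin 2) F))

theorem one_le_exponent (hF : Fintype.card F = p ^ n) : 1 ≤ n := by
  by_contra h
  obtain rfl : n = 0 := by omega
  have := Fintype.one_lt_card (α := F)
  rw [hF, pow_zero] at this
  omega

theorem charP_of_card (hF : Fintype.card F = p ^ n) : CharP F p := by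
  obtain ⟨r, hr⟩ := CharP.exists F
  obtain ⟨k, hrp, hk⟩ := FiniteField.card F r
  have hdvd : p ∣ r ^ (k : ℕ) := by
    rw [← hk, hF]; exact dvd_pow_self p (by have := one_le_exponent hF; omega)
  rwa [(Nat.prime_dvd_prime_iff_eq Fact.out hrp).1 ((Fact.out : p.Prime).dvd_of_dvd_pow hdvd)]

theorem not_dvd_center (hF : Fintype.card F = p ^ n) :
    ¬ p ∣ Nat.card (center SL(2, F)) := by
  have hp : p.Prime := Fact.out
  rw [CfsgLib.Classical.card_center_sl, Fintype.card_fin]
  intro h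
  have h1 := h.trans (Nat.gcd_dvd_right 2 (Fintype.card F - 1))
  rw [hF] at h1
  rcases n with _ | k
  · have := Fintype.one_lt_card (α := F)
    rw [hF, pow_zero] at this
    omega
  · have h2 : p ∣ p ^ (k + 1) := dvd_pow_self p k.succ_ne_zero
    have h3 := Nat.dvd_sub h2 h1
    rw [Nat.sub_sub_self (Nat.one_le_pow _ _ hp.pos)] at h3
    exact hp.not_dvd_one h3

theorem center_inf_uSL : center SL(2, F) ⊓ CfsgLib.Classical.uSL F = ⊥ := by
  rw [eq_bot_iff]
  rintro x ⟨hx, b, rfl⟩
  obtain ⟨r, -, hr⟩ := Matrix.SpecialLinearGroup.mem_center_iff.1 hx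
  have h1 := congrFun (congrFun hr 0) 1
  simp [CfsgLib.Classical.uElt_val] at h1
  rw [mem_bot, ← h1]
  exact Matrix.SpecialLinearGroup.transvection_coeff_zero _

/-- The image of the unitriangular group is a Sylow subgroup of `PSL₂(q)`, of order `q`. -/
theorem exists_sylow_psl (hF : Fintype.card F = p ^ n) : ∃ P : Sylow p PS,
    (P : Subgroup PS) = (CfsgLib.Classical.uSL F).map π ∧ Nat.card (P : Subgroup PS) = p ^ n := by
  haveI := charP_of_card (F := F) hF
  obtain ⟨P₀, hP₀⟩ := CfsgLib.Classical.exists_sylow_uSL (F := F) p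
  refine ⟨P₀.mapSurjective (QuotientGroup.mk'_surjective (center SL(2, F))), ?_, ?_⟩
  · rw [Sylow.coe_mapSurjective, hP₀]
  · rw [Sylow.coe_mapSurjective, hP₀, ← hF, ← Nat.card_eq_fintype_card,
      ← CfsgLib.Classical.card_uSL (F := F)]
    refine (Nat.card_congr (Equiv.ofBijective ((π).subgroupMap (CfsgLib.Classical.uSL F))
      ⟨?_, MonoidHom.subgroupMap_surjective _ _⟩)).symm
    rintro ⟨a, ha⟩ ⟨b, hb⟩ h
    have h1 : π a = π b := congrArg Subtype.val h
    rw [QuotientGroup.mk'_eq_mk'] at h1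
    obtain ⟨z, hz, hzb⟩ := h1
    have hzU : z ∈ CfsgLib.Classical.uSL F := by
      rw [show z = a⁻¹ * b by rw [← hzb]; group]
      exact mul_mem (inv_mem ha) hb
    have : z = 1 := by
      rw [← mem_bot, ← center_inf_uSL (F := F)]
      exact ⟨hz, hzU⟩
    exact Subtype.ext (show a = b by rw [← hzb, this, mul_one])

theorem card_sylow_psl (hF : Fintype.card F = p ^ n) (P : Sylow p PS) :
    Nat.card (P : Subgroup PS) = p ^ n := by
  obtain ⟨P₀, -, hc⟩ := exists_sylow_psl (F := F) hF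
  rw [← hc]
  exact Nat.card_congr (P.equiv P₀).toEquiv

/-- `PSL₂(q)` is not a `p`-group. -/
theorem not_isPGroup_psl (hF : Fintype.card F = p ^ n) : ¬ IsPGroup p PS := by
  intro h
  have hp : p.Prime := Fact.out
  haveI := charP_of_card (F := F) hF
  obtain ⟨k, hk⟩ := IsPGroup.iff_card.1 h
  obtain ⟨P₀, -, hc⟩ := exists_sylow_psl (F := F) hF
  have hkn : Nat.card PS = p ^ n := by
    have e : (P₀ : Subgroup PS) = ⊤ := by
      refine (P₀.is_maximal' (Q := ⊤) ?_ le_top).symm
      exact h.of_equiv Subgroup.topEquiv.symm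
    rw [← hc, e, card_top]
  have h1 := CfsgLib.Classical.card_center_sl_mul_card_psl (ι := Fin 2) (F := F)
  rw [hkn, CfsgLib.Classical.card_sl_two_eq, hF, CfsgLib.Classical.card_center_sl, Fintype.card_fin,
    hF, mul_comm] at h1
  have h2 := Nat.eq_of_mul_eq_mul_left (pow_pos hp.pos n) h1
  have h3 : Nat.gcd 2 (p ^ n - 1) ≤ 2 := Nat.le_of_dvd (by norm_num) (Nat.gcd_dvd_left _ _)
  have h4 : 2 ^ 2 ≤ (p ^ n) ^ 2 :=
    Nat.pow_le_pow_left (hp.two_le.trans (Nat.le_self_pow (by have := one_le_exponent hF; omega) p)) 2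
  omega

/-- `O_p(PSL₂(q)) = 1`. -/
theorem normal_pGroup_psl_eq_bot (hF : Fintype.card F = p ^ n) (N : Subgroup PS) [N.Normal]
    (hN : IsPGroup p N) : N = ⊥ := by
  haveI := charP_of_card (F := F) hF
  obtain ⟨P₀, hP₀, -⟩ := exists_sylow_psl (F := F) hF
  have hle : N ≤ (P₀ : Subgroup PS) :=
    le_sup_right.trans_eq (P₀.is_maximal' (P₀.isPGroup'.to_sup_of_normal_right hN) le_sup_left)
  rw [eq_bot_iff]
  intro x hx
  rw [hP₀] at hle
  obtain ⟨_, ⟨b, rfl⟩, hb⟩ := hle hx
  obtain ⟨w, hw⟩ : ∃ w : SL(2, F), (w : Matrix (Fin 2) (Fin 2) F) = !![0, 1; -1, 0] :=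
    ⟨⟨_, by simp [Matrix.det_fin_two_of]⟩, rfl⟩
  have hxw : π w * x * (π w)⁻¹ ∈ N := Subgroup.Normal.conj_mem ‹_› x hx (π w)
  obtain ⟨_, ⟨c, rfl⟩, hc⟩ := hle hxw
  rw [← hb, ← map_mul, ← map_inv, ← map_mul, QuotientGroup.mk'_eq_mk'] at hc
  obtain ⟨z, hz, hcz⟩ := hc
  rw [Matrix.SpecialLinearGroup.mem_center_iff] at hz
  obtain ⟨r, hr2, hr⟩ := hz
  have h1 := congrArg (fun s : SL(2, F) => (s : Matrix (Fin 2) (Fin 2) F)) hcz
  simp only [Matrix.SpecialLinearGroup.coe_mul, Matrix.SpecialLinearGroup.coe_inv, adjugate_fin_two,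
    ← hr, CfsgLib.Classical.uElt_val, hw] at h1
  have h2 := congrFun (congrFun h1 1) 0
  simp at h2
  rw [mem_bot, ← hb, show b = 0 from h2,
    show CfsgLib.Classical.uElt (0 : F) = 1 from Matrix.SpecialLinearGroup.transvection_coeff_zero _,
    map_one]

/-- A product of two conjugates of a nontrivial element of order `p` (or their inverses) can have
any odd order `m > 1` dividing `q + 1`. -/
theorem exists_closure_orderOf (hF : Fintype.card F = p ^ n) {m : ℕ} (hm : Odd m) (hm1 : 1 < m)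
    (hmd : m ∣ p ^ n + 1) {a : PS} (ha : a ^ p = 1) (ha1 : a ≠ 1) :
    ∃ u x : PS, x ∈ Subgroup.closure ({a, u * a * u⁻¹} : Set PS) ∧ orderOf x = m := by
  classical
  haveI := charP_of_card (F := F) hF
  haveI : Fact (Nat.Prime 2) := ⟨Nat.prime_two⟩
  have hp : p.Prime := Fact.out
  obtain ⟨P₀, hP₀, -⟩ := exists_sylow_psl (F := F) hF
  -- reduce to an upper unitriangular `a`
  obtain ⟨v, t, ht, hat⟩ : ∃ (v : PS) (t : F), t ≠ 0 ∧ a = v * π (CfsgLib.Classical.uElt t) * v⁻¹ := by
    have hpa : IsPGroup p (zpowers a) :=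
      IsPGroup.of_card (n := 1) (by rw [Nat.card_zpowers, orderOf_eq_prime ha ha1, pow_one])
    obtain ⟨P, hP⟩ := hpa.exists_le_sylow
    obtain ⟨v, rfl⟩ := MulAction.exists_smul_eq PS P₀ P
    have hav := hP (mem_zpowers a)
    rw [Sylow.coe_subgroup_smul, Subgroup.mem_pointwise_smul_iff_inv_smul_mem, hP₀] at hav
    obtain ⟨_, ⟨t, rfl⟩, hta⟩ := hav
    have hta' : π (CfsgLib.Classical.uElt t) = v⁻¹ * a * v := by
      rw [hta]; simp [MulAut.smul_def]
    refine ⟨v, t, fun h0 => ha1 ?_, by rw [hta']; group⟩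
    rw [h0, show CfsgLib.Classical.uElt (0 : F) = 1 from
      Matrix.SpecialLinearGroup.transvection_coeff_zero _, map_one] at hta'
    calc a = v * (v⁻¹ * a * v) * v⁻¹ := by group
      _ = 1 := by rw [← hta']; group
  set b := π (CfsgLib.Classical.uElt t) with hb
  suffices h : ∃ u x : PS, x ∈ Subgroup.closure ({b, u * b * u⁻¹} : Set PS) ∧ orderOf x = m by
    obtain ⟨u, x, hx, hxm⟩ := h
    refine ⟨v * u * v⁻¹, v * x * v⁻¹, ?_, ?_⟩
    · have h1 := Subgroup.mem_map_of_mem (MulAut.conj v).toMonoidHom hx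
      rw [MonoidHom.map_closure, Set.image_pair] at h1
      convert h1 using 4 <;> simp [hat, mul_assoc]
    · rw [← hxm]; exact (MulAut.conj v).orderOf_eq x
  -- an element of order `m`
  have hq1 : 1 < Fintype.card F := Fintype.one_lt_card
  have hcop : m.Coprime (Nat.gcd 2 (Fintype.card F - 1)) :=
    (Nat.coprime_two_right.2 hm).coprime_dvd_right (Nat.gcd_dvd_left _ _)
  have hmd' : m ∣ (Fintype.card F + 1) / Nat.gcd 2 (Fintype.card F - 1) := by
    refine hcop.dvd_of_dvd_mul_right ?_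
    rw [Nat.div_mul_cancel, hF]
    · exact hmd
    · have := Nat.dvd_add (Nat.gcd_dvd_right 2 (Fintype.card F - 1))
        (Nat.gcd_dvd_left 2 (Fintype.card F - 1))
      rwa [show Fintype.card F - 1 + 2 = Fintype.card F + 1 by omega] at this
  obtain ⟨g, hg⟩ := CfsgLib.KnownB.SL2.exists_orderOf_psl (F := F) p (Or.inr (Or.inr hmd'))
  obtain ⟨X, rfl⟩ := CfsgLib.KnownB.SL2.exists_lift g
  set τ := (X : Matrix (Fin 2) (Fin 2) F).trace with hτ
  have hmp : ¬ m ∣ p := fun h => by
    rcases (Nat.dvd_prime hp).1 h with h' | h'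
    · omega
    · have h2 : p ∣ p ^ n + 1 := h' ▸ hmd
      have h3 : p ∣ p ^ n := dvd_pow_self p (by have := one_le_exponent hF; omega)
      exact hp.not_dvd_one ((Nat.dvd_add_right h3).1 h2)
  have hτ4 : τ ^ 2 ≠ 4 := by
    intro h
    apply hmp
    rw [← hg]
    rcases sq_eq_sq_iff_eq_or_eq_neg.mp (show τ ^ 2 = (2 : F) ^ 2 by rw [h]; norm_num) with h | h
    · exact CfsgLib.KnownB.SL2.orderOf_dvd_p p (one_mul (1 : F)) (by rw [← hτ, h]; norm_num)
    · exact CfsgLib.KnownB.SL2.orderOf_dvd_p p (a := (-1 : F)) (by norm_num)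
        (by rw [← hτ, h]; norm_num)
  have hnsq : ∀ w : F, w ^ 2 = τ ^ 2 - 4 → (2 : F) = 0 := by
    intro w hw
    by_contra h2
    set l := (τ + w) / 2
    set l' := (τ - w) / 2
    have hsum : l + l' = τ := by simp only [l, l']; field_simp; ring
    have hprod : l * l' = 1 := by simp only [l, l']; field_simp; linear_combination -hw
    have hne : l ≠ l' := by
      intro he
      apply hτ4
      rw [← hsum, ← he]
      rw [← he] at hprod
      linear_combination 4 * hprod
    have hl : l ≠ 0 := left_ne_zero_of_mul_eq_one hprod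
    have hl' : l' ≠ 0 := right_ne_zero_of_mul_eq_one hprod
    set A := (X : Matrix (Fin 2) (Fin 2) F)
    have hCH : (A - l • 1) * (A - l' • 1) = 0 := by
      have hd : A 0 0 * A 1 1 - A 0 1 * A 1 0 = 1 := by
        rw [← Matrix.det_fin_two]; exact X.2
      have htr : A 0 0 + A 1 1 = l + l' := by rw [hsum, hτ, Matrix.trace_fin_two]
      ext i j
      fin_cases i <;> fin_cases j <;> simp [Matrix.mul_apply, Fin.sum_univ_two]
      · linear_combination (A 0 0) * htr - hd + hprod
      · linear_combination (A 0 1) * htr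
      · linear_combination (A 1 0) * htr
      · linear_combination (A 1 1) * htr - hd + hprod
    have hcomm : (A - l' • 1) * (A - l • 1) = 0 := by
      rw [← hCH]; simp only [mul_sub, sub_mul, smul_mul_assoc, mul_smul_comm, one_mul, mul_one,
        smul_sub, smul_smul, mul_comm l l']; abel
    have hpow : ∀ k : ℕ, A ^ k * (A - l' • 1) = l ^ k • (A - l' • 1) ∧
        A ^ k * (A - l • 1) = l' ^ k • (A - l • 1) := by
      intro k
      induction k with
      | zero => simp
      | succ k ih =>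
        have e1 : A * (A - l' • 1) = l • (A - l' • 1) := by
          have := hCH; rw [sub_mul, sub_eq_zero, smul_mul_assoc, one_mul] at this; exact this
        have e2 : A * (A - l • 1) = l' • (A - l • 1) := by
          have := hcomm; rw [sub_mul, sub_eq_zero, smul_mul_assoc, one_mul] at this; exact this
        constructor
        · rw [pow_succ, mul_assoc, e1, mul_smul_comm, ih.1, smul_smul, pow_succ, mul_comm (l ^ k)]
        · rw [pow_succ, mul_assoc, e2, mul_smul_comm, ih.2, smul_smul, pow_succ, mul_comm (l' ^ k)]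
    have hdiff : (A - l' • 1) - (A - l • 1) = (l - l') • (1 : Matrix (Fin 2) (Fin 2) F) := by
      rw [sub_smul]; abel
    have hfix : A ^ (Fintype.card F - 1) * ((l - l') • 1) =
        (l - l') • (1 : Matrix (Fin 2) (Fin 2) F) := by
      rw [← hdiff, mul_sub, (hpow _).1, (hpow _).2, FiniteField.pow_card_sub_one_eq_one l hl,
        FiniteField.pow_card_sub_one_eq_one l' hl', one_smul, one_smul]
    rw [mul_smul_comm, mul_one] at hfix
    have hX1 : X ^ (Fintype.card F - 1) = 1 := Subtype.ext (by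
      rw [Matrix.SpecialLinearGroup.coe_pow]
      exact smul_right_injective _ (sub_ne_zero.2 hne) hfix)
    have hdvd : m ∣ Fintype.card F - 1 := by
      rw [← hg]
      exact orderOf_dvd_of_pow_eq_one (by rw [← map_pow, hX1, map_one])
    have h3 : m ∣ 2 := by
      have := Nat.dvd_sub (hF ▸ hmd : m ∣ Fintype.card F + 1) hdvd
      rwa [show Fintype.card F + 1 - (Fintype.card F - 1) = 2 by omega] at this
    have := Nat.le_of_dvd (by norm_num) h3
    obtain ⟨j, rfl⟩ := hm
    omega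
  -- choose a sign `ε` and a root
  obtain ⟨ε, δ, k, hε, hδ, hk, hkeq⟩ : ∃ ε δ k : F, (ε = 1 ∨ ε = -1) ∧ (δ = 1 ∨ δ = -1) ∧ k ≠ 0 ∧
      ε * k ^ 2 = 2 - δ * τ := by
    have h2τ : (2 : F) - τ ≠ 0 := fun h => hτ4 (by linear_combination -(τ + 2) * h)
    have h2τ' : (2 : F) + τ ≠ 0 := fun h => hτ4 (by linear_combination (τ - 2) * h)
    by_cases hsq : IsSquare ((2 : F) - τ)
    · obtain ⟨k, hk⟩ := hsq
      exact ⟨1, 1, k, Or.inl rfl, Or.inl rfl, fun h => h2τ (by rw [hk, h, mul_zero]),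
        by rw [one_mul, one_mul, hk]; ring⟩
    by_cases hsq' : IsSquare (-((2 : F) - τ))
    · obtain ⟨k, hk⟩ := hsq'
      exact ⟨-1, 1, k, Or.inr rfl, Or.inl rfl, fun h => h2τ (by
        have := hk; rw [h, mul_zero, neg_eq_zero] at this; exact this),
        by linear_combination hk⟩
    by_cases hsq'' : IsSquare ((2 : F) + τ)
    · obtain ⟨k, hk⟩ := hsq''
      exact ⟨1, -1, k, Or.inl rfl, Or.inr rfl, fun h => h2τ' (by rw [hk, h, mul_zero]),
        by linear_combination -hk⟩
    exfalso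
    by_cases h2 : (2 : F) = 0
    · exact hsq (FiniteField.isSquare_of_char_two (by
        haveI : CharP F 2 := by
          refine (CharP.charP_iff_prime_eq_zero Nat.prime_two).2 ?_
          exact_mod_cast h2
        exact ringChar.eq F 2) _)
    · have hodd : ringChar F ≠ 2 := fun h => h2 (by
        haveI : CharP F 2 := ringChar.of_eq h
        exact CharTwo.two_eq_zero)
      have h1 := quadraticChar_neg_one_iff_not_isSquare.2 hsq'
      have h2' := quadraticChar_neg_one_iff_not_isSquare.2 hsq''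
      have hm2 : IsSquare ((-((2 : F) - τ)) * ((2 : F) + τ)) := by
        rw [← quadraticChar_one_iff_isSquare (mul_ne_zero (neg_ne_zero.2 h2τ) h2τ'), map_mul, h1,
          h2']
        norm_num
      obtain ⟨w, hw⟩ := hm2
      exact h2 (hnsq w (by linear_combination -hw))
  set c := k / t with hc
  obtain ⟨d, hd⟩ : ∃ d : SL(2, F), (d : Matrix (Fin 2) (Fin 2) F) = !![c, 0; 0, c⁻¹] :=
    ⟨⟨_, by rw [Matrix.det_fin_two_of, mul_inv_cancel₀ (div_ne_zero hk ht)]; simp⟩, rfl⟩
  obtain ⟨w, hw⟩ : ∃ w : SL(2, F), (w : Matrix (Fin 2) (Fin 2) F) = !![0, 1; -1, 0] :=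
    ⟨⟨_, by simp [Matrix.det_fin_two_of]⟩, rfl⟩
  set B := (w * d) * CfsgLib.Classical.uElt t * (w * d)⁻¹ with hB
  have hBm : (B : Matrix (Fin 2) (Fin 2) F) = !![1, 0; -(c ^ 2 * t), 1] := by
    rw [hB]
    simp only [Matrix.SpecialLinearGroup.coe_mul, Matrix.SpecialLinearGroup.coe_inv,
      adjugate_fin_two, CfsgLib.Classical.uElt_val, hd, hw]
    have hc0 : c ≠ 0 := div_ne_zero hk ht
    ext i j
    fin_cases i <;> fin_cases j <;> simp [Matrix.mul_apply, Fin.sum_univ_two] <;> field_simp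
  refine ⟨π (w * d), ?_⟩
  have hbm : b ∈ Subgroup.closure ({b, π (w * d) * b * (π (w * d))⁻¹} : Set PS) :=
    Subgroup.subset_closure (Or.inl rfl)
  have hBmem : π B ∈ Subgroup.closure ({b, π (w * d) * b * (π (w * d))⁻¹} : Set PS) :=
    Subgroup.subset_closure (Or.inr (by rw [hB, map_mul, map_mul, map_inv]; rfl))
  obtain ⟨B', hB'm, hB't⟩ : ∃ B' : SL(2, F),
      π B' ∈ Subgroup.closure ({b, π (w * d) * b * (π (w * d))⁻¹} : Set PS) ∧
      (CfsgLib.Classical.uElt t * B' : SL(2, F)).1.trace = δ * τ := by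
    rcases hε with rfl | rfl
    · refine ⟨B, hBmem, ?_⟩
      rw [Matrix.SpecialLinearGroup.coe_mul, hBm, CfsgLib.Classical.uElt_val]
      simp [Matrix.trace_fin_two, hc]
      field_simp
      linear_combination -hkeq
    · refine ⟨B⁻¹, by rw [map_inv]; exact inv_mem hBmem, ?_⟩
      rw [Matrix.SpecialLinearGroup.coe_mul, Matrix.SpecialLinearGroup.coe_inv, hBm,
        CfsgLib.Classical.uElt_val, adjugate_fin_two]
      simp [Matrix.trace_fin_two, hc]
      field_simp
      linear_combination -hkeq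
  refine ⟨π (CfsgLib.Classical.uElt t * B'), by rw [map_mul]; exact mul_mem hbm hB'm, ?_⟩
  obtain ⟨Y, hY, hYt⟩ : ∃ Y : SL(2, F), π Y = π X ∧
      (Y : Matrix (Fin 2) (Fin 2) F).trace = δ * τ := by
    rcases hδ with rfl | rfl
    · exact ⟨X, rfl, by rw [one_mul]⟩
    · exact ⟨CfsgLib.KnownB.SL2.negSL X, CfsgLib.KnownB.SL2.mk_negSL X,
        by rw [CfsgLib.KnownB.SL2.coe_negSL, Matrix.trace_neg, neg_one_mul]⟩
  have hδτ : (δ * τ) ^ 2 ≠ 4 := by
    rcases hδ with rfl | rfl <;> simpa using hτ4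
  obtain ⟨u, hu⟩ := CfsgLib.KnownB.SL2.isConj_mk_of_trace (F := F) (X := Y)
    (A := CfsgLib.Classical.uElt t * B') (Or.inl (by rw [hYt]; exact hδτ))
    (CfsgLib.KnownB.SL2.nonScalar_of_trace hδτ hYt)
    (CfsgLib.KnownB.SL2.nonScalar_of_trace hδτ hB't) (by rw [hB't, hYt])
  rw [hu, ← hg, ← hY]
  exact (MulAut.conj u).orderOf_eq (π Y)

end CfsgLib.ClassK.Push
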