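import Cfsg.Agent.Lib.ClassK.SubgroupCount
import Cfsg.Agent.Lib.PGroup.CyclicIndexClass
import Cfsg.Agent.Lib.Transfer.ClassTwo
import Cfsg.Agent.Lib.Transfer.MaxClassTwo
import Cfsg.Agent.Lib.Transfer.PGroupNormal
import Cfsg.Agent.S4058

/-!
Kulakov: subgroups of given order in a `p`-group modulo `p²`.
-/

set_option autoImplicit false

namespace CfsgLib.ClassK.Kulakov

open Subgroup
open scoped commutatorElement

universe u

variable {p : ℕ} [hp : Fact p.Prime] {G : Type u} [Group G] [Finite G]

omit hp in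
theorem subgroup_eq_of_card [IsCyclic G] {H K : Subgroup G} (h : Nat.card H = Nat.card K) :
    H = K := by
  let _ : CommGroup G := IsCyclic.commGroup
  have key : ∀ L : Subgroup G, L = (powMonoidHom (Nat.card L) : G →* G).ker := by
    intro L
    refine eq_of_le_of_card_ge (fun x hx => ?_) ?_
    · exact congrArg Subtype.val (pow_card_eq_one' (x := (⟨x, hx⟩ : L)))
    · rw [IsCyclic.card_powMonoidHom_ker, Nat.gcd_eq_right (card_subgroup_dvd_card L)]
  rw [key H, key K, h]

theorem commutator_le_frattini (hG : IsPGroup p G) : commutator G ≤ frattini G := by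
  rw [commutator_def, commutator_le]
  intro x _ y _
  have := StructC.comm_mem_frattini hG x⁻¹ y⁻¹
  rwa [inv_inv, inv_inv, ← commutatorElement_def] at this

theorem sq_le_index_commutator (hG : IsPGroup p G) (hnc : ¬ IsCyclic G) :
    p ^ 2 ≤ (commutator G).index :=
  (SubCount.sq_le_index_frattini hG hnc).trans (Nat.le_of_dvd
    (Nat.pos_of_ne_zero index_ne_zero_of_finite) (index_dvd_of_le (commutator_le_frattini hG)))

/-- Maximal class two-groups: the derived subgroup is the Frattini subgroup, of index four. -/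
theorem frattini_eq_of_index_four (hG : IsPGroup 2 G) (hnc : ¬ IsCyclic G)
    (hmc : (commutator G).index = 4) : frattini G = commutator G ∧ (frattini G).index = 4 := by
  haveI : Fact (Nat.Prime 2) := ⟨Nat.prime_two⟩
  have h1 := SubCount.sq_le_index_frattini hG hnc
  have h2 := index_dvd_of_le (commutator_le_frattini hG)
  rw [hmc] at h2
  have h3 : (frattini G).index = 4 := le_antisymm (Nat.le_of_dvd (by norm_num) h2) h1
  refine ⟨(eq_of_le_of_card_ge (commutator_le_frattini hG) ?_).symm, h3⟩
  have a := card_mul_index (frattini G)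
  have b := card_mul_index (commutator G)
  rw [h3, ← b, hmc] at a
  omega

/-- An element of a non-cyclic group of order `p ^ m` has order dividing `p ^ (m - 1)`. -/
theorem pow_eq_one_of_not_cyclic {m : ℕ} (hm : Nat.card G = p ^ m) (hnc : ¬ IsCyclic G) (x : G) :
    x ^ p ^ (m - 1) = 1 := by
  obtain ⟨i, hi, ho⟩ := (Nat.dvd_prime_pow hp.out).1 (hm ▸ orderOf_dvd_natCard x)
  rw [← orderOf_dvd_iff_pow_eq_one, ho]
  refine pow_dvd_pow p ?_
  by_contra hlt
  exact hnc (isCyclic_of_orderOf_eq_card x (by rw [ho, hm, show i = m by omega]))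

/-- Generators commuting modulo a central subgroup. -/
theorem commutator_le_of_gens {a b z : G} (hgen : closure ({a, b} : Set G) = ⊤)
    (hz : z ∈ center G) (hab : b * a * b⁻¹ * a⁻¹ ∈ zpowers z) : commutator G ≤ zpowers z := by
  haveI : (zpowers z).Normal := ⟨fun x hx g => by
    rw [mem_center_iff.mp (zpowers_le.mpr hz hx) g, mul_inv_cancel_right]; exact hx⟩
  let π := QuotientGroup.mk' (zpowers z)
  have hcomm : π b * π a = π a * π b := by
    have h1 : π (b * a * b⁻¹ * a⁻¹) = 1 := (QuotientGroup.eq_one_iff _).mpr hab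
    rw [map_mul, map_mul, map_mul, map_inv, map_inv] at h1
    calc π b * π a = (π b * π a * (π b)⁻¹ * (π a)⁻¹) * (π a * π b) := by group
      _ = π a * π b := by rw [h1, one_mul]
  have hab' : IsMulCommutative (closure ({π a, π b} : Set (G ⧸ zpowers z))) := by
    refine isMulCommutative_closure fun x hx y hy => ?_
    rcases hx with rfl | rfl <;> rcases hy with rfl | rfl
    exacts [rfl, hcomm.symm, hcomm, rfl]
  have htop : closure ({π a, π b} : Set (G ⧸ zpowers z)) = ⊤ := by
    rw [← Set.image_pair (f := π), ← MonoidHom.map_closure, hgen, ← MonoidHom.range_eq_map]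
    exact MonoidHom.range_eq_top.mpr (QuotientGroup.mk'_surjective _)
  rw [commutator_def, commutator_le]
  intro x _ y _
  refine (QuotientGroup.eq_one_iff _).mp ?_
  show π ⁅x, y⁆ = 1
  rw [map_commutatorElement, commutatorElement_eq_one_iff_mul_comm]
  exact congrArg Subtype.val (hab'.is_comm.comm ⟨π x, htop ▸ mem_top _⟩ ⟨π y, htop ▸ mem_top _⟩)

/-- Structure data when a maximal subgroup is cyclic and the group is not of maximal class. -/
theorem cyclic_max_power_law {m : ℕ} (hm3 : 3 ≤ m) (hm : Nat.card G = p ^ m) (hnc : ¬ IsCyclic G)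
    (hgood : ¬ (p = 2 ∧ (commutator G).index = 4)) {A : Subgroup G} (hA : IsCyclic A)
    (hAi : A.index = p) :
    ∀ x y : G, (x * y) ^ p ^ (m - 2) = x ^ p ^ (m - 2) * y ^ p ^ (m - 2) := by
  have hG : IsPGroup p G := IsPGroup.of_card hm
  intro x y
  by_cases hna : ∀ u v : G, u * v = v * u
  · exact (show Commute x y from hna x y).mul_pow _
  simp only [not_forall] at hna
  -- generators `a, b` with `b a b⁻¹ = a z`
  obtain ⟨a, b, hao, hb, hconj, hm4⟩ : ∃ a b : G, orderOf a = p ^ (m - 1) ∧ b ∉ zpowers a ∧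
      b * a * b⁻¹ = a ^ (1 + p ^ (m - 2)) ∧ (p = 2 → 4 ≤ m) := by
    by_cases h2 : p = 2
    · subst h2
      have hcle : ∀ {a : G}, orderOf a = 2 ^ (m - 1) →
          ∀ {e : ℕ}, a ^ e ∈ commutator G → Nat.gcd (2 ^ (m - 1)) e = 2 → False := by
        intro a hao e he hgcd
        refine hgood ⟨rfl, le_antisymm ?_ (sq_le_index_commutator hG hnc)⟩
        have h1 := Nat.le_of_dvd (Nat.pos_of_ne_zero index_ne_zero_of_finite)
          (index_dvd_of_le (zpowers_le.mpr he))
        refine h1.trans ?_
        have h2 := card_mul_index (zpowers (a ^ e))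
        rw [Nat.card_zpowers, orderOf_pow, hao, hgcd, hm] at h2
        have h3 : 2 ^ (m - 1) / 2 = 2 ^ (m - 2) := by
          rw [show m - 1 = m - 2 + 1 by omega, pow_succ, Nat.mul_div_cancel _ two_pos]
        rw [h3, show 2 ^ m = 2 ^ (m - 2) * 4 by
          rw [show (4 : ℕ) = 2 ^ 2 from rfl, ← pow_add, Nat.sub_add_cancel (by omega)]] at h2
        exact (Nat.eq_of_mul_eq_mul_left (pow_pos two_pos _) h2).le
      obtain ⟨a, b, hao, hb, h⟩ := CfsgLib.PGroup.exists_gens_two hm3 hm A hA hAi hna
      have hcom : ∀ w : G, b * a * b⁻¹ = w → w * a⁻¹ ∈ commutator G := by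
        rintro w rfl
        rw [commutator_def, ← commutatorElement_def]
        exact commutator_mem_commutator (mem_top _) (mem_top _)
      have hinv : b * a * b⁻¹ = a⁻¹ → False := by
        intro hc
        refine hcle hao (e := 2) (by
          have := inv_mem (hcom _ hc)
          simpa [pow_two] using this) (Nat.gcd_eq_right (dvd_pow_self 2 (by omega)))
      rcases h with ⟨-, h⟩ | ⟨-, h⟩ | ⟨h4, -, h⟩ | ⟨h4, -, h⟩
      · exact (hinv h).elim
      · exact (hinv h).elim
      · exact ⟨a, b, hao, hb, h, fun _ => h4⟩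
      · exfalso
        have h2p : 2 ≤ 2 ^ (m - 2) := Nat.le_self_pow (by omega) 2
        refine hcle hao (e := 2 ^ (m - 2) - 2) ?_ ?_
        · have := hcom _ h
          rwa [show a ^ (2 ^ (m - 2) - 1) * a⁻¹ = a ^ (2 ^ (m - 2) - 2) by
            rw [show 2 ^ (m - 2) - 1 = (2 ^ (m - 2) - 2) + 1 by omega, pow_succ,
              mul_inv_cancel_right]] at this
        · obtain ⟨j, hj⟩ : ∃ j, m = j + 4 := ⟨m - 4, by omega⟩
          subst hj
          show Nat.gcd (2 ^ (j + 4 - 1)) (2 ^ (j + 4 - 2) - 2) = 2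
          rw [show j + 4 - 1 = j + 3 from rfl, show j + 4 - 2 = j + 2 from rfl,
            show 2 ^ (j + 2) - 2 = 2 * (2 ^ (j + 1) - 1) by
              rw [Nat.mul_sub_one, ← pow_succ'],
            show 2 ^ (j + 3) = 2 * 2 ^ (j + 2) from pow_succ' 2 (j + 2), Nat.gcd_mul_left]
          have hodd : Nat.Coprime (2 ^ (j + 2)) (2 ^ (j + 1) - 1) := by
            refine Nat.Coprime.pow_left _ (Nat.coprime_two_left.mpr ?_)
            exact Nat.Even.sub_odd Nat.one_le_two_pow (Nat.even_pow.mpr ⟨even_two, by omega⟩) odd_one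
          rw [hodd]
    · obtain ⟨a, b, hao, -, hb, h⟩ := CfsgLib.PGroup.exists_gens_odd h2 hm3 hm A hA hAi hna
      exact ⟨a, b, hao, hb, h, fun h => absurd h h2⟩
  set z := a ^ p ^ (m - 2) with hz
  have hzp : z ^ p = 1 := by
    rw [hz, ← pow_mul, ← pow_succ, show m - 2 + 1 = m - 1 by omega, ← hao, pow_orderOf_eq_one]
  have hgen : closure ({a, b} : Set G) = ⊤ := by
    have hAa : (zpowers a).index = p := by
      have h1 := card_mul_index (zpowers a)
      rw [Nat.card_zpowers, hao, hm, show p ^ m = p ^ (m - 1) * p by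
        rw [← pow_succ, Nat.sub_add_cancel (by omega)]] at h1
      exact Nat.eq_of_mul_eq_mul_left (pow_pos hp.out.pos _) h1
    refine (SubCount.isCoatom_of_index hAa).2 _ (lt_of_le_of_ne
      (zpowers_le.mpr (subset_closure (Set.mem_insert a _))) fun e => hb ?_)
    rw [e]
    exact subset_closure (Set.mem_insert_of_mem a rfl)
  have hzc : z ∈ center G := by
    have hbz : b * z * b⁻¹ = z := by
      rw [hz, ← conj_pow, hconj, ← pow_mul, add_mul, one_mul, pow_add,
        show p ^ (m - 2) * p ^ (m - 2) = p ^ (m - 1) * p ^ (m - 3) by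
          rw [← pow_add, ← pow_add]; congr 1; omega,
        pow_mul, ← hao, pow_orderOf_eq_one, one_pow, mul_one]
    have hle : closure ({a, b} : Set G) ≤ centralizer {z} := by
      rw [closure_le]
      rintro w (rfl | rfl)
      · exact mem_centralizer_singleton_iff.mpr ((Commute.refl _).pow_right _).eq
      · exact mem_centralizer_singleton_iff.mpr (mul_inv_eq_iff_eq_mul.mp hbz)
    rw [mem_center_iff]
    intro w
    exact mem_centralizer_singleton_iff.mp (hle (hgen ▸ mem_top w))
  have hle := commutator_le_of_gens hgen hzc (by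
    rw [hconj, pow_add, pow_one, ((Commute.refl a).pow_right _).eq, mul_inv_cancel_right]
    exact mem_zpowers z)
  have hyx : ⁅y, x⁆ ∈ zpowers z := hle (by
    rw [commutator_def]; exact commutator_mem_commutator (mem_top _) (mem_top _))
  have hcc := mem_center_iff.mp (zpowers_le.mpr hzc hyx)
  rw [CfsgLib.Transfer.mul_pow_of_commute_commutator (hcc x) (hcc y)]
  have hd : p ∣ (p ^ (m - 2)).choose 2 := by
    by_cases h2 : p = 2
    · subst h2
      obtain ⟨j, hj⟩ : ∃ j, m - 2 = j + 2 := ⟨m - 4, by have := hm4 rfl; omega⟩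
      rw [hj, Nat.choose_two_right, pow_add]
      obtain ⟨q, hq⟩ : ∃ q, 2 ^ j * 2 ^ 2 * (2 ^ j * 2 ^ 2 - 1) / 2 = 2 * q :=
        ⟨2 ^ j * (2 ^ j * 2 ^ 2 - 1), by
          rw [show 2 ^ j * 2 ^ 2 * (2 ^ j * 2 ^ 2 - 1) = 2 * (2 * (2 ^ j * (2 ^ j * 2 ^ 2 - 1))) by ring,
            Nat.mul_div_cancel_left _ two_pos]⟩
      exact hq ▸ dvd_mul_right 2 q
    · refine hp.out.dvd_choose_pow two_ne_zero ?_
      intro h
      exact h2 ((Nat.prime_dvd_prime_iff_eq hp.out Nat.prime_two).mp
        (by have h' := dvd_pow_self p (show m - 2 ≠ 0 by omega); first | rwa [h] | rwa [← h] at h'))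
  obtain ⟨i, hi⟩ := mem_zpowers_iff.mp hyx
  obtain ⟨c, hc⟩ := hd
  rw [hc, pow_mul, ← hi, ← zpow_natCast (z ^ i), ← zpow_mul, mul_comm, zpow_mul, zpow_natCast,
    hzp, one_zpow, one_pow, mul_one]

/-- The number of cyclic maximal subgroups is divisible by `p` outside maximal class. -/
theorem card_cyclic_max {m : ℕ} (hm3 : 3 ≤ m) (hm : Nat.card G = p ^ m) (hnc : ¬ IsCyclic G)
    (hgood : ¬ (p = 2 ∧ (commutator G).index = 4)) :
    p ∣ Nat.card {M : Subgroup G // M.index = p ∧ IsCyclic M} := by
  classical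
  set T := {M : Subgroup G // M.index = p ∧ IsCyclic M}
  rcases isEmpty_or_nonempty T with h | ⟨⟨A, hAi, hA⟩⟩
  · rw [Nat.card_of_isEmpty]; exact dvd_zero p
  have hpow := cyclic_max_power_law hm3 hm hnc hgood hA hAi
  let f : G →* G :=
    { toFun := fun x => x ^ p ^ (m - 2)
      map_one' := one_pow _
      map_mul' := hpow }
  have hone := pow_eq_one_of_not_cyclic hm hnc
  have hpm1 : p ^ (m - 2) * p = p ^ (m - 1) := by rw [← pow_succ]; congr 1; omega
  have hgenM : ∀ M : Subgroup G, M.index = p → IsCyclic M →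
      ∃ a : G, M = zpowers a ∧ orderOf a = p ^ (m - 1) := fun M hMi hM => by
    obtain ⟨a, h1, h2, -⟩ := CfsgLib.PGroup.cyclic_index_setup hm3 hm M hM hMi
    exact ⟨a, h1, h2⟩
  have hnot : ∀ a : G, orderOf a = p ^ (m - 1) → f a ≠ 1 := fun a ha h => by
    have := orderOf_dvd_of_pow_eq_one (show a ^ p ^ (m - 2) = 1 from h)
    rw [ha, Nat.pow_dvd_pow_iff_le_right hp.out.one_lt] at this
    omega
  obtain ⟨a, hAa, hao⟩ := hgenM A hAi hA
  have hK : f.ker.index = p := by
    rw [index_ker]
    haveI hAn : A.Normal := (CfsgLib.PGroup.cyclic_index_setup hm3 hm A hA hAi).choose_spec.2.2.1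
    have hle : f.range ≤ zpowers (f a) := by
      rintro _ ⟨x, rfl⟩
      have hxp : f x ∈ zpowers a := by
        rw [← hAa]
        show x ^ p ^ (m - 2) ∈ A
        rw [show p ^ (m - 2) = p * p ^ (m - 3) by rw [← pow_succ']; congr 1; omega, pow_mul]
        exact pow_mem (hAi ▸ A.pow_index_mem x) _
      obtain ⟨i, hi⟩ := mem_zpowers_iff.mp hxp
      have h1 : a ^ (i * (p : ℤ)) = 1 := by
        rw [zpow_mul, hi, zpow_natCast]
        show (x ^ p ^ (m - 2)) ^ p = 1
        rw [← pow_mul, hpm1, hone]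
      rw [← orderOf_dvd_iff_zpow_eq_one, hao, ← hpm1] at h1
      push_cast at h1
      obtain ⟨q, hq⟩ := Int.dvd_of_mul_dvd_mul_right (by exact_mod_cast hp.out.ne_zero) h1
      refine mem_zpowers_iff.mpr ⟨q, ?_⟩
      rw [← hi, hq]
      show (a ^ p ^ (m - 2)) ^ q = _
      rw [← zpow_natCast a, ← zpow_mul]
      push_cast
      rfl
    refine le_antisymm ?_ ?_
    · refine (Nat.le_of_dvd Nat.card_pos (card_dvd_of_le hle)).trans ?_
      rw [Nat.card_zpowers]
      refine Nat.le_of_dvd hp.out.pos (orderOf_dvd_of_pow_eq_one ?_)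
      show (a ^ p ^ (m - 2)) ^ p = 1
      rw [← pow_mul, hpm1, hone]
    · obtain ⟨k, hk⟩ := ((IsPGroup.of_card hm).to_subgroup f.range).exists_card_eq
      rcases k with _ | k
      · exfalso
        have hb : f.range = ⊥ := eq_bot_of_card_eq _ (by rw [hk, pow_zero])
        exact hnot a hao (mem_bot.mp (hb ▸ ⟨a, rfl⟩ : f a ∈ (⊥ : Subgroup G)))
      · rw [hk]; exact Nat.le_self_pow k.succ_ne_zero p
  set K := f.ker
  -- elements outside `K` lie in exactly one cyclic maximal subgroup
  have hord : ∀ x, x ∉ K → orderOf x = p ^ (m - 1) := by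
    intro x hx
    obtain ⟨i, hi, ho⟩ := (Nat.dvd_prime_pow hp.out).1 (orderOf_dvd_of_pow_eq_one (hone x))
    rcases eq_or_lt_of_le hi with rfl | hlt
    · exact ho
    · refine absurd (show x ∈ K from ?_) hx
      show x ^ p ^ (m - 2) = 1
      rw [← orderOf_dvd_iff_pow_eq_one, ho]
      exact pow_dvd_pow p (by omega)
  have hidx : ∀ x, x ∉ K → (zpowers x).index = p := fun x hx => by
    have h1 := card_mul_index (zpowers x)
    rw [Nat.card_zpowers, hord x hx, hm, show p ^ m = p ^ (m - 1) * p by
      rw [← pow_succ]; congr 1; omega] at h1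
    exact Nat.eq_of_mul_eq_mul_left (pow_pos hp.out.pos _) h1
  have e : (Σ M : T, {x : M.1 // (x : G) ∉ K}) ≃ {x : G // x ∉ K} :=
    { toFun := fun s => ⟨s.2.1, s.2.2⟩
      invFun := fun x => ⟨⟨zpowers x.1, hidx x.1 x.2, inferInstance⟩, ⟨⟨x.1, mem_zpowers _⟩, x.2⟩⟩
      left_inv := by
        rintro ⟨⟨M, hMi, hM⟩, ⟨⟨x, hxM⟩, hx⟩⟩
        have heq : zpowers x = M := by
          refine eq_of_le_of_card_ge (zpowers_le.mpr hxM) ?_
          rw [Nat.card_zpowers, hord x hx]
          have h1 := card_mul_index M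
          rw [hMi, hm, show p ^ m = p ^ (m - 1) * p by rw [← pow_succ]; congr 1; omega] at h1
          exact (Nat.eq_of_mul_eq_mul_right hp.out.pos h1).le
        subst heq
        rfl
      right_inv := fun x => rfl }
  have hcompl : ∀ (X : Type u) [Group X] [Finite X] (L : Subgroup X),
      Nat.card {x : X // x ∉ L} + Nat.card L = Nat.card X := by
    intro X _ _ L
    rw [add_comm, ← Nat.card_sum]
    exact Nat.card_congr (Equiv.sumCompl (fun x => x ∈ L))
  have hfib : ∀ M : T, Nat.card {x : M.1 // (x : G) ∉ K} = p ^ (m - 1) - p ^ (m - 2) := by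
    rintro ⟨M, hMi, hM⟩
    obtain ⟨a', rfl, ha'⟩ := hgenM M hMi hM
    have hd : K.relIndex (zpowers a') ∣ p := hK ▸ relIndex_dvd_index_of_normal K _
    have hrel : K.relIndex (zpowers a') = p := ((Nat.dvd_prime hp.out).mp hd).resolve_left
      fun h => hnot a' ha' (relIndex_eq_one.mp h (mem_zpowers a'))
    have h1 := card_mul_index (K.subgroupOf (zpowers a'))
    rw [show (K.subgroupOf (zpowers a')).index = p from hrel, Nat.card_zpowers, ha', ← hpm1] at h1
    have h2 := hcompl (zpowers a') (K.subgroupOf (zpowers a'))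
    rw [Nat.eq_of_mul_eq_mul_right hp.out.pos h1, Nat.card_zpowers, ha'] at h2
    exact Nat.eq_sub_of_add_eq h2
  have hKc : Nat.card K = p ^ (m - 1) := by
    have h1 := card_mul_index K
    rw [hK, hm, show p ^ m = p ^ (m - 1) * p by rw [← pow_succ]; congr 1; omega] at h1
    exact Nat.eq_of_mul_eq_mul_right hp.out.pos h1
  haveI := Fintype.ofFinite T
  have h := Nat.card_congr e
  rw [Nat.card_sigma] at h
  simp only [hfib, Finset.sum_const, Finset.card_univ, smul_eq_mul] at h
  have h2 := hcompl G K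
  rw [← h, hKc, hm] at h2
  obtain ⟨j, rfl⟩ : ∃ j, m = j + 2 := ⟨m - 2, by omega⟩
  simp only [show j + 2 - 1 = j + 1 from rfl, show j + 2 - 2 = j from rfl, pow_succ] at h2
  rw [Nat.card_eq_fintype_card]
  obtain ⟨q, hq⟩ : ∃ q, p = q + 1 := ⟨p - 1, by have := hp.out.pos; omega⟩
  have hj : p ^ j * p - p ^ j = p ^ j * q := by
    conv_lhs => rw [hq]
    rw [Nat.mul_add, mul_one, Nat.add_sub_cancel, ← hq]
  rw [hj] at h2
  refine ⟨1, ?_⟩
  rw [mul_one]
  refine Nat.eq_of_mul_eq_mul_right (Nat.mul_pos (pow_pos hp.out.pos j)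
    (show 0 < q by have := hp.out.two_le; omega)) ?_
  rw [hq] at h2 ⊢
  linarith [h2]

section Two

variable {G : Type u} [Group G] [Finite G]

/-- Maximal class two-groups of order `2 ^ m`, `m ≥ 3`: three maximal subgroups, an odd number of
them cyclic, and for `m ≥ 4` the others of maximal class. -/
theorem max_class_maximals {m : ℕ} (hm3 : 3 ≤ m) (hm : Nat.card G = 2 ^ m) (hnc : ¬ IsCyclic G)
    (hmc : (commutator G).index = 4) :
    Nat.card {M : Subgroup G // M.index = 2} = 3 ∧
      ¬ 2 ∣ Nat.card {M : Subgroup G // M.index = 2 ∧ IsCyclic M} ∧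
      (4 ≤ m → ∀ M : Subgroup G, M.index = 2 → IsCyclic M ∨ (commutator M).index = 4) := by
  classical
  haveI : Fact (Nat.Prime 2) := ⟨Nat.prime_two⟩
  have hG : IsPGroup 2 G := IsPGroup.of_card hm
  obtain ⟨hΦ, hΦi⟩ := frattini_eq_of_index_four hG hnc hmc
  have hN : Nat.card {M : Subgroup G // M.index = 2} = 3 := by
    rw [show Nat.card {M : Subgroup G // M.index = 2} =
        Nat.card {M : Subgroup G // M.index = 2 ∧ frattini G ≤ M} from
      Nat.card_congr (Equiv.subtypeEquivRight fun M =>
        ⟨fun h => ⟨h, SubCount.frattini_le_of_index hG h⟩, fun h => h.1⟩),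
      SubCount.card_index_over (frattini G) 2]
    letI : CommGroup (G ⧸ frattini G) :=
      { (inferInstance : Group (G ⧸ frattini G)) with
        mul_comm := fun a b => by
          obtain ⟨a, rfl⟩ := QuotientGroup.mk_surjective a
          obtain ⟨b, rfl⟩ := QuotientGroup.mk_surjective b
          rw [← QuotientGroup.mk_mul, ← QuotientGroup.mk_mul, QuotientGroup.eq]
          have := StructC.comm_mem_frattini hG b a
          rwa [show (a * b)⁻¹ * (b * a) = b⁻¹ * a⁻¹ * b * a by group] }
    have h := SubCount.card_index_prime_elementary (p := 2) (Q := G ⧸ frattini G) fun x => by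
      obtain ⟨x, rfl⟩ := QuotientGroup.mk_surjective x
      rw [← QuotientGroup.mk_pow, QuotientGroup.eq_one_iff]
      exact StructC.pow_mem_frattini hG x
    rw [← index_eq_card (frattini G), hΦi] at h
    omega
  have hsq : ∀ x : G, x * x ∈ commutator G := fun x => by
    rw [← hΦ, ← pow_two]; exact StructC.pow_mem_frattini hG x
  have hcl := CfsgLib.Transfer.maxClass_of_commutator hm3 hm hmc hsq
  obtain ⟨A, hA, hAi⟩ := CfsgLib.Transfer.exists_cyclic_index_two hm3 hm hcl
  have hna : ∃ x y : G, x * y ≠ y * x := by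
    by_contra h
    simp only [not_exists, not_not] at h
    exact CfsgLib.Transfer.not_isMulCommutative_of_maxClass hm3 hm hcl ⟨⟨h⟩⟩
  obtain ⟨a, b, hao, hb, h⟩ := CfsgLib.PGroup.exists_gens_two hm3 hm A hA hAi hna
  have hapow : ∀ j : ℤ, ((2 : ℤ) ^ (m - 1)) ∣ j → a ^ j = 1 := fun j hj => by
    rw [← orderOf_dvd_iff_zpow_eq_one, hao]; push_cast; exact hj
  have h21 : (2 : ℤ) ^ (m - 1) = 2 * 2 ^ (m - 2) := by rw [← pow_succ']; congr 1; omega
  -- the action of `b`
  obtain ⟨r, hr, hr2, hb4, hb8⟩ : ∃ r : ℤ, b * a * b⁻¹ = a ^ r ∧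
      ((2 : ℤ) ^ (m - 2) ∣ r + 1) ∧ (b ^ 2) ^ 2 = 1 ∧ (m = 3 → r = -1) := by
    rcases h with ⟨hb2, h⟩ | ⟨hb2, h⟩ | ⟨h4, hb2, h⟩ | ⟨h4, hb2, h⟩
    · exact ⟨-1, by rw [zpow_neg_one]; exact h, by simp, by rw [hb2, one_pow], fun _ => rfl⟩
    · exact ⟨-1, by rw [zpow_neg_one]; exact h, by simp, by
        rw [hb2, ← pow_mul, ← pow_succ, show m - 2 + 1 = m - 1 by omega, ← hao, pow_orderOf_eq_one],
        fun _ => rfl⟩
    · -- the modular group is not of maximal class
      exfalso
      set z := a ^ 2 ^ (m - 2) with hz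
      have hz2 : z ^ 2 = 1 := by
        rw [hz, ← pow_mul, ← pow_succ, show m - 2 + 1 = m - 1 by omega, ← hao, pow_orderOf_eq_one]
      have hbz : b * z * b⁻¹ = z := by
        rw [hz, ← conj_pow, h, ← pow_mul, add_mul, one_mul, pow_add,
          show 2 ^ (m - 2) * 2 ^ (m - 2) = 2 ^ (m - 1) * 2 ^ (m - 3) by
            rw [← pow_add, ← pow_add]; congr 1; omega,
          pow_mul, ← hao, pow_orderOf_eq_one, one_pow, mul_one]
      have hgen : closure ({a, b} : Set G) = ⊤ := by
        have hAa : (zpowers a).index = 2 := by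
          have h1 := card_mul_index (zpowers a)
          rw [Nat.card_zpowers, hao, hm, show 2 ^ m = 2 ^ (m - 1) * 2 by
            rw [← pow_succ]; congr 1; omega] at h1
          exact Nat.eq_of_mul_eq_mul_left (pow_pos two_pos _) h1
        refine (SubCount.isCoatom_of_index hAa).2 _ (lt_of_le_of_ne
          (zpowers_le.mpr (subset_closure (Set.mem_insert a _))) fun e => hb ?_)
        rw [e]
        exact subset_closure (Set.mem_insert_of_mem a rfl)
      have hzc : z ∈ center G := by
        have hle : closure ({a, b} : Set G) ≤ centralizer {z} := by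
          rw [closure_le]
          rintro w (rfl | rfl)
          · exact mem_centralizer_singleton_iff.mpr ((Commute.refl _).pow_right _).eq
          · exact mem_centralizer_singleton_iff.mpr (mul_inv_eq_iff_eq_mul.mp hbz)
        rw [mem_center_iff]
        intro w
        exact mem_centralizer_singleton_iff.mp (hle (hgen ▸ mem_top w))
      have hle := commutator_le_of_gens hgen hzc (by
        rw [h, pow_add, pow_one, ((Commute.refl a).pow_right _).eq, mul_inv_cancel_right]
        exact mem_zpowers z)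
      have h1 := Nat.le_of_dvd Nat.card_pos (card_dvd_of_le hle)
      rw [Nat.card_zpowers] at h1
      have h2 := Nat.le_of_dvd two_pos (orderOf_dvd_of_pow_eq_one hz2)
      have h3 := card_mul_index (commutator G)
      rw [hmc, hm] at h3
      have h5 : 2 ^ 4 ≤ 2 ^ m := Nat.pow_le_pow_right two_pos h4
      omega
    · refine ⟨2 ^ (m - 2) - 1, ?_, by simp, by rw [hb2, one_pow], fun h3 => by omega⟩
      rw [h, ← zpow_natCast a, Nat.cast_sub Nat.one_le_two_pow]
      push_cast
      rfl
  have hgenM : ∀ M : Subgroup G, M.index = 2 → IsCyclic M →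
      ∃ c : G, M = zpowers c ∧ orderOf c = 2 ^ (m - 1) := fun M hMi hM => by
    obtain ⟨c, h1, h2, -⟩ := CfsgLib.PGroup.cyclic_index_setup hm3 hm M hM hMi
    exact ⟨c, h1, h2⟩
  have hAa : (zpowers a).index = 2 := by
    have h1 := card_mul_index (zpowers a)
    rw [Nat.card_zpowers, hao, hm, show 2 ^ m = 2 ^ (m - 1) * 2 by
      rw [← pow_succ]; congr 1; omega] at h1
    exact Nat.eq_of_mul_eq_mul_left (pow_pos two_pos _) h1
  haveI hAn : (zpowers a).Normal := normal_of_index_eq_two hAa
  -- elements outside `⟨a⟩`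
  have hout : ∀ y : G, y ∉ zpowers a → ∃ i : ℤ, y = a ^ i * b := by
    intro y hy
    have h1 : y * b⁻¹ ∈ zpowers a := (mul_mem_iff_of_index_two hAa).mpr
      (iff_of_false hy (fun h => hb (inv_mem_iff.mp h)))
    obtain ⟨i, hi⟩ := mem_zpowers_iff.mp h1
    exact ⟨i, by rw [hi, inv_mul_cancel_right]⟩
  have hsq' : ∀ i : ℤ, (a ^ i * b) ^ 2 = a ^ (i * (r + 1)) * b ^ 2 := by
    intro i
    have h1 := CfsgLib.PGroup.conj_zpow_eq hr i
    rw [pow_two, pow_two, show a ^ i * b * (a ^ i * b) = a ^ i * (b * a ^ i * b⁻¹) * (b * b) by group,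
      h1, ← zpow_add, show i + r * i = i * (r + 1) by ring]
  have hy4 : ∀ y : G, y ∉ zpowers a → (y ^ 2) ^ 2 = 1 := by
    intro y hy
    obtain ⟨i, rfl⟩ := hout y hy
    rw [hsq']
    have hc : Commute (a ^ (i * (r + 1))) (b ^ 2) := by
      have hb2 : b ^ 2 ∈ zpowers a := hAa ▸ (zpowers a).pow_index_mem b
      obtain ⟨j, hj⟩ := mem_zpowers_iff.mp hb2
      rw [← hj]
      exact (Commute.refl a).zpow_zpow _ _
    rw [hc.mul_pow, hb4, mul_one, ← zpow_natCast, ← zpow_mul]
    refine hapow _ ?_
    obtain ⟨q, hq⟩ := hr2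
    exact ⟨i * q, by rw [hq, h21]; push_cast; ring⟩
  refine ⟨hN, ?_, fun h4 M hMi => ?_⟩
  · intro heven
    haveI : Finite {M : Subgroup G // M.index = 2 ∧ IsCyclic M} := inferInstance
    have hAmem : (zpowers a).index = 2 ∧ IsCyclic (zpowers a) := ⟨hAa, inferInstance⟩
    by_cases hB : ∃ B : Subgroup G, B.index = 2 ∧ IsCyclic B ∧ B ≠ zpowers a
    · -- all three maximal subgroups are cyclic
      obtain ⟨B, hBi, hB, hBne⟩ := hB
      obtain ⟨c, rfl, hc⟩ := hgenM B hBi hB
      have hcA : c ∉ zpowers a := fun h => hBne (eq_of_le_of_card_ge (zpowers_le.mpr h)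
        (by rw [Nat.card_zpowers, Nat.card_zpowers, hao, hc]))
      have hm' : m = 3 := by
        have h1 := hy4 c hcA
        rw [← pow_mul] at h1
        have h2 := orderOf_dvd_of_pow_eq_one h1
        rw [hc, show 2 * 2 = 2 ^ 2 from rfl, Nat.pow_dvd_pow_iff_le_right one_lt_two] at h2
        omega
      subst hm'
      have hall : ∀ M : Subgroup G, M.index = 2 → IsCyclic M := by
        intro M hMi
        by_cases hMA : M = zpowers a
        · subst hMA; infer_instance
        obtain ⟨y, hyM, hyA⟩ : ∃ y ∈ M, y ∉ zpowers a := by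
          by_contra hno
          simp only [not_exists, not_and, not_not] at hno
          refine hMA (eq_of_le_of_card_ge hno ?_)
          have e1 := card_mul_index M
          have e2 := card_mul_index (zpowers a)
          rw [hMi] at e1
          rw [hAa] at e2
          omega
        obtain ⟨i, rfl⟩ := hout y hyA
        have hb2 : b ^ 2 ≠ 1 := by
          intro hb2
          obtain ⟨j, hj⟩ := hout c hcA
          have hc2 : c ^ 2 = 1 := by rw [hj, hsq', hb8 rfl, hb2]; simp
          have := orderOf_dvd_of_pow_eq_one hc2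
          rw [hc] at this
          norm_num at this
        have hy2 : (a ^ i * b) ^ 2 ≠ 1 := by
          rw [hsq', hb8 rfl]; simpa using hb2
        have hord : orderOf (a ^ i * b) = 2 ^ (1 + 1) := by
          refine orderOf_eq_prime_pow (by simpa using hy2) ?_
          rw [show 2 ^ (1 + 1) = 2 * 2 from rfl, pow_mul]
          exact hy4 _ hyA
        have hzy : zpowers (a ^ i * b) = M := by
          refine eq_of_le_of_card_ge (zpowers_le.mpr hyM) ?_
          rw [Nat.card_zpowers, hord]
          have e1 := card_mul_index M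
          rw [hMi, hm] at e1
          omega
        rw [← hzy]; infer_instance
      have h3 : Nat.card {M : Subgroup G // M.index = 2 ∧ IsCyclic M} = 3 := by
        rw [← hN]
        exact Nat.card_congr (Equiv.subtypeEquivRight fun M => ⟨fun h => h.1, fun h => ⟨h, hall M h⟩⟩)
      omega
    · simp only [not_exists, not_and, not_not] at hB
      have h1 : Nat.card {M : Subgroup G // M.index = 2 ∧ IsCyclic M} = 1 :=
        Nat.card_eq_one_iff_exists.mpr ⟨⟨_, hAmem⟩, fun M => Subtype.ext (hB M.1 M.2.1 M.2.2)⟩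
      omega
  · by_cases hMc : IsCyclic M
    · exact Or.inl hMc
    refine Or.inr (le_antisymm ?_ (sq_le_index_commutator (hG.to_subgroup M) hMc))
    have hMA : M ≠ zpowers a := fun h => hMc (h ▸ inferInstance)
    obtain ⟨y, hyM, hyA⟩ : ∃ y ∈ M, y ∉ zpowers a := by
      by_contra hno
      simp only [not_exists, not_and, not_not] at hno
      refine hMA (eq_of_le_of_card_ge hno ?_)
      have e1 := card_mul_index M
      have e2 := card_mul_index (zpowers a)
      rw [hMi] at e1
      rw [hAa] at e2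
      omega
    have ha2 : a ^ 2 ∈ M := SubCount.frattini_le_of_index hG hMi (StructC.pow_mem_frattini hG a)
    obtain ⟨i, rfl⟩ := hout y hyA
    have hconj : (a ^ i * b) * a ^ 2 * (a ^ i * b)⁻¹ = a ^ (-2 : ℤ) := by
      have h1 := CfsgLib.PGroup.conj_zpow_eq hr 2
      rw [show (a ^ i * b) * a ^ 2 * (a ^ i * b)⁻¹ = a ^ i * (b * a ^ (2 : ℤ) * b⁻¹) * (a ^ i)⁻¹ by group,
        h1, (Commute.zpow_zpow (Commute.refl a) i (r * 2)).eq, mul_inv_cancel_right]
      rw [show r * 2 = -2 + (r + 1) * 2 by ring, zpow_add]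
      refine mul_eq_left.mpr (hapow _ ?_)
      obtain ⟨q, hq⟩ := hr2
      exact ⟨q, by rw [hq, h21]; ring⟩
    have hcm : (⟨a ^ (4 : ℕ), by rw [show (4 : ℕ) = 2 * 2 from rfl, pow_mul]; exact pow_mem ha2 2⟩ : M) ∈
        commutator M := by
      rw [_root_.commutator_def]
      have h2 : (⟨a ^ (4 : ℕ), by rw [show (4 : ℕ) = 2 * 2 from rfl, pow_mul]; exact pow_mem ha2 2⟩ : M) =
          ⁅(⟨a ^ i * b, hyM⟩ : M), ⟨a ^ 2, ha2⟩⁆⁻¹ := by
        refine Subtype.ext ?_
        show a ^ (4 : ℕ) = ((a ^ i * b) * a ^ 2 * (a ^ i * b)⁻¹ * (a ^ 2)⁻¹)⁻¹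
        rw [hconj]; group
      rw [h2]
      exact inv_mem (commutator_mem_commutator (mem_top _) (mem_top _))
    refine (Nat.le_of_dvd (Nat.pos_of_ne_zero index_ne_zero_of_finite)
      (index_dvd_of_le (zpowers_le.mpr hcm))).trans ?_
    have h1 := card_mul_index (zpowers (⟨a ^ (4 : ℕ), by
      rw [show (4 : ℕ) = 2 * 2 from rfl, pow_mul]; exact pow_mem ha2 2⟩ : M))
    rw [Nat.card_zpowers, Subgroup.orderOf_mk, orderOf_pow, hao] at h1
    have e1 := card_mul_index M
    rw [hMi, hm] at e1
    obtain ⟨j, rfl⟩ : ∃ j, m = j + 4 := ⟨m - 4, by omega⟩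
    rw [show j + 4 - 1 = j + 1 + 2 from rfl, show Nat.gcd (2 ^ (j + 1 + 2)) 4 = 2 ^ 2 from
      Nat.gcd_eq_right (by rw [show (4 : ℕ) = 2 ^ 2 from rfl]; exact pow_dvd_pow 2 (by omega)),
      Nat.pow_div (by omega) two_pos, Nat.add_sub_cancel] at h1
    rw [show 2 ^ (j + 4) = 2 ^ (j + 1) * 4 * 2 by ring] at e1
    rw [Nat.eq_of_mul_eq_mul_right two_pos e1] at h1
    exact (Nat.eq_of_mul_eq_mul_left (pow_pos two_pos _) h1).le

/-- With two generators and not of maximal class, no maximal subgroup is of maximal class. -/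
theorem no_max_class_maximal {m : ℕ} (hm4 : 4 ≤ m) (hm : Nat.card G = 2 ^ m) (hnc : ¬ IsCyclic G)
    (hd : (frattini G).index = 4) (hgood : (commutator G).index ≠ 4) (M : Subgroup G)
    (hMi : M.index = 2) : (commutator M).index ≠ 4 := by
  haveI : Fact (Nat.Prime 2) := ⟨Nat.prime_two⟩
  intro hmc
  have hG : IsPGroup 2 G := IsPGroup.of_card hm
  have hM8 : Nat.card M * 2 = 2 ^ m := by rw [← hm, ← hMi, card_mul_index]
  have h16 : 2 ^ 4 ≤ 2 ^ m := Nat.pow_le_pow_right two_pos hm4
  set D := (commutator M).map M.subtype with hD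
  have hDG : D ≤ commutator G := by
    rw [hD, map_subtype_commutator, commutator_def]
    exact commutator_mono le_top le_top
  have hDeq : D = commutator G := by
    refine eq_of_le_of_card_ge hDG ?_
    rw [hD, card_map_of_injective M.subtype_injective]
    have e1 := card_mul_index (commutator G)
    have e2 := card_mul_index (commutator M)
    rw [hmc] at e2
    obtain ⟨c, hc⟩ : ∃ c, (commutator G).index = 2 ^ c := by
      have := (hG.to_quotient (commutator G)).exists_card_eq
      rwa [← index_eq_card] at this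
    have h4 := sq_le_index_commutator hG hnc
    rw [hc] at h4 hgood e1
    have hc2 : 3 ≤ c := by
      by_contra h
      have := (Nat.pow_le_pow_iff_right one_lt_two).mp h4
      exact hgood (by rw [show c = 2 by omega]; rfl)
    have h8 : 8 ≤ 2 ^ c := Nat.pow_le_pow_right two_pos hc2
    rw [hm] at e1
    nlinarith
  have hDne : commutator G ≠ ⊥ := by
    intro h
    rw [← hDeq, hD, map_eq_bot_iff_of_injective _ M.subtype_injective] at h
    rw [h, index_bot] at hmc
    omega
  obtain ⟨L, hLn, hLle, hLcard, hLc, hLp⟩ :=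
    CfsgLib.Transfer.exists_chief_below hG (commutator G) hDne
  -- commutators are central of order two modulo `L`
  let π := QuotientGroup.mk' L
  have hcent : ∀ x y : G, ⁅π x, π y⁆ ∈ center (G ⧸ L) := by
    intro x y
    rw [mem_center_iff]
    intro w
    obtain ⟨w, rfl⟩ := QuotientGroup.mk'_surjective L w
    have h1 := (QuotientGroup.eq_one_iff _).mpr (hLc ⁅x, y⁆ (by
      rw [commutator_def]; exact commutator_mem_commutator (mem_top _) (mem_top _)) w)
    show π w * ⁅π x, π y⁆ = ⁅π x, π y⁆ * π w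
    rw [← map_commutatorElement]
    change π (w * ⁅x, y⁆ * w⁻¹ * ⁅x, y⁆⁻¹) = 1 at h1
    rw [map_mul, map_mul, map_mul, map_inv, map_inv] at h1
    calc π w * π ⁅x, y⁆ = (π w * π ⁅x, y⁆ * (π w)⁻¹ * (π ⁅x, y⁆)⁻¹) * (π ⁅x, y⁆ * π w) := by group
      _ = π ⁅x, y⁆ * π w := by rw [h1, one_mul]
  have hc2 : ∀ x y : G, ⁅π x, π y⁆ ^ 2 = 1 := by
    intro x y
    rw [← map_commutatorElement, ← map_pow]
    exact (QuotientGroup.eq_one_iff _).mpr (hLp _ (by
      rw [commutator_def]; exact commutator_mem_commutator (mem_top _) (mem_top _)))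
  have hM2 : ∀ g : G, g * g ∈ M := fun g => mul_self_mem_of_index_two hMi g
  obtain ⟨b, hbM, hbΦ⟩ : ∃ b ∈ M, b ∉ frattini G := by
    by_contra h
    simp only [not_exists, not_and, not_not] at h
    have := Nat.le_of_dvd (by norm_num) (hMi ▸ index_dvd_of_le h : (frattini G).index ∣ 2)
    omega
  obtain ⟨a, ha⟩ : ∃ a, a ∉ M := by
    by_contra h
    simp only [not_exists, not_not] at h
    rw [index_eq_one.mpr (eq_top_iff.mpr fun x _ => h x)] at hMi
    omega
  have hgen : closure ({a, b} : Set G) = ⊤ := by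
    refine frattini_nongenerating ?_
    set J := closure ({a, b} : Set G) ⊔ frattini G
    by_contra hJ
    have hbJ : zpowers b ⊔ frattini G ≤ J :=
      sup_le_sup_right (zpowers_le.mpr (subset_closure (show b ∈ ({a, b} : Set G) by simp))) _
    have hsub : zpowers b ⊔ frattini G = M := by
      refine eq_of_le_of_card_ge (sup_le (zpowers_le.mpr hbM) (SubCount.frattini_le_of_index hG hMi)) ?_
      have hlt : frattini G < zpowers b ⊔ frattini G :=
        lt_of_le_of_ne le_sup_right fun e => hbΦ (e ▸ mem_sup_left (mem_zpowers b))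
      have e1 := card_mul_index (frattini G)
      rw [hd] at e1
      have h1 : Nat.card (frattini G) * 2 ≤ Nat.card (zpowers b ⊔ frattini G : Subgroup G) := by
        obtain ⟨u, hu⟩ := (hG.to_subgroup (frattini G)).exists_card_eq
        obtain ⟨v, hv⟩ := (hG.to_subgroup (zpowers b ⊔ frattini G : Subgroup G)).exists_card_eq
        rw [hu, hv, ← pow_succ]
        refine Nat.pow_le_pow_right two_pos ?_
        by_contra hle
        exact hlt.ne (eq_of_le_of_card_ge le_sup_right
          (by rw [hu, hv]; exact Nat.pow_le_pow_right two_pos (by omega)))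
      rw [hm] at e1
      omega
    exact hJ ((SubCount.isCoatom_of_index hMi).2 J (lt_of_le_of_ne (hsub ▸ hbJ) fun e =>
      ha (e ▸ mem_sup_left (subset_closure (Set.mem_insert a _)))))
  -- the image of `M` is abelian
  have hMle : M ≤ closure ({a ^ 2, b} : Set G) ⊔ commutator G := by
    intro g hg
    set N := zpowers b ⊔ commutator G with hN
    haveI : N.Normal := ⟨fun x hx w => by
      have h1 : ⁅w, x⁆ ∈ N := mem_sup_right (by
        rw [_root_.commutator_def]; exact commutator_mem_commutator (mem_top _) (mem_top _))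
      have := mul_mem h1 hx
      rwa [commutatorElement_def, inv_mul_cancel_right] at this⟩
    have hNM : N ≤ M := sup_le (zpowers_le.mpr hbM)
      ((commutator_le_frattini hG).trans (SubCount.frattini_le_of_index hG hMi))
    have hsup : zpowers a ⊔ N = ⊤ := top_le_iff.mp (hgen.symm.le.trans ((closure_le _).mpr (by
      rintro w (rfl | rfl)
      · exact mem_sup_left (mem_zpowers _)
      · exact mem_sup_right (mem_sup_left (mem_zpowers _)))))
    obtain ⟨w, hw, n, hn, rfl⟩ := mem_sup_of_normal_right.mp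
      (hsup ▸ mem_top g : g ∈ zpowers a ⊔ N)
    obtain ⟨i, rfl⟩ := mem_zpowers_iff.mp hw
    rcases Int.even_or_odd' i with ⟨k, rfl | rfl⟩
    · have hb' : zpowers b ≤ closure ({a ^ 2, b} : Set G) :=
        zpowers_le.mpr (subset_closure (show b ∈ ({a ^ 2, b} : Set G) by simp))
      have hNle : N ≤ closure ({a ^ 2, b} : Set G) ⊔ commutator G := sup_le_sup_right hb' _
      refine mul_mem (mem_sup_left ?_) (hNle hn)
      have h1 : a ^ 2 ∈ closure ({a ^ 2, b} : Set G) :=
        subset_closure (show a ^ 2 ∈ ({a ^ 2, b} : Set G) by simp)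
      rw [zpow_mul, show a ^ (2 : ℤ) = a ^ (2 : ℕ) from zpow_natCast a 2]
      exact zpow_mem h1 k
    · exfalso
      refine ha ?_
      have h2 := mul_mem (inv_mem (show a ^ (2 * k) ∈ M by
        rw [zpow_mul]; exact zpow_mem (by rw [zpow_two]; exact hM2 a) k))
        (mul_mem hg (inv_mem (hNM hn)))
      rwa [show (a ^ (2 * k))⁻¹ * (a ^ (2 * k + 1) * n * n⁻¹) = a by group] at h2
  have hcomm : ∀ x ∈ M, ∀ y ∈ M, π x * π y = π y * π x := by
    have hle : (M.map π) ≤ closure ({π (a ^ 2), π b} : Set (G ⧸ L)) ⊔ (commutator G).map π := by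
      rw [← Set.image_pair (f := π), ← MonoidHom.map_closure, ← Subgroup.map_sup]
      exact map_mono hMle
    have hCz : (commutator G).map π ≤ center (G ⧸ L) := by
      rintro _ ⟨c, hc, rfl⟩
      rw [mem_center_iff]
      intro w
      obtain ⟨w, rfl⟩ := QuotientGroup.mk'_surjective L w
      have h1 := (QuotientGroup.eq_one_iff _).mpr (hLc c hc w)
      change π (w * c * w⁻¹ * c⁻¹) = 1 at h1
      rw [map_mul, map_mul, map_mul, map_inv, map_inv] at h1
      calc π w * π c = (π w * π c * (π w)⁻¹ * (π c)⁻¹) * (π c * π w) := by group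
        _ = π c * π w := by rw [h1, one_mul]
    have hab : π (a ^ 2) * π b = π b * π (a ^ 2) := by
      rw [← commutatorElement_eq_one_iff_mul_comm, map_pow, pow_two,
        show ⁅π a * π a, π b⁆ = π a * ⁅π a, π b⁆ * (π a)⁻¹ * ⁅π a, π b⁆ by
          simp only [commutatorElement_def]; group,
        mem_center_iff.mp (hcent a b) (π a), mul_inv_cancel_right, ← pow_two, hc2]
    have hab' : IsMulCommutative (closure ({π (a ^ 2), π b} : Set (G ⧸ L))) := by
      refine isMulCommutative_closure fun x hx y hy => ?_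
      rcases hx with rfl | rfl <;> rcases hy with rfl | rfl
      exacts [rfl, hab, hab.symm, rfl]
    haveI : ((commutator G).map π).Normal :=
      (inferInstance : (commutator G).Normal).map _ (QuotientGroup.mk'_surjective L)
    intro x hx y hy
    obtain ⟨u, hu, c, hc, hxe⟩ := mem_sup_of_normal_right.mp (hle (mem_map_of_mem π hx))
    obtain ⟨v, hv, d, hd', hye⟩ := mem_sup_of_normal_right.mp (hle (mem_map_of_mem π hy))
    have huv : u * v = v * u := congrArg Subtype.val (hab'.is_comm.comm ⟨u, hu⟩ ⟨v, hv⟩)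
    have h1 := mem_center_iff.mp (hCz hc)
    have h2 := mem_center_iff.mp (hCz hd')
    rw [← hxe, ← hye]
    calc u * c * (v * d) = u * (c * v) * d := by group
      _ = u * (v * c) * d := by rw [h1 v]
      _ = (u * v) * (c * d) := by group
      _ = (v * u) * (d * c) := by rw [huv, h2 c]
      _ = v * (u * d) * c := by group
      _ = v * (d * u) * c := by rw [h2 u]
      _ = v * d * (u * c) := by group
  have hDL : commutator G ≤ L := by
    rw [← hDeq, hD, map_subtype_commutator, commutator_le]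
    intro x hx y hy
    refine (QuotientGroup.eq_one_iff _).mp ?_
    show π ⁅x, y⁆ = 1
    rw [map_commutatorElement, commutatorElement_eq_one_iff_mul_comm]
    exact hcomm x hx y hy
  have h1 := Nat.le_of_dvd Nat.card_pos (card_dvd_of_le hDL)
  rw [hLcard] at h1
  have := Nat.card_pos (α := L)
  omega

/-- The number of solutions of `x² = 1` is one more than the number of subgroups of order two. -/
theorem card_sq_eq_one : Nat.card {x : G // x ^ 2 = 1} = SubCount.num 2 1 G + 1 := by
  classical
  haveI := Fintype.ofFinite {H : Subgroup G // Nat.card H = 2 ^ 1}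
  have hgen : ∀ H : Subgroup G, Nat.card H = 2 ^ 1 → ∃ x : G, x ^ 2 = 1 ∧ x ≠ 1 ∧ H = zpowers x := by
    intro H hH
    haveI : Fact (Nat.Prime 2) := ⟨Nat.prime_two⟩
    obtain ⟨x, hx⟩ := exists_prime_orderOf_dvd_card' (G := H) 2 (by rw [hH]; norm_num)
    have hx' : orderOf (x : G) = 2 := by rw [orderOf_coe, hx]
    refine ⟨x, by rw [← hx', pow_orderOf_eq_one], fun h => by
      rw [h, orderOf_one] at hx'; omega, ?_⟩
    exact (eq_of_le_of_card_ge (zpowers_le.mpr x.2) (by rw [Nat.card_zpowers, hx', hH]; norm_num)).symm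
  have hord : ∀ x : G, x ^ 2 = 1 → x ≠ 1 → orderOf x = 2 := fun x h1 h2 => by
    haveI : Fact (Nat.Prime 2) := ⟨Nat.prime_two⟩
    exact orderOf_eq_prime h1 h2
  have e : {x : G // x ^ 2 = 1 ∧ x ≠ 1} ≃ {H : Subgroup G // Nat.card H = 2 ^ 1} :=
    Equiv.ofBijective (fun x => ⟨zpowers x.1, by rw [Nat.card_zpowers, hord x.1 x.2.1 x.2.2, pow_one]⟩)
      ⟨fun x y hxy => by
        have h1 : zpowers x.1 = zpowers y.1 := congrArg Subtype.val hxy
        have h2 : y.1 ∈ zpowers x.1 := h1 ▸ mem_zpowers _
        obtain ⟨i, hi⟩ := mem_zpowers_iff.mp h2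
        rcases Int.even_or_odd' i with ⟨k, rfl | rfl⟩
        · rw [zpow_mul, show x.1 ^ (2 : ℤ) = 1 by exact_mod_cast x.2.1, one_zpow] at hi
          exact absurd hi.symm y.2.2
        · rw [zpow_add, zpow_mul, show x.1 ^ (2 : ℤ) = 1 by exact_mod_cast x.2.1, one_zpow, one_mul,
            zpow_one] at hi
          exact Subtype.ext hi,
      fun H => by
        obtain ⟨x, h1, h2, h3⟩ := hgen H.1 H.2
        exact ⟨⟨x, h1, h2⟩, Subtype.ext h3.symm⟩⟩
  rw [SubCount.num, ← Nat.card_congr e, ← Finite.card_option]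
  exact Nat.card_congr
    { toFun := fun x => if h : x.1 = 1 then none else some ⟨x.1, x.2, h⟩
      invFun := fun o => o.elim ⟨1, one_pow 2⟩ fun x => ⟨x.1, x.2.1⟩
      left_inv := fun x => by
        by_cases h : x.1 = 1 <;> simp [h]
        exact Subtype.ext h.symm
      right_inv := fun o => by
        rcases o with _ | ⟨x, h1, h2⟩ <;> simp [*] }

end Two

/-- Kulakov's theorem, with the value `1` in maximal class two-groups below the top. -/
theorem num_modEq (m : ℕ) : ∀ {G : Type u} [Group G] [Finite G], Nat.card G = p ^ m →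
    ¬ IsCyclic G → ∀ k, 1 ≤ k → k < m →
      ((p = 2 ∧ (commutator G).index = 4 ∧ k + 2 ≤ m) → SubCount.num p k G ≡ 1 [MOD p ^ 2]) ∧
      (¬ (p = 2 ∧ (commutator G).index = 4 ∧ k + 2 ≤ m) →
        SubCount.num p k G ≡ 1 + p [MOD p ^ 2]) := by
  induction m using Nat.strong_induction_on with
  | _ m ih => ?_
  intro G _ _ hm hnc k hk1 hk2
  classical
  have hG : IsPGroup p G := IsPGroup.of_card hm
  by_cases htop : k + 1 = m
  · refine ⟨fun h => by omega, fun _ => ?_⟩
    rw [SubCount.num_top hG hm htop]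
    exact SubCount.card_index_prime hG hnc
  have hk : k + 2 ≤ m := by omega
  haveI := Fintype.ofFinite {M : Subgroup G // M.index = p}
  let bad : Subgroup G → Prop := fun M =>
    IsCyclic M ∨ (p = 2 ∧ (commutator M).index = 4 ∧ k + 3 ≤ m)
  have hMcard : ∀ M : Subgroup G, M.index = p → Nat.card M = p ^ (m - 1) := by
    intro M hM
    have h1 := card_mul_index M
    rw [hM, hm, show p ^ m = p ^ (m - 1) * p by rw [← pow_succ]; congr 1; omega] at h1
    exact Nat.eq_of_mul_eq_mul_right hp.out.pos h1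
  -- the value at a maximal subgroup
  have hval : ∀ M : {M : Subgroup G // M.index = p},
      SubCount.num p k M.1 + p * (if bad M.1 then 1 else 0) ≡ 1 + p [MOD p ^ 2] := by
    rintro ⟨M, hMi⟩
    have hMc := hMcard M hMi
    by_cases hcyc : IsCyclic M
    · rw [if_pos (Or.inl hcyc), mul_one]
      refine Nat.ModEq.add_right _ (SubCount.modEq_of_eq ?_)
      obtain ⟨g, hg⟩ := isCyclic_iff_exists_zpowers_eq_top.mp hcyc
      have hgo : orderOf g = p ^ (m - 1) := by rw [← Nat.card_zpowers, hg, card_top, hMc]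
      refine Nat.card_eq_one_iff_exists.mpr ⟨⟨zpowers (g ^ p ^ (m - 1 - k)), ?_⟩, fun H => Subtype.ext ?_⟩
      · rw [Nat.card_zpowers, orderOf_pow, hgo,
          Nat.gcd_eq_right (pow_dvd_pow p (Nat.sub_le _ _)), Nat.pow_div (Nat.sub_le _ _) hp.out.pos]
        congr 1; omega
      · refine subgroup_eq_of_card ?_
        rw [H.2, Nat.card_zpowers, orderOf_pow, hgo,
          Nat.gcd_eq_right (pow_dvd_pow p (Nat.sub_le _ _)), Nat.pow_div (Nat.sub_le _ _) hp.out.pos]
        congr 1; omega
    obtain ⟨h1, h2⟩ := ih (m - 1) (by omega) (G := M) hMc hcyc k hk1 (by omega)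
    by_cases hb : bad M
    · rw [if_pos hb, mul_one]
      obtain ⟨e1, e2, e3⟩ := hb.resolve_left hcyc
      exact (h1 ⟨e1, e2, by omega⟩).add_right p
    · rw [if_neg hb, mul_zero, add_zero]
      exact h2 fun ⟨e1, e2, e3⟩ => hb (Or.inr ⟨e1, e2, by omega⟩)
  set t := Nat.card {M : Subgroup G // M.index = p ∧ bad M} with ht
  have ht' : ∑ M : {M : Subgroup G // M.index = p}, (if bad M.1 then 1 else 0) = t := by
    rw [← Finset.card_filter, ← Fintype.card_subtype, ← Nat.card_eq_fintype_card, ht]
    exact Nat.card_congr (Equiv.subtypeSubtypeEquivSubtypeInter (fun M : Subgroup G => M.index = p) bad)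
  have hN := SubCount.card_index_prime hG hnc
  have hsum : SubCount.num p k G + p + p * t ≡ (1 + p) * (1 + p) [MOD p ^ 2] := by
    refine ((SubCount.enumeration hG hnc hm hk).symm.add_right (p * t)).trans ?_
    rw [← ht', Finset.mul_sum, ← Finset.sum_add_distrib]
    refine (Nat.ModEq.sum fun M _ => hval M).trans ?_
    rw [Finset.sum_const, Finset.card_univ, smul_eq_mul, ← Nat.card_eq_fintype_card]
    exact hN.mul_right _
  -- the number of bad maximal subgroups modulo `p`
  have hcyceq : (p = 2 → k + 3 ≤ m → False) →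
      t = Nat.card {M : Subgroup G // M.index = p ∧ IsCyclic M} := fun h =>
    Nat.card_congr (Equiv.subtypeEquivRight fun M => and_congr_right fun _ =>
      ⟨fun hb => hb.resolve_right fun ⟨e1, _, e3⟩ => h e1 e3, Or.inl⟩)
  have h13 : ∀ v : ℕ, p = 2 → (t % 2 = v) → (SubCount.num p k G + 2 + 2 * v) % 4 = 1 := by
    intro v h2 hv
    subst h2
    have := hsum
    unfold Nat.ModEq at this
    omega
  constructor
  · rintro ⟨h2, hmc, -⟩
    subst h2
    have hm3 : 3 ≤ m := by omega
    obtain ⟨hN3, hodd, hall⟩ := max_class_maximals hm3 hm hnc hmc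
    have htodd : t % 2 = 1 := by
      by_cases hk3 : k + 3 ≤ m
      · have : t = 3 := by
          rw [← hN3]
          refine Nat.card_congr (Equiv.subtypeEquivRight fun M => ⟨fun h => h.1, fun h => ⟨h, ?_⟩⟩)
          rcases hall (by omega) M h with hc | hc
          · exact Or.inl hc
          · exact Or.inr ⟨rfl, hc, hk3⟩
        omega
      · rw [hcyceq fun _ h => hk3 h]
        omega
    have := h13 1 rfl htodd
    show _ % _ = _ % _
    omega
  · intro hgood
    have hgood' : ¬ (p = 2 ∧ (commutator G).index = 4) := fun h => hgood ⟨h.1, h.2, hk⟩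
    have hm3 : 3 ≤ m := by omega
    have htp : p ∣ t := by
      by_cases hq : p = 2 ∧ k + 3 ≤ m
      swap
      · rw [hcyceq fun a b => hq ⟨a, b⟩]
        exact card_cyclic_max hm3 hm hnc hgood'
      obtain ⟨h2, hk3⟩ := hq
      subst h2
      have hm4 : 4 ≤ m := by omega
      have hΦ4 := SubCount.sq_le_index_frattini hG hnc
      by_cases hd : (frattini G).index = 4
      · -- two generators
        have : t = Nat.card {M : Subgroup G // M.index = 2 ∧ IsCyclic M} :=
          Nat.card_congr (Equiv.subtypeEquivRight fun M => and_congr_right fun hMi =>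
            ⟨fun hb => hb.resolve_right fun ⟨_, e2, _⟩ =>
              no_max_class_maximal hm4 hm hnc hd (fun h => hgood' ⟨rfl, h⟩) M hMi e2, Or.inl⟩)
        rw [this]
        exact card_cyclic_max hm3 hm hnc hgood'
      · -- count involutions
        obtain ⟨d, hd'⟩ : ∃ d, (frattini G).index = 2 ^ d := by
          have := (hG.to_quotient (frattini G)).exists_card_eq
          rwa [← index_eq_card] at this
        have hd8 : 2 ^ (2 * 1 + 1) ≤ Nat.card (G ⧸ frattini G) := by
          rw [← index_eq_card, hd']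
          rw [hd'] at hΦ4 hd
          refine Nat.pow_le_pow_right two_pos ?_
          by_contra h
          have := (Nat.pow_le_pow_iff_right one_lt_two).mp hΦ4
          exact hd (by rw [show d = 2 by omega]; rfl)
        have h4 := Cfsg.Agent.S4058.result hG 1 hd8
        rw [card_sq_eq_one] at h4
        -- the enumeration at `k = 1` has the same bad subgroups
        have hsum1 : SubCount.num 2 1 G + 2 + 2 * t ≡ (1 + 2) * (1 + 2) [MOD 2 ^ 2] := by
          refine ((SubCount.enumeration hG hnc hm (by omega)).symm.add_right (2 * t)).trans ?_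
          rw [← ht', Finset.mul_sum, ← Finset.sum_add_distrib]
          refine (Nat.ModEq.sum fun M _ => ?_).trans ?_ (b := ∑ _M : {M : Subgroup G // M.index = 2}, (1 + 2))
          · obtain ⟨M, hMi⟩ := M
            by_cases hcyc : IsCyclic M
            · rw [if_pos (Or.inl hcyc), mul_one]
              refine Nat.ModEq.add_right _ (SubCount.modEq_of_eq ?_)
              obtain ⟨g, hg⟩ := isCyclic_iff_exists_zpowers_eq_top.mp hcyc
              have hgo : orderOf g = 2 ^ (m - 1) := by rw [← Nat.card_zpowers, hg, card_top, hMcard M hMi]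
              refine Nat.card_eq_one_iff_exists.mpr ⟨⟨zpowers (g ^ 2 ^ (m - 1 - 1)), ?_⟩, fun H => Subtype.ext ?_⟩
              · rw [Nat.card_zpowers, orderOf_pow, hgo,
                  Nat.gcd_eq_right (pow_dvd_pow 2 (Nat.sub_le _ _)), Nat.pow_div (Nat.sub_le _ _) two_pos]
                congr 1; omega
              · refine subgroup_eq_of_card ?_
                rw [H.2, Nat.card_zpowers, orderOf_pow, hgo,
                  Nat.gcd_eq_right (pow_dvd_pow 2 (Nat.sub_le _ _)), Nat.pow_div (Nat.sub_le _ _) two_pos]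
                congr 1; omega
            obtain ⟨h1, h2'⟩ := ih (m - 1) (by omega) (G := M) (hMcard M hMi) hcyc 1 le_rfl (by omega)
            by_cases hb : bad M
            · rw [if_pos hb, mul_one]
              obtain ⟨e1, e2, e3⟩ := hb.resolve_left hcyc
              exact (h1 ⟨e1, e2, by omega⟩).add_right 2
            · rw [if_neg hb, mul_zero, add_zero]
              exact h2' fun ⟨e1, e2, e3⟩ => hb (Or.inr ⟨e1, e2, hk3⟩)
          · rw [Finset.sum_const, Finset.card_univ, smul_eq_mul, ← Nat.card_eq_fintype_card]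
            exact hN.mul_right _
        unfold Nat.ModEq at hsum1
        omega
    obtain ⟨u, hu⟩ := htp
    have h5 : SubCount.num p k G + p ≡ 1 + p + p [MOD p ^ 2] := by
      have a : SubCount.num p k G + p + p * t ≡ SubCount.num p k G + p [MOD p ^ 2] := by
        have : p * t ≡ 0 [MOD p ^ 2] := Nat.modEq_zero_iff_dvd.mpr ⟨u, by rw [hu]; ring⟩
        simpa using this.add_left (SubCount.num p k G + p)
      refine a.symm.trans (hsum.trans ?_)
      have b : p ^ 2 ≡ 0 [MOD p ^ 2] := Nat.modEq_zero_iff_dvd.mpr dvd_rfl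
      have := b.add_left (1 + p + p)
      rw [add_zero] at this
      rwa [show (1 + p) * (1 + p) = 1 + p + p + p ^ 2 by ring]
    exact Nat.ModEq.add_right_cancel' p h5

end CfsgLib.ClassK.Kulakov
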