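import Cfsg.Agent.Lib.Transfer.PrimeSylow
import Cfsg.Agent.Lib.Char.Burnside

/-!
# A numerical sieve for orders of simple groups
-/

set_option autoImplicit false

namespace CfsgLib.ClassK

open Subgroup
open scoped Nat

/-- Trial division, valid below `34 ^ 2`. -/
def primeTest (p : ℕ) : Bool :=
  decide (2 ≤ p) && decide (p < 1156) &&
    (List.range 34).all fun d => decide (d < 2) || decide (p ≤ d) || decide (p % d ≠ 0)

theorem prime_of_primeTest {p : ℕ} (h : primeTest p = true) : p.Prime := by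
  simp only [primeTest, Bool.and_eq_true, decide_eq_true_eq, List.all_eq_true, List.mem_range,
    Bool.or_eq_true] at h
  obtain ⟨⟨h2, hlt⟩, hall⟩ := h
  refine Nat.prime_def_le_sqrt.2 ⟨h2, fun m hm2 hm hdvd => ?_⟩
  have hm34 : m < 34 := lt_of_le_of_lt hm (Nat.sqrt_lt.2 (by omega))
  have hmp : m < p := lt_of_le_of_lt hm (Nat.sqrt_lt_self (by omega))
  rcases hall m hm34 with (h | h) | h
  · omega
  · omega
  · exact h (Nat.mod_eq_zero_of_dvd hdvd)

/-- `d` is impossible as the number of Sylow `p`-subgroups, of order `p ^ a`, in a simple group of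
order `n`. -/
def countExcluded (n p a d : ℕ) : Bool :=
  (decide (d < 14) && decide (d ! % (2 * n) ≠ 0)) ||
  (decide (a ≤ 2) && decide (n = d * p ^ a)) ||
  (decide (a = 1) && decide (Nat.gcd (n / (d * p)) (p - 1) = 1)) ||
  (decide (a = 1) && decide (p ≠ 2) && decide (d = p + 1) &&
    decide (p * (p - 1) % (2 * (n / d)) ≠ 0))

/-- The prime power `p ^ a` exactly dividing `n` rules out a simple group of order `n`. -/
def orderKilled (n p a : ℕ) : Bool :=
  decide (0 < a) && decide (n % p ^ a = 0) && decide (n % p ^ (a + 1) ≠ 0) &&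
    (List.range (n / p ^ a + 1)).all fun d => decide (d < 2) || decide (d % p ≠ 1) ||
      decide (n / p ^ a % d ≠ 0) || countExcluded n p a d

/-- Some prime divisor rules out a simple group of order `n`. -/
def orderCovered (n : ℕ) : Bool :=
  ((List.range 35) ++ (List.range 34).map (n / ·)).any fun p =>
    decide (n % p = 0) && primeTest p && (List.range 11).any (orderKilled n p)

variable {G : Type*} [Group G] [Finite G] [IsSimpleGroup G]

omit [IsSimpleGroup G] in
theorem card_sylow_of_exact {p a : ℕ} [Fact p.Prime] (P : Sylow p G) (h1 : p ^ a ∣ Nat.card G)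
    (h2 : ¬ p ^ (a + 1) ∣ Nat.card G) : Nat.card (P : Subgroup G) = p ^ a := by
  obtain ⟨k, hk⟩ := P.2.exists_card_eq
  have hle : p ^ a ∣ p ^ k := hk ▸ P.pow_dvd_card_of_pow_dvd_card h1
  have hge : k ≤ a := by
    by_contra hlt
    exact h2 ((pow_dvd_pow p (by omega : a + 1 ≤ k)).trans (hk ▸ card_subgroup_dvd_card _))
  have := (Nat.pow_dvd_pow_iff_le_right (Fact.out : p.Prime).one_lt).1 hle
  rw [hk, le_antisymm hge this]

theorem count_not_excluded (hG : ¬ IsMulCommutative G) {p a : ℕ} [Fact p.Prime] (ha : 0 < a)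
    (hdvd' : p ^ a ∣ Nat.card G) (hndvd' : ¬ p ^ (a + 1) ∣ Nat.card G) :
    1 < Nat.card (Sylow p G) ∧ Nat.card (Sylow p G) % p = 1 ∧
      Nat.card (Sylow p G) ∈ List.range (Nat.card G / p ^ a + 1) ∧
      Nat.card G / p ^ a % Nat.card (Sylow p G) = 0 ∧
      countExcluded (Nat.card G) p a (Nat.card (Sylow p G)) = false := by
  have hp := (Fact.out : p.Prime)
  have hp1 : p ∣ Nat.card G := (dvd_pow_self p (by omega)).trans hdvd'
  obtain ⟨h1, h2, -, h4⟩ := CfsgLib.Transfer.sylow_count_of_simple hG hp1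
  obtain ⟨P⟩ := (inferInstance : Nonempty (Sylow p G))
  have hP := card_sylow_of_exact P hdvd' hndvd'
  have hsd : Nat.card (Sylow p G) ∣ Nat.card G / p ^ a := by
    have := P.card_dvd_index
    rwa [show (P : Subgroup G).index = Nat.card G / p ^ a by
      rw [← hP, ← (P : Subgroup G).card_mul_index, Nat.mul_div_cancel_left _ Nat.card_pos]] at this
  have hpos : 0 < Nat.card G / p ^ a :=
    Nat.div_pos (Nat.le_of_dvd Nat.card_pos hdvd') (pow_pos hp.pos a)
  refine ⟨h1, h2, List.mem_range.2 (Nat.lt_succ_of_le (Nat.le_of_dvd hpos hsd)),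
    Nat.mod_eq_zero_of_dvd hsd, Bool.eq_false_iff.2 fun hex => ?_⟩
  simp only [countExcluded, Bool.and_eq_true, decide_eq_true_eq, Bool.or_eq_true, ne_eq] at hex
  rcases hex with ((⟨-, h⟩ | ⟨ha2, h⟩) | ⟨ha1, h⟩) | ⟨⟨⟨ha1, hp2⟩, hd⟩, h⟩
  · exact h (Nat.mod_eq_zero_of_dvd h4)
  · have hab : IsMulCommutative (P : Subgroup G) := by
      interval_cases a
      · have := isCyclic_of_prime_card (hP.trans (pow_one p))
        exact ⟨⟨(IsCyclic.commGroup (α := (P : Subgroup G))).mul_comm⟩⟩
      · exact IsPGroup.isMulCommutative_of_card_eq_prime_sq (p := p) hP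
    have hN : Nat.card (normalizer ((P : Subgroup G) : Set G)) = p ^ a := by
      refine Nat.eq_of_mul_eq_mul_left (Nat.card_pos (α := Sylow p G)) ?_
      rw [← h]; conv_lhs => rw [P.card_eq_index_normalizer]
      exact index_mul_card _
    refine CfsgLib.Transfer.not_normalizer_le_centralizer hG hp1 P ?_
    rw [← eq_of_le_of_card_ge le_normalizer (by rw [hN, hP])]
    intro x hx
    exact mem_centralizer_iff.2 fun y hy =>
      congrArg Subtype.val (hab.is_comm.comm (⟨y, hy⟩ : (P : Subgroup G)) ⟨x, hx⟩)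
  · subst ha1
    obtain ⟨-, n, e, C, -, hn, -, -, -, -, -, ⟨c, rfl⟩, he, he1, hnN, -, -⟩ :=
      CfsgLib.Transfer.prime_sylow_data (p := p) hG hp1 (by simpa using hndvd')
    subst hn
    have hq : Nat.card G / (Nat.card (Sylow p G) * p) = e * c := by
      conv_lhs => rw [← hnN, show Nat.card (Sylow p G) * (e * (p * c)) =
        Nat.card (Sylow p G) * p * (e * c) by ring]
      exact Nat.mul_div_cancel_left _ (Nat.mul_pos Nat.card_pos hp.pos)
    rw [hq] at h
    have := Nat.eq_one_of_dvd_one (h ▸ Nat.dvd_gcd (dvd_mul_right e c) he)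
    omega
  · subst ha1
    obtain ⟨-, n, e, C, -, hn, -, -, -, -, -, -, -, -, hnN, -, hn6⟩ :=
      CfsgLib.Transfer.prime_sylow_data (p := p) hG hp1 (by simpa using hndvd')
    subst hn
    have hq : Nat.card G / Nat.card (Sylow p G) = e * C := by
      conv_lhs => rw [← hnN]
      exact Nat.mul_div_cancel_left _ Nat.card_pos
    rw [hq] at h
    rcases hn6 hd with h' | h'
    · exact h (Nat.mod_eq_zero_of_dvd h')
    · exact hp2 h'

theorem false_of_orderKilled (hG : ¬ IsMulCommutative G) {p a : ℕ} [Fact p.Prime]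
    (h : orderKilled (Nat.card G) p a = true) : False := by
  simp only [orderKilled, Bool.and_eq_true, decide_eq_true_eq, List.all_eq_true,
    Bool.or_eq_true, ne_eq] at h
  obtain ⟨⟨⟨ha, hdvd⟩, hndvd⟩, hall⟩ := h
  obtain ⟨h1, h2, hmem, h3, h4⟩ := count_not_excluded hG ha (Nat.dvd_of_mod_eq_zero hdvd)
    fun h => hndvd (Nat.mod_eq_zero_of_dvd h)
  rcases hall _ hmem with ((h | h) | h) | h
  · omega
  · exact h h2
  · exact h h3
  · rw [h4] at h; exact Bool.false_ne_true h

/-- The number of Sylow subgroups lies among the candidates left by `countExcluded`. -/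
theorem sylow_count_mem (hG : ¬ IsMulCommutative G) {n : ℕ} (hn : Nat.card G = n) {p a : ℕ}
    [Fact p.Prime] (ha : 0 < a) (h1 : p ^ a ∣ n) (h2 : ¬ p ^ (a + 1) ∣ n) (L : List ℕ)
    (hL : ∀ d ∈ List.range (n / p ^ a + 1), d < 2 ∨ d % p ≠ 1 ∨ n / p ^ a % d ≠ 0 ∨
      countExcluded n p a d = true ∨ d ∈ L) :
    Nat.card (Sylow p G) ∈ L := by
  subst hn
  obtain ⟨h1', h2', hmem, h3, h4⟩ := count_not_excluded hG ha h1 h2
  rcases hL _ hmem with h | h | h | h | h
  · omega
  · exact absurd h2' h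
  · exact absurd h3 h
  · rw [h4] at h; exact absurd h Bool.false_ne_true
  · exact h

theorem not_orderCovered (hG : ¬ IsMulCommutative G) : orderCovered (Nat.card G) = false := by
  rw [Bool.eq_false_iff]
  intro h
  simp only [orderCovered, List.any_eq_true, Bool.and_eq_true, decide_eq_true_eq] at h
  obtain ⟨p, -, ⟨-, hp⟩, a, -, ha⟩ := h
  have : Fact p.Prime := ⟨prime_of_primeTest hp⟩
  exact false_of_orderKilled hG ha

/-- The orders below 1093 left by the sieve. -/
theorem card_mem_of_le_1092 (hG : ¬ IsMulCommutative G) (h : Nat.card G ≤ 1092) :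
    Nat.card G ∈ [60, 168, 360, 420, 480, 504, 612, 660, 720, 756, 840, 960, 1008, 1040, 1080,
      1092] := by
  have hne : Nat.card G ≠ 0 := Nat.card_pos.ne'
  have h1 : Nat.card G ≠ 1 := fun e => hG <| by
    have := (Nat.card_eq_one_iff_unique.1 e).1
    exact ⟨⟨fun a b => Subsingleton.elim _ _⟩⟩
  have hkey : ∀ n ∈ List.range 1093, n < 2 ∨ orderCovered n = true ∨
      n ∈ [288, 432, 576, 800, 864, 1053] ∨ n ∈ [60, 168, 360, 420, 480, 504, 612, 660, 720, 756,
        840, 960, 1008, 1040, 1080, 1092] := by decide +kernel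
  rcases hkey (Nat.card G) (List.mem_range.2 (Nat.lt_succ_of_le h)) with h2 | h2 | h2 | h2
  · omega
  · rw [not_orderCovered hG] at h2; exact absurd h2 (by decide)
  · exfalso
    obtain ⟨p, q, a, b, hp, hq, he⟩ : ∃ p q a b : ℕ, p.Prime ∧ q.Prime ∧
        Nat.card G = p ^ a * q ^ b := by
      simp only [List.mem_cons, List.not_mem_nil, or_false] at h2
      rcases h2 with e | e | e | e | e | e <;> rw [e]
      · exact ⟨2, 3, 5, 2, Nat.prime_two, Nat.prime_three, rfl⟩
      · exact ⟨2, 3, 4, 3, Nat.prime_two, Nat.prime_three, rfl⟩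
      · exact ⟨2, 3, 6, 2, Nat.prime_two, Nat.prime_three, rfl⟩
      · exact ⟨2, 5, 5, 2, Nat.prime_two, Nat.prime_five, rfl⟩
      · exact ⟨2, 3, 5, 3, Nat.prime_two, Nat.prime_three, rfl⟩
      · exact ⟨3, 13, 4, 1, Nat.prime_three, by norm_num, rfl⟩
    have := CfsgLib.Char.burnside_pq p q hp hq a b G he
    exact hG ⟨⟨IsSimpleGroup.comm_iff_isSolvable.2 this⟩⟩
  · exact h2

end CfsgLib.ClassK
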