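import Cfsg.Agent.Lib.Block.BTRows
import Cfsg.Agent.Lib.Block.BTSelfCent
import Cfsg.Agent.Lib.Block.PrincipalSection
import Cfsg.Agent.Lib.Transfer.SylowLemmas
import Cfsg.Agent.Lib.Clifford.Intertwiner
import Mathlib.LinearAlgebra.Determinant

/-!
Degrees in the principal block of a Sylow subgroup of order `p`: the bound coming from a `p`-regular
element in the centralizer, and the sum over two principal blocks for different primes.
-/

set_option autoImplicit false

namespace CfsgLib.ClassK.RowDegree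

open Cfsg CfsgLib CfsgLib.Block
open scoped ComplexConjugate

universe u

/-- Sum of the powers of a root of unity. -/
theorem sum_range_pow {n : ℕ} {z : ℂ} (hz : z ^ n = 1) (hn : z ≠ 1) :
    ∑ l ∈ Finset.range n, z ^ l = 0 := by
  rw [geom_sum_eq hn, hz, sub_self, zero_div]

/-- A sum of powers over two roots of unity: filtering one of them. -/
theorem sum_filter_eq {ι : Type*} [Fintype ι] [DecidableEq ι] {q : ℕ} {u v : ι → ℂ}
    (hv : ∀ i, v i ^ q = 1) {w : ℂ} (hw : w ^ q = 1) (a : ℕ) :
    ∑ l ∈ Finset.range q, w⁻¹ ^ l * (∑ i, u i ^ a * v i ^ l) =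
      (q : ℂ) * ∑ i ∈ Finset.univ.filter (fun i => v i = w), u i ^ a := by
  classical
  simp only [Finset.mul_sum]
  rw [Finset.sum_comm, Finset.sum_filter]
  refine Finset.sum_congr rfl fun i _ => ?_
  have e : ∀ l ∈ Finset.range q, w⁻¹ ^ l * (u i ^ a * v i ^ l) = u i ^ a * (w⁻¹ * v i) ^ l :=
    fun l _ => by rw [mul_pow]; ring
  rw [Finset.sum_congr rfl e, ← Finset.mul_sum]
  rcases Nat.eq_zero_or_pos q with rfl | hq
  · simp
  have hw0 : w ≠ 0 := fun h => by rw [h, zero_pow hq.ne'] at hw; exact zero_ne_one hw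
  split_ifs with h
  · rw [h, inv_mul_cancel₀ hw0]
    simp only [one_pow, Finset.sum_const, Finset.card_range, nsmul_eq_mul, mul_one]
    ring
  · rw [sum_range_pow (by rw [mul_pow, inv_pow, hw, hv, inv_one, one_mul]) fun h1 => h ?_, mul_zero]
    exact ((inv_mul_eq_one₀ hw0).1 h1).symm

variable {G : Type u} [Group G] [Finite G]

/-- The determinant of a representation of a perfect group is one. -/
theorem det_eq_one (hperf : commutator G = ⊤) {V : Type*} [AddCommGroup V] [Module ℂ V]
    (ρ : Representation ℂ G V) (g : G) : LinearMap.det (ρ g) = 1 := by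
  set d : G →* ℂˣ := (Units.map LinearMap.det).comp (Clifford.repUnits ρ) with hd
  have hk : d.ker = ⊤ := top_le_iff.1 (hperf ▸ Abelianization.commutator_subset_ker d)
  have h : d g = 1 := MonoidHom.mem_ker.1 (hk ▸ Subgroup.mem_top g)
  have := congrArg Units.val h
  exact this

/-- The product of the eigenvalues of an element of a perfect group is one. -/
theorem prod_eigen_eq_one (hperf : commutator G = ⊤) {V : Type*} [AddCommGroup V] [Module ℂ V]
    (ρ : Representation ℂ G V) {ι : Type*} [Fintype ι] (b : Module.Basis ι ℂ V) (μ : ι → ℂ) (g : G)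
    (h : ∀ i, ρ g (b i) = μ i • b i) : ∏ i, μ i = 1 := by
  classical
  have hm : LinearMap.toMatrix b b (ρ g) = Matrix.diagonal μ := by
    ext i j
    rw [LinearMap.toMatrix_apply, h j, map_smul, Module.Basis.repr_self, Finsupp.smul_single,
      smul_eq_mul, mul_one, Matrix.diagonal_apply, Finsupp.single_apply]
    by_cases hij : i = j
    · subst hij; simp
    · rw [if_neg (Ne.symm hij), if_neg hij]
  have h1 := det_eq_one hperf ρ g
  rwa [← LinearMap.det_toMatrix b, hm, Matrix.det_diagonal] at h1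

/-- A character of a perfect group whose value at `y ^ a * k ^ l` is a sign independent of
`a` and `l` (for `p ∤ a`) has degree at least `2 p + 1` or `3 p - 1`, unless `k` is in the kernel. -/
theorem degree_bound (hperf : commutator G = ⊤) {p q : ℕ} (hp : p.Prime) (hq : q.Prime)
    (hpq : p ≠ q) {n : ℕ} (ρ : Representation ℂ G (Fin n → ℂ)) {y k : G} (hy : orderOf y = p)
    (hk : orderOf k = q) (hc : Commute y k) {ε : ℤ} (hε : ε = 1 ∨ ε = -1)
    (hval : ∀ a : ℕ, ¬ p ∣ a → ∀ l : ℕ, ρ.character (y ^ a * k ^ l) = (ε : ℂ))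
    (hker : ρ.character k ≠ ρ.character 1) :
    (ε = 1 → 2 * p + 1 ≤ n) ∧ (ε = -1 → 3 * p - 1 ≤ n) := by
  classical
  have hcop : Nat.Coprime p q := (Nat.coprime_primes hp hq).2 hpq
  have hord : orderOf (y * k) = p * q := by
    rw [hc.orderOf_mul_eq_mul_orderOf_of_coprime (by rw [hy, hk]; exact hcop), hy, hk]
  obtain ⟨α, hα1, hα0⟩ := Nat.chineseRemainder hcop 1 0
  obtain ⟨β, hβ0, hβ1⟩ := Nat.chineseRemainder hcop 0 1
  have hyα : (y * k) ^ α = y := by
    rw [hc.mul_pow, pow_eq_pow_iff_modEq.2 (show α ≡ 1 [MOD orderOf y] by rw [hy]; exact hα1),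
      pow_eq_pow_iff_modEq.2 (show α ≡ 0 [MOD orderOf k] by rw [hk]; exact hα0), pow_one,
      pow_zero, mul_one]
  have hkβ : (y * k) ^ β = k := by
    rw [hc.mul_pow, pow_eq_pow_iff_modEq.2 (show β ≡ 0 [MOD orderOf y] by rw [hy]; exact hβ0),
      pow_eq_pow_iff_modEq.2 (show β ≡ 1 [MOD orderOf k] by rw [hk]; exact hβ1), pow_one,
      pow_zero, one_mul]
  obtain ⟨ι, hι, b, μ, hb, hμ, hχ, -⟩ := Char.exists_char_eigen ρ (y * k)
  rw [hord] at hμ
  let u : ι → ℂ := fun i => μ i ^ α
  let v : ι → ℂ := fun i => μ i ^ β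
  have hdvd0 : ∀ {m c : ℕ}, m ∣ c → ∀ i, μ i ^ (p * q) = 1 → ∀ r, m * r = p * q →
      (μ i ^ c) ^ r = 1 := fun {m c} hm i h r hr => by
    obtain ⟨d, rfl⟩ := hm
    rw [← pow_mul, show m * d * r = m * r * d by ring, hr, pow_mul, h, one_pow]
  have hu : ∀ i, u i ^ p = 1 := fun i =>
    hdvd0 ((Nat.modEq_zero_iff_dvd).1 hα0) i (hμ i) p (mul_comm q p)
  have hv : ∀ i, v i ^ q = 1 := fun i =>
    hdvd0 ((Nat.modEq_zero_iff_dvd).1 hβ0) i (hμ i) q rfl
  have hsum : ∀ a l : ℕ, ρ.character (y ^ a * k ^ l) = ∑ i, u i ^ a * v i ^ l := fun a l => by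
    have e : y ^ a * k ^ l = (y * k) ^ (α * a + β * l) := by rw [pow_add, pow_mul, pow_mul, hyα, hkβ]
    rw [e, hχ]
    exact Finset.sum_congr rfl fun i _ => by rw [pow_add, pow_mul, pow_mul]
  have hcard : Fintype.card ι = n := by
    rw [← Module.finrank_eq_card_basis b, Module.finrank_fin_fun]
  set F : ℂ → Finset ι := fun w => Finset.univ.filter fun i => v i = w
  -- fibres
  have hfib : ∀ w : ℂ, w ^ q = 1 → ∀ a : ℕ, ¬ p ∣ a →
      ∑ i ∈ F w, u i ^ a = if w = 1 then (ε : ℂ) else 0 := by
    intro w hw a ha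
    have h := sum_filter_eq (u := u) hv hw a
    rw [Finset.sum_congr rfl (g := fun l => w⁻¹ ^ l * (ε : ℂ)) fun l _ => by
      rw [← hsum, hval a ha l], ← Finset.sum_mul] at h
    have hq0 : (q : ℂ) ≠ 0 := Nat.cast_ne_zero.2 hq.ne_zero
    split_ifs with h1
    · subst h1
      simp only [inv_one, one_pow, Finset.sum_const, Finset.card_range, nsmul_eq_mul,
        mul_one] at h
      exact (mul_left_cancel₀ hq0 h).symm
    · rw [sum_range_pow (by rw [inv_pow, hw, inv_one]) (fun h' => h1 (inv_eq_one.1 h')),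
        zero_mul] at h
      exact ((mul_eq_zero.1 h.symm).resolve_left hq0)
  have hcount : ∀ w : ℂ, w ^ q = 1 →
      (p : ℂ) * ((((F w).filter fun i => u i = 1).card : ℕ) : ℂ) =
        (((F w).card : ℕ) : ℂ) + ((p - 1 : ℕ) : ℂ) * (if w = 1 then (ε : ℂ) else 0) := by
    intro w hw
    have h0 : ∀ i, ∑ a ∈ Finset.range p, u i ^ a = if u i = 1 then (p : ℂ) else 0 := fun i => by
      split_ifs with h
      · simp [h]
      · exact sum_range_pow (hu i) h
    have h2 : ∑ a ∈ Finset.range p, ∑ i ∈ F w, u i ^ a =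
        (p : ℂ) * ((((F w).filter fun i => u i = 1).card : ℕ) : ℂ) := by
      rw [Finset.sum_comm, Finset.sum_congr rfl fun i _ => h0 i, ← Finset.sum_filter,
        Finset.sum_const, nsmul_eq_mul, mul_comm]
    rw [← h2, ← Finset.add_sum_erase _ _ (Finset.mem_range.2 hp.pos)]
    congr 1
    · simp
    · rw [Finset.sum_congr rfl fun a ha => hfib w hw a (fun hd => by
        obtain ⟨h1, h2⟩ := Finset.mem_erase.1 ha
        exact absurd (Nat.le_of_dvd (Nat.pos_of_ne_zero h1) hd) (by
          have := Finset.mem_range.1 h2; omega)), Finset.sum_const, nsmul_eq_mul,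
        Finset.card_erase_of_mem (Finset.mem_range.2 hp.pos), Finset.card_range]
  -- outside the eigenvalue one
  have hother : ∀ w : ℂ, w ^ q = 1 → w ≠ 1 → p ∣ (F w).card := fun w hw hw1 => by
    have h := hcount w hw
    rw [if_neg hw1, mul_zero, add_zero] at h
    exact ⟨_, (by exact_mod_cast h.symm : (F w).card = p * ((F w).filter fun i => u i = 1).card)⟩
  set f := ((F 1).filter fun i => u i = 1).card
  have hone : (p : ℤ) * f = ((F 1).card : ℤ) + ((p : ℤ) - 1) * ε := by
    have h := hcount 1 (one_pow q)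
    rw [if_pos rfl, Nat.cast_sub hp.one_le, Nat.cast_one] at h
    exact_mod_cast h
  set W := (Finset.univ.image v).erase 1 with hWdef
  have hWq : ∀ w ∈ W, w ^ q = 1 := fun w hw => by
    obtain ⟨i, -, rfl⟩ := Finset.mem_image.1 (Finset.mem_of_mem_erase hw)
    exact hv i
  choose! m hm using fun w (hw : w ∈ W) => hother w (hWq w hw) (Finset.ne_of_mem_erase hw)
  have hsplit : n = (F 1).card + p * ∑ w ∈ W, m w := by
    rw [← hcard, ← Finset.card_univ, Finset.card_eq_sum_card_fiberwise (f := v)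
      (t := insert 1 W) (fun i _ => ?_), Finset.sum_insert (Finset.notMem_erase _ _),
      Finset.mul_sum]
    · exact congrArg _ (Finset.sum_congr rfl hm)
    · rw [Finset.mem_coe, Finset.mem_insert]
      by_cases h : v i = 1
      · exact Or.inl h
      · exact Or.inr (Finset.mem_erase.2 ⟨h, Finset.mem_image_of_mem v (Finset.mem_univ i)⟩)
  have hprod : ∏ w ∈ W, w ^ m w = 1 := by
    have h1 : ∏ i, v i = 1 := by
      rw [show (∏ i, v i) = (∏ i, μ i) ^ β from (Finset.prod_pow _ _ _),
        prod_eigen_eq_one hperf ρ b μ _ hb, one_pow]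
    have h2 : (∏ w ∈ W, w ^ m w) ^ p = 1 := by
      rw [← Finset.prod_pow, ← h1, ← Finset.prod_fiberwise_of_maps_to (g := v) (t := insert 1 W)
        (fun i _ => ?_), Finset.prod_insert (Finset.notMem_erase _ _),
        Finset.prod_congr rfl (s₁ := Finset.univ.filter fun i => v i = 1) (g := fun _ => (1 : ℂ))
          fun i hi => (Finset.mem_filter.1 hi).2, Finset.prod_const_one, one_mul]
      · refine Finset.prod_congr rfl fun w hw => ?_
        rw [Finset.prod_congr rfl (g := fun _ => w) fun i hi => (Finset.mem_filter.1 hi).2,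
          Finset.prod_const, ← pow_mul, show (Finset.univ.filter fun i => v i = w).card = p * m w
            from hm w hw, mul_comm]
      · rw [Finset.mem_insert]
        by_cases h : v i = 1
        · exact Or.inl h
        · exact Or.inr (Finset.mem_erase.2 ⟨h, Finset.mem_image_of_mem v (Finset.mem_univ i)⟩)
    have h3 : (∏ w ∈ W, w ^ m w) ^ q = 1 := by
      rw [← Finset.prod_pow]
      exact Finset.prod_eq_one fun w hw => by rw [← pow_mul, mul_comm, pow_mul, hWq w hw, one_pow]
    have h4 := pow_gcd_eq_one.2 ⟨h2, h3⟩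
    rwa [hcop.gcd_eq_one, pow_one] at h4
  have hnontriv : ∃ i, v i ≠ 1 := by
    by_contra hall
    push Not at hall
    refine hker ?_
    have h1 := hsum 0 1
    have h0 := hsum 0 0
    simp only [pow_zero, one_mul, pow_one] at h1 h0
    rw [h1, h0]
    exact Finset.sum_congr rfl fun i _ => hall i
  obtain ⟨i₀, hi₀⟩ := hnontriv
  have hi₀W : v i₀ ∈ W := Finset.mem_erase.2 ⟨hi₀, Finset.mem_image_of_mem v (Finset.mem_univ _)⟩
  have hm0 : ∀ w ∈ W, 1 ≤ m w := fun w hw => by
    refine Nat.one_le_iff_ne_zero.2 fun h0 => ?_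
    obtain ⟨i, -, hi⟩ := Finset.mem_image.1 (Finset.mem_of_mem_erase hw)
    have hmem : i ∈ F w := Finset.mem_filter.2 ⟨Finset.mem_univ _, hi⟩
    have := hm w hw
    rw [h0, mul_zero, Finset.card_eq_zero] at this
    rw [this] at hmem
    exact Finset.notMem_empty _ hmem
  have htwo : 2 ≤ ∑ w ∈ W, m w := by
    by_contra hlt
    have hge : m (v i₀) ≤ ∑ w ∈ W, m w := Finset.single_le_sum (fun w _ => Nat.zero_le _) hi₀W
    have h1 := hm0 _ hi₀W
    have hW1 : W = {v i₀} := by
      refine Finset.eq_singleton_iff_unique_mem.2 ⟨hi₀W, fun w hw => ?_⟩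
      by_contra hne
      have h2 : m w + m (v i₀) ≤ ∑ w ∈ W, m w := by
        rw [← Finset.sum_pair hne]
        exact Finset.sum_le_sum_of_subset (by
          intro z hz
          simp only [Finset.mem_insert, Finset.mem_singleton] at hz
          rcases hz with rfl | rfl <;> assumption)
      have := hm0 w hw
      omega
    rw [hW1, Finset.prod_singleton, show m (v i₀) = 1 by omega, pow_one] at hprod
    exact hi₀ hprod
  have h2p : p * 2 ≤ p * ∑ w ∈ W, m w := Nat.mul_le_mul_left p htwo
  have hp2 := hp.two_le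
  constructor
  · intro he
    rw [he, mul_one] at hone
    have : 1 ≤ f := by
      by_contra hf
      have : f = 0 := by omega
      rw [this] at hone
      omega
    have : (p : ℤ) * 1 ≤ (p : ℤ) * f := mul_le_mul_of_nonneg_left (by omega) (by omega)
    omega
  · intro he
    rw [he] at hone
    have : 0 ≤ (p : ℤ) * f := by positivity
    omega

/-- If no element has order divisible by `p q`, the two principal blocks share a nonprincipal
member. -/
theorem exists_common {p q : ℕ} [Fact p.Prime] [Fact q.Prime] {M₁ M₂ : Ideal AlgInt}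
    (hM₁ : IsPModular p M₁) (hM₂ : IsPModular q M₂) {x y : G} (hx : orderOf x = p)
    (hy : orderOf y = q) (hno : ∀ g : G, p ∣ orderOf g → ¬ q ∣ orderOf g) :
    ∃ χ : IrrCharacter G, χ ∈ principalBlock M₁ G ∧ χ ∈ principalBlock M₂ G ∧
      (χ : G → ℂ) ≠ fun _ => 1 := by
  classical
  have := isPrime_of_pmodular hM₁
  have := isPrime_of_pmodular hM₂
  have := Fintype.ofFinite G
  have := Fintype.ofFinite (IrrCharacter G)
  have hp := (Fact.out : p.Prime)
  have hq := (Fact.out : q.Prime)
  by_contra hall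
  push Not at hall
  let B : Finset (IrrCharacter G) := Finset.univ.filter fun χ => χ ∈ principalBlock M₁ G
  let B' : Finset (IrrCharacter G) := Finset.univ.filter fun χ => χ ∈ principalBlock M₂ G
  let F : G → ℂ := fun g => ∑ χ ∈ B, (χ : G → ℂ) x * conj ((χ : G → ℂ) g)
  let F' : G → ℂ := fun g => ∑ χ ∈ B', (χ : G → ℂ) y * conj ((χ : G → ℂ) g)
  have hF : ∀ (r : ℕ) (M : Ideal AlgInt) [Fact r.Prime], IsPModular r M → ∀ z : G,
      orderOf z = r → ∀ g : G, ¬ r ∣ orderOf g →
      ∑ χ ∈ (Finset.univ.filter fun χ => χ ∈ principalBlock M G),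
        (χ : G → ℂ) z * conj ((χ : G → ℂ) g) = 0 := by
    intro r M _ hM z hz g hg
    have := isPrime_of_pmodular hM
    have h := sum_block_eq_zero hM isPBlock_principalBlock
      (isPPart_self (p := r) (g := z) ⟨1, by rw [pow_one, hz]⟩ Fact.out)
      (isPPart_one_of_regular hg) (fun hc => by
        have h1 : z = 1 := by
          obtain ⟨c, hc⟩ := isConj_iff.1 hc
          calc z = c⁻¹ * (c * z * c⁻¹) * c := by group
            _ = 1 := by rw [hc]; group
        rw [h1, orderOf_one] at hz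
        exact (Fact.out : r.Prime).ne_one hz.symm)
    rw [finsum_mem_eq_finite_toFinset_sum _ (Set.toFinite _)] at h
    rw [← h]
    exact Finset.sum_congr (by ext; simp) fun _ _ => rfl
  have h0 : ∑ g : G, conj (F g) * F' g = 0 := by
    refine Finset.sum_eq_zero fun g _ => ?_
    by_cases hg : p ∣ orderOf g
    · rw [show F' g = 0 from hF q M₂ hM₂ y hy g (hno g hg), mul_zero]
    · rw [show F g = 0 from hF p M₁ hM₁ x hx g hg, map_zero, zero_mul]
  have h1 : ∑ g : G, conj (F g) * F' g = (Nat.card G : ℂ) *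
      ∑ χ ∈ B, ∑ ψ ∈ B', conj ((χ : G → ℂ) x) * (ψ : G → ℂ) y *
        classInner (χ : G → ℂ) (ψ : G → ℂ) := by
    simp only [F, F', map_sum, map_mul, Complex.conj_conj, Finset.sum_mul, Finset.mul_sum,
      Char.classInner_def]
    refine Eq.trans (Finset.sum_congr rfl fun g _ => Finset.sum_comm) ?_
    rw [Finset.sum_comm]
    refine Finset.sum_congr rfl fun χ _ => ?_
    rw [Finset.sum_comm]
    refine Finset.sum_congr rfl fun ψ _ => Finset.sum_congr rfl fun g _ => ?_
    have hn : (Nat.card G : ℂ) ≠ 0 := Nat.cast_ne_zero.2 Nat.card_pos.ne'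
    field_simp
  let one : IrrCharacter G := ⟨fun _ => 1, Char.isIrrCharacter_one⟩
  have hone : one ∈ B := Finset.mem_filter.2 ⟨Finset.mem_univ _, one_mem_principalBlock⟩
  have hone' : one ∈ B' := Finset.mem_filter.2 ⟨Finset.mem_univ _, one_mem_principalBlock⟩
  rw [Finset.sum_eq_single_of_mem one hone fun χ hχ hne => ?_,
    Finset.sum_eq_single_of_mem one hone' fun ψ _ hne => ?_] at h1
  · rw [h0, Char.irr_classInner_self one.2] at h1
    simp only [one, map_one, mul_one] at h1
    exact absurd h1.symm (Nat.cast_ne_zero.2 Nat.card_pos.ne')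
  · rw [Char.irr_classInner_ne one.2 ψ.2 fun h => hne (Subtype.ext h.symm), mul_zero]
  · refine Finset.sum_eq_zero fun ψ hψ => ?_
    rw [Char.irr_classInner_ne χ.2 ψ.2 fun h => ?_, mul_zero]
    exact hne (Subtype.ext (hall χ (Finset.mem_filter.1 hχ).2
      (Subtype.ext h ▸ (Finset.mem_filter.1 hψ).2)))

end CfsgLib.ClassK.RowDegree
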