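import Cfsg.Agent.Lib.ClassK.AltSylowDecomp

/-!
Orbits of a Sylow 2-subgroup of a symmetric group, and the passage from the even wreath product to
the Sylow 2-subgroups of the alternating group.
-/

set_option autoImplicit false
set_option linter.unusedSectionVars false

namespace CfsgLib.ClassK.AltSylow

open Equiv CfsgLib.BlockA.SylowSymGen

theorem isTop_sylow {m : ℕ} (S : Sylow 2 (Perm (Fin m))) :
    IsTop (S : Subgroup (Perm (Fin m))) :=
  ⟨S.isPGroup', fun _ hR h => S.is_maximal' hR h⟩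

/-- Below an overgroup with an orbit of two-power length, a Sylow 2-subgroup keeps that orbit. -/
theorem orbit_eq {m : ℕ} (S : Sylow 2 (Perm (Fin m))) {G : Subgroup (Perm (Fin m))}
    (hSG : (S : Subgroup (Perm (Fin m))) ≤ G) (i : Fin m) {k : ℕ}
    (hk : Nat.card (MulAction.orbit G i) = 2 ^ k) :
    MulAction.orbit (S : Subgroup (Perm (Fin m))) i = MulAction.orbit G i := by
  set Q := (S : Subgroup (Perm (Fin m))) with hQdef
  have hsub : MulAction.orbit Q i ⊆ MulAction.orbit G i := by
    rintro _ ⟨q, rfl⟩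
    exact ⟨⟨q, hSG q.2⟩, rfl⟩
  refine Set.eq_of_subset_of_ncard_le hsub ?_ (Set.toFinite _)
  rw [← Nat.card_coe_set_eq, ← Nat.card_coe_set_eq, hk]
  have e1 : Nat.card (MulAction.orbit Q i) * Nat.card (MulAction.stabilizer Q i) = Nat.card Q := by
    rw [← Nat.card_prod, Nat.card_congr (MulAction.orbitProdStabilizerEquivGroup Q i)]
  have e2 : 2 ^ k * Nat.card (MulAction.stabilizer G i) = Nat.card G := by
    rw [← hk, ← Nat.card_prod, Nat.card_congr (MulAction.orbitProdStabilizerEquivGroup G i)]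
  obtain ⟨w, hw⟩ := Subgroup.card_dvd_of_le hSG
  have hwodd : ¬ 2 ∣ w := fun h2 => by
    refine S.not_dvd_index (dvd_trans h2 ?_)
    have h3 : Nat.card G ∣ Nat.card (Perm (Fin m)) := Subgroup.card_subgroup_dvd_card G
    rw [hw, ← Subgroup.card_mul_index (S : Subgroup (Perm (Fin m)))] at h3
    exact Nat.dvd_of_mul_dvd_mul_left Nat.card_pos h3
  have hst : (MulAction.stabilizer Q i).map (Subgroup.inclusion hSG) ≤
      MulAction.stabilizer G i := by
    rintro _ ⟨q, hq, rfl⟩
    rw [MulAction.mem_stabilizer_iff]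
    exact MulAction.mem_stabilizer_iff.1 hq
  obtain ⟨t, ht⟩ := Subgroup.card_dvd_of_le hst
  rw [← Nat.card_congr ((MulAction.stabilizer Q i).equivMapOfInjective _
    (Subgroup.inclusion_injective hSG)).toEquiv] at ht
  rw [ht, hw, ← e1] at e2
  have e3 : 2 ^ k * t = Nat.card (MulAction.orbit Q i) * w :=
    Nat.eq_of_mul_eq_mul_left
      (Nat.card_pos (α := MulAction.stabilizer Q i)) (by rw [mul_left_comm, e2]; ring)
  have hd : 2 ^ k ∣ Nat.card (MulAction.orbit Q i) :=
    (Nat.Coprime.pow_left k ((Nat.prime_two.coprime_iff_not_dvd).2 hwodd)).dvd_of_dvd_mul_right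
      ⟨t, e3.symm⟩
  have : Nonempty (MulAction.orbit Q i) := ⟨⟨i, MulAction.mem_orbit_self i⟩⟩
  exact Nat.le_of_dvd Nat.card_pos hd

/-- The orbit of `i` under the stabiliser of `t` is everything but `t`. -/
theorem orbit_stabilizer {m : ℕ} {t i : Fin m} (hi : i ≠ t) :
    MulAction.orbit (MulAction.stabilizer (Perm (Fin m)) t) i = {t}ᶜ := by
  refine Set.ext fun j => ⟨?_, fun hj => ?_⟩
  · rintro ⟨g, rfl⟩ h
    have hg : (g : Perm (Fin m)) t = t := g.2
    exact hi ((g : Perm (Fin m)).injective ((show (g : Perm (Fin m)) i = t from h).trans hg.symm))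
  · exact ⟨⟨Equiv.swap i j, Equiv.swap_apply_of_ne_of_ne hi.symm (Ne.symm hj)⟩,
      Equiv.swap_apply_left i j⟩

/-- In odd degree a Sylow 2-subgroup has one non-trivial orbit exactly for `2 ^ k + 1` points. -/
theorem orbit_off_fixed {m : ℕ} (S : Sylow 2 (Perm (Fin m))) {t : Fin m}
    (ht : ∀ q ∈ (S : Subgroup (Perm (Fin m))), q t = t) (hm : 2 ≤ m) :
    (∀ i j : Fin m, i ≠ t → j ≠ t → ∃ q ∈ (S : Subgroup (Perm (Fin m))), q i = j) ↔
      ∃ k : ℕ, m - 1 = 2 ^ k := by
  classical
  have hc : Nat.card ({t}ᶜ : Set (Fin m)) = m - 1 := by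
    rw [Nat.card_coe_set_eq, Set.ncard_compl, Set.ncard_singleton, Nat.card_eq_fintype_card,
      Fintype.card_fin]
  constructor
  · intro h
    obtain ⟨i, hi⟩ : ∃ i, i ≠ t := by
      by_contra hall
      push Not at hall
      have : Subsingleton (Fin m) := ⟨fun a b => (hall a).trans (hall b).symm⟩
      have := Fintype.card_le_one_iff_subsingleton.2 this
      rw [Fintype.card_fin] at this
      omega
    have ho : MulAction.orbit (S : Subgroup (Perm (Fin m))) i = {t}ᶜ := by
      refine Set.ext fun j => ⟨?_, fun hj => ?_⟩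
      · rintro ⟨g, rfl⟩ h'
        exact hi ((g : Perm (Fin m)).injective
          ((show (g : Perm (Fin m)) i = t from h').trans (ht _ g.2).symm))
      · obtain ⟨q, hq, e⟩ := h i j hi hj
        exact ⟨⟨q, hq⟩, e⟩
    obtain ⟨r, hr⟩ := IsPGroup.iff_card.1 S.isPGroup'
    have hd : Nat.card (MulAction.orbit (S : Subgroup (Perm (Fin m))) i) ∣ 2 ^ r := by
      rw [← hr, ← Nat.card_congr
        (MulAction.orbitProdStabilizerEquivGroup (S : Subgroup (Perm (Fin m))) i), Nat.card_prod]
      exact dvd_mul_right _ _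
    rw [ho, hc] at hd
    obtain ⟨k, -, hk⟩ := (Nat.dvd_prime_pow Nat.prime_two).1 hd
    exact ⟨k, hk⟩
  · rintro ⟨k, hk⟩ i j hi hj
    have h := orbit_eq S (G := MulAction.stabilizer (Perm (Fin m)) t)
      (fun q hq => ht q hq) i (k := k) (by rw [orbit_stabilizer hi, hc, hk])
    rw [orbit_stabilizer hi] at h
    obtain ⟨q, hq⟩ : j ∈ MulAction.orbit (S : Subgroup (Perm (Fin m))) i := h ▸ hj
    exact ⟨q, q.2, hq⟩

theorem card_evenW {m : ℕ} (hm : 1 ≤ m) (Q : Subgroup (Perm (Fin m))) :
    2 * Nat.card (evenW Q) = 2 ^ m * Nat.card Q := by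
  classical
  let s : (Fin m → ZMod 2) →+ ZMod 2 :=
    { toFun := fun c => ∑ i, c i
      map_zero' := by simp
      map_add' := fun c d => by simp [Finset.sum_add_distrib] }
  have e : s.ker × Q ≃ evenW Q :=
    Equiv.ofBijective (fun x => ⟨wr x.1 x.2, x.1, x.2, x.2.2, x.1.2, rfl⟩)
      ⟨fun a b h => by
        obtain ⟨h1, h2⟩ := wr_eq_iff.1 (congrArg Subtype.val h)
        exact Prod.ext (Subtype.ext h1) (Subtype.ext h2),
      by rintro ⟨_, c, σ, hσ, hc, rfl⟩; exact ⟨(⟨c, hc⟩, ⟨σ, hσ⟩), rfl⟩⟩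
  have hker : Nat.card s.ker * 2 = 2 ^ m := by
    have h := s.ker.card_mul_index
    rw [AddSubgroup.index_ker, AddMonoidHom.range_eq_top.2
      (fun a => ⟨Pi.single ⟨0, hm⟩ a, by simp [s]⟩), AddSubgroup.card_top, Nat.card_zmod,
      Nat.card_fun, Nat.card_zmod, Nat.card_eq_fintype_card (α := Fin m), Fintype.card_fin] at h
    exact h
  rw [← Nat.card_congr e, Nat.card_prod, ← hker]
  ring

theorem sign_wr {m : ℕ} {Q : Subgroup (Perm (Fin m))} (hQ : IsPGroup 2 Q) {c : Fin m → ZMod 2}
    {σ : Perm (Fin m)} (hσ : σ ∈ Q) (hc : ∑ i, c i = 0) : Perm.sign (wr c σ) = 1 := by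
  classical
  have e : wr c (1 : Perm (Fin m)) = Equiv.prodCongrRight fun i => Equiv.addRight (c i) := by
    ext x <;> simp [wr_apply]
  let f : ZMod 2 → ℤˣ := fun a => if a = 1 then -1 else 1
  have hf : ∀ a : ZMod 2, Perm.sign (Equiv.addRight a) = f a := by decide
  have hadd : ∀ a b : ZMod 2, f (a + b) = f a * f b := by decide
  have hprod : ∀ t : Finset (Fin m), ∏ i ∈ t, f (c i) = f (∑ i ∈ t, c i) := by
    intro t
    induction t using Finset.induction with
    | empty => simp [f]
    | @insert a t ha ih => rw [Finset.prod_insert ha, Finset.sum_insert ha, hadd, ih]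
  rw [wr_split, map_mul, sign_lift_eq_one hQ hσ, one_mul, e, Perm.sign_prodCongrRight]
  simp only [hf]
  rw [hprod, hc]
  simp [f]

theorem two_adic (n : ℕ) :
    n.factorial.factorization 2 = n / 2 + (n / 2).factorial.factorization 2 := by
  conv_lhs => rw [← Nat.div_add_mod n 2, Nat.factorization_def _ Nat.prime_two,
    padicValNat_factorial_mul_add _ (Nat.mod_lt _ two_pos), padicValNat_factorial_mul]
  rw [Nat.factorization_def _ Nat.prime_two, add_comm]

/-- The Sylow 2-subgroups of the alternating group are even wreath products. -/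
theorem sylow_alternating_equiv {n : ℕ} (hn : 2 ≤ n) (S : Sylow 2 (Perm (Fin (n / 2))))
    (P : Sylow 2 (alternatingGroup (Fin n))) :
    Nonempty (↥(P : Subgroup (alternatingGroup (Fin n))) ≃*
      ↥(evenW (S : Subgroup (Perm (Fin (n / 2)))))) := by
  classical
  obtain ⟨ι⟩ : Nonempty (Fin (n / 2) × ZMod 2 ↪ Fin n) :=
    Function.Embedding.nonempty_of_card_le (by
      rw [Fintype.card_prod, Fintype.card_fin, ZMod.card, Fintype.card_fin]; omega)
  let V := Perm.viaEmbeddingHom ι
  have hV : Function.Injective V := Perm.viaEmbeddingHom_injective ι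
  set W := evenW (S : Subgroup (Perm (Fin (n / 2))))
  have hle : W.map V ≤ alternatingGroup (Fin n) := by
    rintro _ ⟨_, ⟨c, σ, hσ, hc, rfl⟩, rfl⟩
    rw [Perm.mem_alternatingGroup]
    show Perm.sign (Perm.viaEmbedding (wr c σ) ι) = 1
    rw [Perm.viaEmbedding, Perm.sign_extendDomain, sign_wr S.isPGroup' hσ hc]
  have e1 : ↥((W.map V).subgroupOf (alternatingGroup (Fin n))) ≃* ↥W :=
    (Subgroup.subgroupOfEquivOfLe hle).trans (W.equivMapOfInjective V hV).symm
  have hcard : Nat.card ↥((W.map V).subgroupOf (alternatingGroup (Fin n))) =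
      2 ^ (Nat.card (alternatingGroup (Fin n))).factorization 2 := by
    have : Nontrivial (Fin n) := Fin.nontrivial_iff_two_le.2 hn
    have hA := two_mul_nat_card_alternatingGroup (α := Fin n)
    rw [Nat.card_perm, Nat.card_eq_fintype_card (α := Fin n), Fintype.card_fin] at hA
    have hv := congrArg (fun a : ℕ => a.factorization 2) hA
    simp only [Nat.factorization_mul two_ne_zero Nat.card_pos.ne', Finsupp.add_apply,
      Nat.prime_two.factorization_self, two_adic n] at hv
    refine Nat.eq_of_mul_eq_mul_left two_pos ?_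
    rw [Nat.card_congr e1.toEquiv, card_evenW (by omega), S.card_eq_multiplicity, Nat.card_perm,
      Nat.card_eq_fintype_card (α := Fin (n / 2)), Fintype.card_fin, ← pow_add, ← pow_succ', ← hv,
      add_comm 1]
  exact ⟨(P.equiv (Sylow.ofCard _ hcard)).trans e1⟩

theorem decomposable_two (S : Sylow 2 (Perm (Fin 2))) :
    Decomposable ↥(evenW (S : Subgroup (Perm (Fin 2)))) := by
  classical
  have hS : (S : Subgroup (Perm (Fin 2))) = ⊤ := by
    have hp : IsPGroup 2 ↥(⊤ : Subgroup (Perm (Fin 2))) := IsPGroup.of_card (n := 1) (by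
      rw [Subgroup.card_top, Nat.card_perm, Nat.card_eq_fintype_card, Fintype.card_fin]; rfl)
    exact (S.is_maximal' hp le_top).symm
  have hW : Nat.card ↥(evenW (S : Subgroup (Perm (Fin 2)))) = 4 := by
    have h := card_evenW (m := 2) (by norm_num) (S : Subgroup (Perm (Fin 2)))
    rw [hS, Subgroup.card_top, Nat.card_perm, Nat.card_eq_fintype_card (α := Fin 2),
      Fintype.card_fin, Nat.factorial_two] at h
    rw [hS]
    omega
  let a : ↥(evenW (S : Subgroup (Perm (Fin 2)))) :=
    ⟨wr (fun _ => 1) 1, wr_mem (Subgroup.one_mem _) (by decide)⟩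
  let b : ↥(evenW (S : Subgroup (Perm (Fin 2)))) :=
    ⟨wr (fun _ => 0) (Equiv.swap 0 1), wr_mem (hS ▸ Subgroup.mem_top _) (by decide)⟩
  have hab : Commute a b := Subtype.ext (by
    show wr _ 1 * wr _ (Equiv.swap 0 1) = wr _ (Equiv.swap 0 1) * wr _ 1
    rw [wr_mul, wr_mul]
    simp)
  have ha : orderOf a = 2 := orderOf_eq_prime
    (Subtype.ext (by rw [pow_two]; show wr _ 1 * wr _ 1 = 1; rw [wr_mul, wr_eq_one_iff]; decide))
    (fun h => by
      have := congrArg Subtype.val h
      simp only [a, Subgroup.coe_one, wr_eq_one_iff] at this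
      exact absurd this.1 (by decide))
  have hb : orderOf b = 2 := orderOf_eq_prime
    (Subtype.ext (by rw [pow_two]; show wr _ _ * wr _ _ = 1; rw [wr_mul, wr_eq_one_iff]; decide))
    (fun h => by
      have := congrArg Subtype.val h
      simp only [b, Subgroup.coe_one, wr_eq_one_iff] at this
      exact absurd this.2 (by decide))
  have hba : b ∉ Subgroup.zpowers a := by
    intro h
    obtain ⟨k, hk⟩ := Subgroup.mem_zpowers_iff.1 h
    have h01 : a ^ k = 1 ∨ a ^ k = a := by
      rw [← zpow_mod_orderOf, ha]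
      rcases Int.emod_two_eq k with h | h <;> simp [h]
    rcases h01 with e | e <;> rw [e] at hk
    · rw [← hk, orderOf_one] at hb
      omega
    · have := congrArg Subtype.val hk
      simp only [a, b, wr_eq_iff] at this
      exact absurd this.1 (by decide)
  refine ⟨Subgroup.zpowers a, Subgroup.zpowers b, ?_, ?_, ?_, ?_, ?_⟩
  · rw [Ne, Subgroup.zpowers_eq_bot]; intro h; rw [h, orderOf_one] at ha; omega
  · rw [Ne, Subgroup.zpowers_eq_bot]; intro h; rw [h, orderOf_one] at hb; omega
  · rintro _ ⟨i, rfl⟩ _ ⟨j, rfl⟩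
    exact (hab.zpow_zpow i j).eq
  · have hd := Subgroup.card_dvd_of_le
      (inf_le_right : Subgroup.zpowers a ⊓ Subgroup.zpowers b ≤ _)
    rw [Nat.card_zpowers, hb] at hd
    rcases (Nat.dvd_prime Nat.prime_two).1 hd with h | h
    · exact Subgroup.card_eq_one.1 h
    · refine absurd ?_ hba
      have := Subgroup.eq_of_le_of_card_ge
        (inf_le_right : Subgroup.zpowers a ⊓ Subgroup.zpowers b ≤ _)
        (by rw [h, Nat.card_zpowers, hb])
      exact ((this.symm ▸ Subgroup.mem_zpowers b :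
        b ∈ Subgroup.zpowers a ⊓ Subgroup.zpowers b)).1
  · refine Subgroup.eq_top_of_le_card _ ?_
    rw [hW]
    by_contra hlt
    have hd := Subgroup.card_dvd_of_le
      (le_sup_left : Subgroup.zpowers a ≤ Subgroup.zpowers a ⊔ Subgroup.zpowers b)
    have hd2 := Subgroup.card_subgroup_dvd_card (Subgroup.zpowers a ⊔ Subgroup.zpowers b)
    rw [Nat.card_zpowers, ha] at hd
    rw [hW] at hd2
    have hle := Nat.le_of_dvd (by norm_num) hd2
    have h2 : Nat.card ↥(Subgroup.zpowers a ⊔ Subgroup.zpowers b) = 2 := by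
      obtain ⟨c, hc⟩ := hd
      obtain ⟨d, hd⟩ := hd2
      rcases Nat.lt_or_ge c 2 with h | h
      · interval_cases c
        · rw [hc] at hd; simp at hd
        · omega
      · omega
    refine hba ?_
    rw [Subgroup.eq_of_le_of_card_ge
      (le_sup_left : Subgroup.zpowers a ≤ Subgroup.zpowers a ⊔ Subgroup.zpowers b)
      (by rw [h2, Nat.card_zpowers, ha])]
    exact Subgroup.mem_sup_right (Subgroup.mem_zpowers b)

/-- When `evenW` of a Sylow 2-subgroup decomposes. -/
theorem decomposable_evenW {m : ℕ} (hm : 2 ≤ m) (S : Sylow 2 (Perm (Fin m))) :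
    Decomposable ↥(evenW (S : Subgroup (Perm (Fin m)))) ↔
      m = 2 ∨ (m % 2 = 1 ∧ ∀ k : ℕ, m - 1 ≠ 2 ^ k) := by
  classical
  rcases Nat.lt_or_ge m 3 with h2 | h3
  · obtain rfl : m = 2 := by omega
    exact iff_of_true (decomposable_two S) (Or.inl rfl)
  have hQ := isTop_sylow S
  rcases Nat.mod_two_eq_zero_or_one m with he | ho
  · refine iff_of_false ?_ (by omega)
    by_cases ht : ∀ i j : Fin m, ∃ q ∈ (S : Subgroup (Perm (Fin m))), q i = j
    · exact hQ.not_decomposable_of_orbit h3 fun i j _ _ => ht i j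
    · push Not at ht
      obtain ⟨i, j, hij⟩ := ht
      exact hQ.not_decomposable_of_two (hQ.mod_two.1 he) hij
  · have hne : ¬ ∀ i : Fin m, ∃ q ∈ (S : Subgroup (Perm (Fin m))), q i ≠ i := fun h => by
      have := hQ.mod_two.2 h
      omega
    push Not at hne
    obtain ⟨t, ht⟩ := hne
    have hmoved : ∀ i : Fin m, (∃ q ∈ (S : Subgroup (Perm (Fin m))), q i ≠ i) ↔ i ≠ t := by
      intro i
      constructor
      · rintro ⟨q, hq, h⟩ rfl
        exact h (ht q hq)
      · intro hi
        by_contra h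
        push Not at h
        exact hi (hQ.fixed_subsingleton h ht)
    have key := orbit_off_fixed S ht hm
    by_cases hk : ∃ k : ℕ, m - 1 = 2 ^ k
    · refine iff_of_false ?_ ?_
      · exact hQ.not_decomposable_of_orbit h3 fun i j hi hj =>
          key.2 hk i j ((hmoved i).1 hi) ((hmoved j).1 hj)
      · rintro (h | ⟨-, h⟩)
        · omega
        · obtain ⟨k, hk⟩ := hk; exact h k hk
    · refine iff_of_true ?_ (Or.inr ⟨ho, fun k h => hk ⟨k, h⟩⟩)
      have h := mt key.1 hk
      push Not at h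
      obtain ⟨i, j, hi, hj, hij⟩ := h
      exact hQ.decomposable_of_fixed ht ((hmoved i).2 hi) ((hmoved j).2 hj) hij

end CfsgLib.ClassK.AltSylow
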