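import Cfsg.Agent.Lib.ClassK.AltSylowModel

/-!
When the even part of `C₂ ≀ Q` is a direct product of two nontrivial subgroups.
-/

set_option autoImplicit false
set_option linter.unusedSectionVars false

namespace CfsgLib.ClassK.AltSylow

open Equiv CfsgLib.BlockA.SylowSymGen

/-- A group is a direct product of two nontrivial subgroups. -/
def Decomposable (G : Type*) [Group G] : Prop :=
  ∃ A B : Subgroup G, A ≠ ⊥ ∧ B ≠ ⊥ ∧ (∀ a ∈ A, ∀ b ∈ B, a * b = b * a) ∧ A ⊓ B = ⊥ ∧ A ⊔ B = ⊤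

theorem Decomposable.congr {G H : Type*} [Group G] [Group H] (e : G ≃* H) (h : Decomposable G) :
    Decomposable H := by
  obtain ⟨A, B, hA, hB, hc, hi, hs⟩ := h
  refine ⟨A.map e.toMonoidHom, B.map e.toMonoidHom, ?_, ?_, ?_, ?_, ?_⟩
  · rwa [Ne, Subgroup.map_eq_bot_iff_of_injective _ e.injective]
  · rwa [Ne, Subgroup.map_eq_bot_iff_of_injective _ e.injective]
  · rintro _ ⟨a, ha, rfl⟩ _ ⟨b, hb, rfl⟩
    rw [← map_mul, ← map_mul, hc a ha b hb]
  · rw [← Subgroup.map_inf _ _ _ e.injective, hi, Subgroup.map_bot]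
  · rw [← Subgroup.map_sup, hs, Subgroup.map_top_of_surjective _ e.surjective]

theorem decomposable_iff {G : Type*} [Group G] (S : Subgroup G) :
    (∃ S₁ S₂ : Subgroup G, S₁ ≠ ⊥ ∧ S₂ ≠ ⊥ ∧ S₁ ≤ S ∧ S₂ ≤ S ∧
        (∀ a ∈ S₁, ∀ b ∈ S₂, a * b = b * a) ∧ S₁ ⊓ S₂ = ⊥ ∧ S₁ ⊔ S₂ = S) ↔
      Decomposable ↥S := by
  constructor
  · rintro ⟨A, B, hA, hB, hAS, hBS, hc, hi, hs⟩
    refine ⟨A.subgroupOf S, B.subgroupOf S, ?_, ?_, ?_, ?_, ?_⟩
    · rwa [Ne, Subgroup.subgroupOf_eq_bot, disjoint_iff, inf_eq_left.2 hAS]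
    · rwa [Ne, Subgroup.subgroupOf_eq_bot, disjoint_iff, inf_eq_left.2 hBS]
    · exact fun a ha b hb => Subtype.ext (hc _ ha _ hb)
    · apply Subgroup.map_injective S.subtype_injective
      rw [Subgroup.map_inf _ _ _ S.subtype_injective, Subgroup.map_subgroupOf_eq_of_le hAS,
        Subgroup.map_subgroupOf_eq_of_le hBS, hi, Subgroup.map_bot]
    · apply Subgroup.map_injective S.subtype_injective
      rw [Subgroup.map_sup, Subgroup.map_subgroupOf_eq_of_le hAS,
        Subgroup.map_subgroupOf_eq_of_le hBS, hs, ← MonoidHom.range_eq_map, Subgroup.range_subtype]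
  · rintro ⟨A, B, hA, hB, hc, hi, hs⟩
    refine ⟨A.map S.subtype, B.map S.subtype, ?_, ?_, Subgroup.map_subtype_le _,
      Subgroup.map_subtype_le _, ?_, ?_, ?_⟩
    · rwa [Ne, Subgroup.map_eq_bot_iff_of_injective _ S.subtype_injective]
    · rwa [Ne, Subgroup.map_eq_bot_iff_of_injective _ S.subtype_injective]
    · rintro _ ⟨a, ha, rfl⟩ _ ⟨b, hb, rfl⟩
      exact congrArg Subtype.val (hc a ha b hb)
    · rw [← Subgroup.map_inf _ _ _ S.subtype_injective, hi, Subgroup.map_bot]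
    · rw [← Subgroup.map_sup, hs, ← MonoidHom.range_eq_map, Subgroup.range_subtype]

/-- A finite 2-group with at most one nontrivial central element is indecomposable. -/
theorem not_decomposable_of_center {G : Type*} [Group G] [Finite G] (hG : IsPGroup 2 G)
    (h : ∀ z ∈ Subgroup.center G, ∀ w ∈ Subgroup.center G, z ≠ 1 → w ≠ 1 → z = w) :
    ¬ Decomposable G := by
  rintro ⟨A, B, hA, hB, hc, hi, hs⟩
  have key : ∀ X Y : Subgroup G, X ≠ ⊥ → (∀ x ∈ X, ∀ y ∈ Y, x * y = y * x) → X ⊔ Y = ⊤ →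
      ∃ z ∈ X, z ≠ 1 ∧ z ∈ Subgroup.center G := by
    intro X Y hX hXY hsup
    haveI : Nontrivial ↥X := (Subgroup.nontrivial_iff_ne_bot _).2 hX
    haveI := (hG.to_subgroup X).center_nontrivial
    obtain ⟨⟨z, hz⟩, hz1⟩ := exists_ne (1 : Subgroup.center ↥X)
    refine ⟨z, z.2, fun e => hz1 (Subtype.ext (Subtype.ext e)), Subgroup.mem_center_iff.2 ?_⟩
    intro g
    have hle : X ⊔ Y ≤ Subgroup.centralizer ({(z : G)} : Set G) := by
      refine sup_le (fun x hx => Subgroup.mem_centralizer_singleton_iff.2 ?_)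
        (fun y hy => Subgroup.mem_centralizer_singleton_iff.2 (hXY _ z.2 y hy).symm)
      exact congrArg Subtype.val (Subgroup.mem_center_iff.1 hz ⟨x, hx⟩)
    exact Subgroup.mem_centralizer_singleton_iff.1 (hle (hsup ▸ Subgroup.mem_top g))
  obtain ⟨z, hz, hz1, hzc⟩ := key A B hA hc hs
  obtain ⟨w, hw, hw1, hwc⟩ := key B A hB (fun b hb a ha => (hc a ha b hb).symm) (sup_comm A B ▸ hs)
  have : z ∈ A ⊓ B := ⟨hz, (h z hzc w hwc hz1 hw1) ▸ hw⟩
  rw [hi] at this
  exact hz1 this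

variable {m : ℕ} {Q : Subgroup (Perm (Fin m))}

namespace IsTop

variable (hQ : IsTop Q)

include hQ in
theorem isPGroup_evenW : IsPGroup 2 ↥(evenW Q) := by
  obtain ⟨r, hr⟩ := IsPGroup.iff_card.1 hQ.pgroup
  refine (IsPGroup.of_card (p := 2) (n := m + r) (G := ↥(wreath (p := 2) Q)) ?_).to_le ?_
  · rw [card_wreath, hr, ← pow_add]
  · rintro x ⟨c, σ, hσ, -, rfl⟩
    exact ⟨c, σ, hσ, rfl⟩

/-- A central element has trivial top and a vector constant on orbits. -/
theorem center_shape (hm : 3 ≤ m) {c : Fin m → ZMod 2} {σ : Perm (Fin m)}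
    (h : ∀ d : Fin m → ZMod 2, ∀ τ ∈ Q, ∑ i, d i = 0 → Commute (wr c σ) (wr d τ)) :
    σ = 1 ∧ ∀ τ ∈ Q, ∀ i, c (τ i) = c i := by
  classical
  have hσ : σ = 1 := by
    refine Equiv.ext fun i => by_contra fun hi => ?_
    change σ i ≠ i at hi
    obtain ⟨k, hk1, hk2⟩ : ∃ k, k ≠ i ∧ k ≠ σ i := by
      have : ({i, σ i} : Finset (Fin m)).card < Fintype.card (Fin m) := by
        rw [Fintype.card_fin]
        exact lt_of_le_of_lt Finset.card_le_two (by omega)
      obtain ⟨k, hk⟩ := Finset.exists_mem_notMem_of_card_lt_card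
        (s := ({i, σ i} : Finset (Fin m))) (t := Finset.univ) (by rwa [Finset.card_univ])
      exact ⟨k, by simp_all⟩
    have h1 := (wr_commute_iff.1 (h (pair i k) 1 Q.one_mem (pair_sum _ _))).1 i
    simp [pair, hi, hk1.symm, hk2.symm] at h1
  subst hσ
  exact ⟨rfl, fun τ hτ i => by
    have h1 := (wr_commute_iff.1 (h 0 τ hτ (by simp))).1 i
    simpa using h1⟩

include hQ in
/-- One nontrivial orbit: the centre has order two. -/
theorem not_decomposable_of_orbit (hm : 3 ≤ m)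
    (h1 : ∀ i j : Fin m, (∃ q ∈ Q, q i ≠ i) → (∃ q ∈ Q, q j ≠ j) → ∃ q ∈ Q, q i = j) :
    ¬ Decomposable ↥(evenW Q) := by
  classical
  refine not_decomposable_of_center hQ.isPGroup_evenW fun z hz w hw hz1 hw1 => ?_
  have hinv : ∀ q ∈ Q, ∀ i, (∃ p ∈ Q, p (q i) ≠ q i) ↔ ∃ p ∈ Q, p i ≠ i := by
    intro q hq i
    constructor
    · rintro ⟨p, hp, hpne⟩
      refine ⟨q⁻¹ * p * q, Q.mul_mem (Q.mul_mem (Q.inv_mem hq) hp) hq, fun e => hpne ?_⟩
      simp only [Perm.mul_apply] at e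
      exact (Perm.inv_eq_iff_eq.1 e).symm ▸ rfl
    · rintro ⟨p, hp, hpne⟩
      refine ⟨q * p * q⁻¹, Q.mul_mem (Q.mul_mem hq hp) (Q.inv_mem hq), fun e => hpne ?_⟩
      simp at e
      exact e
  have shape : ∀ z ∈ Subgroup.center ↥(evenW Q), z ≠ 1 →
      (z : Perm (Fin m × ZMod 2)) = wr (fun i => if ∃ q ∈ Q, q i ≠ i then 1 else 0) 1 := by
    intro z hz hz1
    obtain ⟨c, σ, hσ, hc, hzc⟩ := z.2
    obtain ⟨rfl, hconst⟩ := center_shape (Q := Q) hm (c := c) (σ := σ) fun d τ hτ hd => by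
      have := congrArg Subtype.val (Subgroup.mem_center_iff.1 hz ⟨wr d τ, wr_mem hτ hd⟩)
      simp only [Subgroup.coe_mul] at this
      rw [← hzc]; exact this.symm
    have hfix : ∀ i, ¬ (∃ q ∈ Q, q i ≠ i) → c i = 0 := fun i hi => by
      have hs := hQ.sum_const_eq_zero (P := fun j => ∃ q ∈ Q, q j ≠ j) (fun q hq j => hinv q hq j)
        (fun j hj => hj) (d := c) (fun q hq j _ => hconst q hq j)
      rw [← Finset.sum_filter_add_sum_filter_not Finset.univ (fun j => ∃ q ∈ Q, q j ≠ j), hs,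
        zero_add, Finset.sum_eq_single i (fun j hj hji => absurd (hQ.fixed_subsingleton
          (fun q hq => by_contra fun e =>
            (show ¬ ∃ q ∈ Q, q j ≠ j from (Finset.mem_filter.1 hj).2) ⟨q, hq, e⟩)
          (fun q hq => by_contra fun e => hi ⟨q, hq, e⟩)) hji)
          (fun h => absurd (Finset.mem_filter.2 ⟨Finset.mem_univ i, hi⟩) h)] at hc
      exact hc
    obtain ⟨i, hi⟩ : ∃ i, c i ≠ 0 := by
      by_contra hne
      push Not at hne
      exact hz1 (Subtype.ext (by rw [hzc]; exact wr_eq_one_iff.2 ⟨funext hne, rfl⟩))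
    rw [hzc, wr_eq_iff]
    refine ⟨funext fun j => ?_, rfl⟩
    split
    · obtain ⟨q, hq, hqi⟩ := h1 i j (by_contra fun e => hi (hfix i e)) ‹_›
      rw [← hqi, hconst q hq]
      exact (zmod_two_cases (c i)).resolve_left hi
    · exact hfix j ‹_›
  exact Subtype.ext ((shape z hz hz1).trans (shape w hw hw1).symm)

include hQ in
/-- A fixed point and two nontrivial orbits: decomposable. -/
theorem decomposable_of_fixed {t i j : Fin m} (ht : ∀ q ∈ Q, q t = t) (hi : ∃ q ∈ Q, q i ≠ i)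
    (hj : ∃ q ∈ Q, q j ≠ j) (hij : ∀ q ∈ Q, q i ≠ j) : Decomposable ↥(evenW Q) := by
  classical
  let P : Fin m → Prop := fun k => ∃ q ∈ Q, q i = k
  have hP : ∀ q ∈ Q, ∀ k, P (q k) ↔ P k := fun q hq k => by
    constructor
    · rintro ⟨p, hp, e⟩
      exact ⟨q⁻¹ * p, Q.mul_mem (Q.inv_mem hq) hp, by simp [e]⟩
    · rintro ⟨p, hp, rfl⟩
      exact ⟨q * p, Q.mul_mem hq hp, rfl⟩
  have hPt : ¬ P t := by
    rintro ⟨p, hp, e⟩
    obtain ⟨q, hq, hne⟩ := hi
    have : i = t := by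
      have h' := congrArg (p⁻¹ : Perm (Fin m)) e
      simpa [ht _ (Q.inv_mem hp)] using h'
    exact hne (this.symm ▸ ht q hq)
  have hPi : P i := ⟨1, Q.one_mem, rfl⟩
  have hPj : ¬ P j := fun ⟨q, hq, e⟩ => hij q hq e
  have hjt : j ≠ t := by
    rintro rfl
    obtain ⟨q, hq, hne⟩ := hj
    exact hne (ht q hq)
  let sub : (R : Fin m → Prop) → Subgroup ↥(evenW Q) := fun R =>
    { carrier := {x | ∃ c σ, σ ∈ Q ∧ (∀ k, R k → σ k = k) ∧ (∀ k, R k → c k = 0) ∧
        (x : Perm (Fin m × ZMod 2)) = wr c σ}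
      one_mem' := ⟨fun _ => 0, 1, Q.one_mem, fun _ _ => rfl, fun _ _ => rfl, wr_one.symm⟩
      mul_mem' := by
        rintro x y ⟨c, σ, hσ, h1, h2, hx⟩ ⟨d, τ, hτ, h3, h4, hy⟩
        refine ⟨_, _, Q.mul_mem hσ hτ, fun k hk => by rw [Perm.mul_apply, h3 k hk, h1 k hk],
          fun k hk => ?_, by rw [Subgroup.coe_mul, hx, hy, wr_mul]⟩
        rw [h4 k hk, h3 k hk, h2 k hk, add_zero]
      inv_mem' := by
        rintro x ⟨c, σ, hσ, h1, h2, hx⟩
        have h1' : ∀ k, R k → σ⁻¹ k = k := fun k hk =>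
          Perm.inv_eq_iff_eq.2 (h1 k hk).symm
        refine ⟨_, _, Q.inv_mem hσ, h1', fun k hk => ?_, by rw [Subgroup.coe_inv, hx, wr_inv]⟩
        rw [h1' k hk, h2 k hk, neg_zero] }
  refine ⟨sub fun k => ¬ P k ∧ k ≠ t, sub P, ?_, ?_, ?_, ?_, ?_⟩
  · rw [Subgroup.ne_bot_iff_exists_ne_one]
    refine ⟨⟨⟨wr (pair i t) 1, wr_mem Q.one_mem (pair_sum _ _)⟩, pair i t, 1, Q.one_mem,
      fun _ _ => rfl, fun k hk => ?_, rfl⟩, fun e => ?_⟩
    · have h1 : k ≠ i := fun e => hk.1 (e ▸ hPi)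
      simp [pair, h1, hk.2]
    · have := congrArg Subtype.val (congrArg Subtype.val e)
      simp only [Subgroup.coe_one] at this
      have := congrFun (wr_eq_one_iff.1 this).1 t
      simp [pair, show t ≠ i from fun e => hPt (e ▸ hPi)] at this
  · rw [Subgroup.ne_bot_iff_exists_ne_one]
    refine ⟨⟨⟨wr (pair j t) 1, wr_mem Q.one_mem (pair_sum _ _)⟩, pair j t, 1, Q.one_mem,
      fun _ _ => rfl, fun k hk => ?_, rfl⟩, fun e => ?_⟩
    · have h1 : k ≠ j := fun e => hPj (e ▸ hk)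
      have h2 : k ≠ t := fun e => hPt (e ▸ hk)
      simp [pair, h1, h2]
    · have := congrArg Subtype.val (congrArg Subtype.val e)
      simp only [Subgroup.coe_one] at this
      have := congrFun (wr_eq_one_iff.1 this).1 t
      simp [pair, hjt.symm] at this
  · rintro x ⟨c, σ, hσ, h1, h2, hx⟩ y ⟨d, τ, hτ, h3, h4, hy⟩
    apply Subtype.ext
    rw [Subgroup.coe_mul, Subgroup.coe_mul, hx, hy]
    refine wr_commute_iff.2 ⟨fun k => ?_, Equiv.ext fun k => ?_⟩
    · by_cases hk : P k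
      · rw [h3 k hk, h4 k hk, h4 (σ k) ((hP σ hσ k).2 hk), zero_add, add_zero]
      · by_cases hkt : k = t
        · subst hkt; rw [ht σ hσ, ht τ hτ, add_comm]
        · rw [h1 k ⟨hk, hkt⟩, h2 k ⟨hk, hkt⟩, h2 (τ k) ⟨fun e => hk ((hP τ hτ k).1 e),
            fun e => hkt (τ.injective (e.trans (ht τ hτ).symm))⟩, zero_add, add_zero]
    · simp only [Perm.mul_apply]
      by_cases hk : P k
      · rw [h3 k hk, h3 (σ k) ((hP σ hσ k).2 hk)]
      · by_cases hkt : k = t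
        · subst hkt; rw [ht σ hσ, ht τ hτ, ht σ hσ]
        · rw [h1 k ⟨hk, hkt⟩, h1 (τ k) ⟨fun e => hk ((hP τ hτ k).1 e),
            fun e => hkt (τ.injective (e.trans (ht τ hτ).symm))⟩]
  · rw [Subgroup.eq_bot_iff_forall]
    rintro x ⟨⟨c, σ, hσ, h1, h2, hx⟩, ⟨d, τ, hτ, h3, h4, hy⟩⟩
    obtain ⟨rfl, rfl⟩ := wr_eq_iff.1 (hx.symm.trans hy)
    obtain ⟨c', σ', -, hc', hx'⟩ := x.2
    obtain ⟨rfl, rfl⟩ := wr_eq_iff.1 (hx.symm.trans hx')
    have hz : ∀ k, k ≠ t → c k = 0 := fun k hk => by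
      by_cases hP' : P k
      exacts [h4 k hP', h2 k ⟨hP', hk⟩]
    rw [Finset.sum_eq_single t (fun k _ hk => hz k hk) (by simp)] at hc'
    apply Subtype.ext
    rw [hx, Subgroup.coe_one, wr_eq_one_iff]
    refine ⟨funext fun k => ?_, Equiv.ext fun k => ?_⟩
    · by_cases hk : k = t
      exacts [hk ▸ hc', hz k hk]
    · by_cases hP' : P k
      · exact h3 k hP'
      · by_cases hk : k = t
        exacts [hk ▸ ht σ hσ, h1 k ⟨hP', hk⟩]
  · rw [eq_top_iff]
    rintro x -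
    obtain ⟨c, σ, hσ, hc, hx⟩ := x.2
    let σA := glue P σ 1 (hP σ hσ) (hP 1 Q.one_mem)
    let σB := glue P 1 σ (hP 1 Q.one_mem) (hP σ hσ)
    have hσA : σA ∈ Q := hQ.glue_mem P hP hσ Q.one_mem
    have hσB : σB ∈ Q := hQ.glue_mem P hP Q.one_mem hσ
    let s : ZMod 2 := ∑ k with P k, c k
    let cA : Fin m → ZMod 2 := fun k => if P k then c k else if k = t then s else 0
    let cB : Fin m → ZMod 2 := fun k => if P k then 0 else if k = t then c t + s else c k
    have hsum : ∑ k, cA k = 0 := by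
      rw [← Finset.sum_filter_add_sum_filter_not Finset.univ P,
        Finset.sum_congr rfl (fun k hk => if_pos (Finset.mem_filter.1 hk).2),
        Finset.sum_congr rfl (fun k hk => if_neg (Finset.mem_filter.1 hk).2),
        Finset.sum_ite_eq', if_pos (by simp [hPt])]
      exact CharTwo.add_self_eq_zero s
    have hadd : cA + cB = c := funext fun k => by
      simp only [cA, cB, Pi.add_apply]
      split_ifs with h h'
      · rw [add_zero]
      · subst h'; rw [add_comm (c k), ← add_assoc, CharTwo.add_self_eq_zero, zero_add]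
      · rw [zero_add]
    have hsumB : ∑ k, cB k = 0 := by
      have := congrArg (fun f : Fin m → ZMod 2 => ∑ k, f k) hadd
      simp only [Pi.add_apply, Finset.sum_add_distrib, hsum, hc, zero_add] at this
      exact this
    have hmul : x = (⟨wr cA σA, wr_mem hσA hsum⟩ : ↥(evenW Q)) * ⟨wr cB σB, wr_mem hσB hsumB⟩ := by
      apply Subtype.ext
      rw [hx, Subgroup.coe_mul, wr_mul, wr_eq_iff]
      refine ⟨funext fun k => ?_, Equiv.ext fun k => ?_⟩
      · have hB : cA (σB k) = cA k := by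
          by_cases hk : P k
          · simp [σB, glue, hk]
          · have hk' : ¬ P (σ k) := fun e => hk ((hP σ hσ k).1 e)
            by_cases hkt : k = t
            · subst hkt; simp [σB, glue, hk, ht σ hσ]
            · have : σ k ≠ t := fun e => hkt (σ.injective (e.trans (ht σ hσ).symm))
              simp [σB, glue, cA, hk, hk', hkt, this]
        rw [hB, add_comm, ← Pi.add_apply, hadd]
      · simp only [σA, σB, glue, Perm.mul_apply, Equiv.ofBijective_apply, Perm.one_apply]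
        by_cases hk : P k
        · simp [hk]
        · simp [hk, show ¬ P (σ k) from fun e => hk ((hP σ hσ k).1 e)]
    rw [hmul]
    refine Subgroup.mul_mem_sup ?_ ?_
    · exact ⟨cA, σA, hσA, fun k hk => by simp [σA, glue, hk.1],
        fun k hk => by simp [cA, hk.1, hk.2], rfl⟩
    · exact ⟨cB, σB, hσB, fun k hk => by simp [σB, glue, hk], fun k hk => by simp [cB, hk], rfl⟩

include hQ in
/-- No fixed point and at least two orbits: indecomposable. -/
theorem not_decomposable_of_two (hfix : ∀ i : Fin m, ∃ q ∈ Q, q i ≠ i) {i₀ j₀ : Fin m}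
    (hij : ∀ q ∈ Q, q i₀ ≠ j₀) : ¬ Decomposable ↥(evenW Q) := by
  classical
  rintro ⟨A, B, hA, hB, hc, hi, hs⟩
  have hcomm : ∀ {c d : Fin m → ZMod 2} {σ τ : Perm (Fin m)} {a b : ↥(evenW Q)}, a ∈ A → b ∈ B →
      (a : Perm (Fin m × ZMod 2)) = wr c σ → (b : Perm (Fin m × ZMod 2)) = wr d τ →
      Commute (wr c σ) (wr d τ) := by
    intro c d σ τ a b ha hb hac hbd
    have := congrArg Subtype.val (hc a ha b hb)
    rw [Subgroup.coe_mul, Subgroup.coe_mul, hac, hbd] at this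
    exact this
  have hAn : A.Normal := Subgroup.normalizer_eq_top_iff.1 (eq_top_iff.2 (hs ▸ sup_le
    Subgroup.le_normalizer (fun b hb => Subgroup.mem_normalizer_iff.2 fun a =>
      ⟨fun ha => by rw [← hc a ha b hb, mul_inv_cancel_right]; exact ha, fun ha => by
        have h := hc _ ha b hb
        have e : b * a * b⁻¹ = a := by
          have h2 : b * a * b⁻¹ * b = b * (b * a * b⁻¹) := h
          rw [inv_mul_cancel_right] at h2
          exact (mul_left_cancel h2).symm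
        rwa [e] at ha⟩)))
  have hprod : ∀ g : ↥(evenW Q), ∃ a ∈ A, ∃ b ∈ B, g = a * b := fun g => by
    haveI := hAn
    have := hs ▸ Subgroup.mem_top g
    rw [← SetLike.mem_coe, Subgroup.normal_mul] at this
    obtain ⟨a, ha, b, hb, e⟩ := this
    exact ⟨a, ha, b, hb, e.symm⟩
  have hof : ∀ x : Fin m, ∃ y, ∀ q ∈ Q, q x ≠ y := fun x => by
    by_contra hne
    push Not at hne
    obtain ⟨q1, hq1, e1⟩ := hne i₀
    obtain ⟨q2, hq2, e2⟩ := hne j₀
    exact hij _ (Q.mul_mem hq2 (Q.inv_mem hq1)) (by rw [← e1]; simp [e2])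
  have tops : ∀ g : ↥(evenW Q), ∃ c σ, σ ∈ Q ∧ (g : Perm (Fin m × ZMod 2)) = wr c σ := fun g => by
    obtain ⟨c, σ, hσ, -, e⟩ := g.2
    exact ⟨c, σ, hσ, e⟩
  have htopQ : ∀ {g : ↥(evenW Q)} {c : Fin m → ZMod 2} {σ : Perm (Fin m)},
      (g : Perm (Fin m × ZMod 2)) = wr c σ → σ ∈ Q := fun {g c σ} e => by
    obtain ⟨c', σ', hσ', e'⟩ := tops g
    exact (wr_eq_iff.1 (e.symm.trans e')).2 ▸ hσ'
  -- the key lemma
  have step1 : ∀ {c d : Fin m → ZMod 2} {σ τ : Perm (Fin m)} {a b : ↥(evenW Q)}, a ∈ A → b ∈ B →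
      (a : Perm (Fin m × ZMod 2)) = wr c σ → (b : Perm (Fin m × ZMod 2)) = wr d τ →
      ∀ x, σ x ≠ x → τ x = x ∨ τ x = σ x := by
    intro c d σ τ a b ha hb hac hbd x hx
    obtain ⟨y, hy⟩ := hof x
    have hσ := htopQ hac
    have hτ := htopQ hbd
    let e : ↥(evenW Q) := ⟨wr (pair x y) 1, wr_mem Q.one_mem (pair_sum _ _)⟩
    have hmem : e * a * e⁻¹ * a⁻¹ ∈ A := A.mul_mem (hAn.conj_mem a ha e) (A.inv_mem ha)
    have hw : ((e * a * e⁻¹ * a⁻¹ : ↥(evenW Q)) : Perm (Fin m × ZMod 2)) =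
        wr (fun i => pair x y (σ⁻¹ i) + pair x y i) 1 := by
      simp only [Subgroup.coe_mul, Subgroup.coe_inv, e, hac, wr_inv, wr_mul, wr_eq_iff]
      refine ⟨funext fun i => ?_, by simp⟩
      simp [CharTwo.neg_eq]
      linear_combination c (σ⁻¹ i) * (CharTwo.two_eq_zero (R := ZMod 2))
    have h2 : ∀ k, pair x y (σ⁻¹ (τ k)) + pair x y (τ k) = pair x y (σ⁻¹ k) + pair x y k := by
      intro k
      have := (wr_commute_iff.1 (hcomm hmem hb hw hbd)).1 k
      simp only [Perm.one_apply] at this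
      linear_combination this
    have h3 := h2 x
    by_contra hne
    push Not at hne
    have n1 : τ x ≠ y := hy τ hτ
    have n2 : σ⁻¹ (τ x) ≠ y := fun e' => hy (σ⁻¹ * τ) (Q.mul_mem (Q.inv_mem hσ) hτ) e'
    have n3 : σ⁻¹ x ≠ y := fun e' => hy σ⁻¹ (Q.inv_mem hσ) e'
    have n4 : x ≠ y := fun e' => hy 1 Q.one_mem e'
    have n5 : σ⁻¹ (τ x) ≠ x := fun e' => hne.2 (Perm.inv_eq_iff_eq.1 e')
    have n6 : σ⁻¹ x ≠ x := fun e' => hx (Perm.inv_eq_iff_eq.1 e').symm
    simp only [pair, Pi.add_apply, Pi.single_eq_of_ne n5, Pi.single_eq_of_ne n2, Pi.single_eq_of_ne n6,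
      Pi.single_eq_of_ne n3, Pi.single_eq_of_ne hne.1, Pi.single_eq_of_ne n1, Pi.single_eq_same,
      Pi.single_eq_of_ne n4] at h3
    simp at h3
  -- at most one side moves each point
  have hgen : ∀ q ∈ Q, ∃ a ∈ A, ∃ b ∈ B, ∃ c σ d τ, (a : Perm (Fin m × ZMod 2)) = wr c σ ∧
      (b : Perm (Fin m × ZMod 2)) = wr d τ ∧ q = σ * τ := by
    intro q hq
    obtain ⟨a, ha, b, hb, e⟩ := hprod ⟨wr 0 q, wr_mem hq (by simp)⟩
    obtain ⟨c, σ, -, hac⟩ := tops a
    obtain ⟨d, τ, -, hbd⟩ := tops b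
    refine ⟨a, ha, b, hb, c, σ, d, τ, hac, hbd, ?_⟩
    have := congrArg Subtype.val e
    rw [Subgroup.coe_mul, hac, hbd, wr_mul] at this
    exact (wr_eq_iff.1 this).2
  let movA : Fin m → Prop := fun x => ∃ a ∈ A, ∃ c σ, (a : Perm (Fin m × ZMod 2)) = wr c σ ∧ σ x ≠ x
  let movB : Fin m → Prop := fun x => ∃ b ∈ B, ∃ d τ, (b : Perm (Fin m × ZMod 2)) = wr d τ ∧ τ x ≠ x
  have step2 : ∀ x, movA x → movB x → False := by
    rintro x ⟨a, ha, c, σ, hac, hσx⟩ ⟨b, hb, d, τ, hbd, hτx⟩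
    have e1 : τ x = σ x := (step1 ha hb hac hbd x hσx).resolve_left hτx
    have hfst : ∀ {a₁ : ↥(evenW Q)} {c₁ σ₁}, a₁ ∈ A → (a₁ : Perm (Fin m × ZMod 2)) = wr c₁ σ₁ →
        σ₁ x = x ∨ σ₁ x = σ x := fun {a₁ c₁ σ₁} ha₁ h₁ =>
      or_iff_not_imp_left.2 fun h =>
        (((step1 ha₁ hb h₁ hbd x h).resolve_left hτx).symm.trans e1)
    have hsq : σ (σ x) = x := by
      have h := hfst (A.mul_mem ha ha) (c₁ := fun i => c i + c (σ i)) (σ₁ := σ * σ)
        (by rw [Subgroup.coe_mul, hac, wr_mul])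
      exact h.resolve_right fun h' => hσx (σ.injective h')
    have hA2 : ∀ {a₁ : ↥(evenW Q)} {c₁ σ₁}, a₁ ∈ A → (a₁ : Perm (Fin m × ZMod 2)) = wr c₁ σ₁ →
        (σ₁ x = x ∧ σ₁ (σ x) = σ x) ∨ (σ₁ x = σ x ∧ σ₁ (σ x) = x) := by
      intro a₁ c₁ σ₁ ha₁ h₁
      have hc1 : Commute σ₁ τ := (wr_commute_iff.1 (hcomm ha₁ hb h₁ hbd)).2
      have hx' : σ₁ (σ x) = τ (σ₁ x) := by rw [← e1, ← Perm.mul_apply, hc1.eq, Perm.mul_apply]
      have hτ' : τ (σ x) = x := by
        rw [← Perm.mul_apply, ← (wr_commute_iff.1 (hcomm ha hb hac hbd)).2.eq, Perm.mul_apply, e1,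
          hsq]
      rcases hfst ha₁ h₁ with h | h
      · exact Or.inl ⟨h, by rw [hx', h, e1]⟩
      · exact Or.inr ⟨h, by rw [hx', h, hτ']⟩
    have hB2 : ∀ {b₁ : ↥(evenW Q)} {d₁ τ₁}, b₁ ∈ B → (b₁ : Perm (Fin m × ZMod 2)) = wr d₁ τ₁ →
        (τ₁ x = x ∧ τ₁ (σ x) = σ x) ∨ (τ₁ x = σ x ∧ τ₁ (σ x) = x) := by
      intro b₁ d₁ τ₁ hb₁ h₁
      have hc1 : Commute σ τ₁ := (wr_commute_iff.1 (hcomm ha hb₁ hac h₁)).2
      have hx' : τ₁ (σ x) = σ (τ₁ x) := by rw [← Perm.mul_apply, ← hc1.eq, Perm.mul_apply]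
      rcases step1 ha hb₁ hac h₁ x hσx with h | h
      · exact Or.inl ⟨h, by rw [hx', h]⟩
      · exact Or.inr ⟨h, by rw [hx', h, hsq]⟩
    have hBrel : ∀ {b₁ : ↥(evenW Q)} {d₁ τ₁}, b₁ ∈ B → (b₁ : Perm (Fin m × ZMod 2)) = wr d₁ τ₁ →
        d₁ x + d₁ (σ x) = if τ₁ x = x then 0 else c x + c (σ x) := by
      intro b₁ d₁ τ₁ hb₁ h₁
      have h := (wr_commute_iff.1 (hcomm ha hb₁ hac h₁)).1 x
      rcases hB2 hb₁ h₁ with ⟨h0, -⟩ | ⟨h0, -⟩
      · rw [if_pos h0]
        rw [h0] at h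
        linear_combination h + d₁ (σ x) * (CharTwo.two_eq_zero (R := ZMod 2))
      · rw [if_neg (h0.symm ▸ hσx)]
        rw [h0] at h
        linear_combination h + (d₁ (σ x) - c (σ x)) * (CharTwo.two_eq_zero (R := ZMod 2))
    have hArel : ∀ {a₁ : ↥(evenW Q)} {c₁ σ₁}, a₁ ∈ A → (a₁ : Perm (Fin m × ZMod 2)) = wr c₁ σ₁ →
        c₁ x + c₁ (σ x) = if σ₁ x = x then 0 else c x + c (σ x) := by
      intro a₁ c₁ σ₁ ha₁ h₁
      have h := (wr_commute_iff.1 (hcomm ha₁ hb h₁ hbd)).1 x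
      have hd := hBrel hb hbd
      rw [if_neg hτx] at hd
      rcases hA2 ha₁ h₁ with ⟨h0, -⟩ | ⟨h0, -⟩
      · rw [if_pos h0]
        rw [h0, e1] at h
        linear_combination h + c₁ x * (CharTwo.two_eq_zero (R := ZMod 2))
      · rw [if_neg (h0.symm ▸ hσx)]
        rw [h0, e1] at h
        linear_combination h + hd + (c₁ x - d x) * (CharTwo.two_eq_zero (R := ZMod 2))
    obtain ⟨y, hy⟩ := hof x
    obtain ⟨a₁, ha₁, b₁, hb₁, e⟩ := hprod ⟨wr (pair x y) 1, wr_mem Q.one_mem (pair_sum _ _)⟩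
    obtain ⟨c₁, σ₁, -, h₁⟩ := tops a₁
    obtain ⟨d₁, τ₁, -, h₂⟩ := tops b₁
    have := congrArg Subtype.val e
    rw [Subgroup.coe_mul, h₁, h₂, wr_mul] at this
    obtain ⟨hv, hp⟩ := wr_eq_iff.1 this
    have hx1 := congrFun hv x
    have hx2 := congrFun hv (σ x)
    have n1 : x ≠ y := fun e' => hy 1 Q.one_mem e'
    have n2 : σ x ≠ y := hy σ (htopQ hac)
    simp only [pair, Pi.add_apply, Pi.single_eq_same, Pi.single_eq_of_ne n1,
      Pi.single_eq_of_ne hσx, Pi.single_eq_of_ne n2] at hx1 hx2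
    have hpx := DFunLike.congr_fun hp x
    simp only [Perm.one_apply, Perm.mul_apply] at hpx
    have r1 := hArel ha₁ h₁
    have r2 := hBrel hb₁ h₂
    rcases hB2 hb₁ h₂ with ⟨h0, h0'⟩ | ⟨h0, h0'⟩
    · rw [h0] at hpx
      rw [if_pos hpx.symm] at r1
      rw [if_pos h0] at r2
      rw [h0] at hx1; rw [h0'] at hx2
      exact one_ne_zero (α := ZMod 2) (by linear_combination hx1 + hx2 + r1 + r2)
    · rw [h0] at hpx
      have hσ1 : σ₁ x ≠ x := fun h => hσx (σ₁.injective (hpx.symm.trans h.symm))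
      rw [if_neg hσ1] at r1
      rw [if_neg (h0.symm ▸ hσx)] at r2
      rw [h0] at hx1; rw [h0'] at hx2
      exact one_ne_zero (α := ZMod 2) (by
        linear_combination hx1 + hx2 + r1 + r2 + (c x + c (σ x)) * (CharTwo.two_eq_zero (R := ZMod 2)))
  -- parity on the points moved by `A`
  have hmove : ∀ x, movA x ∨ movB x := fun x => by
    obtain ⟨q, hq, hne⟩ := hfix x
    obtain ⟨a, ha, b, hb, c, σ, d, τ, hac, hbd, rfl⟩ := hgen q hq
    by_cases h : τ x = x
    · exact Or.inl ⟨a, ha, c, σ, hac, by rwa [Perm.mul_apply, h] at hne⟩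
    · exact Or.inr ⟨b, hb, d, τ, hbd, h⟩
  have hfA : ∀ x, ¬ movA x → ∀ {a : ↥(evenW Q)} {c σ}, a ∈ A →
      (a : Perm (Fin m × ZMod 2)) = wr c σ → σ x = x := fun x hx {a c σ} ha h =>
    by_contra fun e => hx ⟨a, ha, c, σ, h, e⟩
  have hfB : ∀ x, movA x → ∀ {b : ↥(evenW Q)} {d τ}, b ∈ B →
      (b : Perm (Fin m × ZMod 2)) = wr d τ → τ x = x := fun x hx {b d τ} hb h =>
    by_contra fun e => step2 x hx ⟨b, hb, d, τ, h, e⟩
  have hPle : ∀ q ∈ Q, ∀ x, ¬ movA x → ¬ movA (q x) := by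
    rintro q hq x hx ⟨a, ha, c, σ, hac, hne⟩
    obtain ⟨a', ha', b, hb, c', σ', d, τ, hac', hbd, rfl⟩ := hgen q hq
    have hc1 : Commute σ τ := (wr_commute_iff.1 (hcomm ha hb hac hbd)).2
    have hc2 : Commute σ' τ := (wr_commute_iff.1 (hcomm ha' hb hac' hbd)).2
    rw [hc2.eq, Perm.mul_apply, hfA x hx ha' hac', ← Perm.mul_apply, hc1.eq, Perm.mul_apply,
      hfA x hx ha hac] at hne
    exact hne rfl
  have hP : ∀ q ∈ Q, ∀ x, movA (q x) ↔ movA x := fun q hq x => by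
    refine ⟨fun h => by_contra fun h' => hPle q hq x h' h, fun h => by_contra fun h' => ?_⟩
    have := hPle q⁻¹ (Q.inv_mem hq) (q x) h'
    simp [h] at this
  have hone : (∀ x, movA x) ∨ ∀ x, ¬ movA x := by
    by_contra hne
    push Not at hne
    obtain ⟨⟨y, hy⟩, x, hx⟩ := hne
    obtain ⟨a₁, ha₁, b₁, hb₁, e⟩ := hprod ⟨wr (pair x y) 1, wr_mem Q.one_mem (pair_sum _ _)⟩
    obtain ⟨c₁, σ₁, hσ₁, h₁⟩ := tops a₁
    obtain ⟨d₁, τ₁, hτ₁, h₂⟩ := tops b₁
    have hd : ∀ q ∈ Q, ∀ i, movA i → d₁ (q i) = d₁ i := by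
      intro q hq i hi
      obtain ⟨a, ha, b, hb, c, σ, d, τ, hac, hbd, rfl⟩ := hgen q hq
      have h := (wr_commute_iff.1 (hcomm ha hb₁ hac h₂)).1 i
      rw [hfB i hi hb₁ h₂] at h
      rw [Perm.mul_apply, hfB i hi hb hbd]
      exact (add_left_cancel (h.symm.trans (add_comm _ _)))
    have hc : ∀ q ∈ Q, ∀ i, ¬ movA i → c₁ (q i) = c₁ i := by
      intro q hq i hi
      obtain ⟨a, ha, b, hb, c, σ, d, τ, hac, hbd, rfl⟩ := hgen q hq
      have h := (wr_commute_iff.1 (hcomm ha₁ hb h₁ hbd)).1 i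
      rw [hfA i hi ha₁ h₁] at h
      have hc2 : Commute σ τ := (wr_commute_iff.1 (hcomm ha hb hac hbd)).2
      rw [hc2.eq, Perm.mul_apply, hfA i hi ha hac]
      exact add_left_cancel (h.trans (add_comm _ _))
    have s1 := hQ.sum_const_eq_zero hP (fun i _ => hfix i) hd
    have s2 := hQ.sum_const_eq_zero (P := fun i => ¬ movA i)
      (fun q hq i => not_congr (hP q hq i)) (fun i _ => hfix i) hc
    obtain ⟨c', σ', -, hsum, hc'⟩ := a₁.2
    rw [← (wr_eq_iff.1 (h₁.symm.trans hc')).1, ← Finset.sum_filter_add_sum_filter_not Finset.univ movA,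
      s2, add_zero] at hsum
    have := congrArg Subtype.val e
    rw [Subgroup.coe_mul, h₁, h₂, wr_mul] at this
    have hv := congrArg (fun f : Fin m → ZMod 2 => ∑ i with movA i, f i) (wr_eq_iff.1 this).1
    beta_reduce at hv
    rw [part_mul (fun i => hP τ₁ hτ₁ i), hsum, s1, add_zero] at hv
    simp [pair, Finset.sum_add_distrib, hx, hy] at hv
  -- a side with trivial top is central and consists of commutators
  have final : ∀ X Y : Subgroup ↥(evenW Q), X ≠ ⊥ → X ⊓ Y = ⊥ →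
      (∀ g, ∃ x ∈ X, ∃ y ∈ Y, g = x * y) → (∀ x ∈ X, ∀ y ∈ Y, x * y = y * x) →
      (∀ x ∈ X, ∃ c, (x : Perm (Fin m × ZMod 2)) = wr c 1) → False := by
    intro X Y hX hXY hgenXY hXYc htriv
    have hcen : ∀ a ∈ X, ∀ g, a * g = g * a := by
      intro a ha g
      obtain ⟨x, hx, y, hy, rfl⟩ := hgenXY g
      obtain ⟨c, hac⟩ := htriv a ha
      obtain ⟨c', hxc⟩ := htriv x hx
      have hax : a * x = x * a := Subtype.ext (by
        rw [Subgroup.coe_mul, Subgroup.coe_mul, hac, hxc]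
        exact wr_commute_iff.2 ⟨fun i => add_comm _ _, Commute.refl _⟩)
      rw [← mul_assoc, hax, mul_assoc, hXYc a ha y hy, mul_assoc]
    have hcom : ∀ g h : ↥(evenW Q), g * h * g⁻¹ * h⁻¹ ∈ Y := by
      intro g h
      obtain ⟨x, hx, y, hy, rfl⟩ := hgenXY g
      obtain ⟨x', hx', y', hy', rfl⟩ := hgenXY h
      have e : x * y * (x' * y') * (x * y)⁻¹ * (x' * y')⁻¹ = y * y' * y⁻¹ * y'⁻¹ := by
        have c1 : ∀ g, x * g = g * x := hcen x hx
        have c2 : ∀ g, x' * g = g * x' := hcen x' hx'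
        calc x * y * (x' * y') * (x * y)⁻¹ * (x' * y')⁻¹
            = x * (y * x') * y' * y⁻¹ * x⁻¹ * y'⁻¹ * x'⁻¹ := by group
          _ = x * (x' * y) * y' * y⁻¹ * x⁻¹ * y'⁻¹ * x'⁻¹ := by rw [← c2 y]
          _ = x * (x' * (y * y' * y⁻¹)) * x⁻¹ * y'⁻¹ * x'⁻¹ := by group
          _ = (x' * (y * y' * y⁻¹)) * x * x⁻¹ * y'⁻¹ * x'⁻¹ := by rw [c1]
          _ = x' * (y * y' * y⁻¹ * y'⁻¹) * x'⁻¹ := by group
          _ = _ := by rw [c2]; group
      rw [e]
      exact Y.mul_mem (Y.mul_mem (Y.mul_mem hy hy') (Y.inv_mem hy)) (Y.inv_mem hy')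
    have hpair : ∀ x, ∀ q ∈ Q, (⟨wr (pair (q x) x) 1, wr_mem Q.one_mem (pair_sum _ _)⟩ :
        ↥(evenW Q)) ∈ Y := by
      intro x q hq
      obtain ⟨y, hy⟩ := hof x
      let O : Fin m → Prop := fun k => ∃ p ∈ Q, p x = k
      have hO : ∀ p ∈ Q, ∀ k, O (p k) ↔ O k := fun p hp k => by
        constructor
        · rintro ⟨p', hp', e⟩
          exact ⟨p⁻¹ * p', Q.mul_mem (Q.inv_mem hp) hp', by simp [e]⟩
        · rintro ⟨p', hp', rfl⟩
          exact ⟨p * p', Q.mul_mem hp hp', rfl⟩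
      have hq' : glue O q 1 (hO q hq) (hO 1 Q.one_mem) ∈ Q := hQ.glue_mem O hO hq Q.one_mem
      set q' := glue O q 1 (hO q hq) (hO 1 Q.one_mem)
      have hx' : q' x = q x := by simp [q', glue, show O x from ⟨1, Q.one_mem, rfl⟩]
      have hy' : q' y = y := by simp [q', glue, show ¬ O y from fun ⟨p, hp, e⟩ => hy p hp e]
      convert hcom ⟨wr 0 q', wr_mem hq' (by simp)⟩ ⟨wr (pair x y) 1, wr_mem Q.one_mem (pair_sum _ _)⟩
        using 1
      apply Subtype.ext
      simp only [Subgroup.coe_mul, Subgroup.coe_inv, wr_inv, wr_mul, wr_eq_iff]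
      refine ⟨funext fun i => ?_, by simp⟩
      have hs : ∀ z : Fin m, (Pi.single z 1 : Fin m → ZMod 2) (q'⁻¹ i) =
          (Pi.single (q' z) 1 : Fin m → ZMod 2) i := fun z => by
        by_cases h : i = q' z
        · subst h; simp
        · rw [Pi.single_eq_of_ne h, Pi.single_eq_of_ne fun e => h (Perm.inv_eq_iff_eq.1 e)]
      simp only [pair, Pi.add_apply, Pi.zero_apply, inv_one, Perm.one_apply, Perm.mul_apply, hs, hx',
        hy', CharTwo.neg_eq, neg_zero, zero_add, add_zero]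
      linear_combination (-(Pi.single (M := fun _ => ZMod 2) y 1 i)) * (CharTwo.two_eq_zero (R := ZMod 2))
    have hvec : ∀ k, ∀ c : Fin m → ZMod 2, ∀ hc0 : ∑ i, c i = 0,
        (Finset.univ.filter fun i => c i = 1).card = k →
        (∀ x, c x = 1 → ∃ q ∈ Q, q x ≠ x ∧ c (q x) = 1) →
        (∀ x, ∑ i with (∃ q ∈ Q, q x = i), c i = 0) →
        (⟨wr c 1, wr_mem Q.one_mem hc0⟩ : ↥(evenW Q)) ∈ Y := by
      intro k
      induction k using Nat.strong_induction_on with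
      | _ k ih =>
      intro c hc0 hk hone' horb
      by_cases hz : ∀ i, c i = 0
      · rw [show (⟨wr c 1, wr_mem Q.one_mem hc0⟩ : ↥(evenW Q)) = 1 from
          Subtype.ext ((wr_eq_one_iff.2 ⟨funext hz, rfl⟩).trans (Subgroup.coe_one _).symm)]
        exact Y.one_mem
      · push Not at hz
        obtain ⟨x, hx⟩ := hz
        have hx1 : c x = 1 := (zmod_two_cases (c x)).resolve_left hx
        obtain ⟨q, hq, hne, hq1⟩ := hone' x hx1
        let c' : Fin m → ZMod 2 := c + pair (q x) x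
        have hc'val : ∀ i, c' i = if i = x ∨ i = q x then 0 else c i := fun i => by
          simp only [c', pair, Pi.add_apply, Pi.single_apply]
          rcases eq_or_ne i x with rfl | h1
          · simp [hx1, hne.symm, CharTwo.add_self_eq_zero]
          · rcases eq_or_ne i (q x) with rfl | h2
            · simp [hq1, hne, CharTwo.add_self_eq_zero]
            · simp [h1, h2]
        have hc'0 : ∑ i, c' i = 0 := by
          simp [c', Finset.sum_add_distrib, hc0, pair_sum]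
        have horb' : ∀ z, ∑ i with (∃ p ∈ Q, p z = i), c' i = 0 := fun z => by
          simp only [c', pair, Pi.add_apply, Finset.sum_add_distrib, horb z, zero_add,
            Finset.sum_pi_single', Finset.mem_filter, Finset.mem_univ, true_and]
          by_cases h : ∃ p ∈ Q, p z = x
          · obtain ⟨p, hp, e⟩ := h
            rw [if_pos ⟨q * p, Q.mul_mem hq hp, by simp [e]⟩, if_pos ⟨p, hp, e⟩]
            exact CharTwo.add_self_eq_zero _
          · rw [if_neg fun ⟨p, hp, e⟩ => h ⟨q⁻¹ * p, Q.mul_mem (Q.inv_mem hq) hp, by simp [e]⟩,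
              if_neg h, add_zero]
        have hlt : (Finset.univ.filter fun i => c' i = 1).card < k := by
          rw [← hk]
          refine Finset.card_lt_card (Finset.ssubset_iff_of_subset ?_ |>.2 ⟨x, by simp [hx1], ?_⟩)
          · intro i hi
            simp only [Finset.mem_filter, Finset.mem_univ, true_and, hc'val] at hi ⊢
            split_ifs at hi with h
            · exact absurd hi zero_ne_one
            · exact hi
          · simp [hc'val]
        have hstep : ∀ z, c' z = 1 → ∃ p ∈ Q, p z ≠ z ∧ c' (p z) = 1 := by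
          intro z hz
          by_contra hno
          push Not at hno
          have := horb' z
          rw [Finset.sum_eq_single z (fun i hi hiz => ?_) (fun h => absurd (Finset.mem_filter.2
            ⟨Finset.mem_univ z, 1, Q.one_mem, rfl⟩) h), hz] at this
          · exact one_ne_zero this
          · obtain ⟨p, hp, rfl⟩ := (Finset.mem_filter.1 hi).2
            exact (zmod_two_cases (c' (p z))).resolve_right (hno p hp hiz)
        have hmem := Y.mul_mem (ih _ hlt c' hc'0 rfl hstep horb') (hpair x q hq)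
        convert hmem using 1
        apply Subtype.ext
        rw [Subgroup.coe_mul, wr_mul, wr_eq_iff]
        refine ⟨funext fun i => ?_, by simp⟩
        simp only [c', Pi.add_apply, Perm.one_apply]
        linear_combination (-(pair (q x) x i)) * (CharTwo.two_eq_zero (R := ZMod 2))
    obtain ⟨a, ha, ha1⟩ := (Subgroup.bot_or_exists_ne_one X).resolve_left hX
    obtain ⟨c, hac⟩ := htriv a ha
    have hc0 : ∑ i, c i = 0 := by
      obtain ⟨c', σ', -, h0, e⟩ := a.2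
      rwa [(wr_eq_iff.1 (hac.symm.trans e)).1]
    have hconst : ∀ q ∈ Q, ∀ i, c (q i) = c i := fun q hq i => by
      have := congrArg Subtype.val (hcen a ha ⟨wr 0 q, wr_mem hq (by simp)⟩)
      rw [Subgroup.coe_mul, Subgroup.coe_mul, hac] at this
      simpa using (wr_commute_iff.1 this).1 i
    have haY : a ∈ Y := by
      have e : a = ⟨wr c 1, wr_mem Q.one_mem hc0⟩ := Subtype.ext hac
      rw [e]
      refine hvec _ c hc0 rfl (fun x hx => ?_) fun x => ?_
      · obtain ⟨q, hq, hne⟩ := hfix x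
        exact ⟨q, hq, hne, (hconst q hq x).trans hx⟩
      · exact hQ.sum_const_eq_zero (fun p hp k => by
          constructor
          · rintro ⟨p', hp', e⟩
            exact ⟨p⁻¹ * p', Q.mul_mem (Q.inv_mem hp) hp', by simp [e]⟩
          · rintro ⟨p', hp', rfl⟩
            exact ⟨p * p', Q.mul_mem hp hp', rfl⟩) (fun i _ => hfix i) (fun q hq i _ => hconst q hq i)
    have : a ∈ X ⊓ Y := ⟨ha, haY⟩
    rw [hXY] at this
    exact ha1 this
  rcases hone with hall | hnone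
  · refine final B A hB (inf_comm A B ▸ hi) (fun g => ?_) (fun b hb a ha => (hc a ha b hb).symm) fun b hb => ?_
    · obtain ⟨a, ha, b, hb, rfl⟩ := hprod g
      exact ⟨b, hb, a, ha, hc a ha b hb⟩
    · obtain ⟨d, τ, -, hbd⟩ := tops b
      exact ⟨d, by rwa [show τ = 1 from Equiv.ext fun x => hfB x (hall x) hb hbd] at hbd⟩
  · refine final A B hA hi hprod hc fun a ha => ?_
    obtain ⟨c, σ, -, hac⟩ := tops a
    exact ⟨c, by rwa [show σ = 1 from Equiv.ext fun x => hfA x (hnone x) ha hac] at hac⟩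

end IsTop

end CfsgLib.ClassK.AltSylow
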