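import Mathlib
import Cfsg.Agent.Lib.BlockA.SylowSymGen

/-!
The even part of `C₂ ≀ Q`, for a maximal 2-subgroup `Q` of a symmetric group.
-/

set_option autoImplicit false
set_option linter.unusedSectionVars false

namespace CfsgLib.ClassK.AltSylow

open Equiv CfsgLib.BlockA.SylowSymGen

variable {m : ℕ}

/-- `Q` is a maximal 2-subgroup. -/
structure IsTop (Q : Subgroup (Perm (Fin m))) : Prop where
  pgroup : IsPGroup 2 Q
  max : ∀ R : Subgroup (Perm (Fin m)), IsPGroup 2 R → Q ≤ R → R = Q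

/-- The even part of the wreath product. -/
def evenW (Q : Subgroup (Perm (Fin m))) : Subgroup (Perm (Fin m × ZMod 2)) where
  carrier := {x | ∃ c : Fin m → ZMod 2, ∃ σ ∈ Q, ∑ i, c i = 0 ∧ x = wr c σ}
  one_mem' := ⟨fun _ => 0, 1, Q.one_mem, by simp, wr_one.symm⟩
  mul_mem' := by
    rintro _ _ ⟨c, σ, hσ, hc, rfl⟩ ⟨d, τ, hτ, hd, rfl⟩
    refine ⟨_, _, Q.mul_mem hσ hτ, ?_, wr_mul c d σ τ⟩
    rw [Finset.sum_add_distrib, hd, Equiv.sum_comp τ c, hc, add_zero]
  inv_mem' := by
    rintro _ ⟨c, σ, hσ, hc, rfl⟩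
    refine ⟨_, _, Q.inv_mem hσ, ?_, wr_inv c σ⟩
    rw [Finset.sum_neg_distrib, Equiv.sum_comp σ⁻¹ c, hc, neg_zero]

theorem wr_mem {Q : Subgroup (Perm (Fin m))} {c : Fin m → ZMod 2} {σ : Perm (Fin m)} (hσ : σ ∈ Q)
    (hc : ∑ i, c i = 0) : wr c σ ∈ evenW Q := ⟨c, σ, hσ, hc, rfl⟩

theorem wr_eq_iff {c d : Fin m → ZMod 2} {σ τ : Perm (Fin m)} :
    wr c σ = wr d τ ↔ c = d ∧ σ = τ := by
  refine ⟨fun h => ?_, fun ⟨h1, h2⟩ => h1 ▸ h2 ▸ rfl⟩
  have := wr_injective (p := 2) (m := m) (a₁ := (c, σ)) (a₂ := (d, τ)) h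
  exact Prod.mk.injEq _ _ _ _ ▸ this

theorem wr_eq_one_iff {c : Fin m → ZMod 2} {σ : Perm (Fin m)} :
    wr c σ = 1 ↔ c = 0 ∧ σ = 1 := by
  rw [← wr_one (m := m) (p := 2), wr_eq_iff]
  rfl

theorem wr_commute_iff {c d : Fin m → ZMod 2} {σ τ : Perm (Fin m)} :
    Commute (wr c σ) (wr d τ) ↔ (∀ i, d i + c (τ i) = c i + d (σ i)) ∧ Commute σ τ := by
  rw [Commute, SemiconjBy, wr_mul, wr_mul, wr_eq_iff, funext_iff]
  rfl

/-- A vector with two ones. -/
def pair (x y : Fin m) : Fin m → ZMod 2 := Pi.single x 1 + Pi.single y 1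

theorem pair_sum (x y : Fin m) : ∑ i, pair x y i = 0 := by
  simp [pair, Finset.sum_add_distrib, CharTwo.add_self_eq_zero]

theorem zmod_two_cases : ∀ a : ZMod 2, a = 0 ∨ a = 1 := by decide

/-- The sum over an invariant predicate is additive on the wreath product. -/
theorem part_mul {P : Fin m → Prop} [DecidablePred P] {τ : Perm (Fin m)} (hP : ∀ i, P (τ i) ↔ P i)
    (c d : Fin m → ZMod 2) :
    ∑ i with P i, (d i + c (τ i)) = (∑ i with P i, c i) + ∑ i with P i, d i := by
  rw [Finset.sum_add_distrib, add_comm]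
  congr 1
  exact Finset.sum_equiv τ (by simp [hP]) (fun i _ => rfl)

namespace IsTop

variable {Q : Subgroup (Perm (Fin m))} (hQ : IsTop Q)

/-- Two elements glued along an invariant predicate. -/
noncomputable def glue (P : Fin m → Prop) [DecidablePred P] (a b : Perm (Fin m))
    (ha : ∀ i, P (a i) ↔ P i) (hb : ∀ i, P (b i) ↔ P i) : Perm (Fin m) :=
  Equiv.ofBijective (fun i => if P i then a i else b i) (by
    rw [← Finite.injective_iff_bijective]
    intro i j h
    simp only at h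
    split_ifs at h with h1 h2 h2
    · exact a.injective h
    · exact absurd ((hb j).1 (h ▸ (ha i).2 h1)) h2
    · exact absurd ((hb i).1 (h.symm ▸ (ha j).2 h2)) h1
    · exact b.injective h)

include hQ in
theorem glue_mem (P : Fin m → Prop) [DecidablePred P] (hP : ∀ q ∈ Q, ∀ i, P (q i) ↔ P i)
    {a b : Perm (Fin m)} (ha : a ∈ Q) (hb : b ∈ Q) :
    glue P a b (hP a ha) (hP b hb) ∈ Q := by
  classical
  let ψ : Q × Q →* Perm (Fin m) :=
    { toFun := fun x => glue P x.1 x.2 (hP _ x.1.2) (hP _ x.2.2)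
      map_one' := Equiv.ext fun i => by simp [glue]
      map_mul' := fun x y => Equiv.ext fun i => by
        simp only [glue, Equiv.ofBijective_apply, Perm.mul_apply, Prod.fst_mul, Prod.snd_mul,
          Subgroup.coe_mul]
        split_ifs with h h'
        · rfl
        · exact absurd ((hP _ y.1.2 i).2 h) h'
        · exact absurd ((hP _ y.2.2 i).1 ‹_›) h
        · rfl }
  have hle : Q ≤ ψ.range := fun q hq => ⟨(⟨q, hq⟩, ⟨q, hq⟩), Equiv.ext fun i => by
    simp [ψ, glue]⟩
  obtain ⟨r, hr⟩ := IsPGroup.iff_card.1 hQ.pgroup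
  have hp2 : IsPGroup 2 ↥ψ.range :=
    (IsPGroup.of_card (n := r + r) (by rw [Nat.card_prod, hr, ← pow_add]) :
      IsPGroup 2 (Q × Q)).of_surjective ψ.rangeRestrict ψ.rangeRestrict_surjective
  have := hQ.max _ hp2 hle
  exact this ▸ ⟨(⟨a, ha⟩, ⟨b, hb⟩), rfl⟩

include hQ in
theorem fixed_subsingleton {x y : Fin m} (hx : ∀ q ∈ Q, q x = x) (hy : ∀ q ∈ Q, q y = y) :
    x = y := by
  classical
  by_contra hxy
  have hs : IsPGroup 2 ↥(Subgroup.zpowers (Equiv.swap x y)) := IsPGroup.of_card (n := 1) (by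
    rw [Nat.card_zpowers, pow_one]
    exact orderOf_eq_prime (by rw [pow_two, Equiv.swap_mul_self]) (fun h => hxy (by
      have := Equiv.swap_apply_left x y
      rw [h] at this
      exact this)))
  have hn : Q ≤ Subgroup.normalizer (Subgroup.zpowers (Equiv.swap x y) : Set (Perm (Fin m))) := by
    intro q hq
    have hc : Commute q (Equiv.swap x y) := by
      have := Equiv.mul_swap_eq_swap_mul q x y
      rw [hx q hq, hy q hq] at this
      exact this
    refine Subgroup.mem_normalizer_iff.2 fun z => ?_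
    constructor
    · rintro ⟨k, rfl⟩
      exact ⟨k, by simp only; rw [(hc.zpow_right k).eq, mul_inv_cancel_right]⟩
    · rintro ⟨k, hk⟩
      refine ⟨k, ?_⟩
      simp only at hk ⊢
      have e : z = q⁻¹ * (Equiv.swap x y ^ k) * q := by rw [hk]; group
      rw [e, mul_assoc, ← (hc.zpow_right k).eq, inv_mul_cancel_left]
  have h2 : IsPGroup 2 ↥(Q ⊔ Subgroup.zpowers (Equiv.swap x y)) :=
    IsPGroup.to_sup_of_normal_right' hQ.pgroup hs hn
  have := hQ.max _ h2 le_sup_left
  have hmem : Equiv.swap x y ∈ Q := this ▸ Subgroup.mem_sup_right (Subgroup.mem_zpowers _)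
  exact hxy (by simpa using (hx _ hmem).symm)

include hQ in
theorem even_card_of_invariant {P : Fin m → Prop} [DecidablePred P]
    (hP : ∀ q ∈ Q, ∀ i, P (q i) ↔ P i) (hfix : ∀ i, P i → ∃ q ∈ Q, q i ≠ i) :
    2 ∣ (Finset.univ.filter P).card := by
  let S : SubMulAction Q (Fin m) :=
    { carrier := {i | P i}
      smul_mem' := fun q i hi => (hP q q.2 i).2 hi }
  have h := hQ.pgroup.card_modEq_card_fixedPoints ↥S
  have hempty : IsEmpty ↥(MulAction.fixedPoints Q ↥S) := ⟨fun ⟨⟨i, hi⟩, hf⟩ => by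
    obtain ⟨q, hq, hne⟩ := hfix i hi
    exact hne (congrArg Subtype.val (hf ⟨q, hq⟩))⟩
  rw [Nat.card_of_isEmpty (α := ↥(MulAction.fixedPoints Q ↥S))] at h
  have hc : Nat.card ↥S = (Finset.univ.filter P).card := by
    rw [← Fintype.card_subtype, ← Nat.card_eq_fintype_card]
    rfl
  rw [hc] at h
  exact Nat.modEq_zero_iff_dvd.1 h

include hQ in
theorem sum_const_eq_zero {P : Fin m → Prop} [DecidablePred P]
    (hP : ∀ q ∈ Q, ∀ i, P (q i) ↔ P i) (hfix : ∀ i, P i → ∃ q ∈ Q, q i ≠ i)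
    {d : Fin m → ZMod 2} (hd : ∀ q ∈ Q, ∀ i, P i → d (q i) = d i) :
    ∑ i with P i, d i = 0 := by
  have h := hQ.even_card_of_invariant (P := fun i => P i ∧ d i = 1)
    (fun q hq i => by
      constructor
      · rintro ⟨h1, h2⟩
        have h1' := (hP q hq i).1 h1
        exact ⟨h1', by rwa [hd q hq i h1'] at h2⟩
      · rintro ⟨h1, h2⟩
        exact ⟨(hP q hq i).2 h1, by rwa [hd q hq i h1]⟩)
    (fun i hi => hfix i hi.1)
  have e : ∑ i with P i, d i = ((Finset.univ.filter fun i => P i ∧ d i = 1).card : ZMod 2) := by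
    rw [← Finset.filter_filter, ← Finset.sum_boole]
    refine Finset.sum_congr rfl fun i _ => ?_
    rcases zmod_two_cases (d i) with hi | hi <;> simp [hi]
  rw [e]
  exact (ZMod.natCast_eq_zero_iff_even.2 (even_iff_two_dvd.2 h))

include hQ in
theorem mod_two : m % 2 = 0 ↔ ∀ i : Fin m, ∃ q ∈ Q, q i ≠ i := by
  classical
  constructor
  · intro hm i
    by_contra hi
    push Not at hi
    have h := hQ.even_card_of_invariant (P := fun j => j ≠ i)
      (fun q hq j => not_congr ⟨fun h => q.injective (h.trans (hi q hq).symm), fun h => h ▸ hi q hq⟩)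
      (fun j hj => by
        by_contra hj'
        push Not at hj'
        exact hj (hQ.fixed_subsingleton hj' hi))
    rw [Finset.filter_ne' Finset.univ i, Finset.card_erase_of_mem (Finset.mem_univ i),
      Finset.card_univ, Fintype.card_fin] at h
    have := i.2
    omega
  · intro h
    have h2 := hQ.even_card_of_invariant (P := fun _ => True) (fun _ _ _ => Iff.rfl) (fun i _ => h i)
    simp at h2
    omega

end IsTop

end CfsgLib.ClassK.AltSylow
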