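import Cfsg.Agent.Lib.Transfer.ClassTwo
import Cfsg.Agent.Lib.Comp.Local
import Cfsg.Agent.Lib.ClassK.Core
import Mathlib.GroupTheory.GroupAction.Quotient
import Mathlib.Algebra.BigOperators.Group.Finset.Basic

/-!
# Thompson's `P × Q` lemma for a normalizing `p`-group, `p` odd
-/

namespace CfsgLib.ClassK

open Subgroup
open scoped commutatorElement

/-- In an abelian `p`-group `L`, if the coprime group `Q` fixes every fixed point of the `p`-group
`A` normalizing `Q`, then `Q` acts trivially. -/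
theorem smul_eq_of_fixed {L Y : Type*} [CommGroup L] [Finite L] [Group Y] [Finite Y]
    [MulDistribMulAction Y L] {p : ℕ} [Fact p.Prime] (hL : IsPGroup p L) {A Q : Subgroup Y}
    (hA : IsPGroup p A) (hAQ : A ≤ normalizer (Q : Set Y)) (hQ : (Nat.card Q).Coprime p)
    (hfix : ∀ x : L, (∀ a ∈ A, a • x = x) → ∀ q ∈ Q, q • x = x) :
    ∀ x : L, ∀ q ∈ Q, q • x = x := by
  classical
  haveI := Fintype.ofFinite Q
  let N : L →* L :=
    { toFun := fun x => ∏ q : Q, (q : Y) • x
      map_one' := by simp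
      map_mul' := fun x y => by simp [smul_mul', Finset.prod_mul_distrib] }
  have hN : ∀ x, N x = ∏ q : Q, (q : Y) • x := fun _ => rfl
  have hNq : ∀ (r : Y), r ∈ Q → ∀ x, N (r • x) = N x := fun r hr x => by
    rw [hN, hN]
    refine Fintype.prod_equiv (Equiv.mulRight (⟨r, hr⟩ : Q)) _ _ fun q => ?_
    simp [mul_smul]
  have hNA : ∀ a ∈ A, ∀ x, N (a • x) = a • N x := fun a ha x => by
    rw [hN, hN, Finset.smul_prod']
    let e : Q ≃ Q :=
      { toFun := fun q => ⟨a⁻¹ * q * a, (mem_normalizer_iff''.1 (hAQ ha) q).1 q.2⟩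
        invFun := fun q => ⟨a * q * a⁻¹, (mem_normalizer_iff.1 (hAQ ha) q).1 q.2⟩
        left_inv := fun q => Subtype.ext (show a * (a⁻¹ * (q : Y) * a) * a⁻¹ = q by group)
        right_inv := fun q => Subtype.ext (show a⁻¹ * (a * (q : Y) * a⁻¹) * a = q by group) }
    refine Fintype.prod_equiv e _ _ fun q => ?_
    show (q : Y) • a • x = a • (a⁻¹ * (q : Y) * a) • x
    rw [← mul_smul, ← mul_smul]
    congr 1
    group
  intro x q hq
  by_contra hne
  have hdiv : (q • x) * x⁻¹ ∈ N.ker := by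
    rw [MonoidHom.mem_ker, map_mul, map_inv, hNq q hq, mul_inv_cancel]
  haveI : Nontrivial N.ker := ⟨⟨⟨_, hdiv⟩, 1, fun h => hne (mul_inv_eq_one.1
    (congrArg Subtype.val h))⟩⟩
  letI : MulAction A N.ker :=
    { smul := fun a y => ⟨(a : Y) • (y : L), by
        rw [MonoidHom.mem_ker, hNA a a.2, MonoidHom.mem_ker.1 y.2, smul_one]⟩
      one_smul := fun y => Subtype.ext (one_smul Y (y : L))
      mul_smul := fun a b y => Subtype.ext (mul_smul (a : Y) (b : Y) (y : L)) }
  have hker : p ∣ Nat.card N.ker := by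
    obtain ⟨n, hn, hc⟩ := (hL.to_subgroup N.ker).nontrivial_iff_card.1 inferInstance
    exact hc ▸ dvd_pow_self p hn.ne'
  have h1 : (1 : N.ker) ∈ MulAction.fixedPoints A N.ker :=
    fun a => Subtype.ext (smul_one (a : Y))
  obtain ⟨y, hy, hy1⟩ := hA.exists_fixed_point_of_prime_dvd_card_of_fixed_point N.ker hker h1
  have hyQ : ∀ r : Q, (r : Y) • (y : L) = (y : L) := fun r =>
    hfix y (fun a ha => congrArg Subtype.val (hy ⟨a, ha⟩)) r r.2
  have hpow : (y : L) ^ Nat.card Q = 1 := by
    have h := MonoidHom.mem_ker.1 y.2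
    rw [hN, Finset.prod_congr rfl (fun r _ => hyQ r), Finset.prod_const, Finset.card_univ,
      ← Nat.card_eq_fintype_card] at h
    exact h
  obtain ⟨k, hk⟩ := hL (y : L)
  have : orderOf (y : L) = 1 := Nat.eq_one_of_dvd_coprimes (hQ.pow_right k)
    (orderOf_dvd_of_pow_eq_one hpow) (orderOf_dvd_of_pow_eq_one hk)
  exact hy1.symm (Subtype.ext (orderOf_eq_one_iff.1 this))

/-- Type copy carrying the Baer addition. -/
def Baer (P : Type*) := P

/-- The element of the type copy as an element of the group. -/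
def Baer.val {P : Type*} (x : Baer P) : P := x

variable {P : Type*} [Group P]

/-- Baer's abelian group structure on a group of class two and exponent `p = 2h - 1`. -/
@[instance_reducible]
def baerCommGroup (hc : ∀ x y : P, ⁅x, y⁆ ∈ center P) (h : ℕ)
    (hh : ∀ x y : P, ⁅x, y⁆ ^ (2 * h) = ⁅x, y⁆) : CommGroup (Baer P) where
  mul x y := (x.val * y.val * ⁅y.val, x.val⁆ ^ h : P)
  one := (1 : P)
  inv x := (x.val⁻¹ : P)
  mul_assoc x y z := by
    change P at x y z
    show x * y * ⁅y, x⁆ ^ h * z * ⁅z, x * y * ⁅y, x⁆ ^ h⁆ ^ h =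
      x * (y * z * ⁅z, y⁆ ^ h) * ⁅y * z * ⁅z, y⁆ ^ h, x⁆ ^ h
    have hcc : ∀ a b w : P, Commute w (⁅a, b⁆ ^ h) := fun a b w =>
      Commute.pow_right (mem_center_iff.1 (hc a b) w) h
    have e1 : ⁅z, x * y * ⁅y, x⁆ ^ h⁆ = ⁅z, x⁆ * ⁅z, y⁆ := by
      rw [CfsgLib.Transfer.commutatorElement_mul_right hc,
        CfsgLib.Transfer.commutatorElement_mul_right hc,
        commutatorElement_eq_one_iff_mul_comm.2 (hcc y x z).eq, mul_one]
    have e2 : ⁅y * z * ⁅z, y⁆ ^ h, x⁆ = ⁅y, x⁆ * ⁅z, x⁆ := by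
      rw [CfsgLib.Transfer.commutatorElement_mul_left hc,
        CfsgLib.Transfer.commutatorElement_mul_left hc,
        commutatorElement_eq_one_iff_mul_comm.2 (hcc z y x).eq.symm, mul_one]
    have hm : ∀ a b c d : P, (⁅a, b⁆ * ⁅c, d⁆) ^ h = ⁅a, b⁆ ^ h * ⁅c, d⁆ ^ h := fun a b c d =>
      (show Commute ⁅a, b⁆ ⁅c, d⁆ from mem_center_iff.1 (hc c d) _).mul_pow h
    rw [e1, e2, hm, hm]
    calc x * y * ⁅y, x⁆ ^ h * z * (⁅z, x⁆ ^ h * ⁅z, y⁆ ^ h)
        = x * y * (z * ⁅y, x⁆ ^ h) * (⁅z, y⁆ ^ h * ⁅z, x⁆ ^ h) := by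
          rw [(hcc y x z).eq, (hcc z y (⁅z, x⁆ ^ h)).eq]; group
      _ = x * y * z * (⁅y, x⁆ ^ h * ⁅z, y⁆ ^ h) * ⁅z, x⁆ ^ h := by group
      _ = x * y * z * (⁅z, y⁆ ^ h * ⁅y, x⁆ ^ h) * ⁅z, x⁆ ^ h := by rw [(hcc z y _).eq]
      _ = _ := by group
  one_mul x := by
    change P at x
    show (1 : P) * x * ⁅x, (1 : P)⁆ ^ h = x
    rw [commutatorElement_one_right, one_pow, one_mul, mul_one]
  mul_one x := by
    change P at x
    show x * (1 : P) * ⁅(1 : P), x⁆ ^ h = x
    rw [commutatorElement_one_left, one_pow, mul_one, mul_one]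
  inv_mul_cancel x := by
    change P at x
    show x⁻¹ * x * ⁅x, x⁻¹⁆ ^ h = (1 : P)
    rw [commutatorElement_eq_one_iff_mul_comm.2 (by simp), one_pow, inv_mul_cancel, one_mul]
  mul_comm x y := by
    change P at x y
    show x * y * ⁅y, x⁆ ^ h = y * x * ⁅x, y⁆ ^ h
    have hk : ∀ w, Commute w ⁅y, x⁆ := fun w => mem_center_iff.1 (hc y x) w
    rw [CfsgLib.Transfer.mul_comm_eq_commutatorElement x y, ← commutatorElement_inv y x,
      (hk (x * y)).eq.symm, mul_assoc (x * y) ⁅y, x⁆]
    congr 1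
    rw [inv_pow, eq_mul_inv_iff_mul_eq, ← pow_add, ← two_mul]
    exact hh y x

variable {X : Type*} [Group X] [Finite X]

/-- If `A` is a `p`-group, `p` odd, normalizing the `p'`-group `Q`, both normalize the `p`-group `R`
and `Q` centralizes `C_R(A)`, then `Q` centralizes `R`. -/
theorem le_centralizer_of_centralizes_fixed_odd {p : ℕ} [Fact p.Prime] (hp2 : p ≠ 2)
    {R A Q : Subgroup X} (hR : IsPGroup p R) (hA : IsPGroup p A) (hQ : (Nat.card Q).Coprime p)
    (hAR : A ≤ normalizer (R : Set X)) (hQR : Q ≤ normalizer (R : Set X))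
    (hAQ : A ≤ normalizer (Q : Set X))
    (hfix : Q ≤ centralizer ((R ⊓ centralizer (A : Set X) : Subgroup X) : Set X)) :
    Q ≤ centralizer (R : Set X) := by
  induction R using WellFoundedLT.induction with
  | ind R ih =>
    by_cases hR1 : R = ⊥
    · rw [hR1]; exact le_centralizer_iff.1 bot_le
    have hsub : ∀ D : Subgroup X, D < R → A ≤ normalizer (D : Set X) →
        Q ≤ normalizer (D : Set X) → Q ≤ centralizer (D : Set X) := fun D hD h1 h2 =>
      ih D hD (hR.to_le hD.le) h1 h2 (hfix.trans (centralizer_le (inf_le_inf_right _ hD.le)))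
    haveI : Group.IsNilpotent R := hR.isNilpotent
    rcases eq_or_lt_of_le (CfsgLib.Comp.commutator_le_of_le_normalizer hQR : ⁅R, Q⁆ ≤ R) with
      hRQ | hlt
    swap
    · have hAn : A ≤ normalizer ((⁅R, Q⁆ : Subgroup X) : Set X) := fun a ha => by
        rw [← CfsgLib.Comp.map_conj_eq_iff, Subgroup.map_commutator,
          CfsgLib.Comp.map_conj_eq_iff.2 (hAR ha), CfsgLib.Comp.map_conj_eq_iff.2 (hAQ ha)]
      have h1 := hsub _ hlt hAn (normalizer_commutator_ge_right R Q)
      rw [le_centralizer_iff, ← commutator_eq_bot_iff_le_centralizer] at h1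
      have h2 := CfsgLib.Coprime.commutator_eq_bot_of_commutator_commutator hQR
        (CfsgLib.Comp.coprime_card_of_isPGroup hR hQ).symm (Or.inr inferInstance) h1
      rw [commutator_comm, commutator_eq_bot_iff_le_centralizer] at h2
      exact h2
    -- `R = ⁅R, Q⁆` has class two and exponent `p`
    haveI : Nontrivial R := (nontrivial_iff_ne_bot R).2 hR1
    set F := (frattini R).map R.subtype with hF
    have hFR : F < R := by
      refine lt_of_le_of_ne (map_subtype_le _) fun h => ?_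
      have h' : frattini R = ⊤ := by
        refine map_injective R.subtype_injective ?_
        rw [← hF, h, ← MonoidHom.range_eq_map, range_subtype]
      obtain ⟨M, hM, -⟩ := (eq_top_or_exists_le_coatom (⊥ : Subgroup R)).resolve_left bot_ne_top
      exact hM.1 (top_le_iff.1 (h' ▸ frattini_le_coatom hM))
    have hFn := normalizer_le_normalizer_map R (frattini R)
    have hQF := hsub F hFR (hAR.trans hFn) (hQR.trans hFn)
    have hFc : F ≤ centralizer (R : Set X) := by
      have hRF : R ≤ normalizer (F : Set X) := le_normalizer.trans hFn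
      have h1 : ⁅⁅Q, F⁆, R⁆ = ⊥ := by
        rw [commutator_eq_bot_iff_le_centralizer.2 hQF, commutator_bot_left]
      have h2 : ⁅⁅F, R⁆, Q⁆ = ⊥ := by
        rw [commutator_eq_bot_iff_le_centralizer]
        exact (CfsgLib.Comp.commutator_le_of_le_normalizer hRF).trans (le_centralizer_iff.1 hQF)
      have h3 := commutator_commutator_eq_bot_of_rotate h1 h2
      rw [hRQ, commutator_eq_bot_iff_le_centralizer] at h3
      exact le_centralizer_iff.1 h3
    have hfr : ∀ f ∈ frattini R, f ∈ center R := fun f hf => mem_center_iff.2 fun v =>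
      Subtype.ext (mem_centralizer_iff.1 (hFc (mem_map_of_mem _ hf)) v v.2)
    have hc : ∀ x y : R, ⁅x, y⁆ ∈ center R := fun x y =>
      hfr _ (CfsgLib.Transfer.commutatorElement_mem_frattini hR x y)
    have hcp : ∀ x y : R, ⁅x, y⁆ ^ p = 1 := fun x y => by
      rw [← CfsgLib.Transfer.commutatorElement_pow_left hc]
      exact commutatorElement_eq_one_iff_mul_comm.2
        (mem_center_iff.1 (hfr _ (CfsgLib.Transfer.pow_mem_frattini hR x)) y).symm
    let ψ : R →* R :=
      { toFun := fun x => x ^ p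
        map_one' := one_pow p
        map_mul' := fun x y =>
          CfsgLib.Transfer.mul_pow_prime_class_two hc Fact.out hp2 x y (hcp y x) }
    have hker : R ≤ ψ.ker.map R.subtype := by
      conv_lhs => rw [← hRQ]
      refine commutator_le.2 fun x hx q hq => ?_
      have hm : ⁅x, q⁆ ∈ R := hRQ.le (commutator_mem_commutator hx hq)
      refine ⟨⟨_, hm⟩, MonoidHom.mem_ker.2 ?_, rfl⟩
      have hy : q * x⁻¹ * q⁻¹ ∈ R := (mem_normalizer_iff.1 (hQR hq) _).1 (inv_mem hx)
      have e : (⟨_, hm⟩ : R) = ⟨x, hx⟩ * ⟨q * x⁻¹ * q⁻¹, hy⟩ := Subtype.ext (by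
        show ⁅x, q⁆ = x * (q * x⁻¹ * q⁻¹)
        rw [commutatorElement_def]; group)
      rw [e, map_mul]
      show (⟨x, hx⟩ : R) ^ p * ⟨q * x⁻¹ * q⁻¹, hy⟩ ^ p = 1
      apply Subtype.ext
      show x ^ p * (q * x⁻¹ * q⁻¹) ^ p = 1
      have hxp : x⁻¹ ^ p ∈ F := by
        refine ⟨(⟨x, hx⟩⁻¹ : R) ^ p, CfsgLib.Transfer.pow_mem_frattini hR _, rfl⟩
      have hcomm : q * x⁻¹ ^ p = x⁻¹ ^ p * q :=
        (mem_centralizer_iff.1 (hQF hq) _ hxp).symm
      rw [conj_pow, hcomm, mul_inv_cancel_right, inv_pow, mul_inv_cancel]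
    have hexp : ∀ x : R, x ^ p = 1 := fun x => by
      obtain ⟨y, hy, hyx⟩ := hker x.2
      rw [show x = y from Subtype.ext hyx.symm]
      exact hy
    obtain ⟨m, hm⟩ := ((Fact.out : p.Prime).odd_of_ne_two hp2)
    have hh : ∀ x y : R, ⁅x, y⁆ ^ (2 * (m + 1)) = ⁅x, y⁆ := fun x y => by
      rw [show 2 * (m + 1) = p + 1 by omega, pow_succ, hcp, one_mul]
    letI : CommGroup (Baer R) := baerCommGroup hc (m + 1) hh
    haveI : Finite (Baer R) := inferInstanceAs (Finite R)
    have hmul : ∀ x y : Baer R, x * y = ((Baer.val (P := R) (x)) * (Baer.val (P := R) (y)) *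
        ⁅(Baer.val (P := R) (y)), (Baer.val (P := R) (x))⁆ ^ (m + 1) : R) := fun _ _ => rfl
    set Y := normalizer (R : Set X) with hY
    let c : Y → R →* R := fun g => (normalizerMonoidHom R g).toMonoidHom
    letI : SMul Y (Baer R) := ⟨fun g x => c g x⟩
    letI : MulDistribMulAction Y (Baer R) :=
      { one_smul := fun x => by
          show (normalizerMonoidHom R 1) (Baer.val (P := R) (x)) = x
          rw [map_one]; rfl
        mul_smul := fun g g' x => by
          show (normalizerMonoidHom R (g * g')) (Baer.val (P := R) (x)) = _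
          rw [map_mul]; rfl
        smul_one := fun g => (map_one (c g) :)
        smul_mul := fun g x y => by
          show c g _ = c g (Baer.val (P := R) (x)) * c g (Baer.val (P := R) (y)) * _
          rw [hmul, map_mul, map_mul, map_pow, map_commutatorElement]
          rfl }
    have hpg : IsPGroup p (Baer R) := by
      obtain ⟨n, hn⟩ := hR.exists_card_eq
      exact IsPGroup.of_card (n := n) hn
    have hact : ∀ (g : Y) (x : Baer R), ((Baer.val (P := R) (g • x)) : X) =
        (g : X) * ((Baer.val (P := R) (x)) : X) * (g : X)⁻¹ := fun _ _ => rfl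
    have hQc : (Nat.card (Q.subgroupOf Y)).Coprime p := by
      rw [Nat.card_congr (subgroupOfEquivOfLe hQR).toEquiv]; exact hQ
    have key := smul_eq_of_fixed hpg (A := A.subgroupOf Y) (Q := Q.subgroupOf Y)
      hA.comap_subtype (fun a ha => mem_normalizer_iff.2 fun q =>
        mem_normalizer_iff.1 (hAQ (mem_subgroupOf.1 ha)) (q : X)) hQc ?_
    · intro q hq
      refine mem_centralizer_iff.2 fun r hr => ?_
      have h := congrArg (fun w : Baer R => ((Baer.val (P := R) (w)) : X))
        (key (show Baer R from (⟨r, hr⟩ : R)) ⟨q, hQR hq⟩ (mem_subgroupOf.2 hq))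
      simp only [hact] at h
      exact (mul_inv_eq_iff_eq_mul.1 h).symm
    · intro x hx q hq
      have hxA : ((Baer.val (P := R) (x)) : X) ∈ R ⊓ centralizer (A : Set X) := by
        refine mem_inf.2 ⟨(Baer.val (P := R) (x)).2, mem_centralizer_iff.2 fun a ha => ?_⟩
        have h := congrArg (fun w : Baer R => ((Baer.val (P := R) (w)) : X))
          (hx ⟨a, hAR ha⟩ (mem_subgroupOf.2 ha))
        simp only [hact] at h
        exact mul_inv_eq_iff_eq_mul.1 h
      refine Subtype.ext ((hact q x).trans ?_)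
      have h := mem_centralizer_iff.1 (hfix (mem_subgroupOf.1 hq)) _ hxA
      rw [← h, mul_inv_cancel_right]
      rfl

end CfsgLib.ClassK
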