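import Cfsg.Agent.Lib.Fusion.PSLUnitri
import Cfsg.Agent.Lib.KnownB.GLDouble

/-!
Overgroups of a maximal unipotent subgroup are normalised by the Borel subgroup.
-/

set_option autoImplicit false
set_option linter.unusedSectionVars false

namespace CfsgLib.ClassK.BorelOver

open Subgroup

variable {G : Type*} [Group G] [Finite G] {p : ℕ} [Fact p.Prime]

/-- Overgroups of `U` are invariant under `B`, for a Bruhat configuration. -/
theorem mem_normalizer_of_bruhat {U B H : Subgroup G} (T W : Set G) (hUB : U ≤ B)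
    (hBU : ∀ b ∈ B, ∀ c ∈ B, b * c * b⁻¹ * c⁻¹ ∈ U)
    (hBT : ∀ b ∈ B, ∃ u ∈ U, ∃ t ∈ T, b = u * t)
    (hTW : ∀ t ∈ T, ∀ n ∈ W, n⁻¹ * t * n ∈ B)
    (hUH : U ≤ H) (hU : IsPGroup p U)
    (hmax : ∀ Q : Subgroup G, Q ≤ H → IsPGroup p Q → U ≤ Q → Q = U)
    (hN : ∀ h ∈ H, (∀ u ∈ U, h * u * h⁻¹ ∈ U) → h ∈ B)
    (hBr : ∀ h ∈ H, ∃ b₁ ∈ B, ∃ n ∈ W, ∃ b₂ ∈ B, h = b₁ * n * b₂) {b : G} (hb : b ∈ B) :
    b ∈ normalizer (H : Set G) := by
  have hnorm : ∀ c ∈ B, ∀ u ∈ U, c * u * c⁻¹ ∈ U := fun c hc u hu => by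
    simpa using mul_mem (hBU c hc u (hUB hu)) hu
  set X : Set G := {x | ∃ h ∈ H, ∃ u ∈ U, x = h * u * h⁻¹} with hX
  set K := closure X with hK
  have hXK : X ⊆ K := subset_closure
  have hKH : K ≤ H := (closure_le _).2 <| by
    rintro _ ⟨h, hh, u, hu, rfl⟩
    exact mul_mem (mul_mem hh (hUH hu)) (inv_mem hh)
  have hUK : U ≤ K := fun u hu => hXK ⟨1, one_mem _, u, hu, by simp⟩
  have hconj : ∀ h ∈ H, ∀ x ∈ K, h * x * h⁻¹ ∈ K := fun h hh => by
    have : K ≤ K.comap (MulAut.conj h).toMonoidHom := (closure_le _).2 <| by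
      rintro _ ⟨k, hk, u, hu, rfl⟩
      exact hXK ⟨h * k, mul_mem hh hk, u, hu, by simp [mul_assoc]⟩
    exact fun x hx => this hx
  -- `K` is invariant under `B`
  have hBK : ∀ c ∈ B, ∀ x ∈ K, c * x * c⁻¹ ∈ K := by
    intro c hc
    have : K ≤ K.comap (MulAut.conj c).toMonoidHom := (closure_le _).2 <| by
      rintro _ ⟨h, hh, u, hu, rfl⟩
      obtain ⟨b₁, hb₁, n, hn, b₂, hb₂, rfl⟩ := hBr h hh
      obtain ⟨v₁, hv₁, t₁, ht₁, e₁⟩ := hBT b₁ hb₁
      obtain ⟨v, hv, t, ht, e⟩ := hBT (c * b₁) (mul_mem hc hb₁)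
      have hn' : ∀ x ∈ U, n * x * n⁻¹ ∈ K := by
        intro x hx
        set s₁ := n⁻¹ * t₁ * n with hs₁
        have hs : s₁ ∈ B := hTW t₁ ht₁ n hn
        have hu' : b₂⁻¹ * (s₁⁻¹ * x * s₁) * b₂ ∈ U := by
          have h1 := hnorm _ (inv_mem hb₂) _ (hnorm _ (inv_mem hs) x hx)
          simpa using h1
        have h1 := hconj v₁⁻¹ (inv_mem (hUH hv₁)) _ (hXK ⟨_, hh, _, hu', rfl⟩)
        convert h1 using 1
        rw [e₁, hs₁]
        group
      show c * (b₁ * n * b₂ * u * (b₁ * n * b₂)⁻¹) * c⁻¹ ∈ K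
      have h2 := hconj v (hUH hv) _
        (hn' _ (hnorm _ (hTW t ht n hn) _ (hnorm _ hb₂ u hu)))
      convert h2 using 1
      rw [show c = v * t * b₁⁻¹ by rw [← e]; group]
      group
    exact fun x hx => this hx
  -- Frattini
  have hpmax : ∀ h ∈ H, ∀ Q : Subgroup K, IsPGroup p Q →
      (U.map (MulAut.conj h).toMonoidHom).subgroupOf K ≤ Q →
      Q = (U.map (MulAut.conj h).toMonoidHom).subgroupOf K := by
    intro h hh Q hQ hle
    have hUh : U.map (MulAut.conj h).toMonoidHom ≤ K := by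
      rintro _ ⟨u, hu, rfl⟩
      exact hXK ⟨h, hh, u, hu, rfl⟩
    have h1 : U ≤ (Q.map K.subtype).map (MulAut.conj h⁻¹).toMonoidHom := by
      intro u hu
      refine ⟨h * u * h⁻¹, ?_, ?_⟩
      · exact ⟨⟨h * u * h⁻¹, hUh ⟨u, hu, rfl⟩⟩, hle ⟨u, hu, rfl⟩, rfl⟩
      · simp [mul_assoc]
    have h2 : (Q.map K.subtype).map (MulAut.conj h⁻¹).toMonoidHom ≤ H := by
      rintro _ ⟨_, ⟨x, -, rfl⟩, rfl⟩
      exact mul_mem (mul_mem (inv_mem hh) (hKH x.2)) (inv_mem (inv_mem hh))
    have h3 := hmax _ h2 ((hQ.map _).map _) h1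
    refine le_antisymm (fun x hx => ?_) hle
    have h4 : h⁻¹ * (x : G) * h ∈ U := by
      rw [← h3]
      exact ⟨x, ⟨x, hx, rfl⟩, by simp⟩
    exact ⟨_, h4, by simp [mul_assoc]⟩
  let syl : ∀ h ∈ H, Sylow p K := fun h hh =>
    ⟨(U.map (MulAut.conj h).toMonoidHom).subgroupOf K,
      (hU.map _).comap_of_injective K.subtype K.subtype_injective, fun hQ hle => hpmax h hh _ hQ hle⟩
  have key : ∀ h ∈ H, b * h * b⁻¹ ∈ H := by
    intro h hh
    obtain ⟨k, hk⟩ := MulAction.exists_smul_eq K (syl h hh) (syl 1 (one_mem _))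
    have hkh : (k : G) * h ∈ B := by
      refine hN _ (mul_mem (hKH k.2) hh) fun u hu => ?_
      have hmem : (⟨h * u * h⁻¹, hXK ⟨h, hh, u, hu, rfl⟩⟩ : K) ∈ (syl h hh : Subgroup K) :=
        ⟨u, hu, rfl⟩
      have h1 : k * ⟨h * u * h⁻¹, hXK ⟨h, hh, u, hu, rfl⟩⟩ * k⁻¹ ∈
          (syl 1 (one_mem _) : Subgroup K) := by
        rw [← hk]
        exact Subgroup.mem_smul_pointwise_iff_exists _ _ _ |>.2 ⟨_, hmem, rfl⟩
      obtain ⟨y, hy, ey⟩ := h1
      have ey' : y = (k : G) * (h * u * h⁻¹) * (k : G)⁻¹ := by simpa using ey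
      rw [ey'] at hy
      simpa [mul_assoc] using hy
    have h1 : b * (k : G)⁻¹ * b⁻¹ ∈ H := hKH (hBK b hb _ (inv_mem k.2))
    have h2 := hUH (hBU b hb _ hkh)
    have h3 : b * ((k : G) * h) * b⁻¹ ∈ H := by
      have := mul_mem h2 (mul_mem (hKH k.2) hh)
      rwa [show b * ((k : G) * h) * b⁻¹ * ((k : G) * h)⁻¹ * ((k : G) * h) =
        b * ((k : G) * h) * b⁻¹ from inv_mul_cancel_right _ _] at this
    simpa [mul_assoc] using mul_mem h1 h3
  rw [mem_normalizer_iff_map_conj_eq]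
  refine Subgroup.eq_of_le_of_card_ge ?_
    (Subgroup.card_map_of_injective (MulAut.conj b).injective).ge
  rintro _ ⟨x, hx, rfl⟩
  exact key x hx

section SL

open Matrix CfsgLib.Fusion.SLUni
open scoped MatrixGroups

variable {F : Type*} [Field F] [Fintype F] {n : ℕ}

local notation "SL'" => Matrix.SpecialLinearGroup (Fin n) F

theorem exists_uni_mul_diagonal {b : GL (Fin n) F} (hb : b ∈ Cfsg.upperTriangularGL n F) :
    ∃ u ∈ (U F n).map SpecialLinearGroup.toGL, ∃ t : GL (Fin n) F,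
      (t : Matrix (Fin n) (Fin n) F).IsDiag ∧ b = u * t := by
  have hup : (b : Matrix (Fin n) (Fin n) F).BlockTriangular id := hb
  have hd : ∀ i, (b : Matrix (Fin n) (Fin n) F) i i ≠ 0 := fun i h0 => by
    have h1 := (GeneralLinearGroup.det b).ne_zero
    rw [GeneralLinearGroup.val_det_apply, det_of_isUpperTriangular hup] at h1
    exact h1 (Finset.prod_eq_zero (Finset.mem_univ i) h0)
  let d : Fin n → F := fun i => (b : Matrix (Fin n) (Fin n) F) i i
  let t : GL (Fin n) F := GeneralLinearGroup.mkOfDetNeZero (diagonal d) (by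
    rw [det_diagonal]; exact Finset.prod_ne_zero_iff.2 fun i _ => hd i)
  let M : Matrix (Fin n) (Fin n) F := (b : Matrix (Fin n) (Fin n) F) * diagonal fun i => (d i)⁻¹
  have hM : IsUni M := fun a c hca => by
    simp only [M, Matrix.mul_diagonal]
    rcases eq_or_ne a c with rfl | hne
    · rw [if_pos rfl]; exact mul_inv_cancel₀ (hd a)
    · rw [if_neg hne, hup (lt_of_le_of_ne hca hne.symm), zero_mul]
  let u : SL' := ⟨M, by
    rw [det_of_isUpperTriangular (fun a c (h : c < a) => hM.lower a c h)]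
    exact Finset.prod_eq_one fun i _ => hM.diag i⟩
  refine ⟨SpecialLinearGroup.toGL u, mem_map_of_mem _ hM, t, isDiag_diagonal d, ?_⟩
  refine Units.ext ?_
  show (b : Matrix (Fin n) (Fin n) F) = M * diagonal d
  rw [Matrix.mul_assoc, diagonal_mul_diagonal]
  conv_lhs => rw [← mul_one (b : Matrix (Fin n) (Fin n) F)]
  congr 1
  rw [← diagonal_one]
  congr 1
  funext i
  exact (inv_mul_cancel₀ (hd i)).symm

theorem commutator_mem_uni {b c : GL (Fin n) F} (hb : b ∈ Cfsg.upperTriangularGL n F)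
    (hc : c ∈ Cfsg.upperTriangularGL n F) :
    b * c * b⁻¹ * c⁻¹ ∈ (U F n).map SpecialLinearGroup.toGL := by
  have hx := mul_mem (mul_mem (mul_mem hb hc) (inv_mem hb)) (inv_mem hc)
  set x := b * c * b⁻¹ * c⁻¹ with hxdef
  have low : ∀ {g : GL (Fin n) F}, g ∈ Cfsg.upperTriangularGL n F →
      ∀ a e, e < a → (g : Matrix (Fin n) (Fin n) F) a e = 0 := fun hg a e h => hg h
  have hdiag : ∀ a, (x : Matrix (Fin n) (Fin n) F) a a = 1 := fun a => by
    have e1 : x * (c * b) = b * c := by rw [hxdef]; group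
    have h1 := congrArg (fun g : GL (Fin n) F => (g : Matrix (Fin n) (Fin n) F) a a) e1
    simp only [Units.val_mul] at h1
    rw [mul_apply_diag (low hx) (by simpa using low (mul_mem hc hb)) a a le_rfl, if_pos rfl,
      mul_apply_diag (low hc) (low hb) a a le_rfl, if_pos rfl,
      mul_apply_diag (low hb) (low hc) a a le_rfl, if_pos rfl,
      mul_comm ((c : Matrix (Fin n) (Fin n) F) a a)] at h1
    refine (mul_eq_right₀ (mul_ne_zero ?_ ?_)).1 h1 <;>
    · intro h0
      first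
      | exact (GeneralLinearGroup.det b).ne_zero (by
          rw [GeneralLinearGroup.val_det_apply, det_of_isUpperTriangular hb]
          exact Finset.prod_eq_zero (Finset.mem_univ a) h0)
      | exact (GeneralLinearGroup.det c).ne_zero (by
          rw [GeneralLinearGroup.val_det_apply, det_of_isUpperTriangular hc]
          exact Finset.prod_eq_zero (Finset.mem_univ a) h0)
  have hu : IsUni (x : Matrix (Fin n) (Fin n) F) := fun a e hea => by
    rcases eq_or_ne a e with rfl | hne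
    · rw [if_pos rfl, hdiag]
    · rw [if_neg hne, low hx a e (lt_of_le_of_ne hea hne.symm)]
  refine ⟨⟨(x : Matrix (Fin n) (Fin n) F), ?_⟩, hu, Units.ext rfl⟩
  rw [det_of_isUpperTriangular (fun a e (h : e < a) => hu.lower a e h)]
  exact Finset.prod_eq_one fun i _ => hu.diag i

theorem diagonal_conj_perm {t m : GL (Fin n) F} (ht : (t : Matrix (Fin n) (Fin n) F).IsDiag)
    (hm : m ∈ Set.range (KnownB.Flag.permGL (F := F) (n := n))) :
    m⁻¹ * t * m ∈ Cfsg.upperTriangularGL n F := by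
  obtain ⟨σ, rfl⟩ := hm
  intro a e (h : e < a)
  have h0 : σ a ≠ σ e := fun h1 => h.ne' (σ.injective h1)
  rw [← map_inv, Units.val_mul, Units.val_mul, Matrix.mul_apply,
    Finset.sum_eq_single (σ e) (fun k _ hk => by rw [KnownB.Flag.permGL_apply, if_neg hk, mul_zero])
      (fun h => absurd (Finset.mem_univ _) h),
    Matrix.mul_apply, Finset.sum_eq_single (σ a) (fun k _ hk => by
      rw [KnownB.Flag.permGL_apply, if_neg (fun he => hk (by rw [he]; simp)), zero_mul])
      (fun h => absurd (Finset.mem_univ _) h), ht h0]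
  simp

/-- Overgroups of the unitriangular group in `SL_n` in the characteristic are normalised by its
normalizer. -/
theorem normalizer_uni_le (p : ℕ) [Fact p.Prime] [CharP F p] (hn : 0 < n) {H : Subgroup SL'} (hH : U F n ≤ H) :
    normalizer (U F n : Set SL') ≤ normalizer (H : Set SL') := by
  intro g hg
  set f : SL' →* GL (Fin n) F := SpecialLinearGroup.toGL
  have hf : Function.Injective f := SpecialLinearGroup.toGL_injective
  let P : Sylow p SL' := (isPGroup_U (p := p) hn).toSylow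
    (CfsgLib.Fusion.not_dvd_index_of_pElements (isPGroup_U hn) fun g hg k hk => pElement_mem hg k hk)
  have hgB : f g ∈ Cfsg.upperTriangularGL n F := fun a e h => normalizer_upper hg a e h
  have hmain := mem_normalizer_of_bruhat (p := p) (U := (U F n).map f)
    (B := Cfsg.upperTriangularGL n F) (H := H.map f)
    {t | (t : Matrix (Fin n) (Fin n) F).IsDiag} (Set.range (KnownB.Flag.permGL (F := F) (n := n)))
    (by rintro _ ⟨u, hu, rfl⟩; exact fun a e h => IsUni.lower hu a e h)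
    (fun b hb c hc => commutator_mem_uni hb hc) (fun b hb => exists_uni_mul_diagonal hb)
    (fun t ht m hm => diagonal_conj_perm ht hm) (map_mono hH) ((isPGroup_U hn).map f)
    (fun Q hQH hQ hle => by
      have h1 : Q.comap f = U F n := P.3 (hQ.comap_of_injective f hf)
        (fun u hu => hle (mem_map_of_mem f hu))
      rw [← h1, map_comap_eq_self]
      exact hQH.trans (map_le_range f H))
    (by
      rintro _ ⟨h, hh, rfl⟩ hu a e hea
      refine normalizer_upper (K := F) ?_ a e hea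
      rw [mem_normalizer_iff_map_conj_eq]
      refine Subgroup.eq_of_le_of_card_ge ?_
        (Subgroup.card_map_of_injective (MulAut.conj h).injective).ge
      rintro _ ⟨u, hu', rfl⟩
      have h1 := hu (f u) (mem_map_of_mem f hu')
      rw [← map_inv, ← map_mul, ← map_mul, mem_map_iff_mem hf] at h1
      exact h1)
    (fun h _ => by
      obtain ⟨b₁, hb₁, σ, b₂, hb₂, e⟩ := KnownB.Flag.exists_bruhat h
      exact ⟨b₁, hb₁, _, ⟨σ, rfl⟩, b₂, hb₂, e⟩) hgB
  rw [mem_normalizer_iff_map_conj_eq] at hmain ⊢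
  refine Subgroup.map_injective hf ?_
  rw [← hmain, Subgroup.map_map, Subgroup.map_map]
  congr 1
  ext x
  simp

end SL

end CfsgLib.ClassK.BorelOver
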