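import Cfsg.Agent.Lib.PLocal.TransferReduce
import Cfsg.Agent.Lib.ClassK.CharTransferBlock
import Cfsg.Agent.Lib.CGT.DegreeMain
import Cfsg.Agent.S2979

/-!
For odd `p` the normalizers of the nontrivial characteristic subgroups of a Sylow subgroup control
transfer.
-/

set_option autoImplicit false
set_option linter.unusedSectionVars false
set_option linter.style.haveILetI false

namespace CfsgLib.ClassK.CharTr

open Cfsg Subgroup CfsgLib.PLocal
open scoped commutatorElement

universe u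

section Products

variable {G : Type*} [Group G] [Finite G] {p : ℕ} [Fact p.Prime]

theorem not_dvd_relIndex_sup {A B A₀ B₀ : Subgroup G} (hAB : A ≤ centralizer (B : Set G))
    (hA : A₀ ≤ A) (hB : B₀ ≤ B) (h1 : ¬ p ∣ A₀.relIndex A) (h2 : ¬ p ∣ B₀.relIndex B) :
    ¬ p ∣ (A₀ ⊔ B₀).relIndex (A ⊔ B) := by
  intro hd
  have hc : ∀ (a : A) (b : B), Commute (A.subtype a) (B.subtype b) := fun a b => (hAB a.2 b b.2).symm
  let f : A × B →* G := A.subtype.noncommCoprod B.subtype hc
  let H : Subgroup (A × B) := (A₀.subgroupOf A).prod (B₀.subgroupOf B)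
  have hH : H.map f ≤ A₀ ⊔ B₀ := by
    rintro _ ⟨⟨a, b⟩, ⟨ha, hb⟩, rfl⟩
    exact mul_mem (mem_sup_left ha) (mem_sup_right hb)
  have hr : (⊤ : Subgroup (A × B)).map f = A ⊔ B := by
    rw [← MonoidHom.range_eq_map]; exact (MonoidHom.noncommCoprod_range _ _ hc).trans (by rw [range_subtype, range_subtype])
  have h3 : (A₀ ⊔ B₀).relIndex (A ⊔ B) ∣ H.index := by
    refine (relIndex_dvd_of_le_left (A ⊔ B) hH).trans ?_
    rw [← hr, relIndex_map_map, top_sup_eq, relIndex_top_right]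
    exact index_dvd_of_le le_sup_left
  rw [index_prod] at h3
  rcases (Fact.out : p.Prime).dvd_mul.1 (hd.trans h3) with h | h
  · exact h1 h
  · exact h2 h

/-- A `p`-subgroup of a product of commuting subnormal subgroups is the product of the intersections. -/
theorem inf_sSup_le_of_commuting (T : Sylow p G) {𝓑 : Set (Subgroup G)}
    (hs : ∀ E ∈ 𝓑, E.IsSubnormal) (hc : ∀ E ∈ 𝓑, ∀ E' ∈ 𝓑, E ≠ E' → E ≤ centralizer (E' : Set G))
    {D : Subgroup G} (hD : ∀ E ∈ 𝓑, (T : Subgroup G) ⊓ E ≤ D) :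
    (T : Subgroup G) ⊓ sSup 𝓑 ≤ D := by
  classical
  have key : ∀ s : Finset (Subgroup G), (∀ E ∈ s, E ∈ 𝓑) →
      ¬ p ∣ (s.sup fun E => (T : Subgroup G) ⊓ E).relIndex (s.sup id) := by
    intro s
    induction s using Finset.induction with
    | empty => simp [(Fact.out : p.Prime).ne_one]
    | insert E s hEs ih =>
      intro hmem
      rw [Finset.sup_insert, Finset.sup_insert, id_eq]
      refine not_dvd_relIndex_sup ?_ inf_le_right (Finset.sup_mono_fun fun _ _ => inf_le_right) ?_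
        (ih fun E' hE' => hmem E' (Finset.mem_insert_of_mem hE'))
      · rw [le_centralizer_iff]
        refine Finset.sup_le fun E' hE' => ?_
        exact hc E' (hmem E' (Finset.mem_insert_of_mem hE')) E (hmem E (Finset.mem_insert_self E s))
          (fun e => hEs (e ▸ hE'))
      · rw [inf_relIndex_right]
        exact CfsgLib.Amalgam.not_dvd_relIndex_subnormal T (hs E (hmem E (Finset.mem_insert_self E s)))
  have hfin : 𝓑.Finite := Set.toFinite 𝓑
  have h := key hfin.toFinset fun E hE => hfin.mem_toFinset.1 hE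
  rw [Finset.sup_id_eq_sSup, hfin.coe_toFinset] at h
  obtain ⟨P₀, hP₀⟩ : ∃ P₀, P₀ = hfin.toFinset.sup fun E => (T : Subgroup G) ⊓ E := ⟨_, rfl⟩
  rw [← hP₀] at h
  have h1 : P₀ ≤ (T : Subgroup G) ⊓ sSup 𝓑 := hP₀ ▸ Finset.sup_le fun E hE =>
    inf_le_inf_left _ (le_sSup (hfin.mem_toFinset.1 hE))
  have h2 : P₀ ≤ D := hP₀ ▸ Finset.sup_le fun E hE => hD E (hfin.mem_toFinset.1 hE)
  obtain ⟨k, hk⟩ := (T.2.to_le (inf_le_left (b := sSup 𝓑))).index (P₀.subgroupOf _)
  have h3 : P₀.relIndex ((T : Subgroup G) ⊓ sSup 𝓑) ∣ P₀.relIndex (sSup 𝓑) :=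
    Dvd.intro _ (relIndex_mul_relIndex _ _ _ h1 inf_le_right)
  have h4 : P₀.relIndex ((T : Subgroup G) ⊓ sSup 𝓑) = p ^ k := hk
  have hk0 : k = 0 := by
    by_contra hk0
    exact h (((dvd_pow_self p hk0).trans (dvd_of_eq h4.symm)).trans h3)
  rw [hk0, pow_zero] at h4
  exact (relIndex_eq_one.1 h4).trans h2

/-- If `G = A N` with `T ≤ A`, then `T ∩ G' = (T ∩ A')(T ∩ N)`. -/
theorem inf_commutator_le_sup (T : Sylow p G) {A N : Subgroup G} [N.Normal]
    (hTA : (T : Subgroup G) ≤ A) (htop : A ⊔ N = ⊤) :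
    (T : Subgroup G) ⊓ commutator G ≤ (T : Subgroup G) ⊓ ⁅A, A⁆ ⊔ (T : Subgroup G) ⊓ N := by
  obtain ⟨π, hπ⟩ : ∃ π, π = QuotientGroup.mk' N := ⟨_, rfl⟩
  have hk : π.ker = N := by rw [hπ, QuotientGroup.ker_mk']
  have hA : A.map π = (⊤ : Subgroup G).map π := by
    rw [map_eq_map_iff, hk, htop, top_sup_eq]
  have hG' : (commutator G).map π = (⁅A, A⁆).map π := by
    rw [commutator_def, Subgroup.map_commutator, Subgroup.map_commutator, hA]
  have hA'A : ⁅A, A⁆ ≤ A := commutator_le.2 fun a ha b hb => by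
    rw [commutatorElement_def]
    exact mul_mem (mul_mem (mul_mem ha hb) (inv_mem ha)) (inv_mem hb)
  have hsyl : ¬ p ∣ (T : Subgroup G).relIndex ⁅A, A⁆ := by
    haveI : ((⁅A, A⁆).subgroupOf A).Normal := by
      rw [normal_subgroupOf_iff_le_normalizer hA'A]
      intro a ha
      refine mem_normalizer_fintype fun x hx => ?_
      have h1 := mul_mem (commutator_mem_commutator ha (hA'A hx)) hx
      simpa [commutatorElement_def, mul_assoc] using h1
    have h1 := CfsgLib.Amalgam.not_dvd_relIndex_subnormal (T.subtype hTA)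
      (Normal.isSubnormal (H := (⁅A, A⁆).subgroupOf A) inferInstance)
    rwa [Sylow.coe_subtype, relIndex_subgroupOf hA'A] at h1
  intro x hx
  obtain ⟨hxT, hxG⟩ := mem_inf.1 hx
  obtain ⟨P₁, hP₁⟩ : ∃ P₁, P₁ = ((T : Subgroup G) ⊓ ⁅A, A⁆).map π := ⟨_, rfl⟩
  obtain ⟨P₂, hP₂⟩ : ∃ P₂, P₂ = (T : Subgroup G).map π ⊓ (⁅A, A⁆).map π := ⟨_, rfl⟩
  have h12 : P₁ ≤ P₂ := hP₁ ▸ hP₂ ▸ map_inf_le _ _ π
  have hP₂p : IsPGroup p P₂ := hP₂ ▸ (T.2.map π).to_le inf_le_left
  obtain ⟨k, hk'⟩ := hP₂p.index (P₁.subgroupOf P₂)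
  have h4 : P₁.relIndex P₂ = p ^ k := hk'
  have h5 : P₁.relIndex P₂ ∣ ((T : Subgroup G) ⊓ ⁅A, A⁆).relIndex ⁅A, A⁆ := by
    refine Dvd.dvd.trans (b := (((T : Subgroup G) ⊓ ⁅A, A⁆).map π).relIndex ((⁅A, A⁆).map π)) ?_ ?_
    · rw [← hP₁]
      exact Dvd.intro _ (relIndex_mul_relIndex _ _ _ h12 (hP₂ ▸ inf_le_right))
    · obtain ⟨g, hg⟩ : ∃ g, g = π.comp (⁅A, A⁆).subtype := ⟨_, rfl⟩
      have e1 : ((T : Subgroup G) ⊓ ⁅A, A⁆).map π =
          (((T : Subgroup G) ⊓ ⁅A, A⁆).subgroupOf ⁅A, A⁆).map g := by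
        rw [hg, ← Subgroup.map_map, map_subgroupOf_eq_of_le inf_le_right]
      have e2 : (⁅A, A⁆).map π = (⊤ : Subgroup ↥(⁅A, A⁆)).map g := by
        rw [hg, ← Subgroup.map_map, ← MonoidHom.range_eq_map, range_subtype]
      rw [e1, e2, relIndex_map_map, top_sup_eq, relIndex_top_right]
      exact index_dvd_of_le le_sup_left
  have hk0 : k = 0 := by
    by_contra hk0
    rw [inf_relIndex_right] at h5
    exact hsyl (((dvd_pow_self p hk0).trans (dvd_of_eq h4.symm)).trans h5)
  rw [hk0, pow_zero] at h4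
  have hxP : π x ∈ P₂ := hP₂ ▸ mem_inf.2 ⟨mem_map_of_mem π hxT, hG' ▸ mem_map_of_mem π hxG⟩
  obtain ⟨a, ha, hax⟩ := mem_map.1 (hP₁ ▸ relIndex_eq_one.1 h4 hxP)
  have hn : a⁻¹ * x ∈ N := by
    rw [← hk, MonoidHom.mem_ker, map_mul, map_inv, hax, inv_mul_cancel]
  have h6 := mul_mem (mem_sup_left (S := (T : Subgroup G) ⊓ ⁅A, A⁆) (T := (T : Subgroup G) ⊓ N) ha)
    (mem_sup_right (mem_inf.2 ⟨mul_mem (inv_mem (mem_inf.1 ha).1) hxT, hn⟩))
  rwa [mul_inv_cancel_left] at h6

end Products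

/-- The functor attached to a characteristic subgroup `K` of `T`. -/
noncomputable def charW (T : Type u) [Group T] (K : Subgroup T) (Q : Type u) [Group Q] : Subgroup Q :=
  haveI := Classical.propDecidable (Nonempty (Q ≃* T))
  if h : Nonempty (Q ≃* T) then K.comap h.some.toMonoidHom else ⊤

theorem charW_isFunctor (p : ℕ) {T : Type u} [Group T] {K : Subgroup T} [K.Characteristic]
    (hK : K ≠ ⊥) : IsCharPFunctor.{u} p (fun Q _ => charW T K Q) := by
  refine ⟨fun Q _ _ _ hQn => ?_, fun Q R _ _ _ _ φ => ?_⟩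
  · show charW T K Q ≠ ⊥
    unfold charW
    by_cases h : Nonempty (Q ≃* T)
    · rw [dif_pos h]
      intro e
      refine hK ?_
      rw [← map_comap_eq_self_of_surjective (f := h.some.toMonoidHom) h.some.surjective K]
      rw [show K.comap h.some.toMonoidHom = ⊥ from e, Subgroup.map_bot]
    · rw [dif_neg h]; exact top_ne_bot
  · show Subgroup.map _ (charW T K Q) = charW T K R
    unfold charW
    by_cases h : Nonempty (Q ≃* T)
    · have h' : Nonempty (R ≃* T) := h.map fun e => φ.symm.trans e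
      rw [dif_pos h, dif_pos h']
      ext r
      rw [mem_map_equiv, mem_comap, mem_comap]
      have hfix := characteristic_iff_comap_eq.1 (inferInstance : K.Characteristic)
        ((h'.some.symm.trans φ.symm).trans h.some)
      conv_rhs => rw [← hfix]
      simp
    · have h' : ¬ Nonempty (R ≃* T) := fun hh => h (hh.map fun e => φ.trans e)
      rw [dif_neg h, dif_neg h']
      exact map_top_of_surjective _ φ.surjective

theorem charW_self {T : Type u} [Group T] (K : Subgroup T) [K.Characteristic] : charW T K T = K := by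
  unfold charW
  rw [dif_pos ⟨MulEquiv.refl T⟩]
  exact characteristic_iff_comap_eq.1 inferInstance _

/-- All isomorphism-invariant `p`-functors. -/
abbrev allW (p : ℕ) : Set (∀ (Q : Type u) [Group Q], Subgroup Q) :=
  {W | IsCharPFunctor.{u} p W}

variable {p : ℕ} [Fact p.Prime] {X : Type u} [Group X] [Finite X]

/-- **No minimal failure** for the family of all functors, `p` odd. -/
theorem not_failure (hp2 : p ≠ 2) : ¬ TransferFailure p (allW.{u} p) X := by
  intro h
  obtain ⟨T⟩ : Nonempty (Sylow p X) := inferInstance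
  have hT : (T : Subgroup X) ≠ ⊥ := fun e => h.not_le T fun x hx => by
    have h1 : x ∈ (⊥ : Subgroup X) := e ▸ (mem_inf.1 hx).1
    rw [mem_bot.1 h1]; exact one_mem _
  have hN : ∀ K : Subgroup X, K ≤ (T : Subgroup X) → K ≠ ⊥ →
      (K.subgroupOf (T : Subgroup X)).Characteristic →
      normalizer (K : Set X) ≤ failNorm T (allW.{u} p) := by
    intro K hKT hK hch
    haveI := hch
    refine h.le_failNorm T ((normal_subgroupOf_iff_le_normalizer hKT).1 inferInstance) fun htop => ?_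
    have hK' : K.subgroupOf (T : Subgroup X) ≠ ⊥ := fun e => hK (by
      rw [← map_subgroupOf_eq_of_le hKT, e, Subgroup.map_bot])
    refine h.not_le T (le_trans ?_
      (le_iSup₂_of_le (fun Q _ => charW _ (K.subgroupOf (T : Subgroup X)) Q)
        (charW_isFunctor p hK') le_rfl))
    have hW : Cfsg.inducedFunctor (G := X)
        (fun Q _ => charW _ (K.subgroupOf (T : Subgroup X)) Q) (T : Subgroup X) = K := by
      show (charW _ _ _).map _ = K
      rw [charW_self, map_subgroupOf_eq_of_le hKT]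
    rw [hW, htop, commutator_def]
  have hM : cStarOf p (T : Subgroup X) ≤ failNorm T (allW.{u} p) :=
    (CfsgLib.CGT.Deg.cStar_le_join (CfsgLib.CGT.Deg.omegaOneCenter_sylow_ne_bot T hT)).trans
      (iSup_le fun C => hN C.1 C.2.1 C.2.2.1 C.2.2.2)
  have hA : cStarOf p (T : Subgroup X) ≠ ⊤ := fun e =>
    h.failNorm_ne_top T (top_le_iff.1 (e ▸ hM))
  obtain ⟨𝓑, hB⟩ := Cfsg.Agent.S2979.result h.constrained T hA
  haveI := CfsgLib.CGT.Deg.union_normal hB
  have hTA := CfsgLib.CGT.sylow_le_cStar T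
  have hJ := h.inf_le_join T hA hTA
  refine h.not_le T ((inf_commutator_le_sup T hTA hB.2.2.2.1).trans (sup_le hJ ?_))
  refine le_trans (le_inf inf_le_left ?_) hJ
  exact inf_sSup_le_of_commuting T (fun E hE => CfsgLib.CGT.Deg.member_subnormal hB hE)
    (fun E hE E' hE' => CfsgLib.CGT.Deg.member_commute hB hE hE')
    (fun E hE => sylow_inf_block_le hp2 T hB hE)

/-- For odd `p`, `S ∩ G'` is generated by the `S ∩ N(K)'`, `K` characteristic in `S`. -/
theorem inf_commutator_eq_iSup {G : Type u} [Group G] [Finite G] (hp2 : p ≠ 2) (S : Sylow p G)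
    (hS : (S : Subgroup G) ≠ ⊥) :
    (S : Subgroup G) ⊓ commutator G =
      ⨆ K : {K : Subgroup ↥(S : Subgroup G) // K ≠ ⊥ ∧ K.Characteristic},
        (S : Subgroup G) ⊓
          ⁅normalizer ((((K : Subgroup ↥(S : Subgroup G))).map (S : Subgroup G).subtype : Subgroup G) : Set G),
           normalizer ((((K : Subgroup ↥(S : Subgroup G))).map (S : Subgroup G).subtype : Subgroup G) : Set G)⁆ := by
  refine le_antisymm ?_ (iSup_le fun K => inf_le_inf_left _ (commutator_mono le_top le_top))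
  have hne : (allW.{u} p).Nonempty := by
    refine ⟨fun Q _ => ⊤, fun Q _ _ _ _ => top_ne_bot, fun Q R _ _ _ _ φ => ?_⟩
    exact map_top_of_surjective _ φ.surjective
  have hc := ctrlT_of_sections (fun W hW => hW) hne
    (fun K R _ => not_failure hp2) G (isSec_self G)
  refine ((ctrlT_iff (fun W hW => hW) S).1 hc).trans (iSup₂_le fun W hW => ?_)
  haveI := (Subgroup.nontrivial_iff_ne_bot _).2 hS
  refine le_iSup_of_le (⟨W ↥(S : Subgroup G), hW.1 _ S.2 inferInstance,
    characteristic_iff_map_eq.2 fun φ => hW.2 _ _ S.2 φ⟩ :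
    {K : Subgroup ↥(S : Subgroup G) // K ≠ ⊥ ∧ K.Characteristic}) le_rfl

end CfsgLib.ClassK.CharTr
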