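import Cfsg.Agent.Lib.KnownB.CompWeight

/-!
Weighted compositions by recursion on the largest part: evaluation tables and a mass bound.
-/

set_option autoImplicit false

namespace CfsgLib.ClassK.CompRec

open Finset CfsgLib.KnownB.ClassNum

/-- `cs W L M = ∑_{∑ (l+1) a_l = M} ∏ W l (a l)`, by recursion on the number of levels. -/
def cs (W : ℕ → ℕ → ℕ) : ℕ → ℕ → ℕ
  | 0, M => if M = 0 then 1 else 0
  | L + 1, M => ∑ a ∈ range (M / (L + 1) + 1), W L a * cs W L (M - (L + 1) * a)

theorem sum_comps_eq (W : ℕ → ℕ → ℕ) : ∀ L M : ℕ,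
    ∑ a ∈ comps 1 L M, ∏ l : Fin L, W (l : ℕ) (a l) = cs W L M := by
  intro L
  induction L with
  | zero =>
    intro M
    rw [cs]
    split_ifs with h
    · rw [show comps 1 0 M = {Fin.elim0} from Finset.ext fun a => by
        simp [mem_comps le_rfl, h, Subsingleton.elim a Fin.elim0]]
      simp
    · rw [show comps 1 0 M = ∅ from Finset.ext fun a => by simp [mem_comps le_rfl, Ne.symm h]]
      simp
  | succ L ih =>
    intro M
    rw [cs]
    simp only [← ih, mul_sum]
    rw [sum_sigma']
    refine sum_bij' (fun a _ => ⟨a (Fin.last L), Fin.init a⟩) (fun p _ => Fin.snoc p.2 p.1) ?_ ?_ ?_ ?_ ?_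
    · intro a ha
      rw [mem_comps le_rfl, Fin.sum_univ_castSucc] at ha
      simp only [Fin.val_castSucc, Fin.val_last] at ha
      rw [mem_sigma, mem_range, mem_comps le_rfl]
      have h1 : (L + 1) * a (Fin.last L) = (1 + L) * a (Fin.last L) := by rw [add_comm]
      refine ⟨Nat.lt_succ_of_le ((Nat.le_div_iff_mul_le (by omega)).2 ?_), ?_⟩
      · show a (Fin.last L) * (L + 1) ≤ M
        rw [mul_comm]; omega
      · show ∑ l : Fin L, (1 + (l : ℕ)) * a l.castSucc = M - (L + 1) * a (Fin.last L)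
        omega
    · intro p hp
      rw [mem_sigma, mem_range, mem_comps le_rfl] at hp
      rw [mem_comps le_rfl, Fin.sum_univ_castSucc]
      simp only [Fin.snoc_castSucc, Fin.snoc_last, Fin.val_castSucc, Fin.val_last, hp.2]
      have h2 := (Nat.le_div_iff_mul_le (show 0 < L + 1 by omega)).1 (Nat.le_of_lt_succ hp.1)
      rw [mul_comm] at h2
      have h1 : (L + 1) * p.1 = (1 + L) * p.1 := by rw [add_comm]
      omega
    · intro a _; exact Fin.snoc_init_self a
    · intro p _; simp
    · intro a _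
      rw [Fin.prod_univ_castSucc, mul_comm]
      rfl

theorem cs_succ_of_lt (W : ℕ → ℕ → ℕ) {L M : ℕ} (hW : W L 0 = 1) (h : M < L + 1) :
    cs W (L + 1) M = cs W L M := by
  rw [cs, Nat.div_eq_of_lt h, sum_range_one, hW, one_mul, mul_zero, Nat.sub_zero]

theorem cs_stable (W : ℕ → ℕ → ℕ) (hW : ∀ l, 1 ≤ l → W l 0 = 1) {L L' M : ℕ} (h1 : 1 ≤ L) (hM : M ≤ L)
    (hL : L ≤ L') : cs W L' M = cs W L M := by
  induction hL with
  | refl => rfl
  | @step k hk ih =>
    have hk' : L ≤ k := hk
    rw [cs_succ_of_lt W (hW k (by omega)) (by omega), ih]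

/-- Replacing the first weight. -/
theorem cs_first (W : ℕ → ℕ → ℕ) (T : ℕ → ℕ) : ∀ L M : ℕ, 1 ≤ L →
    cs (fun l a => if l = 0 then T a else W l a) L M =
      ∑ a ∈ range (M + 1), T a * cs (fun l a => if l = 0 then (if a = 0 then 1 else 0) else W l a) L (M - a) := by
  intro L M hL
  induction hL generalizing M with
  | refl =>
    have e : ∀ (V : ℕ → ℕ → ℕ) M, cs V 1 M = V 0 M := fun V M => by
      rw [cs, zero_add, Nat.div_one, sum_range_succ, sum_eq_zero fun a ha => ?_, zero_add]
      · simp [cs]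
      · rw [mem_range] at ha
        rw [cs, if_neg (by omega), mul_zero]
    rw [e, sum_range_succ, sum_eq_zero fun a ha => ?_]
    · simp [e]
    · rw [mem_range] at ha
      rw [e, if_pos rfl, if_neg (by omega), mul_zero]
  | @step L hL ih =>
    have hL0 : 1 ≤ L := hL
    have hL' : L ≠ 0 := by omega
    simp only [cs, if_neg hL', ih, mul_sum]
    rw [sum_sigma', sum_sigma']
    refine sum_bij' (fun p _ => ⟨p.2, p.1⟩) (fun p _ => ⟨p.2, p.1⟩) ?_ ?_ ?_ ?_ ?_
    · intro p hp
      rw [mem_sigma, mem_range, mem_range, Nat.lt_succ_iff, Nat.le_div_iff_mul_le (by omega), mul_comm] at hp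
      rw [mem_sigma, mem_range, mem_range, Nat.lt_succ_iff, Nat.lt_succ_iff, Nat.le_div_iff_mul_le (by omega),
        mul_comm p.1]
      simp only
      omega
    · intro p hp
      rw [mem_sigma, mem_range, mem_range, Nat.lt_succ_iff, Nat.lt_succ_iff, Nat.le_div_iff_mul_le (by omega),
        mul_comm p.2] at hp
      rw [mem_sigma, mem_range, mem_range, Nat.lt_succ_iff, Nat.le_div_iff_mul_le (by omega), mul_comm p.2]
      simp only
      omega
    · intro p _; rfl
    · intro p _; rfl
    · intro p hp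
      simp only
      rw [mul_left_comm, Nat.sub_right_comm]

/-- The mass bound. -/
theorem mass_le (W : ℕ → ℕ → ℕ) (r : ℝ) (b : ℕ → ℝ) (hr : 0 ≤ r) (X : ℕ)
    (hb : ∀ l, ∑ a ∈ range (X + 1), (W l a : ℝ) * r ^ ((l + 1) * a) ≤ b l) : ∀ L : ℕ,
    ∑ M ∈ range (X + 1), (cs W L M : ℝ) * r ^ M ≤ ∏ l ∈ range L, b l := by
  intro L
  induction L with
  | zero =>
    rw [prod_range_zero, sum_eq_single 0]
    · simp [cs]
    · intro M _ hM; simp [cs, hM]
    · simp
  | succ L ih =>
    rw [prod_range_succ, mul_comm]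
    refine le_trans ?_ (mul_le_mul (hb L) ih (sum_nonneg fun M _ => by positivity)
      ((sum_nonneg fun a _ => by positivity).trans (hb L)))
    rw [sum_mul_sum, ← sum_product']
    simp only [cs, Nat.cast_sum, sum_mul]
    rw [sum_sigma']
    have hmem : ∀ p ∈ (range (X + 1)).sigma (fun M => range (M / (L + 1) + 1)),
        (L + 1) * p.2 ≤ p.1 ∧ p.1 ≤ X ∧ p.2 ≤ X := fun p hp => by
      rw [mem_sigma, mem_range, mem_range, Nat.lt_succ_iff, Nat.lt_succ_iff, Nat.le_div_iff_mul_le (by omega)] at hp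
      have : p.2 ≤ p.2 * (L + 1) := Nat.le_mul_of_pos_right _ (by omega)
      obtain ⟨h1, h2⟩ := hp
      have h3 : (L + 1) * p.2 = p.2 * (L + 1) := mul_comm _ _
      omega
    refine le_trans (le_of_eq ?_) (sum_le_sum_of_subset_of_nonneg
      (s := ((range (X + 1)).sigma (fun M => range (M / (L + 1) + 1))).image fun p => (p.2, p.1 - (L + 1) * p.2))
      (fun x hx => ?_) fun x _ _ => by positivity)
    · rw [sum_image fun p hp p' hp' e => ?_]
      · refine sum_congr rfl fun p hp => ?_
        have h := (hmem p hp).1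
        simp only [Nat.cast_mul]
        conv_lhs => rw [← Nat.add_sub_cancel' h, pow_add, Nat.add_sub_cancel' h]
        ring
      · simp only [Prod.mk.injEq] at e
        obtain ⟨e1, e2⟩ := e
        have h1 := (hmem p hp).1
        have h2 := (hmem p' hp').1
        rw [e1] at e2 h1
        exact Sigma.ext (by omega) (heq_of_eq e1)
    · obtain ⟨p, hp, rfl⟩ := mem_image.1 hx
      have := hmem p hp
      simp only [mem_product, mem_range]
      omega

/-- One row of a table. -/
def step (f : ℕ → ℕ) (k : ℕ) (prev : List ℕ) : List ℕ :=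
  (List.range prev.length).map fun M => ((List.range (M / k + 1)).map fun a => f a * prev.getD (M - k * a) 0).sum

/-- The table of `cs W L M`, `M ≤ X`. -/
def tab (W : ℕ → ℕ → ℕ) (X : ℕ) : ℕ → List ℕ
  | 0 => 1 :: List.replicate X 0
  | L + 1 => step (W L) (L + 1) (tab W X L)

theorem tab_spec (W : ℕ → ℕ → ℕ) (X : ℕ) : ∀ L : ℕ,
    (tab W X L).length = X + 1 ∧ ∀ M ≤ X, (tab W X L).getD M 0 = cs W L M := by
  intro L
  induction L with
  | zero =>
    refine ⟨by simp [tab], fun M hM => ?_⟩
    rcases M with _ | M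
    · simp [tab, cs]
    · simp [tab, cs, List.getD_eq_getElem?_getD, List.getElem?_replicate]
      split_ifs <;> rfl
  | succ L ih =>
    refine ⟨by simp [tab, step, ih.1], fun M hM => ?_⟩
    rw [tab, step, List.getD_eq_getElem _ 0 (by simp [ih.1]; omega), List.getElem_map, List.getElem_range, cs]
    rw [← List.sum_toFinset _ List.nodup_range, List.toFinset_range]
    exact sum_congr rfl fun a _ => by rw [ih.2 _ (by omega)]

end CfsgLib.ClassK.CompRec
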