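import Cfsg.Prelude.Def_Transfer
import Mathlib.GroupTheory.Sylow
import Mathlib.GroupTheory.Nilpotent

/-!
# Connectivity of elementary abelian subgroups of a fixed order in a 2-group
-/

namespace CfsgLib.ClassK

open Subgroup

variable {P : Type*} [Group P] [Finite P]

/-- An element whose square centralizes an elementary abelian subgroup `U` which it normalizes
centralizes a subgroup of `U` of order at least the square root of `|U|`. -/
theorem card_le_card_inf_centralizer_sq {U : Subgroup P} (hU : Cfsg.IsElementaryAbelian 2 U)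
    {v : P} (hv : v ^ 2 = 1) (hvU : ∀ u ∈ U, v * u * v⁻¹ ∈ U) :
    Nat.card U ≤ Nat.card ↥(U ⊓ centralizer ({v} : Set P)) ^ 2 := by
  classical
  have hcomm : ∀ a ∈ U, ∀ b ∈ U, a * b = b * a := fun a ha b hb =>
    congrArg Subtype.val (hU.1.is_comm.comm (⟨a, ha⟩ : U) ⟨b, hb⟩)
  have hinv : ∀ a ∈ U, a⁻¹ = a := fun a ha =>
    inv_eq_of_mul_eq_one_right (by rw [← pow_two, hU.2 a ha])
  let φ : U →* P :=
    { toFun := fun u => (u : P) * (v * u * v⁻¹)
      map_one' := by simp
      map_mul' := fun a b => by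
        have h1 := hcomm _ b.2 _ (hvU a a.2)
        calc ((a * b : U) : P) * (v * ((a * b : U) : P) * v⁻¹)
            = (a : P) * ((b : P) * (v * a * v⁻¹)) * (v * b * v⁻¹) := by
              push_cast; group
          _ = (a : P) * ((v * a * v⁻¹) * (b : P)) * (v * b * v⁻¹) := by rw [h1]
          _ = _ := by group }
  set C := U ⊓ centralizer ({v} : Set P) with hC
  have hker : φ.ker = C.subgroupOf U := by
    ext u
    rw [MonoidHom.mem_ker, mem_subgroupOf, hC, mem_inf, mem_centralizer_singleton_iff]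
    change (u : P) * (v * u * v⁻¹) = 1 ↔ _
    rw [mul_eq_one_iff_eq_inv, hinv _ (hvU u u.2)]
    constructor
    · intro h
      refine ⟨u.2, ?_⟩
      conv_lhs => rw [h]
      group
    · rintro ⟨-, h⟩
      rw [← h]; group
  have hrange : φ.range ≤ C := by
    rintro _ ⟨u, rfl⟩
    refine mem_inf.2 ⟨mul_mem u.2 (hvU u u.2), mem_centralizer_singleton_iff.2 ?_⟩
    have hvi : v⁻¹ = v := inv_eq_of_mul_eq_one_right (by rw [← pow_two, hv])
    change (u : P) * (v * u * v⁻¹) * v = v * ((u : P) * (v * u * v⁻¹))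
    have hw : v * (v * u * v⁻¹) * v⁻¹ = u := by
      rw [hvi]
      calc v * (v * u * v) * v = v ^ 2 * u * v ^ 2 := by rw [pow_two]; group
        _ = u := by rw [hv, one_mul, mul_one]
    symm
    calc v * ((u : P) * (v * u * v⁻¹))
        = (v * u * v⁻¹) * (v * (v * u * v⁻¹) * v⁻¹) * v := by group
      _ = (v * u * v⁻¹) * u * v := by rw [hw]
      _ = _ := by rw [hcomm _ (hvU u u.2) _ u.2]
  calc Nat.card U = Nat.card φ.ker * Nat.card φ.range := by
        rw [← φ.ker.card_mul_index, index_ker]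
    _ ≤ Nat.card C * Nat.card C := by
        refine Nat.mul_le_mul ?_ (card_le_of_le hrange)
        rw [hker, Nat.card_congr (subgroupOfEquivOfLe inf_le_left).toEquiv]
    _ = _ := (pow_two _).symm

omit [Finite P] in
theorem isElementaryAbelian_of_le {A B : Subgroup P} (hA : Cfsg.IsElementaryAbelian 2 A)
    (h : B ≤ A) : Cfsg.IsElementaryAbelian 2 B := by
  refine ⟨⟨⟨fun x y => Subtype.ext ?_⟩⟩, fun x hx => hA.2 x (h hx)⟩
  have := congrArg Subtype.val (hA.1.is_comm.comm (⟨x, h x.2⟩ : A) ⟨y, h y.2⟩)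
  exact this

/-- The centralizer in a normal elementary abelian `E` of an elementary abelian `A`. -/
theorem card_le_pow_relIndex {E : Subgroup P} [E.Normal] (hE : Cfsg.IsElementaryAbelian 2 E)
    {A : Subgroup P} (hA : Cfsg.IsElementaryAbelian 2 A) :
    Nat.card E ≤ Nat.card ↥(E ⊓ centralizer (A : Set P)) ^ (E.relIndex A) := by
  induction A using WellFoundedLT.induction with
  | ind A ih =>
    by_cases hAE : A ≤ E
    · have h1 : E ⊓ centralizer (A : Set P) = E := inf_eq_left.2 fun e he =>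
        mem_centralizer_iff.2 fun a ha =>
          congrArg Subtype.val (hE.1.is_comm.comm (⟨a, hAE ha⟩ : E) ⟨e, he⟩)
      rw [h1, relIndex_eq_one.2 hAE, pow_one]
    have hne : E.subgroupOf A ≠ ⊤ := fun h => hAE (subgroupOf_eq_top.1 h)
    obtain ⟨M, hM, hEM⟩ := (eq_top_or_exists_le_coatom _).resolve_left hne
    obtain ⟨⟨a, ha⟩, haM⟩ : ∃ a : A, a ∉ M := by
      by_contra! h
      exact hM.1 (top_le_iff.1 fun x _ => h x)
    set M' := M.map A.subtype with hM'
    have hM'A : M' ≤ A := map_subtype_le M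
    have hlt : M' < A := lt_of_le_of_ne hM'A fun h => haM (by
      have : a ∈ M' := h.symm ▸ ha
      obtain ⟨b, hb, hba⟩ := this
      exact (Subtype.ext hba : b = ⟨a, ha⟩) ▸ hb)
    have hgen : M ⊔ zpowers (⟨a, ha⟩ : A) = ⊤ :=
      hM.2 _ (lt_of_le_of_ne le_sup_left fun h => haM (h ▸ mem_sup_right (mem_zpowers _)))
    have hih := ih M' hlt (isElementaryAbelian_of_le hA hM'A)
    set F := E ⊓ centralizer (M' : Set P) with hF
    have hconj : ∀ u ∈ F, a * u * a⁻¹ ∈ F := by
      intro u hu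
      refine mem_inf.2 ⟨Normal.conj_mem ‹_› u (mem_inf.1 hu).1 a, mem_centralizer_iff.2 ?_⟩
      intro m hm
      have h1 : Commute m a :=
        congrArg Subtype.val (hA.1.is_comm.comm (⟨m, hM'A hm⟩ : A) ⟨a, ha⟩)
      have h2 : Commute m u := mem_centralizer_iff.1 (mem_inf.1 hu).2 m hm
      exact ((h1.mul_right h2).mul_right h1.inv_right).eq
    have hsq := card_le_card_inf_centralizer_sq (U := F)
      (isElementaryAbelian_of_le hE inf_le_left) (hA.2 a ha) hconj
    have hle : F ⊓ centralizer ({a} : Set P) ≤ E ⊓ centralizer (A : Set P) := by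
      rintro u ⟨⟨huE, huM⟩, hua⟩
      refine ⟨huE, mem_centralizer_iff.2 fun x hx => ?_⟩
      have hmem : (⟨x, hx⟩ : A) ∈ M ⊔ zpowers (⟨a, ha⟩ : A) := hgen ▸ mem_top _
      haveI : M.Normal := ⟨fun n hn g => by
        rwa [hA.1.is_comm.comm g n, mul_inv_cancel_right]⟩
      obtain ⟨m, hm, w, hw, hmw⟩ := mem_sup_of_normal_left.1 hmem
      obtain ⟨i, rfl⟩ := mem_zpowers_iff.1 hw
      have hx' : x = (m : P) * a ^ i := (congrArg Subtype.val hmw).symm
      rw [hx']
      have h1 : Commute (m : P) u := mem_centralizer_iff.1 huM _ (mem_map_of_mem _ hm)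
      have h2 : Commute a u := (mem_centralizer_singleton_iff.1 hua).symm
      exact (h1.mul_left (h2.zpow_left i)).eq
    have hindex : 2 * E.relIndex M' ≤ E.relIndex A := by
      have hmul := relIndex_mul_relIndex (E ⊓ M') M' A inf_le_right hM'A
      rw [inf_relIndex_right] at hmul
      have hEA : E ⊓ M' = E ⊓ A := le_antisymm (inf_le_inf_left E hM'A) fun x hx =>
        mem_inf.2 ⟨(mem_inf.1 hx).1, ⟨⟨x, (mem_inf.1 hx).2⟩, hEM (mem_inf.1 hx).1, rfl⟩⟩
      rw [hEA, inf_relIndex_right] at hmul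
      rw [← hmul, mul_comm]
      refine Nat.mul_le_mul_left _ ?_
      have h0 : M'.relIndex A ≠ 0 := FiniteIndex.index_ne_zero
      have h1 : M'.relIndex A ≠ 1 := fun h => hlt.not_ge (relIndex_eq_one.1 h)
      omega
    calc Nat.card E ≤ Nat.card F ^ E.relIndex M' := hih
      _ ≤ (Nat.card ↥(F ⊓ centralizer ({a} : Set P)) ^ 2) ^ E.relIndex M' :=
          Nat.pow_le_pow_left hsq _
      _ ≤ (Nat.card ↥(E ⊓ centralizer (A : Set P)) ^ 2) ^ E.relIndex M' :=
          Nat.pow_le_pow_left (Nat.pow_le_pow_left (card_le_of_le hle) _) _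
      _ = Nat.card ↥(E ⊓ centralizer (A : Set P)) ^ (2 * E.relIndex M') := by rw [pow_mul]
      _ ≤ _ := Nat.pow_le_pow_right Nat.card_pos hindex

/-- `A ⊔ C_E(A)` is elementary abelian. -/
theorem isElementaryAbelian_sup {E : Subgroup P} (hE : Cfsg.IsElementaryAbelian 2 E)
    {A : Subgroup P} (hA : Cfsg.IsElementaryAbelian 2 A) :
    Cfsg.IsElementaryAbelian 2 (A ⊔ (E ⊓ centralizer (A : Set P))) := by
  set S : Set P := (A : Set P) ∪ ((E ⊓ centralizer (A : Set P) : Subgroup P) : Set P)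
  have hsup : A ⊔ (E ⊓ centralizer (A : Set P)) = closure S := by
    rw [Subgroup.closure_union, closure_eq, closure_eq]
  have hS : ∀ x ∈ S, ∀ y ∈ S, x * y = y * x := by
    rintro x (hx | ⟨hx, hx'⟩) y (hy | ⟨hy, hy'⟩)
    · exact congrArg Subtype.val (hA.1.is_comm.comm (⟨x, hx⟩ : A) ⟨y, hy⟩)
    · exact mem_centralizer_iff.1 hy' x hx
    · exact (mem_centralizer_iff.1 hx' y hy).symm
    · exact congrArg Subtype.val (hE.1.is_comm.comm (⟨x, hx⟩ : E) ⟨y, hy⟩)
  rw [hsup]
  haveI := isMulCommutative_closure hS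
  refine ⟨inferInstance, fun a ha => ?_⟩
  induction ha using closure_induction with
  | mem x hx => exact hx.elim (hA.2 x) fun h => hE.2 x h.1
  | one => exact one_pow _
  | mul x y hx hy h1 h2 =>
    have hc : Commute x y :=
      congrArg Subtype.val ((inferInstance : IsMulCommutative (closure S)).is_comm.comm
        (⟨x, hx⟩ : closure S) ⟨y, hy⟩)
    rw [hc.mul_pow, h1, h2, one_mul]
  | inv x _ h => rw [inv_pow, h, inv_one]

/-- In a `2`-group, a `2`-subgroup between given ones. -/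
theorem exists_between {K T : Subgroup P} {m k : ℕ} (hKT : K ≤ T) (hK : Nat.card K = 2 ^ k)
    (hkm : k ≤ m) (hT : IsPGroup 2 T) (hmT : 2 ^ m ≤ Nat.card T) :
    ∃ D : Subgroup P, K ≤ D ∧ D ≤ T ∧ Nat.card D = 2 ^ m := by
  haveI : Fact (Nat.Prime 2) := ⟨Nat.prime_two⟩
  obtain ⟨n, hn⟩ := hT.exists_card_eq
  have hmn : m ≤ n := (Nat.pow_le_pow_iff_right one_lt_two).1 (hn ▸ hmT)
  obtain ⟨D, hD, hKD⟩ := Sylow.exists_subgroup_card_pow_prime_le 2
    (hn ▸ pow_dvd_pow 2 hmn) (K.subgroupOf T)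
    (by rw [Nat.card_congr (subgroupOfEquivOfLe hKT).toEquiv, hK]) hkm
  refine ⟨D.map T.subtype, ?_, map_subtype_le D, ?_⟩
  · exact (map_subgroupOf_eq_of_le hKT).ge.trans (map_mono hKD)
  · rw [card_map_of_injective T.subtype_injective, hD]

/-- The elementary abelian subgroups of order `2 ^ m` of a `2`-group with a sufficiently large
normal elementary abelian subgroup are connected under commuting. -/
theorem connected_of_normal_elementary (hP : IsPGroup 2 P) {E : Subgroup P} [E.Normal]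
    (hE : Cfsg.IsElementaryAbelian 2 E) {m : ℕ}
    (hm : ∀ j < m, (2 ^ j) ^ (2 ^ (m - j)) < Nat.card E) {A B : Subgroup P}
    (hA : Cfsg.IsElementaryAbelian 2 A) (hAc : Nat.card A = 2 ^ m)
    (hB : Cfsg.IsElementaryAbelian 2 B) (hBc : Nat.card B = 2 ^ m)
    (R : Subgroup P → Subgroup P → Prop)
    (hR : ∀ C D : Subgroup P, Cfsg.IsElementaryAbelian 2 C → Nat.card C = 2 ^ m →
      Cfsg.IsElementaryAbelian 2 D → Nat.card D = 2 ^ m →
      (∀ c ∈ C, ∀ d ∈ D, c * d = d * c) → R C D) :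
    Relation.ReflTransGen R A B := by
  classical
  haveI : Fact (Nat.Prime 2) := ⟨Nat.prime_two⟩
  suffices key : ∀ d, ∀ C : Subgroup P, Cfsg.IsElementaryAbelian 2 C → Nat.card C = 2 ^ m →
      2 ^ m - Nat.card ↥(C ⊓ E) ≤ d →
      ∃ D, D ≤ E ∧ Nat.card D = 2 ^ m ∧ Relation.ReflTransGen R C D ∧
        Relation.ReflTransGen R D C by
    obtain ⟨D, hDE, hDc, hAD, -⟩ := key _ A hA hAc le_rfl
    obtain ⟨D', hD'E, hD'c, -, hD'B⟩ := key _ B hB hBc le_rfl
    refine (hAD.tail (hR D D' (isElementaryAbelian_of_le hE hDE) hDc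
      (isElementaryAbelian_of_le hE hD'E) hD'c fun c hc d hd => ?_)).trans hD'B
    exact congrArg Subtype.val (hE.1.is_comm.comm (⟨c, hDE hc⟩ : E) ⟨d, hD'E hd⟩)
  intro d
  induction d with
  | zero =>
    intro C hC hCc hd
    refine ⟨C, ?_, hCc, .refl, .refl⟩
    have : C ⊓ E = C := eq_of_le_of_card_ge inf_le_left (by omega)
    exact inf_eq_left.1 this
  | succ d ih =>
    intro C hC hCc hd
    by_cases hCE : C ≤ E
    · exact ⟨C, hCE, hCc, .refl, .refl⟩
    obtain ⟨j, hj⟩ := (hP.to_subgroup (C ⊓ E)).exists_card_eq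
    have hlt : j < m := by
      have h1 : Nat.card ↥(C ⊓ E) < Nat.card C := by
        refine lt_of_le_of_ne (card_le_of_le inf_le_left) fun h => hCE ?_
        exact inf_eq_left.1 (eq_of_le_of_card_ge inf_le_left h.ge)
      rw [hj, hCc] at h1
      exact (Nat.pow_lt_pow_iff_right one_lt_two).1 h1
    set F := E ⊓ centralizer (C : Set P) with hF
    have hrel : E.relIndex C = 2 ^ (m - j) := by
      have h := relIndex_mul_relIndex ⊥ (C ⊓ E) C bot_le inf_le_left
      rw [inf_relIndex_left, relIndex_bot_left, relIndex_bot_left, hj, hCc] at h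
      refine Nat.eq_of_mul_eq_mul_left (pow_pos two_pos j) ?_
      rw [h, ← pow_add]; congr 1; omega
    have hcount := card_le_pow_relIndex hE hC
    rw [← hF, hrel] at hcount
    obtain ⟨k, hk⟩ := (hP.to_subgroup F).exists_card_eq
    have hjk : j < k := by
      by_contra! hcon
      refine absurd (hm j hlt) (not_lt.2 (hcount.trans (Nat.pow_le_pow_left ?_ _)))
      rw [hk]
      exact Nat.pow_le_pow_right two_pos hcon
    have hT := isElementaryAbelian_sup hE hC
    have hmT : 2 ^ m ≤ Nat.card ↥(C ⊔ F) := hCc ▸ card_le_of_le le_sup_left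
    obtain ⟨K, hKF, hKc⟩ : ∃ K ≤ F, Nat.card K = 2 ^ min k m := by
      obtain ⟨K, -, h1, h2⟩ := exists_between (K := ⊥) (k := 0) (m := min k m) bot_le (card_bot)
        (Nat.zero_le _) (hP.to_subgroup F) (hk ▸ Nat.pow_le_pow_right two_pos (min_le_left _ _))
      exact ⟨K, h1, h2⟩
    obtain ⟨D, hKD, hDT, hDc⟩ := exists_between (hKF.trans le_sup_right) hKc (min_le_right _ _)
      (hP.to_subgroup _) hmT
    have hDea := isElementaryAbelian_of_le hT hDT
    have hcd : ∀ c ∈ C, ∀ x ∈ D, c * x = x * c := fun c hc x hx =>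
      congrArg Subtype.val (hT.1.is_comm.comm
        (⟨c, mem_sup_left hc⟩ : ↥(C ⊔ F)) ⟨x, hDT hx⟩)
    have hbig : 2 ^ min k m ≤ Nat.card ↥(D ⊓ E) :=
      hKc ▸ card_le_of_le (le_inf hKD (hKF.trans inf_le_left))
    have hinc : 2 ^ j < 2 ^ min k m :=
      (Nat.pow_lt_pow_iff_right one_lt_two).2 (lt_min hjk hlt)
    obtain ⟨D', hD'E, hD'c, h1, h2⟩ := ih D hDea hDc (by omega)
    exact ⟨D', hD'E, hD'c, .head (hR C D hC hCc hDea hDc hcd) h1,
      h2.tail (hR D C hDea hDc hC hCc fun x hx c hc => (hcd c hc x hx).symm)⟩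

end CfsgLib.ClassK
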