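import Cfsg.Agent.Lib.ClassK.ConwayReduce
import Mathlib.GroupTheory.OrderOfElement

/-!
The two standard involutions of the radical are not conjugate to the central involution.
-/

set_option autoImplicit false
set_option maxRecDepth 20000
set_option synthInstance.maxSize 2000

namespace CfsgLib.ClassK.Conway

open Subgroup CfsgLib.Trans3.ExtraTwo
open CfsgLib.PLocal.LargeExtra

/-- Isometries fixing `e0` and the vectors orthogonal to a pair. -/
def stab (a b : Sp 3) : Subgroup (Equiv.Perm (Sp 4)) where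
  carrier := {σ | Isom σ ∧ σ e0 = e0 ∧ ∀ v, alt a v = 0 → alt b v = 0 → σ (up v) = up v}
  one_mem' := ⟨isom_id, rfl, fun _ _ _ => rfl⟩
  mul_mem' := fun {σ τ} ⟨hs, hs0, hsv⟩ ⟨ht, ht0, htv⟩ =>
    ⟨hs.comp ht, (congrArg σ ht0).trans hs0, fun v h h' => (congrArg σ (htv v h h')).trans (hsv v h h')⟩
  inv_mem' := fun {σ} ⟨hs, hs0, hsv⟩ => by
    refine ⟨⟨fun u v => ?_, fun v => ?_⟩, ?_, fun v h h' => ?_⟩
    · apply σ.injective
      rw [hs.map_add]; simp
    · rw [← hs.map_qd]; simp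
    · exact σ.injective (by simp [hs0])
    · exact σ.injective (by simp [hsv v h h'])

theorem card_stab_le {a b v0 w0 : Sp 3} {N : ℕ}
    (hperp : ∀ c : Sp 4, alt e0 c = 0 →
      (∀ v : Sp 3, alt a v = 0 → alt b v = 0 → alt (up v) c = 0) →
      c ∈ [0, e0, up a, e0 + up a, up b, e0 + up b, up a + up b, e0 + up a + up b])
    (hspan : ∀ c : Sp 4, alt e0 c = 0 → alt f0 c = 0 → alt (up v0) c = 0 → alt (up w0) c = 0 →
      (∀ v : Sp 3, alt a v = 0 → alt b v = 0 → alt (up v) c = 0) → c = 0)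
    (hcand : (cand (up a) (up b) (up v0) (up w0)).length ≤ N) : Nat.card (stab a b) ≤ N := by
  classical
  let L := cand (up a) (up b) (up v0) (up w0)
  have hmove : ∀ σ : stab a b, ∀ x : Sp 4,
      ∃ m ∈ [0, e0, up a, e0 + up a, up b, e0 + up b, up a + up b, e0 + up a + up b],
        (σ : Equiv.Perm (Sp 4)) x = x + m := by
    rintro ⟨σ, hi, h0, hv⟩ x
    refine ⟨σ x + x, hperp _ ?_ fun v h h' => ?_, ?_⟩
    · rw [alt_add_right]
      conv_lhs => arg 1; rw [← h0]
      rw [hi.map_alt, z2_add_self]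
    · rw [alt_add_right]
      conv_lhs => arg 1; rw [← hv v h h']
      rw [hi.map_alt, z2_add_self]
    · show σ x = x + (σ x + x)
      rw [add_comm (σ x) x, ← add_assoc, sp_add_self, zero_add]
  have hmem : ∀ σ : stab a b, (((σ : Equiv.Perm (Sp 4)) f0, (σ : Equiv.Perm (Sp 4)) (up v0),
      (σ : Equiv.Perm (Sp 4)) (up w0)) : Sp 4 × Sp 4 × Sp 4) ∈ L.toFinset := by
    intro σ
    obtain ⟨i, hi', ei⟩ := hmove σ f0
    obtain ⟨j, hj', ej⟩ := hmove σ (up v0)
    obtain ⟨k, hk', ek⟩ := hmove σ (up w0)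
    have hi := σ.2.1
    refine List.mem_toFinset.2 (List.mem_filter.2 ⟨?_, ?_⟩)
    · exact List.mem_flatMap.2 ⟨i, hi', List.mem_flatMap.2 ⟨j, hj', List.mem_map.2 ⟨k, hk', by
        rw [ei, ej, ek]⟩⟩⟩
    · simp only [decide_eq_true_eq]
      refine ⟨?_, hi.map_qd _, hi.map_qd _, hi.map_alt _ _, hi.map_alt _ _, hi.map_alt _ _⟩
      rw [hi.map_qd]
      exact basic_facts.2.1
  have hinj : Function.Injective (fun σ : stab a b =>
      (⟨_, hmem σ⟩ : {p // p ∈ L.toFinset})) := by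
    rintro ⟨σ, hi, h0, hv⟩ ⟨τ, ti, t0, tv⟩ h
    simp only [Subtype.mk.injEq, Prod.mk.injEq] at h
    obtain ⟨h1, h2, h3⟩ := h
    refine Subtype.ext (Equiv.ext fun x => ?_)
    obtain ⟨p, hp⟩ := hi.surjective (σ x + τ x)
    have key : ∀ s, σ s = τ s → alt s p = 0 := fun s hs => by
      rw [← hi.map_alt, hp, alt_add_right, hi.map_alt]
      rw [hs, ti.map_alt, z2_add_self]
    have hp0 := hspan p (key e0 (h0.trans t0.symm)) (key f0 h1) (key _ h2) (key _ h3)
      fun v h h' => key _ ((hv v h h').trans (tv v h h').symm)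
    rw [hp0, hi.map_zero] at hp
    calc σ x = σ x + τ x + τ x := by rw [add_assoc, sp_add_self, add_zero]
      _ = τ x := by rw [← hp, zero_add]
  calc Nat.card (stab a b) ≤ Nat.card {p // p ∈ L.toFinset} := Nat.card_le_card_of_injective _ hinj
    _ = L.toFinset.card := by rw [Nat.card_eq_fintype_card, Fintype.card_coe]
    _ ≤ L.length := List.toFinset_card_le L
    _ ≤ N := hcand

variable {G : Type*} [Group G]

namespace Setup

variable {z : G} {Q : Subgroup G} {e : ↥Q ≃* ES 4 (ff 4)} (S : Setup z Q e)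
include S
variable [Finite G]

theorem cardQ : Nat.card Q = 2 ^ 9 := by rw [Nat.card_congr e.toEquiv, card_ES]

theorem conj_shift {c : G} (hc : c ∈ centralizer ({z} : Set G)) {v w : Sp 4} {j : ZMod 2}
    (h : c * el e v 0 * c⁻¹ = el e w j) (k : ZMod 2) : c * el e v k * c⁻¹ = el e w (j + k) := by
  rcases z2_cases k with rfl | rfl
  · rw [h, add_zero]
  · have hcz : c * z * c⁻¹ = z := mul_inv_eq_iff_eq_mul.2 (mem_centralizer_singleton_iff.1 hc)
    rw [show (1 : ZMod 2) = 0 + 1 from rfl, S.el_add_one, zero_add, S.el_add_one, ← h]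
    conv_rhs => rw [← hcz]
    group

/-- An involution of `C(z)` centralises at least sixteen elements of `Q`. -/
theorem card_cent_ge {c : G} (hc : c ∈ centralizer ({z} : Set G)) (hc2 : c * c = 1) :
    16 ≤ Nat.card ↥(Q ⊓ centralizer ({c} : Set G)) := by
  classical
  have hi := S.act_isom hc
  let f : Sp 4 →+ Sp 4 := AddMonoidHom.mk' (fun v => act e c v + v)
    (fun u v => by rw [hi.map_add, add_add_add_comm])
  have hle : f.range ≤ f.ker := by
    rintro - ⟨v, rfl⟩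
    show act e c (act e c v + v) + (act e c v + v) = 0
    rw [fix_range hi (S.act_invol hc hc2), sp_add_self]
  have h1 : Nat.card (Sp 4) = Nat.card f.range * Nat.card f.ker := by
    rw [AddSubgroup.card_eq_card_quotient_mul_card_addSubgroup f.ker,
      Nat.card_congr (QuotientAddGroup.quotientKerEquivRange f).toEquiv]
  have h256 : Nat.card (Sp 4) = 256 := by
    simp [Nat.card_eq_fintype_card, Fintype.card_fun, Fintype.card_prod, ZMod.card]
  have h2 : Nat.card f.range ≤ Nat.card f.ker :=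
    Nat.card_le_card_of_injective _ (AddSubgroup.inclusion_injective hle)
  have hker : 16 ≤ Nat.card f.ker := by
    by_contra hlt
    push Not at hlt
    have := Nat.mul_le_mul (le_trans h2 (Nat.le_of_lt_succ hlt)) (Nat.le_of_lt_succ hlt)
    omega
  have hfix : ∀ v : f.ker, ∃ d, c * el e (v : Sp 4) 0 * c⁻¹ = el e (v : Sp 4) d := by
    rintro ⟨v, hv⟩
    obtain ⟨d, hd⟩ := S.conj_el hc v 0
    have hv' : act e c v + v = 0 := hv
    refine ⟨d, ?_⟩
    rw [hd, show act e c v = v by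
      calc act e c v = act e c v + v + v := by rw [add_assoc, sp_add_self, add_zero]
        _ = v := by rw [hv', zero_add]]
  choose δ hδ using hfix
  let D : f.ker →+ ZMod 2 := AddMonoidHom.mk' δ (fun u v => by
    have h3 := S.conj_shift hc (hδ (u + v)) (beta (ff 4) (u : Sp 4) (v : Sp 4))
    have h4 : el e ((u + v : f.ker) : Sp 4) (beta (ff 4) (u : Sp 4) (v : Sp 4)) =
        el e (u : Sp 4) 0 * el e (v : Sp 4) 0 := by
      rw [el_mul, AddSubgroup.coe_add, add_zero, zero_add]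
    rw [h4, show c * (el e (u : Sp 4) 0 * el e (v : Sp 4) 0) * c⁻¹ =
      (c * el e (u : Sp 4) 0 * c⁻¹) * (c * el e (v : Sp 4) 0 * c⁻¹) by group, hδ u, hδ v, el_mul] at h3
    have := (el_inj (e := e) h3).2
    exact (by decide : ∀ a b x y : ZMod 2, a + b + y = x + y → x = a + b) _ _ _ _ this)
  have hD : 8 ≤ Nat.card D.ker := by
    have h3 : Nat.card f.ker = Nat.card D.range * Nat.card D.ker := by
      rw [AddSubgroup.card_eq_card_quotient_mul_card_addSubgroup D.ker,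
        Nat.card_congr (QuotientAddGroup.quotientKerEquivRange D).toEquiv]
    have h4 : Nat.card D.range ≤ 2 := le_trans
      (Nat.card_le_card_of_injective _ Subtype.val_injective) (by simp [Nat.card_eq_fintype_card])
    have := Nat.mul_le_mul_right (Nat.card D.ker) h4
    omega
  have hmem : ∀ p : D.ker × ZMod 2,
      el e ((p.1 : f.ker) : Sp 4) p.2 ∈ Q ⊓ centralizer ({c} : Set G) := by
    rintro ⟨⟨v, hv⟩, k⟩
    refine mem_inf.2 ⟨el_mem _ _, mem_centralizer_singleton_iff.2 ?_⟩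
    have h := S.conj_shift hc (hδ v) k
    rw [show δ v = 0 from hv, zero_add] at h
    exact (mul_inv_eq_iff_eq_mul.1 h).symm
  have hinj : Function.Injective (fun p : D.ker × ZMod 2 =>
      (⟨_, hmem p⟩ : ↥(Q ⊓ centralizer ({c} : Set G)))) := by
    rintro ⟨v, k⟩ ⟨w, m⟩ h
    have h' := congrArg Subtype.val h
    obtain ⟨h5, h6⟩ := el_inj (e := e) h'
    exact Prod.ext (Subtype.ext (Subtype.ext h5)) h6
  have h7 := Nat.card_le_card_of_injective _ hinj
  rw [Nat.card_prod, Nat.card_zmod] at h7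
  omega

end Setup

namespace Tri

variable {z : G} {Q : Subgroup G} {e : ↥Q ≃* ES 4 (ff 4)} {ρ : G} (T : Tri z Q e ρ)
include T
variable [Finite G]

theorem dl_comm_nm (v a b : Sp 3) : dl e v * nm z e ρ 0 0 a b =
    ep z e (alt v a + alt v b) (alt v a) * (nm z e ρ 0 0 a b * dl e v) := by
  rw [← T.nm_dl v, T.nm_mul, T.nm_mul, ← T.nm_ep, T.nm_mul]
  simp only [alt_zero_left, alt_zero_right, beta_zero_left, beta_zero_right, zero_add, add_zero]
  rw [add_comm v b, ← beta_symm (ff 3) v b]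
  congr 1
  exact (by decide : ∀ p x y : ZMod 2, p + x = p + (x + y) + y) _ _ _

/-- Elements of `Q` centralising the standard element centralise the four-group. -/
theorem centQ_x {a b : Sp 3} (ha : a ≠ 0) {y : G} (hy : y ∈ Q)
    (hyt : y * nm z e ρ 0 0 a b = nm z e ρ 0 0 a b * y) : y * xe e = xe e * y := by
  have S := T.setup
  by_contra hne
  have hx := S.xe_facts
  have hc1 := S.pack.conj_cases hy hx.1
  have hyx : y * xe e * y⁻¹ = z * xe e := by
    rcases hc1 with h | h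
    · exact absurd (mul_inv_eq_iff_eq_mul.1 h) hne
    · exact h
  have hg : (y * qe e) * xe e = xe e * (y * qe e) := by
    refine mul_inv_eq_iff_eq_mul.1 ?_
    rw [show y * qe e * xe e * (y * qe e)⁻¹ = y * (qe e * xe e * (qe e)⁻¹) * y⁻¹ by group,
      inv_eq_of_mul_eq_one_right T.q_sq, hx.2.2.2.2.2.2,
      show y * (xe e * z) * y⁻¹ = (y * xe e * y⁻¹) * (y * z * y⁻¹) by group, hyx,
      mul_inv_eq_iff_eq_mul.2 (S.pack.comm_z hy), ← T.pair.comm, mul_assoc, T.pair.hz2, mul_one]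
  obtain ⟨k, l, d, hd⟩ := T.exists_ep_dl (mul_mem hy hx.2.2.2.2.1) hg
  have hy' : y = nm z e ρ k l 0 d * qe e := by
    rw [nm, T.yl_zero, one_mul, ← hd, mul_assoc, T.q_sq, mul_one]
  rw [hy'] at hyt
  have e1 : nm z e ρ k l 0 d * (qe e * nm z e ρ 0 0 a b * qe e) =
      nm z e ρ 0 0 a b * nm z e ρ k l 0 d := by
    calc nm z e ρ k l 0 d * (qe e * nm z e ρ 0 0 a b * qe e)
        = nm z e ρ k l 0 d * qe e * nm z e ρ 0 0 a b * qe e := by simp only [mul_assoc]
      _ = nm z e ρ 0 0 a b * (nm z e ρ k l 0 d * qe e) * qe e := by rw [hyt]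
      _ = _ := by rw [mul_assoc, mul_assoc (nm z e ρ k l 0 d), T.q_sq, mul_one]
  rw [T.nm_q, T.nm_mul, T.nm_mul] at e1
  obtain ⟨-, -, -, h⟩ := T.nm_inj e1
  refine ha ?_
  rw [add_comm b d] at h
  have h' := add_left_cancel h
  calc a = a + b + b := by rw [add_assoc, sp_add_self, add_zero]
    _ = 0 := by rw [h', sp_add_self]

/-- The part of a conjugate of `Q` in `C(z)` meets `Q` trivially. -/
theorem meet_trivial {a b : Sp 3} (ha : a ≠ 0)
    (h1 : ∀ c : Sp 3, c ≠ 0 → ∃ v, alt v c = 0 ∧ ¬ (alt v a = 0 ∧ alt v b = 0))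
    (h2 : ∃ v, alt v a = 0 ∧ alt v b = 1) {g : G} (hg : g * z * g⁻¹ = nm z e ρ 0 0 a b) {y : G}
    (hy : y ∈ Q) (hyt : y ∈ Q.map (MulAut.conj g).toMonoidHom) : y = 1 := by
  have S := T.setup
  by_contra hy1
  set t := nm z e ρ 0 0 a b with ht
  have htQ : t ∉ Q := fun hq => ha (by
    obtain ⟨i, j, d, hd⟩ := T.exists_ep_dl hq (T.nm_ce 0 0 a b).2
    have : t = nm z e ρ i j 0 d := by rw [nm, T.yl_zero, one_mul]; exact hd
    exact (T.nm_inj this).2.2.1)
  have hzR : z ∉ Q.map (MulAut.conj g).toMonoidHom := fun hz => by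
    obtain ⟨y0, hy0, hy0e⟩ := hz
    change g * y0 * g⁻¹ = z at hy0e
    obtain ⟨q, hq, hqe⟩ := S.pack.mem_conj (g := g⁻¹) (show g⁻¹ * z * g⁻¹⁻¹ ∈ Q by
      rw [inv_inv, ← hy0e, show g⁻¹ * (g * y0 * g⁻¹) * g = y0 by group]; exact hy0)
    change g⁻¹ * q * g⁻¹⁻¹ = z at hqe
    refine htQ ?_
    rw [← hg, ← hqe, show g * (g⁻¹ * q * g⁻¹⁻¹) * g⁻¹ = q by group]
    exact hq
  have hyc : y * t = t * y := by
    obtain ⟨y0, hy0, rfl⟩ := hyt
    show g * y0 * g⁻¹ * t = t * (g * y0 * g⁻¹)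
    rw [← hg, show g * y0 * g⁻¹ * (g * z * g⁻¹) = g * (y0 * z) * g⁻¹ by group, S.pack.comm_z hy0]
    group
  obtain ⟨k, l, c, hc⟩ := T.exists_ep_dl hy (T.centQ_x ha hy hyc)
  have hy2 : y * y = 1 := by
    obtain ⟨v, m, hvm⟩ := Setup.exists_el (e := e) hy
    rcases z2_cases (qd v) with h | h
    · rw [hvm, S.el_sq, h, Setup.el_zero]
    · refine absurd ?_ hzR
      have := mul_mem hyt hyt
      rwa [hvm, S.el_sq, h, S.el_one] at this
  have hyz : y ≠ z := fun h => hzR (h ▸ hyt)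
  obtain ⟨h, hh⟩ := isConj_iff.1 (S.isConj_z hy hy2 hy1)
  obtain ⟨hxQ, hx2, hx1, hxz, -, -, -⟩ := S.xe_facts
  obtain ⟨w, hw, hwy⟩ := S.isConj_H hy hy2 hy1 hyz hxQ hx2 hx1 hxz
  -- `t` lies in the conjugate of `Q` belonging to `y`
  have htT : w * t * w⁻¹ ∈ Q.map (MulAut.conj ρ).toMonoidHom := by
    rw [← S.pack.map_eq_of_eq (g := w * h) (g' := ρ)
      (by rw [T.rho_z, show w * h * z * (w * h)⁻¹ = w * (h * z * h⁻¹) * w⁻¹ by group, hh, hwy])]
    obtain ⟨y0, hy0, hy0e⟩ := hyt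
    change g * y0 * g⁻¹ = y at hy0e
    obtain ⟨q, hq, hqe⟩ := S.pack.mem_conj (g := g⁻¹ * h)
      (show g⁻¹ * h * z * (g⁻¹ * h)⁻¹ ∈ Q by
        rw [show g⁻¹ * h * z * (g⁻¹ * h)⁻¹ = g⁻¹ * (h * z * h⁻¹) * g by group, hh, ← hy0e,
          show g⁻¹ * (g * y0 * g⁻¹) * g = y0 by group]
        exact hy0)
    change g⁻¹ * h * q * (g⁻¹ * h)⁻¹ = z at hqe
    refine ⟨q, hq, ?_⟩
    show w * h * q * (w * h)⁻¹ = w * t * w⁻¹
    rw [← hg, ← hqe]; group
  have hwt : w * t * w⁻¹ * z = z * (w * t * w⁻¹) := mem_centralizer_singleton_iff.1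
    (mul_mem (mul_mem hw (memH (T.nm_ce 0 0 a b))) (inv_mem hw))
  obtain ⟨t0, ht0, ht0e⟩ := htT
  change ρ * t0 * ρ⁻¹ = w * t * w⁻¹ at ht0e
  have ht0x : t0 * xe e = xe e * t0 := by
    have h3 : t0 * (xe e * z) = xe e * z * t0 := by
      calc t0 * (xe e * z) = ρ⁻¹ * (ρ * t0 * ρ⁻¹ * (ρ * (xe e * z) * ρ⁻¹)) * ρ := by group
        _ = ρ⁻¹ * (ρ * (xe e * z) * ρ⁻¹ * (ρ * t0 * ρ⁻¹)) * ρ := by rw [T.rho_xz, ht0e, hwt]
        _ = (xe e * z) * t0 := by group
    calc t0 * xe e = t0 * (xe e * z) * z := by rw [mul_assoc, mul_assoc, T.pair.hz2, mul_one]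
      _ = xe e * (z * t0) * z := by rw [h3]; simp only [mul_assoc]
      _ = xe e * t0 := by
          rw [← S.pack.comm_z ht0]; simp only [mul_assoc, T.pair.hz2, mul_one]
  obtain ⟨i', j', a', ha'⟩ := T.exists_ep_dl ht0 ht0x
  have hwtw : w * t * w⁻¹ = ep z e j' (i' + j') * yl e ρ a' := by
    rw [← ht0e, ha', show ρ * (ep z e i' j' * dl e a') * ρ⁻¹ =
      ρ * ep z e i' j' * ρ⁻¹ * (ρ * dl e a' * ρ⁻¹) by group, T.ep_conj_rho]
    rfl
  have key : ∀ v, alt v c = 0 →
      ep z e (alt v a + alt v b) (alt v a) = 1 ∨ ep z e (alt v a + alt v b) (alt v a) = y * z := by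
    intro v hv
    have hdy : dl e v * y = y * dl e v := by
      rw [hc, T.ce_comm_left (T.dl_ce v), T.dl_comm, hv, T.ep_zero, one_mul, mul_assoc]
    have hwd : w * dl e v * w⁻¹ ∈ Q := S.conj_mem hw (Setup.el_mem _ _)
    obtain ⟨i, j, v', hv'⟩ := T.exists_ep_dl hwd (by
      rw [← hwy, show w * dl e v * w⁻¹ * (w * y * w⁻¹) = w * (dl e v * y) * w⁻¹ by group, hdy]
      group)
    have e1 : w * ep z e (alt v a + alt v b) (alt v a) * w⁻¹ = ep z e (alt v' a') (alt v' a') := by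
      have e0' : ep z e (alt v a + alt v b) (alt v a) = dl e v * t * (dl e v)⁻¹ * t⁻¹ := by
        have hd := T.dl_comm_nm v a b
        rw [← ht] at hd
        rw [hd]; group
      rw [e0', show w * (dl e v * t * (dl e v)⁻¹ * t⁻¹) * w⁻¹ = w * dl e v * w⁻¹ *
        (w * t * w⁻¹) * (w * dl e v * w⁻¹)⁻¹ * (w * t * w⁻¹)⁻¹ by group, hv', hwtw,
        mul_inv_eq_iff_eq_mul, mul_inv_eq_iff_eq_mul]
      simp only [mul_assoc]
      rw [T.ce_comm_left (T.dl_ce v'), T.ce_comm_left (T.yl_ce a'), T.dl_yl]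
      simp only [T.ep_mul_left]
      congr 2 <;> ring
    rcases z2_cases (alt v' a') with hp | hp <;> rw [hp] at e1
    · left
      rw [T.ep_zero] at e1
      calc ep z e (alt v a + alt v b) (alt v a)
          = w⁻¹ * (w * ep z e (alt v a + alt v b) (alt v a) * w⁻¹) * w := by group
        _ = 1 := by rw [e1]; group
    · right
      have e2 : ep z e 1 1 = w * (y * z) * w⁻¹ := by
        rw [show w * (y * z) * w⁻¹ = (w * y * w⁻¹) * (w * z * w⁻¹) by group, hwy,
          mul_inv_eq_iff_eq_mul.2 (mem_centralizer_singleton_iff.1 hw), ep, pw_one, pw_one,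
          T.pair.comm]
      calc ep z e (alt v a + alt v b) (alt v a)
          = w⁻¹ * (w * ep z e (alt v a + alt v b) (alt v a) * w⁻¹) * w := by group
        _ = y * z := by rw [e1, e2]; group
  have hyz' : y * z = nm z e ρ (k + 1) l 0 c := by
    have hz : ep z e k l * z = ep z e (k + 1) l := by
      conv_lhs => arg 2; rw [show z = ep z e 1 0 by rw [ep, pw_one, pw_zero, mul_one]]
      rw [T.ep_mul, add_zero]
    rw [nm, T.yl_zero, one_mul, hc, mul_assoc, (T.dl_ce c).1, ← mul_assoc, hz]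
  by_cases hc0 : c = 0
  · obtain ⟨v, hva, hvb⟩ := h2
    rcases key v (by rw [hc0, alt_zero_right]) with h | h <;> rw [hva, hvb, zero_add] at h
    · exact one_ne_zero (T.ep_inj (h.trans T.ep_zero.symm)).1
    · rw [hyz', hc0, T.nm_ep] at h
      obtain ⟨e1, e2⟩ := T.ep_inj h
      have hk : k = 0 := (by decide : ∀ k : ZMod 2, 1 = k + 1 → k = 0) k e1
      exact hy1 (by rw [hc, hc0, hk, ← e2, T.ep_zero, one_mul, T.dl_zero])
  · obtain ⟨v, hv, hvn⟩ := h1 c hc0
    rcases key v hv with h | h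
    · obtain ⟨e1, e2⟩ := T.ep_inj (h.trans T.ep_zero.symm)
      rw [e2, zero_add] at e1
      exact hvn ⟨e2, e1⟩
    · rw [hyz', ← T.nm_ep] at h
      exact hc0 (T.nm_inj h).2.2.2.symm

/-- A conjugate of `z` among the standard elements gives a large stabiliser. -/
theorem exists_big_stab {a b : Sp 3} (ha : a ≠ 0)
    (h1 : ∀ c : Sp 3, c ≠ 0 → ∃ v, alt v c = 0 ∧ ¬ (alt v a = 0 ∧ alt v b = 0))
    (h2 : ∃ v, alt v a = 0 ∧ alt v b = 1) (hconj : IsConj z (nm z e ρ 0 0 a b)) :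
    ∃ D : Subgroup (Equiv.Perm (Sp 4)), D ≤ stab a b ∧ 16 ≤ Nat.card D ∧
      Nat.card D ∣ 2 ^ 9 := by
  have S := T.setup
  obtain ⟨g, hg⟩ := isConj_iff.1 hconj
  set t := nm z e ρ 0 0 a b with ht
  set R := Q.map (MulAut.conj g).toMonoidHom with hR
  have hz' : g⁻¹ * z * g ∈ centralizer ({z} : Set G) := mem_centralizer_singleton_iff.2 (by
    have htz : t * z = z * t := (T.nm_ce 0 0 a b).1
    rw [← hg] at htz
    calc g⁻¹ * z * g * z = g⁻¹ * (z * (g * z * g⁻¹)) * g := by group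
      _ = g⁻¹ * (g * z * g⁻¹ * z) * g := by rw [htz]
      _ = z * (g⁻¹ * z * g) := by group)
  have hz'2 : g⁻¹ * z * g * (g⁻¹ * z * g) = 1 := by
    calc g⁻¹ * z * g * (g⁻¹ * z * g) = g⁻¹ * (z * z) * g := by group
      _ = 1 := by rw [S.pack.z_mul_z]; group
  have hge := S.card_cent_ge hz' hz'2
  let A : Subgroup G := R ⊓ centralizer ({z} : Set G)
  have hcardA : 16 ≤ Nat.card A := by
    refine hge.trans (Nat.card_le_card_of_injective
      (fun p => (⟨g * p.1 * g⁻¹, mem_inf.2 ⟨⟨p.1, (mem_inf.1 p.2).1, rfl⟩,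
        mem_centralizer_singleton_iff.2 ?_⟩⟩ : A)) fun p q h => Subtype.ext ?_)
    · have h' := mem_centralizer_singleton_iff.1 (mem_inf.1 p.2).2
      calc g * p.1 * g⁻¹ * z = g * (p.1 * (g⁻¹ * z * g)) * g⁻¹ := by group
        _ = g * ((g⁻¹ * z * g) * p.1) * g⁻¹ := by rw [h']
        _ = z * (g * p.1 * g⁻¹) := by group
    · exact mul_left_cancel (mul_right_cancel (congrArg Subtype.val h))
  have hdvd : Nat.card A ∣ 2 ^ 9 := by
    have := Subgroup.card_dvd_of_le (inf_le_left : A ≤ R)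
    rwa [hR, Subgroup.card_map_of_injective (MulAut.conj g).injective, S.cardQ] at this
  have hAH : ∀ d : A, (d : G) ∈ centralizer ({z} : Set G) := fun d => (mem_inf.1 d.2).2
  have hfix : ∀ d : A, ∀ w ∈ Q, w * t = t * w → (d : G) * w = w * d := by
    intro d w hw hwt
    have hk := S.pack.map g
    rw [show g * z * g⁻¹ = t from hg, ← hR] at hk
    refine (inv_mul_eq_one.1 (T.meet_trivial ha h1 h2 hg (y := (w * d)⁻¹ * (d * w)) ?_ ?_)).symm
    · rw [show (w * d : G)⁻¹ * (d * w) = ((d : G)⁻¹ * w⁻¹ * d) * w by group]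
      refine mul_mem ?_ hw
      have := S.conj_mem (inv_mem (hAH d)) (inv_mem hw)
      rwa [inv_inv] at this
    · rw [show (w * d : G)⁻¹ * (d * w) = (d : G)⁻¹ * (w⁻¹ * d * w) by group]
      refine mul_mem (inv_mem (mem_inf.1 d.2).1) ?_
      have := (mem_normalizer_iff.1 (hk.norm (inv_mem (mem_centralizer_singleton_iff.2 hwt))) d).1
        (mem_inf.1 d.2).1
      rwa [inv_inv] at this
  have hbij : ∀ d : A, Function.Bijective (act e (d : G)) := fun d =>
    ⟨(S.act_isom (hAH d)).injective, (S.act_isom (hAH d)).surjective⟩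
  let φ : A →* Equiv.Perm (Sp 4) :=
    { toFun := fun d => Equiv.ofBijective _ (hbij d)
      map_one' := Equiv.ext fun v => S.act_one v
      map_mul' := fun c d => Equiv.ext fun v => S.act_mul (hAH c) (hAH d) v }
  have hinj : Function.Injective φ := by
    refine (injective_iff_map_eq_one φ).2 fun d hd => Subtype.ext ?_
    exact T.meet_trivial ha h1 h2 hg
      (S.mem_of_act (hAH d) fun v => congrArg (fun σ : Equiv.Perm (Sp 4) => σ v) hd)
      (mem_inf.1 d.2).1
  have hcard : Nat.card φ.range = Nat.card A :=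
    Nat.card_congr (MonoidHom.ofInjective hinj).toEquiv.symm
  refine ⟨φ.range, ?_, by omega, by rw [hcard]; exact hdvd⟩
  rintro - ⟨d, rfl⟩
  refine ⟨S.act_isom (hAH d), ?_, fun v hva hvb => ?_⟩
  · exact T.act_e0 ⟨mem_centralizer_singleton_iff.1 (hAH d),
      hfix d _ S.xe_facts.1 (T.nm_ce 0 0 a b).2.symm⟩
  · show act e (d : G) (up v) = up v
    refine S.act_eq (hAH d) (k := 0) (k' := 0) (mul_inv_eq_iff_eq_mul.2 (hfix d (dl e v)
      (Setup.el_mem _ _) ?_))
    rw [T.dl_comm_nm, alt_comm v a, alt_comm v b, hva, hvb, add_zero, T.ep_zero, one_mul]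

omit T [Finite G] in
theorem dual_sing : (∀ c : Sp 3, c ≠ 0 → ∃ v, alt v c = 0 ∧ ¬ (alt v sa = 0 ∧ alt v sb = 0)) ∧
    ∃ v, alt v sa = 0 ∧ alt v sb = 1 := by decide +kernel

omit T [Finite G] in
theorem dual_ell : (∀ c : Sp 3, c ≠ 0 → ∃ v, alt v c = 0 ∧ ¬ (alt v ea = 0 ∧ alt v eb = 0)) ∧
    ∃ v, alt v ea = 0 ∧ alt v eb = 1 := by decide +kernel

theorem not_conj_sing : ¬ IsConj z (nm z e ρ 0 0 sa sb) := fun h => by
  obtain ⟨D, hD, h16, -⟩ := T.exists_big_stab (by decide : sa ≠ 0) dual_sing.1 dual_sing.2 h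
  have := card_stab_le fix_perp_sing fix_span_sing card_cand_sing
  have := Subgroup.card_le_of_le hD
  omega

omit T [Finite G] in
theorem ell_three : (∀ v : Sp 4, refl (up ea) (refl (up eb) (refl (up ea) (refl (up eb)
    (refl (up ea) (refl (up eb) v))))) = v) ∧ refl (up ea) (refl (up eb) (up ea)) ≠ up ea := by
  decide +kernel

theorem not_conj_ell : ¬ IsConj z (nm z e ρ 0 0 ea eb) := fun h => by
  obtain ⟨D, hD, h16, hdvd⟩ := T.exists_big_stab (by decide : ea ≠ 0) dual_ell.1 dual_ell.2 h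
  have hle := card_stab_le fix_perp_ell fix_span_ell card_cand_ell
  have qa : qd (up ea) = 1 := by rw [qd_up]; exact basic_facts.2.2.2.2.2.2.2.2.2.1
  have qb : qd (up eb) = 1 := by rw [qd_up]; exact basic_facts.2.2.2.2.2.2.2.2.2.2.1
  have hi : Isom (refl (up ea) ∘ refl (up eb)) := (refl_isom qa).comp (refl_isom qb)
  obtain ⟨r, hr⟩ : ∃ r : Equiv.Perm (Sp 4), ∀ v, r v = refl (up ea) (refl (up eb) v) :=
    ⟨Equiv.ofBijective _ ⟨hi.injective, hi.surjective⟩, fun _ => rfl⟩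
  have hrm : r ∈ stab ea eb := by
    refine ⟨?_, ?_, fun v h h' => ?_⟩
    · rw [show (r : Sp 4 → Sp 4) = refl (up ea) ∘ refl (up eb) from funext hr]; exact hi
    · rw [hr, (refl_up_fix eb).1, (refl_up_fix ea).1]
    · rw [hr, refl_up, refl_up, refl_of_alt (show alt v eb = 0 by rw [alt_comm, h']),
        refl_of_alt (show alt v ea = 0 by rw [alt_comm, h])]
  have h3 : orderOf r = 3 := by
    haveI : Fact (Nat.Prime 3) := ⟨Nat.prime_three⟩
    refine orderOf_eq_prime (Equiv.ext fun v => ?_) fun h => ?_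
    · rw [pow_succ, pow_two]
      show r (r (r v)) = v
      rw [hr, hr, hr]
      exact ell_three.1 v
    · have := ell_three.2
      rw [← hr, h] at this
      exact this rfl
  have d3 : 3 ∣ Nat.card (stab ea eb) := h3 ▸ Subgroup.orderOf_dvd_natCard _ hrm
  obtain ⟨k, -, hk⟩ := (Nat.dvd_prime_pow Nat.prime_two).1 hdvd
  have hk4 : 4 ≤ k := by
    by_contra hlt
    have := Nat.pow_le_pow_right (show 2 > 0 by norm_num) (Nat.le_of_lt_succ (not_le.1 hlt))
    omega
  have d16 : 16 ∣ Nat.card (stab ea eb) :=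
    ((pow_dvd_pow 2 hk4).trans (dvd_of_eq hk.symm)).trans (Subgroup.card_dvd_of_le hD)
  have d48 := Nat.Coprime.mul_dvd_of_dvd_of_dvd (by norm_num : Nat.Coprime 3 16) d3 d16
  have := Nat.le_of_dvd Nat.card_pos d48
  omega

end Tri

end CfsgLib.ClassK.Conway
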