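import Cfsg.Agent.Lib.ClassK.ConwayCount
import Cfsg.Agent.Lib.ClassK.ConwaySep
import Mathlib.GroupTheory.Nilpotent

/-!
The two standard involutions have centralisers with Sylow 2-subgroups of different orders.
-/

set_option autoImplicit false
set_option maxRecDepth 20000

namespace CfsgLib.ClassK.Conway

open Subgroup CfsgLib.Trans3.ExtraTwo
open CfsgLib.PLocal.LargeExtra

theorem z2_lem1 : ∀ j p : ZMod 2, j = j + p → p = 0 := by decide

theorem z2_lem2 : ∀ i x y : ZMod 2, i + y = i + x → x + y = 0 := by decide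

theorem z2_lem3 : ∀ i p q x y : ZMod 2, i + p + x = i + q + y → p + q + (x + y) = 0 := by decide

theorem ell_perp_dual : ∀ a b : Sp 3,
    (∀ v, alt ea v = 0 → alt eb v = 0 → alt v a = 0 ∧ alt v b = 0) →
    (a = 0 ∨ a = ea ∨ a = eb ∨ a = ea + eb) ∧ (b = 0 ∨ b = ea ∨ b = eb ∨ b = ea + eb) := by
  intro a b h
  exact ⟨perp_perp_ell a fun v h1 h2 => by rw [alt_comm]; exact (h v h1 h2).1,
    perp_perp_ell b fun v h1 h2 => by rw [alt_comm]; exact (h v h1 h2).2⟩

theorem ell_comm_pairs : ∀ a ∈ [0, ea, eb, ea + eb], ∀ b ∈ [0, ea, eb, ea + eb],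
    alt b ea + alt eb a + alt b eb = 0 → alt b ea + alt eb a + alt a ea = 0 →
    (a = 0 ∧ b = 0) ∨ (a = ea ∧ b = eb) ∨ (a = eb ∧ b = ea + eb) ∨ (a = ea + eb ∧ b = ea) := by
  decide +kernel

theorem ell_swap : refl ea (refl n3 ea) = ea ∧ refl ea (refl n3 eb) = ea + eb ∧
    refl ea (refl n3 (ea + eb)) = eb ∧
    ∀ p r : ZMod 2, ∃ c, alt c ea = p ∧ alt c eb = r := by decide +kernel

/-- An isometry fixing the orthogonal of the elliptic pair is determined by its values on it. -/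
theorem ell_ext {f g : Sp 3 → Sp 3} (hf : Isom f) (hg : Isom g)
    (hfv : ∀ v, alt ea v = 0 → alt eb v = 0 → f v = v)
    (hgv : ∀ v, alt ea v = 0 → alt eb v = 0 → g v = v) (ha : f ea = g ea) (hb : f eb = g eb)
    (x : Sp 3) : f x = g x := by
  obtain ⟨p, hp⟩ := hf.surjective (f x + g x)
  have key : ∀ s, f s = g s → alt s p = 0 := fun s hs => by
    rw [← hf.map_alt, hp, alt_add_right, hf.map_alt, hs, hg.map_alt, z2_add_self]
  have hp0 : p = 0 := ell_total p (key ea ha) (key eb hb) fun v h h' => by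
    rw [alt_comm]; exact key v ((hfv v h h').trans (hgv v h h').symm)
  rw [hp0, hf.map_zero] at hp
  calc f x = f x + g x + g x := by rw [add_assoc, sp_add_self, add_zero]
    _ = g x := by rw [← hp, zero_add]

theorem iterate_two_three {α : Type*} {σ : α → α} {x : α} {k : ℕ} (h2 : σ^[2 ^ k] x = x)
    (h3 : σ^[3] x = x) : σ x = x := by
  have h := Function.IsPeriodicPt.gcd (show Function.IsPeriodicPt σ (2 ^ k) x from h2)
    (show Function.IsPeriodicPt σ 3 x from h3)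
  rw [show Nat.gcd (2 ^ k) 3 = 1 from Nat.Coprime.pow_left k (by norm_num)] at h
  exact h

variable {G : Type*} [Group G] [Finite G]

namespace Tri

variable {z : G} {Q : Subgroup G} {e : ↥Q ≃* ES 4 (ff 4)} {ρ : G} (T : Tri z Q e ρ)
include T

theorem sig_pow {c : G} (hc : CE z e c) (n : ℕ) (v : Sp 3) :
    sig e (c ^ n) v = (sig e c)^[n] v := by
  induction n generalizing v with
  | zero => rw [pow_zero, ← T.nm_one, T.sig_nm]; rfl
  | succ n ih =>
    rw [pow_succ, T.sig_mul ⟨(Commute.pow_left hc.1 n).eq, (Commute.pow_left hc.2 n).eq⟩ hc, ih,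
      Function.iterate_succ_apply]

/-- A two-element of `C(E)` fixing the orthogonal of the elliptic pair acts trivially. -/
theorem sig_two {c : G} (hc : CE z e c) {k : ℕ} (hk : c ^ (2 ^ k) = 1)
    (hfix : ∀ v, alt ea v = 0 → alt eb v = 0 → sig e c v = v) (v : Sp 3) : sig e c v = v := by
  obtain ⟨-, -, -, -, -, -, -, -, -, qa, qb, qab, -⟩ := basic_facts
  have hi := T.sig_isom hc
  have hcase : ∀ w, qd w = 1 → (∀ u, alt ea u = 0 → alt eb u = 0 → alt w u = 0) →
      w = ea ∨ w = eb ∨ w = ea + eb := fun w hw h => by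
    rcases perp_perp_ell w h with rfl | h' | h' | h'
    · rw [qd_zero] at hw; exact absurd hw zero_ne_one
    exacts [Or.inl h', Or.inr (Or.inl h'), Or.inr (Or.inr h')]
  have himg : ∀ w, qd w = 1 → (w = ea ∨ w = eb) →
      sig e c w = ea ∨ sig e c w = eb ∨ sig e c w = ea + eb := by
    intro w hw hw'
    refine hcase _ (by rw [hi.map_qd, hw]) fun u h h' => ?_
    rw [← hfix u h h', hi.map_alt]
    rcases hw' with rfl | rfl
    exacts [h, h']
  have hne : sig e c ea ≠ sig e c eb := fun h => absurd (hi.injective h) (by decide)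
  have qab' : qd (ea + eb) = 1 := by rw [qd_add, qa, qb, qab]; decide
  have hr : ∀ r, qd r = 1 → (∀ u, alt ea u = 0 → alt eb u = 0 → alt u r = 0) →
      sig e c ea = refl r ea → sig e c eb = refl r eb → False := fun r hr hrp h h' => by
    obtain ⟨w, hw⟩ := T.no_refl hc hr
    exact hw (ell_ext hi (refl_isom hr) hfix (fun u a b => refl_of_alt (hrp u a b)) h h' w)
  have h3 : (sig e c)^[3] ea = ea → sig e c ea = ea := fun h => iterate_two_three (k := k) (by
    rw [← T.sig_pow hc, hk, ← T.nm_one, T.sig_nm]) h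
  have rr : refl ea ea = ea ∧ refl ea eb = ea + eb ∧ refl eb ea = ea + eb ∧ refl eb eb = eb ∧
      refl (ea + eb) ea = eb ∧ refl (ea + eb) eb = ea ∧ ea + eb ≠ ea ∧ eb ≠ ea := by
    decide +kernel
  obtain ⟨r1, r2, r3, r4, r5, r6, n1, n2⟩ := rr
  have pa : ∀ u, alt ea u = 0 → alt eb u = 0 → alt u ea = 0 := fun u h _ => by rw [alt_comm, h]
  have pb : ∀ u, alt ea u = 0 → alt eb u = 0 → alt u eb = 0 := fun u _ h => by rw [alt_comm, h]
  have pab : ∀ u, alt ea u = 0 → alt eb u = 0 → alt u (ea + eb) = 0 := fun u h h' => by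
    rw [alt_add_right, pa u h h', pb u h h', add_zero]
  rcases himg ea qa (Or.inl rfl) with h | h | h <;> rcases himg eb qb (Or.inr rfl) with h' | h' | h'
  · exact absurd (h.trans h'.symm) hne
  · exact ell_ext hi isom_id hfix (fun _ _ _ => rfl) h h' v
  · exact (hr ea qa pa (h.trans r1.symm) (h'.trans r2.symm)).elim
  · exact (hr (ea + eb) qab' pab (h.trans r5.symm) (h'.trans r6.symm)).elim
  · exact absurd (h.trans h'.symm) hne
  · refine absurd (h3 ?_) (fun e' => n2 (h.symm.trans e'))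
    show sig e c (sig e c (sig e c ea)) = ea
    rw [h, h', hi.map_add, h, h', ← add_assoc, add_comm eb ea, add_assoc, sp_add_self, add_zero]
  · refine absurd (h3 ?_) (fun e' => n1 (h.symm.trans e'))
    show sig e c (sig e c (sig e c ea)) = ea
    rw [h, hi.map_add, h, h', add_comm ea eb, add_assoc, sp_add_self, add_zero, h']
  · exact (hr eb qb pb (h.trans r3.symm) (h'.trans r4.symm)).elim
  · exact absurd (h.trans h'.symm) hne

theorem centQ_form {y : G} (hy : y ∈ Q)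
    (hyt : y * nm z e ρ 0 0 ea eb = nm z e ρ 0 0 ea eb * y) :
    ∃ i j v, y = ep z e i j * dl e v ∧ alt ea v = 0 ∧ alt eb v = 0 := by
  obtain ⟨i, j, v, hv⟩ := T.exists_ep_dl hy (T.centQ_x (by decide : ea ≠ 0) hy hyt)
  refine ⟨i, j, v, hv, ?_⟩
  have h : dl e v * nm z e ρ 0 0 ea eb = nm z e ρ 0 0 ea eb * dl e v := by
    rw [hv, mul_assoc, ← mul_assoc (nm z e ρ 0 0 ea eb), T.ce_ep (T.nm_ce 0 0 ea eb),
      mul_assoc (ep z e i j)] at hyt
    exact mul_left_cancel hyt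
  rw [T.dl_comm_nm] at h
  obtain ⟨h1, h2⟩ := T.ep_inj (mul_right_cancel ((h.trans (one_mul _).symm).trans
    (congrArg (· * _) T.ep_zero.symm)))
  rw [h2, zero_add] at h1
  exact ⟨by rw [alt_comm, h2], by rw [alt_comm, h1]⟩

/-- The centraliser of `z` and the elliptic involution moves `x` inside the four-group. -/
theorem conj_x {k : G} (hkz : k ∈ centralizer ({z} : Set G))
    (hkt : k * nm z e ρ 0 0 ea eb = nm z e ρ 0 0 ea eb * k) :
    k * xe e * k⁻¹ = xe e ∨ k * xe e * k⁻¹ = xe e * z := by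
  have S := T.setup
  obtain ⟨hxQ, hx2, hx1, hxz, -, -, -⟩ := S.xe_facts
  set B := nm z e ρ 0 0 ea eb with hB
  have hBz : B * z = z * B := (T.nm_ce 0 0 ea eb).1
  have hkB : k * B * k⁻¹ = B := mul_inv_eq_iff_eq_mul.2 hkt
  have hw : ∀ w ∈ Q, w * B = B * w → k * w * k⁻¹ ∈ Q ∧ k * w * k⁻¹ * B = B * (k * w * k⁻¹) := by
    refine fun w hw hwB => ⟨S.conj_mem hkz hw, ?_⟩
    rw [← hkB, show k * w * k⁻¹ * (k * B * k⁻¹) = k * (w * B) * k⁻¹ by group, hwB]; group
  obtain ⟨hyQ, hyB⟩ := hw _ hxQ (T.nm_ce 0 0 ea eb).2.symm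
  obtain ⟨i, j, c, hc, hca, hcb⟩ := T.centQ_form hyQ hyB
  have hperp : ∀ v, alt ea v = 0 → alt eb v = 0 → alt c v = 0 := by
    intro v hva hvb
    have hwB : dl e v * B = B * dl e v := by
      rw [hB, T.dl_comm_nm, alt_comm v ea, alt_comm v eb, hva, hvb, add_zero, T.ep_zero, one_mul]
    have hkz' : k⁻¹ ∈ centralizer ({z} : Set G) := inv_mem hkz
    have hw' : k⁻¹ * dl e v * k⁻¹⁻¹ ∈ Q ∧
        k⁻¹ * dl e v * k⁻¹⁻¹ * B = B * (k⁻¹ * dl e v * k⁻¹⁻¹) := by
      refine ⟨S.conj_mem hkz' (Setup.el_mem _ _), ?_⟩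
      calc k⁻¹ * dl e v * k⁻¹⁻¹ * B = k⁻¹ * (dl e v * (k * B * k⁻¹)) * k := by group
        _ = k⁻¹ * (B * dl e v) * k := by rw [hkB, hwB]
        _ = k⁻¹ * (k * B * k⁻¹) * dl e v * k := by rw [hkB]; group
        _ = B * (k⁻¹ * dl e v * k⁻¹⁻¹) := by group
    have hx := T.centQ_x (by decide : ea ≠ 0) hw'.1 hw'.2
    have hcom : dl e v * (k * xe e * k⁻¹) = k * xe e * k⁻¹ * dl e v := by
      calc dl e v * (k * xe e * k⁻¹) = k * ((k⁻¹ * dl e v * k⁻¹⁻¹) * xe e) * k⁻¹ := by group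
        _ = k * (xe e * (k⁻¹ * dl e v * k⁻¹⁻¹)) * k⁻¹ := by rw [hx]
        _ = k * xe e * k⁻¹ * dl e v := by group
    rw [hc, T.ce_comm_left (T.dl_ce v), T.dl_comm, mul_assoc (ep z e i j)] at hcom
    have h1 := mul_right_cancel (((mul_left_cancel hcom).trans (one_mul _).symm).trans
      (congrArg (· * (dl e c * dl e v)) T.ep_zero.symm))
    rw [alt_comm]
    exact (T.ep_inj h1).1
  rw [ell_total c hca hcb hperp, T.dl_zero, mul_one] at hc
  rcases z2_cases j with rfl | rfl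
  · exfalso
    rcases z2_cases i with rfl | rfl
    · rw [T.ep_zero] at hc
      exact hx1 (by
        calc xe e = k⁻¹ * (k * xe e * k⁻¹) * k := by group
          _ = 1 := by rw [hc]; group)
    · rw [ep, pw_one, pw_zero, mul_one] at hc
      exact hxz (by
        calc xe e = k⁻¹ * (k * xe e * k⁻¹) * k := by group
          _ = z := by rw [hc, mul_assoc, ← mem_centralizer_singleton_iff.1 hkz]; group)
  · rcases z2_cases i with rfl | rfl
    · left; rw [hc, ep, pw_zero, pw_one, one_mul]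
    · right; rw [hc, ep, pw_one, pw_one, T.pair.comm]

/-- An element of `C(z, B)` with square in `Q` moving `x` to `xz`. -/
theorem exists_h : ∃ h l, Lev z e ρ l ∧ (∀ v, sig e l v = refl ea (refl n3 v)) ∧
    ∃ c, h = dl e c * (qe e * l) ∧ h * z = z * h ∧
      h * nm z e ρ 0 0 ea eb = nm z e ρ 0 0 ea eb * h ∧ h * xe e * h⁻¹ = xe e * z ∧ h * h ∈ Q := by
  have S := T.setup
  obtain ⟨-, -, -, -, -, -, -, -, -, qa, qb, qab, qn, -⟩ := basic_facts
  obtain ⟨e1, e2, -, hcc⟩ := ell_swap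
  obtain ⟨l, hl, hls⟩ := T.exists_pair qa qn
  have hq := T.q_sq
  have hqi : (qe e)⁻¹ = qe e := inv_eq_of_mul_eq_one_right hq
  obtain ⟨ka, kb, -, -, hk⟩ := T.lev_nm hl 0 0 ea eb
  rw [hls, hls, e1, e2] at hk
  have h0 : qe e * l * nm z e ρ 0 0 ea eb * (qe e * l)⁻¹ =
      nm z e ρ (0 + kb + (0 + ka) + qd ea + beta (ff 3) ea (ea + eb)) (0 + ka + qd ea) ea eb := by
    rw [show qe e * l * nm z e ρ 0 0 ea eb * (qe e * l)⁻¹ =
      qe e * (l * nm z e ρ 0 0 ea eb * l⁻¹) * (qe e)⁻¹ by group, hk, hqi, T.nm_q, ← add_assoc ea,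
      sp_add_self]
    simp only [zero_add]
  simp only [zero_add] at h0
  generalize kb + ka + qd ea + beta (ff 3) ea (ea + eb) = i, ka + qd ea = j at h0
  obtain ⟨c, hca, hcb⟩ := hcc j (i + j)
  have hd : dl e c * nm z e ρ i j ea eb * (dl e c)⁻¹ = nm z e ρ 0 0 ea eb := by
    rw [mul_inv_eq_iff_eq_mul, ← T.nm_dl, T.nm_mul, T.nm_mul]
    simp only [alt_zero_left, alt_zero_right, beta_zero_left, beta_zero_right, zero_add, add_zero]
    rw [hca, add_comm c eb]
    rw [← beta_symm (ff 3) c eb] at hcb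
    congr 1
    · exact (by decide : ∀ i j y w : ZMod 2, y + w = i + j → i + j + y = w) _ _ _ _ hcb
    · exact z2_add_self _
  have hz : dl e c * (qe e * l) * z = z * (dl e c * (qe e * l)) := by
    rw [mul_assoc, mul_assoc, hl.1.1, ← mul_assoc (qe e), T.q_z, ← mul_assoc (dl e c),
      ← mul_assoc (dl e c), (T.dl_ce c).1]
    simp only [mul_assoc]
  refine ⟨dl e c * (qe e * l), l, hl, hls, c, rfl, hz, mul_inv_eq_iff_eq_mul.1 ?_, ?_, ?_⟩
  · rw [show dl e c * (qe e * l) * nm z e ρ 0 0 ea eb * (dl e c * (qe e * l))⁻¹ =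
      dl e c * (qe e * l * nm z e ρ 0 0 ea eb * (qe e * l)⁻¹) * (dl e c)⁻¹ by group, h0, hd]
  · rw [show dl e c * (qe e * l) * xe e * (dl e c * (qe e * l))⁻¹ =
      dl e c * (qe e * (l * xe e * l⁻¹) * (qe e)⁻¹) * (dl e c)⁻¹ by group,
      mul_inv_eq_iff_eq_mul.2 hl.1.2, hqi, S.xe_facts.2.2.2.2.2.2, mul_inv_eq_iff_eq_mul,
      ← mul_assoc, (T.dl_ce c).2, mul_assoc, (T.dl_ce c).1, ← mul_assoc]
  · have hll : l * l = 1 := T.lev_inv_self hl fun v => by
      rw [hls, hls]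
      have hc : ∀ w, refl ea (refl n3 w) = refl n3 (refl ea w) := fun w => by
        have := refl_conj (refl_isom qa) n3 w
        rw [refl_of_alt (show alt n3 ea = 0 by decide)] at this
        exact this.symm
      rw [← hc (refl n3 v), refl_refl, refl_refl]
    rw [show dl e c * (qe e * l) * (dl e c * (qe e * l)) =
      dl e c * qe e * (l * dl e c * l⁻¹) * (l * qe e) * l by group, ← T.lev_q hl,
      mul_assoc, mul_assoc (qe e) l l, hll, mul_one]
    exact mul_mem (mul_mem (mul_mem (Setup.el_mem _ _) (Setup.el_mem _ _))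
      (S.conj_mem (memH hl.1) (Setup.el_mem _ _))) (Setup.el_mem _ _)

omit T in
theorem exists_sylow_grow {K : Subgroup G} {P P' : Subgroup G} (hP' : IsPGroup 2 P') (hle : P ≤ P')
    (hne : P ≠ P') (hmax : ∀ R : Subgroup G, R ≤ K → IsPGroup 2 R → P ≤ R → R = P)
    (hnK : ∀ n ∈ P', (∀ p ∈ P, n * p * n⁻¹ ∈ P) → n ∈ K) (hPK : P ≤ K) : False := by
  haveI : Fact (Nat.Prime 2) := ⟨Nat.prime_two⟩
  haveI := hP'.isNilpotent
  have hlt : P.subgroupOf P' < ⊤ := lt_top_iff_ne_top.2 fun h =>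
    hne (le_antisymm hle (subgroupOf_eq_top.1 h))
  obtain ⟨n, hn, hnP⟩ := SetLike.exists_of_lt (normalizerCondition_of_isNilpotent _ hlt)
  have hnorm : ∀ p ∈ P, (n : G) * p * (n : G)⁻¹ ∈ P := fun p hp => by
    have := (mem_normalizer_iff.1 hn ⟨p, hle hp⟩).1 (show (⟨p, hle hp⟩ : P') ∈ P.subgroupOf P' from hp)
    exact this
  have hR := hmax (P ⊔ zpowers (n : G)) (sup_le hPK (by
    rw [zpowers_le]; exact hnK _ n.2 hnorm))
    (hP'.to_le (sup_le hle (by rw [zpowers_le]; exact n.2))) le_sup_left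
  exact hnP (show (n : G) ∈ P from hR ▸ mem_sup_right (mem_zpowers _))

/-- The elliptic and the totally singular involutions are not conjugate. -/
theorem not_conj_pair : ¬ IsConj (nm z e ρ 0 0 ea eb) (nm z e ρ 0 0 sa sb) := by
  intro hconj
  haveI : Fact (Nat.Prime 2) := ⟨Nat.prime_two⟩
  have S := T.setup
  set B := nm z e ρ 0 0 ea eb with hB
  set C := nm z e ρ 0 0 sa sb with hC
  let K : Subgroup G := centralizer ({z} : Set G) ⊓ centralizer ({B} : Set G)
  have hK : ∀ {g}, g ∈ K ↔ g * z = z * g ∧ g * B = B * g := fun {g} => by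
    rw [mem_inf, mem_centralizer_singleton_iff, mem_centralizer_singleton_iff]
  obtain ⟨h, l, hl, hls, c0, hhe, hhz, hhB, hhx, hh2⟩ := T.exists_h
  have hhK : h ∈ K := hK.2 ⟨hhz, hhB⟩
  -- the index of the part centralising the four-group
  let Sb : Subgroup G := cE z e ⊓ centralizer ({B} : Set G)
  have hSbK : Sb ≤ K := fun g hg => by
    obtain ⟨h1, h2⟩ := mem_inf.1 hg
    exact mem_inf.2 ⟨(mem_inf.1 h1).1, h2⟩
  have hidx : Nat.card K = 2 * Nat.card Sb := by
    have h2 : (Sb.subgroupOf K).index = 2 := by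
      refine index_eq_two_iff.2 ⟨⟨h, hhK⟩, fun b => ?_⟩
      obtain ⟨hbz, hbB⟩ := hK.1 b.2
      have hiff : ∀ g : G, g * z = z * g → g * B = B * g → (g ∈ Sb ↔ g * xe e * g⁻¹ = xe e) :=
        fun g hgz hgB => by
          rw [show g ∈ Sb ↔ CE z e g ∧ g * B = B * g by
            rw [mem_inf, mem_cE, mem_centralizer_singleton_iff]]
          exact ⟨fun hg => mul_inv_eq_iff_eq_mul.2 hg.1.2,
            fun hg => ⟨⟨hgz, mul_inv_eq_iff_eq_mul.1 hg⟩, hgB⟩⟩
      have hbh : (b : G) * h * xe e * ((b : G) * h)⁻¹ = (b : G) * xe e * (b : G)⁻¹ * z := by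
        rw [show (b : G) * h * xe e * ((b : G) * h)⁻¹ = (b : G) * (h * xe e * h⁻¹) * (b : G)⁻¹ by
          group, hhx, show (b : G) * (xe e * z) * (b : G)⁻¹ =
          (b : G) * xe e * (b : G)⁻¹ * ((b : G) * z * (b : G)⁻¹) by group,
          mul_inv_eq_iff_eq_mul.2 hbz]
      have hbK := hK.1 (mul_mem b.2 hhK)
      simp only [mem_subgroupOf, Subgroup.coe_mul, hiff _ hbz hbB, hiff _ hbK.1 hbK.2, hbh]
      rcases T.conj_x (mem_centralizer_singleton_iff.2 hbz) hbB with e1 | e1 <;> rw [e1]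
      · exact Or.inr ⟨rfl, fun e2 => S.pack.z_ne (mul_eq_left.1 e2)⟩
      · exact Or.inl ⟨by rw [mul_assoc, T.pair.hz2, mul_one],
          fun e2 => S.pack.z_ne (mul_eq_left.1 e2)⟩
    have := Subgroup.card_mul_index (Sb.subgroupOf K)
    rw [h2, Nat.card_congr (Subgroup.subgroupOfEquivOfLe hSbK).toEquiv] at this
    omega
  -- a Sylow subgroup of `K` containing `h` and `C_Q(B)`
  have hhp : IsPGroup 2 (zpowers (⟨h, hhK⟩ : K)) := by
    have hQp : IsPGroup 2 Q := IsPGroup.of_card (by rw [S.cardQ])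
    obtain ⟨k, hk⟩ := hQp ⟨_, hh2⟩
    have hk' : (h * h) ^ 2 ^ k = 1 := congrArg Subtype.val hk
    intro x
    obtain ⟨n, hn⟩ := x.2
    refine ⟨k + 1, Subtype.ext ?_⟩
    have h1 : (⟨h, hhK⟩ : K) ^ 2 ^ (k + 1) = 1 := Subtype.ext (by
      show h ^ 2 ^ (k + 1) = 1
      rw [pow_succ', pow_mul, pow_two, hk'])
    show (x : K) ^ 2 ^ (k + 1) = 1
    rw [← hn]
    show ((⟨h, hhK⟩ : K) ^ n) ^ 2 ^ (k + 1) = 1
    rw [← zpow_natCast, ← zpow_mul, mul_comm, zpow_mul, zpow_natCast, h1, one_zpow]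
  obtain ⟨P0, hP0⟩ := hhp.exists_le_sylow
  let P : Subgroup G := (P0 : Subgroup K).map K.subtype
  have hPK : P ≤ K := map_subtype_le _
  have hPp : IsPGroup 2 P := P0.isPGroup'.map _
  have hhP : h ∈ P := ⟨⟨h, hhK⟩, hP0 (mem_zpowers _), rfl⟩
  have hmax : ∀ R : Subgroup G, R ≤ K → IsPGroup 2 R → P ≤ R → R = P := by
    intro R hRK hR hPR
    have h1 : R.subgroupOf K = (P0 : Subgroup K) := P0.is_maximal'
      (hR.of_equiv (Subgroup.subgroupOfEquivOfLe hRK).symm) fun y hy => hPR ⟨y, hy, rfl⟩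
    refine le_antisymm (fun r hr => ⟨⟨r, hRK hr⟩, ?_, rfl⟩) hPR
    rw [← h1]; exact hr
  let N : Subgroup G := Q ⊓ centralizer ({B} : Set G)
  have hNK : N ≤ K := fun g hg =>
    mem_inf.2 ⟨S.pack.mem_centralizer_z (mem_inf.1 hg).1, (mem_inf.1 hg).2⟩
  have hNP : N ≤ P := by
    haveI : (N.subgroupOf K).Normal := ⟨fun n hn g => by
      obtain ⟨h1, h2⟩ := mem_inf.1 (show (n : G) ∈ N from hn)
      show (g : G) * n * (g : G)⁻¹ ∈ N
      refine mem_inf.2 ⟨S.conj_mem (mem_inf.1 g.2).1 h1, ?_⟩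
      exact mul_mem (mul_mem (mem_inf.1 g.2).2 h2) (inv_mem (mem_inf.1 g.2).2)⟩
    have hNp : IsPGroup 2 (N.subgroupOf K) :=
      (IsPGroup.of_card (p := 2) (n := 9) S.cardQ |>.to_le (inf_le_left : N ≤ Q)).of_equiv
        (Subgroup.subgroupOfEquivOfLe hNK).symm
    have h1 := P0.is_maximal' (P0.isPGroup'.to_sup_of_normal_right hNp) le_sup_left
    intro g hg
    exact ⟨⟨g, hNK hg⟩, h1 ▸ mem_sup_right (show (⟨g, hNK hg⟩ : K) ∈ N.subgroupOf K from hg), rfl⟩
  -- the conjugates of `z` in the centre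
  have hcen : ∀ ζ ∈ P, (∀ p ∈ P, ζ * p = p * ζ) → IsConj z ζ → ζ = z := by
    intro ζ hζ hζc hζz
    obtain ⟨hζz', hζB⟩ := hK.1 (hPK hζ)
    have hζx : ζ * xe e = xe e * ζ := hζc _ (hNP (mem_inf.2 ⟨S.xe_facts.1,
      mem_centralizer_singleton_iff.2 (T.nm_ce 0 0 ea eb).2.symm⟩))
    have hce : CE z e ζ := ⟨hζz', hζx⟩
    have hfix : ∀ v, alt ea v = 0 → alt eb v = 0 → ζ * dl e v = dl e v * ζ := by
      intro v hva hvb
      refine hζc _ (hNP (mem_inf.2 ⟨Setup.el_mem _ _, mem_centralizer_singleton_iff.2 ?_⟩))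
      rw [hB, T.dl_comm_nm, alt_comm v ea, alt_comm v eb, hva, hvb, add_zero, T.ep_zero, one_mul]
    obtain ⟨k, hk⟩ := hPp ⟨ζ, hζ⟩
    obtain ⟨i, j, a, b, hζe⟩ := T.inU_of_sig hce (T.sig_two hce (congrArg Subtype.val hk)
      fun v hva hvb => T.sig_eq hce (s := 0) (by
        rw [zero_smul, zero_add]
        exact S.act_eq (memH hce) (k := 0) (k' := 0)
          (mul_inv_eq_iff_eq_mul.2 (hfix v hva hvb))))
    subst hζe
    obtain ⟨ha, hb⟩ := ell_perp_dual a b fun v hva hvb => by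
      have h1 := hfix v hva hvb
      rw [← T.nm_dl v, T.nm_mul, T.nm_mul] at h1
      obtain ⟨h1, h2, -, -⟩ := T.nm_inj h1
      simp only [alt_zero_left, alt_zero_right, beta_zero_left, beta_zero_right, zero_add,
        add_zero] at h1 h2
      have e2 : alt v a = 0 :=
        z2_lem1 _ _ h2
      rw [e2, add_zero] at h1
      refine ⟨e2, ?_⟩
      rw [← beta_symm (ff 3) v b]
      exact z2_lem2 _ _ _ h1
    have hmem : ∀ w : Sp 3, (w = 0 ∨ w = ea ∨ w = eb ∨ w = ea + eb) →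
        w ∈ [0, ea, eb, ea + eb] := fun w hw => by simpa using hw
    have hBB := hζB
    rw [hB, T.nm_mul, T.nm_mul] at hBB
    obtain ⟨b1, b2, -, -⟩ := T.nm_inj hBB
    simp only [zero_add, add_zero] at b1 b2
    have c1 : alt b ea + alt eb a + alt b eb = 0 := by
      rw [← beta_symm (ff 3) b eb]
      exact z2_lem3 _ _ _ _ _ b1
    have c2 : alt b ea + alt eb a + alt a ea = 0 := by
      rw [← beta_symm (ff 3) a ea]
      exact z2_lem3 _ _ _ _ _ b2
    -- invariance under `h`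
    have hinv : h * nm z e ρ i j a b * h⁻¹ = nm z e ρ i j a b :=
      mul_inv_eq_iff_eq_mul.2 (hζc h hhP).symm
    obtain ⟨ka, kb, -, -, hk'⟩ := T.lev_nm hl i j a b
    have hstep : h * nm z e ρ i j a b * h⁻¹ = dl e c0 *
        (qe e * nm z e ρ (i + kb) (j + ka) (sig e l a) (sig e l b) * qe e) * (dl e c0)⁻¹ := by
      rw [← hk', hhe]
      conv_rhs => arg 1; arg 2; arg 2; rw [← inv_eq_of_mul_eq_one_right T.q_sq]
      group
    rw [T.nm_q] at hstep
    obtain ⟨i', j', hu⟩ := T.inU_conj (u := dl e c0) ⟨0, 0, 0, c0, (T.nm_dl c0).symm⟩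
      (i + kb + (j + ka) + qd (sig e l a) + beta (ff 3) (sig e l a) (sig e l b))
      (j + ka + qd (sig e l a)) (sig e l a) (sig e l a + sig e l b)
    rw [hu, hinv] at hstep
    obtain ⟨-, -, ea', eb'⟩ := T.nm_inj hstep
    obtain ⟨s1, s2, s3, -⟩ := ell_swap
    have hab : (a = 0 ∧ b = 0) ∨ (a = ea ∧ b = eb) := by
      rcases ell_comm_pairs a (hmem a ha) b (hmem b hb) c1 c2 with h' | h' | ⟨rfl, rfl⟩ | ⟨rfl, rfl⟩
      · exact Or.inl h'
      · exact Or.inr h'
      · rw [hls, s2] at ea'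
        exact absurd ea' (by decide)
      · rw [hls, s3] at ea'
        exact absurd ea' (by decide)
    -- the four-group part
    have hep : ∀ i j, h * ep z e i j * h⁻¹ = ep z e i j → j = 0 := by
      intro i j hh
      rcases z2_cases j with rfl | rfl
      · rfl
      · exfalso
        rw [ep, pw_one, show h * (pw z i * xe e) * h⁻¹ = h * pw z i * h⁻¹ * (h * xe e * h⁻¹) by group,
          pw_conj, mul_inv_eq_iff_eq_mul.2 hhz, hhx] at hh
        exact S.pack.z_ne (mul_eq_left.1 (mul_left_cancel hh))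
    rcases hab with ⟨rfl, rfl⟩ | ⟨rfl, rfl⟩
    · rw [T.nm_ep] at hinv hζz ⊢
      obtain rfl := hep i j hinv
      rcases z2_cases i with rfl | rfl
      · obtain ⟨g, hg⟩ := isConj_iff.1 hζz
        rw [T.ep_zero] at hg
        exact absurd (show z = 1 by
          calc z = g⁻¹ * (g * z * g⁻¹) * g := by group
            _ = 1 := by rw [hg]; group) S.pack.z_ne
      · rw [ep, pw_one, pw_zero, mul_one]
    · exfalso
      obtain ⟨c, -, hc⟩ := T.pair_conj (A := ea) (B := eb) (a := ea) (b := eb) (by decide)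
        (by decide) ell_swap.2.2.2 ⟨id, 0, Word.nil, rfl, rfl⟩ i j
      exact T.not_conj_ell (hζz.trans (isConj_iff.2 ⟨c, hc⟩))
  -- so `P` is a Sylow subgroup of the centraliser of `B`
  let CB : Subgroup G := centralizer ({B} : Set G)
  have hPB : P ≤ CB := fun g hg => (mem_inf.1 (hPK hg)).2
  have hzP : z ∈ P := hNP (mem_inf.2 ⟨S.pack.mem,
    mem_centralizer_singleton_iff.2 (T.nm_ce 0 0 ea eb).1.symm⟩)
  obtain ⟨P1, hP1⟩ := (hPp.of_equiv (Subgroup.subgroupOfEquivOfLe hPB).symm).exists_le_sylow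
  have hP1eq : P = (P1 : Subgroup CB).map CB.subtype := by
    by_contra hne
    refine exists_sylow_grow (K := K) (P1.isPGroup'.map _) (fun g hg =>
      ⟨⟨g, hPB hg⟩, hP1 (show (⟨g, hPB hg⟩ : CB) ∈ P.subgroupOf CB from hg), rfl⟩) hne hmax ?_ hPK
    intro n hn hnorm
    obtain ⟨⟨n', hn'⟩, -, rfl⟩ := hn
    refine mem_inf.2 ⟨mem_centralizer_singleton_iff.2 (mul_inv_eq_iff_eq_mul.1 ?_), hn'⟩
    show n' * z * n'⁻¹ = z
    refine hcen _ (hnorm z hzP) (fun p hp => ?_) (isConj_iff.2 ⟨n', rfl⟩)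
    show n' * z * n'⁻¹ * p = p * (n' * z * n'⁻¹)
    -- conjugation preserves the finite subgroup
    obtain ⟨p', hp'⟩ : ∃ p' ∈ P, n' * p' * n'⁻¹ = p := by
      have hinjP : Function.Injective (fun q : P => (⟨n' * q * n'⁻¹, hnorm q q.2⟩ : P)) :=
        fun a b hab => Subtype.ext (mul_left_cancel (a := n') (mul_right_cancel (b := n'⁻¹)
          (show n' * (a : G) * n'⁻¹ = n' * b * n'⁻¹ from congrArg Subtype.val hab)))
      obtain ⟨q, hq⟩ := Finite.injective_iff_surjective.1 hinjP ⟨p, hp⟩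
      exact ⟨q, q.2, congrArg Subtype.val hq⟩
    obtain ⟨hp'1, hp'2⟩ := hp'
    rw [← hp'2, show n' * z * n'⁻¹ * (n' * p' * n'⁻¹) = n' * (z * p') * n'⁻¹ by group,
      ← (hK.1 (hPK hp'1)).1]
    group
  -- count
  have hcardP : Nat.card P = 2 ^ (Nat.card K).factorization 2 := by
    rw [← P0.card_eq_multiplicity]
    exact Nat.card_congr ((P0 : Subgroup K).equivMapOfInjective _ K.subtype_injective).toEquiv.symm
  have hcardP1 : Nat.card P = 2 ^ (Nat.card CB).factorization 2 := by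
    rw [← P1.card_eq_multiplicity, hP1eq]
    exact Nat.card_congr ((P1 : Subgroup CB).equivMapOfInjective _ CB.subtype_injective).toEquiv.symm
  have heq : Nat.card CB = Nat.card ↥(centralizer ({C} : Set G)) := by
    obtain ⟨g, hg⟩ := isConj_iff.1 hconj
    refine Nat.card_congr (Equiv.subtypeEquiv (MulAut.conj g).toEquiv fun x => ?_)
    show x ∈ centralizer ({B} : Set G) ↔ g * x * g⁻¹ ∈ centralizer ({C} : Set G)
    rw [mem_centralizer_singleton_iff, mem_centralizer_singleton_iff, ← hg,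
      show g * x * g⁻¹ * (g * B * g⁻¹) = g * (x * B) * g⁻¹ by group,
      show g * B * g⁻¹ * (g * x * g⁻¹) = g * (B * x) * g⁻¹ by group]
    exact ⟨fun h => by rw [h], fun h => mul_left_cancel (mul_right_cancel h)⟩
  have hSc : Nat.card ↥(cE z e ⊓ centralizer ({C} : Set G)) ∣ Nat.card ↥(centralizer ({C} : Set G)) :=
    Subgroup.card_dvd_of_le inf_le_right
  have c1 := T.count_ell
  have c2 := T.count_sing
  rw [← hB] at c1
  rw [← hC] at c2
  change 4 * 336 * Nat.card Sb = _ at c1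
  have hv := Nat.pow_right_injective (le_refl 2) (hcardP.symm.trans hcardP1)
  rw [hidx, heq] at hv
  generalize hsb : Nat.card Sb = sB at c1 hv
  generalize hsc : Nat.card ↥(cE z e ⊓ centralizer ({C} : Set G)) = sC at c2 hSc
  have hsB : sB ≠ 0 := hsb ▸ Nat.card_pos.ne'
  have hsC : sC ≠ 0 := hsc ▸ Nat.card_pos.ne'
  have h8 : 8 * sB ∣ 15 * sC := ⟨1, by omega⟩
  have h16 : 2 ^ (3 + sB.factorization 2) ∣ sC := by
    refine (Nat.Coprime.dvd_mul_left (Nat.Coprime.pow_left _ (by norm_num : Nat.Coprime 2 15))).1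
      (Nat.dvd_trans ?_ h8)
    rw [pow_add]
    exact mul_dvd_mul (by norm_num) (Nat.ordProj_dvd _ _)
  have hle := (Nat.prime_two.pow_dvd_iff_le_factorization (Nat.card_pos.ne')).1
    (h16.trans hSc)
  rw [← hv, Nat.factorization_mul (by norm_num) hsB] at hle
  simp [Nat.prime_two.factorization_self] at hle

end Tri

end CfsgLib.ClassK.Conway
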