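import Cfsg.Agent.Lib.ClassK.ConwayFacts
import Cfsg.Agent.Lib.Trans3.InnerCentral
import Cfsg.Agent.Lib.PLocal.LargeExtraConj

/-!
Groups of Conway type: coordinates on the extraspecial subgroup and the action of the centraliser
of the involution on them.
-/

set_option autoImplicit false

namespace CfsgLib.ClassK.Conway

open Subgroup CfsgLib.Trans3.ExtraTwo
open CfsgLib.PLocal.LargeExtra

variable {G : Type*} [Group G]

/-- Element with given coordinates. -/
def el {Q : Subgroup G} (e : ↥Q ≃* ES 4 (ff 4)) (v : Sp 4) (c : ZMod 2) : G :=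
  (e.symm ⟨v, c⟩ : ↥Q)

open Classical in
/-- Vector part. -/
noncomputable def pi {Q : Subgroup G} (e : ↥Q ≃* ES 4 (ff 4)) (g : G) : Sp 4 :=
  if h : g ∈ Q then (e ⟨g, h⟩).v else 0

/-- The action of `C(z)` on the vectors. -/
noncomputable def act {Q : Subgroup G} (e : ↥Q ≃* ES 4 (ff 4)) (c : G) (v : Sp 4) : Sp 4 :=
  pi e (c * el e v 0 * c⁻¹)

/-- The set-up of a group of Conway type. -/
structure Setup (z : G) (Q : Subgroup G) (e : ↥Q ≃* ES 4 (ff 4)) : Prop where
  pack : Pack Q z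
  even : ∀ a b, qd a = 1 → qd b = 1 →
    ∃ c ∈ centralizer ({z} : Set G), ∀ v, act e c v = refl a (refl b v)
  norefl : ∀ c ∈ centralizer ({z} : Set G), ∀ a, qd a = 1 → ∃ v, act e c v ≠ refl a v
  fus : ∃ g, g * z * g⁻¹ ∈ Q ∧ g * z * g⁻¹ ≠ z

namespace Setup

variable {z : G} {Q : Subgroup G} {e : ↥Q ≃* ES 4 (ff 4)} (S : Setup z Q e)

omit S in
theorem el_mem (v : Sp 4) (c : ZMod 2) : el e v c ∈ Q := (e.symm ⟨v, c⟩).2

omit S in
theorem el_mul (v w : Sp 4) (c d : ZMod 2) :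
    el e v c * el e w d = el e (v + w) (c + d + beta (ff 4) v w) := by
  simp only [el, ← Subgroup.coe_mul, ← map_mul]
  rfl

omit S in
theorem el_zero : el e 0 0 = 1 := by
  show ((e.symm 1 : ↥Q) : G) = 1
  rw [map_one, OneMemClass.coe_one]

omit S in
theorem el_inj {v w : Sp 4} {c d : ZMod 2} (h : el e v c = el e w d) : v = w ∧ c = d := by
  have h' := e.symm.injective (Subtype.ext h)
  exact ⟨congrArg ES.v h', congrArg ES.c h'⟩

omit S in
theorem exists_el {g : G} (hg : g ∈ Q) : ∃ v c, g = el e v c :=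
  ⟨(e ⟨g, hg⟩).v, (e ⟨g, hg⟩).c, (congrArg Subtype.val (e.symm_apply_apply ⟨g, hg⟩)).symm⟩

omit S in
theorem pi_el (v : Sp 4) (c : ZMod 2) : pi e (el e v c) = v := by
  rw [pi, dif_pos (el_mem v c)]
  exact congrArg ES.v (e.apply_symm_apply ⟨v, c⟩)

include S

variable [Finite G]

theorem el_one : el e 0 1 = z := by
  have hm : (⟨0, 1⟩ : ES 4 (ff 4)) ∈ center (ES 4 (ff 4)) := (mem_center_iff _ _).2 rfl
  have hc : (e.symm ⟨0, 1⟩ : ↥Q) ∈ center ↥Q := Subgroup.mem_center_iff.2 fun b => e.injective (by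
    rw [map_mul, map_mul, e.apply_symm_apply]
    exact Subgroup.mem_center_iff.1 hm (e b))
  refine (S.pack.of_center hc).resolve_left fun h => ?_
  have := el_inj (e := e) (h.trans el_zero.symm)
  exact one_ne_zero this.2

theorem el_add_one (v : Sp 4) (c : ZMod 2) : el e v (c + 1) = el e v c * z := by
  rw [← S.el_one, el_mul, add_zero, beta_zero_right, add_zero]

theorem el_sq (v : Sp 4) (c : ZMod 2) : el e v c * el e v c = el e 0 (qd v) := by
  rw [el_mul, sp_add_self, z2_add_self, zero_add]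

theorem el_comm (v w : Sp 4) (c d : ZMod 2) :
    el e v c * el e w d = el e 0 (alt v w) * (el e w d * el e v c) := by
  rw [el_mul, el_mul, el_mul, zero_add, beta_zero_left, add_zero, add_comm w v, ← beta_symm (ff 4) v w]
  congr 1
  generalize beta (ff 4) v w = p; generalize beta (ff 4) w v = r
  revert c d p r; decide

theorem mem_H {v : Sp 4} {c : ZMod 2} : el e v c ∈ centralizer ({z} : Set G) :=
  S.pack.mem_centralizer_z (el_mem v c)

theorem zH : z ∈ centralizer ({z} : Set G) := mem_centralizer_singleton_iff.2 rfl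

theorem conj_mem {c g : G} (hc : c ∈ centralizer ({z} : Set G)) (hg : g ∈ Q) : c * g * c⁻¹ ∈ Q :=
  (mem_normalizer_iff.1 (S.pack.norm hc) g).1 hg

theorem conj_el {c : G} (hc : c ∈ centralizer ({z} : Set G)) (v : Sp 4) (k : ZMod 2) :
    ∃ k', c * el e v k * c⁻¹ = el e (act e c v) k' := by
  obtain ⟨w, j, hw⟩ := exists_el (e := e) (S.conj_mem hc (el_mem (e := e) v 0))
  have hact : act e c v = w := by rw [act, hw, pi_el]
  rcases z2_cases k with rfl | rfl
  · exact ⟨j, by rw [hact, hw]⟩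
  · refine ⟨j + 1, ?_⟩
    have hcz : c * z * c⁻¹ = z :=
      mul_inv_eq_iff_eq_mul.2 (mem_centralizer_singleton_iff.1 hc)
    rw [hact, S.el_add_one, ← hw, show (1 : ZMod 2) = 0 + 1 from rfl, S.el_add_one]
    conv_rhs => rw [← hcz]
    group

theorem act_eq {c : G} (hc : c ∈ centralizer ({z} : Set G)) {v w : Sp 4} {k k' : ZMod 2}
    (h : c * el e v k * c⁻¹ = el e w k') : act e c v = w := by
  obtain ⟨j, hj⟩ := S.conj_el hc v k
  exact (el_inj (e := e) (hj.symm.trans h)).1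

theorem act_mul {c d : G} (hc : c ∈ centralizer ({z} : Set G))
    (hd : d ∈ centralizer ({z} : Set G)) (v : Sp 4) :
    act e (c * d) v = act e c (act e d v) := by
  obtain ⟨j, hj⟩ := S.conj_el hd v 0
  obtain ⟨k, hk⟩ := S.conj_el hc (act e d v) j
  refine S.act_eq (mul_mem hc hd) (k := 0) (k' := k) ?_
  rw [← hk, ← hj]; group

theorem act_mem {q : G} (hq : q ∈ Q) (v : Sp 4) : act e q v = v := by
  obtain ⟨w, c, rfl⟩ := exists_el (e := e) hq
  refine S.act_eq S.mem_H (k := 0) (k' := 0 + alt w v) ?_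
  rw [mul_inv_eq_iff_eq_mul, S.el_comm, ← mul_assoc]
  congr 1
  rw [el_mul, beta_zero_left, zero_add, add_zero, add_comm 0]

theorem act_one (v : Sp 4) : act e (1 : G) v = v := S.act_mem (one_mem _) v

theorem act_isom {c : G} (hc : c ∈ centralizer ({z} : Set G)) : Isom (act e c) where
  map_add u v := by
    obtain ⟨i, hi⟩ := S.conj_el hc u 0
    obtain ⟨j, hj⟩ := S.conj_el hc v 0
    refine S.act_eq hc (k := 0 + 0 + beta (ff 4) u v)
      (k' := i + j + beta (ff 4) (act e c u) (act e c v)) ?_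
    rw [← el_mul, show c * (el e u 0 * el e v 0) * c⁻¹ =
      c * el e u 0 * c⁻¹ * (c * el e v 0 * c⁻¹) by group, hi, hj, el_mul]
  map_qd v := by
    obtain ⟨i, hi⟩ := S.conj_el hc v 0
    have h := S.el_sq (act e c v) i
    rw [← hi, show c * el e v 0 * c⁻¹ * (c * el e v 0 * c⁻¹) =
      c * (el e v 0 * el e v 0) * c⁻¹ by group, S.el_sq] at h
    rcases z2_cases (qd v) with e1 | e1 <;> rw [e1] at h ⊢
    · rw [el_zero, mul_one, mul_inv_cancel, ← el_zero] at h
      exact (el_inj h).2.symm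
    · rw [S.el_one, mul_inv_eq_iff_eq_mul.2 (mem_centralizer_singleton_iff.1 hc), ← S.el_one] at h
      exact (el_inj h).2.symm

theorem mem_of_act {c : G} (hc : c ∈ centralizer ({z} : Set G)) (h : ∀ v, act e c v = v) :
    c ∈ Q := by
  let φ : ↥Q ≃* ↥Q :=
    { toFun := fun g => ⟨c * g * c⁻¹, S.conj_mem hc g.2⟩
      invFun := fun g => ⟨c⁻¹ * g * c, by
        have := S.conj_mem (inv_mem hc) g.2
        rwa [inv_inv] at this⟩
      left_inv := fun g => Subtype.ext (by group)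
      right_inv := fun g => Subtype.ext (by group)
      map_mul' := fun a b => Subtype.ext (by simp only [Subgroup.coe_mul]; group) }
  have hφ : ∀ g : ↥Q, φ g * g⁻¹ ∈ center ↥Q := fun g => by
    obtain ⟨v, k, hg⟩ := exists_el (e := e) g.2
    obtain ⟨j, hj⟩ := S.conj_el hc v k
    rw [h] at hj
    have hv : ((φ g * g⁻¹ : ↥Q) : G) = el e v j * (el e v k)⁻¹ := by
      rw [Subgroup.coe_mul, InvMemClass.coe_inv, ← hj, ← hg]
      rfl
    have hz : ((φ g * g⁻¹ : ↥Q) : G) = 1 ∨ ((φ g * g⁻¹ : ↥Q) : G) = z := by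
      rcases z2_cases j with rfl | rfl <;> rcases z2_cases k with rfl | rfl
      · left; rw [hv, mul_inv_cancel]
      · right
        rw [hv, show (1 : ZMod 2) = 0 + 1 from rfl, S.el_add_one, mul_inv_rev, S.pack.z_inv,
          ← mul_assoc, S.pack.comm_z (el_mem _ _), mul_assoc, mul_inv_cancel, mul_one]
      · right
        rw [hv, show (1 : ZMod 2) = 0 + 1 from rfl, S.el_add_one, mul_inv_eq_iff_eq_mul]
        exact S.pack.comm_z (el_mem _ _)
      · left; rw [hv, mul_inv_cancel]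
    generalize φ g * g⁻¹ = u at hz
    exact Subgroup.mem_center_iff.2 fun b => Subtype.ext (by
      show (b : G) * (u : G) = (u : G) * b
      rcases hz with e' | e' <;> rw [e']
      · simp
      · exact S.pack.comm_z b.2)
  obtain ⟨g, hg⟩ := Trans3.exists_conj_of_trivial_mod_center S.pack.ext φ hφ
  have : (g : G)⁻¹ * c ∈ centralizer (Q : Set G) := mem_centralizer_iff.2 fun a ha => by
    have e1 : c * a * c⁻¹ = g * a * (g : G)⁻¹ := congrArg Subtype.val (hg ⟨a, ha⟩)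
    calc a * ((g : G)⁻¹ * c) = (g : G)⁻¹ * (g * a * (g : G)⁻¹) * c := by group
      _ = (g : G)⁻¹ * c * a := by rw [← e1]; group
  simpa using mul_mem g.2 (S.pack.cent this)

/-- The maps induced by `C(z)` form a set closed under composition with the pairs. -/
theorem evenP : Even (fun f : Sp 4 → Sp 4 =>
    ∃ c ∈ centralizer ({z} : Set G), ∀ v, act e c v = f v) where
  comp := fun f g ⟨c, hc, hf⟩ ⟨d, hd, hg⟩ => ⟨c * d, mul_mem hc hd, fun v => by
    rw [S.act_mul hc hd, hg, hf]; rfl⟩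
  pair := fun a b ha hb => S.even a b ha hb

/-- `C(z)` is transitive on the non-zero singular vectors. -/
theorem exists_to_e0 {p : Sp 4} (hp : qd p = 0) (hp0 : p ≠ 0) :
    ∃ c ∈ centralizer ({z} : Set G), act e c p = e0 := by
  obtain ⟨f, k, hf, hfp⟩ := to_e0 hp hp0
  obtain ⟨-, -, -, hn, hen, -⟩ := basic_facts
  obtain ⟨g, ⟨c, hc, hcg⟩, -, hg⟩ := S.evenP.exists_of_word hn hf
  exact ⟨c, hc, by rw [hcg, hg p (by rw [hfp, hen]), hfp]⟩

/-- The involutions of `Q` other than `z` are conjugate in `C(z)`. -/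
theorem isConj_H {a b : G} (ha : a ∈ Q) (ha2 : a * a = 1) (ha1 : a ≠ 1) (haz : a ≠ z) (hb : b ∈ Q)
    (hb2 : b * b = 1) (hb1 : b ≠ 1) (hbz : b ≠ z) :
    ∃ c ∈ centralizer ({z} : Set G), c * a * c⁻¹ = b := by
  have key : ∀ a : G, a ∈ Q → a * a = 1 → a ≠ 1 → a ≠ z →
      ∃ c ∈ centralizer ({z} : Set G), c * a * c⁻¹ = el e e0 0 := by
    intro a ha ha2 ha1 haz
    obtain ⟨v, k, rfl⟩ := exists_el (e := e) ha
    have hv : qd v = 0 := by
      rw [S.el_sq] at ha2
      exact (el_inj (e := e) (ha2.trans el_zero.symm)).2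
    have hv0 : v ≠ 0 := by
      rintro rfl
      rcases z2_cases k with rfl | rfl
      exacts [ha1 el_zero, haz S.el_one]
    obtain ⟨c, hc, hcv⟩ := S.exists_to_e0 hv hv0
    obtain ⟨j, hj⟩ := S.conj_el hc v k
    rw [hcv] at hj
    rcases z2_cases j with rfl | rfl
    · exact ⟨c, hc, hj⟩
    · obtain ⟨-, -, hef, -⟩ := basic_facts
      refine ⟨el e f0 0 * c, mul_mem S.mem_H hc, ?_⟩
      rw [show el e f0 0 * c * el e v k * (el e f0 0 * c)⁻¹ =
        el e f0 0 * (c * el e v k * c⁻¹) * (el e f0 0)⁻¹ by group, hj, mul_inv_eq_iff_eq_mul,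
        S.el_comm, ← mul_assoc, alt_comm, hef, el_mul, el_mul, el_mul, beta_zero_left, zero_add,
        add_zero, z2_add_self]
  obtain ⟨c, hc, h1⟩ := key a ha ha2 ha1 haz
  obtain ⟨d, hd, h2⟩ := key b hb hb2 hb1 hbz
  refine ⟨d⁻¹ * c, mul_mem (inv_mem hd) hc, ?_⟩
  rw [show d⁻¹ * c * a * (d⁻¹ * c)⁻¹ = d⁻¹ * (c * a * c⁻¹) * d by group, h1, ← h2]; group

theorem isConj_z {a : G} (ha : a ∈ Q) (ha2 : a * a = 1) (ha1 : a ≠ 1) : IsConj z a := by
  by_cases haz : a = z
  · rw [haz]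
  obtain ⟨g, hg, hne⟩ := S.fus
  have k := S.pack.map g
  obtain ⟨c, -, h⟩ := S.isConj_H hg k.z_mul_z k.z_ne hne ha ha2 ha1 haz
  exact isConj_iff.2 ⟨c * g, by rw [← h]; group⟩

/-- An element exchanging `z` and the first singular involution. -/
theorem exists_swap : ∃ g, g * z * g⁻¹ = el e e0 0 ∧ g * el e e0 0 * g⁻¹ = z := by
  obtain ⟨hq, -⟩ := basic_facts
  set x := el e e0 0 with hx
  have hxQ : x ∈ Q := el_mem _ _
  have hx2 : x * x = 1 := by rw [hx, S.el_sq, hq, el_zero]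
  have hx1 : x ≠ 1 := fun h => absurd (el_inj (e := e) (h.trans el_zero.symm)).1 (by decide)
  have hxz : x ≠ z := fun h => absurd (el_inj (e := e) (h.trans S.el_one.symm)).1 (by decide)
  obtain ⟨g, hg⟩ := isConj_iff.1 (S.isConj_z hxQ hx2 hx1)
  have hz := S.pack.mem_conj (g := g) (hg ▸ hxQ)
  obtain ⟨z0, hz0, hz0e⟩ := hz
  have hz0e' : g * z0 * g⁻¹ = z := hz0e
  have hz02 : z0 * z0 = 1 := by
    have := S.pack.z_mul_z
    rw [← hz0e'] at this
    calc z0 * z0 = g⁻¹ * (g * z0 * g⁻¹ * (g * z0 * g⁻¹)) * g := by group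
      _ = 1 := by rw [this]; group
  have hz01 : z0 ≠ 1 := fun h => S.pack.z_ne (by rw [← hz0e', h]; group)
  have hz0z : z0 ≠ z := fun h => hxz (by rw [h] at hz0e'; exact hg.symm.trans hz0e')
  obtain ⟨c, hc, hce⟩ := S.isConj_H hxQ hx2 hx1 hxz hz0 hz02 hz01 hz0z
  refine ⟨g * c, ?_, ?_⟩
  · rw [show g * c * z * (g * c)⁻¹ = g * (c * z * c⁻¹) * g⁻¹ by group,
      mul_inv_eq_iff_eq_mul.2 (mem_centralizer_singleton_iff.1 hc), hg]
  · rw [show g * c * x * (g * c)⁻¹ = g * (c * x * c⁻¹) * g⁻¹ by group, hce, hz0e']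

end Setup

end CfsgLib.ClassK.Conway
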