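import Cfsg.Agent.Lib.ClassK.ConwayTri

/-!
The normal form `z^i x^j y(a) d(b)` and its multiplication.
-/

set_option autoImplicit false

namespace CfsgLib.ClassK.Conway

open Subgroup CfsgLib.Trans3.ExtraTwo
open CfsgLib.PLocal.LargeExtra

variable {G : Type*} [Group G]

/-- Elements of the four-group. -/
def ep {Q : Subgroup G} (z : G) (e : ↥Q ≃* ES 4 (ff 4)) (i j : ZMod 2) : G :=
  pw z i * pw (xe e) j

/-- The translate of a lift by `ρ`. -/
def yl {Q : Subgroup G} (e : ↥Q ≃* ES 4 (ff 4)) (ρ : G) (a : Sp 3) : G := ρ * dl e a * ρ⁻¹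

/-- The normal form. -/
def nm {Q : Subgroup G} (z : G) (e : ↥Q ≃* ES 4 (ff 4)) (ρ : G) (i j : ZMod 2) (a b : Sp 3) : G :=
  ep z e i j * (yl e ρ a * dl e b)

namespace Tri

variable {z : G} {Q : Subgroup G} {e : ↥Q ≃* ES 4 (ff 4)} {ρ : G} (T : Tri z Q e ρ)
include T
variable [Finite G]

theorem rho_inv : ρ⁻¹ = ρ * ρ := inv_eq_of_mul_eq_one_left T.rho3

theorem rho_xz : ρ * (xe e * z) * ρ⁻¹ = z := by
  rw [show ρ * (xe e * z) * ρ⁻¹ = ρ * xe e * ρ⁻¹ * (ρ * z * ρ⁻¹) by group, T.rho_x, T.rho_z,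
    mul_assoc, ← T.pair.comm, ← mul_assoc, T.pair.hx2, one_mul]

theorem ep_eq (i j : ZMod 2) : ep z e i j = el e (j • e0) i := by
  rcases z2_cases j with rfl | rfl
  · rw [ep, pw_zero, mul_one, zero_smul]
    rcases z2_cases i with rfl | rfl
    · rw [pw_zero, Setup.el_zero]
    · rw [pw_one, T.setup.el_one]
  · rw [ep, pw_one, one_smul]
    rcases z2_cases i with rfl | rfl
    · rw [pw_zero, one_mul]; rfl
    · rw [pw_one, show (1 : ZMod 2) = 0 + 1 from rfl, T.setup.el_add_one]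
      exact T.pair.comm.symm

theorem ep_inj {i j i' j' : ZMod 2} (h : ep z e i j = ep z e i' j') : i = i' ∧ j = j' := by
  rw [T.ep_eq, T.ep_eq] at h
  obtain ⟨hv, hc⟩ := Setup.el_inj h
  refine ⟨hc, ?_⟩
  rcases z2_cases j with rfl | rfl <;> rcases z2_cases j' with rfl | rfl
  · rfl
  · exact absurd hv (by rw [zero_smul, one_smul]; decide)
  · exact absurd hv (by rw [zero_smul, one_smul]; decide)
  · rfl

theorem ep_mul (i j k l : ZMod 2) : ep z e i j * ep z e k l = ep z e (i + k) (j + l) := by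
  have hxz := T.pair.comm
  rw [ep, ep, ep, pw_add T.pair.hz2, pw_add T.pair.hx2]
  have : pw z k * pw (xe e) j = pw (xe e) j * pw z k :=
    pw_comm (pw_comm hxz k).symm j
  calc pw z i * pw (xe e) j * (pw z k * pw (xe e) l)
      = pw z i * (pw (xe e) j * pw z k) * pw (xe e) l := by simp only [mul_assoc]
    _ = pw z i * pw z k * (pw (xe e) j * pw (xe e) l) := by rw [← this]; simp only [mul_assoc]

theorem ep_zero : ep z e 0 0 = 1 := by simp [ep, pw_zero]

theorem ep_inv (i j : ZMod 2) : (ep z e i j)⁻¹ = ep z e i j :=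
  inv_eq_of_mul_eq_one_right (by rw [T.ep_mul, z2_add_self, z2_add_self, T.ep_zero])

theorem ce_ep {c : G} (hc : CE z e c) (i j : ZMod 2) : c * ep z e i j = ep z e i j * c := by
  rw [ep, ← mul_assoc, pw_comm hc.1, mul_assoc, pw_comm hc.2, mul_assoc]

theorem ep_conj_rho (i j : ZMod 2) : ρ * ep z e i j * ρ⁻¹ = ep z e j (i + j) := by
  rw [show ρ * ep z e i j * ρ⁻¹ = (ρ * pw z i * ρ⁻¹) * (ρ * pw (xe e) j * ρ⁻¹) by
    rw [ep]; group, pw_conj, pw_conj, T.rho_z, T.rho_x, pw_mul j T.pair.comm]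
  have h1 : pw (xe e) i = ep z e 0 i := by rw [ep, pw_zero, one_mul]
  have h2 : pw (xe e) j = ep z e 0 j := by rw [ep, pw_zero, one_mul]
  have h3 : pw z j = ep z e j 0 := by rw [ep, pw_zero, mul_one]
  rw [h1, h2, h3, T.ep_mul, T.ep_mul]
  congr 1 <;> ring

theorem q_sq : qe e * qe e = 1 := T.setup.xe_facts.2.2.2.2.2.1

theorem q_z : qe e * z = z * qe e := T.setup.pack.comm_z T.setup.xe_facts.2.2.2.2.1

theorem ep_conj_q (i j : ZMod 2) : qe e * ep z e i j * qe e = ep z e (i + j) j := by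
  have hx := T.setup.xe_facts.2.2.2.2.2.2
  have hq := inv_eq_of_mul_eq_one_right T.q_sq
  have hz : qe e * z * (qe e)⁻¹ = z := mul_inv_eq_iff_eq_mul.2 T.q_z
  have e1 : qe e * ep z e i j * qe e =
      (qe e * pw z i * (qe e)⁻¹) * (qe e * pw (xe e) j * (qe e)⁻¹) := by
    conv_lhs => arg 2; rw [← hq]
    rw [ep]; group
  rw [e1, pw_conj, pw_conj, hz]
  rw [show qe e * xe e * (qe e)⁻¹ = xe e * z by rw [hq]; exact hx, pw_mul j T.pair.comm]
  have h2 : pw (xe e) j = ep z e 0 j := by rw [ep, pw_zero, one_mul]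
  have h3 : ∀ m, pw z m = ep z e m 0 := fun m => by rw [ep, pw_zero, mul_one]
  rw [h2, h3, h3, T.ep_mul, T.ep_mul]
  congr 1 <;> ring

theorem el_split (s k : ZMod 2) (b : Sp 3) :
    el e (s • e0 + up b) k = ep z e k s * dl e b := by
  rw [T.ep_eq, dl, Setup.el_mul]
  congr 1
  rcases z2_cases s with rfl | rfl
  · rw [zero_smul, beta_zero_left]; simp
  · rw [one_smul, (beta_e0_up b).1]; simp

theorem dl_ce (b : Sp 3) : CE z e (dl e b) := by
  refine ⟨T.setup.pack.comm_z (Setup.el_mem _ _), ?_⟩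
  rw [dl, xe, T.setup.el_comm, alt_comm, (beta_e0_up b).2.2.2.2.1, Setup.el_zero, one_mul]

theorem q_dl (b : Sp 3) : qe e * dl e b = dl e b * qe e := by
  rw [dl, qe, T.setup.el_comm, (beta_e0_up b).2.2.2.2.2, Setup.el_zero, one_mul]

theorem dl_zero : dl e 0 = 1 := by rw [dl, up_zero, Setup.el_zero]

theorem dl_mul (a b : Sp 3) : dl e a * dl e b = ep z e (beta (ff 3) a b) 0 * dl e (a + b) := by
  rw [T.ep_eq, zero_smul, dl, dl, dl, Setup.el_mul, Setup.el_mul, beta_zero_left, beta_up, up_add]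
  simp

theorem dl_comm (a b : Sp 3) : dl e a * dl e b = ep z e (alt a b) 0 * (dl e b * dl e a) := by
  rw [T.ep_eq, zero_smul, dl, dl, T.setup.el_comm, alt_up]

theorem yl_ce (b : Sp 3) : CE z e (yl e ρ b) := by
  have hd := T.dl_ce b
  constructor
  · have h : dl e b * (xe e * z) = (xe e * z) * dl e b := by
      rw [← mul_assoc, hd.2, mul_assoc, hd.1, ← mul_assoc]
    calc yl e ρ b * z = ρ * dl e b * ρ⁻¹ * (ρ * (xe e * z) * ρ⁻¹) := by rw [T.rho_xz, yl]
      _ = ρ * (dl e b * (xe e * z)) * ρ⁻¹ := by group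
      _ = ρ * (xe e * z) * ρ⁻¹ * (ρ * dl e b * ρ⁻¹) := by rw [h]; group
      _ = z * yl e ρ b := by rw [T.rho_xz, yl]
  · calc yl e ρ b * xe e = ρ * dl e b * ρ⁻¹ * (ρ * z * ρ⁻¹) := by rw [T.rho_z, yl]
      _ = ρ * (dl e b * z) * ρ⁻¹ := by group
      _ = ρ * z * ρ⁻¹ * (ρ * dl e b * ρ⁻¹) := by rw [hd.1]; group
      _ = xe e * yl e ρ b := by rw [T.rho_z, yl]

theorem yl_memT (b : Sp 3) : yl e ρ b ∈ Q.map (MulAut.conj ρ).toMonoidHom :=
  ⟨dl e b, Setup.el_mem _ _, rfl⟩

theorem yl_zero : yl e ρ 0 = 1 := by rw [yl, T.dl_zero]; group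

theorem yl_mul (a b : Sp 3) : yl e ρ a * yl e ρ b = ep z e 0 (beta (ff 3) a b) * yl e ρ (a + b) := by
  rw [show yl e ρ a * yl e ρ b = ρ * (dl e a * dl e b) * ρ⁻¹ by rw [yl, yl]; group, T.dl_mul,
    show ρ * (ep z e (beta (ff 3) a b) 0 * dl e (a + b)) * ρ⁻¹ =
      ρ * ep z e (beta (ff 3) a b) 0 * ρ⁻¹ * (ρ * dl e (a + b) * ρ⁻¹) by group, T.ep_conj_rho,
    add_zero]
  rfl

theorem yl_comm (a b : Sp 3) :
    yl e ρ a * yl e ρ b = ep z e 0 (alt a b) * (yl e ρ b * yl e ρ a) := by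
  rw [T.yl_mul, T.yl_mul, ← mul_assoc, T.ep_mul, zero_add, add_comm b a, ← beta_symm (ff 3) a b]
  congr 2
  generalize beta (ff 3) a b = p; generalize beta (ff 3) b a = r
  revert p r; decide

theorem ep_memT (i j : ZMod 2) : ep z e i j ∈ Q.map (MulAut.conj ρ).toMonoidHom := by
  obtain ⟨hz, hx⟩ := T.four_mem
  refine mul_mem ?_ ?_
  · rcases z2_cases i with rfl | rfl
    · rw [pw_zero]; exact one_mem _
    · rw [pw_one]; exact hz
  · rcases z2_cases j with rfl | rfl
    · rw [pw_zero]; exact one_mem _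
    · rw [pw_one]; exact hx

/-- Elements of `Q` centralising `x`. -/
theorem exists_ep_dl {g : G} (hg : g ∈ Q) (hgx : g * xe e = xe e * g) :
    ∃ i j b, g = ep z e i j * dl e b := by
  obtain ⟨v, k, rfl⟩ := Setup.exists_el (e := e) hg
  obtain ⟨s, t, b, hv, ht, -⟩ := decomp v
  have ht0 : t = 0 := by
    rw [← ht]
    have h := T.setup.el_comm v e0 k 0
    change el e v k * xe e = el e 0 (alt v e0) * (xe e * el e v k) at h
    rw [hgx, right_eq_mul] at h
    exact (Setup.el_inj (h.trans Setup.el_zero.symm)).2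
  refine ⟨k, s, b, ?_⟩
  rw [hv, ht0, zero_smul, add_zero, T.el_split]

theorem mem_four {g : G} (hg : g ∈ Q) (hgT : g ∈ Q.map (MulAut.conj ρ).toMonoidHom) :
    ∃ i j, g = ep z e i j := by
  obtain ⟨i, j, b, rfl⟩ := T.exists_ep_dl hg (T.pair.right.comm_z hgT)
  have hb : dl e b ∈ Q.map (MulAut.conj ρ).toMonoidHom :=
    ((Q.map (MulAut.conj ρ).toMonoidHom).mul_mem_cancel_left (T.ep_memT i j)).1 hgT
  exact ⟨i, j, by rw [T.eq_zero_of_mem hb, T.dl_zero, mul_one]⟩

/-- The translate of `y(b)` by `ρ` is its conjugate by `q`. -/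
theorem rho_yl_eq (b : Sp 3) : ρ * yl e ρ b * ρ⁻¹ = qe e * yl e ρ b * qe e := by
  have hq := T.q_sq
  have h1 : qe e * ρ = ρ⁻¹ * qe e := by
    calc qe e * ρ = qe e * ρ * (qe e * qe e) := by rw [hq, mul_one]
      _ = ρ⁻¹ * qe e := by rw [← mul_assoc, T.qrq]
  have h2 : ρ⁻¹ * qe e = qe e * ρ := h1.symm
  calc ρ * yl e ρ b * ρ⁻¹ = (ρ * ρ) * dl e b * (ρ * ρ)⁻¹ := by rw [yl]; group
    _ = ρ⁻¹ * (qe e * qe e * dl e b) * ρ := by rw [← T.rho_inv, hq, one_mul, inv_inv]
    _ = ρ⁻¹ * (qe e * (dl e b * qe e)) * ρ := by rw [← T.q_dl]; simp only [mul_assoc]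
    _ = (ρ⁻¹ * qe e) * dl e b * (qe e * ρ) := by simp only [mul_assoc]
    _ = (qe e * ρ) * dl e b * (ρ⁻¹ * qe e) := by rw [h2, h1]
    _ = qe e * yl e ρ b * qe e := by rw [yl]; simp only [mul_assoc]

/-- The commutation of the two lifts, and the conjugate of `y(b)` by `q`. -/
theorem basic_relations (a b : Sp 3) :
    dl e a * yl e ρ b = ep z e (alt a b) (alt a b) * (yl e ρ b * dl e a) ∧
    qe e * yl e ρ b * qe e = ep z e (qd b) (qd b) * (dl e b * yl e ρ b) := by
  have S := T.setup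
  have hce : ∀ c, CE z e c → ∀ i j, c * ep z e i j = ep z e i j * c := fun c hc => T.ce_ep hc
  -- the shape of the conjugate by `q`
  have hqy : ∀ b, ∃ k l, qe e * yl e ρ b * qe e = ep z e k l * (dl e b * yl e ρ b) := by
    intro b
    set q := qe e with hq
    have hqi : q⁻¹ = q := inv_eq_of_mul_eq_one_right T.q_sq
    have hy := T.yl_ce b
    have hmem : q * yl e ρ b * q * (yl e ρ b)⁻¹ ∈ Q := by
      rw [show q * yl e ρ b * q * (yl e ρ b)⁻¹ = q * (yl e ρ b * q * (yl e ρ b)⁻¹) by group]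
      exact mul_mem (Setup.el_mem _ _) (T.ce_conjQ hy (Setup.el_mem _ _))
    have hcomm : q * yl e ρ b * q * (yl e ρ b)⁻¹ * xe e =
        xe e * (q * yl e ρ b * q * (yl e ρ b)⁻¹) := by
      have hx := S.xe_facts.2.2.2.2.2.2
      have hzq := T.q_z
      have e1 : q * xe e = xe e * z * q := by
        calc q * xe e = q * xe e * (q * q) := by rw [T.q_sq, mul_one]
          _ = xe e * z * q := by rw [← mul_assoc, hx]
      have e2 : q * (xe e * z) = xe e * q := by
        rw [← mul_assoc, e1, mul_assoc, hzq, ← mul_assoc, mul_assoc (xe e), T.pair.hz2, mul_one]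
      have e3 : (yl e ρ b)⁻¹ * xe e = xe e * (yl e ρ b)⁻¹ := (Commute.inv_left hy.2).eq
      calc q * yl e ρ b * q * (yl e ρ b)⁻¹ * xe e
          = q * yl e ρ b * (q * xe e) * (yl e ρ b)⁻¹ := by simp only [mul_assoc]; rw [e3]
        _ = q * (yl e ρ b * (xe e * z)) * q * (yl e ρ b)⁻¹ := by rw [e1]; simp only [mul_assoc]
        _ = q * (xe e * z) * yl e ρ b * q * (yl e ρ b)⁻¹ := by
          rw [show yl e ρ b * (xe e * z) = xe e * z * yl e ρ b by
            rw [← mul_assoc, hy.2, mul_assoc, hy.1, ← mul_assoc]]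
          simp only [mul_assoc]
        _ = xe e * (q * yl e ρ b * q * (yl e ρ b)⁻¹) := by rw [e2]; simp only [mul_assoc]
    obtain ⟨k, l, c, hc⟩ := T.exists_ep_dl hmem hcomm
    have hform : q * yl e ρ b * q = ep z e k l * (dl e c * yl e ρ b) := by
      rw [← mul_assoc, ← hc]; group
    have h3 : dl e b = ep z e l (k + l) * (yl e ρ c * (ep z e k l * (dl e c * yl e ρ b))) := by
      have hr := T.rho_yl_eq b
      rw [← hq, hform] at hr
      calc dl e b = ρ * (ρ * yl e ρ b * ρ⁻¹) * ρ⁻¹ := by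
            rw [yl]
            calc dl e b = (ρ * ρ * ρ) * dl e b * (ρ * ρ * ρ)⁻¹ := by rw [T.rho3]; group
              _ = _ := by group
        _ = ρ * ep z e k l * ρ⁻¹ * (ρ * dl e c * ρ⁻¹ * (ρ * yl e ρ b * ρ⁻¹)) := by
            conv_lhs => rw [hr]
            group
        _ = _ := by rw [T.ep_conj_rho, hr]; rfl
    have hT : (dl e c)⁻¹ * dl e b ∈ Q.map (MulAut.conj ρ).toMonoidHom := by
      rw [h3, show (dl e c)⁻¹ * (ep z e l (k + l) * (yl e ρ c * (ep z e k l * (dl e c * yl e ρ b)))) =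
        (dl e c)⁻¹ * (ep z e l (k + l) * (yl e ρ c * ep z e k l)) * ((dl e c)⁻¹)⁻¹ * yl e ρ b by group]
      refine mul_mem (T.ce_conjT ⟨(Commute.inv_left (T.dl_ce c).1).eq,
        (Commute.inv_left (T.dl_ce c).2).eq⟩ (mul_mem (T.ep_memT _ _)
          (mul_mem (T.yl_memT c) (T.ep_memT _ _)))) (T.yl_memT b)
    have hbc : c = b := by
      have hi : (dl e c)⁻¹ = el e (up c) (qd c) := inv_eq_of_mul_eq_one_right (by
        rw [dl, Setup.el_mul, sp_add_self, beta_up, zero_add, z2_add_self, Setup.el_zero])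
      rw [hi, dl, Setup.el_mul, up_add] at hT
      have h0 := T.eq_zero_of_mem hT
      calc c = c + (c + b) := by rw [h0, add_zero]
        _ = b := by rw [← add_assoc, sp_add_self, zero_add]
    subst hbc
    exact ⟨k, l, hform⟩
  have hcom : ∀ a b, ∃ i j, dl e a * yl e ρ b = ep z e i j * (yl e ρ b * dl e a) := by
    intro a b
    have hd := T.dl_ce a
    have hy := T.yl_ce b
    obtain ⟨i, j, hij⟩ := T.mem_four (g := dl e a * yl e ρ b * (dl e a)⁻¹ * (yl e ρ b)⁻¹)
      (by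
        rw [show dl e a * yl e ρ b * (dl e a)⁻¹ * (yl e ρ b)⁻¹ =
          dl e a * (yl e ρ b * (dl e a)⁻¹ * (yl e ρ b)⁻¹) by group]
        exact mul_mem (Setup.el_mem _ _) (T.ce_conjQ hy (inv_mem (Setup.el_mem _ _))))
      (mul_mem (T.ce_conjT hd (T.yl_memT b)) (inv_mem (T.yl_memT b)))
    exact ⟨i, j, by rw [← hij]; group⟩
  have hj : ∀ a b i j, dl e a * yl e ρ b = ep z e i j * (yl e ρ b * dl e a) → j = alt a b := by
    intro a b i j h
    obtain ⟨k, l, hk⟩ := hqy b
    set q := qe e with hq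
    have hqd := T.q_dl a
    rw [← hq] at hqd
    have hL : q * (dl e a * yl e ρ b) * q = dl e a * (q * yl e ρ b * q) := by
      rw [← mul_assoc, hqd]; simp only [mul_assoc]
    have hR : q * (ep z e i j * (yl e ρ b * dl e a)) * q =
        q * ep z e i j * q * ((q * yl e ρ b * q) * dl e a) := by
      have e1 : dl e a * q = q * dl e a := hqd.symm
      calc q * (ep z e i j * (yl e ρ b * dl e a)) * q
          = q * ep z e i j * (yl e ρ b * q) * dl e a := by simp only [mul_assoc, e1]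
        _ = q * ep z e i j * (q * q) * (yl e ρ b * q) * dl e a := by rw [T.q_sq, mul_one]
        _ = _ := by simp only [mul_assoc]
    have h' := congrArg (fun g => q * g * q) h
    rw [hL, hR, hk, hq, T.ep_conj_q] at h'
    have hl : dl e a * (ep z e k l * (dl e b * yl e ρ b)) =
        ep z e (k + alt a b + i) (l + j) * (dl e b * (yl e ρ b * dl e a)) := by
      calc dl e a * (ep z e k l * (dl e b * yl e ρ b))
          = ep z e k l * (dl e a * dl e b) * yl e ρ b := by
            rw [← mul_assoc, T.ce_ep (T.dl_ce a)]; simp only [mul_assoc]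
        _ = ep z e k l * ep z e (alt a b) 0 * dl e b * (dl e a * yl e ρ b) := by
            rw [T.dl_comm a b]; simp only [mul_assoc]
        _ = ep z e k l * ep z e (alt a b) 0 * ep z e i j * (dl e b * (yl e ρ b * dl e a)) := by
            rw [h, ← mul_assoc (_ * dl e b), mul_assoc _ (dl e b), T.ce_ep (T.dl_ce b)]
            simp only [mul_assoc]
        _ = _ := by rw [T.ep_mul, T.ep_mul, add_zero]
    rw [hl] at h'
    have h'' : ep z e (k + alt a b + i) (l + j) = ep z e (i + j + k) (j + l) := by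
      rw [← T.ep_mul (i + j) j k l]
      refine mul_right_cancel (b := dl e b * (yl e ρ b * dl e a)) (h'.trans ?_)
      simp only [mul_assoc]
    exact (by decide : ∀ i j k p : ZMod 2, k + p + i = i + j + k → j = p) i j k _ (T.ep_inj h'').1
  have hall : ∀ a b i j, dl e a * yl e ρ b = ep z e i j * (yl e ρ b * dl e a) →
      i = alt a b ∧ j = alt a b := by
    intro a b i j h
    refine ⟨?_, hj a b i j h⟩
    obtain ⟨k, l, hk⟩ := hqy b
    obtain ⟨i', j', h'⟩ := hcom b a
    have hj' := hj b a i' j' h'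
    have hjj := hj a b i j h
    have hyb : ρ * yl e ρ b * ρ⁻¹ = ep z e k l * (dl e b * yl e ρ b) := (T.rho_yl_eq b).trans hk
    have h2 := congrArg (fun g => ρ * g * ρ⁻¹) h
    rw [show ρ * (dl e a * yl e ρ b) * ρ⁻¹ = yl e ρ a * (ρ * yl e ρ b * ρ⁻¹) by simp only [yl]; group,
      show ρ * (ep z e i j * (yl e ρ b * dl e a)) * ρ⁻¹ =
        ρ * ep z e i j * ρ⁻¹ * ((ρ * yl e ρ b * ρ⁻¹) * yl e ρ a) by simp only [yl]; group,
      T.ep_conj_rho, hyb] at h2
    have h'inv : yl e ρ a * dl e b = ep z e i' j' * (dl e b * yl e ρ a) := by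
      rw [h', ← mul_assoc, T.ep_mul, z2_add_self, z2_add_self, T.ep_zero, one_mul]
    have hl : yl e ρ a * (ep z e k l * (dl e b * yl e ρ b)) =
        ep z e (k + i') (l + j' + alt a b) * (dl e b * (yl e ρ b * yl e ρ a)) := by
      calc yl e ρ a * (ep z e k l * (dl e b * yl e ρ b))
          = ep z e k l * (yl e ρ a * dl e b) * yl e ρ b := by
            rw [← mul_assoc, T.ce_ep (T.yl_ce a)]; simp only [mul_assoc]
        _ = ep z e k l * ep z e i' j' * dl e b * (yl e ρ a * yl e ρ b) := by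
            rw [h'inv]; simp only [mul_assoc]
        _ = ep z e k l * ep z e i' j' * ep z e 0 (alt a b) * (dl e b * (yl e ρ b * yl e ρ a)) := by
            rw [T.yl_comm a b, ← mul_assoc (_ * dl e b), mul_assoc _ (dl e b),
              T.ce_ep (T.dl_ce b)]
            simp only [mul_assoc]
        _ = _ := by rw [T.ep_mul, T.ep_mul, add_zero]
    rw [hl] at h2
    have h'' : ep z e (k + i') (l + j' + alt a b) = ep z e (j + k) (i + j + l) := by
      rw [← T.ep_mul j (i + j) k l]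
      refine mul_right_cancel (b := dl e b * (yl e ρ b * yl e ρ a)) (h2.trans ?_)
      simp only [mul_assoc]
    have := (T.ep_inj h'').2
    rw [hj', hjj, alt_comm b a] at this
    exact (by decide : ∀ i l p : ZMod 2, l + p + p = i + p + l → i = p) i l _ this
  constructor
  · obtain ⟨i, j, h⟩ := hcom a b
    obtain ⟨rfl, rfl⟩ := hall a b i j h
    exact h
  · obtain ⟨k, l, hk⟩ := hqy b
    obtain ⟨i, j, h⟩ := hcom b b
    obtain ⟨hi, hj'⟩ := hall b b i j h
    rw [alt_self] at hi hj'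
    subst hi hj'
    rw [T.ep_zero, one_mul] at h
    have hyb : ρ * yl e ρ b * ρ⁻¹ = ep z e k l * (dl e b * yl e ρ b) := (T.rho_yl_eq b).trans hk
    have h3 : dl e b = ep z e (l + k) (k + qd b) * dl e b := by
      calc dl e b = (ρ * ρ * ρ) * dl e b * (ρ * ρ * ρ)⁻¹ := by rw [T.rho3]; group
        _ = ρ * (ρ * yl e ρ b * ρ⁻¹) * ρ⁻¹ := by rw [yl]; group
        _ = ρ * ep z e k l * ρ⁻¹ * (yl e ρ b * (ρ * yl e ρ b * ρ⁻¹)) := by
            conv_lhs => rw [hyb]
            rw [yl]; group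
        _ = ep z e l (k + l) * (ep z e k l * (yl e ρ b * (dl e b * yl e ρ b))) := by
            rw [T.ep_conj_rho, hyb, ← mul_assoc (yl e ρ b), T.ce_ep (T.yl_ce b)]
            simp only [mul_assoc]
        _ = ep z e l (k + l) * (ep z e k l * (dl e b * (yl e ρ b * yl e ρ b))) := by
            rw [← mul_assoc (yl e ρ b), ← h]; simp only [mul_assoc]
        _ = _ := by
            rw [T.yl_mul, sp_add_self, T.yl_zero, mul_one, T.ce_ep (T.dl_ce b), ← mul_assoc,
              T.ep_mul, ← mul_assoc, T.ep_mul]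
            congr 2
            · ring
            · exact (by decide : ∀ k l p : ZMod 2, k + l + l + p = k + p) _ _ _
    have h4 : ep z e 0 0 = ep z e (l + k) (k + qd b) := by
      rw [T.ep_zero]
      exact mul_right_cancel ((one_mul (dl e b)).trans h3)
    have := T.ep_inj h4
    obtain ⟨rfl, rfl⟩ : k = qd b ∧ l = qd b :=
      (by decide : ∀ k l p : ZMod 2, 0 = l + k ∧ 0 = k + p → k = p ∧ l = p) k l _ this
    exact hk

end Tri

end CfsgLib.ClassK.Conway
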