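import Cfsg.Agent.Lib.ClassK.ConwayReduce

/-!
The orbits of the centraliser of the four-group on the two standard involutions.
-/

set_option autoImplicit false
set_option maxRecDepth 20000

namespace CfsgLib.ClassK.Conway

open Subgroup CfsgLib.Trans3.ExtraTwo
open CfsgLib.PLocal.LargeExtra

variable {G : Type*} [Group G] [Finite G]

theorem card_orbit_mul (M : Subgroup G) (t : G) :
    (Set.range fun c : M => (c : G) * t * (c : G)⁻¹).ncard *
      Nat.card ↥(M ⊓ centralizer ({t} : Set G)) = Nat.card M := by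
  rw [← Nat.card_coe_set_eq]
  have hs : ∀ r : Set.range (fun c : M => (c : G) * t * (c : G)⁻¹), ∃ c : M,
      (c : G) * t * (c : G)⁻¹ = r := fun r => r.2
  choose s hs using hs
  rw [← Nat.card_prod]
  refine Nat.card_congr (Equiv.ofBijective (fun p =>
    (⟨(s p.1 : G) * (p.2 : G), mul_mem (s p.1).2 (mem_inf.1 p.2.2).1⟩ : M)) ⟨?_, fun c => ?_⟩)
  · rintro ⟨r, σ⟩ ⟨r', σ'⟩ h
    have h' : (s r : G) * σ = (s r' : G) * σ' := congrArg Subtype.val h
    have hc : ∀ τ : ↥(M ⊓ centralizer ({t} : Set G)), (τ : G) * t * (τ : G)⁻¹ = t := fun τ =>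
      mul_inv_eq_iff_eq_mul.2 (mem_centralizer_singleton_iff.1 (mem_inf.1 τ.2).2)
    have hr : r = r' := Subtype.ext (by
      rw [← hs r, ← hs r']
      conv_lhs => rw [← hc σ]
      conv_rhs => rw [← hc σ']
      rw [show (s r : G) * ((σ : G) * t * (σ : G)⁻¹) * (s r : G)⁻¹ =
        ((s r : G) * σ) * t * ((s r : G) * σ)⁻¹ by group, h']
      group)
    subst hr
    exact Prod.ext rfl (Subtype.ext (mul_left_cancel h'))
  · let r : Set.range (fun c : M => (c : G) * t * (c : G)⁻¹) := ⟨(c : G) * t * (c : G)⁻¹, c, rfl⟩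
    refine ⟨(r, ⟨(s r : G)⁻¹ * c, mem_inf.2 ⟨mul_mem (inv_mem (s r).2) c.2,
      mem_centralizer_singleton_iff.2 ?_⟩⟩), Subtype.ext (mul_inv_cancel_left _ _)⟩
    have h : (s r : G) * t * (s r : G)⁻¹ = (c : G) * t * (c : G)⁻¹ := hs r
    calc (s r : G)⁻¹ * c * t = (s r : G)⁻¹ * ((c : G) * t * (c : G)⁻¹) * c := by group
      _ = t * ((s r : G)⁻¹ * c) := by rw [← h]; group

/-- The centraliser of the four-group. -/
def cE {Q : Subgroup G} (z : G) (e : ↥Q ≃* ES 4 (ff 4)) : Subgroup G :=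
  centralizer ({z} : Set G) ⊓ centralizer ({xe e} : Set G)

theorem mem_cE {Q : Subgroup G} {z : G} {e : ↥Q ≃* ES 4 (ff 4)} {c : G} :
    c ∈ cE z e ↔ CE z e c := by
  rw [cE, mem_inf, mem_centralizer_singleton_iff, mem_centralizer_singleton_iff]; rfl

namespace Tri

variable {z : G} {Q : Subgroup G} {e : ↥Q ≃* ES 4 (ff 4)} {ρ : G} (T : Tri z Q e ρ)
include T

theorem inU_conj {u : G} (hu : InU z e ρ u) (i j : ZMod 2) (a b : Sp 3) :
    ∃ i' j', u * nm z e ρ i j a b * u⁻¹ = nm z e ρ i' j' a b := by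
  obtain ⟨k, m, c, d, rfl⟩ := hu
  refine ⟨k + i + alt d a + beta (ff 3) d b + (k + alt b c + beta (ff 3) b d),
    m + j + alt d a + beta (ff 3) c a + (m + alt b c + beta (ff 3) a c), ?_⟩
  rw [mul_inv_eq_iff_eq_mul, T.nm_mul, T.nm_mul, add_comm a c, add_comm b d]
  congr 1 <;> exact (by decide : ∀ k s p q : ZMod 2, s = s + (k + p + q) + k + p + q) _ _ _ _

theorem ce_conj {g : G} (hg : CE z e g) (i j : ZMod 2) (a b : Sp 3) : ∃ i' j' σ, Isom σ ∧
    g * nm z e ρ i j a b * g⁻¹ = nm z e ρ i' j' (σ a) (σ b) := by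
  obtain ⟨l, hl, hls⟩ := T.exists_lev_sig hg
  have hU : InU z e ρ (g * l⁻¹) := T.inU_of_sig (hg.mul hl.1.inv) fun w => by
    rw [T.sig_mul hg hl.1.inv, ← hls, ← T.sig_mul hl.1 hl.1.inv, mul_inv_cancel, ← T.nm_one,
      T.sig_nm]
  obtain ⟨ka, kb, -, -, hk⟩ := T.lev_nm hl i j a b
  obtain ⟨i', j', h⟩ := T.inU_conj hU (i + kb) (j + ka) (sig e l a) (sig e l b)
  refine ⟨i', j', sig e l, T.sig_isom hl.1, ?_⟩
  rw [← h, ← hk]; group

/-- The orbit of a standard element under `C(E)`. -/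
theorem orbit_card {A B : Sp 3} {p : Sp 3 × Sp 3 → Prop} [DecidablePred p] {N : ℕ}
    (hN : (Finset.univ.filter p).card = N) (hA : alt A n3 = 0) (hB : alt B n3 = 0)
    (hcc : ∀ q r : ZMod 2, ∃ c, alt c A = q ∧ alt c B = r)
    (hp : ∀ a b, p (a, b) → ∃ f k, Word f k ∧ f a = A ∧ f b = B)
    (hp' : ∀ σ : Sp 3 → Sp 3, Isom σ → p (σ A, σ B)) :
    4 * N * Nat.card ↥(cE z e ⊓ centralizer ({nm z e ρ 0 0 A B} : Set G)) =
      Nat.card ↥(cE z e) := by
  classical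
  rw [← card_orbit_mul (cE z e) (nm z e ρ 0 0 A B)]
  congr 1
  let F : (ZMod 2 × ZMod 2) × {x // p x} → G :=
    fun x => nm z e ρ x.1.1 x.1.2 x.2.1.1 x.2.1.2
  have hF : Function.Injective F := by
    rintro ⟨⟨i, j⟩, ⟨a, b⟩, h⟩ ⟨⟨k, m⟩, ⟨c, d⟩, h'⟩ he
    obtain ⟨rfl, rfl, rfl, rfl⟩ := T.nm_inj he
    rfl
  have hr : (Set.range fun c : cE z e => (c : G) * nm z e ρ 0 0 A B * (c : G)⁻¹) = Set.range F := by
    ext g
    constructor
    · rintro ⟨⟨c, hc⟩, rfl⟩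
      obtain ⟨i', j', σ, hσ, h⟩ := T.ce_conj (mem_cE.1 hc) 0 0 A B
      exact ⟨((i', j'), ⟨(σ A, σ B), hp' σ hσ⟩), h.symm⟩
    · rintro ⟨⟨⟨i, j⟩, ⟨a, b⟩, hab⟩, rfl⟩
      obtain ⟨c, hc, h⟩ := T.pair_conj hA hB hcc (hp a b hab) i j
      refine ⟨⟨c⁻¹, mem_cE.2 hc.inv⟩, ?_⟩
      show c⁻¹ * nm z e ρ 0 0 A B * c⁻¹⁻¹ = nm z e ρ i j a b
      rw [← h]; group
  rw [hr, ← Nat.card_coe_set_eq, Nat.card_range_of_injective hF, Nat.card_prod, Nat.card_prod,
    Nat.card_zmod, Nat.card_eq_fintype_card, Fintype.card_subtype, hN]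

theorem count_ell : 4 * 336 * Nat.card ↥(cE z e ⊓ centralizer ({nm z e ρ 0 0 ea eb} : Set G)) =
    Nat.card ↥(cE z e) := by
  obtain ⟨-, -, -, -, -, -, -, -, -, qa, qb, qab, -, -, -, na, nb⟩ := basic_facts
  exact T.orbit_card card_ell_pairs na nb (by decide +kernel)
    (fun a b h => to_ell_pair h.1 h.2.1 h.2.2) fun σ hσ =>
      ⟨by rw [hσ.map_qd, qa], by rw [hσ.map_qd, qb], by rw [hσ.map_alt, qab]⟩

theorem count_sing : 4 * 630 * Nat.card ↥(cE z e ⊓ centralizer ({nm z e ρ 0 0 sa sb} : Set G)) =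
    Nat.card ↥(cE z e) := by
  obtain ⟨-, -, -, -, -, -, qa, qb, qab, -, -, -, -, na, nb, -, -⟩ := basic_facts
  exact T.orbit_card card_sing_pairs na nb (by decide +kernel)
    (fun a b h => to_sing_pair h.1 h.2.1 h.2.2.1 h.2.2.2.1 h.2.2.2.2.1 h.2.2.2.2.2) fun σ hσ =>
      ⟨by rw [hσ.map_qd, qa], by rw [hσ.map_qd, qb], by rw [hσ.map_alt, qab],
        fun h => absurd (hσ.injective (h.trans hσ.map_zero.symm)) (by decide),
        fun h => absurd (hσ.injective (h.trans hσ.map_zero.symm)) (by decide),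
        fun h => absurd (hσ.injective h) (by decide)⟩

end Tri

end CfsgLib.ClassK.Conway
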