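import Cfsg.Agent.Lib.ClassK.ConwayForm

/-!
Finite facts about the hyperbolic quadratic spaces of dimensions six and eight over two elements,
and transitivity of words in reflections on points and pairs.
-/

set_option autoImplicit false
set_option maxRecDepth 20000
set_option synthInstance.maxSize 2000

namespace CfsgLib.ClassK.Conway

open CfsgLib.Trans3.ExtraTwo

/-- A singular point. -/
def e0 : Sp 4 := ![(1, 0), 0, 0, 0]
/-- Its partner. -/
def f0 : Sp 4 := ![(0, 1), 0, 0, 0]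
/-- A non-singular vector orthogonal to both. -/
def n4 : Sp 4 := ![0, 0, 0, (1, 1)]

/-- The standard totally singular pair. -/
def sa : Sp 3 := ![(1, 0), 0, 0]
/-- Second vector of the totally singular pair. -/
def sb : Sp 3 := ![0, (1, 0), 0]
/-- The standard elliptic pair. -/
def ea : Sp 3 := ![(1, 1), 0, 0]
/-- Second vector of the elliptic pair. -/
def eb : Sp 3 := ![(1, 0), (1, 1), 0]
/-- A non-singular vector orthogonal to both standard pairs. -/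
def n3 : Sp 3 := ![0, 0, (1, 1)]

theorem basic_facts : qd e0 = 0 ∧ qd f0 = 0 ∧ alt e0 f0 = 1 ∧ qd n4 = 1 ∧ alt e0 n4 = 0 ∧
    alt f0 n4 = 0 ∧ qd sa = 0 ∧ qd sb = 0 ∧ alt sa sb = 0 ∧ qd ea = 1 ∧ qd eb = 1 ∧ alt ea eb = 1 ∧
    qd n3 = 1 ∧ alt sa n3 = 0 ∧ alt sb n3 = 0 ∧ alt ea n3 = 0 ∧ alt eb n3 = 0 := by decide +kernel

theorem step4_sing : ∀ p : Sp 4, qd p = 0 → p ≠ 0 → p ≠ e0 → alt p e0 = 0 →
    ∃ r : Sp 4, qd r = 0 ∧ alt p r = 1 ∧ alt e0 r = 1 := by decide +kernel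

theorem step4_nons : ∀ p : Sp 4, qd p = 1 → p ≠ n4 → alt p n4 = 0 →
    ∃ r : Sp 4, qd r = 1 ∧ alt p r = 1 ∧ alt n4 r = 1 := by decide +kernel

theorem step4_siegel : ∀ b : Sp 4, qd b = 0 → alt b e0 = 0 →
    ∃ r : Sp 4, qd r = 1 ∧ alt e0 r = 0 ∧ alt b r = 0 := by decide +kernel

theorem step3_sing : ∀ p : Sp 3, qd p = 0 → p ≠ 0 → p ≠ sa → alt p sa = 0 →
    ∃ r : Sp 3, qd r = 0 ∧ alt p r = 1 ∧ alt sa r = 1 := by decide +kernel

theorem step3_nons : ∀ p : Sp 3, qd p = 1 → p ≠ ea → alt p ea = 0 →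
    ∃ r : Sp 3, qd r = 1 ∧ alt p r = 1 ∧ alt ea r = 1 := by decide +kernel

theorem step3_sing_two : ∀ b : Sp 3, qd b = 0 → alt sa b = 0 → b ≠ 0 → b ≠ sa → b ≠ sb →
    alt b sb = 0 → ∃ r : Sp 3, qd r = 0 ∧ alt sa r = 0 ∧ alt b r = 1 ∧ alt sb r = 1 := by
  decide +kernel

theorem step3_nons_two : ∀ b : Sp 3, qd b = 1 → alt ea b = 1 → b ≠ eb → alt b eb = 0 →
    ∃ r : Sp 3, qd r = 1 ∧ alt ea r = 1 ∧ alt b r = 1 ∧ alt eb r = 1 := by decide +kernel

theorem std_no_two_pairs : ∀ r s : Sp 3, alt sa r = 0 → alt sb r = 0 → alt sa s = 0 → alt sb s = 0 →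
    qd r = 0 → qd s = 0 → alt r s = 0 →
    (r = 0 ∨ r = sa ∨ r = sb ∨ r = sa + sb) ∨ (s = 0 ∨ s = sa ∨ s = sb ∨ s = sa + sb) ∨
      (r + s = 0 ∨ r + s = sa ∨ r + s = sb ∨ r + s = sa + sb) := by decide +kernel

theorem std_triangle : ∀ v w : Sp 3, alt sa v = 0 → alt sb v = 0 → alt sa w = 0 → alt sb w = 0 →
    ¬ (v = 0 ∨ v = sa ∨ v = sb ∨ v = sa + sb) → ¬ (w = 0 ∨ w = sa ∨ w = sb ∨ w = sa + sb) →
    ¬ (v + w = 0 ∨ v + w = sa ∨ v + w = sb ∨ v + w = sa + sb) →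
    alt v w = 1 ∧ (qd v = 1 ∨ qd w = 1 ∨ qd (v + w) = 1) := by decide +kernel

theorem perp_perp_sing : ∀ c : Sp 3,
    (∀ v : Sp 3, alt sa v = 0 → alt sb v = 0 → alt c v = 0) →
    c = 0 ∨ c = sa ∨ c = sb ∨ c = sa + sb := by decide +kernel

theorem perp_perp_ell : ∀ c : Sp 3,
    (∀ v : Sp 3, alt ea v = 0 → alt eb v = 0 → alt c v = 0) →
    c = 0 ∨ c = ea ∨ c = eb ∨ c = ea + eb := by decide +kernel

theorem ell_total : ∀ c : Sp 3, alt ea c = 0 → alt eb c = 0 →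
    (∀ v : Sp 3, alt ea v = 0 → alt eb v = 0 → alt c v = 0) → c = 0 := by decide +kernel

theorem card_sing_pairs : (Finset.univ.filter fun p : Sp 3 × Sp 3 =>
    qd p.1 = 0 ∧ qd p.2 = 0 ∧ alt p.1 p.2 = 0 ∧ p.1 ≠ 0 ∧ p.2 ≠ 0 ∧ p.1 ≠ p.2).card = 630 := by
  decide +kernel

theorem card_ell_pairs : (Finset.univ.filter fun p : Sp 3 × Sp 3 =>
    qd p.1 = 1 ∧ qd p.2 = 1 ∧ alt p.1 p.2 = 1).card = 336 := by
  decide +kernel

/-! ### The pointwise stabilisers -/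

/-- Pointwise stabiliser candidates: the images of `f0` and of two complementary vectors. -/
def cand (a b v w : Sp 4) : List (Sp 4 × Sp 4 × Sp 4) :=
  let M : List (Sp 4) := [0, e0, a, e0 + a, b, e0 + b, a + b, e0 + a + b]
  (M.flatMap fun i => M.flatMap fun j => M.map fun k => (f0 + i, v + j, w + k)).filter fun p =>
    qd p.1 = 0 ∧ qd p.2.1 = qd v ∧ qd p.2.2 = qd w ∧
      alt p.1 p.2.1 = alt f0 v ∧ alt p.1 p.2.2 = alt f0 w ∧ alt p.2.1 p.2.2 = alt v w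

/-- Extending a vector of the six-dimensional space. -/
def up (v : Sp 3) : Sp 4 := Fin.cons 0 v

theorem fix_perp_sing : ∀ c : Sp 4, alt e0 c = 0 →
    (∀ v : Sp 3, alt sa v = 0 → alt sb v = 0 → alt (up v) c = 0) →
    c ∈ [0, e0, up sa, e0 + up sa, up sb, e0 + up sb, up sa + up sb, e0 + up sa + up sb] := by
  decide +kernel

theorem fix_perp_ell : ∀ c : Sp 4, alt e0 c = 0 →
    (∀ v : Sp 3, alt ea v = 0 → alt eb v = 0 → alt (up v) c = 0) →
    c ∈ [0, e0, up ea, e0 + up ea, up eb, e0 + up eb, up ea + up eb, e0 + up ea + up eb] := by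
  decide +kernel

theorem fix_span_sing : ∀ c : Sp 4, alt e0 c = 0 → alt f0 c = 0 →
    alt (up ![(0, 1), 0, 0]) c = 0 → alt (up ![0, (0, 1), 0]) c = 0 →
    (∀ v : Sp 3, alt sa v = 0 → alt sb v = 0 → alt (up v) c = 0) → c = 0 := by decide +kernel

theorem fix_span_ell : ∀ c : Sp 4, alt e0 c = 0 → alt f0 c = 0 →
    alt (up eb) c = 0 → alt (up ea) c = 0 →
    (∀ v : Sp 3, alt ea v = 0 → alt eb v = 0 → alt (up v) c = 0) → c = 0 := by decide +kernel

theorem card_cand_sing :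
    (cand (up sa) (up sb) (up ![(0, 1), 0, 0]) (up ![0, (0, 1), 0])).length ≤ 15 := by
  decide +kernel

theorem card_cand_ell : (cand (up ea) (up eb) (up eb) (up ea)).length ≤ 24 := by
  decide +kernel

/-! ### Transitivity -/

variable {n : ℕ}

theorem word_one {a : Sp n} (ha : qd a = 1) : Word (refl a) 1 := Word.cons ha Word.nil

theorem Word.comp {f g : Sp n → Sp n} {i j : ℕ} (hf : Word f i) (hg : Word g j) :
    ∃ k, Word (f ∘ g) k := by
  induction hf with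
  | nil => exact ⟨j, hg⟩
  | cons ha _ ih =>
    obtain ⟨k, hk⟩ := ih
    exact ⟨k + 1, Word.cons ha hk⟩

/-- Moving `x` to `y` by reflections fixing `a`. -/
theorem move_fix {a x y : Sp n} {c d : ZMod 2} (hx : qd x = c) (hy : qd y = c)
    (hax : alt a x = d) (hay : alt a y = d)
    (h : x = y ∨ alt x y = 1 ∨
      ∃ r, qd r = c ∧ alt a r = d ∧ alt x r = 1 ∧ alt y r = 1) :
    ∃ f k, Word f k ∧ f x = y ∧ f a = a := by
  have hn : ∀ u v : Sp n, qd u = c → qd v = c → alt u v = 1 → qd (u + v) = 1 := fun u v hu hv huv => by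
    rw [qd_add, hu, hv, huv, z2_add_self, zero_add]
  have hf : ∀ u v : Sp n, alt a u = d → alt a v = d → refl (u + v) a = a := fun u v hu hv =>
    refl_of_alt (by rw [alt_add_right, hu, hv, z2_add_self])
  rcases h with rfl | h | ⟨r, hr, har, hxr, hyr⟩
  · exact ⟨id, 0, .nil, rfl, rfl⟩
  · exact ⟨refl (x + y), 1, word_one (hn x y hx hy h), refl_swap h, hf x y hax hay⟩
  · refine ⟨refl (r + y) ∘ refl (x + r), 2, .cons (hn r y hr hy (by rw [alt_comm, hyr]))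
      (word_one (hn x r hx hr hxr)), ?_, ?_⟩
    · show refl (r + y) (refl (x + r) x) = y
      rw [refl_swap hxr, refl_swap (by rw [alt_comm, hyr])]
    · show refl (r + y) (refl (x + r) a) = a
      rw [hf x r hax har, hf r y har hay]

theorem z2_ne_one {a : ZMod 2} (h : ¬ a = 1) : a = 0 := (z2_cases a).resolve_right h

theorem to_e0 {p : Sp 4} (hp : qd p = 0) (hp0 : p ≠ 0) : ∃ f k, Word f k ∧ f p = e0 := by
  refine (move_fix (a := (0 : Sp 4)) (d := 0) hp basic_facts.1 (alt_zero_left _) (alt_zero_left _)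
    ?_).imp fun f => fun ⟨k, hw, h, _⟩ => ⟨k, hw, h⟩
  by_cases h1 : p = e0
  · exact Or.inl h1
  by_cases h2 : alt p e0 = 1
  · exact Or.inr (Or.inl h2)
  obtain ⟨r, a, b, c⟩ := step4_sing p hp hp0 h1 (z2_ne_one h2)
  exact Or.inr (Or.inr ⟨r, a, alt_zero_left _, b, c⟩)

theorem to_n4 {p : Sp 4} (hp : qd p = 1) : ∃ f k, Word f k ∧ f p = n4 := by
  refine (move_fix (a := (0 : Sp 4)) (d := 0) hp basic_facts.2.2.2.1 (alt_zero_left _)
    (alt_zero_left _) ?_).imp fun f => fun ⟨k, hw, h, _⟩ => ⟨k, hw, h⟩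
  by_cases h1 : p = n4
  · exact Or.inl h1
  by_cases h2 : alt p n4 = 1
  · exact Or.inr (Or.inl h2)
  obtain ⟨r, a, b, c⟩ := step4_nons p hp h1 (z2_ne_one h2)
  exact Or.inr (Or.inr ⟨r, a, alt_zero_left _, b, c⟩)

theorem to_sing_pair {a b : Sp 3} (ha : qd a = 0) (hb : qd b = 0) (hab : alt a b = 0) (ha0 : a ≠ 0)
    (hb0 : b ≠ 0) (hne : a ≠ b) : ∃ f k, Word f k ∧ f a = sa ∧ f b = sb := by
  obtain ⟨-, -, -, -, -, -, qa, qb, qab, -⟩ := basic_facts
  obtain ⟨f, k, hf, hfa, -⟩ := move_fix (a := (0 : Sp 3)) (d := 0) ha qa (alt_zero_left _)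
    (alt_zero_left _) (by
      by_cases h1 : a = sa
      · exact Or.inl h1
      by_cases h2 : alt a sa = 1
      · exact Or.inr (Or.inl h2)
      obtain ⟨r, x, y, z⟩ := step3_sing a ha ha0 h1 (z2_ne_one h2)
      exact Or.inr (Or.inr ⟨r, x, alt_zero_left _, y, z⟩))
  have hfb : qd (f b) = 0 := by rw [hf.isom.map_qd, hb]
  have hfab : alt sa (f b) = 0 := by rw [← hfa, hf.isom.map_alt, hab]
  obtain ⟨g, l, hg, hgb, hga⟩ := move_fix (a := sa) (x := f b) (y := sb) hfb qb hfab qab (by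
    by_cases h1 : f b = sb
    · exact Or.inl h1
    by_cases h2 : alt (f b) sb = 1
    · exact Or.inr (Or.inl h2)
    obtain ⟨r, x, y, z, w⟩ := step3_sing_two (f b) hfb hfab
      (fun e => hb0 (hf.isom.injective (e.trans hf.isom.map_zero.symm)))
      (fun e => hne (hf.isom.injective (hfa.trans e.symm))) h1 (z2_ne_one h2)
    exact Or.inr (Or.inr ⟨r, x, y, z, w⟩))
  obtain ⟨m, hm⟩ := hg.comp hf
  exact ⟨g ∘ f, m, hm, by simp [hfa, hga], by simp [hgb]⟩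

theorem to_ell_pair {a b : Sp 3} (ha : qd a = 1) (hb : qd b = 1) (hab : alt a b = 1) :
    ∃ f k, Word f k ∧ f a = ea ∧ f b = eb := by
  obtain ⟨-, -, -, -, -, -, -, -, -, qa, qb, qab, -⟩ := basic_facts
  obtain ⟨f, k, hf, hfa, -⟩ := move_fix (a := (0 : Sp 3)) (d := 0) ha qa (alt_zero_left _)
    (alt_zero_left _) (by
      by_cases h1 : a = ea
      · exact Or.inl h1
      by_cases h2 : alt a ea = 1
      · exact Or.inr (Or.inl h2)
      obtain ⟨r, x, y, z⟩ := step3_nons a ha h1 (z2_ne_one h2)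
      exact Or.inr (Or.inr ⟨r, x, alt_zero_left _, y, z⟩))
  have hfb : qd (f b) = 1 := by rw [hf.isom.map_qd, hb]
  have hfab : alt ea (f b) = 1 := by rw [← hfa, hf.isom.map_alt, hab]
  obtain ⟨g, l, hg, hgb, hga⟩ := move_fix (a := ea) (x := f b) (y := eb) hfb qb hfab qab (by
    by_cases h1 : f b = eb
    · exact Or.inl h1
    by_cases h2 : alt (f b) eb = 1
    · exact Or.inr (Or.inl h2)
    obtain ⟨r, x, y, z, w⟩ := step3_nons_two (f b) hfb hfab h1 (z2_ne_one h2)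
    exact Or.inr (Or.inr ⟨r, x, y, z, w⟩))
  obtain ⟨m, hm⟩ := hg.comp hf
  exact ⟨g ∘ f, m, hm, by simp [hfa, hga], by simp [hgb]⟩

end CfsgLib.ClassK.Conway
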