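import Cfsg.Agent.Lib.Trans3.ExtraTwo

/-!
Geometry of hyperbolic quadratic spaces over two elements used for groups of Conway type:
reflections, products of two reflections, and involutory isometries.
-/

set_option autoImplicit false

namespace CfsgLib.ClassK.Conway

open CfsgLib.Trans3.ExtraTwo

/-- All planes hyperbolic. -/
abbrev ff (n : ℕ) : Fin n → Bool := fun _ => false

variable {n : ℕ}

/-- The quadratic form. -/
abbrev qd (v : Sp n) : ZMod 2 := beta (ff n) v v

theorem alt_comm (v w : Sp n) : alt v w = alt w v := by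
  simp only [alt]
  exact Finset.sum_congr rfl fun i _ => by ring

theorem alt_add_left (u v w : Sp n) : alt (u + v) w = alt u w + alt v w := by
  simp only [alt, Pi.add_apply, Prod.fst_add, Prod.snd_add, ← Finset.sum_add_distrib]
  exact Finset.sum_congr rfl fun i _ => by ring

theorem alt_add_right (u v w : Sp n) : alt u (v + w) = alt u v + alt u w := by
  rw [alt_comm, alt_add_left, alt_comm v, alt_comm w]

theorem alt_zero_left (w : Sp n) : alt 0 w = 0 := by simp [alt]

theorem alt_zero_right (w : Sp n) : alt w 0 = 0 := by simp [alt]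

theorem alt_self (v : Sp n) : alt v v = 0 := by
  rw [← beta_symm (ff n) v v, z2_add_self]

theorem qd_add (v w : Sp n) : qd (v + w) = qd v + qd w + alt v w := by
  simp only [qd, beta_add_left, beta_add_right, ← beta_symm (ff n) v w]
  ring

theorem qd_zero : qd (0 : Sp n) = 0 := beta_zero_left _ _

theorem eq_of_alt {v w : Sp n} (h : ∀ u, alt v u = alt w u) : v = w := by
  by_contra hne
  have h0 : v + w ≠ 0 := fun e => hne (by
    have := congrArg (· + w) e
    simpa [add_assoc, sp_add_self] using this)
  obtain ⟨u, hu⟩ := alt_nondeg h0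
  rw [alt_add_left, h, z2_add_self] at hu
  exact zero_ne_one hu

/-- Isometry: additive and preserving the form. -/
structure Isom (f : Sp n → Sp n) : Prop where
  map_add : ∀ u v, f (u + v) = f u + f v
  map_qd : ∀ v, qd (f v) = qd v

namespace Isom

variable {f g : Sp n → Sp n} (hf : Isom f)
include hf

theorem map_zero : f 0 = 0 := by
  have h := hf.map_add 0 0
  rw [add_zero] at h
  exact left_eq_add.1 h

theorem map_alt (u v : Sp n) : alt (f u) (f v) = alt u v := by
  have h1 := qd_add (f u) (f v)
  rw [← hf.map_add, hf.map_qd, hf.map_qd, hf.map_qd, qd_add] at h1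
  exact (add_left_cancel h1).symm

theorem injective : Function.Injective f := fun u v h =>
  eq_of_alt fun w => by rw [← hf.map_alt u w, h, hf.map_alt]

theorem surjective : Function.Surjective f := Finite.injective_iff_surjective.1 hf.injective

theorem comp (hg : Isom g) : Isom (f ∘ g) :=
  ⟨fun u v => by simp only [Function.comp_apply, hg.map_add, hf.map_add],
    fun v => by simp only [Function.comp_apply, hf.map_qd, hg.map_qd]⟩

end Isom

theorem isom_id : Isom (id : Sp n → Sp n) := ⟨fun _ _ => rfl, fun _ => rfl⟩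

/-- Reflection. -/
def refl (a : Sp n) (v : Sp n) : Sp n := if alt v a = 1 then v + a else v

theorem refl_of_alt {a v : Sp n} (h : alt v a = 0) : refl a v = v := by simp [refl, h]

theorem refl_of_alt' {a v : Sp n} (h : alt v a = 1) : refl a v = v + a := by simp [refl, h]

theorem refl_isom {a : Sp n} (ha : qd a = 1) : Isom (refl a) where
  map_add u v := by
    rcases z2_cases (alt u a) with hu | hu <;> rcases z2_cases (alt v a) with hv | hv
    · rw [refl_of_alt hu, refl_of_alt hv, refl_of_alt (by rw [alt_add_left, hu, hv, add_zero])]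
    · rw [refl_of_alt hu, refl_of_alt' hv, refl_of_alt' (by rw [alt_add_left, hu, hv, zero_add]),
        add_assoc]
    · rw [refl_of_alt' hu, refl_of_alt hv, refl_of_alt' (by rw [alt_add_left, hu, hv, add_zero]),
        add_right_comm]
    · rw [refl_of_alt' hu, refl_of_alt' hv,
        refl_of_alt (by rw [alt_add_left, hu, hv]; exact z2_add_self 1)]
      rw [add_add_add_comm, sp_add_self, add_zero]
  map_qd v := by
    rcases z2_cases (alt v a) with h | h
    · rw [refl_of_alt h]
    · rw [refl_of_alt' h, qd_add, ha, h, add_assoc, z2_add_self, add_zero]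

theorem refl_refl (a v : Sp n) : refl a (refl a v) = v := by
  rcases z2_cases (alt v a) with h | h
  · rw [refl_of_alt h, refl_of_alt h]
  · rw [refl_of_alt' h, refl_of_alt' (by rw [alt_add_left, h, alt_self, add_zero]), add_assoc,
      sp_add_self, add_zero]

theorem refl_conj {f : Sp n → Sp n} (hf : Isom f) (a v : Sp n) : refl (f a) (f v) = f (refl a v) := by
  rcases z2_cases (alt v a) with h | h
  · rw [refl_of_alt h, refl_of_alt (by rw [hf.map_alt, h])]
  · rw [refl_of_alt' h, refl_of_alt' (by rw [hf.map_alt, h]), hf.map_add]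

theorem refl_swap {x y : Sp n} (h : alt x y = 1) : refl (x + y) x = y := by
  rw [refl_of_alt' (by rw [alt_add_right, alt_self, h, zero_add]), ← add_assoc, sp_add_self,
    zero_add]

/-- A set of maps closed under composition containing the products of two reflections. -/
structure Even (P : (Sp n → Sp n) → Prop) : Prop where
  comp : ∀ f g, P f → P g → P (f ∘ g)
  pair : ∀ a b, qd a = 1 → qd b = 1 → P (refl a ∘ refl b)

/-- Words in reflections. -/
inductive Word : (Sp n → Sp n) → ℕ → Prop where
  | nil : Word id 0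
  | cons {a : Sp n} {f : Sp n → Sp n} {k : ℕ} : qd a = 1 → Word f k → Word (refl a ∘ f) (k + 1)

theorem Word.isom {f : Sp n → Sp n} {k : ℕ} (h : Word f k) : Isom f := by
  induction h with
  | nil => exact isom_id
  | cons ha _ ih => exact (refl_isom ha).comp ih

/-- Even words lie in `P`; odd words do after one more reflection. -/
theorem Even.word {P : (Sp n → Sp n) → Prop} (hP : Even P) {a₀ : Sp n} (ha₀ : qd a₀ = 1)
    {f : Sp n → Sp n} {k : ℕ} (h : Word f k) :
    (k % 2 = 0 → P f) ∧ (k % 2 = 1 → ∀ b, qd b = 1 → P (refl b ∘ f)) := by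
  induction h with
  | nil =>
    refine ⟨fun _ => ?_, fun h => absurd h (by omega)⟩
    have := hP.pair a₀ a₀ ha₀ ha₀
    rwa [show refl a₀ ∘ refl a₀ = id from funext (refl_refl a₀)] at this
  | @cons a g j ha _ ih =>
    refine ⟨fun hk => ih.2 (by omega) a ha, fun hk b hb => ?_⟩
    exact hP.comp (refl b ∘ refl a) g (hP.pair b a hb ha) (ih.1 (by omega))

/-- Odd and even words with the same effect on vectors fixed by a reflection. -/
theorem Even.exists_of_word {P : (Sp n → Sp n) → Prop} (hP : Even P) {m : Sp n} (hm : qd m = 1)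
    {f : Sp n → Sp n} {k : ℕ} (h : Word f k) :
    ∃ g, P g ∧ Isom g ∧ ∀ v, alt (f v) m = 0 → g v = f v := by
  rcases Nat.mod_two_eq_zero_or_one k with hk | hk
  · exact ⟨f, (hP.word hm h).1 hk, h.isom, fun _ _ => rfl⟩
  · exact ⟨refl m ∘ f, (hP.word hm h).2 hk m hm,
      (refl_isom hm).comp h.isom, fun v hv => refl_of_alt hv⟩

/-- A functional is given by the form. -/
theorem exists_rep (F : Sp n →ₗ[ZMod 2] ZMod 2) : ∃ r : Sp n, ∀ v, alt v r = F v := by
  classical
  let e1 : Fin n → Sp n := fun i => Pi.single i ((1, 0) : P2)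
  let e2 : Fin n → Sp n := fun i => Pi.single i ((0, 1) : P2)
  refine ⟨fun i => (F (e2 i), F (e1 i)), fun v => ?_⟩
  have hv : v = ∑ i, ((v i).1 • e1 i + (v i).2 • e2 i) := by
    funext j
    simp only [e1, e2]
    simp only [Finset.sum_apply, Pi.add_apply, Pi.smul_apply]
    rw [Finset.sum_eq_single j]
    · ext <;> simp
    · intro i _ hi; simp [Ne.symm hi]
    · simp
  conv_rhs => rw [hv]
  simp only [map_sum, map_add, map_smul, smul_eq_mul]
  rfl

section Inv

variable {t : Sp n → Sp n} (ht : Isom t) (hinv : ∀ v, t (t v) = v)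
include ht hinv

theorem selfadj (u v : Sp n) : alt (t u + u) v = alt u (t v + v) := by
  rw [alt_add_left, alt_add_right, ← ht.map_alt (t u) v, hinv]

theorem fix_range (u : Sp n) : t (t u + u) = t u + u := by
  rw [ht.map_add, hinv, add_comm]

omit hinv in
theorem qd_range (v : Sp n) : qd (t v + v) = alt v (t v + v) := by
  rw [qd_add, ht.map_qd, z2_add_self, zero_add, alt_add_right, alt_self, add_zero, alt_comm]

theorem range_orth (u v : Sp n) : alt (t u + u) (t v + v) = 0 := by
  rw [selfadj ht hinv, fix_range ht hinv, sp_add_self, alt_zero_right]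

/-- The vector representing the form on the commutator space. -/
theorem exists_rzero : ∃ u, ∀ v, qd (t v + v) = alt v (t u + u) := by
  let R : Submodule (ZMod 2) (Sp n) :=
    AddSubgroup.toZModSubmodule 2 (AddMonoidHom.range (AddMonoidHom.mk' (fun v => t v + v)
      (fun u v => by rw [ht.map_add]; abel)))
  have hR : ∀ r : R, ∃ v, (r : Sp n) = t v + v := fun r => by
    obtain ⟨v, hv⟩ := r.2; exact ⟨v, hv.symm⟩
  let lam : R →ₗ[ZMod 2] ZMod 2 := AddMonoidHom.toZModLinearMap 2
    (AddMonoidHom.mk' (fun r => qd (r : Sp n)) (fun r s => by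
      obtain ⟨u, hu⟩ := hR r
      obtain ⟨v, hv⟩ := hR s
      show qd ((r : Sp n) + (s : Sp n)) = _
      rw [qd_add, hu, hv, range_orth ht hinv, add_zero]))
  obtain ⟨F, hF⟩ := LinearMap.exists_extend lam
  obtain ⟨u, hu⟩ := exists_rep F
  refine ⟨u, fun v => ?_⟩
  have h := LinearMap.congr_fun hF (⟨t v + v, v, rfl⟩ : R)
  simp only [LinearMap.comp_apply, Submodule.subtype_apply] at h
  rw [← hu] at h
  rw [← selfadj ht hinv]
  exact h.symm

end Inv

/-- The Siegel map of a totally singular pair. -/
def tau (a b : Sp n) (v : Sp n) : Sp n := (v + alt v a • b) + alt v b • a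

theorem tau_conj {f : Sp n → Sp n} (hf : Isom f) (a b v : Sp n) :
    tau (f a) (f b) (f v) = f (tau a b v) := by
  have hs : ∀ (c : ZMod 2) (w : Sp n), f (c • w) = c • f w := fun c w => by
    rcases z2_cases c with rfl | rfl
    · rw [zero_smul, zero_smul, hf.map_zero]
    · rw [one_smul, one_smul]
  simp only [tau, hf.map_alt, hf.map_add, hs]

section TS

variable {t : Sp n → Sp n} (ht : Isom t) (hinv : ∀ v, t (t v) = v)
  (hts : ∀ v, qd (t v + v) = 0)
include ht hinv hts

/-- Splitting off one Siegel map from a totally singular involution. -/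
theorem split_tau {u : Sp n} (hu : t u + u ≠ 0) :
    ∃ u v a b, a = t u + u ∧ b = t v + v ∧ qd a = 0 ∧ qd b = 0 ∧ alt a b = 0 ∧ alt u b = 1 ∧
      alt v a = 1 ∧ alt u a = 0 ∧ alt v b = 0 := by
  obtain ⟨w, hw⟩ := alt_nondeg hu
  refine ⟨u, w, _, _, rfl, rfl, hts u, hts w, range_orth ht hinv u w, ?_, ?_, ?_, ?_⟩
  · rw [← selfadj ht hinv, hw]
  · rw [alt_comm, hw]
  · rw [← qd_range ht, hts]
  · rw [← qd_range ht, hts]

end TS

end CfsgLib.ClassK.Conway
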