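import Cfsg.Agent.Lib.ClassK.ConwayNF
import Mathlib.GroupTheory.Perm.Cycle.Type

/-!
The complement `C(ρ) ∩ C(E)`: it covers the action on the middle space, and its involutions acting
as Siegel maps multiply every non-singular fixed vector by `z`.
-/

set_option autoImplicit false

namespace CfsgLib.ClassK.Conway

open Subgroup CfsgLib.Trans3.ExtraTwo
open CfsgLib.PLocal.LargeExtra

variable {G : Type*} [Group G]

/-- The radical as a predicate. -/
def InU {Q : Subgroup G} (z : G) (e : ↥Q ≃* ES 4 (ff 4)) (ρ g : G) : Prop :=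
  ∃ i j a b, g = nm z e ρ i j a b

/-- The map induced on the middle space. -/
noncomputable def sig {Q : Subgroup G} (e : ↥Q ≃* ES 4 (ff 4)) (c : G) (b : Sp 3) : Sp 3 :=
  fun m => act e c (up b) m.succ

/-- The complement. -/
def Lev {Q : Subgroup G} (z : G) (e : ↥Q ≃* ES 4 (ff 4)) (ρ c : G) : Prop :=
  CE z e c ∧ c * ρ = ρ * c

theorem CE.mul {Q : Subgroup G} {z : G} {e : ↥Q ≃* ES 4 (ff 4)} {c d : G} (hc : CE z e c)
    (hd : CE z e d) : CE z e (c * d) :=
  ⟨by rw [mul_assoc, hd.1, ← mul_assoc, hc.1, mul_assoc],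
   by rw [mul_assoc, hd.2, ← mul_assoc, hc.2, mul_assoc]⟩

theorem CE.inv {Q : Subgroup G} {z : G} {e : ↥Q ≃* ES 4 (ff 4)} {c : G} (hc : CE z e c) :
    CE z e c⁻¹ :=
  ⟨(Commute.inv_left hc.1).eq, (Commute.inv_left hc.2).eq⟩

theorem Lev.mul {Q : Subgroup G} {z : G} {e : ↥Q ≃* ES 4 (ff 4)} {ρ c d : G} (hc : Lev z e ρ c)
    (hd : Lev z e ρ d) : Lev z e ρ (c * d) :=
  ⟨hc.1.mul hd.1, by rw [mul_assoc, hd.2, ← mul_assoc, hc.2, mul_assoc]⟩

theorem Lev.inv {Q : Subgroup G} {z : G} {e : ↥Q ≃* ES 4 (ff 4)} {ρ c : G} (hc : Lev z e ρ c) :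
    Lev z e ρ c⁻¹ :=
  ⟨hc.1.inv, (Commute.inv_left hc.2).eq⟩

namespace Tri

variable {z : G} {Q : Subgroup G} {e : ↥Q ≃* ES 4 (ff 4)} {ρ : G} (T : Tri z Q e ρ)
include T
variable [Finite G]

omit T in
theorem memH {c : G} (hc : CE z e c) : c ∈ centralizer ({z} : Set G) :=
  mem_centralizer_singleton_iff.2 hc.1

theorem act_e0 {c : G} (hc : CE z e c) : act e c e0 = e0 :=
  T.setup.act_eq (memH hc) (k := 0) (k' := 0) (mul_inv_eq_iff_eq_mul.2 hc.2)

theorem act_up {c : G} (hc : CE z e c) (v : Sp 3) :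
    act e c (up v) = alt (act e c (up v)) f0 • e0 + up (sig e c v) := by
  have hi := T.setup.act_isom (memH hc)
  obtain ⟨s, t, b, h, ht, hs⟩ := decomp (act e c (up v))
  have ht0 : t = 0 := by
    rw [← ht, ← T.act_e0 hc, hi.map_alt, alt_comm, (beta_e0_up v).2.2.2.2.1]
  have hb : sig e c v = b := by
    funext m
    show act e c (up v) m.succ = b m
    rw [h, ht0, zero_smul, add_zero]
    simp only [Pi.add_apply, Pi.smul_apply, up, Fin.cons_succ]
    fin_cases m <;> simp [e0] <;> rfl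
  rw [hs, hb]
  conv_lhs => rw [h, ht0, zero_smul, add_zero]

theorem sig_eq {c : G} (hc : CE z e c) {v w : Sp 3} {s : ZMod 2}
    (h : act e c (up v) = s • e0 + up w) : sig e c v = w := by
  funext m
  show act e c (up v) m.succ = w m
  rw [h]
  simp only [Pi.add_apply, Pi.smul_apply, up, Fin.cons_succ]
  fin_cases m <;> simp [e0] <;> rfl

theorem sig_mul {c d : G} (hc : CE z e c) (hd : CE z e d) (v : Sp 3) :
    sig e (c * d) v = sig e c (sig e d v) := by
  have hi := T.setup.act_isom (memH hc)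
  refine T.sig_eq (hc.mul hd)
    (s := alt (act e d (up v)) f0 + alt (act e c (up (sig e d v))) f0) ?_
  rw [T.setup.act_mul (memH hc) (memH hd)]
  conv_lhs => rw [T.act_up hd v, hi.map_add, T.act_up hc (sig e d v)]
  rw [add_smul, ← add_assoc]
  congr 2
  rcases z2_cases (alt (act e d (up v)) f0) with h | h <;> rw [h]
  · rw [zero_smul, hi.map_zero]
  · rw [one_smul, T.act_e0 hc]

theorem sig_isom {c : G} (hc : CE z e c) : Isom (sig e c) := by
  have hi := T.setup.act_isom (memH hc)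
  refine ⟨fun u v => T.sig_eq hc (s := alt (act e c (up u)) f0 + alt (act e c (up v)) f0) ?_,
    fun v => ?_⟩
  · rw [← up_add, hi.map_add]
    conv_lhs => rw [T.act_up hc u, T.act_up hc v]
    rw [add_smul, ← up_add, add_add_add_comm]
  · have h := hi.map_qd (up v)
    rw [T.act_up hc v, qd_add, qd_up, qd_up] at h
    obtain ⟨he, -⟩ := basic_facts
    rcases z2_cases (alt (act e c (up v)) f0) with h0 | h0 <;> rw [h0] at h
    · simpa [qd_zero, alt_zero_left, beta_zero_left] using h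
    · rw [one_smul, he, (beta_e0_up _).2.2.2.2.1, zero_add, add_zero] at h
      exact h

theorem inU_mul {g h : G} (hg : InU z e ρ g) (hh : InU z e ρ h) : InU z e ρ (g * h) := by
  obtain ⟨i, j, a, b, rfl⟩ := hg
  obtain ⟨k, l, c, d, rfl⟩ := hh
  exact ⟨_, _, _, _, T.nm_mul i j k l a b c d⟩

theorem inU_ce {g : G} (hg : InU z e ρ g) : CE z e g := by
  obtain ⟨i, j, a, b, rfl⟩ := hg
  exact T.nm_ce i j a b

theorem inU_of_memQ {g : G} (hg : g ∈ Q) (hgx : g * xe e = xe e * g) : InU z e ρ g := by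
  obtain ⟨i, j, b, rfl⟩ := T.exists_ep_dl hg hgx
  exact ⟨i, j, 0, b, by rw [nm, T.yl_zero, one_mul]⟩

theorem nm_split (i j : ZMod 2) (a b : Sp 3) :
    nm z e ρ i j a b = (ep z e i j) * yl e ρ a * dl e b := by rw [nm, mul_assoc]

theorem sig_nm (i j : ZMod 2) (a b v : Sp 3) : sig e (nm z e ρ i j a b) v = v := by
  have S := T.setup
  refine T.sig_eq (T.nm_ce i j a b) (s := alt v a) ?_
  have hy := memH (T.yl_ce a)
  have hE : ep z e i j ∈ Q := T.ep_memQ i j
  rw [T.nm_split, S.act_mul (mul_mem (S.pack.mem_centralizer_z hE) hy)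
      (show dl e b ∈ centralizer ({z} : Set G) from S.mem_H),
    S.act_mem (show dl e b ∈ Q from Setup.el_mem _ _), S.act_mul (S.pack.mem_centralizer_z hE) hy,
    S.act_mem hE,
    (T.act_yl a).2.2]

theorem inU_of_sig {c : G} (hc : CE z e c) (h : ∀ v, sig e c v = v) : InU z e ρ c := by
  have S := T.setup
  have hi := S.act_isom (memH hc)
  obtain ⟨hf, -⟩ : qd f0 = 0 ∧ True := ⟨basic_facts.2.1, trivial⟩
  obtain ⟨s, t, m, hm, ht, -⟩ := decomp (act e c f0)
  have ht1 : t = 1 := by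
    rw [← ht, ← T.act_e0 hc, hi.map_alt, alt_comm, basic_facts.2.2.1]
  subst ht1
  rw [one_smul, add_comm (s • e0)] at hm
  have hs : s = qd m := by
    have hq := hi.map_qd f0
    rw [hm, qd_add, qd_up, qd_add, hf] at hq
    rcases z2_cases s with rfl | rfl
    · simpa [qd_zero, alt_zero_left, alt_zero_right, (beta_e0_up m).2.2.2.2.2, beta_zero_left,
        alt_add_left] using hq.symm
    · rw [one_smul, basic_facts.1, alt_comm f0 e0, basic_facts.2.2.1, alt_add_left,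
        (beta_e0_up m).2.2.2.2.1, (beta_e0_up m).2.2.2.2.2] at hq
      exact (by decide : ∀ p : ZMod 2, 0 + 0 + 1 + p + (0 + 0) = 0 → 1 = p) _ hq
  subst hs
  have hy := T.act_yl m
  have hlam : ∀ v, alt (act e c (up v)) f0 = alt v m := by
    intro v
    have h0 := hi.map_alt (up v) f0
    rw [alt_comm (up v) f0, (beta_e0_up v).2.2.2.2.2, hm] at h0
    rw [alt_add_right, alt_add_right, T.act_up hc v, h v] at h0
    rw [T.act_up hc v, h v]
    rcases z2_cases (alt (act e c (up v)) f0) with h1 | h1 <;> rw [h1] at h0 ⊢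
    · rcases z2_cases (qd m) with h2 | h2 <;> rw [h2] at h0 <;>
        simpa [alt_zero_left, alt_zero_right, alt_add_left, alt_comm (up v), alt_up,
          (beta_e0_up v).2.2.2.2.1, (beta_e0_up v).2.2.2.2.2, alt_comm v m] using h0.symm
    · rw [one_smul] at h0 ⊢
      rw [alt_add_left, basic_facts.2.2.1, alt_comm (up v) f0, (beta_e0_up v).2.2.2.2.2,
        add_zero] at h0 ⊢
      rcases z2_cases (qd m) with h2 | h2 <;> rw [h2] at h0 <;>
        simp [alt_zero_right, alt_add_left, alt_self, alt_up,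
          (beta_e0_up m).2.2.2.2.1, alt_comm (up v) e0, (beta_e0_up v).2.2.2.2.1] at h0 <;>
        exact (by decide : ∀ p : ZMod 2, 1 + p = 0 → 1 = p) _ h0
  have hall : ∀ v, act e c v = act e (yl e ρ m) v := by
    intro v
    obtain ⟨s, t, b, hv, -, -⟩ := decomp v
    have hiy := S.act_isom (memH (T.yl_ce m))
    have hsm : ∀ (f : Sp 4 → Sp 4), Isom f → ∀ (k : ZMod 2) (w : Sp 4), f (k • w) = k • f w := by
      intro f hf k w
      rcases z2_cases k with rfl | rfl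
      · rw [zero_smul, zero_smul, hf.map_zero]
      · rw [one_smul, one_smul]
    rw [hv, hi.map_add, hi.map_add, hiy.map_add, hiy.map_add, hsm _ hi, hsm _ hi, hsm _ hiy,
      hsm _ hiy, T.act_e0 hc, hy.1, hm, hy.2.1, T.act_up hc b, hlam, h b, hy.2.2, add_assoc f0]
  have hQ : (yl e ρ m)⁻¹ * c ∈ Q := S.mem_of_act (memH ((T.yl_ce m).inv.mul hc)) fun v => by
    rw [S.act_mul (memH (T.yl_ce m).inv) (memH hc), hall,
      ← S.act_mul (memH (T.yl_ce m).inv) (memH (T.yl_ce m)), inv_mul_cancel, S.act_one]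
  have := T.inU_mul ⟨0, 0, m, 0, (T.nm_yl m).symm⟩
    (T.inU_of_memQ hQ ((T.yl_ce m).inv.mul hc).2)
  rwa [mul_inv_cancel_left] at this

theorem lev_trivial {c : G} (hc : Lev z e ρ c) (h : ∀ v, sig e c v = v) : c = 1 := by
  obtain ⟨i, j, a, b, rfl⟩ := T.inU_of_sig hc.1 h
  have he : ρ * nm z e ρ i j a b * ρ⁻¹ = nm z e ρ i j a b := by rw [← hc.2, mul_inv_cancel_right]
  rw [T.nm_rho] at he
  obtain ⟨h1, h2, h3, h4⟩ := T.nm_inj he
  have hb : b = 0 := add_left_cancel (h3.trans (add_zero a).symm)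
  subst hb
  subst h4
  simp only [beta_zero_left, qd_zero, alt_zero_left] at h1 h2
  obtain ⟨rfl, rfl⟩ : i = 0 ∧ j = 0 :=
    (by decide : ∀ i j : ZMod 2, j + 0 + 0 = i ∧ i + j + 0 + 0 + 0 = j → i = 0 ∧ j = 0) i j ⟨h1, h2⟩
  exact T.nm_one

theorem lev_ext {c d : G} (hc : Lev z e ρ c) (hd : Lev z e ρ d)
    (h : ∀ v, sig e c v = sig e d v) : c = d := by
  refine inv_mul_eq_one.1 (T.lev_trivial (hc.inv.mul hd) fun v => ?_)
  rw [T.sig_mul hc.inv.1 hd.1, ← h, ← T.sig_mul hc.inv.1 hc.1, inv_mul_cancel, ← T.nm_one,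
    T.sig_nm]

theorem inU_rad {g : G}
    (hg : g ∈ (Q.map (MulAut.conj ρ).toMonoidHom ⊓ centralizer ({z} : Set G)) ⊔
      (Q ⊓ centralizer ({xe e} : Set G))) : InU z e ρ g := by
  obtain ⟨b, ⟨⟨g0, hg0, hb⟩, hbz⟩, a, ⟨ha, hax⟩, rfl⟩ := T.pair.mem_rad hg
  refine T.inU_mul ?_ (T.inU_of_memQ ha (mem_centralizer_singleton_iff.1 hax))
  change ρ * g0 * ρ⁻¹ = b at hb
  subst hb
  have hbz' := mem_centralizer_singleton_iff.1 hbz
  have hgx : g0 * xe e = xe e * g0 := by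
    have hxz : g0 * (xe e * z) = (xe e * z) * g0 := by
      calc g0 * (xe e * z) = ρ⁻¹ * (ρ * g0 * ρ⁻¹ * (ρ * (xe e * z) * ρ⁻¹)) * ρ := by group
        _ = ρ⁻¹ * (ρ * (xe e * z) * ρ⁻¹ * (ρ * g0 * ρ⁻¹)) * ρ := by rw [T.rho_xz, hbz']
        _ = (xe e * z) * g0 := by group
    calc g0 * xe e = g0 * (xe e * z) * z := by rw [mul_assoc, mul_assoc, T.pair.hz2, mul_one]
      _ = xe e * (z * g0) * z := by rw [hxz]; simp only [mul_assoc]
      _ = xe e * g0 := by
          rw [← T.setup.pack.comm_z hg0]; simp only [mul_assoc, T.pair.hz2, mul_one]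
  obtain ⟨i, j, b0, rfl⟩ := T.exists_ep_dl hg0 hgx
  refine ⟨j + qd (0 : Sp 3) + alt 0 b0, i + j + qd (0 : Sp 3) + alt 0 b0 + beta (ff 3) 0 b0,
    0 + b0, 0, ?_⟩
  rw [show ep z e i j * dl e b0 = nm z e ρ i j 0 b0 by rw [nm, T.yl_zero, one_mul], T.nm_rho]

theorem exists_lev {c : G} (hc : CE z e c) :
    ∃ i j a b, Lev z e ρ (nm z e ρ i j a b * c) := by
  have hcl : c ∈ centralizer ((closure ({z, xe e} : Set G) : Subgroup G) : Set G) :=
    mem_centralizer_four.2 hc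
  obtain ⟨i₀, j₀, a₀, b₀, h0⟩ := T.inU_rad (T.pair.commutator_mem_rad T.rho_mem hcl)
  obtain ⟨P, hP⟩ : ∃ P : (ZMod 2 × ZMod 2 × Sp 3 × Sp 3) → G,
      P = fun p => nm z e ρ p.1 p.2.1 p.2.2.1 p.2.2.2 := ⟨_, rfl⟩
  have hPinj : Function.Injective P := by
    rintro ⟨i, j, a, b⟩ ⟨k, l, c', d⟩ h
    subst hP
    obtain ⟨rfl, rfl, rfl, rfl⟩ := T.nm_inj h
    rfl
  have hex : ∀ p, ∃ p', P p' * c = ρ * (P p * c) * ρ⁻¹ := by
    intro p
    subst hP
    obtain ⟨i, j, a, b, h⟩ := T.inU_mul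
      ⟨_, _, _, _, T.nm_rho p.1 p.2.1 p.2.2.1 p.2.2.2⟩ ⟨i₀, j₀, a₀, b₀, h0⟩
    refine ⟨(i, j, a, b), ?_⟩
    show nm z e ρ i j a b * c = _
    rw [← h]; group
  choose f hf using hex
  have hinj : Function.Injective f := fun p p' h => hPinj (by
    have := (hf p).symm.trans ((congrArg (fun t => P t * c) h).trans (hf p'))
    simpa using this)
  let σ : Equiv.Perm (ZMod 2 × ZMod 2 × Sp 3 × Sp 3) := Equiv.ofBijective f (Finite.injective_iff_bijective.1 hinj)
  have h3 : σ ^ 3 ^ 1 = 1 := Equiv.ext fun p => hPinj (mul_right_cancel (b := c) (by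
    show P (f (f (f p))) * c = P p * c
    rw [hf, hf, hf]
    calc ρ * (ρ * (ρ * (P p * c) * ρ⁻¹) * ρ⁻¹) * ρ⁻¹ = ρ * ρ * ρ * (P p * c) * (ρ * ρ * ρ)⁻¹ := by
          group
      _ = P p * c := by rw [T.rho3]; group))
  haveI : Fact (Nat.Prime 3) := ⟨Nat.prime_three⟩
  obtain ⟨⟨i, j, a, b⟩, hp⟩ := σ.exists_fixed_point_of_prime (p := 3) (n := 1) (by
    simp only [Fintype.card_prod, Fintype.card_fun, ZMod.card, Fintype.card_fin]
    norm_num) h3
  refine ⟨i, j, a, b, (T.nm_ce i j a b).mul hc, ?_⟩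
  have h := hf (i, j, a, b)
  change f (i, j, a, b) = (i, j, a, b) at hp
  rw [hp, hP] at h
  exact (mul_inv_eq_iff_eq_mul.1 h.symm).symm

theorem exists_lev_sig {c : G} (hc : CE z e c) :
    ∃ l, Lev z e ρ l ∧ ∀ v, sig e l v = sig e c v := by
  obtain ⟨i, j, a, b, h⟩ := T.exists_lev hc
  exact ⟨_, h, fun v => by rw [T.sig_mul (T.nm_ce i j a b) hc, T.sig_nm]⟩

theorem exists_pair {a b : Sp 3} (ha : qd a = 1) (hb : qd b = 1) :
    ∃ l, Lev z e ρ l ∧ ∀ v, sig e l v = refl a (refl b v) := by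
  obtain ⟨c, hc, -, -, hca⟩ := T.setup.exists_CE (f := fun v => refl a (refl b v)) ha hb fun _ => rfl
  obtain ⟨l, hl, hls⟩ := T.exists_lev_sig hc
  refine ⟨l, hl, fun v => ?_⟩
  rw [hls]
  exact T.sig_eq hc (s := 0) (by rw [hca, zero_smul, zero_add])

theorem evenL : Even (fun f : Sp 3 → Sp 3 => ∃ l, Lev z e ρ l ∧ ∀ v, sig e l v = f v) where
  comp := fun f g ⟨c, hc, hf⟩ ⟨d, hd, hg⟩ => ⟨c * d, hc.mul hd, fun v => by
    rw [T.sig_mul hc.1 hd.1, hg, hf]; rfl⟩
  pair := fun a b ha hb => T.exists_pair ha hb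

theorem lev_q {l : G} (hl : Lev z e ρ l) : qe e * l = l * qe e := by
  have S := T.setup
  set q := qe e with hq
  have hx : q * xe e * q = xe e * z := S.xe_facts.2.2.2.2.2.2
  have hz : q * z = z * q := T.q_z
  have h2 : q * q = 1 := T.q_sq
  have hh : q * ρ = ρ⁻¹ * q := by
    calc q * ρ = q * ρ * (q * q) := by rw [h2, mul_one]
      _ = ρ⁻¹ * q := by rw [← mul_assoc, T.qrq]
  have hlxz : l * (xe e * z) = (xe e * z) * l := by
    rw [← mul_assoc, hl.1.2, mul_assoc, hl.1.1, ← mul_assoc]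
  have hqxz : q * xe e = xe e * z * q := by
    calc q * xe e = q * xe e * (q * q) := by rw [h2, mul_one]
      _ = xe e * z * q := by rw [← mul_assoc, hx]
  have hxq : q * (xe e * z) = xe e * q := by
    rw [← mul_assoc, hqxz, mul_assoc, hz, ← mul_assoc, mul_assoc (xe e), T.pair.hz2, mul_one]
  have hd : Lev z e ρ (q * l * q) := by
    refine ⟨⟨?_, ?_⟩, ?_⟩
    · calc q * l * q * z = q * (l * z) * q := by simp only [mul_assoc, hz]
        _ = q * z * (l * q) := by rw [hl.1.1]; simp only [mul_assoc]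
        _ = z * (q * l * q) := by rw [hz]; simp only [mul_assoc]
    · calc q * l * q * xe e = q * l * (xe e * z * q) := by rw [mul_assoc, hqxz]
        _ = q * (l * (xe e * z)) * q := by simp only [mul_assoc]
        _ = q * (xe e * z) * (l * q) := by rw [hlxz]; simp only [mul_assoc]
        _ = xe e * (q * l * q) := by rw [hxq]; simp only [mul_assoc]
    · have hh' : ρ * q = q * ρ⁻¹ := by
        calc ρ * q = (q * q) * (ρ * q) := by rw [h2, one_mul]
          _ = q * (q * ρ * q) := by simp only [mul_assoc]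
          _ = q * ρ⁻¹ := by rw [T.qrq]
      have hli : l * ρ⁻¹ = ρ⁻¹ * l := (Commute.inv_right hl.2).eq
      calc q * l * q * ρ = q * l * (ρ⁻¹ * q) := by rw [mul_assoc, hh]
        _ = q * (l * ρ⁻¹) * q := by simp only [mul_assoc]
        _ = q * ρ⁻¹ * (l * q) := by rw [hli]; simp only [mul_assoc]
        _ = ρ * (q * l * q) := by rw [← hh']; simp only [mul_assoc]
  have hqH : q ∈ centralizer ({z} : Set G) := S.mem_H
  have heq : ∀ v, sig e (q * l * q) v = sig e l v := fun v => by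
    funext m
    show act e (q * l * q) (up v) m.succ = act e l (up v) m.succ
    rw [S.act_mul (mul_mem hqH (memH hl.1)) hqH, S.act_mem (show q ∈ Q from Setup.el_mem _ _),
      S.act_mul hqH (memH hl.1), S.act_mem (show q ∈ Q from Setup.el_mem _ _)]
  have h := T.lev_ext hd hl heq
  calc q * l = q * l * (q * q) := by rw [h2, mul_one]
    _ = l * q := by rw [← mul_assoc, h]

theorem lev_act {l : G} (hl : Lev z e ρ l) :
    act e l f0 = f0 ∧ ∀ v, act e l (up v) = up (sig e l v) := by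
  have S := T.setup
  have hf : act e l f0 = f0 := S.act_eq (memH hl.1) (k := 0) (k' := 0)
    (mul_inv_eq_iff_eq_mul.2 (T.lev_q hl).symm)
  refine ⟨hf, fun v => ?_⟩
  have h := (S.act_isom (memH hl.1)).map_alt (up v) f0
  rw [hf, alt_comm (up v) f0, (beta_e0_up v).2.2.2.2.2] at h
  conv_lhs => rw [T.act_up hl.1 v, h, zero_smul, zero_add]

theorem lev_conj {l : G} (hl : Lev z e ρ l) (v : Sp 3) : ∃ k,
    l * dl e v * l⁻¹ = ep z e k 0 * dl e (sig e l v) ∧
    l * yl e ρ v * l⁻¹ = ep z e 0 k * yl e ρ (sig e l v) := by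
  obtain ⟨k, hk⟩ := T.setup.conj_el (memH hl.1) (up v) 0
  rw [(T.lev_act hl).2 v, ← zero_add (up (sig e l v)),
    show (0 : Sp 4) = (0 : ZMod 2) • e0 from (zero_smul _ _).symm, T.el_split] at hk
  refine ⟨k, hk, ?_⟩
  have hli : ρ⁻¹ * l⁻¹ = l⁻¹ * ρ⁻¹ := by rw [← mul_inv_rev, ← mul_inv_rev, hl.2]
  calc l * yl e ρ v * l⁻¹ = (l * ρ) * dl e v * (ρ⁻¹ * l⁻¹) := by rw [yl]; group
    _ = ρ * (l * dl e v * l⁻¹) * ρ⁻¹ := by rw [hl.2, hli]; group
    _ = ρ * ep z e k 0 * ρ⁻¹ * (ρ * dl e (sig e l v) * ρ⁻¹) := by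
        rw [show l * dl e v * l⁻¹ = ep z e k 0 * dl e (sig e l v) from hk]; group
    _ = _ := by rw [T.ep_conj_rho, add_zero]; rfl

theorem no_refl {c : G} (hc : CE z e c) {a : Sp 3} (ha : qd a = 1) :
    ∃ v, sig e c v ≠ refl a v := by
  by_contra hcon
  push Not at hcon
  obtain ⟨l, hl, hls⟩ := T.exists_lev_sig hc
  obtain ⟨w, hw⟩ := T.setup.norefl l (memH hl.1) (up a) (by rw [qd_up, ha])
  have hi := T.setup.act_isom (memH hl.1)
  have hr : Isom (refl (up a)) := refl_isom (by rw [qd_up, ha])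
  obtain ⟨s, t, b, hv, -, -⟩ := decomp w
  have hsm : ∀ (f : Sp 4 → Sp 4), Isom f → ∀ (k : ZMod 2) (w : Sp 4), f (k • w) = k • f w := by
    intro f hf k w
    rcases z2_cases k with rfl | rfl
    · rw [zero_smul, zero_smul, hf.map_zero]
    · rw [one_smul, one_smul]
  refine hw ?_
  rw [hv, hi.map_add, hi.map_add, hr.map_add, hr.map_add, hsm _ hi, hsm _ hi, hsm _ hr,
    hsm _ hr, T.act_e0 hl.1, (T.lev_act hl).1, (T.lev_act hl).2, (refl_up_fix a).1,
    (refl_up_fix a).2, hls, hcon, refl_up]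

end Tri

end CfsgLib.ClassK.Conway
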