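import Cfsg.Agent.Lib.ClassK.ConwayBC
import Cfsg.Agent.Lib.Trans3.ExtraTwoOut
import Cfsg.Agent.Lib.Trans3.LargeLinear
import Cfsg.Agent.Lib.PLocal.LargeExtraCriterion
import Cfsg.Agent.Lib.Classical.OrthOmega
import Cfsg.Agent.Lib.Classical.OrthOrder

/-!
Groups of Conway type satisfy the set-up, and have exactly three classes of involutions.
-/

set_option autoImplicit false
set_option maxRecDepth 4000

namespace CfsgLib.ClassK.Conway

open Subgroup Matrix CfsgLib.Trans3.ExtraTwo CfsgLib.Classical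
open CfsgLib.PLocal.LargeExtra

local notation "Q₈" => Cfsg.quadFormPlus 4 (ZMod 2)
local notation "O₈" => Cfsg.isometryGroup (ZMod 2) (Cfsg.quadFormPlus 4 (ZMod 2))
local notation "L₈" => coordPlus 4

/-- An element of the matrix group acting as a given map. -/
def ActsAs (A : GL (Fin 4 ⊕ Fin 4) (ZMod 2)) (f : Sp 4 → Sp 4) : Prop :=
  ∀ w : Sp 4, (A : Matrix (Fin 4 ⊕ Fin 4) (Fin 4 ⊕ Fin 4) (ZMod 2)) *ᵥ L₈ w = L₈ (f w)

theorem ActsAs.mul {A B : GL (Fin 4 ⊕ Fin 4) (ZMod 2)} {f g : Sp 4 → Sp 4} (hA : ActsAs A f)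
    (hB : ActsAs B g) : ActsAs (A * B) (f ∘ g) := fun w => by
  rw [Units.val_mul, ← Matrix.mulVec_mulVec, hB, hA]; rfl

theorem ActsAs.unique {A B : GL (Fin 4 ⊕ Fin 4) (ZMod 2)} {f g : Sp 4 → Sp 4} (hA : ActsAs A f)
    (hB : ActsAs B g) (h : ∀ w, f w = g w) : A = B :=
  Units.ext (Matrix.ext_iff_mulVec.2 fun z => by
    rw [← (coordPlus 4).apply_symm_apply z, hA, hB, h])

theorem card_O8plus : Nat.card ↥O₈ = 348364800 := by
  rw [← qfPlus_coe, ← Nat.card_congr (Geom.orEquiv _).toEquiv, card_qfPlus_isoms 3, ZMod.card]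
  rfl

theorem card_O8minus :
    Nat.card ↥(Cfsg.isometryGroup (ZMod 2) (Cfsg.quadFormMinus 3 (ZMod 2) 1 1)) = 394813440 := by
  rw [← qfMinus_coe, ← Nat.card_congr (Geom.orEquiv _).toEquiv,
    card_qfMinus_isoms (by decide) 3, ZMod.card]
  rfl

theorem omega8plus_index : (Cfsg.Omega (ZMod 2) Q₈).index = 2 := by
  rw [← qfPlus_coe]
  exact Geom.omega_index_even _ (qfPlus_sep 4) (Or.inr (by simp [Module.finrank_fintype_fun_eq_card]))
    (by decide) (by simp)

theorem card_omega8plus : Nat.card ↥(Cfsg.Omega (ZMod 2) Q₈) = 174182400 := by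
  have h := Subgroup.card_mul_index (Cfsg.Omega (ZMod 2) Q₈)
  rw [omega8plus_index, card_O8plus] at h
  omega

theorem qf_coord (v : Sp 4) : qfPlus 4 (ZMod 2) (L₈ v) = qd v := by
  rw [qfPlus_coe]; exact quad_plus 4 v

theorem exists_refl_elem {a : Sp 4} (ha : qd a = 1) :
    ∃ r : ↥O₈, ActsAs r (refl a) := by
  have hne : qfPlus 4 (ZMod 2) (L₈ a) ≠ 0 := by rw [qf_coord, ha]; exact one_ne_zero
  have hm : Geom.glOfEquiv (Geom.reflEquiv _ _ hne) ∈ O₈ := by
    rw [← qfPlus_coe]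
    exact (Geom.glOfEquiv_mem_iff _ _).2 (Geom.reflEquiv_mem _ _ hne)
  refine ⟨⟨_, hm⟩, fun w => ?_⟩
  show (Geom.glOfEquiv (Geom.reflEquiv _ _ hne) : Matrix _ _ (ZMod 2)) *ᵥ L₈ w = L₈ (refl a w)
  rw [Geom.glOfEquiv_mulVec, Geom.reflEquiv_apply, qf_coord, ha]
  have hp : QuadraticMap.polar (qfPlus 4 (ZMod 2)) (L₈ a) (L₈ w) = alt w a := by
    rw [QuadraticMap.polar, ← map_add, qf_coord, qf_coord, qf_coord, qd_add, alt_comm]
    generalize qd a = x; generalize qd w = y; generalize alt w a = p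
    revert x y p; decide
  rw [hp, inv_one, one_mul]
  rcases z2_cases (alt w a) with h | h <;> rw [h]
  · rw [zero_smul, sub_zero, refl_of_alt h]
  · rw [one_smul, refl_of_alt' h, map_add, sub_eq_add_neg]
    congr 1
    funext i
    exact (by decide : ∀ x : ZMod 2, -x = x) _

theorem exists_word_elem {f : Sp 4 → Sp 4} {k : ℕ} (h : Word f k) : ∃ g : ↥O₈, ActsAs g f := by
  induction h with
  | nil => exact ⟨1, fun w => by simp⟩
  | cons ha _ ih =>
    obtain ⟨r, hr⟩ := exists_refl_elem ha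
    obtain ⟨g, hg⟩ := ih
    exact ⟨r * g, hr.mul hg⟩

/-- A subgroup of index two of the orthogonal group contains the products of two reflections and no
reflection, unless it contains them all. -/
theorem index_two_refl {R : Subgroup ↥O₈} (hR : R.index = 2) {a : Sp 4} (ha : qd a = 1)
    {r : ↥O₈} (hr : ActsAs r (refl a)) : r ∉ R := by
  intro hmem
  have hn : R.Normal := Subgroup.normal_of_index_eq_two hR
  -- all reflections lie in `R`
  have hall : ∀ b, qd b = 1 → ∀ s : ↥O₈, ActsAs s (refl b) → s ∈ R := by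
    intro b hb s hs
    obtain ⟨f, k, hf, hfa⟩ := to_n4 ha
    obtain ⟨f', k', hf', hfb⟩ := to_n4 hb
    obtain ⟨g, hg⟩ := exists_word_elem hf
    obtain ⟨g', hg'⟩ := exists_word_elem hf'
    obtain ⟨r0, hr0⟩ := exists_refl_elem (a := n4) basic_facts.2.2.2.1
    have e1 : g * r = r0 * g := Subtype.ext ((hg.mul hr).unique (hr0.mul hg) fun w => by
      show f (refl a w) = refl n4 (f w)
      rw [← refl_conj hf.isom a w, hfa])
    have e2 : g' * s = r0 * g' := Subtype.ext ((hg'.mul hs).unique (hr0.mul hg') fun w => by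
      show f' (refl b w) = refl n4 (f' w)
      rw [← refl_conj hf'.isom b w, hfb])
    have h0 : r0 ∈ R := by
      rw [show r0 = g * r * g⁻¹ by rw [e1, mul_inv_cancel_right]]
      exact hn.conj_mem r hmem g
    rw [show s = g'⁻¹ * r0 * g'⁻¹⁻¹ by rw [inv_inv, mul_assoc, ← e2, inv_mul_cancel_left]]
    exact hn.conj_mem r0 h0 g'⁻¹
  have htop : ∀ g : ↥O₈, g ∈ R := by
    intro g
    have hgen := Geom.quadIsoms_eq_closure (qfPlus 4 (ZMod 2)) (qfPlus_sep 4)
      (Or.inr (by simp [Module.finrank_fintype_fun_eq_card]))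
    let K : Subgroup ((Fin 4 ⊕ Fin 4 → ZMod 2) ≃ₗ[ZMod 2] (Fin 4 ⊕ Fin 4 → ZMod 2)) :=
      ((R.map (Cfsg.isometryGroup (ZMod 2) Q₈).subtype).comap Geom.glOfEquiv)
    have hK : Geom.quadIsoms (qfPlus 4 (ZMod 2)) ≤ K := by
      rw [hgen, Subgroup.closure_le]
      rintro _ ⟨v, hv, rfl⟩
      obtain ⟨b, rfl⟩ := (coordPlus 4).surjective v
      have hb : qd b = 1 := by
        rw [qf_coord] at hv
        exact (z2_cases _).resolve_left hv
      obtain ⟨s, hs⟩ := exists_refl_elem hb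
      show Geom.glOfEquiv _ ∈ R.map (Cfsg.isometryGroup (ZMod 2) Q₈).subtype
      refine Subgroup.mem_map.2 ⟨s, hall b hb s hs, ?_⟩
      show (s : GL (Fin 4 ⊕ Fin 4) (ZMod 2)) = _
      obtain ⟨s', hs'⟩ := exists_refl_elem hb
      refine Units.ext (Matrix.ext_iff_mulVec.2 fun z => ?_)
      rw [← (coordPlus 4).apply_symm_apply z, hs, Geom.glOfEquiv_mulVec, Geom.reflEquiv_apply,
        qf_coord, hb, inv_one, one_mul]
      generalize (coordPlus 4).symm z = w
      have hp : QuadraticMap.polar (qfPlus 4 (ZMod 2)) (L₈ b) (L₈ w) = alt w b := by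
        rw [QuadraticMap.polar, ← map_add, qf_coord, qf_coord, qf_coord, qd_add, alt_comm]
        generalize qd b = x; generalize qd w = y; generalize alt w b = p
        revert x y p; decide
      rw [hp]
      rcases z2_cases (alt w b) with h | h <;> rw [h]
      · rw [zero_smul, sub_zero, refl_of_alt h]
      · rw [one_smul, refl_of_alt' h, map_add, sub_eq_add_neg]
        congr 1
        funext i
        exact (by decide : ∀ x : ZMod 2, x = -x) _
    have hg' : (g : GL (Fin 4 ⊕ Fin 4) (ZMod 2)) ∈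
        Cfsg.isometryGroup (ZMod 2) (⇑(qfPlus 4 (ZMod 2))) := by
      rw [qfPlus_coe]; exact g.2
    obtain ⟨u, hu⟩ := (Geom.orEquiv (qfPlus 4 (ZMod 2))).surjective ⟨_, hg'⟩
    obtain ⟨s, hsR, hse⟩ := hK u.2
    have hu' : Geom.glOfEquiv u.1 = (g : GL (Fin 4 ⊕ Fin 4) (ZMod 2)) :=
      (Geom.orEquiv_coe _ u).symm.trans (congrArg Subtype.val hu)
    rwa [← Subtype.ext (hse.trans hu') ]
  rw [show R = ⊤ from eq_top_iff.2 fun g _ => htop g, Subgroup.index_top] at hR
  omega

theorem std_order : ea ≠ 0 ∧ alt eb ea + beta (ff 3) eb eb = 0 ∧ alt eb ea + beta (ff 3) ea ea = 0 ∧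
    sa ≠ 0 ∧ alt sb sa + beta (ff 3) sb sb = 0 ∧ alt sb sa + beta (ff 3) sa sa = 0 := by
  decide +kernel

section Build

variable {G : Type*} [Group G] [Finite G] {z : G}

/-- Conjugation by the centraliser. -/
noncomputable def conjHom {QG : Subgroup G} (hpack : Pack QG z) :
    ↥(centralizer ({z} : Set G)) →* MulAut QG :=
  (QG.normalizerMonoidHom).comp (inclusion hpack.norm)

theorem conjHom_apply {QG : Subgroup G} (hpack : Pack QG z) (c : centralizer ({z} : Set G))
    (q : QG) : ((conjHom hpack c q : QG) : G) = c * q * (c : G)⁻¹ := rfl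

/-- Transport of conjugation to the model. -/
noncomputable def modelHom {QG : Subgroup G} (hpack : Pack QG z) {t : Fin 4 → Bool}
    (e : ↥QG ≃* ES 4 t) : ↥(centralizer ({z} : Set G)) →* MulAut (ES 4 t) :=
  (MulAut.congr e).toMonoidHom.comp (conjHom hpack)

theorem modelHom_apply {QG : Subgroup G} (hpack : Pack QG z) {t : Fin 4 → Bool}
    (e : ↥QG ≃* ES 4 t) (c : centralizer ({z} : Set G)) (x : ES 4 t) :
    modelHom hpack e c x = e (conjHom hpack c (e.symm x)) := rfl

theorem model_ker {QG : Subgroup G} (hpack : Pack QG z) (hQC : QG ≤ centralizer ({z} : Set G))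
    {t : Fin 4 → Bool} (e : ↥QG ≃* ES 4 t) {ι : Type} [Fintype ι] [DecidableEq ι]
    (L : Sp 4 ≃ₗ[ZMod 2] (ι → ZMod 2)) (Qf : (ι → ZMod 2) → ZMod 2)
    (hQ : ∀ v, Qf (L v) = beta t v v) :
    ((psi t L Qf hQ).comp (modelHom hpack e)).ker = QG.subgroupOf (centralizer ({z} : Set G)) := by
  rw [← MonoidHom.comap_ker, psi_ker]
  ext c
  rw [mem_comap, mem_subgroupOf]
  constructor
  · rintro ⟨x, hx⟩
    have hc : ((e.symm x : QG) : G)⁻¹ * c ∈ centralizer (QG : Set G) :=
      mem_centralizer_iff.2 fun a ha => by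
        have h := congrArg (fun y => ((e.symm y : QG) : G)) (MulEquiv.congr_fun hx (e ⟨a, ha⟩))
        simp only [MulAut.conj_apply, map_mul, map_inv, MulEquiv.symm_apply_apply,
          modelHom_apply, conjHom_apply, Subgroup.coe_mul, InvMemClass.coe_inv] at h
        calc a * (((e.symm x : QG) : G)⁻¹ * c)
            = ((e.symm x : QG) : G)⁻¹ * (((e.symm x : QG) : G) * a * ((e.symm x : QG) : G)⁻¹) * c := by
              group
          _ = ((e.symm x : QG) : G)⁻¹ * c * a := by rw [h]; group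
    simpa using mul_mem (e.symm x).2 (hpack.cent hc)
  · intro hc
    refine ⟨e ⟨c, hc⟩, MulEquiv.ext fun y => ?_⟩
    rw [modelHom_apply, MulAut.conj_apply]
    apply e.symm.injective
    rw [map_mul, map_mul, map_inv, e.symm_apply_apply, e.symm_apply_apply]
    exact Subtype.ext rfl

theorem card_model_range {QG : Subgroup G} (hpack : Pack QG z)
    (hQC : QG ≤ centralizer ({z} : Set G)) [(QG.subgroupOf (centralizer ({z} : Set G))).Normal]
    {t : Fin 4 → Bool} (e : ↥QG ≃* ES 4 t) {ι : Type} [Fintype ι] [DecidableEq ι]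
    (L : Sp 4 ≃ₗ[ZMod 2] (ι → ZMod 2)) (Qf : (ι → ZMod 2) → ZMod 2)
    (hQ : ∀ v, Qf (L v) = beta t v v) :
    Nat.card ↥((psi t L Qf hQ).comp (modelHom hpack e)).range =
      (QG.subgroupOf (centralizer ({z} : Set G))).index := by
  rw [← Subgroup.index_ker, model_ker hpack hQC e L Qf hQ]

/-- The hypotheses give the set-up. -/
theorem exists_setup {QG : Subgroup G} (hpack : Pack QG z)
    (hQC : QG ≤ centralizer ({z} : Set G)) [(QG.subgroupOf (centralizer ({z} : Set G))).Normal]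
    (hcard : Nat.card QG = 2 ^ 9)
    (hidx : (QG.subgroupOf (centralizer ({z} : Set G))).index = 174182400)
    (hfus : ∃ g, g * z * g⁻¹ ∈ QG ∧ g * z * g⁻¹ ≠ z) :
    ∃ e : ↥QG ≃* ES 4 (ff 4), Setup z QG e := by
  rcases iso_model hpack.ext 3 hcard with e | e <;> obtain ⟨e⟩ := e
  swap
  · exfalso
    have h := card_model_range hpack hQC e (coordMinus 3) _ (quad_minus 3)
    rw [hidx] at h
    have hd := Subgroup.card_subgroup_dvd_card
      ((psi (tMinus 3) (coordMinus 3) _ (quad_minus 3)).comp (modelHom hpack e)).range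
    rw [h, card_O8minus] at hd
    norm_num at hd
  refine ⟨e, ?_⟩
  set Φ := (psi (fun _ : Fin 4 => false) (coordPlus 4) _ (quad_plus 4)).comp (modelHom hpack e) with hΦ
  set R := Φ.range with hR
  have hRi : R.index = 2 := by
    have h := card_model_range hpack hQC e (coordPlus 4) _ (quad_plus 4)
    rw [hidx] at h
    have h2 := Subgroup.card_mul_index R
    rw [h, card_O8plus] at h2
    omega
  have hact : ∀ c : centralizer ({z} : Set G), ActsAs (Φ c : ↥O₈) (act e (c : G)) := by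
    intro c w
    show mat (fun _ : Fin 4 => false) (coordPlus 4) (modelHom hpack e c) *ᵥ L₈ w = _
    rw [mat_mulVec, LinearEquiv.symm_apply_apply, vLin_apply, modelHom_apply]
    congr 1
    have hm : (c : G) * el e w 0 * (c : G)⁻¹ ∈ QG :=
      (mem_normalizer_iff.1 (hpack.norm c.2) _).1 (Setup.el_mem w 0)
    rw [act, pi, dif_pos hm]
    rfl
  refine ⟨hpack, fun a b ha hb => ?_, fun c hc a ha => ?_, hfus⟩
  · obtain ⟨r, hr⟩ := exists_refl_elem ha
    obtain ⟨s, hs⟩ := exists_refl_elem hb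
    have hrs : r * s ∈ R := (mul_mem_iff_of_index_two hRi).2
      ⟨fun h => absurd h (index_two_refl hRi ha hr), fun h => absurd h (index_two_refl hRi hb hs)⟩
    obtain ⟨c, hc⟩ := hrs
    refine ⟨c, c.2, fun v => (coordPlus 4).injective ?_⟩
    rw [← hact c v, hc]
    exact (hr.mul hs) v
  · by_contra hcon
    push Not at hcon
    exact index_two_refl hRi ha (r := Φ ⟨c, hc⟩)
      (fun v => by rw [hact ⟨c, hc⟩ v, hcon v]) ⟨_, rfl⟩

/-- Every involution is conjugate into the centraliser. -/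
theorem conj_into {QG : Subgroup G}
    (h : Pack QG z) {t : G} (ht : t * t = 1) :
    ∃ g : G, g * t * g⁻¹ ∈ centralizer ({z} : Set G) := by
  haveI : Fact (Nat.Prime 2) := ⟨Nat.prime_two⟩
  obtain ⟨P, hP⟩ := h.ext.1.1.exists_le_sylow
  have htp : IsPGroup 2 (zpowers t) := by
    intro x
    obtain ⟨n, hn⟩ := x.2
    refine ⟨1, Subtype.ext ?_⟩
    show (x : G) ^ 2 ^ 1 = 1
    rw [← hn]
    show (t ^ n) ^ 2 ^ 1 = 1
    rw [← zpow_natCast, ← _root_.zpow_mul, mul_comm, _root_.zpow_mul, zpow_natCast, pow_one, pow_two, ht, _root_.one_zpow]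
  obtain ⟨P', hP'⟩ := htp.exists_le_sylow
  obtain ⟨g, hg⟩ := MulAction.exists_smul_eq G P' P
  have hmem : g * t * g⁻¹ ∈ (P : Subgroup G) := by
    rw [← hg, Sylow.coe_subgroup_smul]
    exact ⟨t, hP' (mem_zpowers t), rfl⟩
  refine ⟨g, ?_⟩
  have hzc : ∀ p ∈ (P : Subgroup G), p * z = z * p := by
    have hP0 : Nontrivial ↥(P : Subgroup G) :=
      ⟨⟨z, hP h.mem⟩, 1, fun e => h.z_ne (congrArg Subtype.val e)⟩
    haveI := P.isPGroup'.center_nontrivial
    obtain ⟨⟨w, hw⟩, hwne⟩ := exists_ne (1 : center ↥(P : Subgroup G))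
    have hwQ : (w : G) ∈ QG := h.cent (mem_centralizer_iff.2 fun q hq =>
      congrArg Subtype.val (mem_center_iff.1 hw ⟨q, hP hq⟩))
    rcases h.eq_of_central hwQ (fun b hb => (congrArg Subtype.val (mem_center_iff.1 hw ⟨b, hP hb⟩)).symm)
      with e | e
    · exact absurd (Subtype.ext (Subtype.ext e)) hwne
    · intro p hp
      rw [← e]
      exact congrArg Subtype.val (mem_center_iff.1 hw ⟨p, hp⟩)
  exact mem_centralizer_singleton_iff.2 (hzc _ hmem)

/-- Exactly three classes of involutions. -/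
theorem three_classes_main (hz : orderOf z = 2) {QG : Subgroup G} (hpack : Pack QG z)
    (hQC : QG ≤ centralizer ({z} : Set G)) [(QG.subgroupOf (centralizer ({z} : Set G))).Normal]
    (hcard : Nat.card QG = 2 ^ 9)
    (hidx : (QG.subgroupOf (centralizer ({z} : Set G))).index = 174182400)
    (hfus : ∃ g, g * z * g⁻¹ ∈ QG ∧ g * z * g⁻¹ ≠ z) :
    ∃ a b c : G, orderOf a = 2 ∧ orderOf b = 2 ∧ orderOf c = 2 ∧ ¬ IsConj a b ∧ ¬ IsConj a c ∧
      ¬ IsConj b c ∧ ∀ x : G, orderOf x = 2 → IsConj x a ∨ IsConj x b ∨ IsConj x c := by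
  obtain ⟨e, S⟩ := exists_setup hpack hQC hcard hidx hfus
  obtain ⟨ρ, T⟩ := S.exists_tri
  haveI : Fact (Nat.Prime 2) := ⟨Nat.prime_two⟩
  have hord : ∀ a b : Sp 3, a ≠ 0 → alt b a + beta (ff 3) b b = 0 → alt b a + beta (ff 3) a a = 0 →
      orderOf (nm z e ρ 0 0 a b) = 2 := by
    intro a b ha h1 h2
    refine orderOf_eq_prime ?_ fun h => ha (T.nm_eq_one h).2.2.1
    rw [pow_two, T.nm_mul, sp_add_self, sp_add_self, zero_add, zero_add, h1, h2, T.nm_one]
  refine ⟨z, nm z e ρ 0 0 ea eb, nm z e ρ 0 0 sa sb, hz,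
    hord ea eb std_order.1 std_order.2.1 std_order.2.2.1,
    hord sa sb std_order.2.2.2.1 std_order.2.2.2.2.1 std_order.2.2.2.2.2,
    T.not_conj_ell, T.not_conj_sing, T.not_conj_pair, fun x hx => ?_⟩
  have hx2 : x * x = 1 := by rw [← pow_two, ← hx]; exact pow_orderOf_eq_one x
  have hx1 : x ≠ 1 := fun h => by rw [h, orderOf_one] at hx; exact absurd hx (by norm_num)
  obtain ⟨g, hg⟩ := conj_into hpack hx2
  have hc := isConj_conj g x
  rcases S.three_classes T hg (conj_invol hx2) (fun h => hx1 (by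
    calc x = g⁻¹ * (g * x * g⁻¹) * g := by group
      _ = 1 := by rw [h]; group)) with h | h | h
  · exact Or.inl (hc.trans h.symm)
  · exact Or.inr (Or.inr (hc.trans h.symm))
  · exact Or.inr (Or.inl (hc.trans h.symm))

end Build

end CfsgLib.ClassK.Conway
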