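import Cfsg.Agent.Lib.ClassK.ConwayCalc

/-!
Multiplication in normal form, conjugation by `q` and `ρ`, and the action on the vectors.
-/

set_option autoImplicit false

namespace CfsgLib.ClassK.Conway

open Subgroup CfsgLib.Trans3.ExtraTwo
open CfsgLib.PLocal.LargeExtra

variable {G : Type*} [Group G]

namespace Tri

variable {z : G} {Q : Subgroup G} {e : ↥Q ≃* ES 4 (ff 4)} {ρ : G} (T : Tri z Q e ρ)
include T
variable [Finite G]

theorem dl_yl (a b : Sp 3) :
    dl e a * yl e ρ b = ep z e (alt a b) (alt a b) * (yl e ρ b * dl e a) :=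
  (T.basic_relations a b).1

theorem q_yl (b : Sp 3) :
    qe e * yl e ρ b * qe e = ep z e (qd b) (qd b) * (dl e b * yl e ρ b) :=
  (T.basic_relations b b).2

theorem dl_yl_self (a : Sp 3) : dl e a * yl e ρ a = yl e ρ a * dl e a := by
  rw [T.dl_yl, alt_self, T.ep_zero, one_mul]

theorem ce_comm_left {c : G} (hc : CE z e c) (i j : ZMod 2) (g : G) :
    c * (ep z e i j * g) = ep z e i j * (c * g) := by
  rw [← mul_assoc, T.ce_ep hc, mul_assoc]

theorem ep_mul_left (i j k l : ZMod 2) (g : G) :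
    ep z e i j * (ep z e k l * g) = ep z e (i + k) (j + l) * g := by
  rw [← mul_assoc, T.ep_mul]

theorem nm_mul (i j k l : ZMod 2) (a b c d : Sp 3) :
    nm z e ρ i j a b * nm z e ρ k l c d =
      nm z e ρ (i + k + alt b c + beta (ff 3) b d) (j + l + alt b c + beta (ff 3) a c)
        (a + c) (b + d) := by
  have h1 : yl e ρ a * (dl e b * (yl e ρ c * dl e d)) =
      ep z e (alt b c + beta (ff 3) b d) (alt b c + beta (ff 3) a c) *
        (yl e ρ (a + c) * dl e (b + d)) := by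
    rw [← mul_assoc (dl e b), T.dl_yl, mul_assoc (ep z e (alt b c) (alt b c)),
      mul_assoc (yl e ρ c), T.dl_mul, T.ce_comm_left (T.yl_ce c), T.ep_mul_left,
      T.ce_comm_left (T.yl_ce a), ← mul_assoc (yl e ρ a), T.yl_mul,
      mul_assoc (ep z e 0 (beta (ff 3) a c)), T.ep_mul_left, add_zero, add_zero]
  rw [nm, nm, nm, mul_assoc (ep z e i j), mul_assoc (yl e ρ a), T.ce_comm_left (T.dl_ce b),
    T.ce_comm_left (T.yl_ce a), h1, T.ep_mul_left, T.ep_mul_left]
  simp only [add_assoc]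

theorem nm_ep (i j : ZMod 2) : nm z e ρ i j 0 0 = ep z e i j := by
  rw [nm, T.yl_zero, T.dl_zero, one_mul, mul_one]

theorem nm_one : nm z e ρ 0 0 0 0 = 1 := by rw [T.nm_ep, T.ep_zero]

theorem nm_dl (b : Sp 3) : nm z e ρ 0 0 0 b = dl e b := by
  rw [nm, T.ep_zero, T.yl_zero, one_mul, one_mul]

theorem nm_yl (a : Sp 3) : nm z e ρ 0 0 a 0 = yl e ρ a := by
  rw [nm, T.ep_zero, T.dl_zero, one_mul, mul_one]

theorem nm_q (i j : ZMod 2) (a b : Sp 3) :
    qe e * nm z e ρ i j a b * qe e =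
      nm z e ρ (i + j + qd a + beta (ff 3) a b) (j + qd a) a (a + b) := by
  have hqd : ∀ g, qe e * (dl e b * g) = dl e b * (qe e * g) := fun g => by
    rw [← mul_assoc, T.q_dl, mul_assoc]
  have e1 : qe e * nm z e ρ i j a b * qe e =
      qe e * ep z e i j * qe e * (qe e * yl e ρ a * qe e * dl e b) := by
    rw [nm]
    calc qe e * (ep z e i j * (yl e ρ a * dl e b)) * qe e
        = qe e * ep z e i j * (yl e ρ a * (dl e b * qe e)) := by simp only [mul_assoc]
      _ = qe e * ep z e i j * (yl e ρ a * (qe e * dl e b)) := by rw [T.q_dl]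
      _ = qe e * ep z e i j * (qe e * qe e) * (yl e ρ a * (qe e * dl e b)) := by
          rw [T.q_sq, mul_one]
      _ = _ := by simp only [mul_assoc]
  rw [e1, T.ep_conj_q, T.q_yl, T.dl_yl_self, mul_assoc (ep z e (qd a) (qd a)), T.ep_mul_left,
    mul_assoc (yl e ρ a), T.dl_mul, T.ce_comm_left (T.yl_ce a), T.ep_mul_left, add_zero, nm]

theorem nm_rho (i j : ZMod 2) (a b : Sp 3) :
    ρ * nm z e ρ i j a b * ρ⁻¹ =
      nm z e ρ (j + qd a + alt a b) (i + j + qd a + alt a b + beta (ff 3) a b) (a + b) a := by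
  have e1 : ρ * nm z e ρ i j a b * ρ⁻¹ =
      ρ * ep z e i j * ρ⁻¹ * (ρ * yl e ρ a * ρ⁻¹ * yl e ρ b) := by
    simp only [nm, yl]; group
  rw [e1, T.ep_conj_rho, T.rho_yl_eq, T.q_yl, T.dl_yl_self,
    mul_assoc (ep z e (qd a) (qd a)), T.ep_mul_left, mul_assoc (yl e ρ a), T.dl_yl,
    T.ce_comm_left (T.yl_ce a), T.ep_mul_left, ← mul_assoc (yl e ρ a), T.yl_mul,
    mul_assoc (ep z e 0 (beta (ff 3) a b)), T.ep_mul_left, add_zero, nm]

theorem nm_ce (i j : ZMod 2) (a b : Sp 3) : CE z e (nm z e ρ i j a b) := by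
  have h : ∀ c d, CE z e c → CE z e d → CE z e (c * d) := fun c d hc hd =>
    ⟨by rw [mul_assoc, hd.1, ← mul_assoc, hc.1, mul_assoc],
     by rw [mul_assoc, hd.2, ← mul_assoc, hc.2, mul_assoc]⟩
  refine h _ _ ?_ (h _ _ (T.yl_ce a) (T.dl_ce b))
  have hx := T.pair.comm
  refine h _ _ ⟨(pw_comm rfl i).symm, (pw_comm hx i).symm⟩ ⟨(pw_comm hx.symm j).symm, (pw_comm rfl j).symm⟩

theorem ep_memQ (i j : ZMod 2) : ep z e i j ∈ Q := by
  rw [T.ep_eq]; exact Setup.el_mem _ _

theorem nm_eq_one {i j : ZMod 2} {a b : Sp 3} (h : nm z e ρ i j a b = 1) :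
    i = 0 ∧ j = 0 ∧ a = 0 ∧ b = 0 := by
  have hup : ∀ (c : Sp 3) (k l : ZMod 2), dl e c = ep z e k l → c = 0 := fun c k l hc => by
    rw [T.ep_eq] at hc
    have hv := (Setup.el_inj hc).1
    funext m
    have := congrFun hv m.succ
    simp only [up, Fin.cons_succ, Pi.smul_apply] at this
    rw [this]
    fin_cases m <;> simp [e0] <;> rfl
  have hy : yl e ρ a ∈ Q := by
    have : yl e ρ a = (ep z e i j)⁻¹ * (dl e b)⁻¹ := by
      rw [← mul_inv_rev, eq_inv_iff_mul_eq_one, ← mul_assoc]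
      have hc : yl e ρ a * dl e b * ep z e i j = 1 := mul_eq_one_comm.1 h
      exact hc
    rw [this]
    exact mul_mem (inv_mem (T.ep_memQ _ _)) (inv_mem (Setup.el_mem _ _))
  obtain ⟨k, l, hk⟩ := T.mem_four hy (T.yl_memT a)
  have ha : a = 0 := by
    refine hup a (k + l) k ?_
    have h2 : dl e a = ρ * ρ * ep z e k l * (ρ * ρ)⁻¹ := by
      rw [← hk, ← T.rho_inv, yl]; group
    rw [h2, show ρ * ρ * ep z e k l * (ρ * ρ)⁻¹ = ρ * (ρ * ep z e k l * ρ⁻¹) * ρ⁻¹ by group,
      T.ep_conj_rho, T.ep_conj_rho]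
    congr 1
    exact (by decide : ∀ k l : ZMod 2, l + (k + l) = k) k l
  subst ha
  rw [nm, T.yl_zero, one_mul] at h
  have hb : b = 0 := hup b i j (by
    rw [← T.ep_inv i j]
    exact eq_inv_of_mul_eq_one_right h)
  subst hb
  rw [T.dl_zero, mul_one, ← T.ep_zero] at h
  exact ⟨(T.ep_inj h).1, (T.ep_inj h).2, rfl, rfl⟩

theorem nm_inj {i j k l : ZMod 2} {a b c d : Sp 3}
    (h : nm z e ρ i j a b = nm z e ρ k l c d) : i = k ∧ j = l ∧ a = c ∧ b = d := by
  have hinv : nm z e ρ (k + alt d c + beta (ff 3) d d) (l + alt d c + beta (ff 3) c c) c d *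
      nm z e ρ i j a b = 1 := by
    rw [h, T.nm_mul, sp_add_self, sp_add_self]
    rw [show k + alt d c + beta (ff 3) d d + k + alt d c + beta (ff 3) d d = 0 from
        (by decide : ∀ p q r : ZMod 2, p + q + r + p + q + r = 0) _ _ _,
      show l + alt d c + beta (ff 3) c c + l + alt d c + beta (ff 3) c c = 0 from
        (by decide : ∀ p q r : ZMod 2, p + q + r + p + q + r = 0) _ _ _, T.nm_one]
  rw [T.nm_mul] at hinv
  obtain ⟨h1, h2, h3, h4⟩ := T.nm_eq_one hinv
  have hc : c = a := by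
    calc c = c + a + a := by rw [add_assoc, sp_add_self, add_zero]
      _ = a := by rw [h3, zero_add]
  have hd : d = b := by
    calc d = d + b + b := by rw [add_assoc, sp_add_self, add_zero]
      _ = b := by rw [h4, zero_add]
  subst hc hd
  refine ⟨?_, ?_, rfl, rfl⟩
  · exact (by decide : ∀ i k q r : ZMod 2, k + q + r + i + q + r = 0 → i = k) i k _ _ h1
  · exact (by decide : ∀ i k q r : ZMod 2, k + q + r + i + q + r = 0 → i = k) j l _ _ h2

/-- The action of `y(a)` on the vectors. -/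
theorem act_yl (a : Sp 3) : act e (yl e ρ a) e0 = e0 ∧
    act e (yl e ρ a) f0 = f0 + qd a • e0 + up a ∧
    ∀ v, act e (yl e ρ a) (up v) = alt v a • e0 + up v := by
  have S := T.setup
  have hy := T.yl_ce a
  have hH : yl e ρ a ∈ centralizer ({z} : Set G) := mem_centralizer_singleton_iff.2 hy.1
  refine ⟨S.act_eq hH (k := 0) (k' := 0) (mul_inv_eq_iff_eq_mul.2 hy.2), ?_, fun v => ?_⟩
  · refine S.act_eq hH (k := 0) (k' := 0 + qd a + beta (ff 4) f0 (qd a • e0 + up a)) ?_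
    change yl e ρ a * qe e * (yl e ρ a)⁻¹ = _
    rw [add_assoc f0, ← Setup.el_mul, T.el_split, mul_inv_eq_iff_eq_mul]
    have h := T.q_yl a
    calc yl e ρ a * qe e = qe e * (qe e * yl e ρ a * qe e) := by
          simp only [← mul_assoc, T.q_sq, one_mul]
      _ = qe e * (ep z e (qd a) (qd a) * dl e a) * yl e ρ a := by rw [h]; simp only [mul_assoc]
      _ = _ := rfl
  · refine S.act_eq hH (k := 0) (k' := alt v a) ?_
    change yl e ρ a * dl e v * (yl e ρ a)⁻¹ = _
    rw [T.el_split, mul_inv_eq_iff_eq_mul, mul_assoc, T.dl_yl, T.ep_mul_left, z2_add_self,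
      T.ep_zero, one_mul]

end Tri

end CfsgLib.ClassK.Conway
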