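import Cfsg.Agent.Lib.ClassK.ConwaySiegel

/-!
Every involution centralising the central involution of a group of Conway type is conjugate to it
or to one of two standard elements of the radical of the pair.
-/

set_option autoImplicit false

namespace CfsgLib.ClassK.Conway

open Subgroup CfsgLib.Trans3.ExtraTwo
open CfsgLib.PLocal.LargeExtra

variable {n : ℕ}

theorem smul_map {f : Sp n → Sp n} (hf : Isom f) (k : ZMod 2) (w : Sp n) : f (k • w) = k • f w := by
  rcases z2_cases k with rfl | rfl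
  · rw [zero_smul, zero_smul, hf.map_zero]
  · rw [one_smul, one_smul]

theorem qd_smul (k : ZMod 2) (v : Sp n) : qd (k • v) = k * qd v := by
  rcases z2_cases k with rfl | rfl
  · rw [zero_smul, qd_zero, zero_mul]
  · rw [one_smul, one_mul]

theorem tau_tau {a b : Sp n} (hab : alt a b = 0) (v : Sp n) : tau a b (tau a b v) = v := by
  have hba : alt b a = 0 := by rw [alt_comm, hab]
  have h1 : alt (tau a b v) a = alt v a := by
    rw [tau, alt_add_left, alt_add_left, alt_smul_left, alt_smul_left, hba, alt_self, mul_zero,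
      mul_zero, add_zero, add_zero]
  have h2 : alt (tau a b v) b = alt v b := by
    rw [tau, alt_add_left, alt_add_left, alt_smul_left, alt_smul_left, hab, alt_self, mul_zero,
      mul_zero, add_zero, add_zero]
  rw [tau, h1, h2, tau]
  calc v + alt v a • b + alt v b • a + alt v a • b + alt v b • a
      = v + ((alt v a • b + alt v a • b) + (alt v b • a + alt v b • a)) := by abel
    _ = v := by rw [sp_add_self, sp_add_self, add_zero, add_zero]

section TS

variable {t : Sp n → Sp n} (ht : Isom t) (hinv : ∀ v, t (t v) = v)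
  (hts : ∀ v, qd (t v + v) = 0)
include ht hinv hts

/-- Properties of a totally singular involution composed with a Siegel map split off it. -/
theorem tau_step {u v a b : Sp n} (ha : a = t u + u) (hb : b = t v + v) (hqa : qd a = 0)
    (hqb : qd b = 0) (hab : alt a b = 0) (hub : alt u b = 1) (hva : alt v a = 1)
    (hua : alt u a = 0) (hvb : alt v b = 0) :
    (∀ x, tau a b (t (tau a b (t x))) = x) ∧ (∀ x, qd (tau a b (t x) + x) = 0) ∧
      (∀ x, t x = x → tau a b (t x) = x) ∧ tau a b (t u) = u ∧ tau a b (t v) = v := by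
  have hta : t a = a := by rw [ha, fix_range ht hinv]
  have htb : t b = b := by rw [hb, fix_range ht hinv]
  have hba : alt b a = 0 := by rw [alt_comm, hab]
  have hcom : ∀ x, tau a b (t x) = t (tau a b x) := fun x => by
    conv_lhs => rw [← hta, ← htb]
    exact tau_conj ht a b x
  have hx : ∀ x, tau a b (t x) + x = (t x + x) + (alt x a • b + alt x b • a) := fun x => by
    have e1 : alt (t x) a = alt x a := by
      conv_lhs => rw [← hta]
      exact ht.map_alt x a
    have e2 : alt (t x) b = alt x b := by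
      conv_lhs => rw [← htb]
      exact ht.map_alt x b
    rw [tau, e1, e2]; abel
  refine ⟨fun x => ?_, fun x => ?_, fun x hxx => ?_, ?_, ?_⟩
  · rw [hcom (tau a b (t x)), tau_tau hab, hinv]
  · have o1 : alt (t x + x) b = 0 := by rw [hb]; exact range_orth ht hinv x v
    have o2 : alt (t x + x) a = 0 := by rw [ha]; exact range_orth ht hinv x u
    rw [hx, qd_add, hts, zero_add, qd_add, qd_smul, qd_smul, hqa, hqb, mul_zero, mul_zero,
      zero_add, zero_add, alt_smul_left, alt_comm b, alt_smul_left, hab, mul_zero, mul_zero,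
      zero_add, alt_add_right, alt_comm _ (alt x a • b), alt_smul_left,
      alt_comm _ (alt x b • a), alt_smul_left, alt_comm b, o1, alt_comm a, o2, mul_zero, mul_zero,
      add_zero]
  · have ex : ∀ y, alt x (t y + y) = 0 := fun y => by
      rw [← selfadj ht hinv, hxx, sp_add_self, alt_zero_left]
    rw [hxx, tau, ha, hb, ex, ex, zero_smul, zero_smul, add_zero, add_zero]
  · have e : t u = u + a := by rw [ha, add_comm (t u) u, ← add_assoc, sp_add_self, zero_add]
    rw [e, tau, alt_add_left, alt_add_left, hua, hub, alt_self, hab, add_zero, add_zero, zero_smul,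
      add_zero, one_smul, add_assoc, sp_add_self, add_zero]
  · have e : t v = v + b := by rw [hb, add_comm (t v) v, ← add_assoc, sp_add_self, zero_add]
    rw [e, tau, alt_add_left, alt_add_left, hva, hvb, hba, alt_self, add_zero, add_zero, zero_smul,
      add_zero, one_smul, add_assoc, sp_add_self, add_zero]

end TS

/-- A totally singular involution with commutator space of at most two elements is trivial. -/
theorem ts_small {t : Sp n → Sp n} (ht : Isom t) (hinv : ∀ v, t (t v) = v)
    (hts : ∀ v, qd (t v + v) = 0) {m : Sp n} (hm : ∀ v, t v + v = 0 ∨ t v + v = m) (x : Sp n) :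
    t x = x := by
  by_contra hne
  have hx : t x + x ≠ 0 := fun h => hne (by
    calc t x = t x + x + x := by rw [add_assoc, sp_add_self, add_zero]
      _ = x := by rw [h, zero_add])
  obtain ⟨u, v, a, b, ha, hb, -, -, -, hub, hva, hua, -⟩ := split_tau ht hinv hts hx
  have ha0 : a ≠ 0 := fun h => by rw [h, alt_zero_right] at hva; exact zero_ne_one hva
  have hb0 : b ≠ 0 := fun h => by rw [h, alt_zero_right] at hub; exact zero_ne_one hub
  have e1 := (hm u).resolve_left (by rw [← ha]; exact ha0)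
  have e2 := (hm v).resolve_left (by rw [← hb]; exact hb0)
  rw [ha, e1] at hua
  rw [hb, e2] at hub
  exact zero_ne_one (hua.symm.trans hub)

/-- In dimension six a totally singular involution is a Siegel map. -/
theorem ts_three {t : Sp 3 → Sp 3} (ht : Isom t) (hinv : ∀ v, t (t v) = v)
    (hts : ∀ v, qd (t v + v) = 0) {x : Sp 3} (hx : t x ≠ x) :
    ∃ u v a b, a = t u + u ∧ b = t v + v ∧ qd a = 0 ∧ qd b = 0 ∧ alt a b = 0 ∧ a ≠ 0 ∧ b ≠ 0 ∧
      a ≠ b ∧ alt u b = 1 ∧ alt v a = 1 ∧ ∀ y, t y = tau a b y := by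
  have hx' : t x + x ≠ 0 := fun h => hx (by
    calc t x = t x + x + x := by rw [add_assoc, sp_add_self, add_zero]
      _ = x := by rw [h, zero_add])
  obtain ⟨u, v, a, b, ha, hb, qa, qb, hab, hub, hva, hua, hvb⟩ := split_tau ht hinv hts hx'
  have ha0 : a ≠ 0 := fun h => by rw [h, alt_zero_right] at hva; exact zero_ne_one hva
  have hb0 : b ≠ 0 := fun h => by rw [h, alt_zero_right] at hub; exact zero_ne_one hub
  have hne : a ≠ b := fun h => by rw [h, hub] at hua; exact zero_ne_one hua.symm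
  refine ⟨u, v, a, b, ha, hb, qa, qb, hab, ha0, hb0, hne, hub, hva, fun y => ?_⟩
  obtain ⟨f, k, hf, hfa, hfb⟩ := to_sing_pair qa qb hab ha0 hb0 hne
  have hfi := hf.isom
  have htau : Isom (tau a b) := by
    have hba : alt b a = 0 := by rw [alt_comm, hab]
    refine ⟨fun p q => ?_, fun p => ?_⟩
    · simp only [tau, alt_add_left, add_smul]; abel
    · rw [tau, qd_add, qd_add, qd_smul, qd_smul, qa, qb, mul_zero, mul_zero, add_zero, add_zero,
        alt_comm p, alt_smul_left, alt_add_left, alt_comm p (alt p b • a), alt_smul_left,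
        alt_comm (alt p a • b), alt_smul_left, alt_comm b p, alt_comm a p, alt_comm a (alt p a • b),
        alt_smul_left, hba, mul_zero, mul_zero, add_zero, mul_comm]
      exact (by decide : ∀ x r : ZMod 2, x + r + r = x) _ _
  obtain ⟨hinv2, hts2, -, hu2, hv2⟩ := tau_step ht hinv hts ha hb qa qb hab hub hva hua hvb
  have hs : Isom (fun x => tau a b (t x)) := htau.comp ht
  have hta : t a = a := by rw [ha, fix_range ht hinv]
  have htb : t b = b := by rw [hb, fix_range ht hinv]
  have horth : ∀ p, alt a (tau a b (t p) + p) = 0 ∧ alt b (tau a b (t p) + p) = 0 ∧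
      alt u (tau a b (t p) + p) = 0 ∧ alt v (tau a b (t p) + p) = 0 := by
    intro p
    have h := fun q => selfadj hs hinv2 q p
    have h2 : ∀ q, tau a b (t q) = q → alt q (tau a b (t p) + p) = 0 := fun q hq => by
      rw [← h q]
      show alt (tau a b (t q) + q) p = 0
      rw [hq, sp_add_self, alt_zero_left]
    refine ⟨h2 a ?_, h2 b ?_, h2 u hu2, h2 v hv2⟩
    · rw [hta, tau, alt_self, hab, zero_smul, zero_smul, add_zero, add_zero]
    · rw [htb, tau, alt_comm b a, hab, alt_self, zero_smul, zero_smul, add_zero, add_zero]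
  by_contra hy
  have hy' : tau a b (t y) + y ≠ 0 := fun h => hy (by
    have e : tau a b (t y) = y := by
      calc tau a b (t y) = tau a b (t y) + y + y := by rw [add_assoc, sp_add_self, add_zero]
        _ = y := by rw [h, zero_add]
    rw [← tau_tau hab (t y), e])
  obtain ⟨p, q, r, s, hr, hs', qr, qs, hrs, hps, hqr, hpr, -⟩ := split_tau hs hinv2 hts2 hy'
  have hr' : r = tau a b (t p) + p := hr
  have hs'' : s = tau a b (t q) + q := hs'
  obtain ⟨ar, br, ur, vr⟩ := horth p
  obtain ⟨as, bs, us, vs⟩ := horth q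
  rw [← hr'] at ar br ur vr
  rw [← hs''] at as bs us vs
  have key : ∀ w, alt u w = 0 → alt v w = 0 →
      (w = 0 ∨ w = a ∨ w = b ∨ w = a + b) → w = 0 := by
    rintro w hw1 hw2 (h | h | h | h) <;> subst h
    · rfl
    · exact absurd (hw2.symm.trans hva) zero_ne_one
    · exact absurd (hw1.symm.trans hub) zero_ne_one
    · rw [alt_add_right, hua, hub, zero_add] at hw1
      exact absurd hw1 one_ne_zero
  have back : ∀ w, f w = 0 ∨ f w = sa ∨ f w = sb ∨ f w = sa + sb →
      (w = 0 ∨ w = a ∨ w = b ∨ w = a + b) := by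
    rintro w (h | h | h | h)
    · exact Or.inl (hfi.injective (h.trans hfi.map_zero.symm))
    · exact Or.inr (Or.inl (hfi.injective (h.trans hfa.symm)))
    · exact Or.inr (Or.inr (Or.inl (hfi.injective (h.trans hfb.symm))))
    · exact Or.inr (Or.inr (Or.inr (hfi.injective (by rw [h, hfi.map_add, hfa, hfb]))))
  rcases std_no_two_pairs (f r) (f s) (by rw [← hfa, hfi.map_alt, ar])
      (by rw [← hfb, hfi.map_alt, br]) (by rw [← hfa, hfi.map_alt, as])
      (by rw [← hfb, hfi.map_alt, bs]) (by rw [hfi.map_qd, qr]) (by rw [hfi.map_qd, qs])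
      (by rw [hfi.map_alt, hrs]) with h | h | h
  · rw [key r ur vr (back r h), alt_zero_right] at hqr
    exact zero_ne_one hqr
  · rw [key s us vs (back s h), alt_zero_right] at hps
    exact zero_ne_one hps
  · rw [← hfi.map_add] at h
    have h0 := key (r + s) (by rw [alt_add_right, ur, us, add_zero])
      (by rw [alt_add_right, vr, vs, add_zero]) (back _ h)
    have hrs' : r = s := by
      calc r = r + s + s := by rw [add_assoc, sp_add_self, add_zero]
        _ = s := by rw [h0, zero_add]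
    rw [hrs', hps] at hpr
    exact one_ne_zero hpr

variable {G : Type*} [Group G]

theorem isConj_conj (c t : G) : IsConj t (c * t * c⁻¹) := isConj_iff.2 ⟨c, rfl⟩

theorem conj_invol {c t : G} (h : t * t = 1) : c * t * c⁻¹ * (c * t * c⁻¹) = 1 := by
  rw [show c * t * c⁻¹ * (c * t * c⁻¹) = c * (t * t) * c⁻¹ by group, h, mul_one, mul_inv_cancel]

namespace Setup

variable {z : G} {Q : Subgroup G} {e : ↥Q ≃* ES 4 (ff 4)} (S : Setup z Q e)
include S
variable [Finite G]

/-- Totally singular involutory isometries are induced by `C(z)`. -/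
theorem ts_mem : ∀ (k : ℕ) (t : Sp 4 → Sp 4), Isom t → (∀ v, t (t v) = v) →
    (∀ v, qd (t v + v) = 0) → (Finset.univ.filter fun v => t v ≠ v).card ≤ k →
    ∃ c ∈ centralizer ({z} : Set G), ∀ v, act e c v = t v := by
  intro k
  induction k with
  | zero =>
    intro t _ _ _ h
    refine ⟨1, one_mem _, fun v => ?_⟩
    rw [S.act_one]
    by_contra hne
    have : v ∈ Finset.univ.filter fun v => t v ≠ v := by simp [Ne.symm hne]
    rw [Finset.card_eq_zero.1 (Nat.le_zero.1 h)] at this
    simp at this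
  | succ k ih =>
    intro t ht hinv hts h
    by_cases hall : ∀ v, t v = v
    · exact ⟨1, one_mem _, fun v => by rw [S.act_one, hall]⟩
    obtain ⟨x, hx⟩ := not_forall.1 hall
    have hx' : t x + x ≠ 0 := fun h => hx (by
      calc t x = t x + x + x := by rw [add_assoc, sp_add_self, add_zero]
        _ = x := by rw [h, zero_add])
    obtain ⟨u, v, a, b, ha, hb, qa, qb, hab, hub, hva, hua, hvb⟩ := split_tau ht hinv hts hx'
    obtain ⟨c, hc, hct⟩ := S.evenP.tau4 qa qb hab
    obtain ⟨hinv2, hts2, hfix, hu2, -⟩ := tau_step ht hinv hts ha hb qa qb hab hub hva hua hvb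
    have hi : Isom (tau a b) := by
      have := S.act_isom hc
      rwa [funext hct] at this
    obtain ⟨d, hd, hdt⟩ := ih (fun x => tau a b (t x)) (hi.comp ht) hinv2 hts2 (by
      refine Nat.le_of_lt_succ (lt_of_lt_of_le (Finset.card_lt_card ?_) h)
      refine Finset.ssubset_iff_of_subset (fun y hy => ?_) |>.2 ⟨u, ?_, ?_⟩
      · simp only [Finset.mem_filter, Finset.mem_univ, true_and] at hy ⊢
        exact fun h => hy (hfix y h)
      · simp only [Finset.mem_filter, Finset.mem_univ, true_and]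
        intro h
        rw [h, sp_add_self] at ha
        rw [ha, alt_zero_right] at hva
        exact zero_ne_one hva
      · simp [hu2])
    exact ⟨c * d, mul_mem hc hd, fun w => by rw [S.act_mul hc hd, hdt, hct, tau_tau hab]⟩

theorem act_invol {t : G} (htH : t ∈ centralizer ({z} : Set G)) (ht2 : t * t = 1) (v : Sp 4) :
    act e t (act e t v) = v := by
  rw [← S.act_mul htH htH, ht2, S.act_one]

/-- A singular commutator whose orthogonal has singular commutators. -/
theorem exists_point {t : G} (htH : t ∈ centralizer ({z} : Set G)) (ht2 : t * t = 1)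
    (hne : ¬ ∀ v, act e t v = v) : ∃ w, act e t w + w ≠ 0 ∧ qd (act e t w + w) = 0 ∧
      ∀ v, alt v (act e t w + w) = 0 → qd (act e t v + v) = 0 := by
  set a := act e t with ha
  have hi : Isom a := S.act_isom htH
  have hinv : ∀ v, a (a v) = v := S.act_invol htH ht2
  obtain ⟨u, hu⟩ := exists_rzero hi hinv
  by_cases hr : a u + u = 0
  · obtain ⟨x, hx⟩ := not_forall.1 hne
    have hz : ∀ v, qd (a v + v) = 0 := fun v => by rw [hu v, hr, alt_zero_right]
    refine ⟨x, fun h => hx ?_, hz x, fun v _ => hz v⟩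
    calc a x = a x + x + x := by rw [add_assoc, sp_add_self, add_zero]
      _ = x := by rw [h, zero_add]
  refine ⟨u, hr, ?_, fun v hv => by rw [hu v, hv]⟩
  by_contra hq
  have hq1 : qd (a u + u) = 1 := (z2_cases _).resolve_left hq
  set r := a u + u with hr'
  have har : a r = r := fix_range hi hinv u
  have hcom : ∀ v, refl r (a v) = a (refl r v) := fun v => by
    have := refl_conj hi r v
    rwa [har] at this
  obtain ⟨c, hc, hct⟩ := S.ts_mem (Finset.univ.filter fun v => refl r (a v) ≠ v).card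
    (fun v => refl r (a v)) ((refl_isom hq1).comp hi)
    (fun v => by rw [hcom (refl r (a v)), refl_refl, hinv])
    (fun v => by
      have e1 : alt (a v) r = alt v r := by
        conv_lhs => rw [← har]
        exact hi.map_alt v r
      rw [refl_eq, e1, show a v + alt v r • r + v = (a v + v) + alt v r • r by abel, qd_add,
        qd_smul, hq1, hu v, alt_comm (a v + v), alt_smul_left, alt_comm r, alt_add_left, e1,
        z2_add_self, mul_zero, add_zero, mul_one, z2_add_self]) le_rfl
  obtain ⟨w, hw⟩ := S.norefl (c * t) (mul_mem hc htH) r hq1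
  refine hw ?_
  rw [S.act_mul hc htH, hct]
  show refl r (a (a w)) = refl r w
  rw [hinv]

theorem act_conj {c t : G} (hc : c ∈ centralizer ({z} : Set G))
    (ht : t ∈ centralizer ({z} : Set G)) (v : Sp 4) :
    act e (c * t * c⁻¹) (act e c v) = act e c (act e t v) := by
  rw [← S.act_mul (mul_mem (mul_mem hc ht) (inv_mem hc)) hc, inv_mul_cancel_right, S.act_mul hc ht]

/-- Conjugating a singular commutator to the standard point centralises the four-group. -/
theorem to_CE {t : G} (htH : t ∈ centralizer ({z} : Set G)) (ht2 : t * t = 1) {c : G}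
    (hc : c ∈ centralizer ({z} : Set G)) {w : Sp 4} (hw : act e c (act e t w + w) = e0) :
    CE z e (c * t * c⁻¹) := by
  have hs2 : c * t * c⁻¹ * (c * t * c⁻¹) = 1 := conj_invol ht2
  have hsH : c * t * c⁻¹ ∈ centralizer ({z} : Set G) := mul_mem (mul_mem hc htH) (inv_mem hc)
  have hsi := S.act_invol hsH hs2
  have hw' : act e (c * t * c⁻¹) (act e c w) = act e c w + e0 := by
    rw [← hw, (S.act_isom hc).map_add, S.act_conj hc htH, add_comm (act e c (act e t w)),
      ← add_assoc, sp_add_self, zero_add]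
  generalize act e c w = w' at hw'
  generalize c * t * c⁻¹ = s at hs2 hsH hsi hw'
  obtain ⟨j, hj⟩ := S.conj_el hsH w' 0
  obtain ⟨i, hi⟩ := S.conj_el hsH (w' + e0) j
  rw [← hw', hsi] at hi
  rw [hw'] at hj
  have hsv : s⁻¹ = s := inv_eq_of_mul_eq_one_right hs2
  have hback : s * el e (w' + e0) j * s⁻¹ = el e w' 0 := by
    rw [← hj, hsv, show s * (s * el e w' 0 * s) * s = (s * s) * el e w' 0 * (s * s) by group, hs2,
      one_mul, mul_one]
  obtain ⟨m, hm⟩ : ∃ m, el e (w' + e0) j = el e w' 0 * el e e0 m :=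
    ⟨j + beta (ff 4) w' e0, by
      rw [el_mul, zero_add]; congr 1
      exact (by decide : ∀ j p : ZMod 2, j = j + p + p) _ _⟩
  have hx : s * el e e0 m * s⁻¹ = el e e0 m := by
    have h1 : el e (w' + e0) j * (s * el e e0 m * s⁻¹) = el e w' 0 := by
      calc el e (w' + e0) j * (s * el e e0 m * s⁻¹)
          = s * el e w' 0 * s⁻¹ * (s * el e e0 m * s⁻¹) := by rw [hj]
        _ = s * (el e w' 0 * el e e0 m) * s⁻¹ := by group
        _ = el e w' 0 := by rw [← hm, hback]
    rw [hm] at h1
    have h2 : el e e0 m * (s * el e e0 m * s⁻¹) = 1 :=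
      mul_left_cancel (a := el e w' 0) (by rw [← mul_assoc, h1, mul_one])
    have h3 : el e e0 m * el e e0 m = 1 := by rw [S.el_sq, basic_facts.1, el_zero]
    exact mul_left_cancel (h2.trans h3.symm)
  have hz := mem_centralizer_singleton_iff.1 hsH
  refine ⟨hz, ?_⟩
  rcases z2_cases m with rfl | rfl
  · exact mul_inv_eq_iff_eq_mul.1 hx
  · rw [show (1 : ZMod 2) = 0 + 1 from rfl, S.el_add_one, mul_inv_eq_iff_eq_mul] at hx
    change s * (xe e * z) = xe e * z * s at hx
    rw [← mul_assoc, mul_assoc (xe e) z, ← hz, ← mul_assoc] at hx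
    exact mul_right_cancel hx

end Setup

namespace Tri

variable {z : G} {Q : Subgroup G} {e : ↥Q ≃* ES 4 (ff 4)} {ρ : G} (T : Tri z Q e ρ)
include T
variable [Finite G]

theorem sig_invol {t : G} (hc : CE z e t) (ht2 : t * t = 1) (v : Sp 3) :
    sig e t (sig e t v) = v := by
  rw [← T.sig_mul hc hc, ht2, ← T.nm_one, T.sig_nm]

theorem sig_of_comm {t : G} (hc : CE z e t) (v : Sp 3) :
    act e t (up v) + up v = alt (act e t (up v)) f0 • e0 + up (sig e t v + v) := by
  conv_lhs => rw [T.act_up hc v]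
  rw [add_assoc, up_add]

theorem qd_sig {t : G} (hc : CE z e t) {v : Sp 3} (h : qd (act e t (up v) + up v) = 0) :
    qd (sig e t v + v) = 0 := by
  rw [T.sig_of_comm hc, qd_add, qd_smul, basic_facts.1, mul_zero, zero_add, qd_up, alt_smul_left,
    (beta_e0_up _).2.2.2.2.1, mul_zero, add_zero] at h
  exact h

theorem lev_nm {l : G} (hl : Lev z e ρ l) (i j : ZMod 2) (a b : Sp 3) : ∃ ka kb,
    l * dl e a * l⁻¹ = ep z e ka 0 * dl e (sig e l a) ∧
    l * dl e b * l⁻¹ = ep z e kb 0 * dl e (sig e l b) ∧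
    l * nm z e ρ i j a b * l⁻¹ = nm z e ρ (i + kb) (j + ka) (sig e l a) (sig e l b) := by
  obtain ⟨ka, h1, h2⟩ := T.lev_conj hl a
  obtain ⟨kb, h3, -⟩ := T.lev_conj hl b
  refine ⟨ka, kb, h1, h3, ?_⟩
  calc l * nm z e ρ i j a b * l⁻¹
      = l * ep z e i j * l⁻¹ * ((l * yl e ρ a * l⁻¹) * (l * dl e b * l⁻¹)) := by rw [nm]; group
    _ = ep z e i j * ((ep z e 0 ka * yl e ρ (sig e l a)) * (ep z e kb 0 * dl e (sig e l b))) := by
        rw [h2, h3, mul_inv_eq_iff_eq_mul.2 (T.ce_ep hl.1 i j)]
    _ = _ := by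
        rw [mul_assoc (ep z e 0 ka), T.ce_comm_left (T.yl_ce _), T.ep_mul_left, T.ep_mul_left, nm]
        congr 2 <;> simp

theorem nm_memQ (i j : ZMod 2) (b : Sp 3) : nm z e ρ i j 0 b ∈ Q := by
  rw [nm, T.yl_zero, one_mul]; exact mul_mem (T.ep_memQ _ _) (Setup.el_mem _ _)

theorem lev_rho {l : G} (hl : Lev z e ρ l) (g : G) : ρ * (g * l) * ρ⁻¹ = ρ * g * ρ⁻¹ * l := by
  calc ρ * (g * l) * ρ⁻¹ = ρ * g * (l * ρ⁻¹) := by group
    _ = ρ * g * (ρ⁻¹ * l) := by rw [(Commute.inv_right hl.2).eq]
    _ = _ := by group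

/-- The first slot can be moved into the commutator space of a Siegel involution. -/
theorem first_slot {i j : ZMod 2} {a' b' : Sp 3} {l : G} (hl : Lev z e ρ l) {a b : Sp 3}
    (hqa : qd a = 0) (hqb : qd b = 0) (hab : alt a b = 0) (ha0 : a ≠ 0) (hb0 : b ≠ 0)
    (hne : a ≠ b) (hs : ∀ v, sig e l v = tau a b v) {u v : Sp 3} (hub : alt u b = 1)
    (hva : alt v a = 1) (h2 : nm z e ρ i j a' b' * l * (nm z e ρ i j a' b' * l) = 1) :
    ∃ k m c d, IsConj (nm z e ρ i j a' b' * l) (nm z e ρ k m c d * l) ∧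
      (c = 0 ∨ c = a ∨ c = b ∨ c = a + b) := by
  have hll : l * l = 1 := T.lev_inv_self hl fun v => by rw [hs, hs, tau_tau hab]
  obtain ⟨ka, kb, hka, hkb, hconj⟩ := T.lev_nm hl i j a' b'
  have hprod : nm z e ρ i j a' b' *
      nm z e ρ (i + kb) (j + ka) (sig e l a') (sig e l b') = 1 := by
    rw [← hconj]
    have e1 : l⁻¹ = l := inv_eq_of_mul_eq_one_right hll
    rw [e1]
    calc nm z e ρ i j a' b' * (l * nm z e ρ i j a' b' * l)
        = nm z e ρ i j a' b' * l * (nm z e ρ i j a' b' * l) := by simp only [mul_assoc]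
      _ = 1 := h2
  rw [T.nm_mul] at hprod
  obtain ⟨h1, h2', h3, h4⟩ := T.nm_eq_one hprod
  have cancel : ∀ p q : Sp 3, p + q = 0 → q = p := fun p q h => by
    calc q = p + p + q := by rw [sp_add_self, zero_add]
      _ = p := by rw [add_assoc, h, add_zero]
  have hsa' : sig e l a' = a' := cancel _ _ h3
  have hsb' : sig e l b' = b' := cancel _ _ h4
  rw [hsa'] at h1 h2' hka
  rw [hsb'] at h1 hkb
  have hperp : ∀ w, sig e l w = w → alt w a = 0 ∧ alt w b = 0 := by
    intro w hw
    rw [hs, tau, add_assoc, add_eq_left] at hw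
    rcases z2_cases (alt w a) with p | p <;> rcases z2_cases (alt w b) with q | q <;>
      rw [p, q] at hw <;> simp only [zero_smul, one_smul, zero_add, add_zero] at hw
    · exact ⟨p, q⟩
    · exact absurd hw ha0
    · exact absurd hw hb0
    · exact absurd (cancel _ _ hw).symm (Ne.symm hne)
  obtain ⟨pa, pa'⟩ := hperp _ hsa'
  obtain ⟨pb, pb'⟩ := hperp _ hsb'
  obtain ⟨f, k, hf, hfa, hfb⟩ := to_sing_pair hqa hqb hab ha0 hb0 hne
  have hfi := hf.isom
  have back : ∀ w, f w = 0 ∨ f w = sa ∨ f w = sb ∨ f w = sa + sb →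
      (w = 0 ∨ w = a ∨ w = b ∨ w = a + b) := by
    rintro w (h | h | h | h)
    · exact Or.inl (hfi.injective (h.trans hfi.map_zero.symm))
    · exact Or.inr (Or.inl (hfi.injective (h.trans hfa.symm)))
    · exact Or.inr (Or.inr (Or.inl (hfi.injective (h.trans hfb.symm))))
    · exact Or.inr (Or.inr (Or.inr (hfi.injective (by rw [h, hfi.map_add, hfa, hfb]))))
  have hA : a' = 0 ∨ a' = a ∨ a' = b ∨ a' = a + b ∨ (b' = 0 ∨ b' = a ∨ b' = b ∨ b' = a + b) ∨
      (a' + b' = 0 ∨ a' + b' = a ∨ a' + b' = b ∨ a' + b' = a + b) := by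
    by_contra hcon
    push Not at hcon
    obtain ⟨n1, n2, n3, n4, ⟨n5, n6, n7, n8⟩, n9, n10, n11, n12⟩ := hcon
    obtain ⟨hB, hor⟩ := std_triangle (f a') (f b')
      (by rw [← hfa, hfi.map_alt, alt_comm, pa]) (by rw [← hfb, hfi.map_alt, alt_comm, pa'])
      (by rw [← hfa, hfi.map_alt, alt_comm, pb]) (by rw [← hfb, hfi.map_alt, alt_comm, pb'])
      (fun h => by rcases back _ h with h | h | h | h; exacts [n1 h, n2 h, n3 h, n4 h])
      (fun h => by rcases back _ h with h | h | h | h; exacts [n5 h, n6 h, n7 h, n8 h])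
      (fun h => by
        rw [← hfi.map_add] at h
        rcases back _ h with h | h | h | h
        exacts [n9 h, n10 h, n11 h, n12 h])
    rw [hfi.map_alt] at hB
    rw [hfi.map_qd, hfi.map_qd, ← hfi.map_add, hfi.map_qd, qd_add, hB] at hor
    have hmu : ∀ w k, qd w = 1 → alt w a = 0 → alt w b = 0 →
        l * dl e w * l⁻¹ = ep z e k 0 * dl e w → k = 1 := fun w k hw w1 w2 hk =>
      ((T.ep_inj (mul_right_cancel
        ((T.siegel_mu hl hqa hqb hab ha0 hb0 hne hw w1 w2 hs).symm.trans hk))).1).symm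
    have hk3 : l * dl e (a' + b') * l⁻¹ = ep z e (ka + kb) 0 * dl e (a' + b') := by
      have hd : dl e (a' + b') = ep z e (beta (ff 3) a' b') 0 * (dl e a' * dl e b') := by
        rw [T.dl_mul, T.ep_mul_left, z2_add_self, z2_add_self, T.ep_zero, one_mul]
      rw [hd]
      calc l * (ep z e (beta (ff 3) a' b') 0 * (dl e a' * dl e b')) * l⁻¹
          = ep z e (beta (ff 3) a' b') 0 * ((l * dl e a' * l⁻¹) * (l * dl e b' * l⁻¹)) := by
            rw [T.ce_comm_left hl.1]; group
        _ = _ := by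
            rw [hka, hkb, mul_assoc (ep z e ka 0), T.ce_comm_left (T.dl_ce a'), T.ep_mul_left ka 0,
              T.ep_mul_left, T.ep_mul_left, add_comm (beta (ff 3) a' b')]
            simp only [add_zero]
    have g1 := fun h => hmu a' ka h pa pa' hka
    have g2 := fun h => hmu b' kb h pb pb' hkb
    have g3 := fun h => hmu (a' + b') (ka + kb) h (by rw [alt_add_left, pa, pb, add_zero])
      (by rw [alt_add_left, pa', pb', add_zero]) hk3
    rw [qd_add, hB] at g3
    have e1 : ka + qd a' + 1 = 0 := by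
      rw [alt_comm, hB] at h2'
      exact (by decide : ∀ j k q : ZMod 2, j + (j + k) + 1 + q = 0 → k + q + 1 = 0) _ _ _ h2'
    have e2 : kb + qd b' + 1 = 0 := by
      rw [alt_comm, hB] at h1
      exact (by decide : ∀ j k q : ZMod 2, j + (j + k) + 1 + q = 0 → k + q + 1 = 0) _ _ _ h1
    have hxy : ∀ p x : ZMod 2, p + x + 1 = 0 → x = p + 1 := by decide
    have hx := hxy _ _ e1
    have hy := hxy _ _ e2
    rw [hx, hy] at hor g3
    rw [hx] at g1
    rw [hy] at g2
    rcases z2_cases ka with hk | hk <;> rcases z2_cases kb with hk' | hk' <;>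
      simp [hk, hk', z2_add_self] at hor g1 g2 g3
  have hr1 : IsConj (nm z e ρ i j a' b' * l) (ρ * nm z e ρ i j a' b' * ρ⁻¹ * l) := by
    have := isConj_conj ρ (nm z e ρ i j a' b' * l)
    rwa [T.lev_rho hl] at this
  rw [T.nm_rho] at hr1
  rcases hA with h | h | h | h | h | h
  · exact ⟨i, j, a', b', IsConj.refl _, Or.inl h⟩
  · exact ⟨i, j, a', b', IsConj.refl _, Or.inr (Or.inl h)⟩
  · exact ⟨i, j, a', b', IsConj.refl _, Or.inr (Or.inr (Or.inl h))⟩
  · exact ⟨i, j, a', b', IsConj.refl _, Or.inr (Or.inr (Or.inr h))⟩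
  · have := isConj_conj ρ (nm z e ρ (j + qd a' + alt a' b')
      (i + j + qd a' + alt a' b' + beta (ff 3) a' b') (a' + b') a' * l)
    rw [T.lev_rho hl, T.nm_rho] at this
    refine ⟨_, _, _, _, hr1.trans this, ?_⟩
    rwa [show a' + b' + a' = b' by rw [add_comm a' b', add_assoc, sp_add_self, add_zero]]
  · exact ⟨_, _, _, _, hr1, h⟩

/-- An involution centralising the four-group is conjugate into the radical. -/
theorem to_inU {t : G} (hc : CE z e t) (ht2 : t * t = 1)
    (hts : ∀ v, qd (sig e t v + v) = 0) : ∃ s, IsConj t s ∧ InU z e ρ s := by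
  have S := T.setup
  by_cases hall : ∀ v, sig e t v = v
  · exact ⟨t, IsConj.refl _, T.inU_of_sig hc hall⟩
  obtain ⟨x, hx⟩ := not_forall.1 hall
  obtain ⟨u, v, a, b, ha, hb, qa, qb, hab, ha0, hb0, hne, hub, hva, htau⟩ :=
    ts_three (T.sig_isom hc) (T.sig_invol hc ht2) hts hx
  obtain ⟨l, hl, hls⟩ := T.exists_lev_sig hc
  have hs : ∀ w, sig e l w = tau a b w := fun w => by rw [hls, htau]
  have hU : InU z e ρ (t * l⁻¹) := T.inU_of_sig (hc.mul hl.1.inv) fun w => by
    rw [T.sig_mul hc hl.1.inv, ← hls, ← T.sig_mul hl.1 hl.1.inv, mul_inv_cancel, ← T.nm_one,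
      T.sig_nm]
  obtain ⟨i, j, a', b', hu⟩ := hU
  have htl : t = nm z e ρ i j a' b' * l := by rw [← hu, inv_mul_cancel_right]
  obtain ⟨k, m, c, d, hconj, hcm⟩ :=
    T.first_slot (i := i) (j := j) (a' := a') (b' := b') hl qa qb hab ha0 hb0 hne hs hub hva
      (by rw [← htl]; exact ht2)
  obtain ⟨w, hw⟩ : ∃ w, sig e l w = w + c := by
    have hh : ∀ w w', sig e t w + w = w' → sig e l w = w + w' := fun w w' h => by
      rw [hls, ← h, add_comm (sig e t w) w, ← add_assoc, sp_add_self, zero_add]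
    rcases hcm with rfl | rfl | rfl | rfl
    · exact ⟨0, by rw [(T.sig_isom hl.1).map_zero, add_zero]⟩
    · exact ⟨u, hh _ _ ha.symm⟩
    · exact ⟨v, hh _ _ hb.symm⟩
    · refine ⟨u + v, ?_⟩
      rw [(T.sig_isom hl.1).map_add, hh u _ ha.symm, hh v _ hb.symm, add_add_add_comm]
  obtain ⟨kw, k0, -, -, hlw⟩ := T.lev_nm hl 0 (beta (ff 3) w w) w 0
  rw [(T.sig_isom hl.1).map_zero, hw] at hlw
  have hyi : (yl e ρ w)⁻¹ = nm z e ρ 0 (beta (ff 3) w w) w 0 := by
    refine inv_eq_of_mul_eq_one_right ?_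
    rw [← T.nm_yl, T.nm_mul, sp_add_self, alt_zero_left, beta_zero_left]
    simp only [add_zero, zero_add, z2_add_self]
    exact T.nm_one
  have h2 : yl e ρ w * (nm z e ρ k m c d * l) * (yl e ρ w)⁻¹ =
      nm z e ρ 0 0 w 0 * nm z e ρ k m c d *
        nm z e ρ (0 + k0) (beta (ff 3) w w + kw) (w + c) 0 * l := by
    rw [← hlw, ← hyi, T.nm_yl]; group
  rw [T.nm_mul, T.nm_mul, sp_add_self] at h2
  have hconj2 := hconj.trans (isConj_conj (yl e ρ w) _)
  rw [h2, ← htl] at hconj2
  obtain ⟨g, hg⟩ := isConj_iff.1 hconj2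
  have hs2 : (nm z e ρ _ _ (0 : Sp 3) _ * l) * (nm z e ρ _ _ (0 : Sp 3) _ * l) = 1 :=
    hg ▸ conj_invol ht2
  generalize k + (0 : ZMod 2) = p at hconj2
  set s := nm z e ρ _ _ (0 : Sp 3) _ * l with hsd
  have hsH : s ∈ centralizer ({z} : Set G) := memH ((T.nm_ce _ _ _ _).mul hl.1)
  have hact : ∀ y, act e s y = act e l y := fun y => by
    rw [hsd, S.act_mul (memH (T.nm_ce _ _ _ _)) (memH hl.1), S.act_mem (T.nm_memQ _ _ _)]
  obtain ⟨hlf, hlu⟩ := T.lev_act hl
  have hrange : ∀ y, ∃ r, (r = 0 ∨ r = a ∨ r = b ∨ r = a + b) ∧ act e s y + y = up r := by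
    intro y
    obtain ⟨σ, τ, y', hy, -, -⟩ := decomp y
    refine ⟨sig e l y' + y', ?_, ?_⟩
    · rw [hs, tau]
      have e' : y' + alt y' a • b + alt y' b • a + y' = alt y' a • b + alt y' b • a := by
        calc y' + alt y' a • b + alt y' b • a + y'
            = (y' + y') + (alt y' a • b + alt y' b • a) := by abel
          _ = _ := by rw [sp_add_self, zero_add]
      rw [e']
      rcases z2_cases (alt y' a) with p | p <;> rcases z2_cases (alt y' b) with q | q <;>
        simp [p, q, add_comm b a]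
    · have hi := S.act_isom (memH hl.1)
      rw [hact, hy, hi.map_add, hi.map_add, smul_map hi, smul_map hi, hlf, T.act_e0 hl.1, hlu,
        ← up_add]
      calc σ • e0 + τ • f0 + up (sig e l y') + (σ • e0 + τ • f0 + up y')
          = (σ • e0 + σ • e0) + (τ • f0 + τ • f0) + (up (sig e l y') + up y') := by abel
        _ = _ := by rw [sp_add_self, sp_add_self, zero_add, zero_add]
  have hpa : act e s (up u) + up u = up a := by
    rw [hact, hlu, up_add, hls, ← ha]
  obtain ⟨g', hg', hga⟩ := S.exists_to_e0 (p := up a) (by rw [qd_up, qa])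
    (fun h => ha0 (up_inj (h.trans up_zero.symm)))
  have hCE := S.to_CE hsH hs2 hg' (w := up u) (by rw [hpa, hga])
  obtain ⟨σ, τ, m', hm', hτ, -⟩ := decomp (act e g' (up b))
  have hgi := S.act_isom hg'
  have hτ0 : τ = 0 := by
    rw [← hτ, ← hga, hgi.map_alt, alt_up, alt_comm, hab]
  rw [hτ0, zero_smul, add_zero] at hm'
  have hqm : qd m' = 0 := by
    have := hgi.map_qd (up b)
    rw [hm', qd_up, qb, qd_add, qd_smul, basic_facts.1, mul_zero, zero_add, qd_up, alt_smul_left,
      (beta_e0_up _).2.2.2.2.1, mul_zero, add_zero] at this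
    exact this
  have hrange' : ∀ w', sig e (g' * s * g'⁻¹) w' + w' = 0 ∨
      sig e (g' * s * g'⁻¹) w' + w' = m' := by
    intro w'
    obtain ⟨y, hy⟩ := hgi.surjective (up w')
    obtain ⟨r, hr, hry⟩ := hrange y
    have h := T.sig_of_comm hCE w'
    rw [← hy, S.act_conj hg' hsH, ← hgi.map_add, hry] at h
    generalize alt (act e g' (act e s y)) f0 = ε at h
    have hval : ∃ δ δ' : ZMod 2, act e g' (up r) = δ • e0 + up (δ' • m') := by
      rcases hr with rfl | rfl | rfl | rfl
      · exact ⟨0, 0, by rw [up_zero, hgi.map_zero, zero_smul, zero_smul, up_zero, add_zero]⟩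
      · exact ⟨1, 0, by rw [hga, one_smul, zero_smul, up_zero, add_zero]⟩
      · exact ⟨σ, 1, by rw [hm', one_smul]⟩
      · exact ⟨1 + σ, 1, by rw [← up_add, hgi.map_add, hga, hm', one_smul, add_smul, one_smul,
          add_assoc]⟩
    obtain ⟨δ, δ', hv⟩ := hval
    rw [hv] at h
    have e : δ' • m' = sig e (g' * s * g'⁻¹) w' + w' := by
      funext i
      have := congrFun h i.succ
      simp only [Pi.add_apply, Pi.smul_apply, up, Fin.cons_succ] at this
      fin_cases i <;> simpa [e0] using this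
    rcases z2_cases δ' with rfl | rfl
    · left; rw [← e, zero_smul]
    · right; rw [← e, one_smul]
  have hfix := ts_small (T.sig_isom hCE) (T.sig_invol hCE (conj_invol hs2)) (fun w' => by
    rcases hrange' w' with h | h <;> rw [h]
    · exact qd_zero
    · exact hqm) hrange'
  exact ⟨_, hconj2.trans (isConj_conj g' s), T.inU_of_sig hCE hfix⟩

/-- `C(E)` is transitive on the radical elements lying over a given orbit of pairs. -/
theorem pair_conj {A B a b : Sp 3} (hA : alt A n3 = 0) (hB : alt B n3 = 0)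
    (hcc : ∀ p r : ZMod 2, ∃ c, alt c A = p ∧ alt c B = r)
    (hw : ∃ f k, Word f k ∧ f a = A ∧ f b = B) (i j : ZMod 2) :
    ∃ c, CE z e c ∧ c * nm z e ρ i j a b * c⁻¹ = nm z e ρ 0 0 A B := by
  have hn : qd n3 = 1 := basic_facts.2.2.2.2.2.2.2.2.2.2.2.2.1
  obtain ⟨f, k, hf, hfa, hfb⟩ := hw
  obtain ⟨g, ⟨l, hl, hls⟩, -, hgf⟩ := T.evenL.exists_of_word hn hf
  obtain ⟨ka, kb, -, -, hconj⟩ := T.lev_nm hl i j a b
  rw [hls, hls, hgf a (by rw [hfa, hA]), hgf b (by rw [hfb, hB]), hfa, hfb] at hconj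
  obtain ⟨c, hcA, hcB⟩ := hcc (j + ka) (i + kb + (j + ka))
  have hd : dl e c * nm z e ρ (i + kb) (j + ka) A B * (dl e c)⁻¹ = nm z e ρ 0 0 A B := by
    rw [mul_inv_eq_iff_eq_mul, ← T.nm_dl, T.nm_mul, T.nm_mul]
    simp only [alt_zero_left, beta_zero_left, beta_zero_right, zero_add, add_zero, alt_comm B 0]
    rw [hcA, add_comm c B, ← beta_symm (ff 3) c B] at *
    congr 1
    · revert hcB; generalize alt c B = x; generalize beta (ff 3) c B = y
      generalize beta (ff 3) B c = w
      generalize i + kb = p; generalize j + ka = r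
      revert x y w p r; decide
    · exact z2_add_self _
  refine ⟨dl e c * l, (T.dl_ce c).mul hl.1, ?_⟩
  rw [show dl e c * l * nm z e ρ i j a b * (dl e c * l)⁻¹ =
    dl e c * (l * nm z e ρ i j a b * l⁻¹) * (dl e c)⁻¹ by group, hconj, hd]

/-- Involutions of the radical. -/
theorem classify_inU {i j : ZMod 2} {a b : Sp 3} (h : nm z e ρ i j a b * nm z e ρ i j a b = 1)
    (h1 : nm z e ρ i j a b ≠ 1) : IsConj z (nm z e ρ i j a b) ∨
      IsConj (nm z e ρ 0 0 sa sb) (nm z e ρ i j a b) ∨
      IsConj (nm z e ρ 0 0 ea eb) (nm z e ρ i j a b) := by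
  have S := T.setup
  set t := nm z e ρ i j a b with ht
  have h0 : ∀ {k m : ZMod 2} {d : Sp 3}, IsConj t (nm z e ρ k m 0 d) → IsConj z t := by
    intro k m d hc
    obtain ⟨g, hg⟩ := isConj_iff.1 hc
    have hQ : g * t * g⁻¹ ∈ Q := by
      rw [hg, nm, T.yl_zero, one_mul]; exact mul_mem (T.ep_memQ _ _) (Setup.el_mem _ _)
    exact (S.isConj_z hQ (conj_invol h) (fun e => h1 (by
      calc t = g⁻¹ * (g * t * g⁻¹) * g := by group
        _ = 1 := by rw [e]; group))).trans (isConj_conj g t).symm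
  by_cases ha : a = 0
  · subst ha; exact Or.inl (h0 (IsConj.refl t))
  have r1 : IsConj t (ρ * t * ρ⁻¹) := isConj_conj ρ t
  rw [ht, T.nm_rho] at r1
  by_cases hab : a = b
  · subst hab; rw [sp_add_self] at r1; exact Or.inl (h0 r1)
  by_cases hb : b = 0
  · subst hb
    rw [add_zero] at r1
    have r2 := r1.trans (isConj_conj ρ _)
    rw [T.nm_rho, sp_add_self] at r2
    exact Or.inl (h0 r2)
  have hsq := h
  rw [ht, T.nm_mul] at hsq
  obtain ⟨q1, q2, -, -⟩ := T.nm_eq_one hsq
  have qb : qd b = alt a b :=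
    (by decide : ∀ i p q : ZMod 2, i + i + p + q = 0 → q = p) i _ _ (alt_comm a b ▸ q1)
  have qa : qd a = alt a b :=
    (by decide : ∀ i p q : ZMod 2, i + i + p + q = 0 → q = p) j _ _ (alt_comm a b ▸ q2)
  obtain ⟨-, -, -, -, -, -, -, -, -, -, -, -, hn, n1, n2, n3', n4'⟩ := basic_facts
  have tr : ∀ {A B : Sp 3}, (∃ c, CE z e c ∧ c * t * c⁻¹ = nm z e ρ 0 0 A B) →
      IsConj (nm z e ρ 0 0 A B) t := fun ⟨c, _, hc⟩ => (isConj_iff.2 ⟨c, hc⟩).symm
  rcases z2_cases (alt a b) with hB | hB <;> rw [hB] at qa qb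
  · exact Or.inr (Or.inl (tr (T.pair_conj n1 n2 (by decide +kernel)
      (to_sing_pair qa qb hB ha hb hab) i j)))
  · exact Or.inr (Or.inr (tr (T.pair_conj n3' n4' (by decide +kernel)
      (to_ell_pair qa qb hB) i j)))

end Tri

namespace Setup

variable {z : G} {Q : Subgroup G} {e : ↥Q ≃* ES 4 (ff 4)} (S : Setup z Q e)
include S
variable [Finite G]

/-- Involutions centralising `z` fall into three classes. -/
theorem three_classes {ρ : G} (T : Tri z Q e ρ) {t : G} (htH : t ∈ centralizer ({z} : Set G))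
    (ht2 : t * t = 1) (ht1 : t ≠ 1) : IsConj z t ∨ IsConj (nm z e ρ 0 0 sa sb) t ∨
      IsConj (nm z e ρ 0 0 ea eb) t := by
  by_cases hne : ∀ v, act e t v = v
  · exact Or.inl (S.isConj_z (S.mem_of_act htH hne) ht2 ht1)
  obtain ⟨w, hw0, hwq, hwperp⟩ := S.exists_point htH ht2 hne
  obtain ⟨c, hc, hcw⟩ := S.exists_to_e0 hwq hw0
  have hCE := S.to_CE htH ht2 hc hcw
  obtain ⟨s, hs, i, j, a, b, rfl⟩ := T.to_inU hCE (conj_invol ht2) fun v => by
    refine T.qd_sig hCE ?_
    obtain ⟨y, hy⟩ := (S.act_isom hc).surjective (up v)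
    rw [← hy, S.act_conj hc htH, ← (S.act_isom hc).map_add, (S.act_isom hc).map_qd]
    refine hwperp y ?_
    rw [← (S.act_isom hc).map_alt, hy, hcw, alt_comm, (beta_e0_up v).2.2.2.2.1]
  have hall := (isConj_conj c t).trans hs
  obtain ⟨g, hg⟩ := isConj_iff.1 hall
  rcases T.classify_inU (hg ▸ conj_invol ht2) (fun e => ht1 (by
    rw [e] at hg
    calc t = g⁻¹ * (g * t * g⁻¹) * g := by group
      _ = 1 := by rw [hg]; group)) with h | h | h
  · exact Or.inl (h.trans hall.symm)
  · exact Or.inr (Or.inl (h.trans hall.symm))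
  · exact Or.inr (Or.inr (h.trans hall.symm))

end Setup

end CfsgLib.ClassK.Conway
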