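import Cfsg.Agent.Lib.ClassK.ConwayLevi

/-!
Siegel maps in groups of Conway type: they are products of pairs of reflections, and an involution
of the complement inducing one multiplies the non-singular fixed vectors by `z`.
-/

set_option autoImplicit false

namespace CfsgLib.ClassK.Conway

open Subgroup CfsgLib.Trans3.ExtraTwo
open CfsgLib.PLocal.LargeExtra

variable {n : ℕ}

theorem refl_eq (a v : Sp n) : refl a v = v + alt v a • a := by
  rcases z2_cases (alt v a) with h | h
  · rw [refl_of_alt h, h, zero_smul, add_zero]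
  · rw [refl_of_alt' h, h, one_smul]

theorem alt_smul_left (k : ZMod 2) (v w : Sp n) : alt (k • v) w = k * alt v w := by
  rcases z2_cases k with rfl | rfl
  · rw [zero_smul, alt_zero_left, zero_mul]
  · rw [one_smul, one_mul]

/-- Four orthogonal reflections give a Siegel map. -/
theorem refl_four {a b m : Sp n} (hab : alt a b = 0) (hma : alt m a = 0) (hmb : alt m b = 0)
    (v : Sp n) :
    refl m (refl (m + a) (refl (m + b) (refl (m + a + b) v))) = tau a b v := by
  have ham : alt a m = 0 := by rw [alt_comm, hma]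
  have hbm : alt b m = 0 := by rw [alt_comm, hmb]
  have hba : alt b a = 0 := by rw [alt_comm, hab]
  have step : ∀ (w u u' : Sp n) (c : ZMod 2), alt u' u = 0 → alt (w + c • u') u = alt w u :=
    fun w u u' c h => by rw [alt_add_left, alt_smul_left, h, mul_zero, add_zero]
  have o43 : alt (m + a + b) (m + b) = 0 := by
    simp [alt_add_left, alt_add_right, alt_self, hma, hmb, ham, hbm, hab, hba]
  have o42 : alt (m + a + b) (m + a) = 0 := by
    simp [alt_add_left, alt_add_right, alt_self, hma, hmb, ham, hbm, hab, hba]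
  have o32 : alt (m + b) (m + a) = 0 := by
    simp [alt_add_left, alt_add_right, alt_self, hma, hmb, ham, hbm, hab, hba]
  have o41 : alt (m + a + b) m = 0 := by simp [alt_add_left, alt_self, ham, hbm]
  have o31 : alt (m + b) m = 0 := by simp [alt_add_left, alt_self, hbm]
  have o21 : alt (m + a) m = 0 := by simp [alt_add_left, alt_self, ham]
  rw [refl_eq (m + a + b) v, refl_eq (m + b), step _ _ _ _ o43, refl_eq (m + a), step _ _ _ _ o32,
    step _ _ _ _ o42, refl_eq m, step _ _ _ _ o21, step _ _ _ _ o31, step _ _ _ _ o41, tau]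
  simp only [alt_add_right]
  have key : ∀ x y u w p r t : ZMod 2,
      (p + r + t) * (y + u + w) + (p + t) * (y + w) + (p + r) * (y + u) + p * y + x =
        x + r * w + t * u := by decide
  funext i
  ext <;>
    simp only [Pi.add_apply, Pi.smul_apply, Prod.fst_add, Prod.snd_add, Prod.smul_fst,
      Prod.smul_snd, smul_eq_mul]
  · linear_combination key (v i).1 (m i).1 (a i).1 (b i).1 (alt v m) (alt v a) (alt v b)
  · linear_combination key (v i).2 (m i).2 (a i).2 (b i).2 (alt v m) (alt v a) (alt v b)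

theorem qd_shift {a b m : Sp n} (ha : qd a = 0) (hb : qd b = 0) (hab : alt a b = 0) (hm : qd m = 1)
    (hma : alt m a = 0) (hmb : alt m b = 0) :
    qd (m + a) = 1 ∧ qd (m + b) = 1 ∧ qd (m + a + b) = 1 := by
  refine ⟨?_, ?_, ?_⟩ <;>
    simp only [qd_add, alt_add_left, ha, hb, hm, hma, hmb, hab, add_zero]

theorem tau_zero_left (b v : Sp n) : tau 0 b v = v := by
  simp [tau, alt_zero_right]

/-- Siegel maps belong to every set of maps containing the pairs, in dimension eight. -/
theorem Even.tau4 {P : (Sp 4 → Sp 4) → Prop} (hP : Even P) {a b : Sp 4} (ha : qd a = 0)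
    (hb : qd b = 0) (hab : alt a b = 0) : P (tau a b) := by
  obtain ⟨-, -, -, hn4, -⟩ := basic_facts
  by_cases ha0 : a = 0
  · subst ha0
    rw [show tau (0 : Sp 4) b = id from funext (tau_zero_left b)]
    exact (hP.word hn4 Word.nil).1 rfl
  obtain ⟨f, k, hf, hfa⟩ := to_e0 ha ha0
  have hi := hf.isom
  obtain ⟨r, hr, hre, hrb⟩ := step4_siegel (f b) (by rw [hi.map_qd, hb])
    (by rw [← hfa, hi.map_alt, alt_comm, hab])
  obtain ⟨m, hm⟩ := hi.surjective r
  have hmq : qd m = 1 := by rw [← hi.map_qd, hm, hr]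
  have hma : alt m a = 0 := by rw [← hi.map_alt, hm, hfa, alt_comm, hre]
  have hmb : alt m b = 0 := by rw [← hi.map_alt, hm, alt_comm, hrb]
  obtain ⟨h1, h2, h3⟩ := qd_shift ha hb hab hmq hma hmb
  have := hP.comp _ _ (hP.pair m (m + a) hmq h1) (hP.pair (m + b) (m + a + b) h2 h3)
  have e : ∀ v, ((refl m ∘ refl (m + a)) ∘ (refl (m + b) ∘ refl (m + a + b))) v = tau a b v :=
    fun v => by
      simp only [Function.comp_apply]
      exact refl_four hab hma hmb v
  rwa [funext e] at this

theorem exists_dual {u u' : Sp n} (hu : u ≠ 0) (hne : u ≠ u') :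
    ∃ w, alt w u = 1 ∧ alt w u' = 0 := by
  obtain ⟨w, hw⟩ := alt_nondeg hu
  by_cases h1 : alt w u' = 0
  · exact ⟨w, by rw [alt_comm, hw], h1⟩
  have h1' : alt w u' = 1 := (z2_cases _).resolve_left h1
  by_cases hu' : u' = 0
  · exact absurd (by rw [hu', alt_zero_right]) h1
  obtain ⟨w', hw'⟩ := alt_nondeg (v := u + u') (fun e => hne (by
    calc u = u + u' + u' := by rw [add_assoc, sp_add_self, add_zero]
      _ = u' := by rw [e, zero_add]))
  rw [alt_add_left] at hw'
  rcases z2_cases (alt u w') with h | h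
  · refine ⟨w + w', ?_, ?_⟩
    · rw [alt_add_left, alt_comm w u, hw, alt_comm w' u, h, add_zero]
    · rw [alt_add_left, h1', alt_comm w' u']
      rw [h, zero_add] at hw'
      rw [hw']; exact z2_add_self 1
  · refine ⟨w', by rw [alt_comm, h], ?_⟩
    rw [h] at hw'
    rw [alt_comm]
    exact (by decide : ∀ p : ZMod 2, 1 + p = 1 → p = 0) _ hw'

variable {G : Type*} [Group G]

namespace Tri

variable {z : G} {Q : Subgroup G} {e : ↥Q ≃* ES 4 (ff 4)} {ρ : G} (T : Tri z Q e ρ)
include T
variable [Finite G]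

theorem lev_inv_self {l : G} (hl : Lev z e ρ l) (h : ∀ v, sig e l (sig e l v) = v) : l * l = 1 :=
  T.lev_trivial (hl.mul hl) fun v => by rw [T.sig_mul hl.1 hl.1, h]

/-- An involution of the complement acting as a pair of reflections moves their vectors by `z`. -/
theorem pair_mu {l : G} (hl : Lev z e ρ l) {u u' : Sp 3} (hu : qd u = 1)
    (horth : alt u u' = 0) (hne : u ≠ u') (hs : ∀ v, sig e l v = refl u (refl u' v)) :
    l * dl e u * l⁻¹ = ep z e 1 0 * dl e u := by
  have hu0 : u ≠ 0 := fun e' => by rw [e', qd_zero] at hu; exact zero_ne_one hu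
  obtain ⟨w, hw, hw'⟩ := exists_dual hu0 hne
  have h1 : sig e l w = w + u := by rw [hs, refl_of_alt hw', refl_of_alt' hw]
  have h2 : sig e l (w + u) = w := by
    rw [hs, refl_of_alt (show alt (w + u) u' = 0 by rw [alt_add_left, hw', horth, add_zero]),
      refl_of_alt' (show alt (w + u) u = 1 by rw [alt_add_left, hw, alt_self, add_zero]), add_assoc,
      sp_add_self, add_zero]
  have hc : ∀ v, refl u (refl u' v) = refl u' (refl u v) := fun v => by
    have := refl_conj (refl_isom hu) u' v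
    rw [refl_of_alt (show alt u' u = 0 by rw [alt_comm, horth])] at this
    exact this.symm
  have hll : l * l = 1 := T.lev_inv_self hl fun v => by
    rw [hs, hs, ← hc (refl u' v), refl_refl, refl_refl]
  have hli : l⁻¹ = l := inv_eq_of_mul_eq_one_right hll
  obtain ⟨k, hk, -⟩ := T.lev_conj hl w
  rw [h1] at hk
  have hlk : l * dl e (w + u) * l⁻¹ = ep z e k 0 * dl e w := by
    have hd : dl e (w + u) = ep z e k 0 * (l * dl e w * l⁻¹) := by
      rw [hk, T.ep_mul_left, z2_add_self, z2_add_self, T.ep_zero, one_mul]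
    calc l * dl e (w + u) * l⁻¹ = l * (ep z e k 0 * (l * dl e w * l⁻¹)) * l⁻¹ := by rw [← hd]
      _ = ep z e k 0 * ((l * l) * dl e w * (l⁻¹ * l⁻¹)) := by
          rw [T.ce_comm_left hl.1]; simp only [mul_assoc]
      _ = ep z e k 0 * dl e w := by rw [hli, hll, one_mul, mul_one]
  have hu' : dl e u = ep z e (beta (ff 3) (w + u) w) 0 * (dl e (w + u) * dl e w) := by
    rw [T.dl_mul, T.ep_mul_left, z2_add_self, z2_add_self, T.ep_zero, one_mul,
      show w + u + w = u by rw [add_comm w u, add_assoc, sp_add_self, add_zero]]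
  rw [hu']
  calc l * (ep z e (beta (ff 3) (w + u) w) 0 * (dl e (w + u) * dl e w)) * l⁻¹
      = ep z e (beta (ff 3) (w + u) w) 0 * ((l * dl e (w + u) * l⁻¹) * (l * dl e w * l⁻¹)) := by
        rw [T.ce_comm_left hl.1]; group
    _ = ep z e (beta (ff 3) (w + u) w) 0 * (ep z e k 0 * (dl e w * (ep z e k 0 * dl e (w + u)))) := by
        rw [hlk, hk]; simp only [mul_assoc]
    _ = ep z e (beta (ff 3) (w + u) w) 0 * (dl e w * dl e (w + u)) := by
        rw [T.ce_comm_left (T.dl_ce w), T.ep_mul_left k 0 k 0, z2_add_self, z2_add_self, T.ep_zero,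
          one_mul]
    _ = _ := by
        rw [T.dl_comm w (w + u), T.ep_mul_left, T.ep_mul_left,
          alt_add_right, alt_self, hw, zero_add, add_comm (1 : ZMod 2), add_zero]

theorem fix_mul {l m : G} (hl : CE z e l) {v : Sp 3} {k k' : ZMod 2}
    (h : l * dl e v * l⁻¹ = ep z e k 0 * dl e v) (h' : m * dl e v * m⁻¹ = ep z e k' 0 * dl e v) :
    (l * m) * dl e v * (l * m)⁻¹ = ep z e (k + k') 0 * dl e v := by
  calc (l * m) * dl e v * (l * m)⁻¹ = l * (m * dl e v * m⁻¹) * l⁻¹ := by group
    _ = ep z e k' 0 * (l * dl e v * l⁻¹) := by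
        rw [h', T.ce_comm_left hl]; simp only [mul_assoc]
    _ = _ := by rw [h, T.ep_mul_left, add_comm k', add_zero]

/-- A Siegel involution of the complement multiplies non-singular fixed vectors by `z`. -/
theorem siegel_mu {l : G} (hl : Lev z e ρ l) {a b m : Sp 3} (ha : qd a = 0) (hb : qd b = 0)
    (hab : alt a b = 0) (ha0 : a ≠ 0) (hb0 : b ≠ 0) (hne : a ≠ b) (hm : qd m = 1)
    (hma : alt m a = 0) (hmb : alt m b = 0) (hs : ∀ v, sig e l v = tau a b v) :
    l * dl e m * l⁻¹ = ep z e 1 0 * dl e m := by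
  obtain ⟨q2, q3, q4⟩ := qd_shift ha hb hab hm hma hmb
  have ham : alt a m = 0 := by rw [alt_comm, hma]
  have hbm : alt b m = 0 := by rw [alt_comm, hmb]
  have hba : alt b a = 0 := by rw [alt_comm, hab]
  set u2 := m + a with hu2
  set u3 := m + b with hu3
  set u4 := m + a + b with hu4
  have h12 : alt m u2 = 0 := by simp [hu2, alt_add_right, alt_self, hma]
  have h13 : alt m u3 = 0 := by simp [hu3, alt_add_right, alt_self, hmb]
  have h14 : alt m u4 = 0 := by simp [hu4, alt_add_right, alt_self, hma, hmb]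
  have h23 : alt u2 u3 = 0 := by simp [hu2, hu3, alt_add_left, alt_add_right, alt_self, hmb, ham, hab]
  have h24 : alt u2 u4 = 0 := by
    simp [hu2, hu4, alt_add_left, alt_add_right, alt_self, hma, hmb, ham, hab]
  have h34 : alt u3 u4 = 0 := by
    simp [hu3, hu4, alt_add_left, alt_add_right, alt_self, hma, hmb, hbm, hba]
  have n12 : m ≠ u2 := fun e' => ha0 (add_left_cancel ((add_zero m).trans e')).symm
  have n13 : m ≠ u3 := fun e' => hb0 (add_left_cancel ((add_zero m).trans e')).symm
  have n14 : m ≠ u4 := fun e' => hne (by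
    have h0 : (0 : Sp 3) = a + b :=
      add_left_cancel ((add_zero m).trans (e'.trans (add_assoc m a b)))
    calc a = a + (a + b) := by rw [← h0, add_zero]
      _ = b := by rw [← add_assoc, sp_add_self, zero_add])
  obtain ⟨l12, k12, s12⟩ := T.exists_pair hm q2
  obtain ⟨l34, k34, s34⟩ := T.exists_pair q3 q4
  obtain ⟨l13, k13, s13⟩ := T.exists_pair hm q3
  obtain ⟨l24, k24, s24⟩ := T.exists_pair q2 q4
  obtain ⟨l14, k14, s14⟩ := T.exists_pair hm q4
  obtain ⟨l23, k23, s23⟩ := T.exists_pair q2 q3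
  have hcomm : ∀ u w : Sp 3, alt u w = 0 → qd u = 1 → qd w = 1 → ∀ v,
      refl u (refl w v) = refl w (refl u v) := fun u w h hu hw v => by
    have := refl_conj (refl_isom hu) w v
    rw [refl_of_alt (show alt w u = 0 by rw [alt_comm, h])] at this
    exact this.symm
  have hfix : ∀ {c : G} {u w : Sp 3}, Lev z e ρ c → alt m u = 0 → alt m w = 0 →
      (∀ v, sig e c v = refl u (refl w v)) → ∃ k, c * dl e m * c⁻¹ = ep z e k 0 * dl e m := by
    intro c u w hc hu hw hcs
    obtain ⟨k, hk, -⟩ := T.lev_conj hc m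
    rw [hcs, refl_of_alt hw, refl_of_alt hu] at hk
    exact ⟨k, hk⟩
  have e1 : l = l12 * l34 := T.lev_ext hl (k12.mul k34) fun v => by
    rw [T.sig_mul k12.1 k34.1, s34, s12, hs, refl_four hab hma hmb]
  have e2 : l = l13 * l24 := T.lev_ext hl (k13.mul k24) fun v => by
    rw [T.sig_mul k13.1 k24.1, s24, s13, hs, ← refl_four hab hma hmb, hcomm u2 u3 h23 q2 q3]
  have e3 : l = l14 * l23 := T.lev_ext hl (k14.mul k23) fun v => by
    rw [T.sig_mul k14.1 k23.1, s23, s14, hs, ← refl_four hab hma hmb, hcomm u3 u4 h34 q3 q4,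
      hcomm u2 u4 h24 q2 q4]
  have e4 : l34 = l23 * l24 := T.lev_ext k34 (k23.mul k24) fun v => by
    rw [T.sig_mul k23.1 k24.1, s24, s23, s34, ← hcomm u2 u3 h23 q2 q3 (refl u2 _) |>.symm,
      refl_refl]
  obtain ⟨i, hi⟩ := hfix k34 h13 h14 s34
  obtain ⟨j, hj⟩ := hfix k24 h12 h14 s24
  obtain ⟨r, hr⟩ := hfix k23 h12 h13 s23
  have p12 := T.pair_mu k12 hm h12 n12 s12
  have p13 := T.pair_mu k13 hm h13 n13 s13
  have p14 := T.pair_mu k14 hm h14 n14 s14
  have m1 := T.fix_mul k12.1 p12 hi
  have m2 := T.fix_mul k13.1 p13 hj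
  have m3 := T.fix_mul k14.1 p14 hr
  have m4 := T.fix_mul k23.1 hr hj
  rw [← e1] at m1
  rw [← e2] at m2
  rw [← e3] at m3
  rw [← e4] at m4
  have a1 := (T.ep_inj (mul_right_cancel (m1.symm.trans m2))).1
  have a2 := (T.ep_inj (mul_right_cancel (m1.symm.trans m3))).1
  have a3 := (T.ep_inj (mul_right_cancel (hi.symm.trans m4))).1
  have hz : i = 0 := (by decide : ∀ i j r : ZMod 2, 1 + i = 1 + j → 1 + i = 1 + r → i = r + j →
    i = 0) i j r a1 a2 a3
  rw [hz, add_zero] at m1
  exact m1

end Tri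

end CfsgLib.ClassK.Conway
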