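import Cfsg.Agent.Lib.ClassK.ConwayBase
import Cfsg.Agent.Lib.PLocal.LargeExtraPairCore

/-!
The four-group `E = ⟨z, x⟩`, an element `ρ` of order three permuting its involutions, and the
normal form `z^i x^j y(a) d(b)` on the radical of the pair.
-/

set_option autoImplicit false

namespace CfsgLib.ClassK.Conway

open Subgroup CfsgLib.Trans3.ExtraTwo
open CfsgLib.PLocal.LargeExtra

variable {G : Type*} [Group G]

theorem beta_up (a b : Sp 3) : beta (ff 4) (up a) (up b) = beta (ff 3) a b := by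
  simp [beta, Fin.sum_univ_succ, up, loc]

theorem alt_up (a b : Sp 3) : alt (up a) (up b) = alt a b := by
  simp [alt, Fin.sum_univ_succ, up]

theorem qd_up (a : Sp 3) : qd (up a) = qd a := beta_up a a

theorem up_add (a b : Sp 3) : up a + up b = up (a + b) := by
  funext i; refine Fin.cases ?_ (fun j => ?_) i <;> simp [up]

theorem up_zero : up 0 = 0 := by
  funext i; refine Fin.cases ?_ (fun j => ?_) i <;> simp [up]

theorem up_inj {a b : Sp 3} (h : up a = up b) : a = b := by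
  funext i; simpa [up] using congrFun h i.succ

theorem beta_e0_up (b : Sp 3) : beta (ff 4) e0 (up b) = 0 ∧ beta (ff 4) (up b) e0 = 0 ∧
    beta (ff 4) f0 (up b) = 0 ∧ beta (ff 4) (up b) f0 = 0 ∧ alt e0 (up b) = 0 ∧ alt f0 (up b) = 0 := by
  simp [beta, alt, Fin.sum_univ_succ, up, loc, e0, f0]

theorem decomp (v : Sp 4) : ∃ (s t : ZMod 2) (b : Sp 3),
    v = s • e0 + t • f0 + up b ∧ alt v e0 = t ∧ alt v f0 = s := by
  refine ⟨(v 0).1, (v 0).2, fun i => v i.succ, ?_, ?_, ?_⟩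
  · funext i; refine Fin.cases ?_ (fun j => ?_) i
    · ext <;> simp [e0, f0, up]
    · fin_cases j <;> ext <;> simp [e0, f0, up] <;> rfl
  · simp [alt, Fin.sum_univ_succ, e0]
  · simp [alt, Fin.sum_univ_succ, f0]

theorem refl_up {a : Sp 3} (b : Sp 3) : refl (up a) (up b) = up (refl a b) := by
  rcases z2_cases (alt b a) with h | h
  · rw [refl_of_alt h, refl_of_alt (by rw [alt_up, h])]
  · rw [refl_of_alt' h, refl_of_alt' (by rw [alt_up, h]), up_add]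

theorem refl_up_fix (a : Sp 3) : refl (up a) e0 = e0 ∧ refl (up a) f0 = f0 :=
  ⟨refl_of_alt (beta_e0_up a).2.2.2.2.1, refl_of_alt (beta_e0_up a).2.2.2.2.2⟩

theorem to_sa {a : Sp 3} (ha : qd a = 0) (ha0 : a ≠ 0) : ∃ f k, Word f k ∧ f a = sa := by
  obtain ⟨-, -, -, -, -, -, qa, -⟩ := basic_facts
  refine (move_fix (a := (0 : Sp 3)) (d := 0) ha qa (alt_zero_left _) (alt_zero_left _) ?_).imp
    fun f => fun ⟨k, hw, h, _⟩ => ⟨k, hw, h⟩
  by_cases h1 : a = sa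
  · exact Or.inl h1
  by_cases h2 : alt a sa = 1
  · exact Or.inr (Or.inl h2)
  obtain ⟨r, x, y, z⟩ := step3_sing a ha ha0 h1 (z2_ne_one h2)
  exact Or.inr (Or.inr ⟨r, x, alt_zero_left _, y, z⟩)

/-- The second central involution. -/
def xe {Q : Subgroup G} (e : ↥Q ≃* ES 4 (ff 4)) : G := el e e0 0

/-- The involution exchanging `x` and `xz`. -/
def qe {Q : Subgroup G} (e : ↥Q ≃* ES 4 (ff 4)) : G := el e f0 0

/-- Lift of a vector of the middle space. -/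
def dl {Q : Subgroup G} (e : ↥Q ≃* ES 4 (ff 4)) (b : Sp 3) : G := el e (up b) 0

/-- Power with exponent in `ZMod 2`. -/
def pw (g : G) (i : ZMod 2) : G := if i = 0 then 1 else g

theorem pw_zero (g : G) : pw g 0 = 1 := by simp [pw]

theorem pw_one (g : G) : pw g 1 = g := by simp [pw]

theorem pw_add {g : G} (hg : g * g = 1) (i j : ZMod 2) : pw g (i + j) = pw g i * pw g j := by
  rcases z2_cases i with rfl | rfl <;> rcases z2_cases j with rfl | rfl
  · simp [pw]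
  · simp [pw]
  · simp [pw]
  · rw [z2_add_self, pw_zero, pw_one, hg]

theorem pw_conj (c g : G) (i : ZMod 2) : c * pw g i * c⁻¹ = pw (c * g * c⁻¹) i := by
  rcases z2_cases i with rfl | rfl <;> simp [pw]

theorem pw_comm {c g : G} (h : c * g = g * c) (i : ZMod 2) : c * pw g i = pw g i * c := by
  rcases z2_cases i with rfl | rfl <;> simp [pw, h]

theorem pw_mul {g h : G} (i : ZMod 2) (hc : g * h = h * g) :
    pw (g * h) i = pw g i * pw h i := by
  rcases z2_cases i with rfl | rfl <;> simp [pw]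

/-- Centralisers of the four-group. -/
def CE {Q : Subgroup G} (z : G) (e : ↥Q ≃* ES 4 (ff 4)) (c : G) : Prop :=
  c * z = z * c ∧ c * xe e = xe e * c

/-- The pair with an element of order three. -/
structure Tri (z : G) (Q : Subgroup G) (e : ↥Q ≃* ES 4 (ff 4)) (ρ : G) : Prop where
  setup : Setup z Q e
  pair : Pair Q (Q.map (MulAut.conj ρ).toMonoidHom) z (xe e)
  rho_z : ρ * z * ρ⁻¹ = xe e
  rho_x : ρ * xe e * ρ⁻¹ = xe e * z
  rho3 : ρ * ρ * ρ = 1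
  qrq : qe e * ρ * qe e = ρ⁻¹
  rho_mem : ρ ∈ Q ⊔ Q.map (MulAut.conj ρ).toMonoidHom

namespace Setup

variable {z : G} {Q : Subgroup G} {e : ↥Q ≃* ES 4 (ff 4)} (S : Setup z Q e)
include S
variable [Finite G]

theorem xe_facts : xe e ∈ Q ∧ xe e * xe e = 1 ∧ xe e ≠ 1 ∧ xe e ≠ z ∧ qe e ∈ Q ∧ qe e * qe e = 1 ∧
    qe e * xe e * qe e = xe e * z := by
  obtain ⟨he, hf, hef, -⟩ := basic_facts
  refine ⟨el_mem _ _, by rw [xe, S.el_sq, he, el_zero], fun h => ?_, fun h => ?_, el_mem _ _,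
    by rw [qe, S.el_sq, hf, el_zero], ?_⟩
  · exact absurd (el_inj (e := e) (h.trans el_zero.symm)).1 (by decide)
  · exact absurd (el_inj (e := e) (h.trans S.el_one.symm)).1 (by decide)
  · show el e f0 0 * el e e0 0 * el e f0 0 = el e e0 0 * z
    rw [el_mul, el_mul, ← S.el_add_one, zero_add, zero_add]
    congr 1 <;> decide

theorem exists_tri : ∃ ρ, Tri z Q e ρ := by
  obtain ⟨hxQ, hx2, hx1, hxz, hqQ, hq2, hqx⟩ := S.xe_facts
  obtain ⟨g, hgz, hgx⟩ := S.exists_swap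
  change g * z * g⁻¹ = xe e at hgz
  change g * xe e * g⁻¹ = z at hgx
  have P : Pair Q (Q.map (MulAut.conj g).toMonoidHom) z (xe e) := by
    have := pair_of_conj (g := g) S.pack (by rw [hgz]; exact hxz) (by rw [hgz]; exact hxQ)
    rwa [hgz] at this
  have hzz := S.pack.z_mul_z
  have hxc : xe e * z = z * xe e := P.comm
  set q := qe e with hq
  set q' := g * q * g⁻¹ with hq'
  have hqi : q⁻¹ = q := inv_eq_of_mul_eq_one_right hq2
  have hqz : q * z * q⁻¹ = z := mul_inv_eq_iff_eq_mul.2 (S.pack.comm_z hqQ)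
  have hq'2 : q' * q' = 1 := by
    rw [hq', show g * q * g⁻¹ * (g * q * g⁻¹) = g * (q * q) * g⁻¹ by group, hq2]; group
  have hq'i : q'⁻¹ = q' := inv_eq_of_mul_eq_one_right hq'2
  have hq'x : q' * xe e * q'⁻¹ = xe e := by
    calc q' * xe e * q'⁻¹ = g * (q * (g⁻¹ * xe e * g) * q⁻¹) * g⁻¹ := by rw [hq']; group
      _ = xe e := by rw [show g⁻¹ * xe e * g = z by rw [← hgz]; group, hqz, hgz]
  have hq'z : q' * z * q'⁻¹ = xe e * z := by
    calc q' * z * q'⁻¹ = g * (q * (g⁻¹ * z * g) * q⁻¹) * g⁻¹ := by rw [hq']; group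
      _ = g * (xe e * z) * g⁻¹ := by
        rw [show g⁻¹ * z * g = xe e by rw [← hgx]; group, hqi, hqx]
      _ = g * xe e * g⁻¹ * (g * z * g⁻¹) := by group
      _ = xe e * z := by rw [hgx, hgz, hxc]
  set ρ₀ := q * q' with hρ₀
  have h0z : ρ₀ * z * ρ₀⁻¹ = xe e := by
    calc ρ₀ * z * ρ₀⁻¹ = q * (q' * z * q'⁻¹) * q⁻¹ := by rw [hρ₀]; group
      _ = q * xe e * q⁻¹ * (q * z * q⁻¹) := by rw [hq'z]; group
      _ = xe e := by rw [hqz, hqi, hqx, mul_assoc, hzz, mul_one]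
  have h0x : ρ₀ * xe e * ρ₀⁻¹ = xe e * z := by
    calc ρ₀ * xe e * ρ₀⁻¹ = q * (q' * xe e * q'⁻¹) * q⁻¹ := by rw [hρ₀]; group
      _ = xe e * z := by rw [hq'x, hqi, hqx]
  -- conjugation by powers
  have hpow : ∀ j : ℕ,
      (j % 3 = 0 → ρ₀ ^ j * z * (ρ₀ ^ j)⁻¹ = z ∧ ρ₀ ^ j * xe e * (ρ₀ ^ j)⁻¹ = xe e) ∧
      (j % 3 = 1 → ρ₀ ^ j * z * (ρ₀ ^ j)⁻¹ = xe e ∧ ρ₀ ^ j * xe e * (ρ₀ ^ j)⁻¹ = xe e * z) ∧
      (j % 3 = 2 → ρ₀ ^ j * z * (ρ₀ ^ j)⁻¹ = xe e * z ∧ ρ₀ ^ j * xe e * (ρ₀ ^ j)⁻¹ = z) := by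
    intro j
    induction j with
    | zero => refine ⟨fun _ => by simp, fun h => absurd h (by omega), fun h => absurd h (by omega)⟩
    | succ j ih =>
      have hs : ∀ v, ρ₀ ^ (j + 1) * v * (ρ₀ ^ (j + 1))⁻¹ =
          ρ₀ * (ρ₀ ^ j * v * (ρ₀ ^ j)⁻¹) * ρ₀⁻¹ := fun v => by rw [pow_succ']; group
      have h0xz : ρ₀ * (xe e * z) * ρ₀⁻¹ = z := by
        rw [show ρ₀ * (xe e * z) * ρ₀⁻¹ = ρ₀ * xe e * ρ₀⁻¹ * (ρ₀ * z * ρ₀⁻¹) by group, h0x, h0z,
          mul_assoc, ← hxc, ← mul_assoc, hx2, one_mul]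
      refine ⟨fun h => ?_, fun h => ?_, fun h => ?_⟩
      · obtain ⟨a, b⟩ := ih.2.2 (by omega)
        exact ⟨by rw [hs, a, h0xz], by rw [hs, b, h0z]⟩
      · obtain ⟨a, b⟩ := ih.1 (by omega)
        exact ⟨by rw [hs, a, h0z], by rw [hs, b, h0x]⟩
      · obtain ⟨a, b⟩ := ih.2.1 (by omega)
        exact ⟨by rw [hs, a, h0x], by rw [hs, b, h0xz]⟩
  obtain ⟨a, r, hr, hk⟩ := Nat.exists_eq_pow_mul_and_not_dvd (orderOf_pos ρ₀).ne' 3 (by norm_num)
  obtain ⟨j, hj1, hjd⟩ : ∃ j, j % 3 = 1 ∧ r ∣ j := by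
    rcases (by omega : r % 3 = 1 ∨ r % 3 = 2) with h | h
    · exact ⟨r, h, dvd_rfl⟩
    · exact ⟨r * 2, by omega, dvd_mul_right _ _⟩
  set ρ := ρ₀ ^ j with hρ
  obtain ⟨hρz, hρx⟩ := (hpow j).2.1 hj1
  have hT : Q.map (MulAut.conj g).toMonoidHom = Q.map (MulAut.conj ρ).toMonoidHom :=
    S.pack.map_eq_of_eq (hgz.trans hρz.symm)
  have hρmem : ρ ∈ Q ⊔ Q.map (MulAut.conj g).toMonoidHom :=
    pow_mem (mul_mem (mem_sup_left hqQ) (mem_sup_right
      (show q' ∈ Q.map (MulAut.conj g).toMonoidHom from ⟨q, hqQ, rfl⟩))) _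
  have h3pow : ρ ^ (3 ^ a) = 1 := by
    rw [hρ, ← pow_mul]
    refine orderOf_dvd_iff_pow_eq_one.1 ?_
    rw [hk, mul_comm]
    exact mul_dvd_mul hjd dvd_rfl
  have hcube : ρ ^ 3 ∈ ((Q.map (MulAut.conj g).toMonoidHom) ⊓ centralizer ({z} : Set G)) ⊔
      (Q ⊓ centralizer ({xe e} : Set G)) := by
    rw [P.rad_eq]
    obtain ⟨ha, hb⟩ := (hpow (j * 3)).1 (by omega)
    rw [pow_mul] at ha hb
    exact mem_inf.2 ⟨pow_mem hρmem 3, mem_centralizer_four.2
      ⟨mul_inv_eq_iff_eq_mul.1 ha, mul_inv_eq_iff_eq_mul.1 hb⟩⟩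
  have h3 : ρ * ρ * ρ = 1 := by
    obtain ⟨n, hn⟩ := P.isPGroup_rad ⟨_, hcube⟩
    have hn' : (ρ ^ 3) ^ 2 ^ n = 1 := congrArg Subtype.val hn
    have d1 := orderOf_dvd_of_pow_eq_one hn'
    have d2 : orderOf (ρ ^ 3) ∣ 3 ^ a := orderOf_dvd_of_pow_eq_one (by
      rw [← pow_mul, mul_comm, pow_mul, h3pow, one_pow])
    have := orderOf_eq_one_iff.1 (Nat.eq_one_of_dvd_coprimes
      (Nat.Coprime.pow n a (by norm_num : Nat.Coprime 2 3)) d1 d2)
    rwa [pow_succ, pow_two] at this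
  have hinv : q * ρ * q = ρ⁻¹ := by
    have h1 : q * ρ₀ * q⁻¹ = ρ₀⁻¹ := by
      rw [hρ₀, hqi, mul_inv_rev, hq'i, hqi, ← mul_assoc, hq2, one_mul]
    calc q * ρ * q = q * ρ₀ ^ j * q⁻¹ := by rw [hqi]
      _ = (q * ρ₀ * q⁻¹) ^ j := by rw [conj_pow]
      _ = ρ⁻¹ := by rw [h1, inv_pow]
  exact ⟨ρ, S, hT ▸ P, hρz, hρx, h3, hinv, hT ▸ hρmem⟩

theorem exists_CE {f : Sp 3 → Sp 3} {a b : Sp 3} (ha : qd a = 1) (hb : qd b = 1)
    (hf : ∀ v, f v = refl a (refl b v)) :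
    ∃ c, CE z e c ∧ act e c e0 = e0 ∧ act e c f0 = f0 ∧ ∀ v, act e c (up v) = up (f v) := by
  obtain ⟨c, hc, hca⟩ := S.even (up a) (up b) (by rw [qd_up, ha]) (by rw [qd_up, hb])
  obtain ⟨hxQ, -, -, -, hqQ, hq2, hqx⟩ := S.xe_facts
  have hcz := mem_centralizer_singleton_iff.1 hc
  have h1 : act e c e0 = e0 := by rw [hca, (refl_up_fix b).1, (refl_up_fix a).1]
  have h2 : act e c f0 = f0 := by rw [hca, (refl_up_fix b).2, (refl_up_fix a).2]
  have h3 : ∀ v, act e c (up v) = up (f v) := fun v => by rw [hca, refl_up, refl_up, hf]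
  obtain ⟨j, hj⟩ := S.conj_el hc e0 0
  rw [h1] at hj
  rcases z2_cases j with rfl | rfl
  · exact ⟨c, ⟨hcz, mul_inv_eq_iff_eq_mul.1 hj⟩, h1, h2, h3⟩
  · have hqH : qe e ∈ centralizer ({z} : Set G) := S.mem_H
    have hqc : qe e * c ∈ centralizer ({z} : Set G) := mul_mem hqH hc
    refine ⟨qe e * c, ⟨mem_centralizer_singleton_iff.1 hqc, mul_inv_eq_iff_eq_mul.1 ?_⟩, ?_, ?_,
      fun v => ?_⟩
    · rw [show qe e * c * xe e * (qe e * c)⁻¹ = qe e * (c * el e e0 0 * c⁻¹) * (qe e)⁻¹ by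
        rw [xe]; group, hj, inv_eq_of_mul_eq_one_right hq2,
        show (1 : ZMod 2) = 0 + 1 from rfl, S.el_add_one]
      change qe e * (xe e * z) * qe e = xe e
      rw [← mul_assoc, mul_assoc (qe e * xe e), ← S.pack.comm_z hqQ, ← mul_assoc, hqx, mul_assoc,
        S.pack.z_mul_z, mul_one]
    · rw [S.act_mul hqH hc, h1, S.act_mem hqQ]
    · rw [S.act_mul hqH hc, h2, S.act_mem hqQ]
    · rw [S.act_mul hqH hc, h3, S.act_mem hqQ]

end Setup

namespace Tri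

variable {z : G} {Q : Subgroup G} {e : ↥Q ≃* ES 4 (ff 4)} {ρ : G} (T : Tri z Q e ρ)
include T
variable [Finite G]

theorem ce_conjQ {c g : G} (hc : CE z e c) (hg : g ∈ Q) : c * g * c⁻¹ ∈ Q :=
  T.setup.conj_mem (mem_centralizer_singleton_iff.2 hc.1) hg

theorem ce_conjT {c g : G} (hc : CE z e c) (hg : g ∈ Q.map (MulAut.conj ρ).toMonoidHom) :
    c * g * c⁻¹ ∈ Q.map (MulAut.conj ρ).toMonoidHom :=
  T.pair.conj_mem_right hc.2 hg

theorem four_mem : z ∈ Q.map (MulAut.conj ρ).toMonoidHom ∧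
    xe e ∈ Q.map (MulAut.conj ρ).toMonoidHom :=
  ⟨T.pair.zmem, T.pair.right.mem⟩

/-- The intersection of the two extraspecial subgroups is the four-group. -/
theorem eq_zero_of_mem {b : Sp 3} {k : ZMod 2}
    (h : el e (up b) k ∈ Q.map (MulAut.conj ρ).toMonoidHom) : b = 0 := by
  set R := Q.map (MulAut.conj ρ).toMonoidHom with hR
  have S := T.setup
  have hsing : ∀ b : Sp 3, ∀ k, el e (up b) k ∈ R → qd b = 0 := by
    intro b k hm
    by_contra hne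
    have hsq : el e (up b) k * el e (up b) k = z := by
      rw [S.el_sq, qd_up, (z2_cases (qd b)).resolve_left hne, S.el_one]
    rcases T.pair.right.sq_cases hm with h' | h'
    · exact S.pack.z_ne (hsq.symm.trans h')
    · exact T.pair.ne ((hsq.symm.trans h').symm)
  have hev : Even (fun f : Sp 3 → Sp 3 =>
      ∀ b k, el e (up b) k ∈ R → ∃ k', el e (up (f b)) k' ∈ R) := by
    refine ⟨fun f g hf hg b k hm => ?_, fun u v hu hv b k hm => ?_⟩
    · obtain ⟨k', hk'⟩ := hg b k hm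
      exact hf _ k' hk'
    · obtain ⟨c, hc, -, -, hca⟩ :=
        S.exists_CE (f := fun w => refl u (refl v w)) hu hv fun _ => rfl
      obtain ⟨k', hk'⟩ := S.conj_el (mem_centralizer_singleton_iff.2 hc.1) (up b) k
      refine ⟨k', ?_⟩
      rw [hca] at hk'
      show el e (up (refl u (refl v b))) k' ∈ R
      rw [← hk']
      exact T.ce_conjT hc hm
  by_contra hb
  obtain ⟨-, -, -, -, -, -, hsa, -, -, -, -, -, hn, hsn, -⟩ := basic_facts
  obtain ⟨f, l, hf, hfb⟩ := to_sa (hsing b k h) hb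
  obtain ⟨g, hg, -, hgb⟩ := hev.exists_of_word hn hf
  obtain ⟨k₁, h₁⟩ := hg b k h
  rw [hgb b (by rw [hfb, hsn]), hfb] at h₁
  have hq2 : qd (![(0, 1), 0, 0] : Sp 3) = 0 := by decide
  obtain ⟨f', l', hf', hfb'⟩ := to_sa hq2 (by decide)
  obtain ⟨g', hg', hgi, hgb'⟩ := hev.exists_of_word hn hf'
  -- pull back the standard vector along the finite-order map `g'`
  have hiter : ∀ m : ℕ, ∃ k', el e (up (g'^[m] sa)) k' ∈ R := by
    intro m
    induction m with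
    | zero => exact ⟨k₁, h₁⟩
    | succ m ih =>
      obtain ⟨k', hk'⟩ := ih
      rw [Function.iterate_succ_apply']
      exact hg' _ k' hk'
  obtain ⟨m, hm, hper⟩ : ∃ m, 0 < m ∧ g'^[m] = id := by
    let σ : Equiv.Perm (Sp 3) := Equiv.ofBijective g' ⟨hgi.injective, hgi.surjective⟩
    refine ⟨orderOf σ, orderOf_pos σ, ?_⟩
    have h1 : ⇑(σ ^ orderOf σ) = g'^[orderOf σ] := by
      rw [Equiv.Perm.coe_pow]; rfl
    rw [← h1, pow_orderOf_eq_one]; rfl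
  obtain ⟨k₂, h₂⟩ := hiter (m - 1)
  have hpre : g'^[m - 1] sa = ![(0, 1), 0, 0] := by
    have h1 : g' (g'^[m - 1] sa) = sa := by
      rw [← Function.iterate_succ_apply' g', show (m - 1).succ = m by omega, hper]; rfl
    apply hgi.injective
    rw [h1, hgb' _ (by rw [hfb', hsn]), hfb']
  rw [hpre] at h₂
  have h3 := mul_mem h₁ h₂
  rw [Setup.el_mul, up_add] at h3
  have := hsing _ _ h3
  revert this
  decide

end Tri

end CfsgLib.ClassK.Conway
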