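import Cfsg.Agent.Lib.ClassK.ConwayMain

/-!
The coordinates of `ConwayBase` without the fusion hypothesis, for the weakly closed case.
-/

set_option autoImplicit false
set_option maxRecDepth 4000
set_option linter.unusedSectionVars false

namespace CfsgLib.ClassK.Conway

open Subgroup Matrix CfsgLib.Trans3.ExtraTwo CfsgLib.Classical
open CfsgLib.PLocal.LargeExtra

variable {G : Type*} [Group G]

/-- The set-up without fusion. -/
structure Frame (z : G) (Q : Subgroup G) (e : ↥Q ≃* ES 4 (ff 4)) : Prop where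
  pack : Pack Q z
  even : ∀ a b, qd a = 1 → qd b = 1 →
    ∃ c ∈ centralizer ({z} : Set G), ∀ v, act e c v = refl a (refl b v)
  norefl : ∀ c ∈ centralizer ({z} : Set G), ∀ a, qd a = 1 → ∃ v, act e c v ≠ refl a v

namespace Frame

variable {z : G} {Q : Subgroup G} {e : ↥Q ≃* ES 4 (ff 4)} (S : Frame z Q e)

include S

variable [Finite G]

theorem el_one : el e 0 1 = z := by
  have hm : (⟨0, 1⟩ : ES 4 (ff 4)) ∈ center (ES 4 (ff 4)) := (mem_center_iff _ _).2 rfl
  have hc : (e.symm ⟨0, 1⟩ : ↥Q) ∈ center ↥Q := Subgroup.mem_center_iff.2 fun b => e.injective (by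
    rw [map_mul, map_mul, e.apply_symm_apply]
    exact Subgroup.mem_center_iff.1 hm (e b))
  refine (S.pack.of_center hc).resolve_left fun h => ?_
  have := Setup.el_inj (e := e) (h.trans Setup.el_zero.symm)
  exact one_ne_zero this.2

theorem el_add_one (v : Sp 4) (c : ZMod 2) : el e v (c + 1) = el e v c * z := by
  rw [← S.el_one, Setup.el_mul, add_zero, beta_zero_right, add_zero]

theorem el_sq (v : Sp 4) (c : ZMod 2) : el e v c * el e v c = el e 0 (qd v) := by
  rw [Setup.el_mul, sp_add_self, z2_add_self, zero_add]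

theorem el_comm (v w : Sp 4) (c d : ZMod 2) :
    el e v c * el e w d = el e 0 (alt v w) * (el e w d * el e v c) := by
  rw [Setup.el_mul, Setup.el_mul, Setup.el_mul, zero_add, beta_zero_left, add_zero, add_comm w v, ← beta_symm (ff 4) v w]
  congr 1
  generalize beta (ff 4) v w = p; generalize beta (ff 4) w v = r
  revert c d p r; decide

theorem mem_H {v : Sp 4} {c : ZMod 2} : el e v c ∈ centralizer ({z} : Set G) :=
  S.pack.mem_centralizer_z (Setup.el_mem v c)

theorem zH : z ∈ centralizer ({z} : Set G) := mem_centralizer_singleton_iff.2 rfl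

theorem conj_mem {c g : G} (hc : c ∈ centralizer ({z} : Set G)) (hg : g ∈ Q) : c * g * c⁻¹ ∈ Q :=
  (mem_normalizer_iff.1 (S.pack.norm hc) g).1 hg

theorem conj_el {c : G} (hc : c ∈ centralizer ({z} : Set G)) (v : Sp 4) (k : ZMod 2) :
    ∃ k', c * el e v k * c⁻¹ = el e (act e c v) k' := by
  obtain ⟨w, j, hw⟩ := Setup.exists_el (e := e) (S.conj_mem hc (Setup.el_mem (e := e) v 0))
  have hact : act e c v = w := by rw [act, hw, Setup.pi_el]
  rcases z2_cases k with rfl | rfl
  · exact ⟨j, by rw [hact, hw]⟩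
  · refine ⟨j + 1, ?_⟩
    have hcz : c * z * c⁻¹ = z :=
      mul_inv_eq_iff_eq_mul.2 (mem_centralizer_singleton_iff.1 hc)
    rw [hact, S.el_add_one, ← hw, show (1 : ZMod 2) = 0 + 1 from rfl, S.el_add_one]
    conv_rhs => rw [← hcz]
    group

theorem act_eq {c : G} (hc : c ∈ centralizer ({z} : Set G)) {v w : Sp 4} {k k' : ZMod 2}
    (h : c * el e v k * c⁻¹ = el e w k') : act e c v = w := by
  obtain ⟨j, hj⟩ := S.conj_el hc v k
  exact (Setup.el_inj (e := e) (hj.symm.trans h)).1

theorem act_mul {c d : G} (hc : c ∈ centralizer ({z} : Set G))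
    (hd : d ∈ centralizer ({z} : Set G)) (v : Sp 4) :
    act e (c * d) v = act e c (act e d v) := by
  obtain ⟨j, hj⟩ := S.conj_el hd v 0
  obtain ⟨k, hk⟩ := S.conj_el hc (act e d v) j
  refine S.act_eq (mul_mem hc hd) (k := 0) (k' := k) ?_
  rw [← hk, ← hj]; group

theorem act_mem {q : G} (hq : q ∈ Q) (v : Sp 4) : act e q v = v := by
  obtain ⟨w, c, rfl⟩ := Setup.exists_el (e := e) hq
  refine S.act_eq S.mem_H (k := 0) (k' := 0 + alt w v) ?_
  rw [mul_inv_eq_iff_eq_mul, S.el_comm, ← mul_assoc]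
  congr 1
  rw [Setup.el_mul, beta_zero_left, zero_add, add_zero, add_comm 0]

theorem act_one (v : Sp 4) : act e (1 : G) v = v := S.act_mem (one_mem _) v

theorem act_isom {c : G} (hc : c ∈ centralizer ({z} : Set G)) : Isom (act e c) where
  map_add u v := by
    obtain ⟨i, hi⟩ := S.conj_el hc u 0
    obtain ⟨j, hj⟩ := S.conj_el hc v 0
    refine S.act_eq hc (k := 0 + 0 + beta (ff 4) u v)
      (k' := i + j + beta (ff 4) (act e c u) (act e c v)) ?_
    rw [← Setup.el_mul, show c * (el e u 0 * el e v 0) * c⁻¹ =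
      c * el e u 0 * c⁻¹ * (c * el e v 0 * c⁻¹) by group, hi, hj, Setup.el_mul]
  map_qd v := by
    obtain ⟨i, hi⟩ := S.conj_el hc v 0
    have h := S.el_sq (act e c v) i
    rw [← hi, show c * el e v 0 * c⁻¹ * (c * el e v 0 * c⁻¹) =
      c * (el e v 0 * el e v 0) * c⁻¹ by group, S.el_sq] at h
    rcases z2_cases (qd v) with e1 | e1 <;> rw [e1] at h ⊢
    · rw [Setup.el_zero, mul_one, mul_inv_cancel, ← Setup.el_zero] at h
      exact (Setup.el_inj h).2.symm
    · rw [S.el_one, mul_inv_eq_iff_eq_mul.2 (mem_centralizer_singleton_iff.1 hc), ← S.el_one] at h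
      exact (Setup.el_inj h).2.symm

theorem mem_of_act {c : G} (hc : c ∈ centralizer ({z} : Set G)) (h : ∀ v, act e c v = v) :
    c ∈ Q := by
  let φ : ↥Q ≃* ↥Q :=
    { toFun := fun g => ⟨c * g * c⁻¹, S.conj_mem hc g.2⟩
      invFun := fun g => ⟨c⁻¹ * g * c, by
        have := S.conj_mem (inv_mem hc) g.2
        rwa [inv_inv] at this⟩
      left_inv := fun g => Subtype.ext (by group)
      right_inv := fun g => Subtype.ext (by group)
      map_mul' := fun a b => Subtype.ext (by simp only [Subgroup.coe_mul]; group) }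
  have hφ : ∀ g : ↥Q, φ g * g⁻¹ ∈ center ↥Q := fun g => by
    obtain ⟨v, k, hg⟩ := Setup.exists_el (e := e) g.2
    obtain ⟨j, hj⟩ := S.conj_el hc v k
    rw [h] at hj
    have hv : ((φ g * g⁻¹ : ↥Q) : G) = el e v j * (el e v k)⁻¹ := by
      rw [Subgroup.coe_mul, InvMemClass.coe_inv, ← hj, ← hg]
      rfl
    have hz : ((φ g * g⁻¹ : ↥Q) : G) = 1 ∨ ((φ g * g⁻¹ : ↥Q) : G) = z := by
      rcases z2_cases j with rfl | rfl <;> rcases z2_cases k with rfl | rfl
      · left; rw [hv, mul_inv_cancel]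
      · right
        rw [hv, show (1 : ZMod 2) = 0 + 1 from rfl, S.el_add_one, _root_.mul_inv_rev, S.pack.z_inv,
          ← mul_assoc, S.pack.comm_z (Setup.el_mem _ _), mul_assoc, mul_inv_cancel, mul_one]
      · right
        rw [hv, show (1 : ZMod 2) = 0 + 1 from rfl, S.el_add_one, mul_inv_eq_iff_eq_mul]
        exact S.pack.comm_z (Setup.el_mem _ _)
      · left; rw [hv, mul_inv_cancel]
    generalize φ g * g⁻¹ = u at hz
    exact Subgroup.mem_center_iff.2 fun b => Subtype.ext (by
      show (b : G) * (u : G) = (u : G) * b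
      rcases hz with e' | e' <;> rw [e']
      · simp
      · exact S.pack.comm_z b.2)
  obtain ⟨g, hg⟩ := Trans3.exists_conj_of_trivial_mod_center S.pack.ext φ hφ
  have : (g : G)⁻¹ * c ∈ centralizer (Q : Set G) := mem_centralizer_iff.2 fun a ha => by
    have e1 : c * a * c⁻¹ = g * a * (g : G)⁻¹ := congrArg Subtype.val (hg ⟨a, ha⟩)
    calc a * ((g : G)⁻¹ * c) = (g : G)⁻¹ * (g * a * (g : G)⁻¹) * c := by group
      _ = (g : G)⁻¹ * c * a := by rw [← e1]; group
  simpa using mul_mem g.2 (S.pack.cent this)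

/-- The maps induced by `C(z)` form a set closed under composition with the pairs. -/
theorem evenP : Even (fun f : Sp 4 → Sp 4 =>
    ∃ c ∈ centralizer ({z} : Set G), ∀ v, act e c v = f v) where
  comp := fun f g ⟨c, hc, hf⟩ ⟨d, hd, hg⟩ => ⟨c * d, mul_mem hc hd, fun v => by
    rw [S.act_mul hc hd, hg, hf]; rfl⟩
  pair := fun a b ha hb => S.even a b ha hb

end Frame

section Build

local notation "L₈" => coordPlus 4
local notation "O₈" => Cfsg.isometryGroup (ZMod 2) (Cfsg.quadFormPlus 4 (ZMod 2))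

variable [Finite G] {z : G}

/-- The hypotheses give the set-up. -/
theorem exists_frame {QG : Subgroup G} (hpack : Pack QG z)
    (hQC : QG ≤ centralizer ({z} : Set G)) [(QG.subgroupOf (centralizer ({z} : Set G))).Normal]
    (hcard : Nat.card QG = 2 ^ 9)
    (hidx : (QG.subgroupOf (centralizer ({z} : Set G))).index = 174182400)
    :
    ∃ e : ↥QG ≃* ES 4 (ff 4), Frame z QG e := by
  rcases iso_model hpack.ext 3 hcard with e | e <;> obtain ⟨e⟩ := e
  swap
  · exfalso
    have h := card_model_range hpack hQC e (coordMinus 3) _ (quad_minus 3)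
    rw [hidx] at h
    have hd := Subgroup.card_subgroup_dvd_card
      ((psi (tMinus 3) (coordMinus 3) _ (quad_minus 3)).comp (modelHom hpack e)).range
    rw [h, card_O8minus] at hd
    norm_num at hd
  refine ⟨e, ?_⟩
  set Φ := (psi (fun _ : Fin 4 => false) (coordPlus 4) _ (quad_plus 4)).comp (modelHom hpack e) with hΦ
  set R := Φ.range with hR
  have hRi : R.index = 2 := by
    have h := card_model_range hpack hQC e (coordPlus 4) _ (quad_plus 4)
    rw [hidx] at h
    have h2 := Subgroup.card_mul_index R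
    rw [h, card_O8plus] at h2
    omega
  have hact : ∀ c : centralizer ({z} : Set G), ActsAs (Φ c : ↥O₈) (act e (c : G)) := by
    intro c w
    show mat (fun _ : Fin 4 => false) (coordPlus 4) (modelHom hpack e c) *ᵥ L₈ w = _
    rw [mat_mulVec, LinearEquiv.symm_apply_apply, vLin_apply, modelHom_apply]
    congr 1
    have hm : (c : G) * el e w 0 * (c : G)⁻¹ ∈ QG :=
      (mem_normalizer_iff.1 (hpack.norm c.2) _).1 (Setup.el_mem w 0)
    rw [act, pi, dif_pos hm]
    rfl
  refine ⟨hpack, fun a b ha hb => ?_, fun c hc a ha => ?_⟩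
  · obtain ⟨r, hr⟩ := exists_refl_elem ha
    obtain ⟨s, hs⟩ := exists_refl_elem hb
    have hrs : r * s ∈ R := (mul_mem_iff_of_index_two hRi).2
      ⟨fun h => absurd h (index_two_refl hRi ha hr), fun h => absurd h (index_two_refl hRi hb hs)⟩
    obtain ⟨c, hc⟩ := hrs
    refine ⟨c, c.2, fun v => (coordPlus 4).injective ?_⟩
    rw [← hact c v, hc]
    exact (hr.mul hs) v
  · by_contra hcon
    push Not at hcon
    exact index_two_refl hRi ha (r := Φ ⟨c, hc⟩)
      (fun v => by rw [hact ⟨c, hc⟩ v, hcon v]) ⟨_, rfl⟩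

end Build

end CfsgLib.ClassK.Conway
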