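import Cfsg.Agent.Lib.ClassK.ConwayWCTau

/-!
The weakly closed case does not occur: the pencil spanned by two pure pairs contains a Siegel
map whose orbit under `Q` joins a conjugate of `z` to a non-conjugate.
-/

set_option autoImplicit false
set_option maxRecDepth 4000
set_option linter.unusedSectionVars false
set_option linter.style.haveILetI false

namespace CfsgLib.ClassK.Conway.WC

open Subgroup CfsgLib.Trans3.ExtraTwo CfsgLib.ClassK.Conway CfsgLib.PLocal.LargeExtra

variable {G : Type*} [Group G] [Finite G] {z : G} {Q : Subgroup G} {e : ↥Q ≃* ES 4 (ff 4)}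

/-- Sixteen fixed vectors, all of them commutators, and conversely. -/
def Full (t : Sp 4 → Sp 4) : Prop :=
  Nat.card {v : Sp 4 // t v = v} = 16 ∧ (∀ v, t v = v ↔ ∃ u, t u + u = v)

theorem card_fix {t : Sp 4 → Sp 4} (ht : Isom t) :
    Nat.card {v : Sp 4 // t v = v} = Nat.card ↥(dHom ht).ker :=
  Nat.card_congr (Equiv.subtypeEquivRight fun _ => (mem_ker ht).symm)

theorem tau_shift (a b v : Sp 4) : tau a (b + a) v = tau a b v := by
  rcases z2_cases (alt v a) with h | h <;> rcases z2_cases (alt v b) with h' | h' <;>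
    simp [tau, alt_add_right, h, h', add_assoc, sp_add_self, (by decide : (1 : ZMod 2) + 1 = 0)]

theorem add_swap {v w : Sp 4} {t : Sp 4} (h : t + v = w) : t = v + w := by
  rw [← h, add_comm t, ← add_assoc, sp_add_self, zero_add]

namespace Hyp

variable (H : Hyp z Q e)
include H

theorem full {x : G} (hx : Pure z x) : Full (act e x) := by
  obtain ⟨h1, h2⟩ := H.pure_full hx
  refine ⟨(card_fix (H.pure_tsinv hx).isom).trans h1, fun v => ?_⟩
  rw [← mem_ker (H.pure_tsinv hx).isom, ← h2]
  rfl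

theorem full_perp {x : G} (hx : Pure z x) {v w : Sp 4} (hv : act e x v = v) (hw : act e x w = w) :
    alt v w = 0 := by
  obtain ⟨u, rfl⟩ := ((H.full hx).2 w).1 hw
  exact fix_perp (H.pure_tsinv hx).isom hv u

theorem full_qd {x : G} (hx : Pure z x) {v : Sp 4} (hv : act e x v = v) : qd v = 0 := by
  obtain ⟨u, rfl⟩ := ((H.full hx).2 v).1 hv
  exact (H.pure_tsinv hx).ts u

/-- A non-fixed direction of a full involution. -/
theorem exists_partner {x : G} (hx : Pure z x) {d : Sp 4} (hd : d ≠ 0) (hdf : act e x d = d) :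
    ∃ b, alt d b = 1 ∧ act e x b + b ≠ 0 := by
  obtain ⟨b, hb⟩ := alt_nondeg hd
  refine ⟨b, hb, fun h => ?_⟩
  rw [H.full_perp hx hdf (add_eq_zero_iff'.1 h)] at hb
  exact zero_ne_one hb

section Pair

variable {g : G} (hx : Pure z (g * z * g⁻¹))
include hx

theorem dv_range {d : Sp 4} (hd : Dv e g d) : ∃ u, act e (g * z * g⁻¹) u + u = d :=
  ((H.full hx).2 d).1 (H.dv_fix hx hd)

theorem dv_all {d0 : Sp 4} (hd0 : Dv e g d0) (h0 : d0 ≠ 0) {a : Sp 4}
    (ha : act e (g * z * g⁻¹) a = a) : Dv e g a := by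
  set x := g * z * g⁻¹ with hxdef
  have T := H.pure_tsinv hx
  have trans : ∀ b d, Dv e g d → alt d b = 1 → Dv e g (act e x b + b) := by
    intro b d hd hdb
    have hdf := H.dv_fix hx hd
    by_cases hb0 : act e x b + b = 0
    · rw [hb0]; exact H.dv_zero hx
    obtain ⟨u, hu, hbu⟩ : ∃ u, act e x u = u ∧ qd (b + u) = 0 := by
      rcases z2_cases (qd b) with h | h
      · exact ⟨0, T.isom.map_zero, by rw [add_zero, h]⟩
      · obtain ⟨u, hu, hub⟩ : ∃ u, act e x u = u ∧ alt u b = 1 := by
          by_contra hcon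
          push Not at hcon
          obtain ⟨w, hw⟩ := mem_range T.isom T.inv (h := b) fun v hv =>
            (z2_cases _).resolve_right (hcon v hv)
          exact hb0 (by rw [((H.full hx).2 b).2 ⟨w, hw⟩, sp_add_self])
        exact ⟨u, hu, by rw [qd_add, h, H.full_qd hx hu, alt_comm, hub]; decide⟩
    set b' := b + u with hb'
    set a' := act e x b + b with ha'
    have hba : act e x b' + b' = a' := by
      rw [ha', hb', T.isom.map_add, hu]
      rw [show act e x b + u + (b + u) = act e x b + b + (u + u) by abel, sp_add_self, add_zero]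
    have hab : alt a' b' = 0 := by
      rw [alt_comm, ← hba, ← qd_range T.isom, T.ts]
    have hdb' : alt d b' = 1 := by
      rw [hb', alt_add_right, hdb, H.full_perp hx hdf hu, add_zero]
    have hxa : act e x a' = a' := by rw [ha']; exact fix_range T.isom T.inv b
    have hxb : act e x b' = b' + a' := add_swap hba
    have hqa : qd a' = 0 := by rw [ha']; exact T.ts b
    have htau := H.dv_tau hx hqa hbu hab (fun v => by
      rw [← tau_conj T.isom a' b', hxa, hxb, tau_shift]) hd
    have hda : alt d a' = 0 := H.full_perp hx hdf hxa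
    have := H.dv_add hx htau hd
    rwa [tau, hda, hdb', zero_smul, one_smul, add_zero,
      show d + a' + d = d + d + a' by abel, sp_add_self, zero_add] at this
  obtain ⟨b₁, hb₁, -⟩ := H.exists_partner hx h0 (H.dv_fix hx hd0)
  have h1 := trans b₁ d0 hd0 hb₁
  obtain ⟨b, rfl⟩ := ((H.full hx).2 a).1 ha
  rcases z2_cases (alt d0 b) with h | h
  · have h2 := trans (b + b₁) d0 hd0 (by rw [alt_add_right, h, hb₁, zero_add])
    rw [T.isom.map_add, show act e x b + act e x b₁ + (b + b₁) =
      act e x b + b + (act e x b₁ + b₁) by abel] at h2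
    have := H.dv_add hx h2 h1
    rwa [add_assoc, sp_add_self, add_zero] at this
  · exact trans b d0 hd0 h

/-- Two vectors of the meet are not orthogonal as seen by the form of the involution. -/
theorem dv_form {v₁ v₂ : Sp 4} (h1 : Dv e g (act e (g * z * g⁻¹) v₁ + v₁))
    (h2 : Dv e g (act e (g * z * g⁻¹) v₂ + v₂))
    (n1 : act e (g * z * g⁻¹) v₁ + v₁ ≠ 0) (n2 : act e (g * z * g⁻¹) v₂ + v₂ ≠ 0)
    (n3 : act e (g * z * g⁻¹) v₁ + v₁ ≠ act e (g * z * g⁻¹) v₂ + v₂) :
    alt v₁ (act e (g * z * g⁻¹) v₂ + v₂) = 1 := by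
  have S := H.frame
  obtain ⟨x, hxdef⟩ : ∃ x, x = g * z * g⁻¹ := ⟨_, rfl⟩
  rw [← hxdef] at h1 h2 n1 n2 n3 hx ⊢
  have hm := H.pure_mem hx
  have hx2 := H.conj_sq hx.1
  have T := H.pure_tsinv hx
  have hxQc : x ∈ Qc Q g := mem_Qc.2 (by simpa [hxdef, mul_assoc] using S.pack.mem)
  have hx' : Pure z (g * z * g⁻¹) := hxdef ▸ hx
  -- a vector of the meet is the commutator times `z`
  have key : ∀ v k, Dv e g (act e x v + v) → act e x v + v ≠ 0 →
      el e v 0 * x * (el e v 0)⁻¹ * x = el e (act e x v + v) k →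
      el e (act e x v + v) k * z ∈ Qc Q g := by
    rintro v k ⟨l, hl⟩ hne hk
    by_cases hlk : l = k
    · exfalso
      rw [hlk, ← hk] at hl
      have h := mul_mem hl hxQc
      rw [mul_assoc, hx2, mul_one] at h
      have h' := H.eq_of_mem_Qc h (isConj_conj_left _ hx.1)
      rw [← hxdef] at h'
      have hk' := hk
      rw [h', hx2, ← Setup.el_zero (e := e)] at hk'
      exact hne (Setup.el_inj (e := e) hk').1.symm
    · rwa [← S.el_add_one,
        ← (by decide : ∀ l k : ZMod 2, ¬ l = k → l = k + 1) l k hlk]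
  obtain ⟨k1, hk1⟩ := comm_el S hm hx2 v₁
  obtain ⟨k2, hk2⟩ := comm_el S hm hx2 v₂
  have n12 : act e x (v₁ + v₂) + (v₁ + v₂) = act e x v₁ + v₁ + (act e x v₂ + v₂) := by
    rw [T.isom.map_add]; abel
  obtain ⟨k3, hk3⟩ := comm_el S hm hx2 (v₁ + v₂)
  refine (z2_cases _).resolve_left fun h0 => ?_
  set c1 := el e (act e x v₁ + v₁) k1 with hc1
  set c2 := el e (act e x v₂ + v₂) k2 with hc2
  have hswap : el e v₁ 0 * c2 * (el e v₁ 0)⁻¹ = c2 := by
    rw [hc2, el_swap S h0, mul_inv_cancel_right]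
  have h3 : el e (act e x (v₁ + v₂) + (v₁ + v₂)) k3 = c2 * c1 := by
    rw [← hk3, ← el_comm_eq S (v₁ + v₂) (0 + 0 + beta (ff 4) v₁ v₂) hm, ← Setup.el_mul]
    rw [show el e v₁ 0 * el e v₂ 0 * x * (el e v₁ 0 * el e v₂ 0)⁻¹ * x =
      el e v₁ 0 * (el e v₂ 0 * x * (el e v₂ 0)⁻¹ * x) * (el e v₁ 0)⁻¹ *
        (el e v₁ 0 * x⁻¹ * (el e v₁ 0)⁻¹ * x) by group, inv_eq_of_mul_eq_one_right hx2, hk2, hk1,
      hswap]
  have d1 := key v₁ k1 h1 n1 hk1
  have d2 := key v₂ k2 h2 n2 hk2
  have d3 := key (v₁ + v₂) k3 (by rw [n12]; exact H.dv_add hx' h1 h2)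
    (by rw [n12]; exact fun h => n3 (add_eq_zero_iff'.1 h)) hk3
  rw [h3] at d3
  have d12 := mul_mem d2 d1
  rw [show c2 * z * (c1 * z) = c2 * (z * c1) * z by group, ← S.pack.comm_z (Setup.el_mem _ _),
    show c2 * (c1 * z) * z = c2 * c1 * (z * z) by group, S.pack.z_mul_z, mul_one] at d12
  refine H.z_notMem_Qc hx' ?_
  have := mul_mem (inv_mem d12) d3
  rwa [← mul_assoc, inv_mul_cancel, one_mul] at this

/-- The meet is trivial. -/
theorem dv_bot {d : Sp 4} (hd : Dv e g d) : d = 0 := by
  classical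
  by_contra h0
  set x := g * z * g⁻¹ with hxdef
  have hall : ∀ u, Dv e g (act e x u + u) := fun u =>
    H.dv_all hx hd h0 (((H.full hx).2 _).2 ⟨u, rfl⟩)
  have hcard := (H.full hx).1
  have pick : ∀ s : Finset (Sp 4), s.card < 16 → ∃ u, act e x u + u ∉ s := by
    intro s hs
    by_contra hcon
    push Not at hcon
    have := Nat.card_le_card_of_injective (fun v : {v // act e x v = v} => (⟨v.1, by
      obtain ⟨u, hu⟩ := ((H.full hx).2 v.1).1 v.2
      rw [← hu]; exact hcon u⟩ : ↥s)) fun a b h =>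
        Subtype.ext (congrArg (fun w : ↥s => (w : Sp 4)) h)
    rw [hcard, Nat.card_eq_finsetCard] at this
    omega
  obtain ⟨u1, h1⟩ := pick {0} (by simp)
  obtain ⟨u2, h2⟩ := pick {0, act e x u1 + u1} (lt_of_le_of_lt Finset.card_le_two (by norm_num))
  obtain ⟨u3, h3⟩ := pick {0, act e x u1 + u1, act e x u2 + u2,
    act e x u1 + u1 + (act e x u2 + u2)} (lt_of_le_of_lt Finset.card_le_four (by norm_num))
  simp only [Finset.mem_insert, Finset.mem_singleton, not_or] at h1 h2 h3
  have T := H.pure_tsinv hx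
  have n23 : act e x (u2 + u3) + (u2 + u3) = act e x u2 + u2 + (act e x u3 + u3) := by
    rw [T.isom.map_add]; abel
  have e2 := H.dv_form hx (hall u1) (hall u2) h1 h2.1 (Ne.symm h2.2)
  have e3 := H.dv_form hx (hall u1) (hall u3) h1 h3.1 (Ne.symm h3.2.1)
  have e23 := H.dv_form hx (hall u1) (hall (u2 + u3)) h1
    (by rw [n23]; exact fun h => h3.2.2.1 (add_eq_zero_iff'.1 h).symm)
    (by
      rw [n23]
      intro h
      refine h3.2.2.2 ?_
      rw [h, show act e x u2 + u2 + (act e x u3 + u3) + (act e x u2 + u2) =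
        act e x u2 + u2 + (act e x u2 + u2) + (act e x u3 + u3) by abel, sp_add_self, zero_add])
  rw [n23, alt_add_right, e2, e3] at e23
  exact absurd e23 (by decide)

theorem meet_bot {a : G} (ha : a ∈ Q) (ha' : a ∈ Qc Q g) : a = 1 := by
  obtain ⟨v, k, rfl⟩ := Setup.exists_el (e := e) ha
  have h := H.dv_bot hx ⟨k, ha'⟩
  subst h
  rw [H.el_eq_of_dv hx ha' (l := 0) (by rw [Setup.el_zero]; exact one_mem _), Setup.el_zero]

/-- Elements of `Qc` commuting with `z` commute with the centraliser of `x` in `Q`. -/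
theorem commute_fix {a : G} (ha : a ∈ Qc Q g) (haz : a ∈ centralizer ({z} : Set G)) {v : Sp 4}
    (hv : act e (g * z * g⁻¹) v = v) (k : ZMod 2) : a * el e v k = el e v k * a := by
  have hn := (H.frame.pack.map g).norm (mem_centralizer_singleton_iff.2 (H.el_commute hx hv k))
  have h := H.meet_bot hx (a := a * el e v k * a⁻¹ * (el e v k)⁻¹)
    (mul_mem (H.frame.conj_mem haz (Setup.el_mem v k)) (inv_mem (Setup.el_mem v k)))
    (by
      rw [mul_assoc, mul_assoc, ← mul_assoc (el e v k)]
      exact mul_mem ha ((mem_normalizer_iff.1 hn a⁻¹).1 (inv_mem ha)))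
  exact mul_inv_eq_iff_eq_mul.1 (mul_inv_eq_one.1 h)

theorem fix_of_fix {a : G} (ha : a ∈ Qc Q g) (haz : a ∈ centralizer ({z} : Set G)) {v : Sp 4}
    (hv : act e (g * z * g⁻¹) v = v) : act e a v = v :=
  H.frame.act_eq haz (k := 0) (k' := 0) (mul_inv_eq_iff_eq_mul.2 (H.commute_fix hx ha haz hv 0))

theorem split {a : G} (ha : a ∈ Qc Q g) (haz : a ∈ centralizer ({z} : Set G)) :
    a * a = 1 ∧ (a = 1 ∨ a = g * z * g⁻¹ ∨ Full (act e a) ∨ Full (act e (a * (g * z * g⁻¹)))) := by
  have S := H.frame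
  have hx' := H.pure_symm hx
  obtain ⟨v, k, hk⟩ := Setup.exists_el (e := e) (mem_Qc.1 ha)
  have hav : g * el e v k * g⁻¹ = a := by rw [← hk]; group
  have hfix : act e (g⁻¹ * z * g) v = v := by
    refine S.act_eq (H.pure_mem hx') (k := k) (k' := k) ?_
    rw [mul_inv_eq_iff_eq_mul, ← hk, show g⁻¹ * z * g * (g⁻¹ * a * g) = g⁻¹ * (z * a) * g by group,
      ← mem_centralizer_singleton_iff.1 haz]
    group
  refine ⟨?_, ?_⟩
  · rw [← hav, show g * el e v k * g⁻¹ * (g * el e v k * g⁻¹) = g * (el e v k * el e v k) * g⁻¹ by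
      group, S.el_sq, H.full_qd hx' hfix, Setup.el_zero]
    group
  by_cases hv0 : v = 0
  · subst hv0
    rcases z2_cases k with rfl | rfl
    · exact Or.inl (by rw [← hav, Setup.el_zero]; group)
    · exact Or.inr (Or.inl (by rw [← hav, S.el_one]))
  obtain ⟨u, hu⟩ := ((H.full hx').2 v).1 hfix
  obtain ⟨k₀, j, hj, hjQ, hjz, hjc, hj1, hjx, -, -⟩ :=
    H.exists_J (g := g) (H.pure_mem hx') ((H.pure_tsinv hx').ts u) (by rw [hu]; exact hv0)
  rw [hu] at hj
  have hjC : j ∈ centralizer ({z} : Set G) := mem_centralizer_singleton_iff.2 hjz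
  have hfull : Full (act e j) := by
    have h := H.full (H.pure_of_prod hjQ hjz hjc hj1 hjx)
    rwa [show act e (j * z) = act e j from funext fun w => by
      rw [S.act_mul hjC S.zH, S.act_mem S.pack.mem]] at h
  by_cases hkk : k = k₀
  · exact Or.inr (Or.inr (Or.inl (by rwa [← hav, hkk, ← hj])))
  · refine Or.inr (Or.inr (Or.inr ?_))
    rw [← hav, (by decide : ∀ l k : ZMod 2, ¬ l = k → l = k + 1) k k₀ hkk, S.el_add_one,
      show g * (el e v k₀ * z) * g⁻¹ * (g * z * g⁻¹) = g * el e v k₀ * (z * z) * g⁻¹ by group,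
      S.pack.z_mul_z, mul_one, ← hj]
    exact hfull

/-- The product with `x` of the element attached to a pair is degenerate. -/
theorem not_full_prod {j : G} (hjQ : j ∈ Qc Q g) (hjz : j * z = z * j) (hjc : IsConj z (j * z))
    (hj1 : j ≠ 1) (hjx : j ≠ g * z * g⁻¹) : ¬ Full (act e (j * (g * z * g⁻¹))) := by
  classical
  intro hjfull'
  have S := H.frame
  haveI : Fintype G := Fintype.ofFinite G
  have hxm := H.pure_mem hx
  have hjC : j ∈ centralizer ({z} : Set G) := mem_centralizer_singleton_iff.2 hjz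
  have hjfull : Full (act e j) := by
    have h := H.full (H.pure_of_prod hjQ hjz hjc hj1 hjx)
    rwa [show act e (j * z) = act e j from funext fun w => by
      rw [S.act_mul hjC S.zH, S.act_mem S.pack.mem]] at h
  let P : Subgroup G := Qc Q g ⊓ centralizer ({z} : Set G)
  have hxP : g * z * g⁻¹ ∈ P := ⟨mem_Qc.2 (by simpa [mul_assoc] using S.pack.mem), hxm⟩
  have hP32 : Nat.card ↥P = 32 := by
    rw [H.cent_card hx, (H.pure_full (H.pure_symm hx)).1]
  set x := g * z * g⁻¹ with hxdef
  have hU : Nat.card {v // act e x v = v} = 16 := (H.full hx).1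
  let U : Finset (Sp 4) := Finset.univ.filter fun v => act e x v = v
  have hUc : U.card = 16 := by
    rw [← hU, Nat.card_eq_fintype_card, Fintype.card_subtype]
  let W : Finset (Sp 4) := Finset.univ.filter fun v => act e x v ≠ v
  have hWc : W.card = 240 := by
    have h := Finset.card_filter_add_card_filter_not (s := (Finset.univ : Finset (Sp 4)))
      (fun v => act e x v = v)
    have h256 : (Finset.univ : Finset (Sp 4)).card = 256 := by
      rw [Finset.card_univ, ← Nat.card_eq_fintype_card, card_space]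
    simp only [U] at hUc
    simp only [W]
    simp only [ne_eq] at h ⊢
    omega
  let A : Finset G := Finset.univ.filter fun a => a ∈ P ∧ a ≠ 1
  -- each outside vector is fixed by three non-identity elements
  have hthree : ∀ v ∈ W, 3 ≤ (A.filter fun a => act e a v = v).card := by
    intro v hv
    have hvU : act e x v ≠ v := (Finset.mem_filter.1 hv).2
    let ψ : ↥P →* Multiplicative (Sp 4) :=
      { toFun := fun a => Multiplicative.ofAdd (act e (a : G) v + v)
        map_one' := by simp [S.act_one, sp_add_self]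
        map_mul' := fun a b => by
          rw [← ofAdd_add]
          congr 1
          rw [Subgroup.coe_mul, S.act_mul a.2.2 b.2.2]
          obtain ⟨r, hr⟩ : ∃ r, r = act e (b : G) v + v := ⟨_, rfl⟩
          have hrf : act e (a : G) r = r := by
            refine H.fix_of_fix hx a.2.1 a.2.2 ?_
            have hbI := S.act_isom b.2.2
            obtain ⟨u, hu⟩ := mem_range (H.pure_tsinv hx).isom (H.pure_tsinv hx).inv (h := r)
              fun w hw => hr ▸ fix_perp hbI (H.fix_of_fix hx b.2.1 b.2.2 hw) v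
            rw [← hu]; exact fix_range (H.pure_tsinv hx).isom (H.pure_tsinv hx).inv u
          rw [add_swap hr.symm, (S.act_isom a.2.2).map_add, hrf]
          rw [show act e (a : G) v + v + (v + r + v) = act e (a : G) v + r + v + (v + v) by abel,
            sp_add_self, add_zero] }
    have hψ : ∀ a : ↥P, ψ a = Multiplicative.ofAdd (act e (a : G) v + v) := fun _ => rfl
    let Sv : Finset (Sp 4) := U.filter fun r => alt v r = 0
    have hSv : Sv.card ≤ 8 := by
      obtain ⟨r0, hr0, hr0v⟩ : ∃ r, act e x r = r ∧ alt v r = 1 := by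
        by_contra hcon
        push Not at hcon
        obtain ⟨u, hu⟩ := mem_range (H.pure_tsinv hx).isom (H.pure_tsinv hx).inv (h := v)
          fun w hw => (z2_cases _).resolve_right fun h => hcon w hw (by rw [alt_comm]; exact h)
        exact hvU (by rw [← hu]; exact fix_range (H.pure_tsinv hx).isom (H.pure_tsinv hx).inv u)
      have hd : Disjoint Sv (Sv.image (· + r0)) := by
        rw [Finset.disjoint_left]
        intro r hr hr'
        obtain ⟨s, hs, rfl⟩ := Finset.mem_image.1 hr'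
        have h1 := (Finset.mem_filter.1 hr).2
        have h2 := (Finset.mem_filter.1 hs).2
        rw [alt_add_right, h2, hr0v, zero_add] at h1
        exact one_ne_zero h1
      have hsub : Sv ∪ Sv.image (· + r0) ⊆ U := by
        intro r hr
        rcases Finset.mem_union.1 hr with h | h
        · exact (Finset.mem_filter.1 h).1
        · obtain ⟨s, hs, rfl⟩ := Finset.mem_image.1 h
          have h2 := (Finset.mem_filter.1 (Finset.mem_filter.1 hs).1).2
          exact Finset.mem_filter.2 ⟨Finset.mem_univ _, by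
            rw [(H.pure_tsinv hx).isom.map_add, h2, hr0]⟩
      have h := Finset.card_le_card hsub
      rw [Finset.card_union_of_disjoint hd, Finset.card_image_of_injective _
        (add_left_injective r0), hUc] at h
      omega
    have hrange : Nat.card ↥ψ.range ≤ 8 := by
      have hm : ∀ r : ↥ψ.range, Multiplicative.toAdd (r : Multiplicative (Sp 4)) ∈ Sv := by
        rintro ⟨_, a, rfl⟩
        obtain ⟨u, hu⟩ := mem_range (H.pure_tsinv hx).isom (H.pure_tsinv hx).inv
          (h := act e (a : G) v + v)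
          fun w hw => fix_perp (S.act_isom a.2.2) (H.fix_of_fix hx a.2.1 a.2.2 hw) v
        refine Finset.mem_filter.2 ⟨Finset.mem_filter.2 ⟨Finset.mem_univ _, ?_⟩, ?_⟩
        · show act e x (act e (a : G) v + v) = act e (a : G) v + v
          rw [← hu]; exact fix_range (H.pure_tsinv hx).isom (H.pure_tsinv hx).inv u
        · show alt v (act e (a : G) v + v) = 0
          rw [← qd_range (S.act_isom a.2.2), ← hu, (H.pure_tsinv hx).ts]
      refine le_trans (Nat.card_le_card_of_injective (fun r => (⟨_, hm r⟩ : ↥Sv)) fun r s h => ?_)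
        (by rw [Nat.card_eq_finsetCard]; exact hSv)
      exact Subtype.ext (Multiplicative.toAdd.injective (congrArg (fun w : ↥Sv => (w : Sp 4)) h))
    have hker : 4 ≤ Nat.card ↥ψ.ker := by
      have h1 := Subgroup.card_mul_index ψ.ker
      rw [Subgroup.index_ker, hP32] at h1
      nlinarith
    have hm : ∀ a : ↥ψ.ker, ((a : ↥P) : G) ∈ insert 1 (A.filter fun b => act e b v = v) := by
      intro a
      by_cases h1 : ((a : ↥P) : G) = 1
      · rw [h1]; exact Finset.mem_insert_self _ _
      refine Finset.mem_insert_of_mem (Finset.mem_filter.2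
        ⟨Finset.mem_filter.2 ⟨Finset.mem_univ _, (a : ↥P).2, h1⟩, ?_⟩)
      have h := MonoidHom.mem_ker.1 a.2
      rw [hψ, ofAdd_eq_one] at h
      exact add_eq_zero_iff'.1 h
    have h := Nat.card_le_card_of_injective (fun a : ↥ψ.ker =>
      (⟨_, hm a⟩ : ↥(insert 1 (A.filter fun b => act e b v = v)))) fun a b h =>
        Subtype.ext (Subtype.ext (congrArg (fun w : ↥(insert 1 (A.filter fun b => act e b v = v)) =>
          (w : G)) h))
    rw [Nat.card_eq_finsetCard] at h
    have := Finset.card_insert_le (1 : G) (A.filter fun b => act e b v = v)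
    omega
  -- the elements with more fixed vectors
  let B : Finset G := A.filter fun a => ¬ Full (act e a)
  have hsum : 720 ≤ ∑ a ∈ A, (W.filter fun v => act e a v = v).card := by
    have h1 : ∑ a ∈ A, (W.filter fun v => act e a v = v).card =
        ∑ v ∈ W, (A.filter fun a => act e a v = v).card := by
      simp only [Finset.card_filter]
      exact Finset.sum_comm
    rw [h1]
    calc 720 = ∑ v ∈ W, 3 := by rw [Finset.sum_const, hWc, smul_eq_mul]
      _ ≤ _ := Finset.sum_le_sum hthree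
  have hbound : ∀ a ∈ A, (W.filter fun v => act e a v = v).card ≤ if a ∈ B then 48 else 0 := by
    intro a ha
    obtain ⟨haP, ha1⟩ := (Finset.mem_filter.1 ha).2
    have hI := S.act_isom haP.2
    let F : Finset (Sp 4) := Finset.univ.filter fun v => act e a v = v
    have hUF : U ⊆ F := fun v hv => Finset.mem_filter.2
      ⟨Finset.mem_univ _, H.fix_of_fix hx haP.1 haP.2 (Finset.mem_filter.1 hv).2⟩
    have hFW : (W.filter fun v => act e a v = v) = F \ U := by
      ext v
      simp only [W, F, U, Finset.mem_filter, Finset.mem_sdiff, Finset.mem_univ, true_and]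
      exact and_comm
    rw [hFW, Finset.card_sdiff_of_subset hUF, hUc]
    have hFc : F.card = Nat.card {v // act e a v = v} := by
      rw [Nat.card_eq_fintype_card, Fintype.card_subtype]
    by_cases hB : a ∈ B
    · rw [if_pos hB]
      have hnf := (Finset.mem_filter.1 hB).2
      have hinv : ∀ v, act e a (act e a v) = v := fun v => by
        rw [← S.act_mul haP.2 haP.2, (H.split hx haP.1 haP.2).1, S.act_one]
      have T : TSInv (act e a) := ⟨hI, hinv, fun v => by
        obtain ⟨u, hu⟩ := mem_range (H.pure_tsinv hx).isom (H.pure_tsinv hx).inv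
          (h := act e a v + v) fun w hw => fix_perp hI (H.fix_of_fix hx haP.1 haP.2 hw) v
        rw [← hu, (H.pure_tsinv hx).ts]⟩
      have hne : ∃ u, act e a u + u ≠ 0 := by
        by_contra hcon
        push Not at hcon
        exact ha1 (H.meet_bot hx (S.mem_of_act haP.2 fun v => add_eq_zero_iff'.1 (hcon v)) haP.1)
      rcases T.tau_or_full hne with h | ⟨h1, h2⟩
      · obtain ⟨_, _, -, -, -, -, -, -, -, -, -, -, h64⟩ := h.facts T.isom
        rw [hFc, card_fix T.isom, h64]
      · exact absurd ⟨(card_fix T.isom).trans h1, fun v => by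
          rw [← mem_ker T.isom, ← h2]; rfl⟩ hnf
    · rw [if_neg hB]
      have hf : Full (act e a) := by
        by_contra hcon
        exact hB (Finset.mem_filter.2 ⟨ha, hcon⟩)
      rw [hFc, hf.1]
  have hBA : B ⊆ A := Finset.filter_subset _ _
  have h48 : ∑ a ∈ A, (W.filter fun v => act e a v = v).card ≤ 48 * B.card := by
    refine (Finset.sum_le_sum hbound).trans (le_of_eq ?_)
    rw [← Finset.sum_filter, Finset.sum_const, smul_eq_mul, mul_comm,
      Finset.filter_mem_eq_inter, Finset.inter_eq_right.2 hBA]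
  -- but they are too few
  have hBnx : ∀ a ∈ B, a ∈ P ∧ a ≠ 1 ∧ a ≠ x ∧ a ≠ j ∧ a ≠ j * x ∧ Full (act e (a * x)) := by
    intro a ha
    obtain ⟨haP, ha1⟩ := (Finset.mem_filter.1 (hBA ha)).2
    have hnf := (Finset.mem_filter.1 ha).2
    have hax : a ≠ x := fun h => hnf (h ▸ H.full hx)
    exact ⟨haP, ha1, hax, fun h => hnf (h ▸ hjfull), fun h => hnf (h ▸ hjfull'),
      (((H.split hx haP.1 haP.2).2.resolve_left ha1).resolve_left hax).resolve_left hnf⟩
  have hx2 : x * x = 1 := H.conj_sq hx.1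
  have hx1 : x ≠ 1 := fun e' => S.pack.z_ne (conj_eq_one_iff.1 e')
  let Pf : Finset G := Finset.univ.filter fun a => a ∈ P
  have hPf : Pf.card = 32 := by
    rw [← hP32, Nat.card_eq_fintype_card]
    exact (Fintype.card_subtype _).symm
  have hd : Disjoint B (B.image (· * x)) := by
    rw [Finset.disjoint_left]
    intro a ha ha'
    obtain ⟨b, hb, rfl⟩ := Finset.mem_image.1 ha'
    exact (Finset.mem_filter.1 ha).2 (hBnx b hb).2.2.2.2.2
  have hsub : B ∪ B.image (· * x) ⊆ Pf \ {1, x, j, j * x} := by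
    intro a ha
    simp only [Pf, Finset.mem_sdiff, Finset.mem_filter, Finset.mem_univ, true_and,
      Finset.mem_insert, Finset.mem_singleton, not_or]
    rcases Finset.mem_union.1 ha with h | h
    · obtain ⟨p0, p1, p2, p3, p4, -⟩ := hBnx a h
      exact ⟨p0, p1, p2, p3, p4⟩
    · obtain ⟨b, hb, rfl⟩ := Finset.mem_image.1 h
      obtain ⟨p0, p1, p2, p3, p4, -⟩ := hBnx b hb
      refine ⟨mul_mem p0 hxP, fun h => p2 ?_, fun h => p1 (mul_eq_right.1 h), fun h => p4 ?_,
        fun h => p3 (mul_right_cancel h)⟩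
      · rw [← inv_eq_of_mul_eq_one_left h, inv_eq_of_mul_eq_one_right hx2]
      · rw [← h, mul_assoc, hx2, mul_one]
  have h4 : ({1, x, j, j * x} : Finset G).card = 4 := by
    refine Finset.card_eq_four.2 ⟨1, x, j, j * x, Ne.symm hx1, Ne.symm hj1, fun h => hjx ?_,
      Ne.symm hjx, fun h => hj1 (mul_eq_right.1 h.symm), fun h => hx1 (left_eq_mul.1 h), rfl⟩
    rw [← inv_eq_of_mul_eq_one_left h.symm, inv_eq_of_mul_eq_one_right hx2]
  have hc := Finset.card_le_card hsub
  rw [Finset.card_union_of_disjoint hd, Finset.card_image_of_injective _ (mul_left_injective x),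
    Finset.card_sdiff_of_subset (by
      intro a ha
      simp only [Finset.mem_insert, Finset.mem_singleton] at ha
      refine Finset.mem_filter.2 ⟨Finset.mem_univ _, ?_⟩
      rcases ha with h | h | h | h <;> rw [h]
      exacts [one_mem _, hxP, ⟨hjQ, hjC⟩, mul_mem ⟨hjQ, hjC⟩ hxP]), hPf, h4] at hc
  omega

end Pair

/-- There is no pure pair. -/
theorem no_pure {g : G} (hx : Pure z (g * z * g⁻¹)) : False := by
  classical
  have S := H.frame
  have hx' := H.pure_symm hx
  obtain ⟨u', hu'⟩ := H.pure_act_ne hx'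
  obtain ⟨k', j, -, hjQ, hjz, hjc, hj1, hjx, hj2, q', hq', hq'eq⟩ :=
    H.exists_J (g := g) (H.pure_mem hx') ((H.pure_tsinv hx').ts u') hu'
  have hy := H.pure_of_prod hjQ hjz hjc hj1 hjx
  set x := g * z * g⁻¹ with hxdef
  obtain ⟨y, hydef⟩ : ∃ y, y = j * z := ⟨_, rfl⟩
  rw [← hydef] at hy hq'eq
  have hxm := H.pure_mem hx
  have hx2 := H.conj_sq hx.1
  have hy2 := H.conj_sq hy.1
  have hym := H.pure_mem hy
  have hjC : j ∈ centralizer ({z} : Set G) := mem_centralizer_singleton_iff.2 hjz
  have hjxc : j * x = x * j := H.commute_x hx hjQ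
  have hacty : ∀ v, act e y v = act e j v := fun v => by
    rw [hydef, S.act_mul hjC S.zH, S.act_mem S.pack.mem]
  have hfx : ∀ v, act e x v = v → act e y v = v := fun v hv => by
    rw [hacty, H.fix_of_fix hx hjQ hjC hv]
  -- the two fixed spaces coincide
  have hyx : ∀ v, act e y v = v → act e x v = v := by
    intro v hv
    obtain ⟨u, hu⟩ := mem_range (H.pure_tsinv hx).isom (H.pure_tsinv hx).inv (h := v)
      fun w hw => H.full_perp hy (hfx w hw) hv
    rw [← hu]; exact fix_range (H.pure_tsinv hx).isom (H.pure_tsinv hx).inv u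
  -- the degenerate product
  have hnf := H.not_full_prod hx hjQ hjz hjc hj1 hjx
  rw [← hxdef] at hnf
  have hfm : j * x ∈ centralizer ({z} : Set G) := mul_mem hjC hxm
  obtain ⟨f, hf⟩ : ∃ f, f = act e (j * x) := ⟨_, rfl⟩
  rw [← hf] at hnf
  have hfI : Isom f := hf ▸ S.act_isom hfm
  have hfj : ∀ v, f v = act e y (act e x v) := fun v => by
    rw [hf, S.act_mul hjC hxm, hacty]
  have hfc : ∀ v, act e x (act e y v) = f v := fun v => by
    rw [hfj, hacty, hacty, act_commute S hxm hjC hjxc.symm]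
  have hffix : ∀ v, act e x v = v → f v = v := fun v hv => by rw [hfj, hv, hfx v hv]
  have T : TSInv f := ⟨hfI, fun v => by
      rw [hf, ← S.act_mul hfm hfm, show j * x * (j * x) = j * (x * j) * x by group, ← hjxc,
        show j * (j * x) * x = j * j * (x * x) by group, hj2, hx2, one_mul, S.act_one],
    fun v => by
      obtain ⟨u, hu⟩ := mem_range (H.pure_tsinv hx).isom (H.pure_tsinv hx).inv (h := f v + v)
        fun w hw => fix_perp hfI (hffix w hw) v
      rw [← hu, (H.pure_tsinv hx).ts]⟩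
  have hxQc : x ∈ Qc Q g := mem_Qc.2 (by simpa [hxdef, mul_assoc] using S.pack.mem)
  have hfne : ∃ u, f u + u ≠ 0 := by
    by_contra hcon
    push Not at hcon
    refine hjx ?_
    have h := H.meet_bot hx (a := j * x)
      (S.mem_of_act hfm fun v => by rw [← hf]; exact add_eq_zero_iff'.1 (hcon v))
      (mul_mem hjQ hxQc)
    rw [← inv_eq_of_mul_eq_one_left h, inv_eq_of_mul_eq_one_right hx2]
  have htau : IsTau f := (T.tau_or_full hfne).resolve_right fun ⟨h1, h2⟩ =>
    hnf ⟨(card_fix T.isom).trans h1, fun v => by rw [← mem_ker T.isom, ← h2]; rfl⟩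
  obtain ⟨a, b, ha, hb, hab, ha0, hb0, hab', htf, -, ⟨pa, hpa⟩, ⟨pb, hpb⟩, -⟩ := htau.facts T.isom
  have inU : ∀ p, act e x (f p + p) = f p + p := by
    intro p
    obtain ⟨u, hu⟩ := mem_range (H.pure_tsinv hx).isom (H.pure_tsinv hx).inv (h := f p + p)
      fun w hw => fix_perp hfI (hffix w hw) p
    rw [← hu]; exact fix_range (H.pure_tsinv hx).isom (H.pure_tsinv hx).inv u
  have haU : act e x a = a := hpa ▸ inU pa
  have hbU : act e x b = b := hpb ▸ inU pb
  have T1 := H.pure_tsinv hx
  have T2 := H.pure_tsinv hy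
  obtain ⟨va, hva⟩ := ((H.full hx).2 a).1 haU
  obtain ⟨vb, hvb⟩ := ((H.full hx).2 b).1 hbU
  obtain ⟨wa, hwa⟩ := ((H.full hy).2 a).1 (hfx a haU)
  obtain ⟨wb, hwb⟩ := ((H.full hy).2 b).1 (hfx b hbU)
  have hvab : alt va b = 0 := pencil_orth T1.isom ha (n := act e y)
    (fun v => (hfc v).trans (htf v)) (fun v hv => H.full_perp hy hv (hfx b hbU)) hva
  have hwab : alt wa b = 0 := pencil_orth T2.isom ha (n := act e x)
    (fun v => (hfj v).symm.trans (htf v)) (fun v hv => H.full_perp hx hv hbU) hwa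
  have prod : ∀ (w : G), w ∈ centralizer ({z} : Set G) → w * w = 1 → ∀ (p q : Sp 4) (k l : ZMod 2),
      el e p 0 * w * (el e p 0)⁻¹ * w = el e a k → el e q 0 * w * (el e q 0)⁻¹ * w = el e b l →
      alt p b = 0 → el e (p + q) 0 * w * (el e (p + q) 0)⁻¹ * w = el e b l * el e a k := by
    intro w hw hw2 p q k l hp hq hpb'
    rw [← el_comm_eq S (p + q) (0 + 0 + beta (ff 4) p q) hw, ← Setup.el_mul,
      show el e p 0 * el e q 0 * w * (el e p 0 * el e q 0)⁻¹ * w =
        el e p 0 * (el e q 0 * w * (el e q 0)⁻¹ * w) * (el e p 0)⁻¹ *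
          (el e p 0 * w⁻¹ * (el e p 0)⁻¹ * w) by group, inv_eq_of_mul_eq_one_right hw2, hq, hp,
      el_swap S hpb', mul_inv_cancel_right]
  obtain ⟨ka, hka⟩ := comm_el S hxm hx2 va
  obtain ⟨kb, hkb⟩ := comm_el S hxm hx2 vb
  obtain ⟨la, hla⟩ := comm_el S hym hy2 wa
  obtain ⟨lb, hlb⟩ := comm_el S hym hy2 wb
  rw [hva] at hka; rw [hvb] at hkb; rw [hwa] at hla; rw [hwb] at hlb
  -- a common commutator
  obtain ⟨u, p, q₁, q₂, c, hup, hu0, huU, hcel, hq₁, hq₂⟩ : ∃ (u p q₁ q₂ : Sp 4) (c : G),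
      f p + p = u ∧ u ≠ 0 ∧ act e x u = u ∧ (∃ k, c = el e u k) ∧
      el e q₁ 0 * x * (el e q₁ 0)⁻¹ * x = c ∧ el e q₂ 0 * y * (el e q₂ 0)⁻¹ * y = c := by
    by_cases h1 : ka = la
    · exact ⟨a, pa, va, wa, _, hpa, ha0, haU, ⟨ka, rfl⟩, hka, h1 ▸ hla⟩
    by_cases h2 : kb = lb
    · exact ⟨b, pb, vb, wb, _, hpb, hb0, hbU, ⟨kb, rfl⟩, hkb, h2 ▸ hlb⟩
    refine ⟨a + b, pa + pb, va + vb, wa + wb, el e b kb * el e a ka, ?_,
      fun h => hab' (add_eq_zero_iff'.1 h), by rw [T1.isom.map_add, haU, hbU],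
      ⟨kb + ka + beta (ff 4) b a, by rw [Setup.el_mul, add_comm a b]⟩,
      prod x hxm hx2 va vb ka kb hka hkb hvab, ?_⟩
    · rw [hfI.map_add, ← hpa, ← hpb]; abel
    · rw [prod y hym hy2 wa wb la lb hla hlb hwab, Setup.el_mul, Setup.el_mul]
      congr 1
      exact (by decide : ∀ k l k' l' r : ZMod 2, ¬ k = k' → ¬ l = l' → l' + k' + r = l + k + r)
        ka kb la lb _ h1 h2
  obtain ⟨kc, hc⟩ := hcel
  have hcQ : c ∈ Q := hc ▸ Setup.el_mem u kc
  have hcC : c ∈ centralizer ({z} : Set G) := S.pack.mem_centralizer_z hcQ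
  have hcx : c * x = x * c := by rw [hc]; exact H.el_commute hx huU kc
  have hcj : c * j = j * c := by rw [hc, H.commute_fix hx hjQ hjC huU kc]
  have hcz : c * z = z * c := S.pack.comm_z hcQ
  have hcc : c * c = 1 := by rw [hc, S.el_sq, H.full_qd hx huU, Setup.el_zero]
  have hc1 : c ≠ 1 := fun h => hu0 (Setup.el_inj (e := e) (c := kc) (d := 0)
    (by rw [Setup.el_zero, ← hc]; exact h)).1
  have hcnz : c ≠ z := fun h => hu0 (Setup.el_inj (e := e) (c := kc) (d := 1)
    (by rw [S.el_one, ← hc]; exact h)).1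
  have hcxc : IsConj z (c * x) := by
    rw [← hq₁, mul_assoc, hx2, mul_one]; exact isConj_conj_left _ hx.1
  have hcyc : IsConj z (c * y) := by
    rw [← hq₂, mul_assoc, hy2, mul_one]; exact isConj_conj_left _ hy.1
  have hxy : x * y = y * x := by
    rw [hydef, ← mul_assoc, ← hjxc, mul_assoc, hx.2.2.1, ← mul_assoc]
  have hcy : c * y = y * c := by
    rw [hydef, ← mul_assoc, hcj, mul_assoc, hcz, ← mul_assoc]
  -- the product with `x` is a conjugate
  have hw : IsConj z (x * (c * y)) := by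
    by_contra hnw
    have hgg : g⁻¹ * x * g = z := by rw [hxdef]; group
    have hcomm : c * y * x = x * (c * y) := by
      rw [mul_assoc, ← hxy, ← mul_assoc, hcx, mul_assoc]
    have hP2 : Pure z (g⁻¹ * (c * y) * g) := by
      refine ⟨by simpa using isConj_conj_left g⁻¹ hcyc, fun h => ?_, ?_, fun h => hnw ?_⟩
      · have h' : c * y = x := by rw [hxdef, ← h]; group
        have hact : ∀ v, act e y v = act e x v := fun v => by
          rw [← h', S.act_mul hcC hym, S.act_mem hcQ]
        refine hfne.elim fun w hw => hw ?_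
        rw [hfj, hact, T1.inv, sp_add_self]
      · conv_lhs => rw [← hgg]
        conv_rhs => rw [← hgg]
        rw [show g⁻¹ * (c * y) * g * (g⁻¹ * x * g) = g⁻¹ * (c * y * x) * g by group, hcomm]
        group
      · have h2 := isConj_conj_left g h
        rwa [show g * (g⁻¹ * (c * y) * g * z) * g⁻¹ = c * y * (g * z * g⁻¹) by group, ← hxdef,
          hcomm] at h2
    have hjg : g⁻¹ * j * g ∈ Q := mem_Qc.1 hjQ
    have hc' : g⁻¹ * c * g * z = z * (g⁻¹ * c * g) := by
      conv_lhs => rw [← hgg]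
      conv_rhs => rw [← hgg]
      rw [show g⁻¹ * c * g * (g⁻¹ * x * g) = g⁻¹ * (c * x) * g by group, hcx]
      group
    have hc'C : g⁻¹ * c * g ∈ centralizer ({z} : Set G) := mem_centralizer_singleton_iff.2 hc'
    have hx'C : g⁻¹ * z * g ∈ centralizer ({z} : Set G) := H.pure_mem hx'
    have hne2 := H.not_full_prod (g := g⁻¹) (j := g⁻¹ * c * g) (by rw [inv_inv]; exact hx')
      (mem_Qc.2 (by simpa [mul_assoc] using hcQ)) hc'
      (by
        have h := isConj_conj_left g⁻¹ hcxc
        rwa [inv_inv, show g⁻¹ * (c * x) * g = g⁻¹ * c * g * (g⁻¹ * x * g) by group, hgg] at h)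
      (fun h => hc1 (by
        calc c = g * (g⁻¹ * c * g) * g⁻¹ := by group
          _ = 1 := by rw [h]; group))
      (fun h => hcnz (by
        rw [inv_inv] at h
        exact mul_left_cancel (mul_right_cancel h)))
    rw [inv_inv] at hne2
    refine hne2 ?_
    have hfull := H.full hP2
    rwa [show g⁻¹ * (c * y) * g = g⁻¹ * c * g * (g⁻¹ * j * g) * (g⁻¹ * z * g) by rw [hydef]; group,
      show act e (g⁻¹ * c * g * (g⁻¹ * j * g) * (g⁻¹ * z * g)) =
          act e (g⁻¹ * c * g * (g⁻¹ * z * g)) from funext fun v => by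
        rw [S.act_mul (mul_mem hc'C (S.pack.mem_centralizer_z hjg)) hx'C,
          S.act_mul hc'C (S.pack.mem_centralizer_z hjg), S.act_mem hjg,
          ← S.act_mul hc'C hx'C]] at hfull
  -- move it by `Q`
  obtain ⟨w, hwdef⟩ : ∃ w, w = x * (c * y) := ⟨_, rfl⟩
  rw [← hwdef] at hw
  have hwC : w ∈ centralizer ({z} : Set G) := hwdef ▸ mul_mem hxm (mul_mem hcC hym)
  obtain ⟨k, hk⟩ := comm_el S hwC (H.conj_sq hw) p
  have hactw : act e w p = f p := by
    rw [hwdef, S.act_mul hxm (mul_mem hcC hym), S.act_mul hcC hym, S.act_mem hcQ, hfc]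
  rw [hactw, hup] at hk
  have hconj : IsConj z (el e u k * w) := by
    rw [← hk, mul_assoc, H.conj_sq hw, mul_one]
    exact isConj_conj_left _ hw
  have hsimp : c * w = x * y := by
    rw [hwdef, ← mul_assoc, hcx, mul_assoc, ← mul_assoc c c, hcc, one_mul]
  by_cases hkk : k = kc
  · rw [hkk, ← hc, hsimp] at hconj
    have hconj' := isConj_conj_left g⁻¹ hconj
    rw [inv_inv, show g⁻¹ * (x * y) * g = z * (g⁻¹ * y * g) by rw [hxdef]; group, ← hq'eq,
      show z * (q' * (g⁻¹ * z * g) * q'⁻¹) = z * q' * (g⁻¹ * z * g) * q'⁻¹ by group,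
      ← S.pack.comm_z hq', show q' * z * (g⁻¹ * z * g) * q'⁻¹ = q' * (z * (g⁻¹ * z * g)) * q'⁻¹ by
        group, isConj_conj_iff, ← hx'.2.2.1] at hconj'
    exact hx'.2.2.2 hconj'
  · rw [(by decide : ∀ l k : ZMod 2, ¬ l = k → l = k + 1) k kc hkk, S.el_add_one, ← hc,
      hcz, mul_assoc, hsimp, hydef, ← mul_assoc x j z, ← mul_assoc z (x * j) z,
      ← mem_centralizer_singleton_iff.1 (mul_mem hxm hjC), mul_assoc, S.pack.z_mul_z, mul_one]
      at hconj
    have h := H.eq_of_mem_Qc (mul_mem hxQc hjQ) hconj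
    rw [← hxdef] at h
    exact hj1 (mul_eq_left.1 h)

/-- The central involution commutes with no other conjugate. -/
theorem isolated {g : G} (hc : g * z * g⁻¹ * z = z * (g * z * g⁻¹)) : g * z * g⁻¹ = z := by
  by_contra hne
  obtain ⟨x, hx⟩ := H.exists_pure hne hc
  obtain ⟨g', rfl⟩ := isConj_iff.1 hx.1
  exact H.no_pure hx

end Hyp

end CfsgLib.ClassK.Conway.WC
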