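import Cfsg.Agent.Lib.ClassK.ConwayWCLinear

/-!
Finite facts about the standard Siegel map `tau e0 e1`: its centralising Siegel maps, the coordinates
of the maps it acts on, and their irreducibility.
-/

set_option autoImplicit false
set_option maxRecDepth 20000
set_option synthInstance.maxSize 2000
set_option linter.unusedSectionVars false

namespace CfsgLib.ClassK.Conway.WC

open CfsgLib.Trans3.ExtraTwo CfsgLib.ClassK.Conway

/-- The second standard singular point. -/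
def e1 : Sp 4 := ![0, (1, 0), 0, 0]

/-- Its partner. -/
def f1 : Sp 4 := ![0, (0, 1), 0, 0]

/-- A basis of the middle space. -/
def hk (i : Fin 4) : Sp 4 := ![![0, 0, (1, 0), 0], ![0, 0, (0, 1), 0], ![0, 0, 0, (1, 0)],
  ![0, 0, 0, (0, 1)]] i

/-- The generators: pairs of singular orthogonal vectors. -/
def gp (g : Fin 6) : Sp 4 × Sp 4 :=
  ![(e0, f1), (e1, f0), (hk 0, hk 2), (hk 1, hk 3), (hk 0, hk 3), (hk 1, hk 2)] g

/-- The generating Siegel maps. -/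
def gm (g : Fin 6) : Sp 4 → Sp 4 := tau (gp g).1 (gp g).2

/-- The two coordinates of a vector on `e0, e1`. -/
def co (v : Sp 4) : P2 := (alt v f0, alt v f1)

/-- A vector of the middle space sent to the line by the coordinates `k`. -/
def phi (k : Sp 4) (h : Sp 4) : Sp 4 :=
  (alt h (hk 1) • ((k 0).1 • e0 + (k 0).2 • e1) + alt h (hk 0) • ((k 1).1 • e0 + (k 1).2 • e1)) +
    (alt h (hk 3) • ((k 2).1 • e0 + (k 2).2 • e1) + alt h (hk 2) • ((k 3).1 • e0 + (k 3).2 • e1))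

/-- The action of the generators on the coordinates. -/
def op (g : Fin 6) (k : Sp 4) : Sp 4 :=
  ![fun i => ((k i).1 + (k i).2, (k i).2), fun i => ((k i).1, (k i).1 + (k i).2),
    ![k 0, k 1 + k 2, k 2, k 3 + k 0], ![k 0 + k 3, k 1, k 2 + k 1, k 3],
    ![k 0, k 1 + k 3, k 2 + k 0, k 3], ![k 0 + k 2, k 1, k 2, k 3 + k 1]] g

theorem gp_facts : ∀ g, qd (gp g).1 = 0 ∧ qd (gp g).2 = 0 ∧ alt (gp g).1 (gp g).2 = 0 := by
  decide +kernel

theorem basics : qd e0 = 0 ∧ qd e1 = 0 ∧ alt e0 e1 = 0 ∧ e1 ≠ 0 ∧ e0 ≠ 0 ∧ e0 ≠ e1 := by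
  decide +kernel

theorem gm_comm : ∀ g v, gm g (tau e0 e1 v) = tau e0 e1 (gm g v) := by decide +kernel

theorem hk_fix : ∀ i, tau e0 e1 (hk i) = hk i := by decide +kernel

/-- The two coordinates of the image of a point of the line. -/
def lineOp (g : Fin 6) (p : P2) : P2 := co (gm g (p.1 • e0 + p.2 • e1))

theorem phi_line (k h : Sp 4) : phi k h =
    ((alt h (hk 1) * (k 0).1 + alt h (hk 0) * (k 1).1) +
      (alt h (hk 3) * (k 2).1 + alt h (hk 2) * (k 3).1)) • e0 +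
    ((alt h (hk 1) * (k 0).2 + alt h (hk 0) * (k 1).2) +
      (alt h (hk 3) * (k 2).2 + alt h (hk 2) * (k 3).2)) • e1 := by
  unfold phi
  module

theorem lineOp_eq : ∀ g p, lineOp g p =
    ![(p.1 + p.2, p.2), (p.1, p.1 + p.2), p, p, p, p] g := by decide +kernel

theorem coeff_eq : ∀ (g : Fin 6) (i : Fin 4),
    (alt (gm g (hk i)) (hk 1), alt (gm g (hk i)) (hk 0), alt (gm g (hk i)) (hk 3),
      alt (gm g (hk i)) (hk 2)) =
    ![![(1, 0, 0, 0), (0, 1, 0, 0), (0, 0, 1, 0), (0, 0, 0, 1)],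
      ![(1, 0, 0, 0), (0, 1, 0, 0), (0, 0, 1, 0), (0, 0, 0, 1)],
      ![(1, 0, 0, 0), (0, 1, 1, 0), (0, 0, 1, 0), (1, 0, 0, 1)],
      ![(1, 0, 0, 1), (0, 1, 0, 0), (0, 1, 1, 0), (0, 0, 0, 1)],
      ![(1, 0, 0, 0), (0, 1, 0, 1), (1, 0, 1, 0), (0, 0, 0, 1)],
      ![(1, 0, 1, 0), (0, 1, 0, 0), (0, 0, 1, 0), (0, 1, 0, 1)]] g i := by decide +kernel

theorem op_eq (g : Fin 6) (k : Sp 4) (i : Fin 4) : co (gm g (phi k (gm g (hk i)))) = op g k i := by
  rw [phi_line]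
  have h := coeff_eq g i
  simp only [Prod.ext_iff] at h
  obtain ⟨h1, h2, h3, h4⟩ := h
  rw [h1, h2, h3, h4]
  refine (lineOp_eq g (_, _)).trans ?_
  fin_cases g <;> fin_cases i <;> simp [op, Prod.ext_iff, add_comm]

theorem gm_inv : ∀ g v, gm g (gm g v) = v := fun g v =>
  tau_tau (gp_facts g).1 (gp_facts g).2.1 (gp_facts g).2.2 v

theorem gm_fixed : ∀ g i, tau e0 e1 (gm g (hk i)) = gm g (hk i) := by decide +kernel

theorem line_cases : ∀ v : Sp 4, v = 0 ∨ v = e0 ∨ v = e1 ∨ v = e0 + e1 →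
    v = (co v).1 • e0 + (co v).2 • e1 := by decide +kernel

theorem decompose : ∀ h : Sp 4, alt h e0 = 0 → alt h e1 = 0 →
    h = (alt h f0 • e0 + alt h f1 • e1) + ((alt h (hk 1) • hk 0 + alt h (hk 0) • hk 1) +
      (alt h (hk 3) • hk 2 + alt h (hk 2) • hk 3)) := by decide +kernel

/-- An invariant totally singular subspace of the fixed space lies on the line. -/
theorem escape : ∀ d : Sp 4, alt d e0 = 0 → alt d e1 = 0 → qd d = 0 →
    d = 0 ∨ d = e0 ∨ d = e1 ∨ d = e0 + e1 ∨ (∃ g, alt d (gm g d) = 1) ∨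
      ∃ g g', alt d (gm g (gm g' d)) = 1 := by decide +kernel

theorem line_spread : (gm 0 e1 = e0 + e1 ∧ gm 1 e0 = e0 + e1) ∧
    (∀ d ∈ [e0, e1, e0 + e1], ∃ g, gm g d + d = e0 ∨ gm g (gm g d + d) + d = e0 ∨ d = e0) := by
  decide +kernel

/-- Isometries with the middle space fixed. -/
theorem two_candidates : ∀ p : Sp 4, alt p e0 = 1 → alt p e1 = 0 → qd p = 0 →
    (∀ i, alt p (hk i) = 0) → ∀ q : Sp 4, alt q e1 = 1 → alt q e0 = 0 → qd q = 0 →
    (∀ i, alt q (hk i) = 0) → alt p q = 0 →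
    (p = f0 ∧ q = f1) ∨ (p = tau e0 e1 f0 ∧ q = tau e0 e1 f1) := by decide +kernel

theorem f_facts : alt f0 e0 = 1 ∧ alt f0 e1 = 0 ∧ qd f0 = 0 ∧ (∀ i, alt f0 (hk i) = 0) ∧
    alt f1 e1 = 1 ∧ alt f1 e0 = 0 ∧ qd f1 = 0 ∧ (∀ i, alt f1 (hk i) = 0) ∧ alt f0 f1 = 0 ∧
    (∀ i, alt (hk i) e0 = 0 ∧ alt (hk i) e1 = 0) ∧ alt e0 e0 = 0 ∧ alt e1 e0 = 0 := by
  decide +kernel

theorem split_all : ∀ v : Sp 4, v = (alt v e0 • f0 + alt v e1 • f1) +
    (v + (alt v e0 • f0 + alt v e1 • f1)) ∧ alt (v + (alt v e0 • f0 + alt v e1 • f1)) e0 = 0 ∧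
    alt (v + (alt v e0 • f0 + alt v e1 • f1)) e1 = 0 := by decide +kernel

/-- Closure properties of the set of coordinates of an invariant set of maps. -/
structure Closed (K : Sp 4 → Prop) : Prop where
  add : ∀ k k', K k → K k' → K (k + k')
  op : ∀ g k, K k → K (op g k)

/-- A list of coordinate changes preserved by closed sets. -/
def steps (k : Sp 4) : List (Sp 4) :=
  (List.finRange 6).map (fun g => op g k) ++ (List.finRange 6).map (fun g => k + op g k)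

theorem Closed.steps {K : Sp 4 → Prop} (hK : Closed K) {k k' : Sp 4} (h : K k) (h' : k' ∈ steps k) :
    K k' := by
  rcases List.mem_append.1 h' with h' | h' <;> obtain ⟨g, -, rfl⟩ := List.mem_map.1 h'
  exacts [hK.op g k h, hK.add _ _ h (hK.op g k h)]

/-- Vectors with vanishing second coordinates. -/
abbrev Row (k : Sp 4) : Prop := k ≠ 0 ∧ ∀ i, (k i).2 = 0

theorem to_row : ∀ k : Sp 4, k ≠ 0 → Row k ∨ Row (k + op 0 k) := by decide +kernel

/-- The base coordinates. -/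
def k3 : Sp 4 := ![0, 0, 0, (1, 0)]

theorem row_to_k3 : ∀ k : Sp 4, Row k → k = k3 ∨ ∃ a ∈ steps k, a = k3 ∨ ∃ b ∈ steps a, b = k3 ∨
    ∃ c ∈ steps b, c = k3 := by decide +kernel

theorem k3_basis : k3 + op 3 k3 = ![(1, 0), 0, 0, 0] ∧ k3 + op 4 k3 = ![0, (1, 0), 0, 0] ∧
    (k3 + op 3 k3) + op 4 (k3 + op 3 k3) = ![0, 0, (1, 0), 0] := by decide +kernel

theorem row_basis : ∀ k : Sp 4, k =
    (((k 0).1 + (k 0).2) • ![(1, 0), 0, 0, 0] + (k 0).2 • op 1 ![(1, 0), 0, 0, 0]) +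
    (((k 1).1 + (k 1).2) • ![0, (1, 0), 0, 0] + (k 1).2 • op 1 ![0, (1, 0), 0, 0]) +
    ((((k 2).1 + (k 2).2) • ![0, 0, (1, 0), 0] + (k 2).2 • op 1 ![0, 0, (1, 0), 0]) +
    (((k 3).1 + (k 3).2) • k3 + (k 3).2 • op 1 k3)) := by decide +kernel

/-- A closed set with a non-zero member is everything. -/
theorem Closed.all {K : Sp 4 → Prop} (hK : Closed K) {k : Sp 4} (h : K k) (hk0 : k ≠ 0) (v : Sp 4) :
    K v := by
  obtain ⟨r, hr, hrow⟩ : ∃ r, K r ∧ Row r := by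
    rcases to_row k hk0 with h' | h'
    exacts [⟨k, h, h'⟩, ⟨_, hK.add _ _ h (hK.op 0 k h), h'⟩]
  have h3 : K k3 := by
    rcases row_to_k3 r hrow with rfl | ⟨a, ha, h'⟩
    · exact hr
    have hKa := hK.steps hr ha
    rcases h' with rfl | ⟨b, hb, h'⟩
    · exact hKa
    have hKb := hK.steps hKa hb
    rcases h' with rfl | ⟨c, hc, rfl⟩
    exacts [hKb, hK.steps hKb hc]
  have h0 := hK.add _ _ h3 (hK.op 3 _ h3)
  have h2 := hK.add _ _ h0 (hK.op 4 _ h0)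
  have h1 := hK.add _ _ h3 (hK.op 4 _ h3)
  rw [k3_basis.2.2] at h2
  rw [k3_basis.1] at h0
  rw [k3_basis.2.1] at h1
  have hz : K 0 := sp_add_self k3 ▸ hK.add _ _ h3 h3
  have hs : ∀ (s : ZMod 2) (w : Sp 4), K w → K (s • w) := fun s w hw => smul_case s w hz hw
  have hp : ∀ (s t : ZMod 2) (w : Sp 4), K w → K (s • w + t • WC.op 1 w) := fun s t w hw =>
    hK.add (s • w) (t • WC.op 1 w) (hs s w hw) (hs t (WC.op 1 w) (hK.op 1 w hw))
  rw [row_basis v]
  exact hK.add _ _ (hK.add _ _ (hp _ _ _ h0) (hp _ _ _ h1))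
    (hK.add _ _ (hp _ _ _ h2) (hp _ _ _ h3))

/-- Transitivity on the singular vectors orthogonal to `e0` off its line, by reflections fixing it. -/
theorem step4_two : ∀ b : Sp 4, qd b = 0 → alt e0 b = 0 → b ≠ 0 → b ≠ e0 → b ≠ e1 → alt b e1 = 0 →
    ∃ r : Sp 4, qd r = 0 ∧ alt e0 r = 0 ∧ alt b r = 1 ∧ alt e1 r = 1 := by decide +kernel

/-- Moving a totally singular pair to the standard one. -/
theorem to_std {a b : Sp 4} (ha : qd a = 0) (hb : qd b = 0) (hab : alt a b = 0) (ha0 : a ≠ 0)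
    (hb0 : b ≠ 0) (hne : a ≠ b) : ∃ f k, Word f k ∧ f a = e0 ∧ f b = e1 := by
  obtain ⟨f, k, hf, hfa⟩ := to_e0 ha ha0
  have hfb : qd (f b) = 0 := by rw [hf.isom.map_qd, hb]
  have hfab : alt e0 (f b) = 0 := by rw [← hfa, hf.isom.map_alt, hab]
  obtain ⟨g, l, hg, hgb, hga⟩ := move_fix (a := e0) (x := f b) (y := e1) hfb basics.2.1 hfab
    basics.2.2.1 (by
      by_cases h1 : f b = e1
      · exact Or.inl h1
      by_cases h2 : alt (f b) e1 = 1
      · exact Or.inr (Or.inl h2)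
      obtain ⟨r, x, y, z, w⟩ := step4_two (f b) hfb hfab
        (fun e => hb0 (hf.isom.injective (e.trans hf.isom.map_zero.symm)))
        (fun e => hne (hf.isom.injective (hfa.trans e.symm))) h1 (z2_ne_one h2)
      exact Or.inr (Or.inr ⟨r, x, y, z, w⟩))
  obtain ⟨m, hm⟩ := hg.comp hf
  exact ⟨g ∘ f, m, hm, by simp [hfa, hga], by simp [hgb]⟩

theorem n4_fix : alt e0 n4 = 0 ∧ alt e1 n4 = 0 := by decide +kernel

end CfsgLib.ClassK.Conway.WC
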