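import Cfsg.Agent.Lib.ClassK.ConwaySiegel

/-!
Involutory isometries of the hyperbolic space of dimension eight with totally singular commutator
space: either a single Siegel map or free of rank four.
-/

set_option autoImplicit false
set_option maxRecDepth 20000
set_option linter.unusedSectionVars false
set_option linter.unusedVariables false

namespace CfsgLib.ClassK.Conway.WC

open CfsgLib.Trans3.ExtraTwo CfsgLib.ClassK.Conway

/-- An involutory isometry with totally singular commutator space. -/
structure TSInv (t : Sp 4 → Sp 4) : Prop where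
  isom : Isom t
  inv : ∀ v, t (t v) = v
  ts : ∀ v, qd (t v + v) = 0

/-- A single Siegel map. -/
def IsTau (t : Sp 4 → Sp 4) : Prop :=
  ∃ a b, qd a = 0 ∧ qd b = 0 ∧ alt a b = 0 ∧ a ≠ 0 ∧ b ≠ 0 ∧ a ≠ b ∧ ∀ v, t v = tau a b v

theorem add_eq_zero_iff' {v w : Sp 4} : v + w = 0 ↔ v = w :=
  ⟨fun h => by rw [← add_zero v, ← sp_add_self w, ← add_assoc, h, zero_add],
    fun h => h ▸ sp_add_self v⟩

theorem alt_smul_right (k : ZMod 2) (v w : Sp 4) : alt v (k • w) = k * alt v w := by
  rw [alt_comm, alt_smul_left, alt_comm]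

theorem smul_case {P : Sp 4 → Prop} (k : ZMod 2) (v : Sp 4) (h0 : P 0) (h1 : P v) : P (k • v) := by
  rcases z2_cases k with rfl | rfl
  · rwa [zero_smul]
  · rwa [one_smul]

/-- The commutator map as a homomorphism. -/
def dHom {t : Sp 4 → Sp 4} (ht : Isom t) : Sp 4 →+ Sp 4 :=
  AddMonoidHom.mk' (fun v => t v + v) fun u v => by rw [ht.map_add]; abel

theorem dHom_apply {t : Sp 4 → Sp 4} (ht : Isom t) (v : Sp 4) : dHom ht v = t v + v := rfl

theorem mem_ker {t : Sp 4 → Sp 4} (ht : Isom t) {v : Sp 4} : v ∈ (dHom ht).ker ↔ t v = v := by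
  rw [AddMonoidHom.mem_ker, dHom_apply, add_eq_zero_iff']

theorem card_space : Nat.card (Sp 4) = 256 := by
  simp [Nat.card_eq_fintype_card]

theorem card_mul {t : Sp 4 → Sp 4} (ht : Isom t) :
    Nat.card ↥(dHom ht).ker * Nat.card ↥(dHom ht).range = 256 := by
  rw [← card_space, ← AddSubgroup.card_mul_index (dHom ht).ker, AddSubgroup.index_ker]

theorem fix_perp {t : Sp 4 → Sp 4} (ht : Isom t) {v : Sp 4} (hv : t v = v) (u : Sp 4) :
    alt v (t u + u) = 0 := by
  rw [alt_add_right, show alt v (t u) = alt v u by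
    conv_lhs => rw [← hv]
    exact ht.map_alt v u, z2_add_self]

/-- What is orthogonal to every fixed vector is a commutator. -/
theorem mem_range {t : Sp 4 → Sp 4} (ht : Isom t) (hinv : ∀ v, t (t v) = v) {h : Sp 4}
    (hh : ∀ v, t v = v → alt v h = 0) : ∃ u, t u + u = h := by
  classical
  let R : Submodule (ZMod 2) (Sp 4) := AddSubgroup.toZModSubmodule 2 (dHom ht).range
  have hR : ∀ r : R, ∃ v, (r : Sp 4) = t v + v := fun r => by
    obtain ⟨v, hv⟩ := r.2; exact ⟨v, hv.symm⟩
  choose pre hpre using hR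
  have well : ∀ (r : R) (v : Sp 4), (r : Sp 4) = t v + v → alt (pre r) h = alt v h := by
    intro r v hv
    have h0 := hh (pre r + v) (by
      rw [← add_eq_zero_iff', ← dHom_apply ht, map_add, dHom_apply, dHom_apply, ← hpre, ← hv,
        sp_add_self])
    rw [alt_add_left] at h0
    exact CharTwo.add_eq_zero.1 h0
  let lam : R →ₗ[ZMod 2] ZMod 2 := AddMonoidHom.toZModLinearMap 2
    (AddMonoidHom.mk' (fun r => alt (pre r) h) fun r s => by
      rw [well (r + s) (pre r + pre s) (by
        rw [Submodule.coe_add, ← dHom_apply ht, map_add, dHom_apply, dHom_apply, ← hpre, ← hpre]),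
        alt_add_left])
  obtain ⟨F, hF⟩ := LinearMap.exists_extend lam
  obtain ⟨r, hr⟩ := exists_rep F
  refine ⟨r, eq_of_alt fun v => ?_⟩
  have h1 := LinearMap.congr_fun hF (⟨t v + v, v, rfl⟩ : R)
  simp only [LinearMap.comp_apply, Submodule.subtype_apply] at h1
  rw [← hr] at h1
  rw [selfadj ht hinv, alt_comm r, h1]
  show alt (pre _) h = alt h v
  rw [well _ v rfl, alt_comm]

theorem tau_tau {a b : Sp 4} (ha : qd a = 0) (hb : qd b = 0) (hab : alt a b = 0) (v : Sp 4) :
    tau a b (tau a b v) = v := by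
  have hba : alt b a = 0 := by rw [alt_comm, hab]
  simp only [tau, alt_add_left, alt_smul_left, alt_self, hab, hba, mul_zero, add_zero]
  rcases z2_cases (alt v a) with h | h <;> rcases z2_cases (alt v b) with h' | h' <;> rw [h, h'] <;>
    simp only [zero_smul, one_smul, add_zero] <;> funext i <;>
    exact (by decide : (∀ x p : P2, x = x) ∧ (∀ x p : P2, x + p + p = x) ∧
      ∀ x p q : P2, x + p + q + p + q = x) |> fun h => by
        first
          | exact h.1 _ (v i)
          | exact h.2.1 _ _
          | exact h.2.2 _ _ _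

theorem tau_dm (a b v : Sp 4) : tau a b v + v = alt v a • b + alt v b • a := by
  rw [tau, show v + alt v a • b + alt v b • a + v = v + v + (alt v a • b + alt v b • a) by abel,
    sp_add_self, zero_add]

theorem tau_dm_cases (a b v : Sp 4) :
    tau a b v + v = 0 ∨ tau a b v + v = a ∨ tau a b v + v = b ∨ tau a b v + v = a + b := by
  rw [tau_dm]
  rcases z2_cases (alt v a) with h | h <;> rcases z2_cases (alt v b) with h' | h' <;>
    simp [h, h', add_comm]

theorem tau_fix {a b v : Sp 4} (ha : alt v a = 0) (hb : alt v b = 0) : tau a b v = v := by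
  simp [tau, ha, hb]

theorem tau_isom {a b : Sp 4} (ha : qd a = 0) (hb : qd b = 0) (hab : alt a b = 0) : Isom (tau a b) where
  map_add u v := by
    simp only [tau, alt_add_left, add_smul]; abel
  map_qd v := by
    rw [show tau a b v = v + (alt v a • b + alt v b • a) by rw [tau, add_assoc], qd_add]
    rcases z2_cases (alt v a) with h | h <;> rcases z2_cases (alt v b) with h' | h' <;>
      simp only [h, h', zero_smul, one_smul, add_zero, zero_add, qd_zero, alt_zero_right,
        qd_add, alt_add_right, ha, hb, alt_comm b a, hab]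
    exact (by decide : ∀ q : ZMod 2, q + (1 + 1) = q) _

/-- The fixed space of a Siegel map has order `64`, its commutators are `0, a, b, a + b`. -/
theorem IsTau.facts {t : Sp 4 → Sp 4} (ht : Isom t) (h : IsTau t) :
    ∃ a b, qd a = 0 ∧ qd b = 0 ∧ alt a b = 0 ∧ a ≠ 0 ∧ b ≠ 0 ∧ a ≠ b ∧ (∀ v, t v = tau a b v) ∧
      (∀ v, t v + v = 0 ∨ t v + v = a ∨ t v + v = b ∨ t v + v = a + b) ∧
      (∃ u, t u + u = a) ∧ (∃ v, t v + v = b) ∧ Nat.card ↥(dHom ht).ker = 64 := by
  classical
  obtain ⟨a, b, ha, hb, hab, ha0, hb0, hne, hv⟩ := h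
  obtain ⟨u, hu1, hu0⟩ := exists_dual hb0 (Ne.symm hne)
  obtain ⟨w, hw1, hw0⟩ := exists_dual ha0 hne
  have hu : t u + u = a := by rw [hv, tau_dm, hu1, hu0]; simp
  have hw : t w + w = b := by rw [hv, tau_dm, hw1, hw0]; simp
  have hc : ∀ v, t v + v = 0 ∨ t v + v = a ∨ t v + v = b ∨ t v + v = a + b := fun v => by
    rw [hv]; exact tau_dm_cases a b v
  have hR : Nat.card ↥(dHom ht).range = 4 := by
    have e : ((dHom ht).range : Set (Sp 4)) = ({0, a, b, a + b} : Finset (Sp 4)) := by
      ext r
      simp only [AddMonoidHom.coe_range, Set.mem_range, dHom_apply, Finset.coe_insert,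
        Finset.coe_singleton, Set.mem_insert_iff, Set.mem_singleton_iff]
      constructor
      · rintro ⟨v, rfl⟩; exact hc v
      · rintro (rfl | rfl | rfl | rfl)
        · exact ⟨0, by rw [ht.map_zero, add_zero]⟩
        · exact ⟨u, hu⟩
        · exact ⟨w, hw⟩
        · exact ⟨u + w, by rw [← hu, ← hw, ← dHom_apply ht, map_add, dHom_apply, dHom_apply]⟩
    rw [← SetLike.coe_sort_coe, Nat.card_coe_set_eq, e, Set.ncard_coe_finset]
    have h1 : a + b ≠ 0 := fun e => hne (add_eq_zero_iff'.1 e)
    have h2 : a ≠ a + b := fun e => hb0 (left_eq_add.1 e)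
    have h3 : b ≠ a + b := fun e => ha0 (right_eq_add.1 e)
    exact Finset.card_eq_four.2 ⟨0, a, b, a + b, Ne.symm ha0, Ne.symm hb0, Ne.symm h1, hne, h2, h3, rfl⟩
  have := card_mul ht
  rw [hR] at this
  exact ⟨a, b, ha, hb, hab, ha0, hb0, hne, hv, hc, ⟨u, hu⟩, ⟨w, hw⟩, by omega⟩

namespace TSInv

variable {t : Sp 4 → Sp 4} (T : TSInv t)
include T

theorem range_le_ker : (dHom T.isom).range ≤ (dHom T.isom).ker := by
  rintro _ ⟨v, rfl⟩
  rw [mem_ker, dHom_apply]
  exact fix_range T.isom T.inv v

theorem card_ker_ge : 16 ≤ Nat.card ↥(dHom T.isom).ker := by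
  have h1 := card_mul T.isom
  have h2 : Nat.card ↥(dHom T.isom).range ≤ Nat.card ↥(dHom T.isom).ker :=
    Nat.card_le_card_of_injective _ (AddSubgroup.inclusion_injective T.range_le_ker)
  nlinarith

/-- Either a single Siegel map, or the fixed space is the commutator space, of order `16`. -/
theorem tau_or_full (hne : ∃ u, t u + u ≠ 0) :
    IsTau t ∨ (Nat.card ↥(dHom T.isom).ker = 16 ∧ (dHom T.isom).range = (dHom T.isom).ker) := by
  classical
  obtain ⟨u, hu⟩ := hne
  obtain ⟨u, v, a, b, ha', hb', ha, hb, hab, hub, hva, hua, hvb⟩ :=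
    split_tau T.isom T.inv T.ts hu
  have ha0 : a ≠ 0 := fun e => by rw [e, alt_zero_right] at hva; exact zero_ne_one hva
  have hb0 : b ≠ 0 := fun e => by rw [e, alt_zero_right] at hub; exact zero_ne_one hub
  have hne : a ≠ b := fun e => by rw [e, hub] at hua; exact one_ne_zero hua
  by_cases hall : ∀ w, t w = tau a b w
  · exact Or.inl ⟨a, b, ha, hb, hab, ha0, hb0, hne, hall⟩
  refine Or.inr ?_
  push Not at hall
  obtain ⟨w₀, hw₀⟩ := hall
  have hta : t a = a := by rw [ha']; exact fix_range T.isom T.inv u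
  have htb : t b = b := by rw [hb']; exact fix_range T.isom T.inv v
  -- the complementary part
  obtain ⟨s, hs⟩ : ∃ s : Sp 4 → Sp 4, ∀ w, s w = tau a b (t w) := ⟨_, fun _ => rfl⟩
  have hsI : Isom s := by
    rw [show s = tau a b ∘ t from funext hs]
    exact (tau_isom ha hb hab).comp T.isom
  have hsinv : ∀ w, s (s w) = w := fun w => by
    rw [hs, hs, ← tau_conj T.isom a b, hta, htb, T.inv, tau_tau ha hb hab]
  have hsdm : ∀ w, s w + w ∈ (dHom T.isom).range := fun w => by
    rw [hs, show tau a b (t w) + w = (tau a b (t w) + t w) + (t w + w) by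
      rw [add_assoc, ← add_assoc (t w), sp_add_self, zero_add]]
    refine add_mem ?_ ⟨w, rfl⟩
    rw [tau_dm]
    exact add_mem (smul_case (P := fun x => x ∈ (dHom T.isom).range) _ b (zero_mem _) ⟨v, hb'.symm⟩)
      (smul_case (P := fun x => x ∈ (dHom T.isom).range) _ a (zero_mem _) ⟨u, ha'.symm⟩)
  have hsts : ∀ w, qd (s w + w) = 0 := fun w => by
    obtain ⟨x, hx⟩ := hsdm w
    rw [← hx]; exact T.ts x
  have hba : alt b a = 0 := by rw [alt_comm, hab]
  have hsu : s u = u := by
    have e : t u = u + a := by rw [ha', ← add_assoc, add_comm u, add_assoc, sp_add_self, add_zero]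
    rw [hs, e, tau, alt_add_left, alt_add_left, alt_self, hab, hub, hua]
    simp [add_assoc, sp_add_self]
  have hsv : s v = v := by
    have e : t v = v + b := by rw [hb', ← add_assoc, add_comm v, add_assoc, sp_add_self, add_zero]
    rw [hs, e, tau, alt_add_left, alt_add_left, alt_self, hba, hva, hvb]
    simp [add_assoc, sp_add_self]
  obtain ⟨u', v', a', b', ha'', hb'', -, -, -, hub', hva', hua', hvb'⟩ :=
    split_tau hsI hsinv hsts (u := w₀) (fun e => hw₀ (by
      have h1 := add_eq_zero_iff'.1 e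
      rw [hs] at h1
      conv_rhs => rw [← h1]
      rw [tau_tau ha hb hab]))
  have hua2 : alt u a' = 0 := by rw [ha'']; exact fix_perp hsI hsu _
  have hub2 : alt u b' = 0 := by rw [hb'']; exact fix_perp hsI hsu _
  have hva2 : alt v a' = 0 := by rw [ha'']; exact fix_perp hsI hsv _
  have hvb2 : alt v b' = 0 := by rw [hb'']; exact fix_perp hsI hsv _
  let f : (ZMod 2 × ZMod 2) × (ZMod 2 × ZMod 2) → ↥(dHom T.isom).range := fun i =>
    ⟨(i.1.1 • a + i.1.2 • b) + (i.2.1 • a' + i.2.2 • b'),
      add_mem (add_mem (smul_case (P := fun x => x ∈ (dHom T.isom).range) _ a (zero_mem _) ⟨u, ha'.symm⟩)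
        (smul_case (P := fun x => x ∈ (dHom T.isom).range) _ b (zero_mem _) ⟨v, hb'.symm⟩))
      (add_mem (smul_case (P := fun x => x ∈ (dHom T.isom).range) _ a' (zero_mem _) (ha'' ▸ hsdm _))
        (smul_case (P := fun x => x ∈ (dHom T.isom).range) _ b' (zero_mem _) (hb'' ▸ hsdm _)))⟩
  have hf : Function.Injective f := by
    rintro ⟨⟨i, j⟩, k, l⟩ ⟨⟨i', j'⟩, k', l'⟩ e
    have e' := congrArg Subtype.val e
    have ev : ∀ w : Sp 4, (i * alt w a + j * alt w b) + (k * alt w a' + l * alt w b') =
        (i' * alt w a + j' * alt w b) + (k' * alt w a' + l' * alt w b') := fun w => by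
      have h1 := congrArg (fun x => alt w x) e'
      simp only [f, alt_add_right, alt_smul_right] at h1
      exact h1
    have hj : j = j' := by
      have := ev u; rw [hua, hub, hua2, hub2] at this; simpa using this
    have hi : i = i' := by
      have := ev v; rw [hva, hvb, hva2, hvb2] at this; simpa using this
    subst hi hj
    have hl : l = l' := by
      have := add_left_cancel (ev u'); rw [hua', hub'] at this; simpa using this
    have hk : k = k' := by
      have := add_left_cancel (ev v'); rw [hva', hvb'] at this; simpa using this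
    subst hl hk
    rfl
  have h16 : 16 ≤ Nat.card ↥(dHom T.isom).range := by
    have := Nat.card_le_card_of_injective f hf
    simpa [Nat.card_eq_fintype_card] using this
  have h2 : Nat.card ↥(dHom T.isom).range ≤ Nat.card ↥(dHom T.isom).ker :=
    Nat.card_le_card_of_injective _ (AddSubgroup.inclusion_injective T.range_le_ker)
  have h3 := card_mul T.isom
  have hr : Nat.card ↥(dHom T.isom).range = 16 := by nlinarith
  have hk : Nat.card ↥(dHom T.isom).ker = 16 := by rw [hr] at h3; omega
  exact ⟨hk, AddSubgroup.eq_of_le_of_card_ge T.range_le_ker (by omega)⟩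

end TSInv

/-- The two forms of a pencil agree on the commutators of the Siegel member. -/
theorem pencil_orth {t n : Sp 4 → Sp 4} (ht : Isom t) {a b : Sp 4} (ha : qd a = 0)
    (hf : ∀ v, t (n v) = tau a b v) (hker : ∀ v, n v = v → alt v b = 0) {v₁ : Sp 4}
    (hv₁ : t v₁ + v₁ = a) : alt v₁ b = 0 := by
  have hva : alt v₁ a = 0 := by rw [← hv₁, ← qd_range ht, hv₁, ha]
  rcases z2_cases (alt v₁ b) with h | h
  · exact h
  · exfalso
    have e : t (n v₁) = v₁ + a := by rw [hf, tau, hva, h]; simp
    have e1 : t v₁ = v₁ + a := by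
      rw [← hv₁, ← add_assoc, add_comm v₁, add_assoc, sp_add_self, add_zero]
    have : n v₁ = v₁ := ht.injective (e.trans e1.symm)
    rw [hker v₁ this] at h
    exact zero_ne_one h

end CfsgLib.ClassK.Conway.WC
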