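import Cfsg.Agent.Lib.ClassK.ConwayWCFrame
import Cfsg.Agent.Lib.ClassK.ConwayWCLinear

/-!
The weakly closed case: pure pairs, that is commuting conjugates of the central involution whose
product is no conjugate, and the part of `Q` in a conjugate of `Q`.
-/

set_option autoImplicit false
set_option linter.unusedSectionVars false

namespace CfsgLib.ClassK.Conway.WC

open Subgroup CfsgLib.Trans3.ExtraTwo CfsgLib.ClassK.Conway CfsgLib.PLocal.LargeExtra

variable {G : Type*} [Group G]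

/-- Conjugates of `z` commuting with `z` such that the product is no conjugate. -/
def Pure (z x : G) : Prop := IsConj z x ∧ x ≠ z ∧ x * z = z * x ∧ ¬ IsConj z (x * z)

/-- The conjugate of `Q`. -/
abbrev Qc (Q : Subgroup G) (g : G) : Subgroup G := Q.map (MulAut.conj g).toMonoidHom

theorem mem_Qc {Q : Subgroup G} {g a : G} : a ∈ Qc Q g ↔ g⁻¹ * a * g ∈ Q := by
  constructor
  · rintro ⟨q, hq, rfl⟩
    simpa [mul_assoc] using hq
  · intro h
    exact ⟨_, h, by simp [mul_assoc]⟩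

theorem isConj_conj_left {z a : G} (c : G) (h : IsConj z a) : IsConj z (c * a * c⁻¹) :=
  h.trans (isConj_iff.2 ⟨c, rfl⟩)

theorem isConj_conj_iff {z a : G} (c : G) : IsConj z (c * a * c⁻¹) ↔ IsConj z a :=
  ⟨fun h => by simpa [mul_assoc] using isConj_conj_left c⁻¹ h, isConj_conj_left c⟩

/-- The weakly closed hypothesis. -/
structure Hyp (z : G) (Q : Subgroup G) (e : ↥Q ≃* ES 4 (ff 4)) : Prop where
  frame : Frame z Q e
  wc : ∀ g : G, g * z * g⁻¹ ∈ Q → g * z * g⁻¹ = z

variable {z : G} {Q : Subgroup G} {e : ↥Q ≃* ES 4 (ff 4)} [Finite G]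

section Frame

variable (S : Frame z Q e)
include S

theorem conj_z {c : G} (hc : c ∈ centralizer ({z} : Set G)) : c * z * c⁻¹ = z :=
  mul_inv_eq_iff_eq_mul.2 (mem_centralizer_singleton_iff.1 hc)

theorem act_inv_right {c : G} (hc : c ∈ centralizer ({z} : Set G)) (v : Sp 4) :
    act e c (act e c⁻¹ v) = v := by
  rw [← S.act_mul hc (inv_mem hc), mul_inv_cancel, S.act_one]

theorem act_commute {c d : G} (hc : c ∈ centralizer ({z} : Set G))
    (hd : d ∈ centralizer ({z} : Set G)) (h : c * d = d * c) (v : Sp 4) :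
    act e c (act e d v) = act e d (act e c v) := by
  rw [← S.act_mul hc hd, h, S.act_mul hd hc]

theorem el_inv (v : Sp 4) (k : ZMod 2) : (el e v k)⁻¹ = el e v (k + qd v) := by
  refine inv_eq_of_mul_eq_one_right ?_
  rw [Setup.el_mul, sp_add_self, ← Setup.el_zero (e := e)]
  congr 1
  exact (by decide : ∀ k q : ZMod 2, k + (k + q) + q = 0) k _

theorem el_swap {v w : Sp 4} (h : alt v w = 0) (k l : ZMod 2) :
    el e v k * el e w l = el e w l * el e v k := by
  rw [S.el_comm, h, Setup.el_zero, one_mul]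

theorem el_comm_eq (v : Sp 4) (k : ZMod 2) {x : G} (hx : x ∈ centralizer ({z} : Set G)) :
    el e v k * x * (el e v k)⁻¹ * x = el e v 0 * x * (el e v 0)⁻¹ * x := by
  rcases z2_cases k with rfl | rfl
  · rfl
  · rw [show (1 : ZMod 2) = 0 + 1 from rfl, S.el_add_one, _root_.mul_inv_rev, S.pack.z_inv,
      show el e v 0 * z * x * (z * (el e v 0)⁻¹) * x = el e v 0 * (z * x * z) * (el e v 0)⁻¹ * x by
        group,
      ← mem_centralizer_singleton_iff.1 hx, mul_assoc x z z, S.pack.z_mul_z, mul_one]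

/-- The commutator of `Q` with an involution of `C(z)`. -/
theorem comm_el {x : G} (hx : x ∈ centralizer ({z} : Set G)) (hx2 : x * x = 1) (v : Sp 4) :
    ∃ k, el e v 0 * x * (el e v 0)⁻¹ * x = el e (act e x v + v) k := by
  obtain ⟨j, hj⟩ := S.conj_el hx v 0
  have hxi : x⁻¹ = x := inv_eq_of_mul_eq_one_right hx2
  rw [hxi] at hj
  rw [show el e v 0 * x * (el e v 0)⁻¹ * x = el e v 0 * (x⁻¹ * el e v 0 * x⁻¹)⁻¹ by group, hxi, hj,
    el_inv S, Setup.el_mul, add_comm v]
  exact ⟨_, rfl⟩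

/-- Some commutator with `Q` is singular and non-trivial. -/
theorem exists_singular {x : G} (hx : x ∈ centralizer ({z} : Set G)) (hx2 : x * x = 1) (hxQ : x ∉ Q) :
    ∃ v, qd (act e x v + v) = 0 ∧ act e x v + v ≠ 0 := by
  have hI := S.act_isom hx
  have hinv : ∀ v, act e x (act e x v) = v := fun v => by
    rw [← S.act_mul hx hx, hx2, S.act_one]
  by_contra hcon
  push Not at hcon
  obtain ⟨v₀, hv₀⟩ : ∃ v, act e x v + v ≠ 0 := by
    by_contra h
    push Not at h
    exact hxQ (S.mem_of_act hx fun v => add_eq_zero_iff'.1 (h v))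
  set w₀ := act e x v₀ + v₀ with hw₀
  have hq : qd w₀ = 1 := (z2_cases _).resolve_left fun h => hv₀ (hcon _ h)
  obtain ⟨v, hv⟩ := S.norefl x hx w₀ hq
  apply hv
  have hor : act e x v + v = 0 ∨ act e x v + v = w₀ := by
    by_contra hno
    push Not at hno
    have h1 : qd (act e x v + v) = 1 := (z2_cases _).resolve_left fun h => hno.1 (hcon _ h)
    have h2 := hcon (v + v₀)
    rw [hI.map_add, show act e x v + act e x v₀ + (v + v₀) = act e x v + v + w₀ by rw [hw₀]; abel]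
      at h2
    exact hno.2 (add_eq_zero_iff'.1 (h2 (by
      rw [qd_add, h1, hq, hw₀, range_orth hI hinv, add_zero, z2_add_self])))
  have ha : alt (act e x v + v) v₀ = alt v w₀ := selfadj hI hinv v v₀
  have h0 : alt w₀ v₀ = 1 := by rw [alt_comm, hw₀, ← qd_range hI, ← hw₀, hq]
  rcases hor with h | h
  · rw [h, alt_zero_left] at ha
    rw [refl_of_alt ha.symm, add_eq_zero_iff'.1 h]
  · rw [h, h0] at ha
    rw [refl_of_alt' ha.symm, ← h, ← add_assoc, add_comm v, add_assoc, sp_add_self, add_zero]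

end Frame

namespace Hyp

variable (H : Hyp z Q e)
include H

theorem conj_notMem {x : G} (h : IsConj z x) (hne : x ≠ z) : x ∉ Q := by
  obtain ⟨g, rfl⟩ := isConj_iff.1 h
  exact fun hm => hne (H.wc g hm)

theorem eq_of_mem_Qc {g y : G} (hm : y ∈ Qc Q g) (h : IsConj z y) : y = g * z * g⁻¹ := by
  by_contra hne
  refine H.conj_notMem (x := g⁻¹ * y * g) ?_ ?_ (mem_Qc.1 hm)
  · have := isConj_conj_left g⁻¹ h
    rwa [inv_inv] at this
  · intro e'
    exact hne (by rw [← e']; group)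

theorem conj_sq {x : G} (h : IsConj z x) : x * x = 1 := by
  obtain ⟨g, rfl⟩ := isConj_iff.1 h
  rw [show g * z * g⁻¹ * (g * z * g⁻¹) = g * (z * z) * g⁻¹ by group, H.frame.pack.z_mul_z]; group

section PureLemmas

variable {x : G} (hx : Pure z x)
include hx

theorem pure_mem : x ∈ centralizer ({z} : Set G) := mem_centralizer_singleton_iff.2 hx.2.2.1

theorem pure_notMem : x ∉ Q := H.conj_notMem hx.1 hx.2.1

theorem pure_act_ne : ∃ u, act e x u + u ≠ 0 := by
  by_contra h
  push Not at h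
  exact H.pure_notMem hx (H.frame.mem_of_act (H.pure_mem hx) fun v => add_eq_zero_iff'.1 (h v))

theorem no_conj_xz {q : G} (h : q * x * q⁻¹ = x * z) : False :=
  hx.2.2.2 (h ▸ isConj_conj_left q hx.1)

theorem pure_tsinv : TSInv (act e x) where
  isom := H.frame.act_isom (H.pure_mem hx)
  inv v := by
    rw [← H.frame.act_mul (H.pure_mem hx) (H.pure_mem hx), H.conj_sq hx.1, H.frame.act_one]
  ts v := by
    have S := H.frame
    have hm := H.pure_mem hx
    have hx2 := H.conj_sq hx.1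
    have hxi : x⁻¹ = x := inv_eq_of_mul_eq_one_right hx2
    obtain ⟨k, hk⟩ := comm_el S hm hx2 v
    set c := el e v 0 * x * (el e v 0)⁻¹ * x with hc
    refine (z2_cases _).resolve_right fun h1 => H.no_conj_xz hx (q := c) ?_
    have hcc : c * c = z := by rw [hk, S.el_sq, h1, S.el_one]
    have hci : x * c * x = c⁻¹ := by
      rw [hc, show x * (el e v 0 * x * (el e v 0)⁻¹ * x) * x = x * el e v 0 * x * (el e v 0)⁻¹ * (x * x) by
        group, hx2, mul_one, _root_.mul_inv_rev, _root_.mul_inv_rev, _root_.mul_inv_rev, inv_inv, hxi]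
      group
    calc c * x * c⁻¹ = c * x * (x * c * x) := by rw [hci]
      _ = c * (x * x) * c * x := by group
      _ = z * x := by rw [hx2, mul_one, hcc]
      _ = x * z := hx.2.2.1.symm

theorem el_commute {v : Sp 4} (hv : act e x v = v) (k : ZMod 2) : el e v k * x = x * el e v k := by
  have S := H.frame
  obtain ⟨j, hj⟩ := S.conj_el (H.pure_mem hx) v k
  rw [hv] at hj
  by_cases hjk : j = k
  · rw [hjk] at hj; exact (mul_inv_eq_iff_eq_mul.1 hj).symm
  · exfalso
    have hj' : j = k + 1 := (by decide : ∀ j k : ZMod 2, j ≠ k → j = k + 1) j k hjk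
    rw [hj', S.el_add_one, mul_inv_eq_iff_eq_mul] at hj
    refine H.no_conj_xz hx (q := (el e v k)⁻¹) ?_
    rw [inv_inv, mul_assoc, hj, show (el e v k)⁻¹ * (el e v k * z * x) = z * x by group]
    exact hx.2.2.1.symm

theorem pure_conj {c : G} (hc : c ∈ centralizer ({z} : Set G)) : Pure z (c * x * c⁻¹) := by
  have hcz := conj_z H.frame hc
  refine ⟨isConj_conj_left c hx.1, fun h => hx.2.1 ?_, ?_, fun h => hx.2.2.2 ?_⟩
  · exact mul_left_cancel (a := c) (mul_right_cancel (b := c⁻¹) (h.trans hcz.symm))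
  · conv_lhs => rw [← hcz]
    conv_rhs => rw [← hcz]
    rw [show c * x * c⁻¹ * (c * z * c⁻¹) = c * (x * z) * c⁻¹ by group, hx.2.2.1]; group
  · rw [show c * x * c⁻¹ * z = c * x * c⁻¹ * (c * z * c⁻¹) by rw [hcz],
      show c * x * c⁻¹ * (c * z * c⁻¹) = c * (x * z) * c⁻¹ by group] at h
    exact (isConj_conj_iff c).1 h

/-- Pure conjugates with the same action are conjugate under `Q`. -/
theorem orbit {y : G} (hy : Pure z y) (hact : ∀ v, act e y v = act e x v) :
    ∃ q ∈ Q, q * x * q⁻¹ = y := by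
  have S := H.frame
  have hm := H.pure_mem hx
  have hym := H.pure_mem hy
  have T := H.pure_tsinv hx
  have hx2 := H.conj_sq hx.1
  have hxy : x * y ∈ Q := S.mem_of_act (mul_mem hm hym) fun v => by
    rw [S.act_mul hm hym, hact, T.inv]
  obtain ⟨h, k, hk⟩ := Setup.exists_el (e := e) hxy
  have hyx : y = x * el e h k := by rw [← hk, ← mul_assoc, hx2, one_mul]
  have hfix : act e x h = h := by
    have e1 : x * el e h k * x⁻¹ = (el e h k)⁻¹ := by
      rw [inv_eq_of_mul_eq_one_right hx2]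
      refine eq_inv_of_mul_eq_one_left ?_
      rw [mul_assoc, ← hyx]; exact H.conj_sq hy.1
    rw [el_inv S] at e1
    exact S.act_eq hm e1
  have hperp : ∀ v, act e x v = v → alt v h = 0 := by
    intro v hv
    have c1 := H.el_commute hx hv 0
    have c2 := H.el_commute hy (v := v) (by rw [hact, hv]) 0
    rw [hyx, ← mul_assoc, c1, mul_assoc, mul_assoc] at c2
    have c3 := mul_left_cancel c2
    rw [S.el_comm] at c3
    refine (z2_cases _).resolve_right fun h1 => S.pack.z_ne ?_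
    rw [h1, S.el_one] at c3
    exact mul_eq_right.1 c3
  obtain ⟨u, hu⟩ := mem_range T.isom T.inv hperp
  obtain ⟨j, hj⟩ := comm_el S hm hx2 u
  rw [hu] at hj
  have hq : el e u 0 * x * (el e u 0)⁻¹ = el e h j * x := by
    rw [← hj, mul_assoc, mul_assoc, mul_assoc, mul_assoc, hx2, mul_one]
  rw [H.el_commute hx hfix j] at hq
  by_cases hjk : j = k
  · exact ⟨el e u 0, Setup.el_mem u 0, by rw [hq, hjk, hyx]⟩
  · exfalso
    have hk' : k = j + 1 := (by decide : ∀ k j : ZMod 2, ¬ j = k → k = j + 1) k j hjk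
    refine hy.2.2.2 ?_
    rw [hyx, hk', S.el_add_one, ← mul_assoc, mul_assoc _ z z, S.pack.z_mul_z, mul_one, ← hq]
    exact isConj_conj_left _ hx.1

end PureLemmas

theorem pure_symm {g : G} (hx : Pure z (g * z * g⁻¹)) : Pure z (g⁻¹ * z * g) := by
  obtain ⟨-, hne, hc, hp⟩ := hx
  refine ⟨isConj_iff.2 ⟨g⁻¹, by rw [inv_inv]⟩, fun h => hne ?_, ?_, fun h => hp ?_⟩
  · conv_lhs => rw [← h]
    group
  · rw [show g⁻¹ * z * g * z = g⁻¹ * (z * (g * z * g⁻¹)) * g by group, ← hc]; group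
  · have := isConj_conj_left g h
    rwa [show g * (g⁻¹ * z * g * z) * g⁻¹ = z * (g * z * g⁻¹) by group, ← hc] at this

/-- An element of `Qc` commuting with `z` whose product with `z` is a conjugate gives a pure pair. -/
theorem pure_of_prod {g j : G} (hj : j ∈ Qc Q g) (hjz : j * z = z * j) (hc : IsConj z (j * z))
    (hj1 : j ≠ 1) (hjx : j ≠ g * z * g⁻¹) : Pure z (j * z) := by
  have hjzz : j * z * z = j := by rw [mul_assoc, H.frame.pack.z_mul_z, mul_one]
  refine ⟨hc, fun h => hj1 (mul_eq_right.1 h), ?_, fun h => hjx (H.eq_of_mem_Qc hj ?_)⟩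
  · rw [hjzz, ← mul_assoc, ← hjz, hjzz]
  · rwa [hjzz] at h

/-- The element of `Qc` attached to a singular commutator on the other side. -/
theorem exists_J {g : G} (hx' : g⁻¹ * z * g ∈ centralizer ({z} : Set G)) {u : Sp 4}
    (hu : qd (act e (g⁻¹ * z * g) u + u) = 0) (hu0 : act e (g⁻¹ * z * g) u + u ≠ 0) :
    ∃ k, ∃ j, j = g * el e (act e (g⁻¹ * z * g) u + u) k * g⁻¹ ∧ j ∈ Qc Q g ∧ j * z = z * j ∧
      IsConj z (j * z) ∧ j ≠ 1 ∧ j ≠ g * z * g⁻¹ ∧ j * j = 1 ∧
      ∃ q ∈ Q, q * (g⁻¹ * z * g) * q⁻¹ = g⁻¹ * (j * z) * g := by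
  have S := H.frame
  obtain ⟨x', hdef⟩ : ∃ x', x' = g⁻¹ * z * g := ⟨_, rfl⟩
  rw [← hdef] at hx' hu hu0 ⊢
  have hx2 : x' * x' = 1 := by
    rw [hdef, show g⁻¹ * z * g * (g⁻¹ * z * g) = g⁻¹ * (z * z) * g by group, S.pack.z_mul_z]; group
  obtain ⟨k, hk⟩ := comm_el S hx' hx2 u
  set w := act e x' u + u
  set c := el e w k with hc
  have hcc : c * c = 1 := by rw [hc, S.el_sq, hu, Setup.el_zero]
  have hxi : x'⁻¹ = x' := inv_eq_of_mul_eq_one_right hx2
  have hci : x' * c * x' = c⁻¹ := by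
    rw [← hk, show x' * (el e u 0 * x' * (el e u 0)⁻¹ * x') * x' =
      x' * el e u 0 * x' * (el e u 0)⁻¹ * (x' * x') by group, hx2, mul_one, _root_.mul_inv_rev,
      _root_.mul_inv_rev, _root_.mul_inv_rev, inv_inv, hxi]
    group
  have hcx : c * x' = x' * c := by
    rw [inv_eq_of_mul_eq_one_right hcc] at hci
    conv_lhs => rw [← hci]
    rw [mul_assoc, hx2, mul_one]
  have hq : el e u 0 * x' * (el e u 0)⁻¹ = c * x' := by
    rw [← hk, mul_assoc, mul_assoc, mul_assoc, mul_assoc, hx2, mul_one]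
  have hjz : g * c * g⁻¹ * z = g * (c * x') * g⁻¹ := by rw [hdef]; group
  refine ⟨k, g * c * g⁻¹, rfl, mem_Qc.2 (by simpa [mul_assoc] using Setup.el_mem (e := e) w k),
    ?_, ?_, ?_, ?_, ?_, el e u 0, Setup.el_mem u 0, ?_⟩
  · rw [hjz, hcx, hdef]; group
  · rw [hjz, ← hq]
    exact isConj_conj_left g (isConj_conj_left _ (isConj_iff.2 ⟨g⁻¹, by rw [inv_inv, hdef]⟩))
  · intro h
    refine hu0 (Setup.el_inj (e := e) (c := k) (d := 0) ?_).1
    rw [Setup.el_zero]
    exact conj_eq_one_iff.1 h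
  · intro h
    refine hu0 (Setup.el_inj (e := e) (c := k) (d := 1) ?_).1
    rw [S.el_one]
    exact mul_left_cancel (mul_right_cancel h)
  · rw [show g * c * g⁻¹ * (g * c * g⁻¹) = g * (c * c) * g⁻¹ by group, hcc]; group
  · rw [hjz, hq]; group

/-- There is a pure pair as soon as `z` commutes with another conjugate. -/
theorem exists_pure {g : G} (hne : g * z * g⁻¹ ≠ z) (hc : g * z * g⁻¹ * z = z * (g * z * g⁻¹)) :
    ∃ x, Pure z x := by
  have S := H.frame
  have hx' : g⁻¹ * z * g ∈ centralizer ({z} : Set G) := mem_centralizer_singleton_iff.2 (by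
    rw [show g⁻¹ * z * g * z = g⁻¹ * (z * (g * z * g⁻¹)) * g by group, ← hc]; group)
  have hcj : IsConj z (g⁻¹ * z * g) := isConj_iff.2 ⟨g⁻¹, by rw [inv_inv]⟩
  have hne' : g⁻¹ * z * g ≠ z := fun h => hne (by
    conv_lhs => rw [← h]
    group)
  obtain ⟨u, hu, hu0⟩ := exists_singular S hx' (H.conj_sq hcj) (H.conj_notMem hcj hne')
  obtain ⟨k, j, -, hj, hjz, hjc, hj1, hjx, -, -⟩ := H.exists_J hx' hu hu0
  exact ⟨_, H.pure_of_prod hj hjz hjc hj1 hjx⟩

section Meet

variable {g : G} (hx : Pure z (g * z * g⁻¹))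
include hx

theorem z_notMem_Qc : z ∉ Qc Q g := fun h => hx.2.1 (H.eq_of_mem_Qc h (IsConj.refl z)).symm

theorem commute_x {a : G} (ha : a ∈ Qc Q g) : a * (g * z * g⁻¹) = g * z * g⁻¹ * a :=
  (H.frame.pack.map g).comm_z ha

/-- The vectors of the meet. -/
def Dv (e : ↥Q ≃* ES 4 (ff 4)) (g : G) (v : Sp 4) : Prop := ∃ k, el e v k ∈ Qc Q g

theorem dv_fix {v : Sp 4} (h : Dv e g v) : act e (g * z * g⁻¹) v = v := by
  obtain ⟨k, hk⟩ := h
  exact H.frame.act_eq (H.pure_mem hx) (k := k) (k' := k)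
    (mul_inv_eq_iff_eq_mul.2 (H.commute_x hx hk).symm)

theorem dv_qd {v : Sp 4} (h : Dv e g v) : qd v = 0 := by
  obtain ⟨k, hk⟩ := h
  refine (z2_cases _).resolve_right fun h1 => H.z_notMem_Qc hx ?_
  have := mul_mem hk hk
  rwa [H.frame.el_sq, h1, H.frame.el_one] at this

theorem dv_zero : Dv e g 0 := ⟨0, by rw [Setup.el_zero]; exact one_mem _⟩

theorem dv_add {v w : Sp 4} (hv : Dv e g v) (hw : Dv e g w) : Dv e g (v + w) := by
  obtain ⟨k, hk⟩ := hv
  obtain ⟨l, hl⟩ := hw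
  exact ⟨_, Setup.el_mul (e := e) v w k l ▸ mul_mem hk hl⟩

theorem dv_perp {v w : Sp 4} (hv : Dv e g v) (hw : Dv e g w) : alt v w = 0 := by
  have h := H.dv_qd hx (H.dv_add hx hv hw)
  rwa [qd_add, H.dv_qd hx hv, H.dv_qd hx hw, zero_add, zero_add] at h

theorem el_eq_of_dv {v : Sp 4} {k l : ZMod 2} (hk : el e v k ∈ Qc Q g) (hl : el e v l ∈ Qc Q g) :
    k = l := by
  by_contra hne
  refine H.z_notMem_Qc hx ?_
  have := mul_mem (inv_mem hk) hl
  rwa [(by decide : ∀ k l : ZMod 2, ¬ k = l → l = k + 1) k l hne, H.frame.el_add_one, ← mul_assoc,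
    inv_mul_cancel, one_mul] at this

theorem meet_card_le {s : Finset (Sp 4)} (hs : ∀ v, Dv e g v → v ∈ s) :
    Nat.card ↥(Q ⊓ Qc Q g) ≤ s.card := by
  have hmem : ∀ a : ↥(Q ⊓ Qc Q g), pi e (a : G) ∈ s := fun a => by
    obtain ⟨v, k, hv⟩ := Setup.exists_el (e := e) a.2.1
    rw [hv, Setup.pi_el]
    exact hs v ⟨k, hv ▸ a.2.2⟩
  rw [← Nat.card_eq_finsetCard]
  refine Nat.card_le_card_of_injective (fun a => (⟨pi e (a : G), hmem a⟩ : ↥s)) fun a b h => ?_
  obtain ⟨v, k, hv⟩ := Setup.exists_el (e := e) a.2.1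
  obtain ⟨w, l, hw⟩ := Setup.exists_el (e := e) b.2.1
  have h' : pi e (a : G) = pi e (b : G) := congrArg Subtype.val h
  rw [hv, hw, Setup.pi_el, Setup.pi_el] at h'
  subst h'
  have hk : el e v k ∈ Qc Q g := hv ▸ a.2.2
  have hl : el e v l ∈ Qc Q g := hw ▸ b.2.2
  exact Subtype.ext (by rw [hv, hw, H.el_eq_of_dv hx hk hl])

/-- Elements of `Qc` commuting with `z` fix the meet. -/
theorem dv_fixed {a : G} (ha : a ∈ Qc Q g) (haz : a ∈ centralizer ({z} : Set G)) {v : Sp 4}
    (hv : Dv e g v) : act e a v = v := by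
  obtain ⟨k, hk⟩ := hv
  rcases (H.frame.pack.map g).conj_cases ha hk with h | h
  · exact H.frame.act_eq haz h
  · exfalso
    refine H.pure_notMem hx ?_
    have := mul_mem (H.frame.conj_mem haz (Setup.el_mem (e := e) v k))
      (inv_mem (Setup.el_mem (e := e) v k))
    rwa [h, mul_inv_cancel_right] at this

/-- Elements of `Qc` commuting with `z` move fixed vectors by the meet. -/
theorem dv_move {a : G} (ha : a ∈ Qc Q g) (haz : a ∈ centralizer ({z} : Set G)) {v : Sp 4}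
    (hv : act e (g * z * g⁻¹) v = v) : Dv e g (act e a v + v) := by
  have S := H.frame
  have hn := (S.pack.map g).norm (mem_centralizer_singleton_iff.2 (H.el_commute hx hv 0))
  have h1 : a * el e v 0 * a⁻¹ * (el e v 0)⁻¹ ∈ Qc Q g := by
    rw [mul_assoc, mul_assoc, ← mul_assoc (el e v 0)]
    exact mul_mem ha ((mem_normalizer_iff.1 hn a⁻¹).1 (inv_mem ha))
  obtain ⟨j, hj⟩ := S.conj_el haz v 0
  rw [hj, el_inv S, Setup.el_mul] at h1
  exact ⟨_, h1⟩

/-- An element inducing a map commuting with the action of `x` can be chosen centralising `x`. -/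
theorem cover {c : G} (hc : c ∈ centralizer ({z} : Set G))
    (hcomm : ∀ v, act e c (act e (g * z * g⁻¹) v) = act e (g * z * g⁻¹) (act e c v)) :
    ∃ c' ∈ centralizer ({z} : Set G), c' * (g * z * g⁻¹) = g * z * g⁻¹ * c' ∧
      ∀ v, act e c' v = act e c v := by
  have S := H.frame
  set x := g * z * g⁻¹
  have hm := H.pure_mem hx
  obtain ⟨q, hq, hqx⟩ := H.orbit hx (H.pure_conj hx hc) fun v => by
    rw [S.act_mul (mul_mem hc hm) (inv_mem hc), S.act_mul hc hm, hcomm, act_inv_right S hc]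
  refine ⟨q⁻¹ * c, mul_mem (inv_mem (S.pack.mem_centralizer_z hq)) hc, ?_, fun v => by
    rw [S.act_mul (inv_mem (S.pack.mem_centralizer_z hq)) hc, S.act_mem (inv_mem hq)]⟩
  calc q⁻¹ * c * x = q⁻¹ * (c * x * c⁻¹) * c := by group
    _ = q⁻¹ * (q * x * q⁻¹) * c := by rw [hqx]
    _ = x * (q⁻¹ * c) := by group

theorem dv_invariant {c : G} (hc : c ∈ centralizer ({z} : Set G))
    (hcomm : ∀ v, act e c (act e (g * z * g⁻¹) v) = act e (g * z * g⁻¹) (act e c v)) {v : Sp 4}
    (hv : Dv e g v) : Dv e g (act e c v) := by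
  obtain ⟨c', hc', hcx, hact⟩ := H.cover hx hc hcomm
  obtain ⟨k, hk⟩ := hv
  obtain ⟨j, hj⟩ := H.frame.conj_el hc' v k
  refine ⟨j, ?_⟩
  rw [← hact, ← hj]
  exact (mem_normalizer_iff.1 ((H.frame.pack.map g).norm (mem_centralizer_singleton_iff.2 hcx)) _).1 hk

/-- Siegel maps commuting with the action preserve the meet. -/
theorem dv_tau {a b : Sp 4} (ha : qd a = 0) (hb : qd b = 0) (hab : alt a b = 0)
    (hcomm : ∀ v, tau a b (act e (g * z * g⁻¹) v) = act e (g * z * g⁻¹) (tau a b v)) {v : Sp 4}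
    (hv : Dv e g v) : Dv e g (tau a b v) := by
  obtain ⟨c, hc, hct⟩ := H.frame.evenP.tau4 ha hb hab
  rw [← hct]
  exact H.dv_invariant hx hc (fun w => by rw [hct, hct, hcomm]) hv

/-- The centraliser of `z` in `Qc`. -/
theorem cent_card : Nat.card ↥(Qc Q g ⊓ centralizer ({z} : Set G)) =
    2 * Nat.card ↥(dHom (H.pure_tsinv (H.pure_symm hx)).isom).ker := by
  have S := H.frame
  have hx' := H.pure_symm hx
  set x' := g⁻¹ * z * g with hdef
  have hback : ∀ a : G, a * x' = x' * a ↔ g * a * g⁻¹ * z = z * (g * a * g⁻¹) := fun a => by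
    rw [hdef]
    constructor
    · intro h
      have h2 := congrArg (fun y => g * y * g⁻¹) h
      simpa [mul_assoc] using h2
    · intro h
      have h2 := congrArg (fun y => g⁻¹ * y * g) h
      simpa [mul_assoc] using h2
  refine Eq.trans ?_ (show Nat.card (ZMod 2 × ↥(dHom (H.pure_tsinv hx').isom).ker) = _ by
    rw [Nat.card_prod, Nat.card_zmod])
  refine (Nat.card_eq_of_bijective (fun p : ZMod 2 × ↥(dHom (H.pure_tsinv hx').isom).ker =>
    (⟨g * el e p.2.1 p.1 * g⁻¹, mem_Qc.2 (by simpa [mul_assoc] using Setup.el_mem (e := e) p.2.1 p.1),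
      mem_centralizer_singleton_iff.2 ((hback _).1 (H.el_commute hx' ((mem_ker _).1 p.2.2) p.1))⟩ :
      ↥(Qc Q g ⊓ centralizer ({z} : Set G)))) ⟨fun p q h => ?_, fun a => ?_⟩).symm
  · obtain ⟨h1, h2⟩ := Setup.el_inj (e := e)
      (mul_left_cancel (mul_right_cancel (congrArg Subtype.val h)))
    exact Prod.ext h2 (Subtype.ext h1)
  · obtain ⟨v, k, hv⟩ := Setup.exists_el (e := e) (mem_Qc.1 a.2.1)
    have ha : g * el e v k * g⁻¹ = (a : G) := by rw [← hv]; group
    have hcm : el e v k * x' = x' * el e v k :=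
      (hback _).2 (by rw [ha]; exact mem_centralizer_singleton_iff.1 a.2.2)
    exact ⟨(k, ⟨v, (mem_ker _).2 (S.act_eq (H.pure_mem hx') (k := k) (k' := k)
      (mul_inv_eq_iff_eq_mul.2 hcm.symm))⟩), Subtype.ext ha⟩

end Meet

end Hyp

end CfsgLib.ClassK.Conway.WC
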