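import Cfsg.Agent.Lib.ClassK.ConwayWCFull
import Cfsg.Agent.Lib.Comp.PConstrained
import Cfsg.Agent.Lib.Invol.BrauerSuzuki
import Cfsg.Agent.Lib.Trans3.LargeLinear
import Cfsg.Prelude.Def_Classical

/-!
From "trivial odd core and centre, a 2-constrained centraliser of shape `2^{1+8}.Ω⁺₈(2)`" to the
hypotheses of a group of Conway type.
-/

set_option autoImplicit false
set_option linter.unusedSectionVars false
set_option linter.style.haveILetI false

namespace CfsgLib.ClassK.Conway.WC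

open Subgroup CfsgLib.Trans3.ExtraTwo CfsgLib.ClassK.Conway CfsgLib.PLocal.LargeExtra CfsgLib.Classical

local notation "Q₈" => Cfsg.quadFormPlus 4 (ZMod 2)

theorem omega8plus_simple : IsSimpleGroup ↥(Cfsg.Omega (ZMod 2) Q₈) := by
  rw [← qfPlus_coe]
  have hc : Subgroup.center ↥(Cfsg.Omega (ZMod 2) (⇑(qfPlus 4 (ZMod 2)))) = ⊥ :=
    Subgroup.eq_bot_of_card_eq _ (card_center_omega_one _ (qfPlus_sep 4) (by simp)
      (Or.inl (by decide)))
  have h : IsSimpleGroup (↥(Cfsg.Omega (ZMod 2) (⇑(qfPlus 4 (ZMod 2)))) ⧸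
      Subgroup.center ↥(Cfsg.Omega (ZMod 2) (⇑(qfPlus 4 (ZMod 2))))) :=
    isSimpleGroup_pOmega _ (qfPlus_sep 4) (by simp)
  exact ((QuotientGroup.quotientMulEquivOfEq hc).trans QuotientGroup.quotientBot).symm.isSimpleGroup

/-- With quotient `Ω⁺₈(2)` by the 2-core, a 2-constrained group has `F* = O₂`. -/
theorem fstar_eq_of_constrained {C : Type*} [Group C] [Finite C] (hcon : Cfsg.IsPConstrained 2 C)
    [(Cfsg.pCore 2 C).Normal] (e : C ⧸ Cfsg.pCore 2 C ≃* ↥(Cfsg.Omega (ZMod 2) Q₈)) :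
    Cfsg.generalizedFittingSubgroup C = Cfsg.pCore 2 C := by
  haveI : Fact (Nat.Prime 2) := ⟨Nat.prime_two⟩
  haveI := omega8plus_simple
  set f : C →* ↥(Cfsg.Omega (ZMod 2) Q₈) := e.toMonoidHom.comp (QuotientGroup.mk' _) with hf
  have hfs : Function.Surjective f := e.surjective.comp (QuotientGroup.mk'_surjective _)
  have hker : f.ker = Cfsg.pCore 2 C := by
    rw [hf]; ext a
    simp
  have hO : Cfsg.pPrimeCore 2 C = ⊥ := by
    have hn : ((Cfsg.pPrimeCore 2 C).map f).Normal := (Cfsg.pPrimeCore_normal 2 C).map _ hfs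
    rcases hn.eq_bot_or_eq_top with h | h
    · rw [Subgroup.map_eq_bot_iff, hker] at h
      have h1 := CfsgLib.Comp.inf_eq_bot_of_isPGroup (CfsgLib.Comp.isPGroup_pCore 2 C)
        (CfsgLib.Comp.coprime_card_pPrimeCore 2 C)
      rwa [inf_eq_right.2 h] at h1
    · exfalso
      have h1 := Subgroup.card_map_dvd (Cfsg.pPrimeCore 2 C) f
      rw [h, Subgroup.card_top, card_omega8plus] at h1
      have h2 := (CfsgLib.Comp.coprime_card_pPrimeCore 2 C).coprime_dvd_left h1
      norm_num at h2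
  rw [CfsgLib.Comp.generalizedFitting_eq_pCore_iff]
  have hbij : Function.Bijective (QuotientGroup.mk' (Cfsg.pPrimeCore 2 C)) :=
    ⟨(MonoidHom.ker_eq_bot_iff _).1 (by rw [QuotientGroup.ker_mk', hO]),
      QuotientGroup.mk'_surjective _⟩
  let E : C ≃* C ⧸ Cfsg.pPrimeCore 2 C := MulEquiv.ofBijective _ hbij
  have hq := (CfsgLib.Comp.isPConstrained_iff 2 C).1 hcon
  have hmap : (Cfsg.pCore 2 C).map E.toMonoidHom = Cfsg.pCore 2 (C ⧸ Cfsg.pPrimeCore 2 C) := by
    refine le_antisymm ?_ ?_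
    · exact CfsgLib.Amalgam.le_pCore (Subgroup.Normal.map inferInstance _ E.surjective)
        ((CfsgLib.Comp.isPGroup_pCore 2 C).map _)
    · intro y hy
      obtain ⟨a, rfl⟩ := E.surjective y
      refine ⟨a, ?_, rfl⟩
      have := CfsgLib.Amalgam.le_pCore (p := 2)
        (Subgroup.Normal.comap (CfsgLib.Solvable.pCore_normal 2 (C ⧸ Cfsg.pPrimeCore 2 C)) E.toMonoidHom)
        ((CfsgLib.Comp.isPGroup_pCore 2 (C ⧸ Cfsg.pPrimeCore 2 C)).comap_of_injective _ E.injective)
      exact this hy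
  intro a ha
  have h := hq (x := E a) (mem_centralizer_iff.2 fun y hy => by
    rw [← hmap] at hy
    obtain ⟨b, hb, rfl⟩ := hy
    show E b * E a = E a * E b
    rw [← map_mul, ← map_mul, mem_centralizer_iff.1 ha b hb])
  rw [← hmap] at h
  obtain ⟨b, hb, hbe⟩ := h
  rwa [← E.injective hbe]

variable {G : Type*} [Group G] [Finite G]

/-- The hypotheses of a group of Conway type. -/
theorem conwayType_of_constrained (hO : Cfsg.oddCore G = ⊥) (hZ : Subgroup.center G = ⊥) (z : G)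
    (hz : orderOf z = 2) (hcon : Cfsg.IsPConstrained 2 (centralizer ({z} : Set G)))
    (hQ : Cfsg.IsExtraspecial 2 (Cfsg.pCore 2 (centralizer ({z} : Set G))))
    (hcard : Nat.card (Cfsg.pCore 2 (centralizer ({z} : Set G))) = 2 ^ 9)
    [(Cfsg.pCore 2 (centralizer ({z} : Set G))).Normal]
    (e : (centralizer ({z} : Set G)) ⧸ Cfsg.pCore 2 (centralizer ({z} : Set G)) ≃*
      ↥(Cfsg.Omega (ZMod 2) Q₈)) :
    Cfsg.generalizedFittingSubgroup (centralizer ({z} : Set G)) =
        Cfsg.pCore 2 (centralizer ({z} : Set G)) ∧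
      ∃ g : G, (∃ hq : g * z * g⁻¹ ∈ centralizer ({z} : Set G),
        (⟨g * z * g⁻¹, hq⟩ : centralizer ({z} : Set G)) ∈ Cfsg.pCore 2 (centralizer ({z} : Set G))) ∧
        g * z * g⁻¹ ≠ z := by
  have hF := fstar_eq_of_constrained hcon e
  refine ⟨hF, ?_⟩
  let C := centralizer ({z} : Set G)
  let Q0 := Cfsg.pCore 2 C
  let QG : Subgroup G := Q0.map C.subtype
  have hQC : QG ≤ C := Subgroup.map_subtype_le _
  have hsub : QG.subgroupOf C = Q0 := Subgroup.comap_map_eq_self_of_injective C.subtype_injective _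
  let eq : ↥Q0 ≃* ↥QG := Q0.equivMapOfInjective _ C.subtype_injective
  have hpack := CfsgLib.PLocal.LargeExtra.pack_of_fstar hz hQC (by rw [hF])
    (CfsgLib.Trans3.LargeLinear.isExtraspecial_of_equiv eq hQ)
  haveI : (QG.subgroupOf C).Normal := by rw [hsub]; infer_instance
  obtain ⟨ei, S⟩ := exists_frame hpack hQC
    (by rw [← hcard]; exact (Nat.card_congr eq.toEquiv).symm)
    (by rw [hsub, Subgroup.index_eq_card, Nat.card_congr e.toEquiv, card_omega8plus])
  by_contra hcon'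
  push Not at hcon'
  have H : Hyp z QG ei := ⟨S, fun g hg => by
    obtain ⟨⟨a, ha⟩, hmem, rfl⟩ := hg
    exact hcon' g ⟨ha, hmem⟩⟩
  -- `z` is isolated, hence central
  have hiso : Cfsg.IsIsolatedInvolution z := ⟨hz, fun g hg => H.isolated hg.eq.symm⟩
  have hcen : z ∈ Subgroup.center G := Subgroup.mem_center_iff.2 fun g => by
    have h := CfsgLib.Invol.zstar G hiso g
    rw [hO, Subgroup.mem_bot, mul_inv_eq_one, mul_inv_eq_iff_eq_mul] at h
    exact h.symm
  rw [hZ, Subgroup.mem_bot] at hcen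
  rw [hcen, orderOf_one] at hz
  exact absurd hz (by norm_num)

end CfsgLib.ClassK.Conway.WC
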