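import Cfsg.Agent.Lib.ClassK.ConwayWCPure
import Cfsg.Agent.Lib.ClassK.ConwayWCKey

/-!
No pure conjugate acts as a single Siegel map.
-/

set_option autoImplicit false
set_option maxRecDepth 20000
set_option linter.unusedSectionVars false

namespace CfsgLib.ClassK.Conway.WC

open Subgroup CfsgLib.Trans3.ExtraTwo CfsgLib.ClassK.Conway CfsgLib.PLocal.LargeExtra

theorem fix_std : ∀ v, tau e0 e1 v = v ↔ (alt v e0 = 0 ∧ alt v e1 = 0) := by decide +kernel

theorem co_add : ∀ p q : P2, p.1 • e0 + p.2 • e1 + (q.1 • e0 + q.2 • e1) =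
    (p + q).1 • e0 + (p + q).2 • e1 := fun p q => by
  simp only [Prod.fst_add, Prod.snd_add, add_smul]; abel

theorem co_add' (v w : Sp 4) : co (v + w) = co v + co w := by
  simp [co, alt_add_left]

theorem co_line : ∀ p : P2, co (p.1 • e0 + p.2 • e1) = p ∧
    (p.1 • e0 + p.2 • e1 = 0 ∨ p.1 • e0 + p.2 • e1 = e0 ∨ p.1 • e0 + p.2 • e1 = e1 ∨
      p.1 • e0 + p.2 • e1 = e0 + e1) := by decide +kernel

theorem phi_zero (h : Sp 4) : phi 0 h = 0 := by
  simp [phi]

theorem isom_smul {f : Sp 4 → Sp 4} (hf : Isom f) (c : ZMod 2) (v : Sp 4) : f (c • v) = c • f v := by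
  rcases z2_cases c with rfl | rfl
  · rw [zero_smul, zero_smul, hf.map_zero]
  · rw [one_smul, one_smul]

/-- An isometry fixing `e0, e1` and moving the middle space into their line is given by coordinates. -/
theorem phi_of {b : Sp 4 → Sp 4} (hb : Isom b) (h0 : b e0 = e0) (h1 : b e1 = e1)
    (hline : ∀ i, b (hk i) + hk i = 0 ∨ b (hk i) + hk i = e0 ∨ b (hk i) + hk i = e1 ∨
      b (hk i) + hk i = e0 + e1) {h : Sp 4} (ha : alt h e0 = 0) (hb' : alt h e1 = 0) :
    b h + h = phi (fun i => co (b (hk i) + hk i)) h := by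
  have hd : ∀ u w, b (u + w) + (u + w) = (b u + u) + (b w + w) := fun u w => by
    rw [hb.map_add]; abel
  have hs : ∀ (c : ZMod 2) u, b (c • u) + c • u = c • (b u + u) := fun c u => by
    rw [isom_smul hb, smul_add]
  conv_lhs => rw [decompose h ha hb']
  simp only [hd, hs, h0, h1, sp_add_self, smul_zero, zero_add]
  rw [phi, ← line_cases _ (hline 0), ← line_cases _ (hline 1), ← line_cases _ (hline 2),
    ← line_cases _ (hline 3)]

variable {G : Type*} [Group G] [Finite G] {z : G} {Q : Subgroup G} {e : ↥Q ≃* ES 4 (ff 4)}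

theorem card_Qc (e : ↥Q ≃* ES 4 (ff 4)) (g : G) : Nat.card ↥(Qc Q g) = 512 := by
  rw [Subgroup.card_map_of_injective (MulEquiv.injective _), Nat.card_congr e.toEquiv, card_ES]
  norm_num

namespace Hyp

variable (H : Hyp z Q e)
include H

theorem no_std {g : G} (hx : Pure z (g * z * g⁻¹))
    (ht : ∀ v, act e (g * z * g⁻¹) v = tau e0 e1 v) : False := by
  classical
  have S := H.frame
  have hxm := H.pure_mem hx
  have hgm : ∀ i d, Dv e g d → Dv e g (gm i d) := fun i d hd =>
    H.dv_tau hx (gp_facts i).1 (gp_facts i).2.1 (gp_facts i).2.2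
      (fun v => by rw [ht, ht]; exact gm_comm i v) hd
  -- the meet lies on the line
  have hline : ∀ d, Dv e g d → d = 0 ∨ d = e0 ∨ d = e1 ∨ d = e0 + e1 := by
    intro d hd
    obtain ⟨ha, hb⟩ := (fix_std d).1 (by rw [← ht]; exact H.dv_fix hx hd)
    rcases escape d ha hb (H.dv_qd hx hd) with h | h | h | h | ⟨i, h⟩ | ⟨i, j, h⟩
    · exact Or.inl h
    · exact Or.inr (Or.inl h)
    · exact Or.inr (Or.inr (Or.inl h))
    · exact Or.inr (Or.inr (Or.inr h))
    · rw [H.dv_perp hx hd (hgm i d hd)] at h; exact absurd h zero_ne_one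
    · rw [H.dv_perp hx hd (hgm i _ (hgm j d hd))] at h; exact absurd h zero_ne_one
  -- elements of `Qc` commuting with `z`
  let P : Subgroup G := Qc Q g ⊓ centralizer ({z} : Set G)
  have hfix : ∀ a ∈ P, act e a e0 = e0 ∧ act e a e1 = e1 := by
    intro a ha
    by_cases h : ∃ d, Dv e g d ∧ d ≠ 0
    · obtain ⟨d, hd, hd0⟩ := h
      have hd' : d ∈ [e0, e1, e0 + e1] := by
        rcases hline d hd with h | h | h | h
        · exact absurd h hd0
        all_goals simp [h]
      obtain ⟨i, hi⟩ := line_spread.2 d hd'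
      have h0 : Dv e g e0 := by
        have hd1 : Dv e g (gm i d + d) := H.dv_add hx (hgm i d hd) hd
        rcases hi with h | h | h
        · rwa [h] at hd1
        · have := H.dv_add hx (hgm i _ hd1) hd
          rwa [h] at this
        · rwa [h] at hd
      have h1 : Dv e g e1 := by
        have h01 := hgm 1 e0 h0
        rw [line_spread.1.2] at h01
        have := H.dv_add hx h0 h01
        rwa [← add_assoc, sp_add_self, zero_add] at this
      exact ⟨H.dv_fixed hx ha.1 ha.2 h0, H.dv_fixed hx ha.1 ha.2 h1⟩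
    · push Not at h
      have key : ∀ v, tau e0 e1 v = v → act e a v = v := fun v hv =>
        add_eq_zero_iff'.1 (h _ (H.dv_move hx ha.1 ha.2 (by rw [ht, hv])))
      exact ⟨key e0 ((fix_std e0).2 ⟨alt_self _, basics.2.2.1⟩),
        key e1 ((fix_std e1).2 ⟨by rw [alt_comm]; exact basics.2.2.1, alt_self _⟩)⟩
  have hmove : ∀ a ∈ P, ∀ h, tau e0 e1 h = h → act e a h + h = 0 ∨ act e a h + h = e0 ∨
      act e a h + h = e1 ∨ act e a h + h = e0 + e1 := fun a ha h hh =>
    hline _ (H.dv_move hx ha.1 ha.2 (by rw [ht, hh]))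
  let key : G → Sp 4 := fun a i => co (act e a (hk i) + hk i)
  have hphi : ∀ a ∈ P, ∀ h, tau e0 e1 h = h → act e a h + h = phi (key a) h := fun a ha h hh =>
    phi_of (S.act_isom ha.2) (hfix a ha).1 (hfix a ha).2 (fun i => hmove a ha _ (hk_fix i))
      ((fix_std h).1 hh).1 ((fix_std h).1 hh).2
  have hkadd : ∀ a ∈ P, ∀ a' ∈ P, key (a * a') = key a + key a' := by
    intro a ha a' ha'
    funext i
    show co _ = co _ + co _
    rw [← co_add', S.act_mul ha.2 ha'.2]
    congr 1
    obtain ⟨d, hd⟩ : ∃ d, d = act e a' (hk i) + hk i := ⟨_, rfl⟩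
    have e1' : act e a' (hk i) = hk i + d := by
      rw [hd, ← add_assoc, add_comm (hk i), add_assoc, sp_add_self, add_zero]
    have had : act e a d = d := by
      have hI := S.act_isom ha.2
      rcases (hd ▸ hmove a' ha' _ (hk_fix i) : d = 0 ∨ d = e0 ∨ d = e1 ∨ d = e0 + e1) with
        h | h | h | h <;> subst h
      · exact hI.map_zero
      · exact (hfix a ha).1
      · exact (hfix a ha).2
      · rw [hI.map_add, (hfix a ha).1, (hfix a ha).2]
    rw [e1', (S.act_isom ha.2).map_add, had]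
    calc act e a (hk i) + d + hk i = act e a (hk i) + hk i + d := by abel
      _ = act e a (hk i) + hk i + (hk i + d + hk i) := by
        rw [show hk i + d + hk i = hk i + hk i + d by abel, sp_add_self, zero_add]
  have hkx : key (g * z * g⁻¹) = 0 := by
    funext i
    show co _ = 0
    rw [ht, hk_fix, sp_add_self]
    simp [co, alt_zero_left]
  have hxP : g * z * g⁻¹ ∈ P :=
    ⟨mem_Qc.2 (by simpa [mul_assoc] using S.pack.mem), hxm⟩
  have hclosed : Closed fun k => ∃ a ∈ P, key a = k := by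
    refine ⟨fun k k' ⟨a, ha, hak⟩ ⟨a', ha', hak'⟩ => ⟨a * a', mul_mem ha ha', by
      rw [hkadd a ha a' ha', hak, hak']⟩, ?_⟩
    rintro i k ⟨a, ha, rfl⟩
    obtain ⟨c, hc, hct⟩ := S.evenP.tau4 (gp_facts i).1 (gp_facts i).2.1 (gp_facts i).2.2
    obtain ⟨c', hc', hcx, hact⟩ := H.cover hx hc fun v => by
      rw [hct, hct, ht, ht]; exact gm_comm i v
    have hg' : ∀ v, act e c' v = gm i v := fun v => by rw [hact, hct]; rfl
    have hg'' : ∀ v, act e c'⁻¹ v = gm i v := fun v => by
      have := congrArg (gm i) (act_inv_right S hc' v)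
      rwa [hg', gm_inv] at this
    refine ⟨c' * a * c'⁻¹, ⟨?_, (centralizer ({z} : Set G)).mul_mem
      ((centralizer ({z} : Set G)).mul_mem hc' ha.2) ((centralizer ({z} : Set G)).inv_mem hc')⟩, ?_⟩
    · exact (mem_normalizer_iff.1
        ((S.pack.map g).norm (mem_centralizer_singleton_iff.2 hcx)) a).1 ha.1
    funext j
    show co _ = _
    rw [S.act_mul (mul_mem hc' ha.2) (inv_mem hc'), S.act_mul hc' ha.2, hg', hg'', ← op_eq,
      ← hphi a ha _ (gm_fixed i j)]
    congr 1
    have hI : Isom (gm i) := tau_isom (gp_facts i).1 (gp_facts i).2.1 (gp_facts i).2.2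
    rw [hI.map_add, gm_inv]
  -- some coordinates are non-zero
  obtain ⟨a₁, ha₁, hne₁⟩ : ∃ a ∈ P, key a ≠ 0 := by
    by_contra hcon
    push Not at hcon
    have hsub : ∀ a ∈ P, a ∈ Q ⊓ Qc Q g ∨ a * (g * z * g⁻¹) ∈ Q ⊓ Qc Q g := by
      intro a ha
      obtain ⟨hA, hB⟩ := hfix a ha
      have hI := S.act_isom ha.2
      have hkf : ∀ h, tau e0 e1 h = h → act e a h = h := fun h hh =>
        add_eq_zero_iff'.1 (by rw [hphi a ha h hh, hcon a ha, phi_zero])
      obtain ⟨p1, p2, p3, p4, q1, q2, q3, q4, pq, -, -, -⟩ := f_facts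
      have hext : ∀ f : Sp 4 → Sp 4, Isom f → f f0 = act e a f0 → f f1 = act e a f1 →
          (∀ h, tau e0 e1 h = h → f h = h) → ∀ v, act e a v = f v := by
        intro f hf hf0 hf1 hfh v
        obtain ⟨hv, hv0, hv1⟩ := split_all v
        have hh := (fix_std _).2 ⟨hv0, hv1⟩
        rw [hv, hI.map_add, hI.map_add, hf.map_add, hf.map_add, isom_smul hI, isom_smul hI,
          isom_smul hf, isom_smul hf, hf0, hf1, hkf _ hh, hfh _ hh]
      have hc := two_candidates (act e a f0)
        (by rw [← hA, hI.map_alt, p1]) (by rw [← hB, hI.map_alt, p2]) (by rw [hI.map_qd, p3])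
        (fun i => by rw [← hkf _ (hk_fix i), hI.map_alt, p4])
        (act e a f1) (by rw [← hB, hI.map_alt, q1]) (by rw [← hA, hI.map_alt, q2])
        (by rw [hI.map_qd, q3]) (fun i => by rw [← hkf _ (hk_fix i), hI.map_alt, q4])
        (by rw [hI.map_alt, pq])
      rcases hc with ⟨c0, c1⟩ | ⟨c0, c1⟩
      · refine Or.inl ⟨S.mem_of_act ha.2 fun v => ?_, ha.1⟩
        rw [hext id isom_id c0.symm c1.symm (fun _ _ => rfl) v]; rfl
      · refine Or.inr ⟨S.mem_of_act (mul_mem ha.2 hxm) fun v => ?_, mul_mem ha.1 hxP.1⟩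
        have hT := tau_isom basics.1 basics.2.1 basics.2.2.1
        rw [S.act_mul ha.2 hxm, ht, hext _ hT c0.symm c1.symm (fun _ h => h)]
        exact tau_tau basics.1 basics.2.1 basics.2.2.1 v
    have h4 : Nat.card ↥(Q ⊓ Qc Q g) ≤ 4 := by
      refine le_trans (H.meet_card_le hx (s := {0, e0, e1, e0 + e1}) fun d hd => ?_) ?_
      · rcases hline d hd with h | h | h | h <;> simp [h]
      · exact Finset.card_le_four
    have h8 : Nat.card ↥P ≤ 8 := by
      let f : ↥(Q ⊓ Qc Q g) × Bool → G := fun u => if u.2 then (u.1 : G) * (g * z * g⁻¹) else u.1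
      have hcov : (P : Set G) ⊆ Set.range f := by
        intro a ha
        rcases hsub a ha with h | h
        · exact ⟨(⟨a, h⟩, false), rfl⟩
        · refine ⟨(⟨_, h⟩, true), ?_⟩
          show a * (g * z * g⁻¹) * (g * z * g⁻¹) = a
          rw [mul_assoc, H.conj_sq hx.1, mul_one]
      calc Nat.card ↥P = (P : Set G).ncard := Nat.card_coe_set_eq _
        _ ≤ (Set.range f).ncard := Set.ncard_le_ncard hcov (Set.toFinite _)
        _ ≤ Nat.card (↥(Q ⊓ Qc Q g) × Bool) := by
          rw [← Nat.card_coe_set_eq]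
          exact Nat.card_le_card_of_surjective (fun u => (⟨f u, u, rfl⟩ : Set.range f))
            fun ⟨_, u, rfl⟩ => ⟨u, rfl⟩
        _ ≤ 8 := by rw [Nat.card_prod, show Nat.card Bool = 2 by simp]; omega
    have h32 : 32 ≤ Nat.card ↥P := by
      rw [H.cent_card hx]
      have := (H.pure_tsinv (H.pure_symm hx)).card_ker_ge
      omega
    omega
  -- hence all coordinates occur, each twice
  have hall : ∀ v, ∃ a ∈ P, key a = v := fun v => hclosed.all ⟨a₁, ha₁, rfl⟩ hne₁ v
  choose rep hrep hkey using hall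
  let F : Sp 4 × Bool → ↥P := fun u =>
    if u.2 then ⟨rep u.1 * (g * z * g⁻¹), mul_mem (hrep u.1) hxP⟩ else ⟨rep u.1, hrep u.1⟩
  have hF : Function.Injective F := by
    rintro ⟨v, b⟩ ⟨w, b'⟩ h
    have hk1 : ∀ (v : Sp 4) (b : Bool), key (F (v, b) : G) = v := fun v b => by
      cases b
      · exact hkey v
      · show key (rep v * (g * z * g⁻¹)) = v
        rw [hkadd _ (hrep v) _ hxP, hkx, add_zero, hkey]
    have hvw : v = w := by rw [← hk1 v b, ← hk1 w b', h]
    subst hvw
    have hx1 : g * z * g⁻¹ ≠ 1 := fun e' => S.pack.z_ne (conj_eq_one_iff.1 e')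
    have h' := congrArg Subtype.val h
    cases b <;> cases b'
    · rfl
    · exact absurd (left_eq_mul.1 h') hx1
    · exact absurd (mul_eq_left.1 h') hx1
    · rfl
  have h512 : 512 ≤ Nat.card ↥P := by
    have := Nat.card_le_card_of_injective F hF
    rwa [Nat.card_prod, card_space, show Nat.card Bool = 2 by simp] at this
  have hPeq : P = Qc Q g :=
    Subgroup.eq_of_le_of_card_ge inf_le_left (by rw [card_Qc e g]; exact h512)
  refine H.z_notMem_Qc hx ((S.pack.map g).cent (mem_centralizer_iff.2 fun a ha => ?_))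
  have ha' : a ∈ P := hPeq ▸ ha
  exact mem_centralizer_singleton_iff.1 ha'.2

/-- No pure conjugate acts as a single Siegel map. -/
theorem not_tau {x : G} (hx : Pure z x) : ¬ IsTau (act e x) := by
  rintro ⟨a, b, ha, hb, hab, ha0, hb0, hne, hv⟩
  have S := H.frame
  obtain ⟨f, k, hf, hfa, hfb⟩ := to_std ha hb hab ha0 hb0 hne
  obtain ⟨-, -, -, hn, -⟩ := basic_facts
  obtain ⟨f', ⟨c, hc, hcf⟩, hI, hg⟩ := S.evenP.exists_of_word hn hf
  have hca : act e c a = e0 := by rw [hcf, hg a (by rw [hfa]; exact n4_fix.1), hfa]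
  have hcb : act e c b = e1 := by rw [hcf, hg b (by rw [hfb]; exact n4_fix.2), hfb]
  obtain ⟨g, hgx⟩ := isConj_iff.1 (H.pure_conj hx hc).1
  have hp : Pure z (g * z * g⁻¹) := hgx ▸ H.pure_conj hx hc
  refine H.no_std hp fun v => ?_
  rw [hgx, S.act_mul (mul_mem hc (H.pure_mem hx)) (inv_mem hc), S.act_mul hc (H.pure_mem hx), hv,
    ← tau_conj (S.act_isom hc), hca, hcb, act_inv_right S hc]

/-- A pure conjugate has fixed space and commutator space of order `16`, and they coincide. -/
theorem pure_full {x : G} (hx : Pure z x) :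
    Nat.card ↥(dHom (H.pure_tsinv hx).isom).ker = 16 ∧
      (dHom (H.pure_tsinv hx).isom).range = (dHom (H.pure_tsinv hx).isom).ker :=
  ((H.pure_tsinv hx).tau_or_full (H.pure_act_ne hx)).resolve_left (H.not_tau hx)

end Hyp

end CfsgLib.ClassK.Conway.WC
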