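import Cfsg.Prelude.Def_CaseTheorems
import Cfsg.Agent.Lib.OddLocal.PGroup
import Cfsg.Agent.Lib.StructC.UniqueInvol
import Cfsg.Agent.Lib.Invol.Dihedral

/-!
# p-groups all of whose normal abelian subgroups are cyclic
-/

set_option autoImplicit false

namespace CfsgLib.ClassK

open Subgroup Finset

variable {P : Type*} [Group P]

theorem conj_zpow_of_conj {a y : P} {k : ℤ} (h : y * a * y⁻¹ = a ^ k) (j : ℤ) :
    y * a ^ j * y⁻¹ = a ^ (k * j) := by
  rw [← conj_zpow, h, ← zpow_mul]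

theorem conj_pow_of_conj {a y : P} {k : ℤ} (h : y * a * y⁻¹ = a ^ k) (n : ℕ) :
    y ^ n * a * (y ^ n)⁻¹ = a ^ (k ^ n) := by
  induction n with
  | zero => simp
  | succ n ih =>
    rw [pow_succ', show y * y ^ n * a * (y * y ^ n)⁻¹ = y * (y ^ n * a * (y ^ n)⁻¹) * y⁻¹ by group,
      ih, conj_zpow_of_conj h]
    ring_nf

theorem zpow_mul_pow_of_conj {a y : P} {k : ℤ} (h : y * a * y⁻¹ = a ^ k) (j : ℤ) (n : ℕ) :
    (a ^ j * y) ^ n = a ^ (j * ∑ i ∈ range n, k ^ i) * y ^ n := by
  induction n with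
  | zero => simp
  | succ n ih =>
    rw [pow_succ, ih, sum_range_succ, mul_add, zpow_add]
    have h2 : y ^ n * a ^ j = a ^ (j * k ^ n) * y ^ n := by
      have h1 := conj_zpow_of_conj (conj_pow_of_conj h n) j
      rw [mul_comm (k ^ n) j, mul_inv_eq_iff_eq_mul] at h1
      exact h1
    calc a ^ (j * ∑ i ∈ range n, k ^ i) * y ^ n * (a ^ j * y)
        = a ^ (j * ∑ i ∈ range n, k ^ i) * (y ^ n * a ^ j) * y := by group
      _ = _ := by rw [h2, pow_succ y n]; group

/-- `1 + k + ⋯ + k ^ (p-1)` is divisible exactly once by `p` when `k ≡ 1`. -/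
theorem not_sq_dvd_geom_sum {p : ℕ} (hp : p.Prime) {k : ℤ} (hk : (p : ℤ) ∣ k - 1)
    (hk2 : p = 2 → (4 : ℤ) ∣ k - 1) : ∃ w : ℤ, ∑ i ∈ range p, k ^ i = p * w ∧ IsCoprime (p : ℤ) w := by
  rcases hp.eq_two_or_odd' with rfl | hodd
  · obtain ⟨c, hc⟩ := hk2 rfl
    refine ⟨1 + 2 * c, ?_, ⟨-c, 1, by push_cast; ring⟩⟩
    simp [sum_range_succ]
    linear_combination hc
  · obtain ⟨t, ht⟩ := hk
    have hterm : ∀ i : ℕ, ∃ c : ℤ, k ^ i = 1 + (i : ℤ) * (p * t) + (p : ℤ) ^ 2 * c := by
      intro i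
      induction i with
      | zero => exact ⟨0, by simp⟩
      | succ i ih =>
        obtain ⟨c, hc⟩ := ih
        refine ⟨i * t * t + c * k, ?_⟩
        have hk' : k = 1 + p * t := by linarith
        rw [pow_succ, hc, hk']
        push_cast
        ring
    choose c hc using hterm
    have hsum : ∑ i ∈ range p, (i : ℤ) = p * ((p - 1) / 2 : ℕ) := by
      obtain ⟨m, hm⟩ := hodd
      have h1 := Finset.sum_range_id_mul_two p
      rw [hm, show 2 * m + 1 - 1 = 2 * m by omega] at h1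
      rw [hm, show (2 * m + 1 - 1) / 2 = m by omega, ← Nat.cast_sum]
      exact_mod_cast Nat.eq_of_mul_eq_mul_right two_pos (h1.trans (by ring :
        (2 * m + 1) * (2 * m) = (2 * m + 1) * m * 2))
    refine ⟨1 + p * (((p - 1) / 2 : ℕ) * t + ∑ i ∈ range p, c i), ?_,
      ⟨-(((p - 1) / 2 : ℕ) * t + ∑ i ∈ range p, c i), 1, by ring⟩⟩
    calc ∑ i ∈ range p, k ^ i = ∑ i ∈ range p, (1 + (i : ℤ) * (p * t) + (p : ℤ) ^ 2 * c i) :=
          sum_congr rfl fun i _ => hc i
      _ = _ := by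
          rw [sum_add_distrib, sum_add_distrib, ← sum_mul, ← mul_sum, hsum]
          simp
          ring

variable [Finite P] {p : ℕ} [Fact p.Prime]

/-- No element of order `p` outside a self-centralizing normal `⟨a⟩` acts on it as an element
congruent to `1` modulo `p` (modulo `4` if `p = 2`). -/
theorem false_of_conj_congr_one (hn : ∀ A : Subgroup P, A.Normal → IsMulCommutative A → IsCyclic A)
    {a : P} (hA : (zpowers a).Normal) (hc : centralizer (zpowers a : Set P) = zpowers a)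
    {m : ℕ} (hm : 1 ≤ m) (ha : orderOf a = p ^ m) {y : P} (hy : orderOf y = p)
    (hyA : y ∉ zpowers a) {k : ℤ} (hk : y * a * y⁻¹ = a ^ k) (hkp : (p : ℤ) ∣ k - 1)
    (hk4 : p = 2 → (4 : ℤ) ∣ k - 1) : False := by
  have hp : p.Prime := Fact.out
  set z₀ := a ^ ((p ^ (m - 1) : ℕ) : ℤ) with hz₀
  have hz₀o : orderOf z₀ = p := by
    rw [hz₀, zpow_natCast, orderOf_pow' _ (pow_pos hp.pos _).ne', ha,
      Nat.gcd_eq_right (pow_dvd_pow p (Nat.sub_le m 1)), Nat.pow_div (Nat.sub_le m 1) hp.pos,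
      show m - (m - 1) = 1 by omega, pow_one]
  have hzy : z₀ * y = y * z₀ := by
    obtain ⟨t, ht⟩ := hkp
    have h1 := conj_zpow_of_conj hk ((p ^ (m - 1) : ℕ) : ℤ)
    have h2 : a ^ (k * ((p ^ (m - 1) : ℕ) : ℤ)) = z₀ := by
      rw [hz₀, show k * ((p ^ (m - 1) : ℕ) : ℤ) = ((p ^ (m - 1) : ℕ) : ℤ) + (p ^ m : ℕ) * t by
        rw [show k = 1 + p * t by linarith]
        obtain ⟨m', rfl⟩ : ∃ m', m = m' + 1 := ⟨m - 1, by omega⟩
        rw [Nat.add_sub_cancel]
        push_cast
        ring, zpow_add, ← ha, zpow_mul, zpow_natCast, zpow_natCast, pow_orderOf_eq_one, one_zpow,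
        mul_one]
    rw [h2, ← hz₀, mul_inv_eq_iff_eq_mul] at h1
    exact h1.symm
  set V := closure ({z₀, y} : Set P) with hV
  have hz₀V : z₀ ∈ V := subset_closure (Or.inl rfl)
  have hyV : y ∈ V := subset_closure (Or.inr rfl)
  have hVc : IsMulCommutative V := isMulCommutative_closure fun u hu v hv => by
    rcases hu with rfl | rfl <;> rcases hv with rfl | rfl
    exacts [rfl, hzy, hzy.symm, rfl]
  have hVn : V.Normal := by
    refine ⟨fun v hv h => ?_⟩
    have hle : V ≤ V.comap (MulAut.conj h).toMonoidHom := by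
      rw [hV, closure_le]
      obtain ⟨u, hu⟩ := mem_zpowers_iff.1 (hA.conj_mem a (mem_zpowers a) h)
      rintro x (rfl | rfl)
      · change h * z₀ * h⁻¹ ∈ V
        rw [hz₀, ← conj_zpow, ← hu, ← zpow_mul, mul_comm, zpow_mul]
        exact zpow_mem hz₀V u
      · change h * x * h⁻¹ ∈ V
        have hx : h * x * h⁻¹ * x⁻¹ ∈ zpowers a := by
          rw [← hc, zpowers_eq_closure, centralizer_closure, mem_centralizer_singleton_iff]
          obtain ⟨u', hu'⟩ := mem_zpowers_iff.1 (hA.conj_mem a (mem_zpowers a) h⁻¹)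
          rw [inv_inv] at hu'
          have e : h * x * h⁻¹ * x⁻¹ * a ^ k * (h * x * h⁻¹ * x⁻¹)⁻¹ = a ^ k := by
            calc h * x * h⁻¹ * x⁻¹ * a ^ k * (h * x * h⁻¹ * x⁻¹)⁻¹
                = h * (x * (h⁻¹ * (x⁻¹ * a ^ k * x) * h) * x⁻¹) * h⁻¹ := by group
              _ = h * (x * (h⁻¹ * a * h) * x⁻¹) * h⁻¹ := by rw [← hk]; group
              _ = h * (a ^ (k * u')) * h⁻¹ := by rw [← hu', conj_zpow_of_conj hk]
              _ = (h * (h⁻¹ * a * h) * h⁻¹) ^ k := by rw [conj_zpow, ← hu', ← zpow_mul, mul_comm k]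
              _ = a ^ k := by group
          set w := h * x * h⁻¹ * x⁻¹
          -- `a ^ k` generates `⟨a⟩`
          have hgen : a ∈ zpowers (a ^ k) := by
            obtain ⟨v, hv⟩ := mem_zpowers_iff.1 (hA.conj_mem a (mem_zpowers a) x⁻¹)
            rw [inv_inv] at hv
            refine mem_zpowers_iff.2 ⟨v, ?_⟩
            calc (a ^ k) ^ v = x * a ^ v * x⁻¹ := by rw [← zpow_mul, conj_zpow_of_conj hk]
              _ = a := by rw [hv]; group
          obtain ⟨v, hv⟩ := mem_zpowers_iff.1 hgen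
          have hcomm : Commute w (a ^ k) := mul_inv_eq_iff_eq_mul.1 e
          have := hcomm.zpow_right v
          rw [hv] at this
          exact this.eq
        obtain ⟨j, hj⟩ := mem_zpowers_iff.1 hx
        have hhx : h * x * h⁻¹ = a ^ j * x := by rw [hj]; group
        have hpow : (a ^ j * x) ^ p = 1 := by
          rw [← hhx, conj_pow, ← hy, pow_orderOf_eq_one, mul_one, mul_inv_cancel]
        obtain ⟨w, hw, hcop⟩ := not_sq_dvd_geom_sum hp hkp hk4
        rw [zpow_mul_pow_of_conj hk, ← hy, pow_orderOf_eq_one, mul_one, hy, hw,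
          ← orderOf_dvd_iff_zpow_eq_one, ha, ← Nat.sub_add_cancel hm, pow_succ,
          show j * ((p : ℤ) * w) = j * w * p by ring] at hpow
        push_cast at hpow
        have hd : ((p : ℤ) ^ (m - 1)) ∣ j :=
          (hcop.pow_left).dvd_of_dvd_mul_right
            (Int.dvd_of_mul_dvd_mul_right (by exact_mod_cast hp.ne_zero) hpow)
        obtain ⟨t, rfl⟩ := hd
        rw [hhx, zpow_mul]
        refine mul_mem (zpow_mem ?_ t) hyV
        rw [hz₀] at hz₀V
        simpa using hz₀V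
    exact hle hv
  have hVcyc := hn V hVn hVc
  obtain ⟨g, hg⟩ := hVcyc.exists_generator
  have hgp : (g : P) ^ p = 1 := by
    have : ∀ v ∈ V, v ^ p = 1 := fun v hv => by
      rw [hV] at hv
      induction hv using closure_induction with
      | mem x hx =>
        rcases hx with rfl | rfl
        · rw [← hz₀o, pow_orderOf_eq_one]
        · rw [← hy, pow_orderOf_eq_one]
      | one => exact one_pow _
      | mul u v hu hv h1 h2 =>
        have hcm : Commute u v := congrArg Subtype.val (hVc.is_comm.comm (⟨u, hu⟩ : V) ⟨v, hv⟩)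
        rw [hcm.mul_pow, h1, h2, one_mul]
      | inv u _ h => rw [inv_pow, h, inv_one]
    exact this g g.2
  have hcard : Nat.card V ≤ p := by
    rw [← Nat.card_congr (Equiv.refl V), ← orderOf_eq_card_of_forall_mem_zpowers hg,
      ← Subgroup.orderOf_coe]
    exact Nat.le_of_dvd hp.pos (orderOf_dvd_of_pow_eq_one hgp)
  have e1 : zpowers y = V := eq_of_le_of_card_ge (zpowers_le.2 hyV) (by rwa [Nat.card_zpowers, hy])
  have e2 : zpowers z₀ = V :=
    eq_of_le_of_card_ge (zpowers_le.2 hz₀V) (by rwa [Nat.card_zpowers, hz₀o])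
  exact hyA (zpowers_le.2 (zpow_mem (mem_zpowers a) _) (e2.trans e1.symm ▸ mem_zpowers y))

end CfsgLib.ClassK
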