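import Cfsg.Agent.Lib.Comp.Local
import Cfsg.Agent.Lib.Transfer.ClassTwo
import Cfsg.Agent.Lib.Solvable.Nilpotent
import Cfsg.Prelude.Def_ClassificationK

/-!
# An involution acting on an extraspecial 2-group
-/

namespace CfsgLib.ClassK

open Subgroup

variable {G : Type*} [Group G] [Finite G]

omit [Finite G] in
theorem mem_zpowers_two {z w : G} (hz : z ^ 2 = 1) (hw : w ∈ zpowers z) : w = 1 ∨ w = z := by
  obtain ⟨i, rfl⟩ := mem_zpowers_iff.1 hw
  rcases Int.even_or_odd' i with ⟨k, rfl | rfl⟩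
  · left; rw [zpow_mul, zpow_two, ← pow_two, hz, one_zpow]
  · right; rw [zpow_add, zpow_mul, zpow_two, ← pow_two, hz, one_zpow, one_mul, zpow_one]

/-- In a group `Q` with centre inside `⟨z⟩` and commutators in `⟨z⟩`, centralizers of subgroups
have order at most twice the index. -/
theorem card_inf_centralizer_le {Q : Subgroup G} {z : G} (hz : z ^ 2 = 1)
    (hzQ : ∀ q ∈ Q, q * z = z * q)
    (hcen : Q ⊓ centralizer (Q : Set G) ≤ zpowers z)
    (hcomm : ∀ q ∈ Q, ∀ r ∈ Q, q * r * q⁻¹ * r⁻¹ ∈ zpowers z)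
    {H : Subgroup G} (hH : H ≤ Q) :
    Nat.card ↥(Q ⊓ centralizer (H : Set G)) ≤ 2 * H.relIndex Q := by
  induction H using WellFoundedGT.induction with
  | ind H ih =>
    rcases eq_or_lt_of_le hH with rfl | hlt
    · rw [relIndex_self, mul_one]
      refine (card_le_of_le hcen).trans ?_
      rw [Nat.card_zpowers]
      exact Nat.le_of_dvd two_pos (orderOf_dvd_of_pow_eq_one hz)
    obtain ⟨x, hxQ, hxH⟩ := SetLike.exists_of_lt hlt
    set H' := H ⊔ zpowers x with hH'
    have hHH' : H < H' := lt_of_le_of_ne le_sup_left fun h => hxH (h ▸ mem_sup_right (mem_zpowers x))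
    have hH'Q : H' ≤ Q := sup_le hH (zpowers_le.2 hxQ)
    have hih := ih H' hHH' hH'Q
    set C := Q ⊓ centralizer (H : Set G) with hC
    set C' := Q ⊓ centralizer (H' : Set G) with hC'
    have h2 : Nat.card C ≤ 2 * Nat.card C' := by
      let φ : C →* zpowers z :=
        { toFun := fun c => ⟨(c : G) * x * (c : G)⁻¹ * x⁻¹, hcomm c (mem_inf.1 c.2).1 x hxQ⟩
          map_one' := by ext; simp
          map_mul' := fun a b => by
            ext
            show (a : G) * b * x * ((a : G) * b)⁻¹ * x⁻¹ =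
              ((a : G) * x * (a : G)⁻¹ * x⁻¹) * ((b : G) * x * (b : G)⁻¹ * x⁻¹)
            have hb := mem_zpowers_iff.1 (hcomm b (mem_inf.1 b.2).1 x hxQ)
            obtain ⟨i, hi⟩ := hb
            have ha' : Commute (a : G) z := hzQ a (mem_inf.1 a.2).1
            have hca : Commute ((a : G) * x * (a : G)⁻¹ * x⁻¹) (z ^ i) := by
              have hx' : Commute x z := hzQ x hxQ
              exact Commute.zpow_right (((ha'.mul_left hx').mul_left ha'.inv_left).mul_left hx'.inv_left) i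
            calc (a : G) * b * x * ((a : G) * b)⁻¹ * x⁻¹
                = a * ((b : G) * x * (b : G)⁻¹ * x⁻¹) * (a : G)⁻¹ * ((a : G) * x * (a : G)⁻¹ * x⁻¹) := by
                  group
              _ = a * z ^ i * (a : G)⁻¹ * ((a : G) * x * (a : G)⁻¹ * x⁻¹) := by rw [hi]
              _ = z ^ i * ((a : G) * x * (a : G)⁻¹ * x⁻¹) := by
                  rw [(ha'.zpow_right i).eq, mul_inv_cancel_right]
              _ = _ := by rw [← hca.eq, hi] }
      have hker : φ.ker ≤ C'.subgroupOf C := by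
        intro c hc
        have h1 : (c : G) * x * (c : G)⁻¹ * x⁻¹ = 1 := congrArg Subtype.val (MonoidHom.mem_ker.1 hc)
        rw [mul_inv_eq_one, mul_inv_eq_iff_eq_mul] at h1
        refine mem_subgroupOf.2 (mem_inf.2 ⟨(mem_inf.1 c.2).1, ?_⟩)
        have hle : H' ≤ centralizer ({(c : G)} : Set G) := sup_le
          (fun h hh => mem_centralizer_singleton_iff.2 (mem_centralizer_iff.1 (mem_inf.1 c.2).2 h hh))
          (zpowers_le.2 (mem_centralizer_singleton_iff.2 h1.symm))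
        exact mem_centralizer_iff.2 fun h hh => mem_centralizer_singleton_iff.1 (hle hh)
      calc Nat.card C = Nat.card φ.ker * Nat.card φ.range := by
            rw [← φ.ker.card_mul_index, index_ker]
        _ ≤ Nat.card C' * 2 := by
            refine Nat.mul_le_mul ?_ ?_
            · refine (card_le_of_le hker).trans (le_of_eq (Nat.card_congr
                (subgroupOfEquivOfLe (inf_le_inf_left Q (centralizer_le hHH'.le))).toEquiv))
            · refine (Nat.card_le_card_of_injective φ.range.subtype Subtype.val_injective).trans ?_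
              rw [Nat.card_zpowers]
              exact Nat.le_of_dvd two_pos (orderOf_dvd_of_pow_eq_one hz)
        _ = _ := mul_comm _ _
    have h3 : 2 * H'.relIndex Q ≤ H.relIndex Q := by
      rw [← relIndex_mul_relIndex H H' Q hHH'.le hH'Q]
      refine Nat.mul_le_mul_right _ ?_
      have h0 : H.relIndex H' ≠ 0 := FiniteIndex.index_ne_zero
      have h1 : H.relIndex H' ≠ 1 := fun h => hHH'.not_ge (relIndex_eq_one.1 h)
      omega
    omega

/-- An involution `α` acting non-trivially on `Q` with centre `⟨z⟩` and commutators and squares in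
`⟨z⟩`: the commutators `[α, q]` generate the centre of `Q₀ = {q | [α, q] ∈ ⟨z⟩}`. -/
theorem closure_commutators_eq_center {Q : Subgroup G} (hQp : IsPGroup 2 Q) {z α : G}
    (hz : z ^ 2 = 1) (hz1 : z ≠ 1) (hzm : z ∈ Q) (hzQ : ∀ q ∈ Q, q * z = z * q)
    (hcen : Q ⊓ centralizer (Q : Set G) ≤ zpowers z)
    (hcomm : ∀ q ∈ Q, ∀ r ∈ Q, q * r * q⁻¹ * r⁻¹ ∈ zpowers z)
    (hsq : ∀ q ∈ Q, q ^ 2 ∈ zpowers z)
    (hα : α ^ 2 = 1) (hαz : α * z = z * α) (hαQ : ∀ q ∈ Q, α * q * α⁻¹ ∈ Q)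
    (hαne : ∃ q ∈ Q, α * q * α⁻¹ * q⁻¹ ≠ 1)
    {Q₀ : Subgroup G} (hQ₀ : ∀ q : G, q ∈ Q₀ ↔ q ∈ Q ∧ α * q * α⁻¹ * q⁻¹ ∈ zpowers z) :
    closure ((fun q : G => α * q * α⁻¹ * q⁻¹) '' (Q : Set G)) = (center Q₀).map Q₀.subtype := by
  haveI : Fact (Nat.Prime 2) := ⟨Nat.prime_two⟩
  set D := closure ((fun q : G => α * q * α⁻¹ * q⁻¹) '' (Q : Set G)) with hD
  set y := fun q : G => α * q * α⁻¹ * q⁻¹ with hy
  have hyD : ∀ q ∈ Q, y q ∈ D := fun q hq => subset_closure ⟨q, hq, rfl⟩
  have hQ₀Q : Q₀ ≤ Q := fun q hq => ((hQ₀ q).1 hq).1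
  have hαi : α⁻¹ = α := inv_eq_of_mul_eq_one_right (by rw [← pow_two, hα])
  have hzi : z⁻¹ = z := inv_eq_of_mul_eq_one_right (by rw [← pow_two, hz])
  have hDQ : D ≤ Q := (closure_le Q).2 (by
    rintro _ ⟨q, hq, rfl⟩; exact mul_mem (hαQ q hq) (inv_mem hq))
  have hzQ₀ : zpowers z ≤ Q₀ := zpowers_le.2 ((hQ₀ z).2 ⟨hzm, by
    rw [hαz, mul_inv_cancel_right, mul_inv_cancel]; exact one_mem _⟩)
  -- `D` lies in `Q₀` and centralizes it
  have hDQ₀ : D ≤ Q₀ := (closure_le Q₀).2 (by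
    rintro _ ⟨q, hq, rfl⟩
    refine (hQ₀ _).2 ⟨mul_mem (hαQ q hq) (inv_mem hq), ?_⟩
    have : α * (α * q * α⁻¹ * q⁻¹) * α⁻¹ * (α * q * α⁻¹ * q⁻¹)⁻¹ = ((α * q * α⁻¹ * q⁻¹) ^ 2)⁻¹ := by
      have e : α * (α * q * α⁻¹ * q⁻¹) * α⁻¹ = q * (α * q * α⁻¹)⁻¹ := by
        calc α * (α * q * α⁻¹ * q⁻¹) * α⁻¹ = α ^ 2 * q * (α⁻¹ * q⁻¹ * α⁻¹) := by
              rw [pow_two]; group
          _ = q * (α * q * α⁻¹)⁻¹ := by
              rw [hα, one_mul, mul_inv_rev, mul_inv_rev, inv_inv, hαi]; group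
      rw [e, pow_two, mul_inv_rev]; group
    show α * (α * q * α⁻¹ * q⁻¹) * α⁻¹ * (α * q * α⁻¹ * q⁻¹)⁻¹ ∈ zpowers z
    rw [this]
    exact inv_mem (hsq _ (mul_mem (hαQ q hq) (inv_mem hq))))
  have hDcen : D ≤ centralizer (Q₀ : Set G) := (closure_le _).2 (by
    rintro _ ⟨q, hq, rfl⟩
    refine mem_centralizer_iff.2 fun r hr => ?_
    obtain ⟨hrQ, hr'⟩ := (hQ₀ r).1 hr
    -- the commutator of `α q α⁻¹` and `r` is that of `q` and `r`
    obtain ⟨i, hi⟩ := mem_zpowers_iff.1 hr'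
    obtain ⟨j, hj⟩ := mem_zpowers_iff.1 (hcomm q hq r hrQ)
    have hri : α * r * α⁻¹ = z ^ i * r := by rw [hi]; group
    have hcz : Commute (α * q * α⁻¹) (z ^ i) := Commute.zpow_right (hzQ _ (hαQ q hq)) i
    have hαzj : α * z ^ j * α⁻¹ = z ^ j := by
      rw [(Commute.zpow_right (show Commute α z from hαz) j).eq, mul_inv_cancel_right]
    have h1 : (α * q * α⁻¹) * r = z ^ j * (r * (α * q * α⁻¹)) := by
      have h2 : q * r = z ^ j * (r * q) := by rw [hj]; group
      have h3 : (α * q * α⁻¹) * (z ^ i * r) = z ^ j * ((z ^ i * r) * (α * q * α⁻¹)) := by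
        rw [← hri]
        calc (α * q * α⁻¹) * (α * r * α⁻¹) = α * (q * r) * α⁻¹ := by group
          _ = α * (z ^ j * (r * q)) * α⁻¹ := by rw [h2]
          _ = (α * z ^ j * α⁻¹) * ((α * r * α⁻¹) * (α * q * α⁻¹)) := by group
          _ = _ := by rw [hαzj]
      rw [← mul_assoc, hcz.eq] at h3
      have hij : Commute (z ^ j) (z ^ i) := Commute.zpow_zpow_self z j i
      apply mul_left_cancel (a := z ^ i)
      calc z ^ i * ((α * q * α⁻¹) * r) = z ^ i * (α * q * α⁻¹) * r := by group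
        _ = z ^ j * ((z ^ i * r) * (α * q * α⁻¹)) := h3
        _ = (z ^ j * z ^ i) * (r * (α * q * α⁻¹)) := by group
        _ = _ := by rw [hij.eq]; group
    have h4 : r * q⁻¹ = z ^ (-j) * (q⁻¹ * r) := by
      have h2 : q * r = z ^ j * (r * q) := by rw [hj]; group
      have hcq : Commute q⁻¹ (z ^ (-j)) :=
        Commute.zpow_right (hzQ _ (inv_mem hq)) _
      calc r * q⁻¹ = q⁻¹ * (q * r) * q⁻¹ := by group
        _ = q⁻¹ * (z ^ j * (r * q)) * q⁻¹ := by rw [h2]
        _ = q⁻¹ * z ^ j * r := by group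
        _ = _ := by
          have hcq' : Commute q⁻¹ (z ^ j) := Commute.zpow_right (hzQ _ (inv_mem hq)) _
          have hzj : z ^ (-j) = z ^ j := by rw [zpow_neg, ← inv_zpow, hzi]
          rw [hzj, hcq'.eq, mul_assoc]
    symm
    calc α * q * α⁻¹ * q⁻¹ * r = (α * q * α⁻¹) * (q⁻¹ * r) := by group
      _ = (α * q * α⁻¹) * (z ^ j * (r * q⁻¹)) := by
          rw [h4, ← mul_assoc (z ^ j), ← zpow_add, add_neg_cancel, zpow_zero, one_mul]
      _ = z ^ j * ((α * q * α⁻¹) * r) * q⁻¹ := by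
          rw [← mul_assoc, (Commute.zpow_right (show Commute (α * q * α⁻¹) z from
            hzQ _ (hαQ q hq)) j).eq]; group
      _ = (z ^ j * z ^ j) * (r * (α * q * α⁻¹)) * q⁻¹ := by rw [h1]; group
      _ = r * (α * q * α⁻¹ * q⁻¹) := by
          rw [← pow_two, ← zpow_natCast, ← zpow_mul, mul_comm j, zpow_mul, zpow_natCast, hz,
            one_zpow]; group)
  -- `z` lies in `D`
  have hzD : z ∈ D := by
    have hnorm : Q ≤ normalizer (D : Set G) := by
      have hle : ∀ r ∈ Q, ∀ d ∈ D, r * d * r⁻¹ ∈ D := by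
        intro r hr d hd
        have h : D ≤ D.comap (MulAut.conj r).toMonoidHom := (closure_le _).2 (by
          rintro _ ⟨q, hq, rfl⟩
          show r * (α * q * α⁻¹ * q⁻¹) * r⁻¹ ∈ D
          have e : r * (α * q * α⁻¹ * q⁻¹) * r⁻¹ = (y r)⁻¹ * y (r * q) := by
            simp only [hy]; group
          rw [e]
          exact mul_mem (inv_mem (hyD r hr)) (hyD _ (mul_mem hr hq)))
        exact h hd
      refine fun r hr => mem_normalizer_iff.2 fun d => ⟨hle r hr d, fun h => ?_⟩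
      have := hle r⁻¹ (inv_mem hr) _ h
      convert this using 1
      group
    haveI : (D.subgroupOf Q).Normal := normal_subgroupOf_of_le_normalizer hnorm
    haveI : Group.IsNilpotent Q := hQp.isNilpotent
    obtain ⟨q, hq, hne⟩ := hαne
    have hDne : D.subgroupOf Q ≠ ⊥ := fun h => hne (by
      have : (⟨α * q * α⁻¹ * q⁻¹, hDQ (hyD q hq)⟩ : Q) ∈ D.subgroupOf Q := hyD q hq
      rw [h, mem_bot] at this
      exact congrArg Subtype.val this)
    obtain ⟨⟨w, hw⟩, hw1⟩ :=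
      Subgroup.ne_bot_iff_exists_ne_one.1 (CfsgLib.Solvable.normal_inf_center_ne_bot _ hDne)
    have hwc : (w : G) ∈ Q ⊓ centralizer (Q : Set G) := mem_inf.2 ⟨w.2, mem_centralizer_iff.2
      fun r hr => congrArg Subtype.val (mem_center_iff.1 (mem_inf.1 hw).2 ⟨r, hr⟩)⟩
    rcases mem_zpowers_two hz (hcen hwc) with h | h
    · exact absurd (Subtype.ext (Subtype.ext h)) hw1
    · exact h ▸ (mem_inf.1 hw).1
  -- counting
  have hcount : 2 * Q₀.relIndex Q ≤ Nat.card D := by
    let f : (Q ⧸ Q₀.subgroupOf Q) × zpowers z → D := fun p =>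
      ⟨y (p.1.out : G) * p.2, mul_mem (hyD _ p.1.out.2) (zpowers_le.2 hzD p.2.2)⟩
    have hf : Function.Injective f := by
      rintro ⟨a, w⟩ ⟨b, v⟩ h
      have h' : y (a.out : G) * w = y (b.out : G) * v := congrArg Subtype.val h
      have hab : a = b := by
        rw [← a.out_eq', ← b.out_eq', QuotientGroup.eq, mem_subgroupOf]
        set c := (a.out : G)⁻¹ * (b.out : G) with hc
        have hcQ : c ∈ Q := mul_mem (inv_mem a.out.2) b.out.2
        show c ∈ Q₀
        refine (hQ₀ c).2 ⟨hcQ, ?_⟩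
        have hmem : (y (a.out : G))⁻¹ * y (b.out : G) ∈ zpowers z := by
          have h'' : (y (a.out : G))⁻¹ * y (b.out : G) = (w : G) * (v : G)⁻¹ := by
            rw [inv_mul_eq_iff_eq_mul, ← mul_assoc, h', mul_inv_cancel_right]
          rw [h'']
          exact mul_mem w.2 (inv_mem v.2)
        have e : α * c * α⁻¹ * c⁻¹ =
            (a.out : G)⁻¹ * ((y (a.out : G))⁻¹ * y (b.out : G)) * (a.out : G) := by
          simp only [hy, hc]; group
        rw [e]
        obtain ⟨i, hi⟩ := mem_zpowers_iff.1 hmem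
        rw [← hi, (Commute.zpow_right (show Commute (a.out : G)⁻¹ z from
          hzQ _ (inv_mem a.out.2)) i).eq, inv_mul_cancel_right]
        exact zpow_mem (mem_zpowers z) i
      subst hab
      exact Prod.ext rfl (Subtype.ext (mul_left_cancel h'))
    have := Nat.card_le_card_of_injective f hf
    rwa [Nat.card_prod, Nat.card_zpowers, orderOf_eq_prime hz hz1, mul_comm,
      ← index_eq_card] at this
  refine le_antisymm (fun d hd => ⟨⟨d, hDQ₀ hd⟩, mem_center_iff.2 fun r =>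
    Subtype.ext (mem_centralizer_iff.1 (hDcen hd) r r.2), rfl⟩) ?_
  have hle : (center Q₀).map Q₀.subtype ≤ Q ⊓ centralizer (Q₀ : Set G) := by
    rintro _ ⟨x, hx, rfl⟩
    exact mem_inf.2 ⟨hQ₀Q x.2, mem_centralizer_iff.2 fun r hr =>
      congrArg Subtype.val (mem_center_iff.1 hx ⟨r, hr⟩)⟩
  have h1 : D ≤ Q ⊓ centralizer (Q₀ : Set G) := le_inf hDQ hDcen
  rw [eq_of_le_of_card_ge h1 ((card_inf_centralizer_le hz hzQ hcen hcomm hQ₀Q).trans hcount)]
  exact hle

end CfsgLib.ClassK
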