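import Cfsg.Agent.Lib.Transfer.PGroupNormal
import Mathlib.Algebra.Module.ZMod
import Mathlib.LinearAlgebra.Matrix.ToLin

/-!
A `p`-group acts on a normal elementary abelian subgroup by upper unitriangular matrices.
-/

set_option autoImplicit false

namespace CfsgLib.ClassK.FlagRep

open Subgroup

variable {p : ℕ} [hp : Fact p.Prime] {P : Type*} [Group P] [Finite P]

/-- A triangular parametrisation of a normal elementary abelian subgroup. -/
theorem exists_param (hP : IsPGroup p P) : ∀ (e : ℕ) (N : Subgroup P), N.Normal →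
    IsMulCommutative N → (∀ a ∈ N, a ^ p = 1) → Nat.card N = p ^ e →
    ∃ F : (Fin e → ZMod p) → P, (∀ v w, F (v + w) = F v * F w) ∧ Function.Injective F ∧
      (∀ x, x ∈ N ↔ ∃ v, F v = x) ∧
      ∀ (g : P) (i : Fin e), ∃ u : Fin e → ZMod p, (∀ j, i ≤ j → u j = 0) ∧
        g * F (Pi.single i 1) * g⁻¹ = F (Pi.single i 1 + u)
  | 0, N, _, _, _, hc => by
    refine ⟨fun _ => 1, fun _ _ => (one_mul 1).symm, fun v w _ => Subsingleton.elim v w,
      fun x => ?_, fun _ i => i.elim0⟩
    have hN : N = ⊥ := eq_bot_of_card_eq N (by simpa using hc)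
    rw [hN, mem_bot]
    exact ⟨fun h => ⟨0, h.symm⟩, fun ⟨_, h⟩ => h.symm⟩
  | e + 1, N, hNn, hNc, hNp, hc => by
    haveI := hNn
    have hNne : N ≠ ⊥ := fun h => by
      rw [h, card_bot] at hc
      exact absurd hc (Nat.one_lt_pow e.succ_ne_zero hp.out.one_lt).ne
    obtain ⟨M, hMn, hMN, hMcard, hMc, -⟩ := CfsgLib.Transfer.exists_chief_below hP N hNne
    have hMe : Nat.card M = p ^ e :=
      Nat.eq_of_mul_eq_mul_left hp.out.pos (by rw [← hMcard, hc, pow_succ, mul_comm])
    have hcomm : ∀ a ∈ N, ∀ b ∈ N, a * b = b * a := fun a ha b hb =>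
      congrArg Subtype.val (hNc.is_comm.comm ⟨a, ha⟩ ⟨b, hb⟩)
    obtain ⟨F, hadd, hinj, hFM, htri⟩ := exists_param hP e M hMn
      ⟨⟨fun a b => Subtype.ext (hcomm a (hMN a.2) b (hMN b.2))⟩⟩ (fun a ha => hNp a (hMN ha)) hMe
    obtain ⟨b, hb, hbM⟩ : ∃ b ∈ N, b ∉ M := by
      by_contra h
      simp only [not_exists, not_and, not_not] at h
      have h1 : N = M := le_antisymm h hMN
      rw [h1, hMe] at hc
      exact absurd hc (Nat.pow_lt_pow_right hp.out.one_lt e.lt_succ_self).ne
    have hbpow : ∀ x y : ZMod p, b ^ (x + y).val = b ^ x.val * b ^ y.val := by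
      intro x y
      rw [ZMod.val_add, ← pow_add]
      exact (pow_eq_pow_mod _ (hNp b hb)).symm
    have hF0 : F 0 = 1 := by
      have := hadd 0 0
      rw [add_zero] at this
      exact mul_eq_left.mp this.symm
    have hFN : ∀ v, F v ∈ N := fun v => hMN ((hFM _).mpr ⟨v, rfl⟩)
    let G : (Fin (e + 1) → ZMod p) → P := fun v =>
      F (fun i => v i.castSucc) * b ^ (v (Fin.last e)).val
    have hGN : ∀ v, G v ∈ N := fun v => mul_mem (hFN _) (pow_mem hb _)
    have hGadd : ∀ v w, G (v + w) = G v * G w := by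
      intro v w
      show F ((fun i => v i.castSucc) + fun i => w i.castSucc) * b ^ (v _ + w _).val = _
      rw [hadd, hbpow]
      simp only [G]
      rw [mul_assoc (F _), mul_assoc (F _), ← mul_assoc (b ^ _) (F _),
        ← hcomm _ (hFN _) _ (pow_mem hb _)]
      simp only [mul_assoc]
    have hzb : zpowers b ≤ N := zpowers_le.mpr hb
    have hgen : ∀ x ∈ N, ∃ v, G v = x := by
      intro x hx
      haveI : (M.subgroupOf N).Normal := hMn.subgroupOf N
      have hi : (M.subgroupOf N).index = p := by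
        have h1 := card_mul_index (M.subgroupOf N)
        rw [Nat.card_congr (subgroupOfEquivOfLe hMN).toEquiv, hMcard, mul_comm p] at h1
        exact Nat.eq_of_mul_eq_mul_left Nat.card_pos h1
      have hq : ((⟨b, hb⟩ : N) : N ⧸ M.subgroupOf N) ≠ 1 := fun h =>
        hbM (mem_subgroupOf.mp ((QuotientGroup.eq_one_iff _).mp h))
      obtain ⟨k, hk⟩ := mem_powers_of_prime_card (p := p) (by rw [← index_eq_card, hi]) hq
        (g' := ((⟨x, hx⟩ : N) : N ⧸ M.subgroupOf N))
      have hk' : x * (b ^ k)⁻¹ ∈ M := by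
        have h1 : ((⟨x, hx⟩ : N) * (⟨b, hb⟩ ^ k)⁻¹ : N) ∈ M.subgroupOf N := by
          rw [← QuotientGroup.eq_one_iff, QuotientGroup.mk_mul, QuotientGroup.mk_inv,
            QuotientGroup.mk_pow]
          exact mul_inv_eq_one.mpr hk.symm
        simpa using mem_subgroupOf.mp h1
      obtain ⟨v, hv⟩ := (hFM _).mp hk'
      refine ⟨Fin.snoc v (k : ZMod p), ?_⟩
      simp only [G, Fin.snoc_castSucc, Fin.snoc_last, ZMod.val_natCast]
      rw [hv, ← pow_eq_pow_mod _ (hNp b hb), inv_mul_cancel_right]
    have hGinj : Function.Injective G := by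
      have hsurj : Function.Surjective (fun v => (⟨G v, hGN v⟩ : N)) := fun x => by
        obtain ⟨v, hv⟩ := hgen x x.2
        exact ⟨v, Subtype.ext hv⟩
      have hcard : Nat.card (Fin (e + 1) → ZMod p) = Nat.card N := by
        rw [Nat.card_fun, Nat.card_zmod, Nat.card_fin, hc]
      exact fun v w h => ((Nat.bijective_iff_surjective_and_card _).mpr ⟨hsurj, hcard⟩).1
        (Subtype.ext h)
    refine ⟨G, hGadd, hGinj, fun x => ⟨hgen x, fun ⟨v, hv⟩ => hv ▸ hGN v⟩, fun g i => ?_⟩
    refine Fin.lastCases ?_ (fun i => ?_) i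
    · obtain ⟨u, hu⟩ := (hFM _).mp (hMc b hb g)
      refine ⟨Fin.snoc u 0, fun j hj => ?_, ?_⟩
      · rw [le_antisymm (Fin.le_last j) hj, Fin.snoc_last]
      · have h1 : G (Pi.single (Fin.last e) 1) = b := by
          simp only [G, Pi.single_eq_same, ZMod.val_one, pow_one]
          rw [show (fun i : Fin e => (Pi.single (Fin.last e) (1 : ZMod p) : Fin (e + 1) → ZMod p)
            i.castSucc) = 0 from funext fun i => Pi.single_eq_of_ne (Fin.castSucc_lt_last i).ne _,
            hF0, one_mul]
        have h3 : G (Fin.snoc u 0) = F u := by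
          simp only [G, Fin.snoc_castSucc, Fin.snoc_last, ZMod.val_zero, pow_zero, mul_one]
        rw [h1, hGadd, h1, h3, hu, ← hcomm _ (hMN (hMc b hb g)) b hb, inv_mul_cancel_right]
    · obtain ⟨u, hu0, hu⟩ := htri g i
      refine ⟨Fin.snoc u 0, fun j hj => ?_, ?_⟩
      · induction j using Fin.lastCases with
        | last => rw [Fin.snoc_last]
        | cast j =>
          rw [Fin.snoc_castSucc]
          exact hu0 j (Fin.castSucc_le_castSucc_iff.mp hj)
      · have h1 : G (Pi.single i.castSucc 1) = F (Pi.single i 1) := by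
          simp only [G, Pi.single_eq_of_ne (Fin.castSucc_lt_last i).ne', ZMod.val_zero, pow_zero,
            mul_one]
          congr 1
          funext j
          by_cases h : j = i
          · subst h; simp
          · rw [Pi.single_eq_of_ne h, Pi.single_eq_of_ne (fun h' => h (Fin.castSucc_injective _ h'))]
        have h3 : G (Fin.snoc u 0) = F u := by
          simp only [G, Fin.snoc_castSucc, Fin.snoc_last, ZMod.val_zero, pow_zero, mul_one]
        rw [h1, hGadd, h1, h3, hu, hadd]

/-- The matrix representation on a normal elementary abelian subgroup. -/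
theorem exists_rep (hP : IsPGroup p P) {e : ℕ} (N : Subgroup P) [hN : N.Normal]
    (hNc : IsMulCommutative N) (hNp : ∀ a ∈ N, a ^ p = 1) (hc : Nat.card N = p ^ e) :
    ∃ ρ : P →* Matrix (Fin e) (Fin e) (ZMod p),
      (∀ g a b, b ≤ a → ρ g a b = if a = b then 1 else 0) ∧
      ∀ g, ρ g = 1 → g ∈ centralizer (N : Set P) := by
  classical
  obtain ⟨F, hadd, hinj, hFN, htri⟩ := exists_param hP e N hN hNc hNp hc
  have hex : ∀ (g : P) (v : Fin e → ZMod p), ∃ w, F w = g * F v * g⁻¹ := fun g v =>
    (hFN _).mp (hN.conj_mem _ ((hFN _).mpr ⟨v, rfl⟩) g)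
  choose a ha using hex
  have haadd : ∀ g v w, a g (v + w) = a g v + a g w := fun g v w => hinj (by
    rw [ha, hadd, hadd, ha, ha]; group)
  let L : P → ((Fin e → ZMod p) →ₗ[ZMod p] (Fin e → ZMod p)) := fun g =>
    (AddMonoidHom.mk' (a g) (haadd g)).toZModLinearMap p
  let ρ : P →* Matrix (Fin e) (Fin e) (ZMod p) :=
    { toFun := fun g => LinearMap.toMatrix' (L g)
      map_one' := by
        rw [show L 1 = LinearMap.id from LinearMap.ext fun v =>
          hinj ((ha 1 v).trans (by simp))]
        exact LinearMap.toMatrix'_id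
      map_mul' := fun g h => by
        rw [← LinearMap.toMatrix'_comp]
        congr 1
        exact LinearMap.ext fun v => hinj ((ha (g * h) v).trans (by
          show _ = F (a g (a h v))
          rw [ha, ha]; group)) }
  refine ⟨ρ, fun g i j hji => ?_, fun g hg => ?_⟩
  · show LinearMap.toMatrix' (L g) i j = _
    rw [LinearMap.toMatrix'_apply]
    obtain ⟨u, hu0, hu⟩ := htri g j
    have hs : (fun j' => if j' = j then (1 : ZMod p) else 0) = Pi.single j 1 :=
      funext fun j' => by simp [Pi.single_apply]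
    show a g _ i = _
    first
      | rw [hinj ((ha g (Pi.single j 1)).trans hu)]
      | rw [hs, hinj ((ha g (Pi.single j 1)).trans hu)]
    rw [Pi.add_apply, hu0 i hji, add_zero, Pi.single_apply]
  · refine mem_centralizer_iff.mpr fun x hx => ?_
    obtain ⟨v, rfl⟩ := (hFN x).mp hx
    have h1 : L g = LinearMap.id :=
      LinearMap.toMatrix'.injective (hg.trans LinearMap.toMatrix'_id.symm)
    have h2 : g * F v * g⁻¹ = F v := by rw [← ha, show a g v = v from LinearMap.congr_fun h1 v]
    calc F v * g = g * F v * g⁻¹ * g := by rw [h2]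
      _ = g * F v := by group

end CfsgLib.ClassK.FlagRep
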