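import Cfsg.Agent.Lib.ClassK.BorelOvergroup
import Cfsg.Agent.Lib.Fusion.FormGroupUni

/-!
Bruhat decomposition of the isometry group of an antidiagonal form from the one of `GL_N`, and
invariance of the overgroups of its unitriangular subgroup.
-/

set_option autoImplicit false
set_option linter.unusedSectionVars false
set_option linter.unusedSimpArgs false
set_option linter.style.haveILetI false

namespace CfsgLib.ClassK.FormBruhat

open Matrix Fin CfsgLib.Fusion.FormGroup
open scoped MatrixGroups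

variable {K : Type*} [Field K] {N : ℕ} {D : Dat K N}

/-- The antidiagonal matrix as a unit. -/
def Ju (hD : D.Good) : GL (Fin N) K :=
  ⟨D.J, D.η • D.J, by rw [Matrix.mul_smul, hD.J_mul_J, smul_smul, hD.eta_mul_self, one_smul],
    by rw [Matrix.smul_mul, hD.J_mul_J, smul_smul, hD.eta_mul_self, one_smul]⟩

/-- Transpose inverse. -/
def transInv : GL (Fin N) K →* GL (Fin N) K where
  toFun g := ⟨((g⁻¹ : GL (Fin N) K) : Matrix (Fin N) (Fin N) K)ᵀ, (g : Matrix (Fin N) (Fin N) K)ᵀ,
    by rw [← transpose_mul, Units.mul_inv, transpose_one],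
    by rw [← transpose_mul, Units.inv_mul, transpose_one]⟩
  map_one' := Units.ext (by simp)
  map_mul' g h := Units.ext (by simp [transpose_mul])

/-- The involution of `GL_N` whose fixed points are the isometries. -/
def th (hD : D.Good) : GL (Fin N) K →* GL (Fin N) K :=
  (MulAut.conj (Ju hD)⁻¹).toMonoidHom.comp
    (transInv.comp (Units.map (D.σ.toRingHom.mapMatrix).toMonoidHom))

theorem th_apply (hD : D.Good) (g : GL (Fin N) K) (a b : Fin N) :
    (th hD g : Matrix (Fin N) (Fin N) K) a b =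
      D.e a * D.e b * D.σ (((g⁻¹ : GL (Fin N) K) : Matrix (Fin N) (Fin N) K) (rev b) (rev a)) := by
  show ((D.η • D.J) * (((g⁻¹ : GL (Fin N) K) : Matrix (Fin N) (Fin N) K).map D.σ)ᵀ * D.J) a b = _
  rw [Matrix.smul_mul, Matrix.smul_mul, Matrix.smul_apply, Matrix.mul_apply,
    Finset.sum_eq_single (rev b), Matrix.mul_apply, Finset.sum_eq_single (rev a)]
  · simp only [Dat.J, Matrix.of_apply, if_pos, Matrix.transpose_apply, Matrix.map_apply, smul_eq_mul,
      Fin.rev_rev, hD.heta]
    linear_combination (D.e a * D.e b * D.σ (((g⁻¹ : GL (Fin N) K) : Matrix (Fin N) (Fin N) K)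
      (rev b) (rev a))) * hD.eta_mul_self
  · intro c _ hc
    simp [Dat.J, hc]
  · exact fun h => absurd (Finset.mem_univ _) h
  · intro c _ hc
    have : b ≠ rev c := fun e => hc (by rw [e, Fin.rev_rev])
    simp [Dat.J, this]
  · exact fun h => absurd (Finset.mem_univ _) h

theorem J_transpose (hD : D.Good) : D.Jᵀ = D.η • D.J := by
  ext a b
  simp only [Matrix.transpose_apply, Matrix.smul_apply, Dat.J, Matrix.of_apply, smul_eq_mul]
  by_cases h : b = rev a
  · subst h
    simp [hD.heta]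
  · rw [if_neg h, if_neg (fun e => h (by rw [e, Fin.rev_rev]))]
    simp

/-- The fixed points are the isometries. -/
theorem th_eq_self_iff (hD : D.Good) (g : GL (Fin N) K) :
    th hD g = g ↔ D.IsIsom (g : Matrix (Fin N) (Fin N) K) := by
  set M : Matrix (Fin N) (Fin N) K := (g : Matrix (Fin N) (Fin N) K) with hM
  set L : Matrix (Fin N) (Fin N) K := ((g⁻¹ : GL (Fin N) K) : Matrix (Fin N) (Fin N) K) with hL
  have h1 : th hD g = g ↔ (L.map D.σ)ᵀ * D.J = D.J * M := by
    show (Ju hD)⁻¹ * transInv _ * (Ju hD)⁻¹⁻¹ = g ↔ _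
    rw [inv_inv, mul_assoc, inv_mul_eq_iff_eq_mul, Units.ext_iff]
    rfl
  have hLM : L * M = 1 := by rw [hL, hM, Units.inv_mul]
  have hML : M * L = 1 := by rw [hL, hM, Units.mul_inv]
  have hη : D.η ≠ 0 := fun h => by simpa [h] using hD.eta_mul_self
  have e1 : (M.map D.σ)ᵀ * (L.map D.σ)ᵀ = 1 := by
    rw [← transpose_mul, ← Matrix.map_mul, hLM, Matrix.map_one _ (map_zero _) (map_one _), transpose_one]
  have e2 : (L.map D.σ)ᵀ * (M.map D.σ)ᵀ = 1 := by
    rw [← transpose_mul, ← Matrix.map_mul, hML, Matrix.map_one _ (map_zero _) (map_one _), transpose_one]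
  have h2 : (L.map D.σ)ᵀ * D.J = D.J * M ↔ D.J = (M.map D.σ)ᵀ * D.J * M := by
    constructor
    · intro h
      rw [mul_assoc, ← h, ← mul_assoc, e1, one_mul]
    · intro h
      conv_lhs => rw [h]
      rw [← mul_assoc, ← mul_assoc, e2, one_mul]
  rw [h1, h2]
  show _ ↔ Mᵀ * D.J * M.map D.σ = D.J
  constructor
  · intro h
    have h3 := congrArg Matrix.transpose h.symm
    rw [transpose_mul, transpose_mul, transpose_transpose, J_transpose hD, Matrix.smul_mul,
      Matrix.mul_smul] at h3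
    rw [mul_assoc]
    exact smul_right_injective _ hη h3
  · intro h
    have h3 := congrArg Matrix.transpose (congrArg (D.η • ·) h)
    simp only [transpose_smul, transpose_mul, transpose_transpose, J_transpose hD, Matrix.mul_smul,
      Matrix.smul_mul, smul_smul, hD.eta_mul_self, one_smul] at h3
    exact h3.symm.trans (by rw [mul_assoc])

/-! ### Patterns -/

/-- Unitriangular with support in the pairs inverted by `s`. -/
def Pat (s : Equiv.Perm (Fin N)) (A : Matrix (Fin N) (Fin N) K) : Prop :=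
  IsUni A ∧ ∀ a b, a < b → s a < s b → A a b = 0

theorem Pat.mul {s : Equiv.Perm (Fin N)} {A B : Matrix (Fin N) (Fin N) K} (hA : Pat s A)
    (hB : Pat s B) : Pat s (A * B) := by
  refine ⟨hA.1.mul hB.1, fun a b hab hs => ?_⟩
  rw [Matrix.mul_apply]
  refine Finset.sum_eq_zero fun c _ => ?_
  rcases lt_trichotomy c a with h1 | rfl | h1
  · rw [hA.1.lower a c h1, zero_mul]
  · rw [hB.2 c b hab hs, mul_zero]
  · rcases lt_trichotomy b c with h2 | rfl | h2
    · rw [hB.1.lower c b h2, mul_zero]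
    · rw [hA.2 a b hab hs, zero_mul]
    · rcases lt_trichotomy (s a) (s c) with h3 | h3 | h3
      · rw [hA.2 a c h1 h3, zero_mul]
      · exact absurd (s.injective h3) h1.ne
      · rw [hB.2 c b h2 (h3.trans hs), mul_zero]

theorem Pat.pow {s : Equiv.Perm (Fin N)} {A : Matrix (Fin N) (Fin N) K} (hA : Pat s A) :
    ∀ k : ℕ, Pat s (A ^ k)
  | 0 => by
    rw [pow_zero]
    exact ⟨isUni_one, fun a b h _ => Matrix.one_apply_ne h.ne⟩
  | k + 1 => by rw [pow_succ]; exact (Pat.pow hA k).mul hA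

variable [Fintype K]

theorem Pat.inv {s : Equiv.Perm (Fin N)} {g : GL (Fin N) K}
    (hg : Pat s (g : Matrix (Fin N) (Fin N) K)) :
    Pat s ((g⁻¹ : GL (Fin N) K) : Matrix (Fin N) (Fin N) K) := by
  have h : g⁻¹ = g ^ (orderOf g - 1) := by
    refine inv_eq_of_mul_eq_one_left ?_
    rw [← pow_succ, Nat.sub_add_cancel (orderOf_pos g), pow_orderOf_eq_one]
  rw [h, Units.val_pow_eq_pow_val]
  exact hg.pow _

/-- Upper triangular. -/
def Up (g : GL (Fin N) K) : Prop := g ∈ Cfsg.upperTriangularGL N K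

theorem Up.low {g : GL (Fin N) K} (hg : Up g) {a b : Fin N} (h : b < a) :
    (g : Matrix (Fin N) (Fin N) K) a b = 0 := hg h

theorem Up.diag_ne {g : GL (Fin N) K} (hg : Up g) (a : Fin N) :
    (g : Matrix (Fin N) (Fin N) K) a a ≠ 0 := fun h0 => by
  have h1 := (GeneralLinearGroup.det g).ne_zero
  rw [GeneralLinearGroup.val_det_apply, det_of_isUpperTriangular (show _ from hg)] at h1
  exact h1 (Finset.prod_eq_zero (Finset.mem_univ a) h0)

theorem uni_up {g : GL (Fin N) K} (hg : IsUni (g : Matrix (Fin N) (Fin N) K)) : Up g :=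
  fun a b h => hg.lower a b h

/-- A unitriangular matrix is a pattern matrix times one of the complementary pattern. -/
theorem exists_factor (s : Equiv.Perm (Fin N)) {x : GL (Fin N) K}
    (hx : IsUni (x : Matrix (Fin N) (Fin N) K)) :
    ∃ u v : GL (Fin N) K, x = u * v ∧ Pat s (u : Matrix (Fin N) (Fin N) K) ∧
      Pat (s.trans Fin.revPerm) (v : Matrix (Fin N) (Fin N) K) := by
  classical
  have hdet : ∀ A : Matrix (Fin N) (Fin N) K, IsUni A → A.det = 1 := fun A hA => by
    rw [det_of_isUpperTriangular (fun a b (h : b < a) => hA.lower a b h)]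
    exact Finset.prod_eq_one fun i _ => hA.diag i
  let Uni := {A : Matrix (Fin N) (Fin N) K // IsUni A}
  let p1 : Matrix (Fin N) (Fin N) K → Matrix (Fin N) (Fin N) K := fun A =>
    Matrix.of fun a b => if a < b ∧ s a < s b then 0 else A a b
  let p2 : Matrix (Fin N) (Fin N) K → Matrix (Fin N) (Fin N) K := fun A =>
    Matrix.of fun a b => if a < b ∧ s b < s a then 0 else A a b
  have hp1 : ∀ A, IsUni A → Pat s (p1 A) := fun A hA => ⟨fun a b h => by
    show (if _ then _ else _) = _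
    rw [if_neg (fun e => absurd e.1 (not_lt.2 h))]; exact hA a b h, fun a b h hs => if_pos ⟨h, hs⟩⟩
  have hp2 : ∀ A, IsUni A → Pat (s.trans Fin.revPerm) (p2 A) := fun A hA => ⟨fun a b h => by
    show (if _ then _ else _) = _
    rw [if_neg (fun e => absurd e.1 (not_lt.2 h))]; exact hA a b h, fun a b h hs => if_pos ⟨h, by
      simpa using hs⟩⟩
  have key : ∀ y y' v v' : Matrix (Fin N) (Fin N) K, Pat s y → Pat s y' →
      Pat (s.trans Fin.revPerm) v → Pat (s.trans Fin.revPerm) v' → y * v = y' * v' →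
      y = y' ∧ v = v' := by
    intro y y' v v' hy hy' hv hv' e
    let mk : ∀ A : Matrix (Fin N) (Fin N) K, IsUni A → GL (Fin N) K := fun A hA =>
      GeneralLinearGroup.mkOfDetNeZero A (by rw [hdet A hA]; exact one_ne_zero)
    have hz : (mk y' hy'.1)⁻¹ * mk y hy.1 = mk v' hv'.1 * (mk v hv.1)⁻¹ := by
      rw [inv_mul_eq_iff_eq_mul, ← mul_assoc, eq_mul_inv_iff_mul_eq]
      exact Units.ext e
    set z := (mk y' hy'.1)⁻¹ * mk y hy.1 with hzdef
    have h1 : Pat s (z : Matrix (Fin N) (Fin N) K) := by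
      rw [hzdef, Units.val_mul]
      exact (Pat.inv (g := mk y' hy'.1) hy').mul hy
    have h2 : Pat (s.trans Fin.revPerm) (z : Matrix (Fin N) (Fin N) K) := by
      rw [hz, Units.val_mul]
      exact hv'.mul (Pat.inv (g := mk v hv.1) hv)
    have hz1 : z = 1 := by
      refine Units.ext ?_
      ext a b
      rw [Units.val_one, Matrix.one_apply]
      rcases le_or_gt b a with h | h
      · exact h1.1 a b h
      · rw [if_neg h.ne]
        rcases lt_trichotomy (s a) (s b) with h3 | h3 | h3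
        · exact h1.2 a b h h3
        · exact absurd (s.injective h3) h.ne
        · exact h2.2 a b h (by simpa using h3)
    refine ⟨congrArg Units.val (mul_eq_one_iff_eq_inv.1 hz1 |> inv_inj.1).symm, ?_⟩
    exact congrArg Units.val (mul_inv_eq_one.1 (hz.symm.trans hz1)).symm
  let Φ : Uni → Uni := fun A => ⟨p1 A.1 * p2 A.1, (hp1 _ A.2).1.mul (hp2 _ A.2).1⟩
  have hΦ : Function.Injective Φ := by
    intro A B h
    obtain ⟨h1, h2⟩ := key _ _ _ _ (hp1 _ A.2) (hp1 _ B.2) (hp2 _ A.2) (hp2 _ B.2)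
      (congrArg Subtype.val h)
    refine Subtype.ext ?_
    ext a b
    rcases le_or_gt b a with h | h
    · rw [A.2 a b h, B.2 a b h]
    · have e1 := congrFun (congrFun h1 a) b
      have e2 := congrFun (congrFun h2 a) b
      rcases lt_trichotomy (s a) (s b) with h3 | h3 | h3
      · simpa [p2, h, h3.asymm] using e2
      · exact absurd (s.injective h3) h.ne
      · simpa [p1, h, h3.asymm] using e1
  obtain ⟨A, hA⟩ := (Finite.injective_iff_surjective.1 hΦ) ⟨_, hx⟩
  exact ⟨GeneralLinearGroup.mkOfDetNeZero (p1 A.1) (by rw [hdet _ (hp1 _ A.2).1]; exact one_ne_zero),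
    GeneralLinearGroup.mkOfDetNeZero (p2 A.1) (by rw [hdet _ (hp2 _ A.2).1]; exact one_ne_zero),
    Units.ext (congrArg Subtype.val hA).symm, hp1 _ A.2, hp2 _ A.2⟩

/-- The permutation matrix of `σ`. -/
abbrev pm (K : Type*) [Field K] {N : ℕ} (σ : Equiv.Perm (Fin N)) : GL (Fin N) K :=
  CfsgLib.KnownB.Flag.permGL (F := K) σ

theorem pm_mul_apply (σ : Equiv.Perm (Fin N)) (g : GL (Fin N) K) (a b : Fin N) :
    ((pm K σ * g : GL (Fin N) K) : Matrix (Fin N) (Fin N) K) a b =
      (g : Matrix (Fin N) (Fin N) K) (σ.symm a) b := by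
  rw [Units.val_mul, Matrix.mul_apply, Finset.sum_eq_single (σ.symm a)]
  · rw [KnownB.Flag.permGL_apply, if_pos (by simp), one_mul]
  · intro c _ hc
    rw [KnownB.Flag.permGL_apply, if_neg (fun e => hc (by rw [e]; simp)), zero_mul]
  · exact fun h => absurd (Finset.mem_univ _) h

theorem mul_pm_apply (σ : Equiv.Perm (Fin N)) (g : GL (Fin N) K) (a b : Fin N) :
    ((g * pm K σ : GL (Fin N) K) : Matrix (Fin N) (Fin N) K) a b =
      (g : Matrix (Fin N) (Fin N) K) a (σ b) := by
  rw [Units.val_mul, Matrix.mul_apply, Finset.sum_eq_single (σ b)]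
  · rw [KnownB.Flag.permGL_apply, if_pos rfl, mul_one]
  · intro c _ hc
    rw [KnownB.Flag.permGL_apply, if_neg hc, mul_zero]
  · exact fun h => absurd (Finset.mem_univ _) h

/-- The permutation of a Bruhat cell is unique. -/
theorem perm_unique {σ σ' : Equiv.Perm (Fin N)} {b b' : GL (Fin N) K} (hb : Up b) (hb' : Up b')
    (e : b * pm K σ = pm K σ' * b') : σ = σ' := by
  have hle : ∀ c, σ'.symm (σ c) ≤ c := fun c => by
    by_contra h
    push Not at h
    have h1 := congrArg (fun w : GL (Fin N) K => (w : Matrix (Fin N) (Fin N) K) (σ c) c) e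
    simp only [mul_pm_apply, pm_mul_apply] at h1
    rw [hb'.low h] at h1
    exact hb.diag_ne _ h1
  have hall : ∀ c, σ'.symm (σ c) = c := by
    have hsum : ∑ c, ((σ'.symm (σ c) : Fin N) : ℕ) = ∑ c : Fin N, (c : ℕ) :=
      Equiv.sum_comp (σ.trans σ'.symm) (fun c : Fin N => (c : ℕ))
    intro c
    exact Fin.ext ((Finset.sum_eq_sum_iff_of_le fun i _ => Fin.le_def.1 (hle i)).1 hsum c
      (Finset.mem_univ c))
  exact Equiv.ext fun c => by simpa using congrArg σ' (hall c)

theorem pat_conj {σ : Equiv.Perm (Fin N)} {v : GL (Fin N) K}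
    (hv : Pat (σ.symm.trans Fin.revPerm) (v : Matrix (Fin N) (Fin N) K)) :
    Up ((pm K σ)⁻¹ * v * pm K σ) := by
  intro i j (h : j < i)
  show (((pm K σ)⁻¹ * v * pm K σ : GL (Fin N) K) : Matrix (Fin N) (Fin N) K) i j = 0
  rw [mul_pm_apply, ← map_inv, pm_mul_apply]
  simp only [Equiv.Perm.inv_def, Equiv.symm_symm]
  rcases lt_trichotomy (σ i) (σ j) with h1 | h1 | h1
  · exact hv.2 _ _ h1 (by simpa using h)
  · exact absurd (σ.injective h1) h.ne'
  · exact hv.1.lower _ _ h1

theorem pat_unique {σ : Equiv.Perm (Fin N)} {u u' b b' : GL (Fin N) K}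
    (hu : Pat σ.symm (u : Matrix (Fin N) (Fin N) K)) (hu' : Pat σ.symm (u' : Matrix (Fin N) (Fin N) K))
    (hb : Up b) (hb' : Up b') (e : u * pm K σ * b = u' * pm K σ * b') : u = u' := by
  set y := u'⁻¹ * u with hy
  have hyP : Pat σ.symm (y : Matrix (Fin N) (Fin N) K) := by
    rw [hy, Units.val_mul]
    exact (Pat.inv hu').mul hu
  have e' : y * pm K σ = pm K σ * (b' * b⁻¹) := by
    rw [hy, ← mul_assoc, eq_mul_inv_iff_mul_eq, mul_assoc, mul_assoc, inv_mul_eq_iff_eq_mul,
      ← mul_assoc, ← mul_assoc]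
    exact e
  have hc : Up (b' * b⁻¹) := mul_mem hb' (inv_mem hb)
  have hy1 : y = 1 := by
    refine Units.ext ?_
    ext a c
    rw [Units.val_one, Matrix.one_apply]
    rcases le_or_gt c a with h | h
    · exact hyP.1 a c h
    · rw [if_neg h.ne]
      rcases lt_trichotomy (σ.symm a) (σ.symm c) with h3 | h3 | h3
      · exact hyP.2 a c h h3
      · exact absurd (σ.symm.injective h3) h.ne
      · have h4 := congrArg (fun w : GL (Fin N) K => (w : Matrix (Fin N) (Fin N) K) a (σ.symm c)) e'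
        simp only [mul_pm_apply, pm_mul_apply, Equiv.apply_symm_apply] at h4
        rw [h4]
        exact hc.low h3
  exact (inv_mul_eq_one.1 hy1).symm

/-! ### The involution on triangular, unitriangular and monomial elements -/

theorem th_up (hD : D.Good) {g : GL (Fin N) K} (hg : Up g) : Up (th hD g) := by
  intro a b (h : b < a)
  show (th hD g : Matrix (Fin N) (Fin N) K) a b = 0
  rw [th_apply, Up.low (inv_mem hg : Up g⁻¹) (Fin.rev_lt_rev.2 h), map_zero, mul_zero]

theorem th_isDiag (hD : D.Good) {t : GL (Fin N) K} (ht : (t : Matrix (Fin N) (Fin N) K).IsDiag) :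
    (th hD t : Matrix (Fin N) (Fin N) K).IsDiag := by
  intro a b h
  rw [th_apply]
  have hinv : ((t⁻¹ : GL (Fin N) K) : Matrix (Fin N) (Fin N) K).IsDiag := by
    intro c d hcd
    have h1 : (((t : GL (Fin N) K) * t⁻¹ : GL (Fin N) K) : Matrix (Fin N) (Fin N) K) c d = 0 := by
      rw [mul_inv_cancel, Units.val_one, Matrix.one_apply_ne hcd]
    rw [Units.val_mul, Matrix.mul_apply, Finset.sum_eq_single c (fun x _ hx => by
      rw [ht (Ne.symm hx), zero_mul]) (fun h => absurd (Finset.mem_univ _) h)] at h1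
    refine (mul_eq_zero.1 h1).resolve_left ?_
    exact Up.diag_ne (show Up t from fun x y (hxy : y < x) => ht hxy.ne') c
  rw [hinv (fun e => h (Fin.rev_injective e).symm), map_zero, mul_zero]

theorem th_pat (hD : D.Good) {σ : Equiv.Perm (Fin N)} (hσ : ∀ a, σ (rev a) = rev (σ a))
    {u : GL (Fin N) K} (hu : Pat σ.symm (u : Matrix (Fin N) (Fin N) K)) :
    Pat σ.symm (th hD u : Matrix (Fin N) (Fin N) K) := by
  have hi := Pat.inv hu
  have hσ' : ∀ a, σ.symm (rev a) = rev (σ.symm a) := fun a => by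
    rw [Equiv.symm_apply_eq, hσ, Equiv.apply_symm_apply]
  refine ⟨fun a b h => ?_, fun a b h hs => ?_⟩
  · rw [th_apply, hi.1 (rev b) (rev a) (Fin.rev_le_rev.2 h)]
    split_ifs with h1 h2 h2
    · subst h2; rw [map_one, mul_one, hD.e_mul_self]
    · exact absurd (Fin.rev_injective h1).symm h2
    · exact absurd (by rw [h2]) h1
    · rw [map_zero, mul_zero]
  · rw [th_apply, hi.2 (rev b) (rev a) (Fin.rev_lt_rev.2 h) (by
      rw [hσ', hσ']; exact Fin.rev_lt_rev.2 hs), map_zero, mul_zero]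

theorem th_uni (hD : D.Good) {u : GL (Fin N) K} (hu : IsUni (u : Matrix (Fin N) (Fin N) K)) :
    IsUni (th hD u : Matrix (Fin N) (Fin N) K) := by
  have hi : IsUni ((u⁻¹ : GL (Fin N) K) : Matrix (Fin N) (Fin N) K) := by
    have h : Pat Fin.revPerm (u : Matrix (Fin N) (Fin N) K) :=
      ⟨hu, fun a b hab hs => absurd (show rev a < rev b from hs) (Fin.rev_lt_rev.2 hab).asymm⟩
    exact (Pat.inv h).1
  intro a b h
  rw [th_apply, hi (rev b) (rev a) (Fin.rev_le_rev.2 h)]
  split_ifs with h1 h2 h2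
  · subst h2; rw [map_one, mul_one, hD.e_mul_self]
  · exact absurd (Fin.rev_injective h1).symm h2
  · exact absurd (by rw [h2]) h1
  · rw [map_zero, mul_zero]

/-- The image of a permutation matrix. -/
theorem th_pm (hD : D.Good) (σ : Equiv.Perm (Fin N)) :
    ∃ d : GL (Fin N) K, (d : Matrix (Fin N) (Fin N) K).IsDiag ∧
      th hD (pm K σ) = pm K (Fin.revPerm.trans (σ.trans Fin.revPerm)) * d := by
  classical
  set τ := Fin.revPerm.trans (σ.trans Fin.revPerm) with hτ
  refine ⟨(pm K τ)⁻¹ * th hD (pm K σ), fun a b hab => ?_, by group⟩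
  show ((((pm K τ)⁻¹ * th hD (pm K σ)) : GL (Fin N) K) : Matrix (Fin N) (Fin N) K) a b = 0
  rw [← map_inv, pm_mul_apply, th_apply, ← map_inv, KnownB.Flag.permGL_apply, if_neg, map_zero,
    mul_zero]
  intro e
  apply hab
  simp only [Equiv.Perm.inv_def, Equiv.symm_symm] at e
  have e1 := congrArg σ e
  rw [Equiv.apply_symm_apply] at e1
  have e2 := congrArg Fin.rev e1
  rw [Fin.rev_rev] at e2
  exact τ.injective e2.symm

theorem eq_one_of_uni_diag {x : GL (Fin N) K} (hu : IsUni (x : Matrix (Fin N) (Fin N) K))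
    (hd : (x : Matrix (Fin N) (Fin N) K).IsDiag) : x = 1 := by
  refine Units.ext ?_
  ext a b
  rw [Units.val_one, Matrix.one_apply]
  rcases eq_or_ne a b with rfl | h
  · rw [if_pos rfl, hu.diag]
  · rw [if_neg h, hd h]

theorem uni_inv {u : GL (Fin N) K} (hu : IsUni (u : Matrix (Fin N) (Fin N) K)) :
    IsUni ((u⁻¹ : GL (Fin N) K) : Matrix (Fin N) (Fin N) K) :=
  (Pat.inv (s := Fin.revPerm) (g := u)
    ⟨hu, fun a b hab hs => absurd (show rev a < rev b from hs) (Fin.rev_lt_rev.2 hab).asymm⟩).1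

theorem diag_inv {t : GL (Fin N) K} (ht : (t : Matrix (Fin N) (Fin N) K).IsDiag) :
    ((t⁻¹ : GL (Fin N) K) : Matrix (Fin N) (Fin N) K).IsDiag := by
  intro c d hcd
  have h1 : (((t : GL (Fin N) K) * t⁻¹ : GL (Fin N) K) : Matrix (Fin N) (Fin N) K) c d = 0 := by
    rw [mul_inv_cancel, Units.val_one, Matrix.one_apply_ne hcd]
  rw [Units.val_mul, Matrix.mul_apply, Finset.sum_eq_single c (fun x _ hx => by
    rw [ht (Ne.symm hx), zero_mul]) (fun h => absurd (Finset.mem_univ _) h)] at h1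
  exact (mul_eq_zero.1 h1).resolve_left
    (Up.diag_ne (show Up t from fun x y (hxy : y < x) => ht hxy.ne') c)

theorem diag_mul {t t' : GL (Fin N) K} (ht : (t : Matrix (Fin N) (Fin N) K).IsDiag)
    (ht' : (t' : Matrix (Fin N) (Fin N) K).IsDiag) :
    ((t * t' : GL (Fin N) K) : Matrix (Fin N) (Fin N) K).IsDiag := by
  intro a b h
  rw [Units.val_mul, Matrix.mul_apply]
  refine Finset.sum_eq_zero fun c _ => ?_
  rcases eq_or_ne a c with rfl | hc
  · rw [ht' h, mul_zero]
  · rw [ht hc, zero_mul]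

theorem exists_split {b : GL (Fin N) K} (hb : Up b) : ∃ u t : GL (Fin N) K,
    IsUni (u : Matrix (Fin N) (Fin N) K) ∧ (t : Matrix (Fin N) (Fin N) K).IsDiag ∧ b = u * t := by
  obtain ⟨_, ⟨u, hu, rfl⟩, t, ht, e⟩ := BorelOver.exists_uni_mul_diagonal (F := K) hb
  exact ⟨_, t, fun a b h => hu a b h, ht, e⟩

/-- Equal products of a diagonal and a unitriangular element have equal factors. -/
theorem split_unique {u u' t t' : GL (Fin N) K} (hu : IsUni (u : Matrix (Fin N) (Fin N) K))
    (hu' : IsUni (u' : Matrix (Fin N) (Fin N) K)) (ht : (t : Matrix (Fin N) (Fin N) K).IsDiag)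
    (ht' : (t' : Matrix (Fin N) (Fin N) K).IsDiag) (e : u * t = u' * t') : u = u' ∧ t = t' := by
  have h : u'⁻¹ * u = t' * t⁻¹ := by
    rw [inv_mul_eq_iff_eq_mul, ← mul_assoc, ← e, mul_inv_cancel_right]
  have h1 := eq_one_of_uni_diag (x := u'⁻¹ * u)
    (by rw [Units.val_mul]; exact (uni_inv hu').mul hu) (by rw [h]; exact diag_mul ht' (diag_inv ht))
  have h2 : u = u' := (inv_mul_eq_one.1 h1).symm
  subst h2
  exact ⟨rfl, mul_left_cancel e⟩

/-- Bruhat decomposition in the isometry group. -/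
theorem exists_bruhat (hD : D.Good) {h : GL (Fin N) K} (hh : th hD h = h) :
    ∃ (u : GL (Fin N) K) (σ : Equiv.Perm (Fin N)) (t v : GL (Fin N) K), Up u ∧ th hD u = u ∧ (t : Matrix (Fin N) (Fin N) K).IsDiag ∧
      th hD (pm K σ * t) = pm K σ * t ∧ Up v ∧ th hD v = v ∧
      h = u * (pm K σ * t) * v := by
  obtain ⟨b₁, hb₁, σ, b₂, hb₂, e⟩ := KnownB.Flag.exists_bruhat h
  obtain ⟨d, hd, hpm⟩ := th_pm hD σ
  -- the permutation commutes with `rev`
  have hσ : Fin.revPerm.trans (σ.trans Fin.revPerm) = σ := by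
    symm
    refine perm_unique (b := (th hD b₁)⁻¹ * b₁) (b' := d * th hD b₂ * b₂⁻¹)
      (mul_mem (inv_mem (th_up hD hb₁)) hb₁)
      (mul_mem (mul_mem (fun a c (h : c < a) => hd h.ne') (th_up hD hb₂)) (inv_mem hb₂)) ?_
    have e1 : th hD h = th hD b₁ * (pm K (Fin.revPerm.trans (σ.trans Fin.revPerm)) * d) *
        th hD b₂ := by
      rw [e, map_mul, map_mul, hpm]
    rw [hh] at e1
    rw [mul_assoc, inv_mul_eq_iff_eq_mul]
    calc b₁ * pm K σ = h * b₂⁻¹ := by rw [e, mul_inv_cancel_right]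
      _ = _ := by rw [e1]; group
  rw [hσ] at hpm
  have hσr : ∀ a, σ (rev a) = rev (σ a) := fun a => by
    conv_lhs => rw [← hσ]
    simp
  obtain ⟨x, t₁, hx, ht₁, e₁⟩ := exists_split hb₁
  obtain ⟨u, x', ex, hu, hx'⟩ := exists_factor σ.symm hx
  set b := (pm K σ)⁻¹ * x' * pm K σ * ((pm K σ)⁻¹ * t₁ * pm K σ) * b₂
    with hbdef
  have hb : Up b := mul_mem (mul_mem (pat_conj hx') (BorelOver.diagonal_conj_perm ht₁ ⟨σ, rfl⟩)) hb₂
  have eh : h = u * pm K σ * b := by
    rw [e, e₁, ex, hbdef]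
    group
  have eθ : h = th hD u * pm K σ * (d * th hD b) := by
    conv_lhs => rw [← hh, eh, map_mul, map_mul, hpm]
    group
  have hdth : Up (d * th hD b) := mul_mem (fun a c (h : c < a) => hd h.ne') (th_up hD hb)
  have hu' : th hD u = u :=
    (pat_unique hu (th_pat hD hσr hu) hb hdth (eh.symm.trans eθ)).symm
  obtain ⟨y, t, hy, ht, ey⟩ := exists_split (show Up b⁻¹ from inv_mem hb)
  have eb : b = t⁻¹ * y⁻¹ := by rw [← _root_.mul_inv_rev, ← ey, inv_inv]
  have hfix : d * th hD b = b := by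
    rw [hu'] at eθ
    exact mul_left_cancel (eθ.symm.trans eh)
  have hy' : y = th hD y ∧ t = th hD t * d⁻¹ := by
    refine split_unique hy (th_uni hD hy) ht (diag_mul (th_isDiag hD ht) (diag_inv hd)) ?_
    rw [← ey, ← mul_assoc, ← map_mul, ← ey, map_inv, ← _root_.mul_inv_rev]
    exact (congrArg (·⁻¹) hfix).symm
  refine ⟨u, σ, t⁻¹, y⁻¹, uni_up hu.1, hu', diag_inv ht, ?_, uni_up (uni_inv hy),
    by rw [map_inv, ← hy'.1], by rw [eh, eb]; group⟩
  rw [map_mul, hpm, map_inv, mul_assoc]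
  congr 1
  conv_rhs => rw [hy'.2, _root_.mul_inv_rev, inv_inv]

/-- Overgroups of the unitriangular subgroup are normalised by its normalizer. -/
theorem normalizer_uni_le (p : ℕ) [Fact p.Prime] [CharP K p] (hD : D.Good) {H : Subgroup D.group}
    (hH : U D ≤ H) :
    Subgroup.normalizer (U D : Set D.group) ≤ Subgroup.normalizer (H : Set D.group) := by
  intro g hg
  set f := D.group.subtype with hfdef
  have hf : Function.Injective f := Subtype.val_injective
  have hfix : ∀ x : D.group, th hD (f x) = f x := fun x => (th_eq_self_iff hD _).2 x.2.1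
  have hpU : IsPGroup p (U D) := isPGroup_U hD
  let P : Sylow p D.group := hpU.toSylow
    (CfsgLib.Fusion.not_dvd_index_of_pElements hpU fun g hg k hk => pElement_mem hD hg k hk)
  let B : Subgroup (GL (Fin N) K) :=
    Cfsg.upperTriangularGL N K ⊓ (th hD).eqLocus (MonoidHom.id _)
  have hmemU : ∀ x : GL (Fin N) K, IsUni (x : Matrix (Fin N) (Fin N) K) → th hD x = x →
      x ∈ (U D).map f := by
    intro x hx hxf
    refine ⟨⟨x, (th_eq_self_iff hD _).1 hxf, ?_⟩, hx, rfl⟩
    rw [det_of_isUpperTriangular (fun a b (h : b < a) => hx.lower a b h)]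
    exact Finset.prod_eq_one fun i _ => hx.diag i
  have hmain := BorelOver.mem_normalizer_of_bruhat (p := p) (U := (U D).map f) (B := B)
    (H := H.map f) {t | (t : Matrix (Fin N) (Fin N) K).IsDiag ∧ th hD t = t}
    {n | ∃ σ, ∃ t : GL (Fin N) K, (t : Matrix (Fin N) (Fin N) K).IsDiag ∧
      n = pm K σ * t ∧ th hD n = n}
    (by
      rintro _ ⟨x, hx, rfl⟩
      exact ⟨fun a b h => IsUni.lower hx a b h, hfix x⟩)
    (fun b hb c hc => by
      obtain ⟨v, hv, hve⟩ := BorelOver.commutator_mem_uni hb.1 hc.1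
      refine hmemU _ (by rw [← hve]; exact hv) ?_
      rw [map_mul, map_mul, map_mul, map_inv, map_inv, show th hD b = b from hb.2,
        show th hD c = c from hc.2])
    (fun b hb => by
      obtain ⟨u, t, hu, ht, e⟩ := exists_split hb.1
      have h1 : th hD u * th hD t = u * t := by rw [← map_mul, ← e]; exact hb.2
      obtain ⟨h2, h3⟩ := split_unique (th_uni hD hu) hu (th_isDiag hD ht) ht h1
      exact ⟨u, hmemU u hu h2, t, ⟨ht, h3⟩, e⟩)
    (fun t ht n hn => by
      obtain ⟨σ, t', ht', e, hn'⟩ := hn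
      refine ⟨?_, ?_⟩
      · rw [e, show (pm K σ * t')⁻¹ * t * (pm K σ * t') =
          t'⁻¹ * ((pm K σ)⁻¹ * t * pm K σ) * t' by group]
        exact mul_mem (mul_mem (fun a b (h : b < a) => diag_inv ht' h.ne')
          (BorelOver.diagonal_conj_perm ht.1 ⟨σ, rfl⟩)) (fun a b (h : b < a) => ht' h.ne')
      · show th hD (n⁻¹ * t * n) = n⁻¹ * t * n
        rw [map_mul, map_mul, map_inv, hn', ht.2])
    (Subgroup.map_mono hH) (hpU.map f)
    (fun Q hQH hQ hle => by
      have h1 : Q.comap f = U D := P.3 (hQ.comap_of_injective f hf)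
        (fun u hu => hle (Subgroup.mem_map_of_mem f hu))
      rw [← h1, Subgroup.map_comap_eq_self]
      exact hQH.trans (Subgroup.map_le_range f H))
    (by
      rintro _ ⟨h, hh, rfl⟩ hu
      refine ⟨fun a b hab => normalizer_upper p hD ?_ a b hab, hfix h⟩
      rw [Subgroup.mem_normalizer_iff_map_conj_eq]
      refine Subgroup.eq_of_le_of_card_ge ?_
        (Subgroup.card_map_of_injective (MulAut.conj h).injective).ge
      rintro _ ⟨u, hu', rfl⟩
      have h1 := hu (f u) (Subgroup.mem_map_of_mem f hu')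
      rw [← map_inv, ← map_mul, ← map_mul, Subgroup.mem_map_iff_mem hf] at h1
      exact h1)
    (by
      rintro _ ⟨h, -, rfl⟩
      obtain ⟨u, σ, t, v, hu, hu', ht, hn, hv, hv', e⟩ := exists_bruhat hD (hfix h)
      exact ⟨u, ⟨hu, hu'⟩, _, ⟨σ, t, ht, rfl, hn⟩, v, ⟨hv, hv'⟩, e⟩)
    (b := f g) ⟨fun a b h => normalizer_upper p hD hg a b h, hfix g⟩
  rw [Subgroup.mem_normalizer_iff_map_conj_eq] at hmain ⊢
  refine Subgroup.map_injective hf ?_
  rw [← hmain, Subgroup.map_map, Subgroup.map_map]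
  congr 1

end CfsgLib.ClassK.FormBruhat
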