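import Mathlib
import Cfsg.Agent.Lib.Geom.FormClass
import Cfsg.Agent.Lib.Geom.SympSpace

/-!
Congruence classes of invertible symmetric and alternating matrices over a finite field of odd order.
-/

set_option autoImplicit false

namespace CfsgLib.ClassK.FormCongr

open Matrix
open scoped Matrix

variable {F : Type*} [Field F] {ι : Type*} [Fintype ι] [DecidableEq ι]

theorem exists_of_isometry (M M' : Matrix ι ι F) (e : (ι → F) ≃ₗ[F] (ι → F))
    (he : ∀ x y, e x ⬝ᵥ M *ᵥ e y = x ⬝ᵥ M' *ᵥ y) : ∃ h : GL ι F, (h : Matrix ι ι F)ᵀ * M * (h : Matrix ι ι F) = M' := by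
  refine ⟨⟨LinearMap.toMatrix' e.toLinearMap, LinearMap.toMatrix' e.symm.toLinearMap,
    by rw [← LinearMap.toMatrix'_comp]; simp, by rw [← LinearMap.toMatrix'_comp]; simp⟩, ?_⟩
  refine (Matrix.toLinearMap₂' (S₁ := F) (S₂ := F) F).injective (LinearMap.ext fun x => LinearMap.ext fun y => ?_)
  rw [Matrix.toLinearMap₂'_apply', Matrix.toLinearMap₂'_apply', ← mulVec_mulVec, ← mulVec_mulVec,
    dotProduct_mulVec, vecMul_transpose]
  show (LinearMap.toMatrix' e.toLinearMap *ᵥ x) ⬝ᵥ M *ᵥ (LinearMap.toMatrix' e.toLinearMap *ᵥ y) = _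
  rw [LinearMap.toMatrix'_mulVec, LinearMap.toMatrix'_mulVec]
  exact he x y

theorem sep_of_isUnit' {M : Matrix ι ι F} (hu : IsUnit M) {x : ι → F}
    (h : ∀ y, x ⬝ᵥ M *ᵥ y = 0) : x = 0 := by
  have h1 : x ᵥ* M = 0 := dotProduct_eq_zero _ fun y => (dotProduct_mulVec x M y).symm.trans (h y)
  exact Matrix.vecMul_injective_of_isUnit hu (h1.trans (zero_vecMul _).symm)

/-- Alternating invertible matrices are congruent. -/
theorem exists_congr_alt (h2 : (2 : F) ≠ 0) {M M' : Matrix ι ι F} (hM : Mᵀ = -M) (hM' : M'ᵀ = -M')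
    (hu : IsUnit M) (hu' : IsUnit M') : ∃ h : GL ι F, (h : Matrix ι ι F)ᵀ * M * (h : Matrix ι ι F) = M' := by
  have halt : ∀ {N : Matrix ι ι F}, Nᵀ = -N → ∀ v, (Matrix.toLinearMap₂' F N : (ι → F) →ₗ[F] (ι → F) →ₗ[F] F) v v = 0 := by
    intro N hN v
    rw [Matrix.toLinearMap₂'_apply']
    have h : v ⬝ᵥ N *ᵥ v = -(v ⬝ᵥ N *ᵥ v) := by
      conv_lhs => rw [dotProduct_mulVec, ← mulVec_transpose, hN, neg_mulVec, neg_dotProduct, dotProduct_comm]
    exact (mul_eq_zero.1 (show (2 : F) * (v ⬝ᵥ N *ᵥ v) = 0 by linear_combination h)).resolve_left h2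
  obtain ⟨e, he⟩ := CfsgLib.Geom.exists_symp_isometry (Module.finrank F (ι → F))
    (Matrix.toLinearMap₂' F M') (Matrix.toLinearMap₂' F M) (halt hM')
    (fun x hx => sep_of_isUnit' hu' fun y => by rw [← Matrix.toLinearMap₂'_apply']; exact hx y)
    (halt hM) (fun x hx => sep_of_isUnit' hu fun y => by rw [← Matrix.toLinearMap₂'_apply']; exact hx y) rfl rfl
  exact exists_of_isometry M M' e fun x y => by
    have := he x y
    rwa [Matrix.toLinearMap₂'_apply', Matrix.toLinearMap₂'_apply'] at this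

/-- Symmetric invertible matrices with the same discriminant class are congruent. -/
theorem exists_congr_symm [Finite F] (h2 : (2 : F) ≠ 0) {M M' : Matrix ι ι F} (hM : Mᵀ = M) (hM' : M'ᵀ = M')
    (hu : IsUnit M) (hu' : IsUnit M') (hsq : IsSquare (M.det * M'.det)) :
    ∃ h : GL ι F, (h : Matrix ι ι F)ᵀ * M * (h : Matrix ι ι F) = M' := by
  have hpol : ∀ {N : Matrix ι ι F}, Nᵀ = N → ∀ x y : ι → F,
      QuadraticMap.polar (⇑N.toQuadraticForm') x y = 2 * (x ⬝ᵥ N *ᵥ y) := by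
    intro N hN x y
    have h1 : ∀ z, N.toQuadraticForm' z = z ⬝ᵥ N *ᵥ z := fun z => by
      simp [Matrix.toQuadraticForm', Matrix.toLinearMap₂'_apply']
    have h3 : y ⬝ᵥ N *ᵥ x = x ⬝ᵥ N *ᵥ y := by
      rw [dotProduct_mulVec, ← mulVec_transpose, hN, dotProduct_comm]
    rw [QuadraticMap.polar, h1, h1, h1, mulVec_add, add_dotProduct, dotProduct_add, dotProduct_add, h3]
    ring
  have hsep : ∀ {N : Matrix ι ι F}, Nᵀ = N → IsUnit N →
      ∀ x, (∀ y, QuadraticMap.polar (⇑N.toQuadraticForm') x y = 0) → x = 0 := fun hN hNu x hx =>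
    sep_of_isUnit' hNu fun y => (mul_eq_zero.1 ((hpol hN x y).symm.trans (hx y))).resolve_left h2
  have hdet : ∀ {N : Matrix ι ι F}, Nᵀ = N →
      (LinearMap.toMatrix₂ (Pi.basisFun F ι) (Pi.basisFun F ι) N.toQuadraticForm'.polarBilin).det =
        2 ^ Fintype.card ι * N.det := by
    intro N hN
    rw [show LinearMap.toMatrix₂ (Pi.basisFun F ι) (Pi.basisFun F ι) N.toQuadraticForm'.polarBilin = (2 : F) • N by
      ext i j
      rw [LinearMap.toMatrix₂_apply, QuadraticMap.polarBilin_apply_apply, hpol hN, Pi.basisFun_apply,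
        Pi.basisFun_apply, mulVec_single_one, single_one_dotProduct, Matrix.smul_apply, smul_eq_mul]
      rfl, det_smul]
  obtain ⟨e, he⟩ := CfsgLib.Geom.exists_isometry_of_disc M'.toQuadraticForm' M.toQuadraticForm' h2
    (hsep hM' hu') (hsep hM hu) (Pi.basisFun F ι) (Pi.basisFun F ι) (by
      rw [hdet hM', hdet hM]
      obtain ⟨r, hr⟩ := hsq
      exact ⟨2 ^ Fintype.card ι * r, by linear_combination (2 : F) ^ Fintype.card ι * 2 ^ Fintype.card ι * hr⟩)
  refine exists_of_isometry M M' e fun x y => mul_left_cancel₀ h2 ?_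
  rw [← hpol hM, ← hpol hM', QuadraticMap.polar, QuadraticMap.polar, ← map_add, he, he, he]

end CfsgLib.ClassK.FormCongr
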