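import Mathlib
import Cfsg.Agent.Lib.Classical.SemiNorm
import Cfsg.Agent.Lib.Geom.FormClass
import Cfsg.Agent.Lib.Geom.SympSpace

/-!
Two non-degenerate `ε`-symmetric forms invariant under `A` (odd characteristic) are congruent by a
matrix commuting with `A` as soon as their layer forms at the eigenvalues `±1` agree.
-/

set_option autoImplicit false

namespace CfsgLib.ClassK.FormLayers

open Matrix Finset CfsgLib.Classical
open scoped Matrix

/-- A binary form over a finite commutative ring with `2` invertible represents the unit `s` if at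
each maximal ideal the discriminant is non-zero or `s` is one. -/
theorem exists_binary {R : Type*} [CommRing R] [Finite R] (h2 : IsUnit (2 : R)) (a b : R) {s : R}
    (hs : IsUnit s) (h : ∀ P : Ideal R, P.IsMaximal → a * a - 4 * b ∉ P ∨ s - 1 ∈ P) :
    ∃ u v : R, u * u + a * u * v + b * v * v = s := by
  classical
  let N : R → R → R := fun u v => u * u + a * u * v + b * v * v
  let I := nilradical R
  have hred : IsReduced (R ⧸ I) :=
    (Ideal.isRadical_iff_quotient_reduced I).1 (Ideal.radical_isRadical _)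
  let e := IsArtinianRing.equivPi (R ⧸ I)
  let π : R →+* R ⧸ I := Ideal.Quotient.mk I
  have : Finite (R ⧸ I) := Finite.of_surjective π Ideal.Quotient.mk_surjective
  have hcomp : ∀ P : MaximalSpectrum (R ⧸ I), ∃ u v : (R ⧸ I) ⧸ P.asIdeal,
      u * u + e (π a) P * u * v + e (π b) P * v * v = e (π s) P := by
    intro P
    let _ := Ideal.Quotient.field P.asIdeal
    have : Finite ((R ⧸ I) ⧸ P.asIdeal) :=
      Finite.of_surjective (Ideal.Quotient.mk P.asIdeal) Ideal.Quotient.mk_surjective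
    haveI : (P.asIdeal.comap π).IsMaximal :=
      Ideal.comap_isMaximal_of_surjective π Ideal.Quotient.mk_surjective
    have hmem : ∀ r : R, e (π r) P = 0 ↔ r ∈ P.asIdeal.comap π := fun r =>
      Ideal.Quotient.eq_zero_iff_mem
    rcases h _ this with h | h
    · refine SemiNorm.exists_binary_field _ _ ?_ _
      intro h0
      refine h ((hmem _).1 ?_)
      rw [map_sub, map_mul, map_mul, map_ofNat, map_sub, map_mul, map_mul, map_ofNat]
      exact h0
    · refine ⟨1, 0, ?_⟩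
      have h1 := (hmem _).2 h
      rw [map_sub, map_one, map_sub, map_one] at h1
      rw [mul_zero, mul_zero, add_zero, add_zero, mul_one]
      exact (sub_eq_zero.1 h1).symm
  choose u v huv using hcomp
  obtain ⟨U, hU⟩ : ∃ U : R, e (π U) = u := by
    obtain ⟨y, hy⟩ := e.surjective u
    obtain ⟨U, rfl⟩ := Ideal.Quotient.mk_surjective y
    exact ⟨U, hy⟩
  obtain ⟨W, hW⟩ : ∃ W : R, e (π W) = v := by
    obtain ⟨y, hy⟩ := e.surjective v
    obtain ⟨W, rfl⟩ := Ideal.Quotient.mk_surjective y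
    exact ⟨W, hy⟩
  have hnil : N U W - s ∈ I := by
    rw [← Ideal.Quotient.eq_zero_iff_mem]
    refine e.injective ?_
    funext P
    show e (π (N U W - s)) P = e 0 P
    simp only [N, map_sub, map_add, map_mul, hU, hW, map_zero, Pi.sub_apply, Pi.add_apply,
      Pi.mul_apply, Pi.zero_apply, huv P, sub_self]
  have hNU : IsUnit (N U W) := by
    have : IsNilpotent (N U W - s) := hnil
    simpa using this.isUnit_add_right_of_commute hs (Commute.all _ _)
  obtain ⟨w, hw⟩ := hNU.exists_left_inv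
  obtain ⟨t, ht⟩ := h2.exists_left_inv
  have hw' : (s - N U W) * w ∈ I := I.mul_mem_right _ (by simpa using I.neg_mem hnil)
  let f : I → I := fun y => ⟨(y : R) + t * t * (y : R) * (y : R),
    I.add_mem y.2 (I.mul_mem_left _ y.2)⟩
  have hf : Function.Injective f := by
    intro y y' h
    have h' : ((y : R) - y') * (1 + t * t * ((y : R) + y')) = 0 := by
      have := congrArg Subtype.val h
      simp only [f] at this
      linear_combination this
    have hu : IsUnit (1 + t * t * ((y : R) + y')) :=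
      IsNilpotent.isUnit_one_add (I.mul_mem_left _ (I.add_mem y.2 y'.2))
    exact Subtype.ext (sub_eq_zero.1 ((hu.mul_left_eq_zero).1 h'))
  obtain ⟨y, hy⟩ := (Finite.injective_iff_surjective.1 hf) ⟨_, hw'⟩
  have hy' : (y : R) + t * t * (y : R) * (y : R) = (s - N U W) * w := congrArg Subtype.val hy
  refine ⟨U * (1 + t * y), W * (1 + t * y), ?_⟩
  simp only [N] at hy' hw ⊢
  linear_combination (U * U + a * U * W + b * W * W) * (hy' + (y : R) * ht) + (s - (U * U + a * U * W + b * W * W)) * hw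

/-- Some positive power is idempotent. -/
theorem exists_pow_idempotent {R : Type*} [Monoid R] [Finite R] (d : R) :
    ∃ a, 0 < a ∧ d ^ a * d ^ a = d ^ a := by
  obtain ⟨i, j, hij, he⟩ := Finite.exists_ne_map_eq_of_infinite (fun k : ℕ => d ^ k)
  wlog hlt : i < j generalizing i j
  · exact this j i hij.symm he.symm (by omega)
  obtain ⟨p, rfl⟩ : ∃ p, j = i + p := ⟨j - i, by omega⟩
  have key : ∀ t m, i ≤ m → d ^ (m + t * p) = d ^ m := by
    intro t
    induction t with
    | zero => simp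
    | succ t ih =>
      intro m hm
      obtain ⟨s, rfl⟩ : ∃ s, m = s + i := ⟨m - i, by omega⟩
      rw [show s + i + (t + 1) * p = s + (i + p) + t * p by ring, ih _ (by omega), pow_add d s (i + p), pow_add d s i]
      exact congrArg _ he.symm
  refine ⟨p * (i + 1), Nat.mul_pos (by omega) (by omega), ?_⟩
  rw [← pow_add]
  have := key (i + 1) (p * (i + 1)) (le_trans (Nat.le_succ i) (Nat.le_mul_of_pos_left _ (by omega)))
  rwa [mul_comm (i + 1) p] at this

variable {F : Type*} [Field F] {n : ℕ}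

local notation "Mn" => Matrix (Fin n) (Fin n) F

/-- An invertible `ε`-symmetric Gram matrix invariant under `A`. -/
structure IsInv (ε : F) (A : GL (Fin n) F) (J : Mn) : Prop where
  symm : Jᵀ = ε • J
  unit : IsUnit J
  inv : (A : Mn)ᵀ * J * (A : Mn) = J

/-- The form with Gram matrix `J`. -/
def frm (J : Mn) (u w : Fin n → F) : F := u ⬝ᵥ J *ᵥ w

/-- `A - c`. -/
def Nm (A : GL (Fin n) F) (c : F) : Mn := (A : Mn) - c • 1

/-- Adjoint. -/
noncomputable def adj (J X : Mn) : Mn := J⁻¹ * Xᵀ * J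

theorem frm_mulVec (J X : Mn) (u w : Fin n → F) (hJ : IsUnit J) :
    frm J (X *ᵥ u) w = frm J u (adj J X *ᵥ w) := by
  have h := mul_nonsing_inv J ((isUnit_iff_isUnit_det J).1 hJ)
  rw [frm, frm, adj, mulVec_mulVec, ← Matrix.mul_assoc, ← Matrix.mul_assoc, h, Matrix.one_mul,
    ← mulVec_mulVec, ← vecMul_transpose, ← dotProduct_mulVec]

variable {ε : F} {A : GL (Fin n) F} {J J' : Matrix (Fin n) (Fin n) F}

theorem frm_comm (h : IsInv ε A J) (u w : Fin n → F) : frm J w u = ε * frm J u w := by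
  simp only [frm]
  rw [dotProduct_mulVec, ← mulVec_transpose, h.symm, smul_mulVec, smul_dotProduct,
    dotProduct_comm, smul_eq_mul]

theorem adj_pow (hJ : IsUnit J) (X : Mn) (k : ℕ) : adj J (X ^ k) = adj J X ^ k := by
  have hd := (isUnit_iff_isUnit_det J).1 hJ
  induction k with
  | zero => rw [pow_zero, pow_zero, adj, transpose_one, Matrix.mul_one, nonsing_inv_mul _ hd]
  | succ k ih =>
    rw [pow_succ', pow_succ, ← ih, adj, adj, adj, transpose_mul]
    simp only [Matrix.mul_assoc, mul_nonsing_inv_cancel_left _ _ hd]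

theorem adj_self (h : IsInv ε A J) : adj J (A : Mn) = ((A⁻¹ : GL (Fin n) F) : Mn) := by
  have hd := (isUnit_iff_isUnit_det J).1 h.unit
  have h1 : adj J (A : Mn) * (A : Mn) = 1 := by
    rw [adj, Matrix.mul_assoc, Matrix.mul_assoc, ← Matrix.mul_assoc (A : Mn)ᵀ, h.inv, nonsing_inv_mul _ hd]
  exact left_inv_eq_right_inv h1 A.mul_inv

theorem adj_Nm (h : IsInv ε A J) {c : F} (hc : c * c = 1) :
    adj J (Nm A c) = (-c) • (((A⁻¹ : GL (Fin n) F) : Mn) * Nm A c) := by
  have hd := (isUnit_iff_isUnit_det J).1 h.unit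
  have h1 : adj J (Nm A c) = ((A⁻¹ : GL (Fin n) F) : Mn) - c • 1 := by
    rw [← adj_self h, adj, adj, Nm, transpose_sub, transpose_smul, transpose_one, Matrix.mul_sub,
      Matrix.sub_mul, mul_smul_comm, smul_mul_assoc, Matrix.mul_one, nonsing_inv_mul _ hd]
  rw [h1, Nm, Matrix.mul_sub, mul_smul_comm, Matrix.mul_one, A.inv_mul, smul_sub, smul_smul, neg_mul, hc]
  simp only [neg_smul, one_smul]
  abel

theorem commute_inv_Nm (A : GL (Fin n) F) (c : F) : Commute ((A⁻¹ : GL (Fin n) F) : Mn) (Nm A c) := by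
  refine Commute.sub_right ?_ ((Commute.one_right _).smul_right c)
  show _ = _
  rw [A.inv_mul, A.mul_inv]

theorem frm_move (h : IsInv ε A J) {c : F} (hc : c * c = 1) (k : ℕ) (u w : Fin n → F) :
    frm J (Nm A c ^ k *ᵥ u) w =
      (-c) ^ k * frm J u (((A⁻¹ : GL (Fin n) F) : Mn) ^ k *ᵥ (Nm A c ^ k *ᵥ w)) := by
  rw [frm_mulVec J _ _ _ h.unit, adj_pow h.unit, adj_Nm h hc, smul_pow, (commute_inv_Nm A c).mul_pow,
    smul_mulVec, ← mulVec_mulVec, frm, frm, mulVec_smul, dotProduct_smul, smul_eq_mul]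

theorem inv_pow_fixed {c : F} (hc : c * c = 1) {y : Fin n → F} (hy : Nm A c *ᵥ y = 0) (k : ℕ) :
    ((A⁻¹ : GL (Fin n) F) : Mn) ^ k *ᵥ y = c ^ k • y := by
  have h1 : ((A⁻¹ : GL (Fin n) F) : Mn) *ᵥ y = c • y := by
    rw [Nm, sub_mulVec, smul_mulVec, one_mulVec, sub_eq_zero] at hy
    have := congrArg (fun z => ((A⁻¹ : GL (Fin n) F) : Mn) *ᵥ z) hy
    simp only [mulVec_mulVec, A.inv_mul, one_mulVec, mulVec_smul] at this
    conv_rhs => rw [this, smul_smul, hc, one_smul]
  induction k with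
  | zero => simp
  | succ k ih => rw [pow_succ, ← mulVec_mulVec, h1, mulVec_smul, ih, smul_smul, ← pow_succ']

/-- The layer form is `ε (-1) ^ k`-symmetric. -/
theorem frm_layer_comm (h : IsInv ε A J) {c : F} (hc : c * c = 1) {k : ℕ} {u w : Fin n → F}
    (hu : Nm A c ^ (k + 1) *ᵥ u = 0) :
    frm J w (Nm A c ^ k *ᵥ u) = ε * (-1) ^ k * frm J u (Nm A c ^ k *ᵥ w) := by
  have h0 : Nm A c *ᵥ (Nm A c ^ k *ᵥ u) = 0 := by rw [mulVec_mulVec, ← pow_succ', hu]
  have h1 := frm_move h hc k w u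
  rw [inv_pow_fixed hc h0, frm, frm, mulVec_smul, dotProduct_smul, smul_eq_mul, ← mul_assoc, ← mul_pow,
    neg_mul, hc] at h1
  have h2 := frm_comm h u (Nm A c ^ k *ᵥ w)
  have h3 : ((-1 : F) ^ k) * ((-1) ^ k) = 1 := by rw [← mul_pow, neg_one_mul, neg_neg, one_pow]
  simp only [frm] at h1 h2 ⊢
  linear_combination (-1 : F) ^ k * h2 - (-1 : F) ^ k * h1 - (w ⬝ᵥ J *ᵥ (Nm A c ^ k *ᵥ u)) * h3

theorem eq_zero_of_frm (hJ : IsUnit J) {u : Fin n → F} (h : ∀ v, frm J v u = 0) : u = 0 := by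
  have h1 : J *ᵥ u = 0 := dotProduct_eq_zero _ fun v => (dotProduct_comm _ _).trans (h v)
  exact Matrix.mulVec_injective_of_isUnit hJ (h1.trans (mulVec_zero _).symm)

/-- Orthogonal to a kernel implies in the image. -/
theorem exists_preimage (h : IsInv ε A J) {c : F} (hc : c * c = 1) (k : ℕ) (x : Fin n → F)
    (hx : ∀ w, Nm A c ^ k *ᵥ w = 0 → frm J x w = 0) : ∃ z, Nm A c ^ k *ᵥ z = x := by
  classical
  by_contra hne
  have hxm : x ∉ LinearMap.range (Nm A c ^ k).mulVecLin := fun ⟨y, hy⟩ => hne ⟨y, by simpa using hy⟩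
  obtain ⟨φ, hφx, hφ⟩ := Submodule.exists_dual_map_eq_bot_of_notMem hxm inferInstance
  have hd := (isUnit_iff_isUnit_det J).1 h.unit
  let w : Fin n → F := J⁻¹ *ᵥ fun i => φ (Pi.single i 1)
  have hw : ∀ y, frm J y w = φ y := fun y => by
    conv_rhs => rw [← Finset.univ_sum_single y, map_sum]
    simp only [frm, w, mulVec_mulVec, mul_nonsing_inv _ hd, one_mulVec, dotProduct]
    refine Finset.sum_congr rfl fun i _ => ?_
    rw [← smul_eq_mul, ← map_smul]
    congr 1
    ext j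
    rcases eq_or_ne j i with rfl | hj <;> simp [*]
  refine hφx ?_
  rw [← hw]
  refine hx w ?_
  have hz : ((A⁻¹ : GL (Fin n) F) : Mn) ^ k *ᵥ (Nm A c ^ k *ᵥ w) = 0 := by
    refine eq_zero_of_frm h.unit fun z => ?_
    have h1 : φ (Nm A c ^ k *ᵥ z) ∈ (LinearMap.range (Nm A c ^ k).mulVecLin).map φ :=
      ⟨_, ⟨z, rfl⟩, rfl⟩
    rw [hφ, Submodule.mem_bot, ← hw, frm_move h hc, mul_eq_zero] at h1
    exact h1.resolve_left (pow_ne_zero _ (neg_ne_zero.2 (left_ne_zero_of_mul_eq_one hc)))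
  exact Matrix.mulVec_injective_of_isUnit (A⁻¹.isUnit.pow k) (hz.trans (mulVec_zero _).symm)

theorem ker_pow_stable (A : GL (Fin n) F) (c : F) {z : Fin n → F} (hz : Nm A c ^ (n + 1) *ᵥ z = 0) :
    Nm A c ^ n *ᵥ z = 0 := by
  have hpow : ∀ k, (Matrix.toLinAlgEquiv' (R := F) (n := Fin n) (Nm A c)) ^ k =
      Matrix.toLinAlgEquiv' (Nm A c ^ k) := fun k => (map_pow _ _ _).symm
  have h := Module.End.ker_pow_eq_ker_pow_finrank_of_le
    (f := Matrix.toLinAlgEquiv' (R := F) (n := Fin n) (Nm A c)) (m := n + 1) (by simp)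
  have hm : z ∈ LinearMap.ker ((Matrix.toLinAlgEquiv' (R := F) (n := Fin n) (Nm A c)) ^ (n + 1)) := by
    rw [hpow, LinearMap.mem_ker, Matrix.toLinAlgEquiv'_apply, hz]
  rw [h, Module.finrank_fin_fun, hpow, LinearMap.mem_ker, Matrix.toLinAlgEquiv'_apply] at hm
  exact hm

/-- The layer forms at `±1` agree. -/
def SameLayers (A : GL (Fin n) F) (J J' : Mn) : Prop :=
  ∀ c : F, c * c = 1 → ∀ (k : ℕ) (u w : Fin n → F), Nm A c ^ (k + 1) *ᵥ u = 0 →
    Nm A c ^ (k + 1) *ᵥ w = 0 → frm J' u (Nm A c ^ k *ᵥ w) = frm J u (Nm A c ^ k *ᵥ w)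

theorem adj_quot (h : IsInv ε A J) (h' : IsInv ε A J') (hε : ε * ε = 1) :
    (J⁻¹ * J')ᵀ * J = J' := by
  have hd := (isUnit_iff_isUnit_det J).1 h.unit
  have hJi : (J⁻¹)ᵀ = ε • J⁻¹ := by
    rw [transpose_nonsing_inv, h.symm]
    refine inv_eq_left_inv ?_
    rw [smul_mul_assoc, mul_smul_comm, smul_smul, hε, one_smul, nonsing_inv_mul _ hd]
  rw [transpose_mul, hJi, h'.symm, smul_mul_assoc, mul_smul_comm, smul_smul, hε, one_smul, Matrix.mul_assoc,
    nonsing_inv_mul _ hd, Matrix.mul_one]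

theorem commute_quot (h : IsInv ε A J) (h' : IsInv ε A J') : Commute (J⁻¹ * J') (A : Mn) := by
  have hd := (isUnit_iff_isUnit_det J).1 h.unit
  have e1 : (A : Mn)ᵀ * (J * (J⁻¹ * J') * (A : Mn)) = (A : Mn)ᵀ * (J * (A : Mn) * (J⁻¹ * J')) := by
    rw [mul_nonsing_inv_cancel_left _ _ hd, ← Matrix.mul_assoc, h'.inv, ← Matrix.mul_assoc,
      ← Matrix.mul_assoc (A : Mn)ᵀ, h.inv, mul_nonsing_inv_cancel_left _ _ hd]
  have hAt : IsUnit (A : Mn)ᵀ := (isUnit_iff_isUnit_det _).2 (by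
    rw [det_transpose]; exact (isUnit_iff_isUnit_det _).1 A.isUnit)
  have e2 := hAt.mul_left_cancel e1
  rw [Matrix.mul_assoc, Matrix.mul_assoc J] at e2
  exact h.unit.mul_left_cancel e2

/-- `S - 1` is nilpotent on the `±1`-eigenspaces. -/
theorem sub_one_pow_eigen (h : IsInv ε A J) (h' : IsInv ε A J') (hε : ε * ε = 1)
    (hl : SameLayers A J J') {c : F} (hc : c * c = 1) {x : Fin n → F} (hx : Nm A c *ᵥ x = 0) :
    (J⁻¹ * J' - 1) ^ n *ᵥ x = 0 := by
  set T := J⁻¹ * J' - 1 with hT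
  have hTA : Commute T (A : Mn) := (commute_quot h h').sub_left (Commute.one_left _)
  have hTN : Commute T (Nm A c) := hTA.sub_right ((Commute.one_right _).smul_right c)
  have key : ∀ k, ∃ z, Nm A c ^ k *ᵥ z = T ^ k *ᵥ x ∧ Nm A c ^ (k + 1) *ᵥ z = 0 := by
    intro k
    induction k with
    | zero => exact ⟨x, rfl, by rwa [pow_one]⟩
    | succ k ih =>
      obtain ⟨z, hz, hz0⟩ := ih
      obtain ⟨z', hz'⟩ := exists_preimage h hc (k + 1) (T *ᵥ (T ^ k *ᵥ x)) fun w hw => by
        have h1 : ∀ y, frm J ((J⁻¹ * J') *ᵥ y) w = frm J' y w := fun y => by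
          rw [frm, frm, ← vecMul_transpose, ← dotProduct_mulVec, mulVec_mulVec, adj_quot h h' hε]
        have e : frm J (T *ᵥ (T ^ k *ᵥ x)) w =
            frm J' (T ^ k *ᵥ x) w - frm J (T ^ k *ᵥ x) w := by
          rw [← h1, frm, frm, frm, hT, sub_mulVec, one_mulVec, sub_dotProduct]
        rw [e, ← hz, frm_comm h' w, frm_comm h w, hl c hc k w z hw hz0, sub_self]
      refine ⟨z', by rw [hz', mulVec_mulVec, ← pow_succ'], ?_⟩
      rw [pow_succ', ← mulVec_mulVec, hz', mulVec_mulVec, ← hTN.eq, ← mulVec_mulVec, ← hz,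
        mulVec_mulVec z (Nm A c), ← pow_succ', hz0, mulVec_zero]
  obtain ⟨z, hz, hz0⟩ := key n
  rw [← hz, ker_pow_stable A c hz0]

/-- Congruence by a matrix commuting with `A`. -/
theorem exists_congr_of_sameLayers [Finite F] (h2 : (2 : F) ≠ 0) (h : IsInv ε A J) (h' : IsInv ε A J')
    (hε : ε * ε = 1) (hl : SameLayers A J J') :
    ∃ g : GL (Fin n) F, Commute (g : Mn) (A : Mn) ∧ (g : Mn)ᵀ * J * (g : Mn) = J' := by
  classical
  obtain ⟨S, hS⟩ : ∃ S, S = J⁻¹ * J' := ⟨_, rfl⟩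
  obtain ⟨Ai, hAi⟩ : ∃ Ai : Mn, Ai = ((A⁻¹ : GL (Fin n) F) : Mn) := ⟨_, rfl⟩
  have hA1 : (A : Mn) * Ai = 1 := hAi ▸ A.mul_inv
  have hA2 : Ai * (A : Mn) = 1 := hAi ▸ A.inv_mul
  have hSA : Commute S (A : Mn) := hS ▸ commute_quot h h'
  have hSAi : Commute S Ai := hAi ▸ hSA.units_inv_right
  have hAAi : Commute (A : Mn) Ai := hA1.trans hA2.symm
  obtain ⟨c₀, hc₀⟩ : ∃ c₀, c₀ = (A : Mn) + Ai := ⟨_, rfl⟩
  have hSc : Commute S c₀ := hc₀ ▸ hSA.add_right hSAi
  haveI : Finite Mn := inferInstanceAs (Finite (Fin n → Fin n → F))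
  let G : Set Mn := {S, c₀}
  let R := Subring.closure G
  have hcomm : ∀ x ∈ G, ∀ y ∈ G, x * y = y * x := by
    simp only [G, Set.mem_insert_iff, Set.mem_singleton_iff]
    rintro x (rfl | rfl) y (rfl | rfl)
    exacts [rfl, hSc, hSc.symm, rfl]
  have := Subring.isMulCommutative_closure hcomm
  let _ : CommRing R := { Subring.toRing R with mul_comm := mul_comm' }
  have hSR : S ∈ R := Subring.subset_closure (by simp [G])
  have hcR : c₀ ∈ R := Subring.subset_closure (by simp [G])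
  have hGA : ∀ z ∈ G, Commute (A : Mn) z := by
    simp only [G, Set.mem_insert_iff, Set.mem_singleton_iff]
    rintro z (rfl | rfl)
    exacts [hSA.symm, hc₀ ▸ (Commute.refl _).add_right hAAi]
  have hRA : ∀ r : R, Commute (A : Mn) (r : Mn) := fun r => SemiNorm.commute_closure hGA r.2
  have hd := (isUnit_iff_isUnit_det J).1 h.unit
  -- the adjoint fixes `R`
  have hfix : ∀ x ∈ R, xᵀ * J = J * x := by
    intro x hx
    induction hx using Subring.closure_induction with
    | mem z hz =>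
      simp only [G, Set.mem_insert_iff, Set.mem_singleton_iff] at hz
      rcases hz with rfl | rfl
      · rw [hS, adj_quot h h' hε, mul_nonsing_inv_cancel_left _ _ hd]
      · have e1 : (A : Mn)ᵀ * J = J * Ai := by
          rw [hAi, ← adj_self h, adj, Matrix.mul_assoc J⁻¹, mul_nonsing_inv_cancel_left _ _ hd]
        have e2 : Aiᵀ * J = J * (A : Mn) := by
          conv_lhs => rw [← h.inv, ← Matrix.mul_assoc, ← Matrix.mul_assoc, ← transpose_mul, hA1,
            transpose_one, Matrix.one_mul]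
        rw [hc₀, transpose_add, Matrix.add_mul, e1, e2, Matrix.mul_add, add_comm]
    | zero => simp
    | one => simp
    | add _ _ _ _ i j => rw [transpose_add, Matrix.add_mul, i, j, Matrix.mul_add]
    | neg _ _ i => rw [transpose_neg, Matrix.neg_mul, i, Matrix.mul_neg]
    | mul y z hy hz i j =>
      rw [transpose_mul, Matrix.mul_assoc, i, ← Matrix.mul_assoc, j, Matrix.mul_assoc,
        show z * y = y * z from congrArg Subtype.val (mul_comm' (⟨z, hz⟩ : R) ⟨y, hy⟩)]
  have h2R : IsUnit (2 : R) := by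
    have h1 : IsUnit (((2 : R) : R) : Mn) := by
      rw [show (((2 : R)) : Mn) = algebraMap F Mn 2 from (map_ofNat (algebraMap F Mn) 2).symm]
      exact (Ne.isUnit h2).map _
    exact SemiNorm.isUnit_mk (2 : R).2 h1
  have hSu : IsUnit (⟨S, hSR⟩ : R) := SemiNorm.isUnit_mk hSR (by
    rw [hS]; exact ((Matrix.isUnit_nonsing_inv_iff).2 h.unit).mul h'.unit)
  obtain ⟨u, v, huv⟩ := exists_binary (R := R) h2R ⟨c₀, hcR⟩ 1 hSu (by
    intro P hP
    by_contra hcon
    push Not at hcon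
    obtain ⟨hdP, htP⟩ := hcon
    set d : R := (⟨c₀, hcR⟩ : R) * ⟨c₀, hcR⟩ - 4 * 1 with hdd
    set t : R := (⟨S, hSR⟩ : R) - 1 with htt
    obtain ⟨a, ha, hae⟩ := exists_pow_idempotent d
    obtain ⟨b, hb, hbe⟩ := exists_pow_idempotent t
    set f : R := (1 - d ^ a) * t ^ b with hf
    have hfP : f ∉ P := by
      rw [hf]
      intro hmem
      rcases hP.isPrime.mem_or_mem hmem with h1 | h1
      · exact hP.ne_top ((Ideal.eq_top_iff_one _).2 (by
          simpa using P.add_mem h1 (P.pow_mem_of_mem hdP a ha)))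
      · exact htP (hP.isPrime.mem_of_pow_mem b h1)
    have hf0 : (f : Mn) ≠ 0 := fun h0 => hfP (by
      rw [show f = 0 from Subtype.ext h0]; exact P.zero_mem)
    obtain ⟨x, hx0⟩ : ∃ x, (f : Mn) *ᵥ x ≠ 0 := by
      by_contra hne
      push Not at hne
      exact hf0 (Matrix.ext_of_mulVec_single fun i => by rw [hne, zero_mulVec])
    have hdf : d ^ a * f = 0 := by rw [hf]; linear_combination -(t ^ b) * hae
    have htf : t ^ b * f = f := by rw [hf]; linear_combination (1 - d ^ a) * hbe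
    -- an eigenvector fixed by `t ^ b`
    obtain ⟨Q, hQ⟩ : ∃ Q : Mn, Q = (A : Mn) * (A : Mn) - 1 := ⟨_, rfl⟩
    have hdQ : (d : Mn) = Ai * Ai * Q * Q := by
      rw [hdd, mul_one]
      show c₀ * c₀ - (4 : Mn) = _
      rw [hc₀, hQ]
      have e3 : Ai * Ai * ((A : Mn) * (A : Mn)) = 1 := by
        rw [Matrix.mul_assoc, ← Matrix.mul_assoc Ai (A : Mn), hA2, Matrix.one_mul, hA2]
      rw [Matrix.mul_sub (Ai * Ai), e3, Matrix.mul_one, Matrix.sub_mul, Matrix.mul_sub, Matrix.mul_sub,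
        Matrix.one_mul, Matrix.mul_one, Matrix.mul_one, e3]
      simp only [Matrix.mul_add, Matrix.add_mul, hA1, hA2, show (4 : Mn) = 1 + 1 + 1 + 1 by norm_num]
      abel
    have hQR : ∀ r : R, Commute Q (r : Mn) := fun r => by
      rw [hQ]; exact ((hRA r).mul_left (hRA r)).sub_left (Commute.one_left _)
    have hAiQ : Commute (Ai * Ai) Q := by
      rw [hQ]
      exact ((hAAi.symm.mul_right hAAi.symm).mul_left (hAAi.symm.mul_right hAAi.symm)).sub_right
        (Commute.one_right _)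
    have hQx : Q ^ (2 * a) *ᵥ ((f : Mn) *ᵥ x) = 0 := by
      have h1 : (d : Mn) ^ a *ᵥ ((f : Mn) *ᵥ x) = 0 := by
        rw [mulVec_mulVec, ← SubmonoidClass.coe_pow, ← Subring.coe_mul, hdf]
        simp
      rw [hdQ, Matrix.mul_assoc (Ai * Ai) Q, (hAiQ.mul_right hAiQ).mul_pow, ← pow_two Q, ← pow_mul,
        ← mulVec_mulVec] at h1
      have hu : IsUnit ((Ai * Ai) ^ a) := by rw [hAi]; exact (A⁻¹.isUnit.mul A⁻¹.isUnit).pow a
      exact Matrix.mulVec_injective_of_isUnit hu (h1.trans (mulVec_zero _).symm)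
    obtain ⟨j, hj, hj'⟩ : ∃ j, Q ^ j *ᵥ ((f : Mn) *ᵥ x) ≠ 0 ∧ Q ^ (j + 1) *ᵥ ((f : Mn) *ᵥ x) = 0 := by
      by_contra hne
      push Not at hne
      have : ∀ j, Q ^ j *ᵥ ((f : Mn) *ᵥ x) ≠ 0 := fun j => by
        induction j with
        | zero => rwa [pow_zero, one_mulVec]
        | succ j ih => exact hne j ih
      exact this _ hQx
    set y := Q ^ j *ᵥ ((f : Mn) *ᵥ x) with hy
    have hty : (t : Mn) ^ b *ᵥ y = y := by
      have hc' : Commute ((t : Mn) ^ b) (Q ^ j) := (((hQR t).pow_left j).pow_right b).symm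
      rw [hy, mulVec_mulVec, hc'.eq, ← mulVec_mulVec, mulVec_mulVec x, ← SubmonoidClass.coe_pow,
        ← Subring.coe_mul, htf]
    have key : ∀ (c : F) (z : Fin n → F), c * c = 1 → Nm A c *ᵥ z = 0 → (t : Mn) ^ b *ᵥ z = z →
        z = 0 := by
      intro c z hc hz htz
      have e : ∀ m, ((t : Mn) ^ b) ^ m *ᵥ z = z := fun m => by
        induction m with
        | zero => rw [pow_zero, one_mulVec]
        | succ m ih => rw [pow_succ, ← mulVec_mulVec, htz, ih]
      rw [← e n, ← pow_mul, mul_comm, pow_mul, show ((t : Mn)) = J⁻¹ * J' - 1 by rw [← hS]; rfl,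
        show ((J⁻¹ * J' - 1) ^ n) ^ b = ((J⁻¹ * J' - 1) ^ n) ^ (b - 1) * (J⁻¹ * J' - 1) ^ n by
          rw [← pow_succ, Nat.sub_add_cancel hb],
        ← mulVec_mulVec, sub_one_pow_eigen h h' hε hl hc hz, mulVec_zero]
    have hQ0 : Nm A 1 *ᵥ (Nm A (-1) *ᵥ y) = 0 := by
      rw [mulVec_mulVec, show Nm A 1 * Nm A (-1) = Q by
        rw [hQ, Nm, Nm, one_smul, neg_smul, one_smul, sub_neg_eq_add, Matrix.sub_mul, Matrix.mul_add,
          Matrix.mul_one, Matrix.one_mul]; abel, hy, mulVec_mulVec, ← pow_succ', hj']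
    have hm1 : Nm A (-1) *ᵥ y = 0 := by
      refine key 1 _ (one_mul 1) hQ0 ?_
      rw [mulVec_mulVec, show (t : Mn) ^ b * Nm A (-1) = Nm A (-1) * (t : Mn) ^ b from
        (((hRA t).symm.sub_right ((Commute.one_right _).smul_right _)).pow_left b).eq, ← mulVec_mulVec, hty]
    exact hj (key (-1) y (by norm_num) hm1 hty))
  have huv' := congrArg Subtype.val huv
  simp only [Subring.coe_add, Subring.coe_mul, Subring.coe_one, Matrix.one_mul] at huv'
  obtain ⟨g, hg⟩ : ∃ g : Mn, g = u + v * (A : Mn) := ⟨_, rfl⟩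
  have hgJ : gᵀ * J * g = J' := by
    have e1 : (A : Mn)ᵀ * J = J * Ai := by
      rw [hAi, ← adj_self h, adj, Matrix.mul_assoc J⁻¹, mul_nonsing_inv_cancel_left _ _ hd]
    have e2 : gᵀ * J = J * ((u : Mn) + Ai * v) := by
      rw [hg, transpose_add, transpose_mul, Matrix.add_mul, Matrix.mul_assoc, hfix _ u.2, hfix _ v.2,
        ← Matrix.mul_assoc, e1, Matrix.mul_add, Matrix.mul_assoc]
    rw [e2, Matrix.mul_assoc, hg]
    suffices hN : ((u : Mn) + Ai * v) * ((u : Mn) + v * (A : Mn)) = S by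
      rw [hN, hS, mul_nonsing_inv_cancel_left _ _ hd]
    rw [← huv', hc₀]
    have hu := hRA u
    have hv := hRA v
    have hv' : Commute Ai (v : Mn) := hAi ▸ hv.units_inv_left
    have hu' : Commute Ai (u : Mn) := hAi ▸ hu.units_inv_left
    have huv2 : Commute (u : Mn) v := congrArg Subtype.val (mul_comm' u v)
    have a1 : (u : Mn) * (v * (A : Mn)) = (A : Mn) * u * v := by
      rw [hu.eq, Matrix.mul_assoc, hv.eq]
    have a2 : Ai * v * u = Ai * u * v := by rw [Matrix.mul_assoc, ← huv2.eq, ← Matrix.mul_assoc]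
    have a3 : Ai * v * (v * (A : Mn)) = (v : Mn) * v := by
      rw [hv'.eq, Matrix.mul_assoc, ← hv.eq, ← Matrix.mul_assoc Ai, hA2, Matrix.one_mul]
    simp only [Matrix.add_mul, Matrix.mul_add, a1, a2, a3]
    abel
  have hgA : Commute g (A : Mn) := by
    rw [hg]
    exact ((hRA u).symm).add_left ((hRA v).symm.mul_left (Commute.refl _))
  have hgu : IsUnit g.det := by
    have := congrArg Matrix.det hgJ
    rw [det_mul, det_mul, det_transpose] at this
    refine isUnit_of_mul_isUnit_right (x := g.det * J.det) ?_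
    rw [this]
    exact (isUnit_iff_isUnit_det _).1 h'.unit
  exact ⟨((isUnit_iff_isUnit_det g).2 hgu).unit, hgA, hgJ⟩

end CfsgLib.ClassK.FormLayers
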