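import Cfsg.Agent.Lib.ClassK.FormLayers
import Cfsg.Agent.Lib.KnownB.GLClass

/-!
Coordinates for the layer forms: Gram matrices on the generators of the blocks `(X - c) ^ (k + 1)`,
and matrices of the centraliser prescribed on these generators.
-/

set_option autoImplicit false

namespace CfsgLib.ClassK.FormLevel

open Matrix Polynomial Module Finset CfsgLib.KnownB CfsgLib.KnownB.GLBlocks CfsgLib.ClassK.FormLayers
open scoped Matrix

variable {F : Type*} [Field F] {n : ℕ}

local notation "Mn" => Matrix (Fin n) (Fin n) F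

/-- The fixed decomposition. -/
noncomputable abbrev dec (A : GL (Fin n) F) : Decomp (Matrix.toLin' (A : Mn)) := GLClass.decomp (A : Mn)

/-- Block coordinates. -/
noncomputable def coord (A : GL (Fin n) F) (w : Fin n → F) (i : (dec A).ι) :
    blk ((dec A).p i) ((dec A).e i) :=
  (dec A).equiv (AEval'.of (Matrix.toLin' (A : Mn)) w) i

/-- The generator of a block. -/
noncomputable def gen (A : GL (Fin n) F) (i : (dec A).ι) : Fin n → F :=
  letI : DecidableEq (dec A).ι := Classical.decEq _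
  (AEval'.of (Matrix.toLin' (A : Mn))).symm
    ((dec A).equiv.symm (Pi.single (M := fun j => blk ((dec A).p j) ((dec A).e j)) i (Submodule.Quotient.mk 1)))

variable {A : GL (Fin n) F}

theorem aeval_toLin' (f : F[X]) (w : Fin n → F) :
    aeval (Matrix.toLin' (A : Mn)) f w = aeval (A : Mn) f *ᵥ w :=
  congrArg (fun T : Module.End F (Fin n → F) => T w) (Polynomial.aeval_algHom_apply
    (Matrix.toLinAlgEquiv' (R := F) (n := Fin n)).toAlgHom (A : Mn) f)

theorem coord_aeval (f : F[X]) (w : Fin n → F) (i : (dec A).ι) :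
    coord A (aeval (A : Mn) f *ᵥ w) i = f • coord A w i := by
  rw [coord, coord, ← aeval_toLin', show AEval'.of (Matrix.toLin' (A : Mn))
    (aeval (Matrix.toLin' (A : Mn)) f w) = f • AEval'.of (Matrix.toLin' (A : Mn)) w from
      AEval.of_aeval_smul _ _ w, map_smul, Pi.smul_apply]

theorem coord_ext {u w : Fin n → F} (h : ∀ i, coord A u i = coord A w i) : u = w :=
  (AEval'.of (Matrix.toLin' (A : Mn))).injective ((dec A).equiv.injective (funext h))

theorem coord_gen (i : (dec A).ι) [DecidableEq (dec A).ι] (j : (dec A).ι) :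
    coord A (gen A i) j =
      Pi.single (M := fun j => blk ((dec A).p j) ((dec A).e j)) i (Submodule.Quotient.mk 1) j := by
  rw [coord, gen, LinearEquiv.apply_symm_apply, LinearEquiv.apply_symm_apply]
  congr!

theorem coord_add (u w : Fin n → F) (i : (dec A).ι) : coord A (u + w) i = coord A u i + coord A w i := by
  simp [coord]

theorem coord_smul (a : F) (u : Fin n → F) (i : (dec A).ι) : coord A (a • u) i = a • coord A u i := by
  rw [coord, coord, map_smul]
  exact congrFun ((dec A).equiv.toLinearMap.map_smul_of_tower a _) i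

theorem coord_sum {κ : Type*} (s : Finset κ) (f : κ → Fin n → F) (i : (dec A).ι) :
    coord A (∑ l ∈ s, f l) i = ∑ l ∈ s, coord A (f l) i := by
  simp [coord, map_sum, Finset.sum_apply]

theorem Nm_pow (c : F) (k : ℕ) : Nm A c ^ k = aeval (A : Mn) ((X - C c) ^ k) := by
  rw [map_pow, map_sub, aeval_X, aeval_C, Algebra.algebraMap_eq_smul_one, Nm]

/-- The blocks of type `(X - c) ^ (k + 1)`. -/
abbrev Lvl (A : GL (Fin n) F) (c : F) (k : ℕ) : Type :=
  {i : (dec A).ι // (dec A).p i = X - C c ∧ (dec A).e i = k + 1}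

noncomputable instance (A : GL (Fin n) F) (c : F) (k : ℕ) : Fintype (Lvl A c k) := by
  classical infer_instance

noncomputable instance (A : GL (Fin n) F) (c : F) (k : ℕ) : DecidableEq (Lvl A c k) := Classical.decEq _

variable {c : F} {k : ℕ}

theorem gen_mem (i : Lvl A c k) : Nm A c ^ (k + 1) *ᵥ gen A i.1 = 0 := by
  classical
  refine coord_ext (A := A) fun j => ?_
  rw [Nm_pow, coord_aeval, coord_gen, show coord A 0 j = 0 by simp [coord]]
  rcases eq_or_ne j i.1 with rfl | hj
  · rw [Pi.single_eq_same, ← Submodule.Quotient.mk_smul, smul_eq_mul, mul_one, blk_mk_eq_zero, i.2.1, i.2.2]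
  · rw [Pi.single_eq_of_ne hj, smul_zero]

/-- `N ^ k` of a combination of generators, in coordinates. -/
theorem coord_comb (d : Lvl A c k → F) (j : (dec A).ι) [DecidableEq (dec A).ι] :
    coord A (∑ i, d i • (Nm A c ^ k *ᵥ gen A i.1)) j =
      ∑ i, (C (d i) * (X - C c) ^ k) •
        Pi.single (M := fun j => blk ((dec A).p j) ((dec A).e j)) i.1 (Submodule.Quotient.mk 1) j := by
  rw [coord_sum]
  refine sum_congr rfl fun i _ => ?_
  rw [coord_smul, Nm_pow, coord_aeval, coord_gen, mul_smul]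
  exact (algebraMap_smul F[X] (d i) _).symm

theorem exists_repr {w : Fin n → F} (hw : Nm A c ^ (k + 1) *ᵥ w = 0) :
    ∃ (d : Lvl A c k → F) (z : Fin n → F),
      Nm A c ^ k *ᵥ w = ∑ i, d i • (Nm A c ^ k *ᵥ gen A i.1) + Nm A c ^ (k + 1) *ᵥ z := by
  classical
  set a : F[X] := X - C c with ha
  choose f hf using fun i => Submodule.Quotient.mk_surjective _ (coord A w i)
  have hdvd : ∀ i, (dec A).p i ^ (dec A).e i ∣ a ^ (k + 1) * f i := fun i => by
    have h := congrArg (fun v => coord A v i) hw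
    simp only [Nm_pow, coord_aeval, show coord A 0 i = 0 by simp [coord]] at h
    rw [← hf i, ← Submodule.Quotient.mk_smul, blk_mk_eq_zero] at h
    exact h
  have hz : ∀ i, ∃ z : F[X], (dec A).p i ^ (dec A).e i ∣
      a ^ k * f i - ((if (dec A).p i = a ∧ (dec A).e i = k + 1 then C ((f i).eval c) * a ^ k else 0) +
        a ^ (k + 1) * z) := by
    intro i
    by_cases hp : (dec A).p i = a
    · rcases lt_trichotomy ((dec A).e i) (k + 1) with h | h | h
      · refine ⟨0, ?_⟩
        rw [if_neg (by omega), mul_zero, add_zero, sub_zero, hp]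
        exact Dvd.dvd.mul_right (pow_dvd_pow _ (by omega)) _
      · refine ⟨0, ?_⟩
        rw [if_pos ⟨hp, h⟩, mul_zero, add_zero, hp, h, mul_comm (C _), ← mul_sub, pow_succ]
        exact mul_dvd_mul_left _ X_sub_C_dvd_sub_C_eval
      · obtain ⟨s, hs⟩ : a ∣ f i := by
          have h1 := hdvd i
          rw [hp] at h1
          have h2 : a ^ (k + 1) * a ∣ a ^ (k + 1) * f i := by
            rw [← pow_succ]; exact (pow_dvd_pow _ (by omega)).trans h1
          exact (mul_dvd_mul_iff_left (pow_ne_zero _ (X_sub_C_ne_zero c))).1 h2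
        refine ⟨s, ?_⟩
        rw [if_neg (by omega), zero_add, hs, ← mul_assoc, ← pow_succ, sub_self]
        exact dvd_zero _
    · refine ⟨0, ?_⟩
      rw [if_neg (fun h => hp h.1), zero_add, mul_zero, sub_zero]
      have hcop : IsCoprime ((dec A).p i ^ (dec A).e i) (a ^ (k + 1)) := by
        refine (((dec A).irred i).coprime_iff_not_dvd.2 fun h => hp ?_).pow
        exact eq_of_monic_of_associated ((dec A).monic i) (monic_X_sub_C c)
          (((dec A).irred i).associated_of_dvd (irreducible_X_sub_C c) h)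
      exact (hcop.dvd_of_dvd_mul_left (hdvd i)).mul_left _
  choose z hz using hz
  refine ⟨fun i => (f i.1).eval c, (AEval'.of (Matrix.toLin' (A : Mn))).symm
    ((dec A).equiv.symm fun i => Submodule.Quotient.mk (z i)), coord_ext (A := A) fun j => ?_⟩
  rw [coord_add, coord_comb, Nm_pow, coord_aeval, Nm_pow, coord_aeval,
    show coord A ((AEval'.of (Matrix.toLin' (A : Mn))).symm
      ((dec A).equiv.symm fun i => Submodule.Quotient.mk (z i))) j = Submodule.Quotient.mk (z j) by
      simp [coord], ← hf j, ← Submodule.Quotient.mk_smul, ← Submodule.Quotient.mk_smul]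
  have hsum : ∑ i : Lvl A c k, (C ((f i.1).eval c) * a ^ k) •
      Pi.single (M := fun j => blk ((dec A).p j) ((dec A).e j)) i.1 (Submodule.Quotient.mk 1) j =
      Submodule.Quotient.mk (if (dec A).p j = a ∧ (dec A).e j = k + 1 then C ((f j).eval c) * a ^ k else 0) := by
    by_cases h : (dec A).p j = a ∧ (dec A).e j = k + 1
    · rw [if_pos h, Fintype.sum_eq_single ⟨j, h⟩ fun i hi => by
        rw [Pi.single_eq_of_ne (fun e => hi (Subtype.ext e.symm)), smul_zero]]
      simp only
      rw [Pi.single_eq_same, ← Submodule.Quotient.mk_smul, smul_eq_mul, mul_one]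
    · rw [if_neg h, Submodule.Quotient.mk_zero]
      refine sum_eq_zero fun i _ => ?_
      rw [Pi.single_eq_of_ne (fun e => h (by rw [e]; exact i.2)), smul_zero]
  rw [hsum, ← Submodule.Quotient.mk_add, Submodule.Quotient.eq, smul_eq_mul, smul_eq_mul]
  exact Ideal.mem_span_singleton.2 (hz j)

theorem comb_indep {d : Lvl A c k → F} {z : Fin n → F}
    (h : ∑ i, d i • (Nm A c ^ k *ᵥ gen A i.1) = Nm A c ^ (k + 1) *ᵥ z) (i : Lvl A c k) : d i = 0 := by
  classical
  set a : F[X] := X - C c with ha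
  have h1 := congrArg (fun v => coord A v i.1) h
  rw [coord_comb, Nm_pow, coord_aeval] at h1
  rw [Fintype.sum_eq_single i fun l hl => by
    rw [Pi.single_eq_of_ne (fun e => hl (Subtype.ext e.symm)), smul_zero], Pi.single_eq_same] at h1
  obtain ⟨g, hg⟩ := Submodule.Quotient.mk_surjective _ (coord A z i.1)
  rw [← hg, ← Submodule.Quotient.mk_smul, ← Submodule.Quotient.mk_smul, smul_eq_mul, smul_eq_mul, mul_one,
    Submodule.Quotient.eq] at h1
  have h2 : a ^ k * a ∣ a ^ k * (C (d i) - a * g) := by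
    rw [show a ^ k * (C (d i) - a * g) = C (d i) * a ^ k - a ^ (k + 1) * g by ring, ← pow_succ]
    have := Ideal.mem_span_singleton.1 h1
    rwa [i.2.1, i.2.2] at this
  have h3 := dvd_iff_isRoot.1 ((mul_dvd_mul_iff_left (pow_ne_zero _ (X_sub_C_ne_zero c))).1 h2)
  simpa [ha, IsRoot] using h3

variable {ε : F} {J : Matrix (Fin n) (Fin n) F}

/-- The Gram matrix of a layer. -/
noncomputable def gram (A : GL (Fin n) F) (J : Mn) (c : F) (k : ℕ) : Matrix (Lvl A c k) (Lvl A c k) F :=
  Matrix.of fun i j => frm J (gen A i.1) (Nm A c ^ k *ᵥ gen A j.1)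

theorem frm_sum_right {κ : Type*} (s : Finset κ) (u : Fin n → F) (d : κ → F) (f : κ → Fin n → F) :
    frm J u (∑ i ∈ s, d i • f i) = ∑ i ∈ s, d i * frm J u (f i) := by
  simp only [frm, mulVec_sum, dotProduct_sum, mulVec_smul, dotProduct_smul, smul_eq_mul]

theorem frm_add_right (u v w : Fin n → F) : frm J u (v + w) = frm J u v + frm J u w := by
  simp only [frm, mulVec_add, dotProduct_add]

theorem frm_kill (h : IsInv ε A J) (hc : c * c = 1) {m : ℕ} {u : Fin n → F} (hu : Nm A c ^ m *ᵥ u = 0)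
    (z : Fin n → F) : frm J u (Nm A c ^ m *ᵥ z) = 0 := by
  rw [frm_comm h (Nm A c ^ m *ᵥ z) u, frm_move h hc, hu, mulVec_zero, frm, mulVec_zero, dotProduct_zero, mul_zero,
    mul_zero]

theorem gram_transpose (h : IsInv ε A J) (hc : c * c = 1) :
    (gram A J c k)ᵀ = (ε * (-1) ^ k) • gram A J c k := by
  ext i j
  rw [transpose_apply, Matrix.smul_apply, gram, Matrix.of_apply, Matrix.of_apply, smul_eq_mul,
    frm_layer_comm h hc (gen_mem i)]

theorem layer_eq (h : IsInv ε A J) (hc : c * c = 1) {u w : Fin n → F} (hu : Nm A c ^ (k + 1) *ᵥ u = 0)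
    {du dw : Lvl A c k → F} {zu zw : Fin n → F}
    (eu : Nm A c ^ k *ᵥ u = ∑ i, du i • (Nm A c ^ k *ᵥ gen A i.1) + Nm A c ^ (k + 1) *ᵥ zu)
    (ew : Nm A c ^ k *ᵥ w = ∑ i, dw i • (Nm A c ^ k *ᵥ gen A i.1) + Nm A c ^ (k + 1) *ᵥ zw) :
    frm J u (Nm A c ^ k *ᵥ w) = du ⬝ᵥ gram A J c k *ᵥ dw := by
  have hj : ∀ j : Lvl A c k, frm J u (Nm A c ^ k *ᵥ gen A j.1) = ∑ i, du i * gram A J c k i j := by
    intro j
    rw [frm_layer_comm h hc (gen_mem j), eu, frm_add_right, frm_kill h hc (gen_mem j), add_zero,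
      frm_sum_right, mul_sum]
    refine sum_congr rfl fun i _ => ?_
    rw [gram, Matrix.of_apply, frm_layer_comm h hc (gen_mem j) (w := gen A i.1)]
    ring
  rw [ew, frm_add_right, frm_kill h hc hu, add_zero, frm_sum_right]
  simp only [hj, dotProduct, mulVec, mul_sum]
  rw [sum_comm]
  exact sum_congr rfl fun i _ => sum_congr rfl fun j _ => by ring

theorem isUnit_gram (h : IsInv ε A J) (hε : ε * ε = 1) (hc : c * c = 1) : IsUnit (gram A J c k) := by
  rw [← Matrix.mulVec_injective_iff_isUnit]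
  refine (injective_iff_map_eq_zero (gram A J c k).mulVecLin).2 fun d hd => funext fun i => ?_
  let w : Fin n → F := ∑ i, d i • gen A i.1
  have hw : Nm A c ^ k *ᵥ w = ∑ i, d i • (Nm A c ^ k *ᵥ gen A i.1) := by
    simp only [w, mulVec_sum, mulVec_smul]
  obtain ⟨z, hz⟩ := exists_preimage h hc (k + 1) (Nm A c ^ k *ᵥ w) fun u hu => by
    obtain ⟨du, zu, eu⟩ := exists_repr hu
    rw [frm_comm h u, layer_eq h hc hu eu (zw := 0) (by rw [hw, mulVec_zero, add_zero]),
      show gram A J c k *ᵥ d = 0 from hd, dotProduct_zero, mul_zero]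
  exact comb_indep (hw.symm.trans hz.symm) i

/-- Equal Gram matrices give equal layers. -/
theorem sameLayers_of_gram {J' : Mn} (h : IsInv ε A J) (h' : IsInv ε A J')
    (hg : ∀ c k, c * c = 1 → gram A J' c k = gram A J c k) : SameLayers A J J' := by
  intro c hc k u w hu hw
  obtain ⟨du, zu, eu⟩ := exists_repr hu
  obtain ⟨dw, zw, ew⟩ := exists_repr hw
  rw [layer_eq h' hc hu eu ew, layer_eq h hc hu eu ew, hg c k hc]

/-- A centralising matrix with prescribed images of the generators. -/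
theorem exists_endo (tgt : (dec A).ι → Fin n → F)
    (ht : ∀ i, aeval (A : Mn) ((dec A).p i ^ (dec A).e i) *ᵥ tgt i = 0) :
    ∃ g : Mn, Commute g (A : Mn) ∧ ∀ i, g *ᵥ gen A i = tgt i := by
  classical
  let φ := Matrix.toLin' (A : Mn)
  let Ψ : (∀ i, blk ((dec A).p i) ((dec A).e i)) →ₗ[F[X]] AEval' φ :=
    LinearMap.lsum F[X] _ F[X] fun i => Submodule.liftQ _
      (LinearMap.toSpanSingleton F[X] (AEval' φ) (AEval'.of φ (tgt i))) (by
        rw [Submodule.span_le, Set.singleton_subset_iff, SetLike.mem_coe, LinearMap.mem_ker,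
          LinearMap.toSpanSingleton_apply]
        refine (AEval.of_aeval_smul φ _ (tgt i)).symm.trans ?_
        erw [aeval_toLin', ht i]
        exact (AEval'.of φ).map_zero)
  let G : (Fin n → F) →ₗ[F] (Fin n → F) :=
    (((AEval'.of φ).symm : AEval' φ →ₗ[F] (Fin n → F)) ∘ₗ
      ((Ψ ∘ₗ (dec A).equiv.toLinearMap).restrictScalars F)) ∘ₗ (AEval'.of φ).toLinearMap
  have hG : ∀ v, G v = (AEval'.of φ).symm (Ψ ((dec A).equiv (AEval'.of φ v))) := fun v => rfl
  refine ⟨LinearMap.toMatrix' G, ?_, fun i => ?_⟩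
  · refine Matrix.toLin'.injective (LinearMap.ext fun v => ?_)
    rw [Matrix.toLin'_mul, Matrix.toLin'_mul, Matrix.toLin'_toMatrix']
    show G (φ v) = φ (G v)
    rw [hG, hG, ← AEval'.X_smul_of, map_smul, map_smul, AEval'.of_symm_X_smul]
  · rw [LinearMap.toMatrix'_mulVec, hG, gen, LinearEquiv.apply_symm_apply, LinearEquiv.apply_symm_apply]
    rw [show Ψ (Pi.single (M := fun j => blk ((dec A).p j) ((dec A).e j)) i (Submodule.Quotient.mk 1)) =
      AEval'.of φ (tgt i) by
        simp only [Ψ]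
        rw [LinearMap.lsum_apply, LinearMap.sum_apply, Fintype.sum_eq_single i fun l hl => by
          rw [LinearMap.comp_apply, LinearMap.proj_apply, Pi.single_eq_of_ne hl, map_zero],
          LinearMap.comp_apply, LinearMap.proj_apply, Pi.single_eq_same, Submodule.liftQ_apply,
          LinearMap.toSpanSingleton_apply, one_smul]]
    exact LinearEquiv.symm_apply_apply _ _

/-- The generators generate. -/
theorem exists_expansion (A : GL (Fin n) F) (v : Fin n → F) :
    ∃ f : (dec A).ι → F[X], v = ∑ i, aeval (A : Mn) (f i) *ᵥ gen A i := by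
  classical
  choose f hf using fun i => Submodule.Quotient.mk_surjective _ (coord A v i)
  refine ⟨f, coord_ext (A := A) fun j => ?_⟩
  rw [coord_sum, Fintype.sum_eq_single j fun i hi => by
    rw [coord_aeval, coord_gen, Pi.single_eq_of_ne hi.symm, smul_zero], coord_aeval, coord_gen,
    Pi.single_eq_same, ← Submodule.Quotient.mk_smul, smul_eq_mul, mul_one, hf]

/-- A centralising invertible matrix with prescribed action on every layer. -/
theorem exists_lift (h : ∀ c k, GL (Lvl A c k) F) :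
    ∃ g : GL (Fin n) F, Commute (g : Mn) (A : Mn) ∧ ∀ c k, c * c = 1 → ∀ j : Lvl A c k,
      (g : Mn) *ᵥ gen A j.1 = ∑ i, (h c k : Matrix (Lvl A c k) (Lvl A c k) F) i j • gen A i.1 := by
  classical
  let D := dec A
  let tgt : D.ι → Fin n → F := fun l =>
    if hl : ∃ ck : F × ℕ, ck.1 * ck.1 = 1 ∧ D.p l = X - C ck.1 ∧ D.e l = ck.2 + 1 then
      ∑ i : Lvl A hl.choose.1 hl.choose.2,
        (↑(h hl.choose.1 hl.choose.2) : Matrix (Lvl A hl.choose.1 hl.choose.2) (Lvl A hl.choose.1 hl.choose.2) F)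
          i ⟨l, hl.choose_spec.2⟩ • gen A i.1
    else gen A l
  have htgt : ∀ c k, c * c = 1 → ∀ j : Lvl A c k,
      tgt j.1 = ∑ i, (h c k : Matrix (Lvl A c k) (Lvl A c k) F) i j • gen A i.1 := by
    intro c k hc j
    have hl : ∃ ck : F × ℕ, ck.1 * ck.1 = 1 ∧ D.p j.1 = X - C ck.1 ∧ D.e j.1 = ck.2 + 1 :=
      ⟨(c, k), hc, j.2⟩
    simp only [tgt, dif_pos hl]
    have key : ∀ (c' : F) (k' : ℕ) (hm : D.p j.1 = X - C c' ∧ D.e j.1 = k' + 1),
        ∑ i : Lvl A c' k', (↑(h c' k') : Matrix (Lvl A c' k') (Lvl A c' k') F) i ⟨j.1, hm⟩ • gen A i.1 =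
          ∑ i, (h c k : Matrix (Lvl A c k) (Lvl A c k) F) i j • gen A i.1 := by
      intro c' k' hm
      obtain rfl : c' = c := by
        have := congrArg (fun p => p.coeff 0) (hm.1.symm.trans j.2.1)
        simpa using this
      obtain rfl : k' = k := Nat.succ.inj (hm.2.symm.trans j.2.2)
      rfl
    exact key _ _ hl.choose_spec.2
  have ht : ∀ l, aeval (A : Mn) (D.p l ^ D.e l) *ᵥ tgt l = 0 := fun l => by
    by_cases hl : ∃ ck : F × ℕ, ck.1 * ck.1 = 1 ∧ D.p l = X - C ck.1 ∧ D.e l = ck.2 + 1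
    · obtain ⟨⟨c, k⟩, hc, hm⟩ := hl
      rw [htgt c k hc ⟨l, hm⟩, hm.1, hm.2, ← Nm_pow, mulVec_sum]
      exact sum_eq_zero fun i _ => by rw [mulVec_smul, gen_mem, smul_zero]
    · simp only [tgt, dif_neg hl]
      refine coord_ext (A := A) fun j => ?_
      rw [coord_aeval, coord_gen, show coord A 0 j = 0 by simp [coord]]
      rcases eq_or_ne j l with rfl | hj
      · rw [Pi.single_eq_same, ← Submodule.Quotient.mk_smul, smul_eq_mul, mul_one, blk_mk_eq_zero]
      · rw [Pi.single_eq_of_ne hj, smul_zero]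
  obtain ⟨g, hgA, hg⟩ := exists_endo tgt ht
  have hgp : ∀ f : F[X], Commute g (aeval (A : Mn) f) := fun f => by
    induction f using Polynomial.induction_on with
    | C a => rw [aeval_C]; exact Algebra.commute_algebraMap_right a g
    | add r s hr hs => rw [map_add]; exact hr.add_right hs
    | monomial m a _ =>
      rw [map_mul, aeval_C, map_pow, aeval_X]
      exact (Algebra.commute_algebraMap_right a g).mul_right (hgA.pow_right _)
  have hsurj : Function.Surjective g.mulVec := by
    have hgen : ∀ l, ∃ w, g *ᵥ w = gen A l := by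
      intro l
      by_cases hl : ∃ ck : F × ℕ, ck.1 * ck.1 = 1 ∧ D.p l = X - C ck.1 ∧ D.e l = ck.2 + 1
      · obtain ⟨⟨c, k⟩, hc, hm⟩ := hl
        let H := h c k
        refine ⟨∑ j, (↑H⁻¹ : Matrix (Lvl A c k) (Lvl A c k) F) j ⟨l, hm⟩ • gen A j.1, ?_⟩
        simp only [mulVec_sum, mulVec_smul, hg, htgt c k hc, smul_sum, smul_smul]
        rw [sum_comm]
        simp only [← sum_smul]
        have hprod : ∀ i : Lvl A c k, ∑ j, (↑H⁻¹ : Matrix (Lvl A c k) (Lvl A c k) F) j ⟨l, hm⟩ *
            (h c k : Matrix (Lvl A c k) (Lvl A c k) F) i j = if i = ⟨l, hm⟩ then 1 else 0 := fun i => by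
          rw [← Matrix.one_apply, ← H.mul_inv, Matrix.mul_apply]
          exact sum_congr rfl fun j _ => mul_comm _ _
        simp only [hprod, ite_smul, one_smul, zero_smul, sum_ite_eq', mem_univ, if_true]
      · exact ⟨gen A l, by rw [hg]; simp only [tgt, dif_neg hl]⟩
    choose w hw using hgen
    intro v
    obtain ⟨f, hf⟩ := exists_expansion A v
    refine ⟨∑ i, aeval (A : Mn) (f i) *ᵥ w i, ?_⟩
    show g *ᵥ _ = v
    rw [hf, mulVec_sum]
    exact sum_congr rfl fun i _ => by rw [mulVec_mulVec, (hgp _).eq, ← mulVec_mulVec, hw]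
  refine ⟨(Matrix.mulVec_surjective_iff_isUnit.1 hsurj).unit, hgA, fun c k hc j => ?_⟩
  exact (hg j.1).trans (htgt c k hc j)

end CfsgLib.ClassK.FormLevel
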