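import Cfsg.Agent.Lib.ClassK.Simple2520Three

/-!
A group of order 2520 that is simple has a subgroup of index seven.
-/

set_option autoImplicit false
set_option linter.unusedSectionVars false

namespace CfsgLib.ClassK.Simple2520

open Subgroup Cfsg
open scoped Classical

universe u

variable {G : Type u} [Group G] [Finite G]

/-- The subgroup `{1, a, b, ab}` generated by two commuting involutions. -/
theorem exists_four {a b : G} (ha : orderOf a = 2) (hb : orderOf b = 2) (hne : a ≠ b)
    (hc : Commute a b) : ∃ V : Subgroup G, Nat.card V = 4 ∧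
      ∀ g, g ∈ V ↔ g = 1 ∨ g = a ∨ g = b ∨ g = a * b := by
  have ha2 : a * a = 1 := by have := pow_orderOf_eq_one a; rwa [ha, sq] at this
  have hb2 : b * b = 1 := by have := pow_orderOf_eq_one b; rwa [hb, sq] at this
  have hba : b * a = a * b := hc.eq.symm
  have hab : a * (a * b) = b := by rw [← mul_assoc, ha2, one_mul]
  have hab' : b * (a * b) = a := by rw [← mul_assoc, hba, mul_assoc, hb2, mul_one]
  have ha1 : a ≠ 1 := fun e => by rw [e, orderOf_one] at ha; norm_num at ha
  have hb1 : b ≠ 1 := fun e => by rw [e, orderOf_one] at hb; norm_num at hb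
  let V : Subgroup G :=
    { carrier := {1, a, b, a * b}
      one_mem' := by simp
      inv_mem' := by
        intro x hx
        simp only [Set.mem_insert_iff, Set.mem_singleton_iff] at hx ⊢
        rcases hx with rfl | rfl | rfl | rfl
        · simp
        · exact Or.inr (Or.inl (inv_eq_of_mul_eq_one_right ha2))
        · exact Or.inr (Or.inr (Or.inl (inv_eq_of_mul_eq_one_right hb2)))
        · refine Or.inr (Or.inr (Or.inr (inv_eq_of_mul_eq_one_right ?_)))
          rw [mul_assoc, hab', ha2]
      mul_mem' := by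
        intro x y hx hy
        simp only [Set.mem_insert_iff, Set.mem_singleton_iff] at hx hy ⊢
        rcases hx with rfl | rfl | rfl | rfl <;> rcases hy with rfl | rfl | rfl | rfl <;>
          simp [mul_assoc, ha2, hb2, hba, hab, hab'] }
  have hV : ∀ g, g ∈ V ↔ g = 1 ∨ g = a ∨ g = b ∨ g = a * b := fun g => by
    show g ∈ ({1, a, b, a * b} : Set G) ↔ _
    simp
  refine ⟨V, ?_, hV⟩
  have h1 : a * b ≠ 1 := fun e =>
    hne ((eq_inv_of_mul_eq_one_left e).trans (inv_eq_of_mul_eq_one_right hb2))
  have h2 : a * b ≠ a := fun e => hb1 (mul_eq_left.1 e)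
  have h3 : a * b ≠ b := fun e => ha1 (mul_eq_right.1 e)
  haveI := Fintype.ofFinite G
  rw [Nat.card_eq_fintype_card, Fintype.card_subtype,
    show Finset.univ.filter (· ∈ V) = ({1, a, b, a * b} : Finset G) by ext g; simp [hV],
    Finset.card_insert_of_notMem (by simp [Ne.symm ha1, Ne.symm hb1, Ne.symm h1]),
    Finset.card_insert_of_notMem (by simp [hne, Ne.symm h2]),
    Finset.card_insert_of_notMem (by simp [Ne.symm h3]), Finset.card_singleton]

theorem dihedral_four_normal :
    ∀ a b c : DihedralGroup 4, a ^ 2 = 1 → b ^ 2 = 1 → a * b = b * a → a ≠ 1 → b ≠ 1 → a ≠ b →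
      c * a * c⁻¹ = a ∨ c * a * c⁻¹ = b ∨ c * a * c⁻¹ = a * b := by decide +kernel

theorem dihedral_center :
    ∀ y b : DihedralGroup 4, y ^ 2 ≠ 1 → (∀ c, c * b = b * c) → b = 1 ∨ b = y ^ 2 := by
  decide +kernel

theorem dihedral_square_central : ∀ y c : DihedralGroup 4, c * y ^ 2 = y ^ 2 * c := by decide +kernel

/-- An element of order five normalising a subgroup of order four centralises it. -/
theorem five_centralizes_four {S : Subgroup G} (hS : Nat.card S = 4) {w : G}
    (hw : orderOf w = 5) (hn : w ∈ normalizer (S : Set G)) {s : G} (hs : s ∈ S) :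
    Commute w s := by
  let f : (normalizer (S : Set G)) →* Equiv.Perm S :=
    { toFun := fun g => (normalizerMonoidHom S g).toEquiv
      map_one' := by ext x; simp
      map_mul' := fun g h => by ext x; simp }
  have h1 : orderOf (f ⟨w, hn⟩) ∣ 24 := by
    have := orderOf_dvd_natCard (f ⟨w, hn⟩)
    rwa [Nat.card_perm, hS] at this
  have h2 : orderOf (f ⟨w, hn⟩) ∣ 5 := (orderOf_map_dvd f _).trans (by rw [orderOf_mk]; exact hw.dvd)
  have h3 := orderOf_eq_one_iff.1 (Nat.eq_one_of_dvd_coprimes (by norm_num) h1 h2)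
  have h4 := congrArg (Subtype.val : S → G) (Equiv.Perm.ext_iff.1 h3 ⟨s, hs⟩)
  rw [Commute, SemiconjBy, ← mul_inv_eq_iff_eq_mul]
  simpa [f] using h4

variable [IsSimpleGroup G] (X : Ctx G)
include X

theorem Ctx.no_five_normalizes {S : Subgroup G} (hS : Nat.card S = 4) {t : G} (ht : orderOf t = 2)
    (hts : t ∈ S) {L : Subgroup G} (hL : L ≤ normalizer (S : Set G)) : ¬ 5 ∣ Nat.card L := by
  intro h
  haveI : Fact (Nat.Prime 5) := ⟨by norm_num⟩
  obtain ⟨w, hw⟩ := exists_prime_orderOf_dvd_card' (G := L) 5 h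
  have hw' : orderOf (w : G) = 5 := by rw [orderOf_coe, hw]
  refine not_dvd_card_centralizer X.h (Or.inl rfl) (Or.inl ht) ?_
  have hc : (w : G) ∈ centralizer ({t} : Set G) :=
    mem_centralizer_singleton_iff.2 (five_centralizes_four hS hw' (hL w.2) hts).eq
  rw [← hw', ← orderOf_mk _ hc]
  exact orderOf_dvd_natCard _

theorem Ctx.orderOf_dvd_four {g : G} (h : orderOf g ∣ 8) : orderOf g ∣ 4 := by
  haveI : Fact (Nat.Prime 2) := ⟨Nat.prime_two⟩
  obtain ⟨k, hk, hgk⟩ := (Nat.dvd_prime_pow Nat.prime_two).1 (show orderOf g ∣ 2 ^ 3 from h)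
  obtain ⟨P, hP⟩ := (IsPGroup.of_card (n := k) (G := zpowers g)
    (by rw [Nat.card_zpowers, hgk]) : IsPGroup 2 _).exists_le_sylow
  obtain ⟨e⟩ := X.dihedral P
  have h4 : ∀ d : DihedralGroup 4, d ^ 4 = 1 := by decide
  rw [← orderOf_mk g (hP (mem_zpowers g)), ← MulEquiv.orderOf_eq e]
  exact orderOf_dvd_of_pow_eq_one (h4 _)

/-- The contradiction. -/
theorem Ctx.inconsistent : False := by
  haveI := Fintype.ofFinite G
  haveI : Fact (Nat.Prime 2) := ⟨Nat.prime_two⟩
  haveI : Fact (Nat.Prime 3) := ⟨Nat.prime_three⟩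
  haveI : Fact (Nat.Prime 5) := ⟨by norm_num⟩
  haveI : Fact (Nat.Prime 7) := ⟨by norm_num⟩
  obtain ⟨K, A, o, u, r, T, v, hv0, hv⟩ := X.exists_trio
  obtain ⟨hoval, hge⟩ := X.three_values T hv0 hv
  obtain ⟨hd, hb, hc4, -, -⟩ := X.values
  -- a Sylow subgroup of `K` containing `u`
  obtain ⟨S₁, hS₁⟩ := (IsPGroup.of_card (n := 1) (G := zpowers (⟨u, T.uK⟩ : K))
    (by rw [Nat.card_zpowers, ← orderOf_coe, pow_one]; exact T.hu) : IsPGroup 2 _).exists_le_sylow
  have hS₁c : Nat.card (S₁ : Subgroup K) = 2 ^ 3 :=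
    card_sylow_of_exact S₁ (by rw [T.cardK]; norm_num) (by rw [T.cardK]; norm_num)
  obtain ⟨P₀, hP₀⟩ := (IsPGroup.of_card (n := 3) (by
    rw [card_map_of_injective K.subtype_injective, hS₁c]) :
      IsPGroup 2 ((S₁ : Subgroup K).map K.subtype)).exists_le_sylow
  have hP₀e := eq_of_le_of_card_ge hP₀ (by
    rw [X.card_sylow_two, card_map_of_injective K.subtype_injective, hS₁c]; norm_num)
  have hP₀K : (P₀ : Subgroup G) ≤ K := hP₀e ▸ map_subtype_le _
  have huP : u ∈ (P₀ : Subgroup G) := hP₀ ⟨⟨u, T.uK⟩, hS₁ (mem_zpowers _), rfl⟩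
  obtain ⟨e⟩ := X.dihedral P₀
  set y₀ : G := ((e.symm (DihedralGroup.r 1) : (P₀ : Subgroup G)) : G) with hy₀
  have hy₀P : y₀ ∈ (P₀ : Subgroup G) := (e.symm (DihedralGroup.r 1)).2
  have hy₀4 : orderOf y₀ = 4 := by
    rw [hy₀, orderOf_coe, MulEquiv.orderOf_eq, DihedralGroup.orderOf_r_one]
  set t := y₀ ^ 2 with ht_def
  have ht : orderOf t = 2 := by rw [ht_def, orderOf_pow' y₀ (by norm_num), hy₀4]; rfl
  have ht1 : t ≠ 1 := fun h => by rw [h, orderOf_one] at ht; norm_num at ht
  have htP : t ∈ (P₀ : Subgroup G) := pow_mem hy₀P 2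
  have htA : t ∈ A := by rw [ht_def, sq]; exact T.half.sq _ (hP₀K hy₀P)
  have htu : t ≠ u := fun h => T.uA (h ▸ htA)
  have hey : e ⟨y₀, hy₀P⟩ ^ 2 ≠ 1 := by
    have : e ⟨y₀, hy₀P⟩ = DihedralGroup.r 1 := by
      rw [show (⟨y₀, hy₀P⟩ : (P₀ : Subgroup G)) = e.symm (DihedralGroup.r 1) from rfl,
        MulEquiv.apply_symm_apply]
    rw [this]; decide
  have htcen : ∀ x ∈ (P₀ : Subgroup G), Commute x t := by
    intro x hx
    have h := dihedral_square_central (e ⟨y₀, hy₀P⟩) (e ⟨x, hx⟩)
    rw [← map_pow, ← map_mul, ← map_mul, e.injective.eq_iff] at h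
    show x * t = t * x
    simpa [ht_def] using congrArg Subtype.val h
  have hcenter : ∀ b ∈ (P₀ : Subgroup G), (∀ x ∈ (P₀ : Subgroup G), Commute x b) →
      b = 1 ∨ b = t := by
    intro b hb hcomm
    rcases dihedral_center (e ⟨y₀, hy₀P⟩) (e ⟨b, hb⟩) hey (fun c => by
      obtain ⟨x, rfl⟩ := e.surjective c
      rw [← map_mul, ← map_mul]
      exact congrArg e (Subtype.ext (hcomm x x.2).eq)) with h | h
    · rw [← map_one e, e.injective.eq_iff] at h
      exact Or.inl (by simpa using congrArg Subtype.val h)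
    · rw [← map_pow, e.injective.eq_iff] at h
      exact Or.inr (by simpa [ht_def] using congrArg Subtype.val h)
  have htu_c : Commute t u := (htcen u huP).symm
  have hu2 : u * u = 1 := by have := pow_orderOf_eq_one u; rwa [T.hu, sq] at this
  have htu2 : orderOf (t * u) = 2 := by
    refine orderOf_eq_prime ?_ fun h => htu ?_
    · rw [htu_c.mul_pow, ← ht, pow_orderOf_eq_one, ht, ← T.hu, pow_orderOf_eq_one, one_mul]
    · exact (eq_inv_of_mul_eq_one_left h).trans (inv_eq_of_mul_eq_one_right hu2)
  have htuA : t * u ∉ A := fun h => T.uA (by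
    have := mul_mem (inv_mem htA) h
    rwa [inv_mul_cancel_left] at this)
  -- the four subgroup inside `A`
  set S := (P₀ : Subgroup G) ⊓ A with hS
  have hScard : Nat.card S = 4 := by
    have hi : (S.subgroupOf (P₀ : Subgroup G)).index = 2 := by
      rw [index_eq_two_iff]
      refine ⟨⟨u, huP⟩, fun b => ?_⟩
      simp only [mem_subgroupOf, Subgroup.coe_mul, hS, mem_inf]
      by_cases hbA : (b : G) ∈ A
      · refine Or.inr ⟨⟨b.2, hbA⟩, fun h => T.uA ?_⟩
        have := mul_mem (inv_mem hbA) h.2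
        rwa [inv_mul_cancel_left] at this
      · exact Or.inl ⟨⟨mul_mem b.2 huP, T.half.mul_notMem _ (hP₀K b.2) _ T.uK hbA T.uA⟩,
          fun h => hbA h.2⟩
    have h := (S.subgroupOf (P₀ : Subgroup G)).card_mul_index
    rw [hi, Nat.card_congr (subgroupOfEquivOfLe (show S ≤ (P₀ : Subgroup G) from inf_le_left)).toEquiv,
      X.card_sylow_two] at h
    omega
  have htS : t ∈ S := ⟨htP, htA⟩
  have hScomm : ∀ a ∈ S, ∀ b ∈ S, Commute a b := fun a ha b hb => by
    have h := IsPGroup.commutative_of_card_eq_prime_sq (p := 2)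
      (show Nat.card S = 2 ^ 2 by rw [hScard]; norm_num) ⟨a, ha⟩ ⟨b, hb⟩
    show a * b = b * a
    simpa using congrArg Subtype.val h
  set M := normalizer (S : Set G) ⊓ A with hM
  have hSM : S ≤ M := le_inf le_normalizer inf_le_right
  have hexm : ∃ m ∈ M, ∃ s ∈ S, ¬ Commute m s := by
    by_contra hno
    push_neg at hno
    -- transfer to an abelian Sylow subgroup of `A`
    have hS' : Nat.card (S.subgroupOf A) = 2 ^ 2 := by
      rw [Nat.card_congr (subgroupOfEquivOfLe (show S ≤ A from inf_le_right)).toEquiv, hScard]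
      norm_num
    obtain ⟨Q, hQ⟩ := (IsPGroup.of_card hS').exists_le_sylow
    have hQc : Nat.card (Q : Subgroup A) = 2 ^ 2 :=
      card_sylow_of_exact Q (by rw [T.half.card]; norm_num) (by rw [T.half.card]; norm_num)
    have hQe : S.subgroupOf A = (Q : Subgroup A) := eq_of_le_of_card_ge hQ (by rw [hQc, hS'])
    have hP : normalizer ((Q : Subgroup A) : Set A) ≤ centralizer ((Q : Subgroup A) : Set A) := by
      rw [← hQe, ← subgroupOf_normalizer_eq (show S ≤ A from inf_le_right)]
      intro a ha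
      rw [mem_centralizer_iff]
      intro s hs
      exact Subtype.ext ((hno a ⟨ha, a.2⟩ s hs).eq).symm
    set φ := MonoidHom.transferSylow Q hP with hφ
    have hcompl := MonoidHom.ker_transferSylow_isComplement' Q hP
    have h15 : Nat.card φ.ker = 15 := by
      have := hcompl.card_mul
      rw [← hφ, hQc, T.half.card] at this
      omega
    set Kr := φ.ker.map A.subtype with hKr
    have hKc : Nat.card Kr = 15 := by rw [hKr, card_map_of_injective A.subtype_injective, h15]
    obtain ⟨z, hz⟩ := exists_prime_orderOf_dvd_card' (G := Kr) 5 (by rw [hKc]; norm_num)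
    have hz' : orderOf (z : G) = 5 := by rw [orderOf_coe, hz]
    obtain ⟨⟨n, hn, hnm⟩, -⟩ := sylow_count_inside Kr z.2 hz' (by rw [hKc]; norm_num)
    have hd20 := card_dvd_of_le
      (inf_le_left : normalizer (zpowers (z : G) : Set G) ⊓ Kr ≤ normalizer (zpowers (z : G) : Set G))
    have hd15 := card_dvd_of_le (inf_le_right : normalizer (zpowers (z : G) : Set G) ⊓ Kr ≤ Kr)
    rw [(X.five_data hz').1] at hd20
    rw [hKc] at hd15 hn
    have hd5 := Nat.dvd_gcd hd20 hd15
    rw [show Nat.gcd 20 15 = 5 from rfl] at hd5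
    rcases (Nat.dvd_prime (by norm_num : Nat.Prime 5)).1 hd5 with h | h <;> rw [h] at hn <;> omega
  have hMcard : Nat.card M = 12 := by
    have h4 := card_dvd_of_le hSM
    rw [hScard] at h4
    have h60 := card_dvd_of_le (inf_le_right : M ≤ A)
    rw [T.half.card] at h60
    have h5 : ¬ 5 ∣ Nat.card M :=
      X.no_five_normalizes hScard ht htS (inf_le_left : M ≤ normalizer (S : Set G))
    obtain ⟨k, hk⟩ := h4
    have hk15 : k ∈ Nat.divisors 15 := Nat.mem_divisors.2
      ⟨Nat.dvd_of_mul_dvd_mul_left (by norm_num : 0 < 4) (by rw [← hk]; exact h60), by norm_num⟩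
    rw [show Nat.divisors 15 = ({1, 3, 5, 15} : Finset ℕ) by decide] at hk15
    simp only [Finset.mem_insert, Finset.mem_singleton] at hk15
    rcases hk15 with rfl | rfl | rfl | rfl
    · exfalso
      obtain ⟨m, hm, s, hs, hms⟩ := hexm
      have heq := eq_of_le_of_card_ge hSM (by rw [hk, hScard])
      exact hms (hScomm m (heq.ge hm) s hs)
    · omega
    · omega
    · omega
  obtain ⟨β', hβ'⟩ := exists_prime_orderOf_dvd_card' (G := M) 3 (by rw [hMcard]; norm_num)
  set β : G := (β' : G) with hβdef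
  have hβ : orderOf β = 3 := by rw [hβdef, orderOf_coe, hβ']
  have hβM : β ∈ M := β'.2
  -- no element of order three in `A` centralises a non-trivial element of `S`
  have hfree : ∀ h ∈ A, orderOf h = 3 → ∀ s ∈ S, Commute h s → s = 1 := by
    intro h hhA hh s hs hc
    by_contra hs1
    obtain ⟨i, hi, hsi⟩ := (Nat.dvd_prime_pow Nat.prime_two).1
      (show orderOf s ∣ 2 ^ 2 by
        rw [show (2 : ℕ) ^ 2 = 4 by norm_num, ← hScard, ← orderOf_mk s hs]
        exact orderOf_dvd_natCard _)
    interval_cases i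
    · rw [pow_zero, orderOf_eq_one_iff] at hsi; exact hs1 hsi
    · exact T.no_comm_invol hhA hs.2 hh (by rw [hsi]; norm_num) hc
    · refine T.no_comm_invol hhA (pow_mem hs.2 2) hh ?_ (hc.pow_right 2)
      rw [orderOf_pow' s (by norm_num), hsi]; rfl
  have hconjS : ∀ s ∈ S, β * s * β⁻¹ ∈ S := fun s hs => (mem_normalizer_iff.1 hβM.1 s).1 hs
  set t₁ := β * t * β⁻¹ with ht₁
  set t₂ := β * t₁ * β⁻¹ with ht₂
  have ht₁S : t₁ ∈ S := hconjS _ htS
  have ht₂S : t₂ ∈ S := hconjS _ ht₁S
  have hne1 : t₁ ≠ t := fun h => ht1 (hfree β hβM.2 hβ t htS (mul_inv_eq_iff_eq_mul.1 h))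
  have hne12 : t₂ ≠ t₁ := fun h => hne1 (by
    rw [ht₂, ht₁] at h
    exact mul_left_cancel (mul_right_cancel h))
  have hne2 : t₂ ≠ t := by
    intro h
    have hb2 : Commute (β ^ 2) t := by
      rw [Commute, SemiconjBy, ← mul_inv_eq_iff_eq_mul]
      conv_rhs => rw [← h]
      rw [ht₂, ht₁, sq]; group
    refine ht1 (hfree _ (pow_mem hβM.2 2) ?_ t htS hb2)
    rw [orderOf_pow' β (by norm_num), hβ]; rfl
  have hS4 : ∀ s ∈ S, s = 1 ∨ s = t ∨ s = t₁ ∨ s = t₂ := by
    intro s hs
    have hsub : ({1, t, t₁, t₂} : Finset G) ⊆ Finset.univ.filter (· ∈ S) := by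
      intro g hg
      simp only [Finset.mem_insert, Finset.mem_singleton] at hg
      rcases hg with rfl | rfl | rfl | rfl <;> simp [one_mem, htS, ht₁S, ht₂S]
    have hc1 : t₁ ≠ 1 := fun h => ht1 (conj_eq_one_iff.1 h)
    have hc2 : t₂ ≠ 1 := fun h => hc1 (conj_eq_one_iff.1 h)
    have heq := Finset.eq_of_subset_of_card_le hsub (by
      rw [← Fintype.card_subtype, ← Nat.card_eq_fintype_card, hScard,
        Finset.card_insert_of_notMem (by simp [Ne.symm ht1, Ne.symm hc1, Ne.symm hc2]),
        Finset.card_insert_of_notMem (by simp [Ne.symm hne1, Ne.symm hne2]),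
        Finset.card_insert_of_notMem (by simp [Ne.symm hne12]), Finset.card_singleton])
    have : s ∈ ({1, t, t₁, t₂} : Finset G) := heq ▸ Finset.mem_filter.2 ⟨Finset.mem_univ _, hs⟩
    simpa using this
  have hconjord : ∀ g s : G, orderOf (g * s * g⁻¹) = orderOf s := fun g s => by
    rw [show g * s * g⁻¹ = MulAut.conj g s from rfl, MulEquiv.orderOf_eq]
  have hSval : ∀ s ∈ S, s ≠ 1 → X.R.ρ.character s = 2 := by
    intro s hs hs1
    rcases hS4 s hs with h | h | h | h
    · exact absurd h hs1
    all_goals refine hb s ?_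
    all_goals rw [h]
    · exact ht
    · rw [ht₁, hconjord, ht]
    · rw [ht₂, hconjord, ht₁, hconjord, ht]
  have hMval : ∀ g ∈ M, g ∉ S → X.R.ρ.character g = 3 := by
    intro g hg hgS
    haveI : (S.subgroupOf M).Normal := normal_subgroupOf_iff_le_normalizer hSM |>.2 inf_le_left
    have hidx : (S.subgroupOf M).index = 3 := by
      have h := (S.subgroupOf M).card_mul_index
      rw [Nat.card_congr (subgroupOfEquivOfLe hSM).toEquiv, hScard, hMcard] at h
      omega
    have h3 : g ^ 3 ∈ S := by
      have := (S.subgroupOf M).pow_index_mem ⟨g, hg⟩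
      rw [hidx] at this
      exact this
    have hn4 : g ^ 4 ≠ 1 := fun h => hgS (by
      have h' : g * g ^ 3 = 1 := by rw [← pow_succ']; exact h
      rw [eq_inv_of_mul_eq_one_left h']
      exact inv_mem h3)
    have h12 : orderOf g ∣ 12 := by
      rw [← hMcard, ← orderOf_mk g hg]; exact orderOf_dvd_natCard _
    have hord : orderOf g = 3 := by
      have hm : orderOf g ∈ Nat.divisors 12 := Nat.mem_divisors.2 ⟨h12, by norm_num⟩
      rw [show Nat.divisors 12 = ({1, 2, 3, 4, 6, 12} : Finset ℕ) by decide] at hm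
      simp only [Finset.mem_insert, Finset.mem_singleton] at hm
      rcases hm with h | h | h | h | h | h
      · exact absurd (orderOf_dvd_iff_pow_eq_one.1 (h ▸ one_dvd 4)) hn4
      · exact absurd (orderOf_dvd_iff_pow_eq_one.1 (h ▸ by norm_num)) hn4
      · exact h
      · exact absurd (orderOf_dvd_iff_pow_eq_one.1 (h ▸ dvd_rfl)) hn4
      · exact absurd h (T.half.no_six g hg.2)
      · refine absurd ?_ (T.half.no_six (g ^ 2) (pow_mem hg.2 2))
        rw [orderOf_pow' g (by norm_num), h]; rfl
    rw [← X.R.char_isClass (X.isConj_o T (T.half.le hg.2) hord), hoval]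
  have hfixSM : fixSp X.R.ρ M = fixSp X.R.ρ S := by
    have hfilt : ∀ L : Subgroup G, (Finset.univ.filter (· ∈ L)).card = Nat.card L := fun L => by
      rw [Nat.card_eq_fintype_card, Fintype.card_subtype]
    have e1 : ∑ g ∈ Finset.univ.filter (· ∈ S), X.R.ρ.character g = 12 := by
      rw [← Finset.add_sum_erase _ _ (show (1 : G) ∈ Finset.univ.filter (· ∈ S) by simp [one_mem]),
        Finset.sum_congr rfl (fun g hg => hSval g (Finset.mem_filter.1 (Finset.mem_erase.1 hg).2).2
          (Finset.mem_erase.1 hg).1), Finset.sum_const, X.char_one',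
        Finset.card_erase_of_mem (by simp [one_mem]), hfilt, hScard]
      norm_num
    have e2 : ∑ g ∈ Finset.univ.filter (· ∈ M), X.R.ρ.character g = 36 := by
      have hsub : Finset.univ.filter (· ∈ S) ⊆ Finset.univ.filter (· ∈ M) := fun g hg =>
        Finset.mem_filter.2 ⟨Finset.mem_univ _, hSM (Finset.mem_filter.1 hg).2⟩
      rw [← Finset.sum_sdiff hsub, e1, Finset.sum_congr rfl (fun g hg => hMval g
          (Finset.mem_filter.1 (Finset.mem_sdiff.1 hg).1).2
          (fun h => (Finset.mem_sdiff.1 hg).2 (Finset.mem_filter.2 ⟨Finset.mem_univ _, h⟩))),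
        Finset.sum_const, Finset.card_sdiff_of_subset hsub, hfilt, hfilt, hScard, hMcard]
      norm_num
    rw [sum_filter_char, hScard] at e1
    rw [sum_filter_char, hMcard] at e2
    refine Submodule.eq_of_le_of_finrank_eq (fixSp_anti _ hSM) ?_
    have a1 : (4 : ℕ) * Module.finrank ℂ (fixSp X.R.ρ S) = 12 := by exact_mod_cast e1
    have a2 : (12 : ℕ) * Module.finrank ℂ (fixSp X.R.ρ M) = 36 := by exact_mod_cast e2
    omega
  -- the second four subgroup
  obtain ⟨V, hVc, hV⟩ := exists_four ht T.hu htu htu_c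
  have hVt : t ∈ V := (hV t).2 (Or.inr (Or.inl rfl))
  have hVu : u ∈ V := (hV u).2 (Or.inr (Or.inr (Or.inl rfl)))
  have hnormV : ∀ P : Sylow 2 G, t ∈ (P : Subgroup G) → u ∈ (P : Subgroup G) →
      (P : Subgroup G) ≤ normalizer (V : Set G) := by
    intro P htP' huP' c hc
    obtain ⟨f⟩ := X.dihedral P
    have key : ∀ a b : (P : Subgroup G), orderOf (a : G) = 2 → orderOf (b : G) = 2 → (a : G) ≠ b →
        Commute (a : G) b → c * a * c⁻¹ = a ∨ c * a * c⁻¹ = b ∨ c * a * c⁻¹ = a * b := by
      intro a b ha hb' hab hcom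
      have hsq : ∀ x : (P : Subgroup G), orderOf (x : G) = 2 → f x ^ 2 = 1 ∧ f x ≠ 1 := by
        intro x hx
        refine ⟨?_, fun h => ?_⟩
        · rw [← map_pow, ← map_one f, f.injective.eq_iff]
          have h2 := pow_orderOf_eq_one x
          rwa [← orderOf_coe, hx] at h2
        · rw [← map_one f, f.injective.eq_iff] at h
          rw [h, OneMemClass.coe_one, orderOf_one] at hx
          norm_num at hx
      rcases dihedral_four_normal (f a) (f b) (f ⟨c, hc⟩) (hsq a ha).1 (hsq b hb').1
        (by rw [← map_mul, ← map_mul]; exact congrArg f (Subtype.ext hcom.eq))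
        (hsq a ha).2 (hsq b hb').2 (fun h => hab (congrArg Subtype.val (f.injective h))) with h | h | h
      all_goals rw [← map_inv, ← map_mul, ← map_mul] at h
      · exact Or.inl (by simpa using congrArg Subtype.val (f.injective h))
      · exact Or.inr (Or.inl (by simpa using congrArg Subtype.val (f.injective h)))
      · rw [← map_mul] at h
        exact Or.inr (Or.inr (by simpa using congrArg Subtype.val (f.injective h)))
    have ct : c * t * c⁻¹ ∈ V := by
      rcases key ⟨t, htP'⟩ ⟨u, huP'⟩ ht T.hu htu htu_c with h | h | h <;> rw [h, hV] <;> simp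
    have cu : c * u * c⁻¹ ∈ V := by
      rcases key ⟨u, huP'⟩ ⟨t, htP'⟩ T.hu ht (Ne.symm htu) htu_c.symm with h | h | h <;> rw [h, hV]
      · simp
      · simp
      · exact Or.inr (Or.inr (Or.inr htu_c.eq.symm))
    rw [mem_normalizer_iff_map_conj_eq]
    refine eq_of_le_of_card_ge ?_ (by
      rw [card_map_of_injective (MulEquiv.injective (MulAut.conj c))])
    rintro _ ⟨a, ha, rfl⟩
    show c * a * c⁻¹ ∈ V
    rcases (hV a).1 ha with rfl | rfl | rfl | rfl
    · rw [mul_one, mul_inv_cancel]; exact one_mem _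
    · exact ct
    · exact cu
    · rw [show c * (t * u) * c⁻¹ = c * t * c⁻¹ * (c * u * c⁻¹) by group]; exact mul_mem ct cu
  have hP₀N : (P₀ : Subgroup G) ≤ normalizer (V : Set G) := hnormV P₀ htP huP
  -- a second Sylow subgroup, in the centraliser of `u`
  set Cu := centralizer ({u} : Set G) with hCu
  have hVCu : V ≤ Cu := fun a ha => by
    rw [hCu, mem_centralizer_singleton_iff]
    rcases (hV a).1 ha with rfl | rfl | rfl | rfl
    · simp
    · exact htu_c.eq
    · rfl
    · rw [mul_assoc, ← mul_assoc u t u, ← htu_c.eq, mul_assoc]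
  obtain ⟨P₁', hP₁'⟩ := (IsPGroup.of_card (n := 2) (by
    rw [Nat.card_congr (subgroupOfEquivOfLe hVCu).toEquiv, hVc]; norm_num) :
      IsPGroup 2 (V.subgroupOf Cu)).exists_le_sylow
  have hP₁'c : Nat.card (P₁' : Subgroup Cu) = 2 ^ 3 :=
    card_sylow_of_exact P₁' (by rw [hCu, X.card_centralizer_invol T.hu]; norm_num)
      (by rw [hCu, X.card_centralizer_invol T.hu]; norm_num)
  obtain ⟨P₁, hP₁⟩ := (IsPGroup.of_card (n := 3) (by
    rw [card_map_of_injective Cu.subtype_injective, hP₁'c]) :
      IsPGroup 2 ((P₁' : Subgroup Cu).map Cu.subtype)).exists_le_sylow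
  have hP₁e := eq_of_le_of_card_ge hP₁ (by
    rw [X.card_sylow_two, card_map_of_injective Cu.subtype_injective, hP₁'c]; norm_num)
  have hVP₁ : V ≤ (P₁ : Subgroup G) := fun a ha =>
    hP₁ ⟨⟨a, hVCu ha⟩, hP₁' (mem_subgroupOf.2 ha), rfl⟩
  have hP₁Cu : (P₁ : Subgroup G) ≤ Cu := hP₁e ▸ map_subtype_le _
  have hP₁N : (P₁ : Subgroup G) ≤ normalizer (V : Set G) := hnormV P₁ (hVP₁ hVt) (hVP₁ hVu)
  set N := normalizer (V : Set G) with hN
  have htconj : ∀ g ∈ N, g * t * g⁻¹ = t ∨ g * t * g⁻¹ = u ∨ g * t * g⁻¹ = t * u := fun g hg =>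
    ((hV _).1 ((mem_normalizer_iff.1 hg t).1 hVt)).resolve_left fun e => ht1 (conj_eq_one_iff.1 e)
  have hnoV : ∀ g : G, orderOf g = 3 → Commute g t → Commute g u → False := by
    intro g hg hgt hgu
    have hmem := X.three_unique T.hu T.ho hg T.ou hgu
    have hot : Commute o t := by
      have heq := eq_of_le_of_card_ge (zpowers_le.2 hmem : zpowers g ≤ zpowers o)
        (by rw [Nat.card_zpowers, Nat.card_zpowers, hg, T.ho])
      obtain ⟨i, hi⟩ := mem_zpowers_iff.1 (heq.ge (mem_zpowers o))
      rw [← hi]; exact hgt.zpow_left i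
    exact T.no_comm_invol T.oA htA T.ho ht hot
  have hnoNt : ∀ g ∈ N, orderOf g = 3 → ¬ Commute g t := by
    intro g hg hg3 hgt
    have hcu : g * u * g⁻¹ = u ∨ g * u * g⁻¹ = t * u := by
      rcases (hV _).1 ((mem_normalizer_iff.1 hg u).1 hVu) with e | e | e | e
      · rw [conj_eq_one_iff] at e
        have := T.hu
        rw [e, orderOf_one] at this; norm_num at this
      · exfalso
        have h' : g * u * g⁻¹ = g * t * g⁻¹ := by rw [e, hgt.eq, mul_inv_cancel_right]
        exact htu (mul_left_cancel (mul_right_cancel h')).symm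
      · exact Or.inl e
      · exact Or.inr e
    rcases hcu with h | h
    · exact hnoV g hg3 hgt (mul_inv_eq_iff_eq_mul.1 h)
    · -- a third power fixes `u`
      have h2 : g ^ 2 * u * (g ^ 2)⁻¹ = u := by
        rw [show g ^ 2 * u * (g ^ 2)⁻¹ = g * (g * u * g⁻¹) * g⁻¹ by rw [sq]; group, h,
          show g * (t * u) * g⁻¹ = g * t * g⁻¹ * (g * u * g⁻¹) by group, h, hgt.eq,
          mul_inv_cancel_right, ← mul_assoc, ← pow_two, ← ht, pow_orderOf_eq_one, one_mul]
      have hg2 : orderOf (g ^ 2) = 3 := by rw [orderOf_pow' g (by norm_num), hg3]; rfl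
      exact hnoV _ hg2 (hgt.pow_left 2) (mul_inv_eq_iff_eq_mul.1 h2)
  have hNcard : Nat.card N = 24 := by
    set tN : N := ⟨t, hP₀N htP⟩ with htN
    have hcls := card_cls tN
    have hle3 : (cls tN).card ≤ 3 := by
      refine (Finset.card_le_card_of_injOn (fun a : N => (a : G)) (t := ({t, u, t * u} : Finset G))
        (fun a ha => ?_) Subtype.val_injective.injOn).trans Finset.card_le_three
      obtain ⟨g, hg⟩ := isConj_iff.1 (mem_cls.1 (Finset.mem_coe.1 ha))
      have h := htconj g g.2
      have e' : (g : G) * t * (g : G)⁻¹ = (a : G) := by rw [← hg]; rfl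
      rw [e'] at h
      simpa using h
    have hc8 : Nat.card (centralizer ({tN} : Set N)) = 8 := by
      set C' := (centralizer ({tN} : Set N)).map N.subtype with hC'
      have hC'c : Nat.card C' = Nat.card (centralizer ({tN} : Set N)) :=
        card_map_of_injective N.subtype_injective
      have hP₀C : (P₀ : Subgroup G) ≤ C' := fun x hx => by
        refine ⟨⟨x, hP₀N hx⟩, mem_centralizer_singleton_iff.2 (Subtype.ext ?_), rfl⟩
        exact (htcen x hx).eq
      have hC't : C' ≤ centralizer ({t} : Set G) := by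
        rintro _ ⟨a, ha, rfl⟩
        exact mem_centralizer_singleton_iff.2
          (congrArg (Subtype.val : N → G) (mem_centralizer_singleton_iff.1 ha))
      have h8 := card_dvd_of_le hP₀C
      have h24 := card_dvd_of_le hC't
      rw [X.card_sylow_two] at h8
      rw [X.card_centralizer_invol ht] at h24
      rw [← hC'c]
      obtain ⟨k, hk⟩ := h8
      have hk3 : k ∣ 3 := Nat.dvd_of_mul_dvd_mul_left (by norm_num : 0 < 8) (by rw [← hk]; exact h24)
      rcases (Nat.dvd_prime Nat.prime_three).1 hk3 with rfl | rfl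
      · exact hk
      · exfalso
        obtain ⟨g, hg⟩ := exists_prime_orderOf_dvd_card' (G := C') 3 (by rw [hk]; norm_num)
        obtain ⟨a, -, ha⟩ := g.2
        exact hnoNt g (ha ▸ a.2) (by rw [orderOf_coe, hg])
          (mem_centralizer_singleton_iff.1 (hC't g.2))
    rw [hc8] at hcls
    have hle : Nat.card N ≤ 24 := by rw [← hcls]; omega
    have hd := card_subgroup_dvd_card N
    rw [X.h] at hd
    have hne8 : Nat.card N ≠ 8 := fun h8 => by
      have e0 := eq_of_le_of_card_ge hP₀N (by rw [h8, X.card_sylow_two])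
      have e1 := eq_of_le_of_card_ge hP₁N (by rw [h8, X.card_sylow_two])
      have hu_c : ∀ x ∈ (P₀ : Subgroup G), Commute x u := fun x hx =>
        mem_centralizer_singleton_iff.1 (hP₁Cu (e1.ge (e0.le hx)))
      rcases hcenter u huP hu_c with h | h
      · have := T.hu; rw [h, orderOf_one] at this; norm_num at this
      · exact htu h.symm
    have h0 : 0 < (cls tN).card := Finset.card_pos.2 ⟨tN, mem_cls.2 (IsConj.refl _)⟩
    have hNN : (cls tN).card * 8 = Nat.card N := hcls
    rcases (by omega : (cls tN).card = 1 ∨ (cls tN).card = 2 ∨ (cls tN).card = 3) with hc | hc | hc <;>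
      rw [hc] at hNN
    · exact absurd hNN.symm hne8
    · rw [← hNN] at hd; norm_num at hd
    · exact hNN.symm
  obtain ⟨β₁', hβ₁'⟩ := exists_prime_orderOf_dvd_card' (G := N) 3 (by rw [hNcard]; norm_num)
  set β₁ : G := (β₁' : G) with hβ₁def
  have hβ₁ : orderOf β₁ = 3 := by rw [hβ₁def, orderOf_coe, hβ₁']
  -- the values on `N` are non-negative
  have hNord : ∀ g ∈ N, g ^ 4 = 1 ∨ orderOf g = 3 := by
    intro g hg
    have h24 : orderOf g ∣ 24 := by
      rw [← hNcard, ← orderOf_mk g hg]; exact orderOf_dvd_natCard _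
    by_cases h3 : 3 ∣ orderOf g
    · right
      by_contra hne
      -- an element of order three commutes with an involution
      obtain ⟨m, hm⟩ := h3
      have hm8 : m ∣ 8 := Nat.dvd_of_mul_dvd_mul_left (by norm_num : 0 < 3) (by rw [← hm]; exact h24)
      obtain ⟨i, hi, rfl⟩ := (Nat.dvd_prime_pow Nat.prime_two).1 (show m ∣ 2 ^ 3 from hm8)
      have hi0 : i ≠ 0 := fun e => hne (by rw [hm, e]; norm_num)
      obtain ⟨j, rfl⟩ := Nat.exists_eq_succ_of_ne_zero hi0
      set h := g ^ (2 ^ (j + 1)) with hh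
      set inv := g ^ (3 * 2 ^ j) with hinv
      have hpos : 0 < 2 ^ j := by positivity
      have hho : orderOf h = 3 := by
        rw [hh, orderOf_pow_of_dvd (by positivity) (by rw [hm]; exact dvd_mul_left _ _), hm,
          Nat.mul_div_cancel _ (by positivity)]
      have hio : orderOf inv = 2 := by
        rw [hinv, orderOf_pow_of_dvd (by positivity)
          (by rw [hm]; exact mul_dvd_mul_left 3 (pow_dvd_pow 2 (Nat.le_succ j))), hm, pow_succ,
          ← mul_assoc, Nat.mul_div_cancel_left _ (by positivity)]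
      have hcomm : Commute h inv := (Commute.refl g).pow_pow _ _
      have hhN : h ∈ N := pow_mem hg _
      have hiN : inv ∈ N := pow_mem hg _
      -- `h` fixes no involution of `V`
      have hfreeV : ∀ b, b = t ∨ b = u ∨ b = t * u → ¬ Commute h b := by
        intro b hb' hc
        have hb : ∃ n ∈ N, n * t * n⁻¹ = b := by
          have hw1 := htconj β₁ β₁'.2
          have hne' : β₁ * t * β₁⁻¹ ≠ t := fun e =>
            hnoNt β₁ β₁'.2 hβ₁ (mul_inv_eq_iff_eq_mul.1 e)
          have hw2 := htconj (β₁ ^ 2) (pow_mem β₁'.2 2)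
          have hne'' : β₁ ^ 2 * t * (β₁ ^ 2)⁻¹ ≠ t := fun e =>
            hnoNt _ (pow_mem β₁'.2 2) (by rw [orderOf_pow' β₁ (by norm_num), hβ₁]; rfl)
              (mul_inv_eq_iff_eq_mul.1 e)
          have hdiff : β₁ ^ 2 * t * (β₁ ^ 2)⁻¹ ≠ β₁ * t * β₁⁻¹ := fun e => hne' (by
            rw [show β₁ ^ 2 * t * (β₁ ^ 2)⁻¹ = β₁ * (β₁ * t * β₁⁻¹) * β₁⁻¹ by rw [sq]; group] at e
            exact mul_left_cancel (mul_right_cancel e))
          rcases hb' with rfl | rfl | rfl
          · exact ⟨1, one_mem _, by group⟩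
          · rcases hw1 with e | e | e
            · exact absurd e hne'
            · exact ⟨β₁, β₁'.2, e⟩
            · refine ⟨β₁ ^ 2, pow_mem β₁'.2 2, ?_⟩
              rcases hw2 with e2 | e2 | e2
              · exact absurd e2 hne''
              · exact e2
              · exact absurd (e2.trans e.symm) hdiff
          · rcases hw1 with e | e | e
            · exact absurd e hne'
            · refine ⟨β₁ ^ 2, pow_mem β₁'.2 2, ?_⟩
              rcases hw2 with e2 | e2 | e2
              · exact absurd e2 hne''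
              · exact absurd (e2.trans e.symm) hdiff
              · exact e2
            · exact ⟨β₁, β₁'.2, e⟩
        obtain ⟨n, hn, rfl⟩ := hb
        refine hnoNt (n⁻¹ * h * n) (mul_mem (mul_mem (inv_mem hn) hhN) hn) ?_ ?_
        · have := hconjord n⁻¹ h
          rwa [inv_inv, hho] at this
        · show n⁻¹ * h * n * t = t * (n⁻¹ * h * n)
          rw [show n⁻¹ * h * n * t = n⁻¹ * (h * (n * t * n⁻¹)) * n by group, hc.eq]
          group
      -- `inv` fixes some involution of `V`
      obtain ⟨b, hb', hbc⟩ : ∃ b, (b = t ∨ b = u ∨ b = t * u) ∧ Commute inv b := by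
        have hii : inv * inv = 1 := by
          have := pow_orderOf_eq_one inv; rwa [hio, sq] at this
        have hback : ∀ x, inv * x * inv⁻¹ = u → inv * u * inv⁻¹ = x := fun x e => by
          rw [← e, inv_eq_of_mul_eq_one_right hii,
            show inv * (inv * x * inv) * inv = inv * inv * x * (inv * inv) by group, hii]
          simp
        rcases htconj inv hiN with e | e | e
        · exact ⟨t, Or.inl rfl, mul_inv_eq_iff_eq_mul.1 e⟩
        · refine ⟨t * u, Or.inr (Or.inr rfl), mul_inv_eq_iff_eq_mul.1 ?_⟩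
          rw [show inv * (t * u) * inv⁻¹ = inv * t * inv⁻¹ * (inv * u * inv⁻¹) by group, e,
            hback t e, htu_c.eq]
        · refine ⟨u, Or.inr (Or.inl rfl), mul_inv_eq_iff_eq_mul.1 ?_⟩
          have e2 : inv * (t * u) * inv⁻¹ = t := by
            rw [← e, inv_eq_of_mul_eq_one_right hii,
              show inv * (inv * t * inv) * inv = inv * inv * t * (inv * inv) by group, hii]
            simp
          rw [show inv * (t * u) * inv⁻¹ = inv * t * inv⁻¹ * (inv * u * inv⁻¹) by group, e,
            mul_assoc] at e2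
          have e3 : u * (inv * u * inv⁻¹) = 1 := mul_eq_left.1 e2
          rw [eq_inv_of_mul_eq_one_right e3, inv_eq_of_mul_eq_one_right hu2]
      -- hence all three, and it lies in `V`
      have hbN : ∀ g' ∈ N, ∀ x, (x = t ∨ x = u ∨ x = t * u) →
          g' * x * g'⁻¹ = t ∨ g' * x * g'⁻¹ = u ∨ g' * x * g'⁻¹ = t * u := by
        intro g' hg' x hx
        refine ((hV _).1 ((mem_normalizer_iff.1 hg' x).1 ((hV x).2 (Or.inr hx)))).resolve_left
          fun e => ?_
        rw [conj_eq_one_iff] at e
        have h2 : orderOf x = 2 := by rcases hx with rfl | rfl | rfl <;> first | exact ht | exact T.hu | exact htu2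
        rw [e, orderOf_one] at h2
        norm_num at h2
      set b₁ := h * b * h⁻¹ with hb₁
      have hb₁' := hbN h hhN b hb'
      have hbc₁ : Commute inv b₁ := (hcomm.symm.mul_right hbc).mul_right hcomm.symm.inv_right
      have hne : b₁ ≠ b := fun e => hfreeV b hb' (mul_inv_eq_iff_eq_mul.1 e)
      have hit : Commute inv t ∧ Commute inv u := by
        rcases hb' with rfl | rfl | rfl <;> rcases hb₁' with e | e | e
        all_goals rw [← hb₁] at e
        all_goals rw [e] at hbc₁
        all_goals first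
          | exact absurd e hne
          | exact ⟨hbc, hbc₁⟩
          | exact ⟨hbc₁, hbc⟩
          | exact ⟨hbc, by have := (hbc.inv_right).mul_right hbc₁; rwa [inv_mul_cancel_left] at this⟩
          | exact ⟨by have := hbc₁.mul_right (hbc.inv_right); rwa [mul_inv_cancel_right] at this, hbc⟩
          | exact ⟨hbc₁, by have := (hbc₁.inv_right).mul_right hbc; rwa [inv_mul_cancel_left] at this⟩
          | exact ⟨by have := hbc.mul_right (hbc₁.inv_right); rwa [mul_inv_cancel_right] at this, hbc₁⟩
      -- the centraliser of `V` is `V`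
      have hinvV : inv ∈ V := by
        set CV := centralizer ({t} : Set G) ⊓ centralizer ({u} : Set G) with hCV
        have hVCV : V ≤ CV := fun a ha => by
          refine mem_inf.2 ⟨?_, hVCu ha⟩
          rw [mem_centralizer_singleton_iff]
          rcases (hV a).1 ha with rfl | rfl | rfl | rfl
          · simp
          · rfl
          · exact htu_c.eq.symm
          · rw [mul_assoc, ← htu_c.eq]
        have h24' := card_dvd_of_le (inf_le_left : CV ≤ centralizer ({t} : Set G))
        rw [X.card_centralizer_invol ht] at h24'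
        have h4' := card_dvd_of_le hVCV
        rw [hVc] at h4'
        obtain ⟨k, hk⟩ := h4'
        have hk6 : k ∈ Nat.divisors 6 := Nat.mem_divisors.2
          ⟨Nat.dvd_of_mul_dvd_mul_left (by norm_num : 0 < 4) (by rw [← hk]; exact h24'), by norm_num⟩
        rw [show Nat.divisors 6 = ({1, 2, 3, 6} : Finset ℕ) by decide] at hk6
        simp only [Finset.mem_insert, Finset.mem_singleton] at hk6
        have hno3 : ¬ 3 ∣ Nat.card CV := fun h3 => by
          obtain ⟨g', hg'⟩ := exists_prime_orderOf_dvd_card' (G := CV) 3 h3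
          exact hnoV g' (by rw [orderOf_coe, hg'])
            (mem_centralizer_singleton_iff.1 g'.2.1) (mem_centralizer_singleton_iff.1 g'.2.2)
        rcases hk6 with rfl | rfl | rfl | rfl
        · have := eq_of_le_of_card_ge hVCV (by rw [hk, hVc])
          rw [this]
          exact ⟨mem_centralizer_singleton_iff.2 hit.1.eq, mem_centralizer_singleton_iff.2 hit.2.eq⟩
        · exfalso
          obtain ⟨Q, hQ⟩ := (IsPGroup.of_card (n := 3) (G := CV) (by rw [hk]; norm_num) :
            IsPGroup 2 CV).exists_le_sylow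
          have hQe := eq_of_le_of_card_ge hQ (by rw [X.card_sylow_two, hk])
          obtain ⟨f⟩ := X.dihedral Q
          have hcen2 : ∀ a b c : DihedralGroup 4, a ≠ 1 → b ≠ 1 → a ≠ b →
              (∀ d, d * a = a * d) → (∀ d, d * b = b * d) → c = 1 := by decide +kernel
          have := hcen2 (f ⟨t, hQ (hVCV hVt)⟩) (f ⟨u, hQ (hVCV hVu)⟩) (f ⟨t, hQ (hVCV hVt)⟩)
            (fun e => ht1 (congrArg Subtype.val (f.injective (e.trans (map_one f).symm))))
            (fun e => by
              have h' := congrArg Subtype.val (f.injective (e.trans (map_one f).symm))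
              have := T.hu
              rw [show u = 1 from h', orderOf_one] at this
              norm_num at this)
            (fun e => htu (congrArg Subtype.val (f.injective e)))
            (fun d => by
              obtain ⟨x, rfl⟩ := f.surjective d
              rw [← map_mul, ← map_mul]
              exact congrArg f (Subtype.ext
                (mem_centralizer_singleton_iff.1 (mem_inf.1 (hQe.ge x.2)).1)))
            (fun d => by
              obtain ⟨x, rfl⟩ := f.surjective d
              rw [← map_mul, ← map_mul]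
              exact congrArg f (Subtype.ext
                (mem_centralizer_singleton_iff.1 (mem_inf.1 (hQe.ge x.2)).2)))
          exact ht1 (congrArg Subtype.val (f.injective (this.trans (map_one f).symm)))
        · exact absurd ⟨4, by rw [hk]⟩ hno3
        · exact absurd ⟨8, by rw [hk]⟩ hno3
      rcases (hV inv).1 hinvV with e | e
      · rw [e, orderOf_one] at hio; norm_num at hio
      · exact hfreeV inv e hcomm
    · left
      have h8 : orderOf g ∣ 8 :=
        (((Nat.prime_three.coprime_iff_not_dvd).2 h3).symm).dvd_of_dvd_mul_left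
          (show orderOf g ∣ 3 * 8 from h24)
      exact orderOf_dvd_iff_pow_eq_one.1 (X.orderOf_dvd_four h8)
  obtain ⟨w, hw, hw0⟩ := exists_fixed_of_nonneg X.R.ρ (H := N) (by rw [hd]; norm_num) fun g hg => by
    rcases hNord g hg with h | h
    · obtain ⟨i, hi, hgi⟩ := (Nat.dvd_prime_pow Nat.prime_two).1
        (show orderOf g ∣ 2 ^ 2 from orderOf_dvd_of_pow_eq_one (by norm_num; exact h))
      refine X.nonneg_value ?_
      rw [hgi]
      interval_cases i <;> norm_num
    · exact hge g h
  have hwM : w ∈ fixSp X.R.ρ M := by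
    rw [hfixSM]
    exact fixSp_anti _ (le_trans (inf_le_left : S ≤ (P₀ : Subgroup G)) hP₀N) hw
  set H := vecStab X.R.ρ w with hH
  have hNH : N ≤ H := fun g hg => mem_fixSp.1 hw g hg
  have hβH : β ∈ H := mem_fixSp.1 hwM β hβM
  have hHtop : H ≠ ⊤ := fun e' => hw0 (by
    have h : w ∈ fixSp X.R.ρ ⊤ := mem_fixSp.2 fun g _ => (e'.ge (mem_top g) : g ∈ H)
    have hy1 : X.R.ρ t ≠ 1 := fun e1 => by
      refine X.R.faith t ht1 ?_
      rw [← X.R.char_one]
      unfold Representation.character
      simp [e1]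
    rwa [fixSp_top_eq_bot X.R.ρ X.R.irr hy1, Submodule.mem_bot] at h)
  -- a normal subgroup of `H` with all squares contains the Sylow subgroup
  have hclose : ∀ B : Subgroup G, (∀ a ∈ H, a * a ∈ B) → (∀ l ∈ H, ∀ a ∈ B, l * a * l⁻¹ ∈ B) →
      (P₀ : Subgroup G) ≤ B := by
    intro B hsq hcj
    have hyH : y₀ ∈ H := hNH (hP₀N hy₀P)
    have htB : t ∈ B := by rw [ht_def, sq]; exact hsq _ hyH
    have hSB : ∀ s ∈ S, s ∈ B := by
      intro s hs
      rcases hS4 s hs with h | h | h | h <;> rw [h]
      · exact one_mem _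
      · exact htB
      · exact hcj β hβH t htB
      · exact hcj β hβH _ (hcj β hβH t htB)
    have huB : u ∈ B := by
      rcases htconj β₁ β₁'.2 with h | h | h
      · exact absurd (mul_inv_eq_iff_eq_mul.1 h) (hnoNt β₁ β₁'.2 hβ₁)
      · rw [← h]; exact hcj β₁ (hNH β₁'.2) t htB
      · have h' := mul_mem (inv_mem htB) (hcj β₁ (hNH β₁'.2) t htB)
        rwa [h, inv_mul_cancel_left] at h'
    intro x hx
    by_cases hxA : x ∈ A
    · exact hSB x ⟨hx, hxA⟩
    · have hux : u * x ∈ S := ⟨mul_mem huP hx, T.half.mul_notMem _ T.uK _ (hP₀K hx) T.uA hxA⟩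
      have := mul_mem (inv_mem huB) (hSB _ hux)
      rwa [inv_mul_cancel_left] at this
  have h24 := card_dvd_of_le hNH
  rw [hNcard] at h24
  obtain ⟨k, hk⟩ := h24
  have h315 := card_le X.h X.h7 hHtop
  have hd2520 : Nat.card H ∣ 2520 := X.h ▸ card_subgroup_dvd_card H
  rw [hk] at h315 hd2520
  have hk105 : k ∈ Nat.divisors 105 := Nat.mem_divisors.2
    ⟨Nat.dvd_of_mul_dvd_mul_left (by norm_num : 0 < 24) (by norm_num; exact hd2520), by norm_num⟩
  rw [show Nat.divisors 105 = ({1, 3, 5, 7, 15, 21, 35, 105} : Finset ℕ) by decide +kernel] at hk105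
  simp only [Finset.mem_insert, Finset.mem_singleton] at hk105
  rcases hk105 with rfl | rfl | rfl | rfl | hk' | hk' | hk' | hk'
  · -- order 24
    have heq := eq_of_le_of_card_ge hNH (by rw [hk, hNcard])
    rcases htconj β (heq.ge hβH) with h | h | h
    · exact ht1 (hfree β hβM.2 hβ t htS (mul_inv_eq_iff_eq_mul.1 h))
    · exact T.uA (h ▸ (hconjS t htS).2)
    · exact htuA (h ▸ (hconjS t htS).2)
  · -- order 72
    obtain ⟨P⟩ : Nonempty (Sylow 3 H) := inferInstance
    have hH72 : Nat.card H = 72 := by rw [hk]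
    have hPc : Nat.card (P : Subgroup H) = 3 ^ 2 :=
      card_sylow_of_exact P (by rw [hH72]; norm_num) (by rw [hH72]; norm_num)
    have hn3 : Nat.card (Sylow 3 H) ∣ 8 := by
      have h1 := (P : Subgroup H).card_mul_index
      rw [hPc, hH72] at h1
      rw [show (8 : ℕ) = (P : Subgroup H).index by omega]
      exact Sylow.card_dvd_index P
    have hn1 : Nat.card (Sylow 3 H) % 3 = 1 := card_sylow_modEq_one 3 H
    have hne1 : Nat.card (Sylow 3 H) ≠ 1 := by
      intro h1
      haveI : Subsingleton (Sylow 3 H) := (Nat.card_eq_one_iff_unique.1 h1).1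
      haveI : (P : Subgroup H).Normal := Sylow.normal_of_subsingleton P
      obtain ⟨PG, hPG⟩ := (IsPGroup.of_card (n := 2) (by
        rw [card_map_of_injective H.subtype_injective, hPc]) :
          IsPGroup 3 ((P : Subgroup H).map H.subtype)).exists_le_sylow
      have hPGe := eq_of_le_of_card_ge hPG (by
        rw [card_map_of_injective H.subtype_injective, hPc,
          card_sylow_of_exact PG (show 3 ^ 2 ∣ Nat.card G by rw [X.h]; norm_num)
            (by rw [X.h]; norm_num)])
      refine card_normalizer_three X.h X.h7 PG ?_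
      rw [← hH72]
      refine card_dvd_of_le ?_
      rw [← hPGe]
      intro c hc
      rw [mem_normalizer_iff_map_conj_eq]
      refine eq_of_le_of_card_ge ?_
        (le_of_eq (Nat.card_congr (equivMapOfInjective _ _ (MulEquiv.injective (MulAut.conj c))).toEquiv))
      rintro _ ⟨a, ⟨a', ha', rfl⟩, rfl⟩
      exact ⟨⟨c, hc⟩ * a' * (⟨c, hc⟩ : H)⁻¹, Subgroup.Normal.conj_mem inferInstance a' ha' _, rfl⟩
    have hn4 : Nat.card (Sylow 3 H) = 4 := by
      obtain ⟨i, hi, hn⟩ := (Nat.dvd_prime_pow Nat.prime_two).1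
        (show Nat.card (Sylow 3 H) ∣ 2 ^ 3 from hn3)
      rw [hn] at hn1 hne1 ⊢
      interval_cases i <;> norm_num at *
    let φ := MulAction.toPermHom H (Sylow 3 H)
    have h3ker : 3 ∣ Nat.card φ.ker := by
      have h1 := φ.ker.card_mul_index
      rw [hH72, index_ker] at h1
      have h2 := card_subgroup_dvd_card φ.range
      rw [Nat.card_perm, hn4] at h2
      by_contra h3
      have h4 : Nat.card φ.ker ∣ 8 := ((Nat.Coprime.pow_left 2 ((Nat.prime_three.coprime_iff_not_dvd).2 h3)).symm).dvd_of_dvd_mul_left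
        ⟨Nat.card φ.range, by rw [h1]⟩
      have h5 : 9 ∣ Nat.card φ.range :=
        (Nat.Coprime.coprime_dvd_right h4 (by norm_num : Nat.Coprime 9 8)).dvd_of_dvd_mul_left
          ⟨8, by rw [h1]⟩
      exact absurd (h5.trans h2) (by decide)
    obtain ⟨g', hg'⟩ := exists_prime_orderOf_dvd_card' (G := φ.ker) 3 h3ker
    set g : H := (g' : H) with hgdef
    have hg : orderOf g = 3 := by rw [hgdef, orderOf_coe, hg']
    have hall : ∀ x : H, x ∈ φ.ker → orderOf x = 3 → ∀ Q : Sylow 3 H, x ∈ (Q : Subgroup H) := by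
      intro x hx hxo Q
      have h1 : zpowers x ≤ normalizer ((Q : Subgroup H) : Set H) := zpowers_le.2
        (Sylow.smul_eq_iff_mem_normalizer.1 (Equiv.Perm.ext_iff.1 (φ.mem_ker.1 hx) Q))
      have hp : IsPGroup 3 (zpowers x) :=
        IsPGroup.of_card (n := 1) (by rw [Nat.card_zpowers, hxo, pow_one])
      exact (mem_inf.1 (le_of_eq (hp.inf_normalizer_sylow Q)
        (mem_inf.2 ⟨mem_zpowers x, h1 (mem_zpowers x)⟩))).2
    have hnorm : ∀ l : H, l * g * l⁻¹ ∈ zpowers g := by
      intro l
      obtain ⟨Q, hQ⟩ : ∃ Q : Sylow 3 H, Q ≠ P := by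
        by_contra hno
        push_neg at hno
        haveI : Subsingleton (Sylow 3 H) := ⟨fun a b => (hno a).trans (hno b).symm⟩
        exact hne1 (Nat.card_eq_one_iff_unique.2 ⟨inferInstance, ⟨P⟩⟩)
      set I := (P : Subgroup H) ⊓ (Q : Subgroup H)
      have hgI : zpowers g ≤ I := zpowers_le.2 ⟨hall g g'.2 hg P, hall g g'.2 hg Q⟩
      have hd9 : Nat.card I ∣ 3 ^ 2 := hPc ▸ card_dvd_of_le inf_le_left
      obtain ⟨i, hi, hIc⟩ := (Nat.dvd_prime_pow Nat.prime_three).1 hd9
      have hIe : zpowers g = I := by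
        refine eq_of_le_of_card_ge hgI ?_
        rw [hIc, Nat.card_zpowers, hg]
        interval_cases i
        · norm_num
        · norm_num
        · exfalso
          have e1 := eq_of_le_of_card_ge (inf_le_left : I ≤ (P : Subgroup H)) (by rw [hIc, hPc])
          have hQc : Nat.card (Q : Subgroup H) = 3 ^ 2 :=
            card_sylow_of_exact Q (by rw [hH72]; norm_num) (by rw [hH72]; norm_num)
          have e2 := eq_of_le_of_card_ge (inf_le_right : I ≤ (Q : Subgroup H)) (by rw [hIc, hQc])
          exact hQ (Sylow.ext (e2.symm.trans e1))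
      rw [hIe]
      have hlk : l * g * l⁻¹ ∈ φ.ker := (inferInstance : φ.ker.Normal).conj_mem _ g'.2 l
      have hlo : orderOf (l * g * l⁻¹) = 3 := by
        rw [show l * g * l⁻¹ = MulAut.conj l g from rfl, MulEquiv.orderOf_eq]; exact hg
      exact ⟨hall _ hlk hlo P, hall _ hlk hlo Q⟩
    have hgG : orderOf (g : G) = 3 := by rw [orderOf_coe, hg]
    have hpm : ∀ l ∈ H, l * (g : G) * l⁻¹ = g ∨ l * (g : G) * l⁻¹ = (g : G)⁻¹ := by
      intro l hl
      obtain ⟨i, hi⟩ := mem_zpowers_iff.1 (hnorm ⟨l, hl⟩)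
      have hmem : l * (g : G) * l⁻¹ ∈ zpowers (g : G) :=
        mem_zpowers_iff.2 ⟨i, by simpa using congrArg Subtype.val hi⟩
      refine (mem_zpowers_three hgG hmem).resolve_left fun e' => ?_
      rw [conj_eq_one_iff] at e'
      rw [e', orderOf_one] at hgG
      norm_num at hgG
    set B := centralizer ({(g : G)} : Set G) with hB
    have hBmem : ∀ a, a ∈ B ↔ a * (g : G) * a⁻¹ = g := fun a => by
      rw [hB, mem_centralizer_singleton_iff, mul_inv_eq_iff_eq_mul]
    have hP₀B : (P₀ : Subgroup G) ≤ B := by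
      refine hclose B (fun a ha => ?_) (fun l hl a ha => ?_)
      · rw [hBmem, show a * a * (g : G) * (a * a)⁻¹ = a * (a * g * a⁻¹) * a⁻¹ by group]
        rcases hpm a ha with h | h <;> rw [h]
        · exact h
        · rw [← conj_inv, h, inv_inv]
      · have hag : Commute a (g : G) := mem_centralizer_singleton_iff.1 ha
        have hl' := hpm _ (inv_mem hl)
        rw [inv_inv] at hl'
        have hal : Commute a (l⁻¹ * (g : G) * l) := by
          rcases hl' with h | h <;> rw [h]
          · exact hag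
          · exact hag.inv_right
        have h2 : Commute (l * a * l⁻¹) (l * (l⁻¹ * (g : G) * l) * l⁻¹) :=
          SemiconjBy.conj_iff.2 hal
        rw [show l * (l⁻¹ * (g : G) * l) * l⁻¹ = (g : G) by group] at h2
        exact mem_centralizer_singleton_iff.2 h2.eq
    exact X.no_sylow_centralizes T hgG P₀ hP₀B
  · -- order 120
    obtain ⟨AH, hAH⟩ := X.half H (by rw [hk])
    have h := card_dvd_of_le (hclose AH hAH.sq hAH.conj)
    rw [X.card_sylow_two, hAH.card] at h
    norm_num at h
  · -- order 168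
    obtain ⟨g, hg⟩ := exists_prime_orderOf_dvd_card' (G := H) 7 (by rw [hk]; norm_num)
    have hgo : orderOf (g : G) = 7 := by rw [orderOf_coe, hg]
    have hwg : w ∈ fixSp X.R.ρ (zpowers (g : G)) :=
      mem_fixSp.2 fun a ha => (zpowers_le.2 g.2 : zpowers (g : G) ≤ H) ha
    rw [X.fix_seven hgo, Submodule.mem_bot] at hwg
    exact hw0 hwg
  all_goals omega


omit X in
theorem exists_index_seven (h : Nat.card G = 2520) :
    ∃ H : Subgroup G, H.index = 7 := by
  by_contra hno
  push_neg at hno
  obtain ⟨R⟩ := exists_rep h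
  exact Ctx.inconsistent ⟨h, hno, R⟩

end CfsgLib.ClassK.Simple2520
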