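import Cfsg.Agent.Lib.ClassK.FourPrimesOne
import Cfsg.Agent.Lib.Coprime.Hall
import Cfsg.Agent.Lib.Recog.ThreePrimes
import Cfsg.Agent.Lib.PLength.ExponentTwo
import Cfsg.Agent.Lib.PLength.DerivedBound
import Cfsg.Agent.Lib.StructC.BurnsideBasis

/-!
Four primes pairwise but not triply joined in the prime graph force non-solvability.
-/

set_option autoImplicit false
set_option linter.unusedSectionVars false

namespace CfsgLib.ClassK.FourPrimes

open Subgroup

universe u

variable {G : Type u} [Group G] [Finite G]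

theorem exists_triple {a b c : G} {p q r : ℕ} (ha : orderOf a = p) (hb : orderOf b = q)
    (hc : orderOf c = r) (hp : p.Prime) (hq : q.Prime) (hr : r.Prime) (hpq : p ≠ q) (hpr : p ≠ r)
    (hqr : q ≠ r) (hab : Commute a b) (hac : Commute a c) (hbc : Commute b c) :
    ∃ g : G, orderOf g = p * q * r := by
  refine ⟨a * b * c, ?_⟩
  have h1 : orderOf (a * b) = p * q := by
    rw [hab.orderOf_mul_eq_mul_orderOf_of_coprime, ha, hb]
    rw [ha, hb]
    exact (Nat.coprime_primes hp hq).2 hpq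
  rw [(hac.mul_left hbc).orderOf_mul_eq_mul_orderOf_of_coprime, h1, hc]
  rw [h1, hc]
  exact Nat.Coprime.mul_left ((Nat.coprime_primes hp hr).2 hpr) ((Nat.coprime_primes hq hr).2 hqr)

/-- The configuration to be excluded. -/
structure Config (G : Type u) [Group G] [Finite G] (τ : Finset ℕ) : Prop where
  card : τ.card = 4
  prime : ∀ t ∈ τ, t.Prime
  solv : Group.IsSolvable G
  dvd : ∀ t : ℕ, t.Prime → t ∣ Nat.card G → t ∈ τ
  edge : ∀ a ∈ τ, ∀ b ∈ τ, a ≠ b → ∃ g : G, orderOf g = a * b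
  no : NoTriple G τ

namespace Config

variable {τ : Finset ℕ}

theorem exists_other (h : Config G τ) {r : ℕ} (hr : r ∈ τ) : ∃ a ∈ τ, a ≠ r := by
  have : 1 < τ.card := by rw [h.card]; norm_num
  exact Finset.exists_mem_ne this r

theorem exists_el2 (h : Config G τ) {r : ℕ} (hr : r ∈ τ) : ∃ E : Subgroup G, El2 r E := by
  classical
  haveI := Fact.mk (h.prime r hr)
  haveI := h.solv
  obtain ⟨R⟩ := (inferInstance : Nonempty (Sylow r G))
  rcases el2_or_unique R.isPGroup' with ⟨E, -, hE⟩ | huniq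
  · exact ⟨E, hE⟩
  exfalso
  have hintoR : ∀ x : G, orderOf x = r → ∃ c : G, c * x * c⁻¹ ∈ (R : Subgroup G) := by
    intro x hx
    obtain ⟨S, hS⟩ := IsPGroup.exists_le_sylow (p := r) (isPGroup_zpowers hx)
    obtain ⟨c, hc⟩ := MulAction.exists_smul_eq G S R
    refine ⟨c, ?_⟩
    rw [← hc]
    exact ⟨x, hS (mem_zpowers x), rfl⟩
  obtain ⟨a₀, ha₀, ha₀r⟩ := h.exists_other hr
  obtain ⟨g₀, hg₀⟩ := h.edge r hr a₀ ha₀ ha₀r.symm
  have hz₀ : orderOf (g₀ ^ a₀) = r := by
    rw [orderOf_pow, hg₀, Nat.gcd_mul_left_left, Nat.mul_div_cancel _ (h.prime a₀ ha₀).pos]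
  obtain ⟨c₀, hc₀⟩ := hintoR _ hz₀
  set z := c₀ * g₀ ^ a₀ * c₀⁻¹ with hzdef
  have hz : orderOf z = r := by
    rw [hzdef, show c₀ * g₀ ^ a₀ * c₀⁻¹ = MulAut.conj c₀ (g₀ ^ a₀) from rfl, MulEquiv.orderOf_eq, hz₀]
  set C := centralizer ({z} : Set G) with hC
  have hdiv : ∀ a ∈ τ, a ≠ r → a ∣ Nat.card C := by
    intro a ha har
    obtain ⟨g, hg⟩ := h.edge r hr a ha har.symm
    have hx : orderOf (g ^ a) = r := by
      rw [orderOf_pow, hg, Nat.gcd_mul_left_left, Nat.mul_div_cancel _ (h.prime a ha).pos]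
    have hy : orderOf (g ^ r) = a := by
      rw [orderOf_pow, hg, Nat.gcd_mul_right_left, Nat.mul_div_cancel_left _ (h.prime r hr).pos]
    obtain ⟨c, hc⟩ := hintoR _ hx
    have hcx : orderOf (MulAut.conj c (g ^ a)) = r := by rw [MulEquiv.orderOf_eq, hx]
    have hcomm : Commute (MulAut.conj c (g ^ r)) (MulAut.conj c (g ^ a)) :=
      ((Commute.refl g).pow_pow r a).map (MulAut.conj c).toMonoidHom
    have hzc : Commute (MulAut.conj c (g ^ r)) z :=
      commute_of_mem_zpowers hcomm (huniq _ hc z hc₀ hcx hz)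
    have hmem : MulAut.conj c (g ^ r) ∈ C := Subgroup.mem_centralizer_singleton_iff.2 hzc.eq
    have := orderOf_dvd_natCard (⟨_, hmem⟩ : C)
    rwa [Subgroup.orderOf_mk, MulEquiv.orderOf_eq, hy] at this
  obtain ⟨a, b, c, hab, hac, hbc, he⟩ := Finset.card_eq_three.1
    (show (τ.erase r).card = 3 by rw [Finset.card_erase_of_mem hr, h.card])
  have hmem : ∀ t ∈ ({a, b, c} : Finset ℕ), t ∈ τ ∧ t ≠ r := fun t ht => by
    rw [← he, Finset.mem_erase] at ht
    exact ⟨ht.2, ht.1⟩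
  obtain ⟨ha, har⟩ := hmem a (by simp)
  obtain ⟨hb, hbr⟩ := hmem b (by simp)
  obtain ⟨hc', hcr⟩ := hmem c (by simp)
  have hsolC : Group.IsSolvable (⊤ : Subgroup ↥C) :=
    Group.isSolvable_of_isSolvable_injective (f := C.subtype.comp (⊤ : Subgroup ↥C).subtype)
      (C.subtype_injective.comp (⊤ : Subgroup ↥C).subtype_injective)
  have finish : ∀ {x y : ℕ}, x ∈ τ → y ∈ τ → x ≠ r → y ≠ r → x ≠ y →
      (∃ w : C, orderOf w = x * y) → False := by
    rintro x y hx hy hxr hyr hxy ⟨w, hw⟩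
    have hw' : orderOf (w : G) = x * y := by rw [Subgroup.orderOf_coe, hw]
    have hwz : Commute (w : G) z := Subgroup.mem_centralizer_singleton_iff.1 w.2
    have h1 : orderOf ((w : G) ^ y) = x := by
      rw [orderOf_pow, hw', Nat.gcd_mul_left_left, Nat.mul_div_cancel _ (h.prime y hy).pos]
    have h2 : orderOf ((w : G) ^ x) = y := by
      rw [orderOf_pow, hw', Nat.gcd_mul_right_left, Nat.mul_div_cancel_left _ (h.prime x hx).pos]
    exact h.no ((w : G) ^ y) ((w : G) ^ x) z (h1 ▸ hx) (h2 ▸ hy) (hz ▸ hr)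
      (by rw [h1, h2]; exact hxy) (by rw [h1, hz]; exact hxr) (by rw [h2, hz]; exact hyr)
      ((Commute.refl _).pow_pow y x) (hwz.pow_left y) (hwz.pow_left x)
  rcases Recog.solvable_edge (G := ↥C) ⊤ hsolC (h.prime a ha) (h.prime b hb) (h.prime c hc') hab hac
    hbc (by rw [Subgroup.card_top]; exact hdiv a ha har) (by rw [Subgroup.card_top]; exact hdiv b hb hbr)
    (hdiv c hc' hcr) with e | e | e
  · exact finish ha hb har hbr hab e
  · exact finish ha hc' har hcr hac e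
  · exact finish hb hc' hbr hcr hbc e

/-- A normal elementary abelian subgroup inside a non-trivial core. -/
theorem exists_elementary (h : Config G τ) {p : ℕ} [hp : Fact p.Prime]
    (hne : Cfsg.pCore p G ≠ ⊥) :
    ∃ V : Subgroup G, V.Normal ∧ V ≤ Cfsg.pCore p G ∧ V ≠ ⊥ ∧ (∀ v ∈ V, v ^ p = 1) ∧
      ∀ a ∈ V, ∀ b ∈ V, Commute a b := by
  haveI := h.solv
  obtain ⟨M, hMn, hM1, hMle, hMmin⟩ :=
    Solvable.exists_minimal_normal_le (Solvable.pCore_normal p G) hne
  obtain ⟨t, ht, hMp, hexp, hab⟩ := Solvable.exists_isPGroup_of_minimal_normal hM1 hMmin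
  refine ⟨M, hMn, hMle, hM1, ?_, fun a ha b hb =>
    congrArg Subtype.val (hab.is_comm.comm ⟨a, ha⟩ ⟨b, hb⟩)⟩
  obtain ⟨⟨x, hx⟩, hx1⟩ := Subgroup.ne_bot_iff_exists_ne_one.1 hM1
  have h1 : orderOf x ∣ t := orderOf_dvd_of_pow_eq_one (hexp x hx)
  obtain ⟨j, hj⟩ := IsPGroup.iff_orderOf.1 (Solvable.pCore_isPGroup (G := G) p) ⟨x, hMle hx⟩
  rw [Subgroup.orderOf_mk] at hj
  have hxt : orderOf x = t := ((Nat.dvd_prime ht).1 h1).resolve_left fun e =>
    hx1 (Subtype.ext (orderOf_eq_one_iff.1 e))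
  have : t = p := (Nat.prime_dvd_prime_iff_eq ht hp.out).1
    (ht.dvd_of_dvd_pow (n := j) ⟨1, by rw [mul_one, ← hj, hxt]⟩)
  exact this ▸ hexp

theorem exists_hall (h : Config G τ) (π : Finset ℕ) (hπ : π ⊆ τ) :
    ∃ H : Subgroup G, (∀ t : ℕ, t.Prime → t ∣ Nat.card H → t ∈ π) ∧
      (∀ K : Subgroup G, (∀ t : ℕ, t.Prime → t ∣ Nat.card K → t ∈ π) →
        ∃ c : G, ∀ x ∈ K, c * x * c⁻¹ ∈ H) := by
  haveI := h.solv
  obtain ⟨m, l, hml, hcop, hm, hl⟩ :=
    Coprime.exists_pi_split (π : Set ℕ) (Nat.card_pos (α := G)).ne'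
  obtain ⟨H, hH⟩ := Solvable.exists_hall hml hcop
  refine ⟨H, fun t ht hd => hm t ht (hH ▸ hd), fun K hK => ?_⟩
  obtain ⟨c, hc⟩ := Solvable.exists_conj_le_hall hml hcop hH (K := K)
    (Nat.coprime_of_dvd fun t ht h1 h2 => hl t ht (hK t ht h1) h2)
  exact ⟨c, fun x hx => hc (Subgroup.smul_mem_pointwise_smul x (MulAut.conj c) _ hx)⟩

theorem el2_in_hall (h : Config G τ) {π : Finset ℕ} {H : Subgroup G}
    (hH : ∀ K : Subgroup G, (∀ t : ℕ, t.Prime → t ∣ Nat.card K → t ∈ π) →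
        ∃ c : G, ∀ x ∈ K, c * x * c⁻¹ ∈ H)
    {r : ℕ} (hr : r ∈ π) (hrτ : r ∈ τ) : ∃ E : Subgroup G, E ≤ H ∧ El2 r E := by
  obtain ⟨E, hE⟩ := h.exists_el2 hrτ
  obtain ⟨c, hc⟩ := hH E fun t ht hd => by
    rw [hE.card] at hd
    rwa [(Nat.prime_dvd_prime_iff_eq ht (h.prime r hrτ)).1 (ht.dvd_of_dvd_pow hd)]
  refine ⟨E.map (MulAut.conj c).toMonoidHom, ?_, hE.map _ fun e _ he =>
    (MulAut.conj c).injective (by rw [map_one]; exact he)⟩
  rintro _ ⟨x, hx, rfl⟩
  exact hc x hx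

set_option maxHeartbeats 1600000 in
theorem false (h : Config G τ) : False := by
  classical
  haveI := h.solv
  have : Nontrivial G := by
    obtain ⟨a, ha⟩ := Finset.card_pos.1 (by rw [h.card]; norm_num : 0 < τ.card)
    obtain ⟨b, hb, hba⟩ := h.exists_other ha
    obtain ⟨g, hg⟩ := h.edge b hb a ha hba
    refine ⟨g, 1, fun e => ?_⟩
    rw [e, orderOf_one] at hg
    exact (h.prime b hb).ne_one (Nat.eq_one_of_mul_eq_one_right hg.symm)
  set T := τ.filter fun t => Cfsg.pCore t G ≠ ⊥ with hT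
  have hout : ∀ t : ℕ, t.Prime → t ∉ T → Cfsg.pCore t G = ⊥ := by
    intro t ht htT
    by_contra hne
    by_cases htτ : t ∈ τ
    · exact htT (Finset.mem_filter.2 ⟨htτ, hne⟩)
    · haveI := Fact.mk ht
      obtain ⟨n, hn⟩ := IsPGroup.iff_card.1 (Solvable.pCore_isPGroup (G := G) t)
      rcases n with _ | n
      · exact hne (Subgroup.card_eq_one.1 (by simpa using hn))
      · exact htτ (h.dvd t ht ((hn ▸ dvd_pow_self t (Nat.succ_ne_zero n)).trans
          (Subgroup.card_subgroup_dvd_card _)))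
  have hTne : T.Nonempty := by
    by_contra hcon
    rw [Finset.not_nonempty_iff_eq_empty] at hcon
    refine Solvable.fittingSubgroup_ne_bot (G := G) ?_
    rw [Solvable.fittingSubgroup_eq_iSup_pCore]
    exact iSup_eq_bot.2 fun t => hout t t.2 (by rw [hcon]; simp)
  have hTτ : ∀ {t : ℕ}, t ∈ T → t ∈ τ := fun ht => (Finset.mem_filter.1 ht).1
  obtain ⟨p, hpT⟩ := hTne
  have hpτ := hTτ hpT
  have hp := h.prime p hpτ
  haveI := Fact.mk hp
  obtain ⟨a, b, c, hab, hac, hbc, he⟩ := Finset.card_eq_three.1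
    (show (τ.erase p).card = 3 by rw [Finset.card_erase_of_mem hpτ, h.card])
  by_cases h2 : ∃ q ∈ T, q ≠ p
  · -- two primes in the Fitting subgroup
    obtain ⟨q, hqT, hqp⟩ := h2
    have hqτ := hTτ hqT
    have hq := h.prime q hqτ
    haveI := Fact.mk hq
    obtain ⟨r, s, hrs, he2⟩ := Finset.card_eq_two.1 (show ((τ.erase p).erase q).card = 2 by
      rw [Finset.card_erase_of_mem (Finset.mem_erase.2 ⟨hqp, hqτ⟩), Finset.card_erase_of_mem hpτ,
        h.card])
    have hmem : ∀ t ∈ ({r, s} : Finset ℕ), t ∈ τ ∧ t ≠ p ∧ t ≠ q := fun t ht => by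
      rw [← he2] at ht
      simp only [Finset.mem_erase] at ht
      exact ⟨ht.2.2, ht.2.1, ht.1⟩
    obtain ⟨hrτ, hrp, hrq⟩ := hmem r (by simp)
    obtain ⟨hsτ, hsp, hsq⟩ := hmem s (by simp)
    obtain ⟨V, hVn, hVle, hV1, hVp, hVc⟩ := h.exists_elementary (Finset.mem_filter.1 hpT).2
    obtain ⟨W, hWn, hWle, hW1, hWp, hWc⟩ := h.exists_elementary (Finset.mem_filter.1 hqT).2
    obtain ⟨L, hL, hLK⟩ := h.exists_hall {r, s} (fun t ht => (hmem t ht).1)
    refine Two.false (σ := τ) (p := p) (q := q) (r := r) (s := s) (L := L) (V := V) (W := W)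
      ⟨h.no, hp, hq, h.prime r hrτ, h.prime s hsτ, hpτ, hqτ, hrτ, hsτ, hqp.symm, hrp.symm, hsp.symm,
        hrq.symm, hsq.symm, hrs, Group.isSolvable_of_isSolvable_injective L.subtype_injective,
        fun t ht hd => by simpa using hL t ht hd, hV1, hW1, hVp, hWp, hVc, hWc, ?_,
        fun x _ => by rw [Subgroup.normalizer_eq_top]; trivial,
        fun x _ => by rw [Subgroup.normalizer_eq_top]; trivial,
        h.el2_in_hall hLK (by simp) hrτ, h.el2_in_hall hLK (by simp) hsτ⟩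
    intro v hv w hw
    exact Subgroup.commute_of_normal_of_disjoint _ _ hVn hWn
      ((IsPGroup.disjoint_of_ne p q hqp.symm _ _ (Solvable.pCore_isPGroup (G := G) p)
        (Solvable.pCore_isPGroup (G := G) q)).mono hVle hWle) v w hv hw
  · -- one prime in the Fitting subgroup
    push Not at h2
    set P := Cfsg.pCore p G with hP
    have hPn : P.Normal := Solvable.pCore_normal p G
    have hPp : IsPGroup p P := Solvable.pCore_isPGroup p
    have hP1 : P ≠ ⊥ := (Finset.mem_filter.1 hpT).2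
    have hO : Cfsg.pPrimeCore p G = ⊥ := by
      by_contra hne
      obtain ⟨M, hMn, hM1, hMle, hMmin⟩ :=
        Solvable.exists_minimal_normal_le (Solvable.pPrimeCore_normal p G) hne
      obtain ⟨t, ht, hMp, hexp, -⟩ := Solvable.exists_isPGroup_of_minimal_normal hM1 hMmin
      have h1 : M ≤ Cfsg.pCore t G := Solvable.le_pCore hMn hMp
      by_cases htp : t = p
      · subst htp
        obtain ⟨n, hn⟩ := IsPGroup.iff_card.1 hMp
        have hcop := (Solvable.pPrimeCore_coprime (G := G) t).coprime_dvd_left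
          (Subgroup.card_dvd_of_le hMle)
        rw [hn] at hcop
        rcases n with _ | n
        · exact hM1 (Subgroup.card_eq_one.1 (by simpa using hn))
        · exact ht.ne_one ((Nat.coprime_self t).1 (hcop.coprime_dvd_left (dvd_pow_self t (Nat.succ_ne_zero n))))
      · rw [hout t ht (fun hT' => htp (h2 t hT'))] at h1
        exact hM1 (le_bot_iff.1 h1)
    set Φ := (frattini P).map P.subtype with hΦ
    have hΦn : Φ.Normal := by
      have : (frattini P).Characteristic := frattini_characteristic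
      rw [hΦ]
      infer_instance
    have hΦP : Φ ≤ P := Subgroup.map_subtype_le _
    let f : G →* G ⧸ Φ := QuotientGroup.mk' Φ
    have hker : ∀ {x : G}, f x = 1 ↔ x ∈ Φ := fun {x} => QuotientGroup.eq_one_iff x
    obtain ⟨H, hH, hHK⟩ := h.exists_hall (τ.erase p) (Finset.erase_subset _ _)
    have hfH : ∀ x ∈ H, f x = 1 → x = 1 := by
      intro x hx hx1
      by_contra hne
      obtain ⟨k, hk, -⟩ := exists_orderOf_pow hPp (hΦP (hker.1 hx1)) hne
      have hd := orderOf_dvd_natCard (⟨x ^ k, pow_mem hx k⟩ : H)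
      rw [Subgroup.orderOf_mk, hk] at hd
      exact Finset.notMem_erase p τ (hH p hp hd)
    have hord : ∀ x ∈ H, orderOf (f x) = orderOf x := fun x hx => by
      refine Nat.dvd_antisymm (orderOf_map_dvd f x) (orderOf_dvd_of_pow_eq_one ?_)
      exact hfH _ (pow_mem hx _) (by rw [map_pow, pow_orderOf_eq_one])
    have hno : NoTriple (G ⧸ Φ) τ := by
      intro x y z hx hy hz hxy hxz hyz cxy cxz cyz
      obtain ⟨d, hd⟩ := exists_triple rfl rfl rfl (h.prime _ hx) (h.prime _ hy) (h.prime _ hz)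
        hxy hxz hyz cxy cxz cyz
      obtain ⟨g, hg⟩ := QuotientGroup.mk'_surjective Φ d
      have hdvd : orderOf x * orderOf y * orderOf z ∣ orderOf g := by
        rw [← hd, ← hg]
        exact orderOf_map_dvd _ g
      set e := g ^ (orderOf g / (orderOf x * orderOf y * orderOf z)) with he
      have heo : orderOf e = orderOf x * orderOf y * orderOf z :=
        orderOf_pow_orderOf_div (orderOf_pos g).ne' hdvd
      have hpow : ∀ A B : ℕ, orderOf e = A * B → orderOf (e ^ B) = A := fun A B hAB => by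
        rw [orderOf_pow, hAB, Nat.gcd_mul_left_left, Nat.mul_div_cancel _
          (Nat.pos_of_ne_zero fun hB => by simp [hB, (orderOf_pos e).ne'] at hAB)]
      have h1 := hpow (orderOf x) (orderOf y * orderOf z) (by rw [heo]; ring)
      have h2 := hpow (orderOf y) (orderOf x * orderOf z) (by rw [heo]; ring)
      have h3 := hpow (orderOf z) (orderOf x * orderOf y) (by rw [heo]; ring)
      exact h.no _ _ _ (h1.symm ▸ hx) (h2.symm ▸ hy) (h3.symm ▸ hz) (by rw [h1, h2]; exact hxy)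
        (by rw [h1, h3]; exact hxz) (by rw [h2, h3]; exact hyz) ((Commute.refl e).pow_pow _ _)
        ((Commute.refl e).pow_pow _ _) ((Commute.refl e).pow_pow _ _)
    have hmem : ∀ t ∈ ({a, b, c} : Finset ℕ), t ∈ τ ∧ t ≠ p := fun t ht => by
      rw [← he, Finset.mem_erase] at ht
      exact ⟨ht.2, ht.1⟩
    obtain ⟨ha, hap⟩ := hmem a (by simp)
    obtain ⟨hb, hbp⟩ := hmem b (by simp)
    obtain ⟨hc, hcp⟩ := hmem c (by simp)
    have hedge : ∀ x ∈ τ, x ≠ p → ∀ y ∈ τ, y ≠ p → x ≠ y →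
        ∃ g ∈ H.map f, orderOf g = x * y := by
      intro x hx hxp y hy hyp hxy
      obtain ⟨g, hg⟩ := h.edge x hx y hy hxy
      obtain ⟨d, hd⟩ := hHK (zpowers g) fun t ht htd => by
        rw [Nat.card_zpowers, hg] at htd
        rcases ht.dvd_mul.1 htd with e | e
        · rw [(Nat.prime_dvd_prime_iff_eq ht (h.prime x hx)).1 e]
          exact Finset.mem_erase.2 ⟨hxp, hx⟩
        · rw [(Nat.prime_dvd_prime_iff_eq ht (h.prime y hy)).1 e]
          exact Finset.mem_erase.2 ⟨hyp, hy⟩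
      have hgH := hd g (mem_zpowers g)
      refine ⟨f (d * g * d⁻¹), Subgroup.mem_map_of_mem f hgH, ?_⟩
      rw [hord _ hgH, show d * g * d⁻¹ = MulAut.conj d g from rfl, MulEquiv.orderOf_eq, hg]
    have hEl : ∀ x ∈ τ, x ≠ p → ∃ E : Subgroup (G ⧸ Φ), E ≤ H.map f ∧ El2 x E := by
      intro x hx hxp
      obtain ⟨E, hEH, hE⟩ := h.el2_in_hall hHK (Finset.mem_erase.2 ⟨hxp, hx⟩) hx
      exact ⟨E.map f, Subgroup.map_mono hEH, hE.map f fun e he => hfH e (hEH he)⟩
    have hVn : (P.map f).Normal := hPn.map f (QuotientGroup.mk'_surjective Φ)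
    have hfrat : ∀ x : P, (x : G) ∈ Φ ↔ x ∈ frattini P := fun x => by
      refine ⟨?_, fun hx => ⟨x, hx, rfl⟩⟩
      rintro ⟨y, hy, e⟩
      exact (Subtype.ext e : y = x) ▸ hy
    refine One.false (σ := τ) (p := p) (q := a) (r := b) (s := c) (H := H.map f) (V := P.map f)
      ⟨hno, hp, h.prime a ha, h.prime b hb, h.prime c hc, hpτ, ha, hb, hc, hap.symm, hbp.symm,
        hcp.symm, hab, hac, hbc, ?_, ?_, ?_, ?_, ?_, fun x _ => by
          rw [Subgroup.normalizer_eq_top]; trivial, ?_, hedge a ha hap b hb hbp hab,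
        hedge a ha hap c hc hcp hac, hedge b hb hbp c hc hcp hbc, hEl a ha hap, hEl b hb hbp,
        hEl c hc hcp⟩
    · have hHs : Group.IsSolvable ↥H :=
        Group.isSolvable_of_isSolvable_injective (f := H.subtype) H.subtype_injective
      have hsur : Function.Surjective (f.subgroupMap H) := f.subgroupMap_surjective H
      exact @Group.isSolvable_of_surjective ↥H ↥(H.map f) _ _ (f.subgroupMap H) hsur hHs
    · intro t ht hd
      have := hH t ht (hd.trans (Subgroup.card_map_dvd (H := H) f))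
      rw [he] at this
      simpa using this
    · intro hbot
      rw [Subgroup.map_eq_bot_iff] at hbot
      have : Nontrivial P := (Subgroup.nontrivial_iff_ne_bot P).2 hP1
      have htop : frattini P = ⊤ := eq_top_iff.2 fun x _ => (hfrat x).1 (hker.1 (hbot x.2))
      have hsup := frattini_nongenerating (G := P) (K := (⊥ : Subgroup P)) (by rw [htop, sup_top_eq])
      exact bot_ne_top hsup
    · rintro _ ⟨x, hx, rfl⟩
      rw [← map_pow]
      refine hker.2 ?_
      have := (hfrat (⟨x, hx⟩ ^ p)).2 (StructC.pow_mem_frattini hPp ⟨x, hx⟩)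
      simpa using this
    · rintro _ ⟨x, hx, rfl⟩ _ ⟨y, hy, rfl⟩
      have h1 : f (x⁻¹ * y⁻¹ * x * y) = 1 := hker.2 (by
        have := (hfrat _).2 (StructC.comm_mem_frattini hPp ⟨x, hx⟩ ⟨y, hy⟩)
        simpa using this)
      simp only [map_mul, map_inv] at h1
      show f x * f y = f y * f x
      calc f x * f y = f y * f x * ((f x)⁻¹ * (f y)⁻¹ * f x * f y) := by group
        _ = f y * f x := by rw [h1, mul_one]
    · rintro _ ⟨x, hx, rfl⟩ hcomm
      let K : Subgroup G :=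
        { carrier := {k | ∀ u ∈ P, k * u * k⁻¹ * u⁻¹ ∈ Φ}
          one_mem' := fun u _ => by simp
          mul_mem' := fun {k l} hk hl u hu => by
            have h1 := hk _ (hPn.conj_mem u hu l)
            have h2 := hl u hu
            rw [show k * l * u * (k * l)⁻¹ * u⁻¹ =
              (k * (l * u * l⁻¹) * k⁻¹ * (l * u * l⁻¹)⁻¹) * (l * u * l⁻¹ * u⁻¹) by group]
            exact mul_mem h1 h2
          inv_mem' := fun {k} hk u hu => by
            have h1 := hk _ (hPn.conj_mem u hu k⁻¹)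
            rw [show k⁻¹ * u * k⁻¹⁻¹ * u⁻¹ =
              (k * (k⁻¹ * u * k⁻¹⁻¹) * k⁻¹ * (k⁻¹ * u * k⁻¹⁻¹)⁻¹)⁻¹ by group]
            exact inv_mem h1 }
      have hKn : K.Normal := ⟨fun k hk g u hu => by
        have h1 := hΦn.conj_mem _ (hk _ (hPn.conj_mem u hu g⁻¹)) g
        rw [show g * k * g⁻¹ * u * (g * k * g⁻¹)⁻¹ * u⁻¹ =
          g * (k * (g⁻¹ * u * g⁻¹⁻¹) * k⁻¹ * (g⁻¹ * u * g⁻¹⁻¹)⁻¹) * g⁻¹ by group]
        exact h1⟩
      have hxK : x ∈ K := fun u hu => hker.1 (by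
        have h1 : Commute (f x) (f u) := hcomm _ (Subgroup.mem_map_of_mem f hu)
        simp only [map_mul, map_inv]
        rw [h1.eq, mul_inv_cancel_right, mul_inv_cancel])
      have hxP : x ∈ P := PLength.mem_pCore_of_trivial_mod_frattini
        (PLength.isPSolvable_of_isSolvable (p := p) (Nat.card G) G le_rfl h.solv).choose_spec.isPSolvable hO (K := K) (fun k hk u hu => hk u hu) hxK
      by_contra hne
      have hx1 : x ≠ 1 := fun e => hne (by rw [e, map_one])
      obtain ⟨k, hk, -⟩ := exists_orderOf_pow hPp hxP hx1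
      have hd := orderOf_dvd_natCard (⟨x ^ k, pow_mem hx k⟩ : H)
      rw [Subgroup.orderOf_mk, hk] at hd
      exact Finset.notMem_erase p τ (hH p hp hd)

end Config

/-- Four primes pairwise joined and not triply joined: the group is not solvable. -/
theorem not_isSolvable_of_four {G : Type u} [Group G] [Finite G] (σ : Finset ℕ) (hσ : 4 ≤ σ.card)
    (hprime : ∀ p ∈ σ, p.Prime)
    (h2 : ∀ p ∈ σ, ∀ q ∈ σ, p ≠ q → ∃ g : G, orderOf g = p * q)
    (h3 : ∀ p ∈ σ, ∀ q ∈ σ, ∀ r ∈ σ, p ≠ q → q ≠ r → p ≠ r → ∀ g : G, orderOf g ≠ p * q * r) :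
    ¬ Group.IsSolvable G := by
  intro hsol
  obtain ⟨τ, hτσ, hτ⟩ := Finset.exists_subset_card_eq hσ
  have hno : NoTriple G τ := by
    intro a b c ha hb hc hab hac hbc cab cac cbc
    obtain ⟨g, hg⟩ := exists_triple rfl rfl rfl (hprime _ (hτσ ha)) (hprime _ (hτσ hb))
      (hprime _ (hτσ hc)) hab hac hbc cab cac cbc
    exact h3 _ (hτσ ha) _ (hτσ hb) _ (hτσ hc) hab hbc hac g hg
  obtain ⟨m, l, hml, hcop, hm, hl⟩ :=
    Coprime.exists_pi_split (τ : Set ℕ) (Nat.card_pos (α := G)).ne'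
  obtain ⟨H, hH⟩ := Solvable.exists_hall hml hcop
  refine Config.false (G := ↥H) (τ := τ) ⟨hτ, fun t ht => hprime t (hτσ ht),
    Group.isSolvable_of_isSolvable_injective H.subtype_injective, fun t ht hd => hm t ht (hH ▸ hd),
    fun a ha b hb hab => ?_, ?_⟩
  · obtain ⟨g, hg⟩ := h2 a (hτσ ha) b (hτσ hb) hab
    obtain ⟨c, hc⟩ := Solvable.exists_conj_le_hall hml hcop hH (K := zpowers g) (by
      refine Nat.coprime_of_dvd fun t ht h1 h2 => hl t ht ?_ h2
      rw [Nat.card_zpowers, hg] at h1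
      rcases ht.dvd_mul.1 h1 with e | e
      · rw [(Nat.prime_dvd_prime_iff_eq ht (hprime a (hτσ ha))).1 e]; exact ha
      · rw [(Nat.prime_dvd_prime_iff_eq ht (hprime b (hτσ hb))).1 e]; exact hb)
    refine ⟨⟨_, hc (Subgroup.smul_mem_pointwise_smul g (MulAut.conj c) _ (mem_zpowers g))⟩, ?_⟩
    rw [Subgroup.orderOf_mk, MulAut.smul_def, MulEquiv.orderOf_eq, hg]
  · intro a b c ha hb hc hab hac hbc cab cac cbc
    exact hno a b c (by rwa [Subgroup.orderOf_coe]) (by rwa [Subgroup.orderOf_coe])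
      (by rwa [Subgroup.orderOf_coe]) (by rwa [Subgroup.orderOf_coe, Subgroup.orderOf_coe])
      (by rwa [Subgroup.orderOf_coe, Subgroup.orderOf_coe])
      (by rwa [Subgroup.orderOf_coe, Subgroup.orderOf_coe])
      (cab.map H.subtype) (cac.map H.subtype) (cbc.map H.subtype)

end CfsgLib.ClassK.FourPrimes
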