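import Cfsg.Agent.Lib.ClassK.FourPrimesTwo
import Cfsg.Agent.Lib.Solvable.Hall

/-!
A solvable three-prime group acting faithfully on a module of the fourth prime.
-/

set_option autoImplicit false
set_option linter.unusedSectionVars false

namespace CfsgLib.ClassK.FourPrimes

open Subgroup

universe u

variable {X : Type u} [Group X] [Finite X]

theorem isPGroup_zpowers {r : ℕ} {u : X} (hu : orderOf u = r) : IsPGroup r ↥(zpowers u) :=
  IsPGroup.of_card (n := 1) (by rw [Nat.card_zpowers, hu, pow_one])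

theorem commute_zpowers {u a b : X} (ha : a ∈ zpowers u) (hb : b ∈ zpowers u) : Commute a b := by
  obtain ⟨i, rfl⟩ := Subgroup.mem_zpowers_iff.1 ha
  obtain ⟨j, rfl⟩ := Subgroup.mem_zpowers_iff.1 hb
  exact (Commute.refl u).zpow_zpow i j

theorem le_normalizer_zpowers {L : Subgroup X} {u : X} (h : ∀ l ∈ L, Commute l u) :
    L ≤ normalizer (zpowers u : Set X) :=
  le_normalizer_of_conj fun l hl x hx => by
    rw [(commute_of_mem_zpowers (h l hl) hx).eq, mul_inv_cancel_right]
    exact hx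

theorem le_normalizer_pCore {L D : Subgroup X} (h : L ≤ normalizer (D : Set X)) (t : ℕ) :
    L ≤ normalizer (((Cfsg.pCore t D).map D.subtype : Subgroup X) : Set X) :=
  le_normalizer_of_conj fun l hl x hx => by
    obtain ⟨y, hy, rfl⟩ := hx
    let φ : MulAut D := D.normalizerMonoidHom ⟨l, h hl⟩
    have h1 : φ y ∈ Cfsg.pCore t D :=
      Solvable.map_pCore_equiv φ t ▸ Subgroup.mem_map_of_mem φ.toMonoidHom hy
    exact ⟨φ y, h1, rfl⟩

/-- The shape of the core of `D` seen in the ambient group. -/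
theorem isPGroup_pCore_map (D : Subgroup X) (t : ℕ) :
    IsPGroup t ↥((Cfsg.pCore t D).map D.subtype) :=
  (Solvable.pCore_isPGroup (G := ↥D) t).map _

theorem pCore_eq_bot_of_not_dvd (D : Subgroup X) {t : ℕ} (ht : t.Prime) (h : ¬ t ∣ Nat.card D) :
    Cfsg.pCore t D = ⊥ := by
  haveI := Fact.mk ht
  obtain ⟨n, hn⟩ := IsPGroup.iff_card.1 (Solvable.pCore_isPGroup (G := ↥D) t)
  rcases n with _ | n
  · exact Subgroup.card_eq_one.1 (by simpa using hn)
  · exact absurd ((hn ▸ dvd_pow_self t (Nat.succ_ne_zero n)).trans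
      (Subgroup.card_subgroup_dvd_card _)) h

theorem exists_orderOf_center {t : ℕ} [Fact t.Prime] {R : Subgroup X} (hR : IsPGroup t R)
    (hR1 : R ≠ ⊥) : ∃ z ∈ R ⊓ centralizer (R : Set X), orderOf z = t := by
  have : Nontrivial R := (Subgroup.nontrivial_iff_ne_bot R).2 hR1
  have := hR.center_nontrivial
  obtain ⟨c, hc⟩ := exists_ne (1 : Subgroup.center R)
  have hcZ : ((c : R) : X) ∈ R ⊓ centralizer (R : Set X) :=
    ⟨(c : R).2, Subgroup.mem_centralizer_iff.2 fun y hy =>
      congrArg Subtype.val (Subgroup.mem_center_iff.1 c.2 ⟨y, hy⟩)⟩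
  obtain ⟨k, hk, hkZ⟩ := exists_orderOf_pow (hR.to_le inf_le_left) hcZ
    (fun e => hc (Subtype.ext (Subtype.ext e)))
  exact ⟨_, hkZ, hk⟩

theorem le_normalizer_center {L R : Subgroup X} (h : L ≤ normalizer (R : Set X)) :
    L ≤ normalizer ((R ⊓ centralizer (R : Set X) : Subgroup X) : Set X) :=
  le_normalizer_of_conj fun l hl x hx =>
    ⟨conj_mem_of_le_normalizer h hl hx.1, Subgroup.mem_centralizer_iff.2 fun y hy => by
      have h1 := conj_mem_of_le_normalizer h (inv_mem hl) hy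
      have h2 : (l⁻¹ * y * l⁻¹⁻¹) * x = x * (l⁻¹ * y * l⁻¹⁻¹) :=
        Subgroup.mem_centralizer_iff.1 hx.2 _ h1
      calc y * (l * x * l⁻¹) = l * ((l⁻¹ * y * l⁻¹⁻¹) * x) * l⁻¹ := by group
        _ = l * x * l⁻¹ * y := by rw [h2]; group⟩

theorem normalizes_of_unique {t : ℕ} {L Z : Subgroup X} (h : L ≤ normalizer (Z : Set X)) {z : X}
    (hzZ : z ∈ Z) (hz : orderOf z = t)
    (huniq : ∀ x ∈ Z, ∀ y ∈ Z, orderOf x = t → orderOf y = t → y ∈ zpowers x) :
    L ≤ normalizer (zpowers z : Set X) :=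
  le_normalizer_of_conj fun l hl x hx => by
    obtain ⟨i, rfl⟩ := hx
    simp only
    rw [← conj_zpow]
    refine zpow_mem (huniq z hzZ _ (conj_mem_of_le_normalizer h hl hzZ) hz ?_) i
    rw [show l * z * l⁻¹ = MulAut.conj l z from rfl, MulEquiv.orderOf_eq, hz]

/-- A three-prime group acting faithfully on `V`. -/
structure One (σ : Finset ℕ) (p q r s : ℕ) (H V : Subgroup X) : Prop where
  noTriple : NoTriple X σ
  hp : p.Prime
  hq : q.Prime
  hr : r.Prime
  hs : s.Prime
  pmem : p ∈ σ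
  qmem : q ∈ σ
  rmem : r ∈ σ
  smem : s ∈ σ
  hpq : p ≠ q
  hpr : p ≠ r
  hps : p ≠ s
  hqr : q ≠ r
  hqs : q ≠ s
  hrs : r ≠ s
  solv : Group.IsSolvable H
  primes : ∀ t : ℕ, t.Prime → t ∣ Nat.card H → t = q ∨ t = r ∨ t = s
  V1 : V ≠ ⊥
  Vp : ∀ v ∈ V, v ^ p = 1
  Vc : ∀ a ∈ V, ∀ b ∈ V, Commute a b
  HV : H ≤ normalizer (V : Set X)
  faithful : ∀ h ∈ H, (∀ v ∈ V, Commute h v) → h = 1
  edgeqr : ∃ g ∈ H, orderOf g = q * r
  edgeqs : ∃ g ∈ H, orderOf g = q * s
  edgers : ∃ g ∈ H, orderOf g = r * s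
  Eq' : ∃ E : Subgroup X, E ≤ H ∧ El2 q E
  Er : ∃ E : Subgroup X, E ≤ H ∧ El2 r E
  Es : ∃ E : Subgroup X, E ≤ H ∧ El2 s E

namespace One

variable {σ : Finset ℕ} {p q r s : ℕ} {H V : Subgroup X}

theorem swap (h : One σ p q r s H V) : One σ p q s r H V :=
  ⟨h.noTriple, h.hp, h.hq, h.hs, h.hr, h.pmem, h.qmem, h.smem, h.rmem, h.hpq, h.hps, h.hpr, h.hqs,
    h.hqr, h.hrs.symm, h.solv, fun t ht hd => (h.primes t ht hd).imp id Or.symm, h.V1, h.Vp, h.Vc,
    h.HV, h.faithful, h.edgeqs, h.edgeqr, by simpa [mul_comm] using h.edgers, h.Eq', h.Es, h.Er⟩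

theorem rot (h : One σ p q r s H V) : One σ p r s q H V :=
  ⟨h.noTriple, h.hp, h.hr, h.hs, h.hq, h.pmem, h.rmem, h.smem, h.qmem, h.hpr, h.hps, h.hpq, h.hrs,
    h.hqr.symm, h.hqs.symm, h.solv, fun t ht hd => by
      rcases h.primes t ht hd with h | h | h <;> simp [h],
    h.V1, h.Vp, h.Vc, h.HV, h.faithful, h.edgers, by simpa [mul_comm] using h.edgeqr,
    by simpa [mul_comm] using h.edgeqs, h.Er, h.Es, h.Eq'⟩

theorem orderV (h : One σ p q r s H V) {v : X} (hv : v ∈ V) (h1 : v ≠ 1) : orderOf v = p :=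
  haveI := Fact.mk h.hp
  orderOf_eq_prime (h.Vp v hv) h1

theorem isPV (h : One σ p q r s H V) : IsPGroup p V :=
  fun v => ⟨1, Subtype.ext (by simpa using h.Vp v v.2)⟩

theorem triV (h : One σ p q r s H V) {a b v : X} (ha : orderOf a = r) (hb : orderOf b = s)
    (hab : Commute a b) (hv : v ∈ V) (hv1 : v ≠ 1) (hav : Commute a v) (hbv : Commute b v) :
    False := by
  have e1 := h.orderV hv hv1
  exact h.noTriple a b v (ha ▸ h.rmem) (hb ▸ h.smem) (e1 ▸ h.pmem) (by rw [ha, hb]; exact h.hrs)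
    (by rw [ha, e1]; exact h.hpr.symm) (by rw [hb, e1]; exact h.hps.symm) hab hav hbv

theorem tri3 (h : One σ p q r s H V) {x a b : X} (hx : orderOf x = q) (ha : orderOf a = r)
    (hb : orderOf b = s) (hxa : Commute x a) (hxb : Commute x b) (hab : Commute a b) : False :=
  h.noTriple x a b (hx ▸ h.qmem) (ha ▸ h.rmem) (hb ▸ h.smem) (by rw [hx, ha]; exact h.hqr)
    (by rw [hx, hb]; exact h.hqs) (by rw [ha, hb]; exact h.hrs) hxa hxb hab

end One

/-- A large normal `q`-subgroup. -/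
structure Big (σ : Finset ℕ) (p q r s : ℕ) (H V N : Subgroup X) : Prop where
  one : One σ p q r s H V
  NH : N ≤ H
  Np : IsPGroup q N
  HN : H ≤ normalizer (N : Set X)
  odd : q ≠ 2 ∨ ∀ a ∈ N, ∀ b ∈ N, Commute a b
  el : ∃ E : Subgroup X, E ≤ N ∧ El2 q E

namespace Big

variable {σ : Finset ℕ} {p q r s : ℕ} {H V N : Subgroup X}

theorem swap (h : Big σ p q r s H V N) : Big σ p q s r H V N :=
  ⟨h.one.swap, h.NH, h.Np, h.HN, h.odd, h.el⟩

theorem fpfV (h : Big σ p q r s H V N) {a : X} (ha : orderOf a = r)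
    (haN : ∀ m ∈ N, Commute a m) : ∀ v ∈ V, Commute a v → v = 1 := by
  intro v hv hav
  by_contra hv1
  haveI := Fact.mk h.one.hp
  obtain ⟨E, hEN, hE⟩ := h.el
  have hvU : v ∈ V ⊓ centralizer (zpowers a : Set X) := ⟨hv, Subgroup.mem_centralizer_iff.2
    fun y hy => (commute_of_mem_zpowers hav.symm hy).symm.eq⟩
  obtain ⟨x, hx, hx1, u, hu, hu1, hxu⟩ := exists_fixed h.one.hq h.one.hpq hE
    (h.one.isPV.to_le inf_le_left)
    (fun hb => hv1 (by
      have := hvU
      rwa [hb, Subgroup.mem_bot] at this))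
    (hEN.trans (le_normalizer_fixed (h.NH.trans h.one.HV)
      (le_normalizer_zpowers fun m hm => (haN m hm).symm)))
  exact h.one.rot.rot.triV (hE.orderOf_eq h.one.hq hx hx1) ha (haN x (hEN hx)).symm hu.1 hu1
    hxu (Subgroup.mem_centralizer_iff.1 hu.2 a (mem_zpowers a))

theorem noEl (h : Big σ p q r s H V N) {E : Subgroup X} (hE : El2 r E) (hEH : E ≤ H)
    (hEN : ∀ e ∈ E, ∀ m ∈ N, Commute e m) : False := by
  haveI := Fact.mk h.one.hp
  obtain ⟨e, he, he1, v, hv, hv1, hev⟩ :=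
    exists_fixed h.one.hr h.one.hpr hE h.one.isPV h.one.V1 (hEH.trans h.one.HV)
  exact hv1 (h.fpfV (hE.orderOf_eq h.one.hr he he1) (hEN e he) v hv hev)

theorem moverFix (h : Big σ p q r s H V N) {a : X} (haH : a ∈ H) (ha : orderOf a = r)
    (haN : ¬ ∀ m ∈ N, Commute a m) : ∃ v ∈ V, v ≠ 1 ∧ Commute a v := by
  by_contra hcon
  push Not at hcon
  haveI := Fact.mk h.one.hp
  haveI := Fact.mk h.one.hq
  refine haN fun m hm => ?_
  have key := fpf_centralizes h.one.hr h.one.hpq h.one.hpr h.one.hqr ha h.Np h.odd h.one.isPV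
    h.one.Vp (h.HN haH) (h.one.HV haH) (h.NH.trans h.one.HV)
    (fun v hv hav => by_contra fun hv1 => hcon v hv hv1 hav) m hm
  have := h.one.faithful _ (mul_mem (inv_mem (h.NH hm))
    (mul_mem (mul_mem haH (h.NH hm)) (inv_mem haH))) key
  exact mul_inv_eq_iff_eq_mul.1 (inv_mul_eq_one.1 this).symm

theorem noTwo (h : Big σ p q r s H V N) {a b : X} (ha : orderOf a = r) (hb : orderOf b = s)
    (hab : Commute a b) (haN : ∀ m ∈ N, Commute a m) (hbN : ∀ m ∈ N, Commute b m) : False := by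
  obtain ⟨E, hEN, hE⟩ := h.el
  obtain ⟨x, hx, hx1⟩ : ∃ x ∈ E, x ≠ 1 := by
    by_contra hcon
    push Not at hcon
    have hc := hE.card
    rw [(Subgroup.eq_bot_iff_forall E).2 hcon, Subgroup.card_bot] at hc
    exact absurd hc.symm (Nat.one_lt_pow two_ne_zero h.one.hq.one_lt).ne'
  exact h.one.tri3 (hE.orderOf_eq h.one.hq hx hx1) ha hb
    (haN x (hEN hx)).symm (hbN x (hEN hx)).symm hab

theorem fpfN_of_mem (h : Big σ p q r s H V N) {a b : X} (ha : orderOf a = r) (hb : orderOf b = s)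
    (hab : Commute a b) (haN : ∀ m ∈ N, Commute a m) : ∀ m ∈ N, Commute b m → m = 1 := by
  intro m hm hbm
  by_contra hm1
  haveI := Fact.mk h.one.hq
  obtain ⟨k, hk, -⟩ := exists_orderOf_pow h.Np hm hm1
  exact h.one.tri3 hk ha hb ((haN m hm).symm.pow_left k) (hbm.symm.pow_left k) hab

/-- Two movers that commute: both are fixed-point-free on `N`. -/
theorem fpfN_of_movers (h : Big σ p q r s H V N) {a b : X} (haH : a ∈ H) (hbH : b ∈ H)
    (ha : orderOf a = r) (hb : orderOf b = s) (hab : Commute a b)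
    (haN : ¬ ∀ m ∈ N, Commute a m) : ∀ m ∈ N, Commute a m → m = 1 := by
  intro m hm ham
  by_contra hm1
  haveI := Fact.mk h.one.hp
  haveI := Fact.mk h.one.hq
  obtain ⟨v₀, hv₀, hv₀1, hav₀⟩ := h.moverFix haH ha haN
  have hbz : zpowers b ≤ normalizer (zpowers a : Set X) :=
    le_normalizer_zpowers fun l hl => (commute_of_mem_zpowers hab hl).symm
  have hPz : N ⊓ centralizer (zpowers a : Set X) ≤ normalizer (zpowers a : Set X) :=
    le_normalizer_zpowers fun l hl =>
      (Subgroup.mem_centralizer_iff.1 hl.2 a (mem_zpowers a) : a * l = l * a).symm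
  have key := fpf_centralizes h.one.hs h.one.hpq h.one.hps h.one.hqs hb
    (P := N ⊓ centralizer (zpowers a : Set X)) (V := V ⊓ centralizer (zpowers a : Set X))
    (h.Np.to_le inf_le_left) (h.odd.imp id fun hc x hx y hy => hc x hx.1 y hy.1)
    (h.one.isPV.to_le inf_le_left) (fun v hv => h.one.Vp v hv.1)
    (le_normalizer_fixed (zpowers_le.2 (h.HN hbH)) hbz (mem_zpowers b))
    (le_normalizer_fixed (zpowers_le.2 (h.one.HV hbH)) hbz (mem_zpowers b))
    (le_normalizer_fixed ((inf_le_left.trans h.NH).trans h.one.HV) hPz)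
    (fun v hv hbv => by_contra fun hv1 => h.one.triV ha hb hab hv.1 hv1
      (Subgroup.mem_centralizer_iff.1 hv.2 a (mem_zpowers a)) hbv)
  have hmP : m ∈ N ⊓ centralizer (zpowers a : Set X) := ⟨hm, Subgroup.mem_centralizer_iff.2
    fun y hy => (commute_of_mem_zpowers ham.symm hy).symm.eq⟩
  have hv₀U : v₀ ∈ V ⊓ centralizer (zpowers a : Set X) := ⟨hv₀, Subgroup.mem_centralizer_iff.2
    fun y hy => (commute_of_mem_zpowers hav₀.symm hy).symm.eq⟩
  by_cases hc1 : m⁻¹ * (b * m * b⁻¹) = 1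
  · obtain ⟨k, hk, -⟩ := exists_orderOf_pow h.Np hm hm1
    exact h.one.tri3 hk ha hb (ham.symm.pow_left k)
      (Commute.pow_left (mul_inv_eq_iff_eq_mul.1 (inv_mul_eq_one.1 hc1).symm).symm k) hab
  · have hcP : m⁻¹ * (b * m * b⁻¹) ∈ N ⊓ centralizer (zpowers a : Set X) :=
      mul_mem (inv_mem hmP) (conj_mem_of_le_normalizer
        (le_normalizer_fixed (zpowers_le.2 (h.HN hbH)) hbz) (mem_zpowers b) hmP)
    obtain ⟨k, hk, -⟩ := exists_orderOf_pow h.Np hcP.1 hc1
    exact h.one.rot.rot.triV hk ha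
      (Commute.pow_left (Subgroup.mem_centralizer_iff.1 hcP.2 a (mem_zpowers a)).symm k :
        Commute ((m⁻¹ * (b * m * b⁻¹)) ^ k) a)
      hv₀ hv₀1 ((key m hmP v₀ hv₀U).pow_left k) hav₀

/-- Of two commuting elements of orders `r` and `s` exactly one centralises `N`. -/
theorem pair (h : Big σ p q r s H V N) {a b : X} (haH : a ∈ H) (hbH : b ∈ H)
    (ha : orderOf a = r) (hb : orderOf b = s) (hab : Commute a b) :
    (∀ m ∈ N, Commute a m) ∨ (∀ m ∈ N, Commute b m) := by
  by_contra hcon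
  rw [not_or] at hcon
  obtain ⟨haN, hbN⟩ := hcon
  have hfa := h.fpfN_of_movers haH hbH ha hb hab haN
  have hfb := h.swap.fpfN_of_movers hbH haH hb ha hab.symm hbN
  haveI := Fact.mk h.one.hq
  have hra : a ^ r = 1 := ha ▸ pow_orderOf_eq_one a
  have hsb : b ^ s = 1 := hb ▸ pow_orderOf_eq_one b
  have has : a ∈ zpowers (a ^ s) := mem_zpowers_of_ne_one h.one.hr ha (pow_mem (mem_zpowers a) s)
    (fun e => h.one.hrs ((Nat.prime_dvd_prime_iff_eq h.one.hr h.one.hs).1
      (ha ▸ orderOf_dvd_of_pow_eq_one e)))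
  have hbr : b ∈ zpowers (b ^ r) := mem_zpowers_of_ne_one h.one.hs hb (pow_mem (mem_zpowers b) r)
    (fun e => h.one.hrs ((Nat.prime_dvd_prime_iff_eq h.one.hs h.one.hr).1
      (hb ▸ orderOf_dvd_of_pow_eq_one e)).symm)
  have hNV : ∀ y ∈ N, ∀ v ∈ V, Commute y v := by
    refine frobenius_trivial h.one.hp h.one.Vc h.one.Vp ?_ (h.NH.trans h.one.HV)
      (h.one.HV (mul_mem haH hbH)) (h.HN (mul_mem haH hbH)) ?_ ?_
    · intro hd
      obtain ⟨n, hn⟩ := IsPGroup.iff_card.1 h.Np
      rw [hn] at hd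
      exact h.one.hpq ((Nat.prime_dvd_prime_iff_eq h.one.hp h.one.hq).1
        (h.one.hp.dvd_of_dvd_pow hd))
    · intro i hi y hy hiy
      rw [hab.mul_pow] at hi hiy
      by_cases hai : a ^ i = 1
      · rw [hai, one_mul] at hi hiy
        exact hfb y hy (commute_of_mem_zpowers hiy.symm
          (mem_zpowers_of_ne_one h.one.hs hb (pow_mem (mem_zpowers b) i) hi)).symm
      · have h1 : Commute ((a ^ i) ^ s) y := by
          have := hiy.pow_left s
          rwa [(hab.pow_pow i i).mul_pow, pow_right_comm b, hsb, one_pow, mul_one] at this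
        have h2 : (a ^ i) ^ s ≠ 1 := fun e => by
          obtain ⟨j, hj⟩ := Subgroup.mem_zpowers_iff.1
            (mem_zpowers_of_ne_one h.one.hr ha (pow_mem (mem_zpowers a) i) hai)
          have : a ^ s = 1 := by
            rw [← hj, ← zpow_natCast, ← zpow_mul, mul_comm, zpow_mul, zpow_natCast, e, one_zpow]
          rw [this] at has
          rw [Subgroup.zpowers_one_eq_bot, Subgroup.mem_bot] at has
          rw [has, orderOf_one] at ha
          exact h.one.hr.ne_one ha.symm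
        exact hfa y hy (commute_of_mem_zpowers h1.symm
          (mem_zpowers_of_ne_one h.one.hr ha (pow_mem (pow_mem (mem_zpowers a) i) s) h2)).symm
    · intro v hv hgv
      by_contra hv1
      have h1 : Commute (a ^ s) v := by
        have := hgv.pow_left s
        rwa [hab.mul_pow, hsb, mul_one] at this
      have h2 : Commute (b ^ r) v := by
        have := hgv.pow_left r
        rwa [hab.mul_pow, hra, one_mul] at this
      exact h.one.triV ha hb hab hv hv1 (commute_of_mem_zpowers h1.symm has).symm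
        (commute_of_mem_zpowers h2.symm hbr).symm
  obtain ⟨E, hEN, hE⟩ := h.el
  obtain ⟨a', ha'⟩ : ∃ x ∈ E, x ≠ 1 := by
    by_contra hE1
    push Not at hE1
    have hc := hE.card
    rw [(Subgroup.eq_bot_iff_forall E).2 hE1, Subgroup.card_bot] at hc
    exact absurd hc.symm (Nat.one_lt_pow two_ne_zero h.one.hq.one_lt).ne'
  exact ha'.2 (h.one.faithful a' (h.NH (hEN ha'.1)) fun v hv => hNV a' (hEN ha'.1) v hv)

end Big

/-- A Hall `{r, s}`-subgroup with a normal element of order `r` centralising `N`. -/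
structure Sit (σ : Finset ℕ) (p q r s : ℕ) (H V N L : Subgroup X) (u : X) : Prop where
  big : Big σ p q r s H V N
  LH : L ≤ H
  primesL : ∀ t : ℕ, t.Prime → t ∣ Nat.card L → t = r ∨ t = s
  Er : ∃ E : Subgroup X, E ≤ L ∧ El2 r E
  Es : ∃ E : Subgroup X, E ≤ L ∧ El2 s E
  uL : u ∈ L
  hu : orderOf u = r
  un : L ≤ normalizer (zpowers u : Set X)
  uN : ∀ m ∈ N, Commute u m

namespace Sit

variable {σ : Finset ℕ} {p q r s : ℕ} {H V N L : Subgroup X} {u : X}

theorem fpfN (h : Sit σ p q r s H V N L u) {e : X} (he : orderOf e = s)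
    (heu : Commute e u) : ∀ m ∈ N, Commute e m → m = 1 :=
  h.big.fpfN_of_mem h.hu he heu.symm h.uN

theorem noElD (h : Sit σ p q r s H V N L u) {E : Subgroup X} (hE : El2 s E) (hEL : E ≤ L)
    (hEu : ∀ e ∈ E, Commute e u) : False := by
  haveI := Fact.mk h.big.one.hq
  have hN1 : N ≠ ⊥ := by
    rintro rfl
    obtain ⟨E', hE', hE'2⟩ := h.big.el
    have hc := hE'2.card
    rw [le_bot_iff.1 hE', Subgroup.card_bot] at hc
    exact absurd hc.symm (Nat.one_lt_pow two_ne_zero h.big.one.hq.one_lt).ne'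
  obtain ⟨e, he, he1, m, hm, hm1, hem⟩ := exists_fixed h.big.one.hs h.big.one.hqs hE h.big.Np hN1
    ((hEL.trans h.LH).trans h.big.HN)
  exact hm1 (h.fpfN (hE.orderOf_eq h.big.one.hs he he1) (hEu e he) m hm hem)

theorem s_lt_r (h : Sit σ p q r s H V N L u) : s < r := by
  obtain ⟨E, hEL, hE⟩ := h.Es
  obtain ⟨z, hz, hzu⟩ : ∃ z ∈ E, ¬ Commute z u := by
    by_contra hcon
    push Not at hcon
    exact h.noElD hE hEL hcon
  have hzo : orderOf z = s :=
    hE.orderOf_eq h.big.one.hs hz (fun e => hzu (e ▸ Commute.one_left u))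
  have hd : s ∣ r - 1 := by
    by_contra hnd
    exact hzu (commute_of_coprime h.big.one.hr h.hu (h.un (hEL hz))
      (hzo ▸ (Nat.Prime.coprime_iff_not_dvd h.big.one.hs).2 hnd))
  have h2 := h.big.one.hr.two_le
  have := Nat.le_of_dvd (by omega) hd
  omega

theorem r_coprime (h : Sit σ p q r s H V N L u) (k : ℕ) : (r ^ k).Coprime (s - 1) := by
  refine Nat.Coprime.pow_left _ ((Nat.Prime.coprime_iff_not_dvd h.big.one.hr).2 fun hd => ?_)
  have h2 := h.big.one.hs.two_le
  have := Nat.le_of_dvd (by omega) hd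
  have := h.s_lt_r
  omega

theorem commute_u (h : Sit σ p q r s H V N L u) {g : X} (hg : g ∈ L) (k : ℕ)
    (hgo : orderOf g = r ^ k) : Commute g u := by
  refine commute_of_coprime h.big.one.hr h.hu (h.un hg) (hgo ▸ Nat.Coprime.pow_left _ ?_)
  exact (Nat.Prime.coprime_iff_not_dvd h.big.one.hr).2 fun hd => by
    have h2 := h.big.one.hr.two_le
    have := Nat.le_of_dvd (by omega) hd
    omega

theorem noKs (h : Sit σ p q r s H V N L u) {w : X} (hwL : w ∈ L) (hw : orderOf w = s)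
    (hwN : ∀ m ∈ N, Commute w m) : False := by
  haveI := Fact.mk h.big.one.hp
  haveI := Fact.mk h.big.one.hs
  haveI := Fact.mk h.big.one.hr
  have hLN : L ≤ normalizer (N : Set X) := h.LH.trans h.big.HN
  set UK := L ⊓ centralizer (N : Set X) with hUK
  have memUK : ∀ {x : X}, x ∈ L → ((∀ m ∈ N, Commute x m) ↔ x ∈ UK) := fun {x} hx =>
    ⟨fun hc => ⟨hx, Subgroup.mem_centralizer_iff.2 fun m hm => (hc m hm).symm.eq⟩,
      fun hc m hm => (Subgroup.mem_centralizer_iff.1 hc.2 m hm : m * x = x * m).symm⟩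
  have hLUK : L ≤ normalizer (UK : Set X) := le_normalizer_of_conj fun l hl x hx =>
    (memUK (mul_mem (mul_mem hl hx.1) (inv_mem hl))).1 fun m hm => by
      have h1 := conj_mem_of_le_normalizer hLN (inv_mem hl) hm
      have h2 : Commute x (l⁻¹ * m * l⁻¹⁻¹) := (memUK hx.1).2 hx _ h1
      have := h2.map (MulAut.conj l).toMonoidHom
      simpa [mul_assoc] using this
  obtain ⟨E, hEL, hE⟩ := h.Er
  obtain ⟨g, hg, hgN⟩ : ∃ g ∈ E, ¬ ∀ m ∈ N, Commute g m := by
    by_contra hcon
    push Not at hcon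
    exact h.big.noEl hE (hEL.trans h.LH) hcon
  have hgo : orderOf g = r :=
    hE.orderOf_eq h.big.one.hr hg (fun e => hgN (fun m _ => e ▸ Commute.one_left m))
  have hgL := hEL hg
  have hwU : w ∈ UK := (memUK hwL).1 hwN
  have hw'U : g * w * g⁻¹ ∈ UK := conj_mem_of_le_normalizer hLUK hgL hwU
  have hw'o : orderOf (g * w * g⁻¹) = s := by
    rw [show g * w * g⁻¹ = MulAut.conj g w from rfl, MulEquiv.orderOf_eq, hw]
  obtain ⟨c, hcU, hcw⟩ : ∃ c ∈ UK, c * (g * w * g⁻¹) * c⁻¹ ∈ zpowers w := by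
    have hP : ∀ y : UK, orderOf (y : X) = s → ∃ S : Sylow s UK, y ∈ (S : Subgroup UK) := fun y hy => by
      obtain ⟨S, hS⟩ := IsPGroup.exists_le_sylow (P := zpowers y) (p := s)
        (IsPGroup.of_card (n := 1) (by
          rw [Nat.card_zpowers, ← Subgroup.orderOf_coe, hy, pow_one]))
      exact ⟨S, hS (mem_zpowers y)⟩
    obtain ⟨S₁, hS₁⟩ := hP ⟨w, hwU⟩ hw
    obtain ⟨S₂, hS₂⟩ := hP ⟨_, hw'U⟩ hw'o
    obtain ⟨c, hc⟩ := MulAction.exists_smul_eq (↥UK) S₂ S₁
    have h2 : c * (⟨_, hw'U⟩ : UK) * c⁻¹ ∈ (S₁ : Subgroup UK) := by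
      rw [← hc]
      exact ⟨_, hS₂, rfl⟩
    have hSX : IsPGroup s ↥((S₁ : Subgroup UK).map UK.subtype) := S₁.isPGroup'.map _
    refine ⟨c, c.2, ?_⟩
    rcases el2_or_unique hSX with ⟨E', hE'S, hE'⟩ | huniq
    · have hE'U : E' ≤ UK := hE'S.trans (Subgroup.map_subtype_le _)
      exact (h.big.swap.noEl hE' ((hE'U.trans inf_le_left).trans h.LH)
        fun e he => (memUK (hE'U he).1).2 (hE'U he)).elim
    · refine huniq w ⟨_, hS₁, rfl⟩ _ ⟨_, h2, rfl⟩ hw ?_
      rw [show (c : X) * (g * w * g⁻¹) * (c : X)⁻¹ = MulAut.conj (c : X) (g * w * g⁻¹) from rfl,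
        MulEquiv.orderOf_eq, hw'o]
  set n := c * g with hn
  have hnL : n ∈ L := mul_mem hcU.1 hgL
  have hnN : n ∈ normalizer (zpowers w : Set X) := by
    have hnw : n * w * n⁻¹ ∈ zpowers w := by
      rw [hn, show c * g * w * (c * g)⁻¹ = c * (g * w * g⁻¹) * c⁻¹ by group]
      exact hcw
    refine Subgroup.mem_normalizer_iff_map_conj_eq.2 (Subgroup.eq_of_le_of_card_ge ?_ ?_)
    · rw [MonoidHom.map_zpowers, zpowers_le]
      exact hnw
    · rw [MonoidHom.map_zpowers, Nat.card_zpowers, Nat.card_zpowers]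
      exact (MulEquiv.orderOf_eq (MulAut.conj n) w).ge
  have hnU : n ∉ UK := fun hh => hgN ((memUK hgL).2 (by
    have := mul_mem (inv_mem hcU) hh
    rwa [hn, inv_mul_cancel_left] at this))
  have hnr : n ^ r ∈ UK := by
    have key : ∀ k : ℕ, (c * g) ^ k * (g ^ k)⁻¹ ∈ UK := by
      intro k
      induction k with
      | zero => simp
      | succ k ih =>
        rw [show (c * g) ^ (k + 1) * (g ^ (k + 1))⁻¹ =
          ((c * g) ^ k * (g ^ k)⁻¹) * (g ^ k * c * (g ^ k)⁻¹) by
            rw [pow_succ, pow_succ]; group]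
        exact mul_mem ih (conj_mem_of_le_normalizer hLUK (pow_mem hgL k) hcU)
    have := key r
    rwa [← hgo, pow_orderOf_eq_one, inv_one, mul_one, hgo] at this
  set M := orderOf n / r ^ (orderOf n).factorization r with hM
  set n' := n ^ M with hn'
  have hn'U : n' ∉ UK := fun hh => by
    have hcop : (r : ℤ).gcd M = 1 :=
      ((Nat.Prime.coprime_iff_not_dvd h.big.one.hr).2
        (Nat.not_dvd_ordCompl h.big.one.hr (orderOf_pos n).ne'))
    refine hnU ?_
    have h1 := Int.gcd_eq_gcd_ab (r : ℤ) M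
    rw [hcop] at h1
    rw [← zpow_one n, show (1 : ℤ) = ((1 : ℕ) : ℤ) from rfl, h1, zpow_add, zpow_mul, zpow_mul,
      zpow_natCast, zpow_natCast]
    exact mul_mem (zpow_mem hnr _) (zpow_mem hh _)
  have hn'L : n' ∈ L := pow_mem hnL _
  have hn'pow : ∃ k, orderOf n' = r ^ k := by
    have : n' ^ r ^ (orderOf n).factorization r = 1 := by
      rw [hn', ← pow_mul, hM, mul_comm, Nat.ordProj_mul_ordCompl_eq_self, pow_orderOf_eq_one]
    obtain ⟨k, -, hk⟩ := (Nat.dvd_prime_pow h.big.one.hr).1 (orderOf_dvd_of_pow_eq_one this)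
    exact ⟨k, hk⟩
  obtain ⟨k, hk⟩ := hn'pow
  have hn'w : Commute n' w :=
    commute_of_coprime h.big.one.hs hw (pow_mem hnN M) (hk ▸ h.r_coprime k)
  have hn'r : n' ^ r = 1 := by
    by_contra hne
    have hmem : n' ^ r ∈ UK := by
      rw [hn', ← pow_mul, mul_comm, pow_mul]
      exact pow_mem hnr _
    have hP : IsPGroup r ↥(zpowers n') := IsPGroup.of_card (n := k) (by rw [Nat.card_zpowers, hk])
    obtain ⟨j, hj, -⟩ := exists_orderOf_pow hP (pow_mem (mem_zpowers n') r) hne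
    exact h.big.noTwo hj hw ((hn'w.pow_left r).pow_left j)
      ((memUK (pow_mem hmem j).1).2 (pow_mem hmem j)) hwN
  have hn'o : orderOf n' = r := orderOf_eq_prime hn'r (fun e => hn'U (e ▸ one_mem _))
  obtain ⟨v₀, hv₀, hv₀1, hnv₀⟩ :=
    h.big.moverFix (h.LH hn'L) hn'o (fun hh => hn'U ((memUK hn'L).1 hh))
  have hn'u : Commute n' u := h.commute_u hn'L 1 (by rw [pow_one, hn'o])
  have hwz : zpowers w ≤ normalizer (zpowers n' : Set X) :=
    le_normalizer_zpowers fun l hl => (commute_of_mem_zpowers hn'w hl).symm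
  have huz : zpowers u ≤ normalizer (zpowers n' : Set X) :=
    le_normalizer_zpowers fun l hl => (commute_of_mem_zpowers hn'u hl).symm
  have key := fpf_centralizes h.big.one.hs h.big.one.hpr h.big.one.hps h.big.one.hrs hw
    (P := zpowers u) (V := V ⊓ centralizer (zpowers n' : Set X)) (isPGroup_zpowers h.hu)
    (Or.inr fun a ha b hb => commute_zpowers ha hb)
    (h.big.one.isPV.to_le inf_le_left) (fun v hv => h.big.one.Vp v hv.1) (h.un hwL)
    (le_normalizer_fixed (zpowers_le.2 (h.big.one.HV (h.LH hwL))) hwz (mem_zpowers w))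
    (le_normalizer_fixed (zpowers_le.2 (h.big.one.HV (h.LH h.uL))) huz)
    (fun v hv hwv => by_contra fun hv1 => h.big.one.triV hn'o hw hn'w hv.1 hv1
      (Subgroup.mem_centralizer_iff.1 hv.2 n' (mem_zpowers n')) hwv)
  set d := u⁻¹ * (w * u * w⁻¹) with hd
  have hd1 : d ≠ 1 := fun e => h.big.noTwo h.hu hw
    ((mul_inv_eq_iff_eq_mul.1 (inv_mul_eq_one.1 e).symm : Commute w u)).symm h.uN hwN
  have hud : u ∈ zpowers d := mem_zpowers_of_ne_one h.big.one.hr h.hu
    (mul_mem (inv_mem (mem_zpowers u)) (conj_mem_of_le_normalizer h.un hwL (mem_zpowers u))) hd1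
  exact hv₀1 (h.big.fpfV h.hu h.uN v₀ hv₀ (commute_of_mem_zpowers
    (key u (mem_zpowers u) v₀ ⟨hv₀, Subgroup.mem_centralizer_iff.2 fun y hy =>
      (commute_of_mem_zpowers hnv₀.symm hy).symm.eq⟩).symm hud).symm)

/-- An element of order `r` commuting with one of order `s` lies in `⟨u⟩`. -/
theorem gfix (h : Sit σ p q r s H V N L u) {g e : X} (hgL : g ∈ L) (hg : orderOf g = r)
    (heL : e ∈ L) (he : orderOf e = s) (hge : Commute g e) : g ∈ zpowers u := by
  by_contra hn
  rcases h.big.pair (h.LH hgL) (h.LH heL) hg he hge with hgN | heN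
  · refine h.big.noEl (el2_of_commute h.big.one.hr h.hu hg
      (h.commute_u hgL 1 (by rw [pow_one, hg])).symm hn)
      (sup_le (zpowers_le.2 (h.LH h.uL)) (zpowers_le.2 (h.LH hgL))) fun x hx m hm => ?_
    have : zpowers u ⊔ zpowers g ≤ centralizer (N : Set X) :=
      sup_le (zpowers_le.2 (Subgroup.mem_centralizer_iff.2 fun m hm => (h.uN m hm).symm.eq))
        (zpowers_le.2 (Subgroup.mem_centralizer_iff.2 fun m hm => (hgN m hm).symm.eq))
    exact (Subgroup.mem_centralizer_iff.1 (this hx) m hm : m * x = x * m).symm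
  · exact h.noKs heL he heN

theorem false (h : Sit σ p q r s H V N L u) : False := by
  have hr := h.big.one.hr
  have hs := h.big.one.hs
  haveI := Fact.mk hr
  haveI := Fact.mk hs
  haveI := h.big.one.solv
  obtain ⟨E, hEL, hE⟩ := h.Es
  obtain ⟨w, hw, hw1, x₀, hx₀, hx₀1, hwx₀⟩ := exists_fixed hs h.big.one.hrs hE
    (isPGroup_zpowers h.hu) (fun hb => hr.ne_one (by
      rw [Subgroup.zpowers_eq_bot] at hb
      rw [← h.hu, hb, orderOf_one])) (hEL.trans h.un)
  have hwu : Commute w u :=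
    commute_of_mem_zpowers hwx₀ (mem_zpowers_of_ne_one hr h.hu hx₀ hx₀1)
  have hwo : orderOf w = s := hE.orderOf_eq hs hw hw1
  set D := L ⊓ centralizer (zpowers u : Set X) with hD
  have hDu : ∀ {x : X}, x ∈ D → Commute x u := fun {x} hx =>
    (Subgroup.mem_centralizer_iff.1 hx.2 u (mem_zpowers u) : u * x = x * u).symm
  have hwD : w ∈ D := ⟨hEL hw, Subgroup.mem_centralizer_iff.2 fun y hy =>
    (commute_of_mem_zpowers hwu hy).symm.eq⟩
  have huD : u ∈ D := ⟨h.uL, Subgroup.mem_centralizer_iff.2 fun y hy =>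
    commute_zpowers hy (mem_zpowers u)⟩
  have hLD : L ≤ normalizer (D : Set X) :=
    le_normalizer_fixed (Subgroup.le_normalizer (H := L)) h.un
  have hDL : D ≤ L := inf_le_left
  set R := (Cfsg.pCore r D).map D.subtype with hR
  have hRD : R ≤ D := Subgroup.map_subtype_le _
  have hRp : IsPGroup r R := isPGroup_pCore_map D r
  have hLR : L ≤ normalizer (R : Set X) := le_normalizer_pCore hLD r
  have huR : u ∈ R := by
    let Z : Subgroup D := zpowers ⟨u, huD⟩
    have hZ : Z.Normal := ⟨fun x hx k => by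
      obtain ⟨i, rfl⟩ := hx
      have : k * (⟨u, huD⟩ : D) * k⁻¹ = ⟨u, huD⟩ := Subtype.ext (by
        show (k : X) * u * (k : X)⁻¹ = u
        rw [(hDu k.2).eq, mul_inv_cancel_right])
      simp only
      rw [← conj_zpow, this]
      exact ⟨i, rfl⟩⟩
    exact ⟨_, Solvable.le_pCore hZ (IsPGroup.of_card (n := 1) (by
      rw [Nat.card_zpowers, Subgroup.orderOf_mk, h.hu, pow_one])) (mem_zpowers _), rfl⟩
  -- only the line of `w` centralises elements of `R` outside `⟨u⟩`
  have huniqR : ∀ x ∈ R, orderOf x = r → x ∈ zpowers u := by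
    intro x hxR hxo
    have hab : IsMulCommutative E := ⟨⟨fun a b => Subtype.ext (hE.comm a a.2 b b.2).eq⟩⟩
    have hnc : ¬ IsCyclic E := fun hc => by
      obtain ⟨g, hg⟩ := hc.exists_generator
      have h1 : orderOf g = s ^ 2 := hE.card ▸ orderOf_eq_card_of_forall_mem_zpowers hg
      have h2 : orderOf g ∣ s :=
        orderOf_dvd_of_pow_eq_one (Subtype.ext (by simpa using hE.pow g g.2))
      rw [h1] at h2
      nlinarith [Nat.le_of_dvd hs.pos h2, hs.two_le]
    have hgen := Coprime.iSup_centralizer_eq hab hnc (hEL.trans hLR)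
      (IsPGroup.coprime_card_of_ne s r h.big.one.hrs.symm E R hE.isPGroup hRp)
    have hle : R ≤ centralizer ({w} : Set X) := by
      rw [← hgen]
      refine iSup_le fun a y hy => ?_
      obtain ⟨hyR, hya⟩ := hy
      have hay : Commute (a : X) y := Subgroup.mem_centralizer_iff.1 hya a rfl
      have hao : orderOf (a : X) = s := hE.orderOf_eq hs a.2.1 a.2.2
      refine Subgroup.mem_centralizer_iff.2 fun t ht => ?_
      rw [Set.mem_singleton_iff] at ht
      rw [ht]
      by_cases hau : Commute (a : X) u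
      · by_cases haw : (a : X) ∈ zpowers w
        · exact (commute_of_mem_zpowers hay.symm
            (mem_zpowers_of_ne_one hs hwo haw a.2.2)).symm.eq
        · refine (h.noElD (el2_of_commute hs hwo hao (hE.comm w hw a a.2.1) haw)
            (sup_le (zpowers_le.2 (hEL hw)) (zpowers_le.2 (hEL a.2.1))) fun e he => ?_).elim
          have : zpowers w ⊔ zpowers (a : X) ≤ centralizer ({u} : Set X) :=
            sup_le (zpowers_le.2 (Subgroup.mem_centralizer_singleton_iff.2 hwu.eq))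
              (zpowers_le.2 (Subgroup.mem_centralizer_singleton_iff.2 hau.eq))
          exact Subgroup.mem_centralizer_singleton_iff.1 (this he)
      · by_cases hy1 : y = 1
        · subst hy1; simp
        exfalso
        obtain ⟨k, hk, hkR⟩ := exists_orderOf_pow hRp hyR hy1
        have hmem := h.gfix (hDL (hRD hkR)) hk (hEL a.2.1) hao (hay.symm.pow_left k)
        exact hau (commute_of_mem_zpowers (hay.pow_right k)
          (mem_zpowers_of_ne_one hr h.hu hmem (fun e => hr.ne_one (by rw [← hk, e, orderOf_one]))))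
    exact h.gfix (hDL (hRD hxR)) hxo (hEL hw) hwo
      ((Subgroup.mem_centralizer_iff.1 (hle hxR) w rfl : w * x = x * w).symm)
  have hr2 : r ≠ 2 := by
    have := h.s_lt_r
    have := hs.two_le
    omega
  have hcyc : IsCyclic R := cyclic_of_unique hr2 hRp fun x hx y hy hxo hyo => by
    refine zpowers_le.2 (mem_zpowers_of_ne_one hr h.hu (huniqR x hx hxo)
      (fun e => hr.ne_one (by rw [← hxo, e, orderOf_one]))) (huniqR y hy hyo)
  have hwR := commute_cyclic hs h.big.one.hrs hRp hcyc hwo (hLR (hEL hw)) huR h.hu hwu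
  have : Group.IsSolvable D := by
    have hDH : D ≤ H := hDL.trans h.LH
    exact Group.isSolvable_of_isSolvable_injective (Subgroup.inclusion_injective hDH)
  by_cases hS : Cfsg.pCore s D = ⊥
  · have hF : Cfsg.fittingSubgroup D ≤ Cfsg.pCore r D := by
      rw [Solvable.fittingSubgroup_eq_iSup_pCore]
      refine iSup_le fun t => ?_
      by_cases hd : (t : ℕ) ∣ Nat.card D
      · rcases h.primesL t t.2 (hd.trans (Subgroup.card_dvd_of_le hDL)) with e | e
        · rw [e]
        · rw [e, hS]; exact bot_le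
      · rw [pCore_eq_bot_of_not_dvd D t.2 hd]; exact bot_le
    have hwF : (⟨w, hwD⟩ : D) ∈ Cfsg.pCore r D :=
      hF (Solvable.centralizer_fittingSubgroup_le (Subgroup.mem_centralizer_iff.2 fun y hy =>
        Subtype.ext (hwR y (Subgroup.mem_map_of_mem _ (hF hy))).symm.eq))
    obtain ⟨j, hj⟩ := IsPGroup.iff_orderOf.1 (Solvable.pCore_isPGroup (G := ↥D) r) ⟨_, hwF⟩
    rw [Subgroup.orderOf_mk, Subgroup.orderOf_mk, hwo] at hj
    exact h.big.one.hrs ((Nat.prime_dvd_prime_iff_eq hs hr).1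
      (hs.dvd_of_dvd_pow (n := j) ⟨1, by rw [mul_one]; exact hj.symm⟩)).symm
  · set S := (Cfsg.pCore s D).map D.subtype with hSdef
    have hSp : IsPGroup s S := isPGroup_pCore_map D s
    have hS1 : S ≠ ⊥ := by
      rwa [hSdef, Ne, Subgroup.map_eq_bot_iff_of_injective _ D.subtype_injective]
    have hSD : S ≤ D := Subgroup.map_subtype_le _
    have hLZ := le_normalizer_center (le_normalizer_pCore hLD s)
    rcases el2_or_unique (hSp.to_le (inf_le_left (b := centralizer (S : Set X)))) with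
      ⟨E', hE'Z, hE'⟩ | huniq
    · exact h.noElD hE' (((hE'Z.trans inf_le_left).trans hSD).trans hDL)
        fun e he => hDu (hSD (hE'Z he).1)
    obtain ⟨y, hyZ, hy⟩ := exists_orderOf_center hSp hS1
    obtain ⟨E'', hE''L, hE''⟩ := h.Er
    obtain ⟨g, hg, hgu⟩ := hE''.not_mem_zpowers hr h.hu
    have hgo : orderOf g = r := hE''.orderOf_eq hr hg (fun e => hgu (e ▸ one_mem _))
    have hgy : Commute g y := commute_of_coprime hs hy
      (normalizes_of_unique hLZ hyZ hy huniq (hE''L hg))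
      (by rw [hgo, ← pow_one r]; exact h.r_coprime 1)
    exact hgu (h.gfix (hE''L hg) hgo (hDL (hSD hyZ.1)) hy hgy)

end Sit

theorem Big.false {σ : Finset ℕ} {p q r s : ℕ} {H V N : Subgroup X}
    (h : Big σ p q r s H V N) : False := by
  have hq := h.one.hq
  have hr := h.one.hr
  have hs := h.one.hs
  haveI := Fact.mk hq
  haveI := Fact.mk hr
  haveI := Fact.mk hs
  haveI := h.one.solv
  obtain ⟨g, hgH, hg⟩ := h.one.edgers
  set k := (Nat.card H).factorization q with hk
  set m := Nat.card H / q ^ k with hm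
  have hHcard : Nat.card H = m * q ^ k := by
    rw [mul_comm, hm, hk, Nat.ordProj_mul_ordCompl_eq_self]
  have hmq : m.Coprime (q ^ k) :=
    Nat.Coprime.pow_right _
      ((Nat.Prime.coprime_iff_not_dvd hq).2 (Nat.not_dvd_ordCompl hq Nat.card_pos.ne')).symm
  obtain ⟨L₀, hL₀, hgL₀⟩ := Solvable.exists_hall_ge (G := ↥H) hHcard hmq
    (K := zpowers (⟨g, hgH⟩ : H)) (by
      rw [Nat.card_zpowers, Subgroup.orderOf_mk, hg]
      exact Nat.Coprime.pow_right _ (Nat.Coprime.mul_left ((Nat.coprime_primes hr hq).2 h.one.hqr.symm)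
        ((Nat.coprime_primes hs hq).2 h.one.hqs.symm)))
  set L := L₀.map H.subtype with hL
  have hLH : L ≤ H := Subgroup.map_subtype_le _
  have hgL : g ∈ L := ⟨⟨g, hgH⟩, hgL₀ (mem_zpowers _), rfl⟩
  have hcardL : Nat.card L = m := by rw [hL, Solvable.card_map_subtype, hL₀]
  have hprimes : ∀ t : ℕ, t.Prime → t ∣ Nat.card L → t = r ∨ t = s := by
    intro t ht hd
    rcases h.one.primes t ht (hd.trans (Subgroup.card_dvd_of_le hLH)) with e | e | e
    · rw [e, hcardL] at hd
      exact absurd hd (Nat.not_dvd_ordCompl hq Nat.card_pos.ne')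
    · exact Or.inl e
    · exact Or.inr e
  have hEl : ∀ t : ℕ, t.Prime → t ≠ q → (∃ E : Subgroup X, E ≤ H ∧ El2 t E) →
      ∃ E : Subgroup X, E ≤ L ∧ El2 t E := by
    rintro t ht htq ⟨E, hEH, hE⟩
    obtain ⟨c, hc⟩ := Solvable.exists_conj_le_hall (G := ↥H) hHcard hmq hL₀ (K := E.subgroupOf H) (by
      rw [Nat.card_congr (Subgroup.subgroupOfEquivOfLe hEH).toEquiv, hE.card]
      exact Nat.Coprime.pow _ _ ((Nat.coprime_primes ht hq).2 htq))
    refine ⟨E.map (MulAut.conj (c : X)).toMonoidHom, ?_, hE.map _ fun e _ he => ?_⟩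
    · rintro _ ⟨e, he, rfl⟩
      exact ⟨c * ⟨e, hEH he⟩ * c⁻¹, hc (Subgroup.smul_mem_pointwise_smul (⟨e, hEH he⟩ : H)
        (MulAut.conj c) _ he), rfl⟩
    · exact (MulAut.conj (c : X)).injective (by rw [map_one]; exact he)
  have hLr := hEl r hr h.one.hqr.symm h.one.Er
  have hLs := hEl s hs h.one.hqs.symm h.one.Es
  let U : Subgroup ↥L := (centralizer (N : Set X)).comap L.subtype
  have hUn : U.Normal := ⟨fun x hx l => by
    show (l : X) * x * (l : X)⁻¹ ∈ centralizer (N : Set X)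
    refine Subgroup.mem_centralizer_iff.2 fun n hn => ?_
    have h1 := conj_mem_of_le_normalizer (hLH.trans h.HN) (inv_mem l.2) hn
    have h2 : ((l : X)⁻¹ * n * (l : X)⁻¹⁻¹) * x = x * ((l : X)⁻¹ * n * (l : X)⁻¹⁻¹) :=
      Subgroup.mem_centralizer_iff.1 (Subgroup.mem_comap.1 hx) _ h1
    calc n * ((l : X) * x * (l : X)⁻¹) = l * (((l : X)⁻¹ * n * (l : X)⁻¹⁻¹) * x) * (l : X)⁻¹ := by
          group
      _ = (l : X) * x * (l : X)⁻¹ * n := by rw [h2]; group⟩
  have hra : orderOf (g ^ s) = r := by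
    rw [orderOf_pow, hg, Nat.gcd_mul_left_left, Nat.mul_div_cancel _ hs.pos]
  have hsb : orderOf (g ^ r) = s := by
    rw [orderOf_pow, hg, Nat.gcd_mul_right_left, Nat.mul_div_cancel_left _ hr.pos]
  have hU1 : U ≠ ⊥ := by
    intro hbot
    have key : ∀ (t : ℕ), t.Prime → ∀ x ∈ L, orderOf x = t → (∀ n ∈ N, Commute x n) → False :=
      fun t ht x hx hxo hxN => ht.ne_one (by
        have : (⟨x, hx⟩ : L) ∈ U := Subgroup.mem_comap.2
          (Subgroup.mem_centralizer_iff.2 fun n hn => (hxN n hn).symm.eq)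
        rw [hbot, Subgroup.mem_bot] at this
        rw [← hxo, show x = 1 from congrArg Subtype.val this, orderOf_one])
    rcases h.pair (pow_mem hgH s) (pow_mem hgH r) hra hsb ((Commute.refl g).pow_pow s r) with hh | hh
    · exact key r hr _ (pow_mem hgL s) hra hh
    · exact key s hs _ (pow_mem hgL r) hsb hh
  have : Group.IsSolvable L := Group.isSolvable_of_isSolvable_injective (Subgroup.inclusion_injective hLH)
  obtain ⟨M, hMn, hM1, hMU, hMmin⟩ := Solvable.exists_minimal_normal_le hUn hU1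
  obtain ⟨t, ht, hMp, -, -⟩ := Solvable.exists_isPGroup_of_minimal_normal hM1 hMmin
  haveI := Fact.mk ht
  have htd : t ∣ Nat.card L := by
    obtain ⟨n, hn⟩ := IsPGroup.iff_card.1 hMp
    rcases n with _ | n
    · exact absurd (Subgroup.card_eq_one.1 (by simpa using hn)) hM1
    · exact (hn ▸ dvd_pow_self t (Nat.succ_ne_zero n)).trans (Subgroup.card_subgroup_dvd_card M)
  set M' := M.map L.subtype with hM'
  have hM'L : M' ≤ L := Subgroup.map_subtype_le _
  have hM'p : IsPGroup t M' := hMp.map _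
  have hM'N : ∀ x ∈ M', ∀ n ∈ N, Commute x n := by
    rintro _ ⟨x, hx, rfl⟩ n hn
    exact (Subgroup.mem_centralizer_iff.1 (Subgroup.mem_comap.1 (hMU hx)) n hn : n * _ = _).symm
  have hLM : L ≤ normalizer (M' : Set X) := le_normalizer_of_conj fun l hl x hx => by
    obtain ⟨y, hy, rfl⟩ := hx
    exact ⟨_, hMn.conj_mem y hy ⟨l, hl⟩, rfl⟩
  have finish : ∀ {r s : ℕ} (h : Big σ p q r s H V N),
      (∀ t : ℕ, t.Prime → t ∣ Nat.card L → t = r ∨ t = s) →
      (∃ E : Subgroup X, E ≤ L ∧ El2 r E) → (∃ E : Subgroup X, E ≤ L ∧ El2 s E) → t = r → False := by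
    intro r s h hpr hEr hEs htr
    subst htr
    rcases el2_or_unique hM'p with ⟨E, hEM, hE⟩ | huniq
    · exact h.noEl hE ((hEM.trans hM'L).trans hLH) fun e he => hM'N e (hEM he)
    · obtain ⟨x, hx, hx1⟩ : ∃ x ∈ M', x ≠ 1 := by
        by_contra hcon
        push Not at hcon
        exact hM1 ((Subgroup.map_eq_bot_iff_of_injective _ L.subtype_injective).1
          ((Subgroup.eq_bot_iff_forall M').2 hcon))
      obtain ⟨j, hj, hjM⟩ := exists_orderOf_pow hM'p hx hx1
      exact Sit.false (L := L) (u := x ^ j) ⟨h, hLH, hpr, hEr, hEs, hM'L hjM, hj,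
        normalizes_of_unique hLM hjM hj huniq, hM'N _ hjM⟩
  rcases hprimes t ht htd with e | e
  · exact finish h hprimes hLr hLs e
  · exact finish h.swap (fun a b c => (hprimes a b c).symm) hLs hLr e

namespace One

variable {σ : Finset ℕ} {p q r s : ℕ} {H V : Subgroup X}

/-- The `q`-core is cyclic; a central element of order `q` in it spans a normal subgroup. -/
theorem core (h : One σ p q r s H V) :
    IsCyclic (Cfsg.pCore q H) ∧ ((Cfsg.pCore q H ≠ ⊥) →
      ∃ z ∈ (Cfsg.pCore q H).map H.subtype, orderOf z = q ∧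
        H ≤ normalizer (zpowers z : Set X)) := by
  haveI := Fact.mk h.hq
  set R := (Cfsg.pCore q H).map H.subtype with hR
  have hRH : R ≤ H := Subgroup.map_subtype_le _
  have hRp : IsPGroup q R := isPGroup_pCore_map H q
  have hHR : H ≤ normalizer (R : Set X) := le_normalizer_pCore Subgroup.le_normalizer q
  have e : ↥(Cfsg.pCore q H) ≃* R := (Cfsg.pCore q H).equivMapOfInjective _ H.subtype_injective
  by_cases hR1 : R = ⊥
  · have : Subsingleton R := by rw [hR1]; infer_instance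
    have : Subsingleton (Cfsg.pCore q H) := e.toEquiv.subsingleton
    exact ⟨inferInstance, fun hne => absurd
      ((Subgroup.map_eq_bot_iff_of_injective _ H.subtype_injective).1 hR1) hne⟩
  have hHZ := le_normalizer_center hHR
  have hZp : IsPGroup q ↥(R ⊓ centralizer (R : Set X)) := hRp.to_le inf_le_left
  rcases el2_or_unique hZp with ⟨E, hEZ, hE⟩ | huniq
  · exact (Big.false (N := R ⊓ centralizer (R : Set X)) ⟨h, inf_le_left.trans hRH, hZp, hHZ,
      Or.inr fun a ha b hb => (Subgroup.mem_centralizer_iff.1 hb.2 a ha.1), E, hEZ, hE⟩).elim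
  obtain ⟨z, hzZ, hz⟩ := exists_orderOf_center hRp hR1
  have hn := normalizes_of_unique hHZ hzZ hz huniq
  have hq2 : q ≠ 2 := by
    intro hq2
    obtain ⟨g, hgH, hg⟩ := h.edgers
    have hgz : Commute g z := commute_of_coprime h.hq hz (hn hgH) (by
      rw [hq2]; exact Nat.coprime_one_right _)
    refine h.tri3 hz (a := g ^ s) (b := g ^ r) ?_ ?_ (hgz.symm.pow_right s) (hgz.symm.pow_right r)
      ((Commute.refl g).pow_pow s r)
    · rw [orderOf_pow, hg, Nat.gcd_mul_left_left, Nat.mul_div_cancel _ h.hs.pos]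
    · rw [orderOf_pow, hg, Nat.gcd_mul_right_left, Nat.mul_div_cancel_left _ h.hr.pos]
  rcases el2_or_unique hRp with ⟨E, hER, hE⟩ | hu
  · exact (Big.false (N := R) ⟨h, hRH, hRp, hHR, Or.inl hq2, E, hER, hE⟩).elim
  have hcyc : IsCyclic R := cyclic_of_unique hq2 hRp hu
  exact ⟨isCyclic_of_injective e.toMonoidHom e.injective, fun _ => ⟨z, hzZ.1, hz, hn⟩⟩

theorem false (h : One σ p q r s H V) : False := by
  classical
  haveI := h.solv
  have hne : Nontrivial H := by
    obtain ⟨g, hgH, hg⟩ := h.edgers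
    refine ⟨⟨g, hgH⟩, 1, fun e => ?_⟩
    have : g = 1 := congrArg Subtype.val e
    rw [this, orderOf_one] at hg
    exact h.hr.ne_one (Nat.eq_one_of_mul_eq_one_right hg.symm)
  let S : Finset ℕ := {q, r, s}
  have hprime : ∀ t ∈ S, t.Prime := by
    simp only [S, Finset.mem_insert, Finset.mem_singleton, forall_eq_or_imp, forall_eq]
    exact ⟨h.hq, h.hr, h.hs⟩
  have hcore : ∀ t ∈ S, IsCyclic (Cfsg.pCore t H) ∧ ((Cfsg.pCore t H ≠ ⊥) →
      ∃ z ∈ (Cfsg.pCore t H).map H.subtype, orderOf z = t ∧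
        H ≤ normalizer (zpowers z : Set X)) := by
    simp only [S, Finset.mem_insert, Finset.mem_singleton, forall_eq_or_imp, forall_eq]
    exact ⟨h.core, h.rot.core, h.rot.rot.core⟩
  have hEl : ∀ t ∈ S, ∃ E : Subgroup X, E ≤ H ∧ El2 t E := by
    simp only [S, Finset.mem_insert, Finset.mem_singleton, forall_eq_or_imp, forall_eq]
    exact ⟨h.Eq', h.Er, h.Es⟩
  have hout : ∀ t : ℕ, t.Prime → t ∉ S → Cfsg.pCore t H = ⊥ := fun t ht htS =>
    pCore_eq_bot_of_not_dvd H ht fun hd => htS (by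
      rcases h.primes t ht hd with e | e | e <;> simp [S, e])
  set T := S.filter fun t => Cfsg.pCore t H ≠ ⊥ with hT
  have hTne : T.Nonempty := by
    by_contra hcon
    rw [Finset.not_nonempty_iff_eq_empty] at hcon
    refine Solvable.fittingSubgroup_ne_bot (G := ↥H) ?_
    rw [Solvable.fittingSubgroup_eq_iSup_pCore]
    refine iSup_eq_bot.2 fun t => by_contra fun hne => ?_
    by_cases htS : (t : ℕ) ∈ S
    · exact Finset.eq_empty_iff_forall_notMem.1 hcon t (Finset.mem_filter.2 ⟨htS, hne⟩)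
    · exact hne (hout t t.2 htS)
  set t₀ := T.max' hTne with ht₀
  have ht₀S : t₀ ∈ S := (Finset.mem_filter.1 (T.max'_mem hTne)).1
  have ht₀p := hprime t₀ ht₀S
  haveI := Fact.mk ht₀p
  obtain ⟨E, hEH, hE⟩ := hEl t₀ ht₀S
  have hE' : El2 t₀ (E.subgroupOf H) :=
    ⟨fun a ha b hb => Subtype.ext (hE.comm a ha b hb).eq,
      fun a ha => Subtype.ext (by simpa using hE.pow a ha),
      by rw [← hE.card]; exact Nat.card_congr (Subgroup.subgroupOfEquivOfLe hEH).toEquiv⟩
  refine false_of_cyclic_cores (X := ↥H) (fun t ht => ?_) hE' fun a ha t ht htt x hx => ?_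
  · by_cases htS : t ∈ S
    · exact (hcore t htS).1
    · rw [hout t ht htS]; infer_instance
  by_cases ha1 : a = 1
  · exact ha1 ▸ Commute.one_left x
  by_cases htT : t ∈ T
  · haveI := Fact.mk ht
    obtain ⟨htS, htne⟩ := Finset.mem_filter.1 htT
    obtain ⟨hcyc, hz'⟩ := hcore t htS
    obtain ⟨z, hzR, hz, hn⟩ := hz' htne
    have hao : orderOf (a : X) = t₀ := hE.orderOf_eq ht₀p ha (fun e => ha1 (Subtype.ext e))
    have hlt : t < t₀ := lt_of_le_of_ne (T.le_max' t htT) htt
    have haz : Commute (a : X) z := commute_of_coprime ht hz (hn a.2) (by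
      rw [hao]
      refine (Nat.Prime.coprime_iff_not_dvd ht₀p).2 fun hd => ?_
      have h2 := ht.two_le
      have := Nat.le_of_dvd (by omega) hd
      omega)
    have hcyc' : IsCyclic ((Cfsg.pCore t H).map H.subtype) :=
      isCyclic_of_injective
        ((Cfsg.pCore t H).equivMapOfInjective _ H.subtype_injective).symm.toMonoidHom
        (MulEquiv.injective _)
    exact Subtype.ext (commute_cyclic ht₀p htt (isPGroup_pCore_map H t) hcyc' hao
      (le_normalizer_pCore Subgroup.le_normalizer t a.2) hzR hz haz x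
      (Subgroup.mem_map_of_mem _ hx)).eq
  · have hbot : Cfsg.pCore t H = ⊥ := by
      by_contra hne
      by_cases htS : t ∈ S
      · exact htT (Finset.mem_filter.2 ⟨htS, hne⟩)
      · exact hne (hout t ht htS)
    rw [hbot, Subgroup.mem_bot] at hx
    subst hx
    exact Commute.one_right a

end One

end CfsgLib.ClassK.FourPrimes
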