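import Mathlib
import Cfsg.Agent.Lib.OddLocal.HallHigmanFix
import Cfsg.Agent.Lib.Coprime.Generation
import Cfsg.Agent.Lib.Solvable.HallHigman
import Cfsg.Agent.Lib.Solvable.UniqueSubgroup

/-!
Tools for element orders in solvable groups: elementary subgroups of order `r ^ 2`, coprime fixed
points, and Frobenius actions.
-/

set_option autoImplicit false
set_option linter.unusedSectionVars false

namespace CfsgLib.ClassK.FourPrimes

open Subgroup

universe u

variable {X : Type u} [Group X]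

/-- Elementary abelian of order `r ^ 2`. -/
structure El2 (r : ℕ) (E : Subgroup X) : Prop where
  comm : ∀ a ∈ E, ∀ b ∈ E, Commute a b
  pow : ∀ e ∈ E, e ^ r = 1
  card : Nat.card E = r ^ 2

/-- No three commuting elements of distinct prime orders from `σ`. -/
def NoTriple (X : Type u) [Group X] (σ : Finset ℕ) : Prop :=
  ∀ a b c : X, orderOf a ∈ σ → orderOf b ∈ σ → orderOf c ∈ σ → orderOf a ≠ orderOf b →
    orderOf a ≠ orderOf c → orderOf b ≠ orderOf c →
    Commute a b → Commute a c → Commute b c → False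

section

variable {r : ℕ} {E : Subgroup X}

theorem El2.orderOf_eq (hr : r.Prime) (hE : El2 r E) {e : X} (he : e ∈ E) (h1 : e ≠ 1) :
    orderOf e = r :=
  haveI := Fact.mk hr
  orderOf_eq_prime (hE.pow e he) h1

theorem El2.isPGroup (hE : El2 r E) : IsPGroup r E := IsPGroup.of_card hE.card

theorem El2.not_mem_zpowers (hr : r.Prime) (hE : El2 r E) {x : X} (hx : orderOf x = r) :
    ∃ e ∈ E, e ∉ zpowers x := by
  by_contra h
  push Not at h
  have hle : E ≤ zpowers x := h
  have : Finite (zpowers x) := Nat.finite_of_card_ne_zero (by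
    rw [Nat.card_zpowers, hx]; exact hr.ne_zero)
  have h2 := Nat.le_of_dvd (Nat.card_pos) (Subgroup.card_dvd_of_le hle)
  rw [hE.card, Nat.card_zpowers, hx] at h2
  nlinarith [hr.two_le]

theorem El2.map {Y : Type u} [Group Y] (hE : El2 r E) (f : X →* Y)
    (hf : ∀ e ∈ E, f e = 1 → e = 1) : El2 r (E.map f) := by
  refine ⟨?_, ?_, ?_⟩
  · rintro _ ⟨a, ha, rfl⟩ _ ⟨b, hb, rfl⟩
    exact (hE.comm a ha b hb).map f
  · rintro _ ⟨a, ha, rfl⟩
    rw [← map_pow, hE.pow a ha, map_one]
  · rw [← hE.card]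
    refine (Nat.card_congr (Equiv.ofBijective
      (fun e : E => (⟨f e, Subgroup.mem_map_of_mem f e.2⟩ : E.map f)) ⟨?_, ?_⟩)).symm
    · intro a b h
      have h' : f (a : X) = f b := congrArg Subtype.val h
      have : (a : X) * (b : X)⁻¹ = 1 :=
        hf _ (mul_mem a.2 (inv_mem b.2)) (by rw [map_mul, map_inv, h', mul_inv_cancel])
      exact Subtype.ext (mul_inv_eq_one.1 this)
    · rintro ⟨_, a, ha, rfl⟩
      exact ⟨⟨a, ha⟩, rfl⟩

end

theorem exists_orderOf_pow {p : ℕ} [hp : Fact p.Prime] [Finite X] {P : Subgroup X}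
    (hP : IsPGroup p P) {x : X} (hx : x ∈ P) (h1 : x ≠ 1) :
    ∃ k : ℕ, orderOf (x ^ k) = p ∧ x ^ k ∈ P := by
  obtain ⟨j, hj⟩ := IsPGroup.iff_orderOf.1 hP ⟨x, hx⟩
  rw [Subgroup.orderOf_mk] at hj
  have hd : p ∣ orderOf x := by
    rcases j with _ | j
    · exact absurd (orderOf_eq_one_iff.1 (by simpa using hj)) h1
    · exact hj ▸ dvd_pow_self p (Nat.succ_ne_zero j)
  exact ⟨_, orderOf_pow_orderOf_div (orderOf_pos x).ne' hd, pow_mem hx _⟩

theorem commute_of_mem_zpowers {x y a : X} (h : Commute a x) (hy : y ∈ zpowers x) :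
    Commute a y := by
  obtain ⟨k, rfl⟩ := Subgroup.mem_zpowers_iff.1 hy
  exact h.zpow_right k

theorem mem_zpowers_of_ne_one [Finite X] {r : ℕ} (hr : r.Prime) {x y : X} (hx : orderOf x = r)
    (hy : y ∈ zpowers x) (h1 : y ≠ 1) : x ∈ zpowers y := by
  have hle : zpowers y ≤ zpowers x := zpowers_le.2 hy
  have hd := Subgroup.card_dvd_of_le hle
  rw [Nat.card_zpowers, Nat.card_zpowers, hx] at hd
  rcases (Nat.dvd_prime hr).1 hd with h | h
  · exact absurd (orderOf_eq_one_iff.1 h) h1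
  · rw [Subgroup.eq_of_le_of_card_ge hle (by rw [Nat.card_zpowers, Nat.card_zpowers, hx, h])]
    exact mem_zpowers x

/-- Two commuting elements of order `r` generating more than a cyclic group. -/
theorem el2_of_commute [Finite X] {r : ℕ} (hr : r.Prime) {x y : X} (hx : orderOf x = r)
    (hy : orderOf y = r) (hc : Commute x y) (hn : y ∉ zpowers x) :
    El2 r (zpowers x ⊔ zpowers y) := by
  have hyn : zpowers y ≤ normalizer (zpowers x : Set X) := by
    refine zpowers_le.2 (Subgroup.mem_normalizer_iff.2 fun h => ?_)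
    constructor
    · rintro ⟨k, rfl⟩
      exact ⟨k, by simp only; rw [(hc.zpow_left k).symm.eq, mul_inv_cancel_right]⟩
    · rintro ⟨k, hk⟩
      refine ⟨k, ?_⟩
      simp only at hk ⊢
      calc x ^ k = y⁻¹ * (y * x ^ k) := (inv_mul_cancel_left _ _).symm
        _ = y⁻¹ * (x ^ k * y) := by rw [(hc.zpow_left k).eq]
        _ = h := by rw [hk]; group
  have key : ∀ a ∈ zpowers x ⊔ zpowers y, ∃ i j : ℤ, a = x ^ i * y ^ j := by
    intro a ha
    rw [← SetLike.mem_coe, Subgroup.coe_mul_of_right_le_normalizer_left _ _ hyn] at ha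
    obtain ⟨_, ⟨i, rfl⟩, _, ⟨j, rfl⟩, rfl⟩ := ha
    exact ⟨i, j, rfl⟩
  have hcomm : ∀ i j : ℤ, Commute (x ^ i) (y ^ j) := fun i j => hc.zpow_zpow i j
  refine ⟨?_, ?_, ?_⟩
  · intro a ha b hb
    obtain ⟨i, j, rfl⟩ := key a ha
    obtain ⟨k, l, rfl⟩ := key b hb
    exact (((Commute.refl x).zpow_zpow i k).mul_right (hcomm i l)).mul_left
      (((hcomm k j).symm).mul_right ((Commute.refl y).zpow_zpow j l))
  · intro a ha
    obtain ⟨i, j, rfl⟩ := key a ha
    have h1 : ∀ (z : X) (n : ℤ), orderOf z = r → (z ^ n) ^ r = 1 := fun z n hz => by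
      rw [← zpow_natCast, ← zpow_mul, mul_comm, zpow_mul, zpow_natCast, ← hz, pow_orderOf_eq_one,
        one_zpow]
    rw [(hcomm i j).mul_pow, h1 x i hx, h1 y j hy, one_mul]
  · have hdisj : zpowers x ⊓ zpowers y = ⊥ := by
      rw [Subgroup.eq_bot_iff_forall]
      rintro a ⟨hax, hay⟩
      by_contra h1
      have : y ∈ zpowers a := mem_zpowers_of_ne_one hr hy hay h1
      exact hn (zpowers_le.2 hax this)
    let f : zpowers x × zpowers y → ↥(zpowers x ⊔ zpowers y) := fun p =>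
      ⟨p.1 * p.2, mul_mem_sup p.1.2 p.2.2⟩
    have hbij : Function.Bijective f := by
      refine ⟨fun p q h => ?_, fun a => ?_⟩
      · have h' : (p.1 : X) * p.2 = q.1 * q.2 := congrArg Subtype.val h
        have h2 : (q.1 : X)⁻¹ * p.1 = q.2 * (p.2 : X)⁻¹ :=
          inv_mul_eq_iff_eq_mul.2 (by rw [← mul_assoc, ← h', mul_inv_cancel_right])
        have h3 : (q.1 : X)⁻¹ * p.1 ∈ zpowers x ⊓ zpowers y :=
          Subgroup.mem_inf.2 ⟨mul_mem (inv_mem q.1.2) p.1.2, h2 ▸ mul_mem q.2.2 (inv_mem p.2.2)⟩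
        rw [hdisj, Subgroup.mem_bot] at h3
        exact Prod.ext (Subtype.ext (inv_mul_eq_one.1 h3).symm)
          (Subtype.ext (mul_inv_eq_one.1 (h2 ▸ h3)).symm)
      · obtain ⟨i, j, h⟩ := key a a.2
        exact ⟨(⟨x ^ i, i, rfl⟩, ⟨y ^ j, j, rfl⟩), Subtype.ext h.symm⟩
    rw [← Nat.card_congr (Equiv.ofBijective f hbij), Nat.card_prod, Nat.card_zpowers,
      Nat.card_zpowers, hx, hy, pow_two]

/-- An `r`-group either contains an elementary subgroup of order `r ^ 2` or has a unique subgroup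
of order `r`. -/
theorem el2_or_unique [Finite X] {r : ℕ} [hr : Fact r.Prime] {R : Subgroup X} (hR : IsPGroup r R) :
    (∃ E : Subgroup X, E ≤ R ∧ El2 r E) ∨
      ∀ x ∈ R, ∀ y ∈ R, orderOf x = r → orderOf y = r → y ∈ zpowers x := by
  by_cases h : ∀ x ∈ R, ∀ y ∈ R, orderOf x = r → orderOf y = r → y ∈ zpowers x
  · exact Or.inr h
  push Not at h
  obtain ⟨x, hxR, y, hyR, hx, hy, hn⟩ := h
  refine Or.inl ?_
  have hR1 : Nontrivial R :=
    ⟨⟨x, hxR⟩, 1, fun e => by
      rw [Subtype.ext_iff] at e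
      rw [show x = 1 from e, orderOf_one] at hx
      exact hr.out.ne_one hx.symm⟩
  obtain ⟨c, hc⟩ : ∃ c : Subgroup.center R, c ≠ 1 := by
    have := hR.center_nontrivial
    exact exists_ne _
  obtain ⟨k, hk, hkR⟩ := exists_orderOf_pow hR (c : R).2
    (fun e => hc (Subtype.ext (Subtype.ext e)))
  set z := ((c : R) : X) ^ k with hz
  have hcz : ∀ a ∈ R, Commute z a := fun a ha =>
    (Commute.pow_left (congrArg Subtype.val (Subgroup.mem_center_iff.1 c.2 ⟨a, ha⟩)).symm k)
  by_cases hxz : x ∈ zpowers z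
  · refine ⟨zpowers z ⊔ zpowers y, sup_le (zpowers_le.2 hkR) (zpowers_le.2 hyR),
      el2_of_commute hr.out hk hy (hcz y hyR) fun hy' => hn ?_⟩
    exact zpowers_le.2 (mem_zpowers_of_ne_one hr.out hk hxz (fun e => by
      rw [e, orderOf_one] at hx; exact hr.out.ne_one hx.symm)) hy'
  · exact ⟨zpowers z ⊔ zpowers x, sup_le (zpowers_le.2 hkR) (zpowers_le.2 hxR),
      el2_of_commute hr.out hk hx (hcz x hxR) hxz⟩

theorem exists_el2_mem [Finite X] {r : ℕ} [hr : Fact r.Prime] {R : Subgroup X} (hR : IsPGroup r R)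
    (h : ∃ E : Subgroup X, E ≤ R ∧ El2 r E) {z : X} (hz : orderOf z = r) (hzR : z ∈ R)
    (hc : ∀ a ∈ R, Commute z a) :
    ∃ x ∈ R, orderOf x = r ∧ Commute z x ∧ x ∉ zpowers z := by
  obtain ⟨E, hE, hE2⟩ := h
  obtain ⟨x, hx, hxz⟩ := hE2.not_mem_zpowers hr.out hz
  exact ⟨x, hE hx, hE2.orderOf_eq hr.out hx (fun e => hxz (e ▸ one_mem _)), hc x (hE hx), hxz⟩

theorem cyclic_of_unique [Finite X] {r : ℕ} [hr : Fact r.Prime] (hodd : r ≠ 2) {R : Subgroup X}
    (hR : IsPGroup r R) (h : ∀ x ∈ R, ∀ y ∈ R, orderOf x = r → orderOf y = r → y ∈ zpowers x) :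
    IsCyclic R := by
  refine (Solvable.isCyclic_or_quaternion_of_unique hR fun H K hH hK => ?_).resolve_right
    (fun h => hodd h.1)
  have : ∀ A B : Subgroup R, Nat.card A = r → Nat.card B = r → A ≤ B := by
    intro A B hA hB a ha
    by_cases ha1 : a = 1
    · exact ha1 ▸ one_mem _
    have hord : ∀ (C : Subgroup R) (c : R), Nat.card C = r → c ∈ C → c ≠ 1 → orderOf (c : X) = r :=
      fun C c hC hc hc1 => by
        have h1 : (orderOf (⟨c, hc⟩ : C)) ∣ r := hC ▸ orderOf_dvd_natCard _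
        rw [Subgroup.orderOf_mk] at h1
        rw [Subgroup.orderOf_coe]
        exact ((Nat.dvd_prime hr.out).1 h1).resolve_left (fun e => hc1 (orderOf_eq_one_iff.1 e))
    obtain ⟨b, hb, hb1⟩ : ∃ b ∈ B, b ≠ 1 := by
      by_contra hh
      push Not at hh
      rw [(Subgroup.eq_bot_iff_forall B).2 hh, Subgroup.card_bot] at hB
      exact hr.out.ne_one hB.symm
    obtain ⟨i, hi⟩ := h b b.2 a a.2 (hord B b hB hb hb1) (hord A a hA ha ha1)
    have : a = b ^ i := Subtype.ext (by rw [Subgroup.coe_zpow]; exact hi.symm)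
    exact this ▸ zpow_mem hb i
  exact le_antisymm (this H K hH hK) (this K H hK hH)

/-- Coprime generation: some non-trivial element of `E` fixes a non-trivial element. -/
theorem exists_fixed [Finite X] {p r : ℕ} [hp : Fact p.Prime] (hr : r.Prime) (hpr : p ≠ r)
    {E V : Subgroup X} (hE : El2 r E) (hV : IsPGroup p V) (hV1 : V ≠ ⊥)
    (hn : E ≤ normalizer (V : Set X)) :
    ∃ e ∈ E, e ≠ 1 ∧ ∃ v ∈ V, v ≠ 1 ∧ Commute e v := by
  by_contra hno
  push Not at hno
  haveI := Fact.mk hr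
  refine hV1 ?_
  have hab : IsMulCommutative E := ⟨⟨fun a b => Subtype.ext (hE.comm a a.2 b b.2).eq⟩⟩
  have hnc : ¬ IsCyclic E := fun hc => by
    obtain ⟨g, hg⟩ := hc.exists_generator
    have h1 : orderOf g = r ^ 2 := hE.card ▸ orderOf_eq_card_of_forall_mem_zpowers hg
    have h2 : orderOf g ∣ r := orderOf_dvd_of_pow_eq_one (Subtype.ext (by simpa using hE.pow g g.2))
    rw [h1] at h2
    have := Nat.le_of_dvd hr.pos h2
    nlinarith [hr.two_le]
  rw [← Coprime.iSup_centralizer_eq hab hnc hn (IsPGroup.coprime_card_of_ne r p hpr.symm E V hE.isPGroup hV)]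
  refine iSup_eq_bot.2 fun a => (Subgroup.eq_bot_iff_forall _).2 fun v hv => ?_
  by_contra hv1
  exact hno a a.2.1 a.2.2 v hv.1 hv1 (Subgroup.mem_centralizer_iff.1 hv.2 a rfl)

/-- Conjugation on a cyclic subgroup of prime order with an exponent prime to `q - 1` is
trivial. -/
theorem commute_of_coprime [Finite X] {q : ℕ} (hq : q.Prime) {z g : X} (hz : orderOf z = q)
    (hg : g ∈ normalizer (zpowers z : Set X)) (h : (orderOf g).Coprime (q - 1)) : Commute g z := by
  haveI := Fact.mk hq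
  obtain ⟨a, ha⟩ := Subgroup.mem_zpowers_iff.1 ((Subgroup.mem_normalizer_iff.1 hg z).1 (mem_zpowers z))
  have key : ∀ n : ℕ, g ^ n * z * (g ^ n)⁻¹ = z ^ (a ^ n) := by
    intro n
    induction n with
    | zero => simp
    | succ n ih =>
      rw [pow_succ', show g * g ^ n * z * (g * g ^ n)⁻¹ = g * (g ^ n * z * (g ^ n)⁻¹) * g⁻¹ by group,
        ih, ← conj_zpow, ← ha, ← zpow_mul, pow_succ, mul_comm]
  have h1 : (a : ZMod q) ^ orderOf g = 1 := by
    have := key (orderOf g)
    rw [pow_orderOf_eq_one, one_mul, inv_one, mul_one] at this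
    have h2 : z ^ (1 : ℤ) = z ^ (a ^ orderOf g) := by rw [zpow_one]; exact this
    rw [zpow_eq_zpow_iff_modEq, hz] at h2
    have := (ZMod.intCast_eq_intCast_iff _ _ q).2 h2
    push_cast at this
    exact this.symm
  have ha0 : (a : ZMod q) ≠ 0 := fun e => by
    rw [e, zero_pow (orderOf_pos g).ne'] at h1
    exact zero_ne_one h1
  have h3 : (a : ZMod q) = 1 :=
    orderOf_eq_one_iff.1 (Nat.eq_one_of_dvd_coprimes h (orderOf_dvd_of_pow_eq_one h1)
      (orderOf_dvd_of_pow_eq_one (ZMod.pow_card_sub_one_eq_one ha0)))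
  have h4 : z ^ a = z ^ (1 : ℤ) := by
    rw [zpow_eq_zpow_iff_modEq, hz]
    exact (ZMod.intCast_eq_intCast_iff _ _ q).1 (by rw [h3]; simp)
  rw [zpow_one] at h4
  exact mul_inv_eq_iff_eq_mul.1 (ha.symm.trans h4)

theorem cyclic_subgroup_eq_of_card {C : Type u} [Group C] [Finite C] [IsCyclic C] {H K : Subgroup C}
    (h : Nat.card H = Nat.card K) : H = K := by
  let _ : CommGroup C := IsCyclic.commGroup
  have key : ∀ L : Subgroup C, L = (powMonoidHom (Nat.card L) : C →* C).ker := by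
    intro L
    refine Subgroup.eq_of_le_of_card_ge (fun x hx => ?_) ?_
    · exact congrArg Subtype.val (pow_card_eq_one' (x := (⟨x, hx⟩ : L)))
    · rw [IsCyclic.card_powMonoidHom_ker, Nat.gcd_eq_right (Subgroup.card_subgroup_dvd_card L)]
  rw [key H, key K, h]

/-- An element acting trivially on the elements of order `r` of a cyclic `r`-group acts trivially. -/
theorem commute_cyclic [Finite X] {r s : ℕ} [hr : Fact r.Prime] (hs : s.Prime) (hrs : r ≠ s)
    {R : Subgroup X} (hR : IsPGroup r R) (hc : IsCyclic R) {e z : X} (he : orderOf e = s)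
    (hn : e ∈ normalizer (R : Set X)) (hzR : z ∈ R) (hz : orderOf z = r) (hez : Commute e z) :
    ∀ x ∈ R, Commute e x := by
  haveI := Fact.mk hs
  have hab : IsMulCommutative R := IsCyclic.isMulCommutative
  have hn' : zpowers e ≤ normalizer (R : Set X) := zpowers_le.2 hn
  have h := Coprime.commutator_inf_centralizer_eq_bot hab hn'
    (IsPGroup.coprime_card_of_ne s r hrs.symm _ R
      (IsPGroup.of_card (n := 1) (by rw [Nat.card_zpowers, he, pow_one])) hR)
  have hle : ⁅R, zpowers e⁆ ≤ R := le_normalizer_iff_commutator_le_left.1 hn'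
  have hbot : ⁅R, zpowers e⁆ = ⊥ := by
    rw [Subgroup.eq_bot_iff_forall]
    intro c hcm
    by_contra hc1
    obtain ⟨k, hk, hkR⟩ := exists_orderOf_pow hR (hle hcm) hc1
    obtain ⟨g, hg⟩ := hc.exists_generator
    have huniq : zpowers (c ^ k) = zpowers z := by
      obtain ⟨i, hi⟩ := Subgroup.mem_zpowers_iff.1 (hg ⟨c ^ k, hkR⟩)
      obtain ⟨j, hj⟩ := Subgroup.mem_zpowers_iff.1 (hg ⟨z, hzR⟩)
      have hA : zpowers (⟨c ^ k, hkR⟩ : R) = zpowers ⟨z, hzR⟩ :=
        cyclic_subgroup_eq_of_card (by rw [Nat.card_zpowers, Nat.card_zpowers, Subgroup.orderOf_mk,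
          Subgroup.orderOf_mk, hk, hz])
      have := congrArg (Subgroup.map R.subtype) hA
      rwa [MonoidHom.map_zpowers, MonoidHom.map_zpowers] at this
    have hz' : z ∈ ⁅R, zpowers e⁆ ⊓ centralizer (zpowers e : Set X) := by
      refine ⟨zpowers_le.2 (pow_mem hcm k) (huniq ▸ mem_zpowers z), ?_⟩
      exact Subgroup.mem_centralizer_iff.2 fun y hy => by
        obtain ⟨i, rfl⟩ := hy
        exact (hez.zpow_left i).eq
    rw [h, Subgroup.mem_bot] at hz'
    rw [hz', orderOf_one] at hz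
    exact hr.out.ne_one hz.symm
  intro x hx
  have := Subgroup.commutator_mem_commutator hx (mem_zpowers e)
  rw [hbot, Subgroup.mem_bot, commutatorElement_eq_one_iff_commute] at this
  exact this.symm

/-- Hall–Higman: if `x` fixes nothing in `V` then `[P, x]` centralises `V`. -/
theorem fpf_centralizes [Finite X] {p q s : ℕ} [Fact p.Prime] [Fact q.Prime] (hs : s.Prime)
    (hpq : p ≠ q) (hps : p ≠ s) (hqs : q ≠ s) {x : X} (hx : orderOf x = s) {P V : Subgroup X}
    (hP : IsPGroup q P) (hP' : q ≠ 2 ∨ ∀ a ∈ P, ∀ b ∈ P, Commute a b) (hV : IsPGroup p V)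
    (hVp : ∀ v ∈ V, v ^ p = 1) (hxP : x ∈ normalizer (P : Set X))
    (hxV : x ∈ normalizer (V : Set X)) (hPV : P ≤ normalizer (V : Set X))
    (hfree : ∀ v ∈ V, Commute x v → v = 1) :
    ∀ m ∈ P, ∀ v ∈ V, Commute (m⁻¹ * (x * m * x⁻¹)) v := by
  have h := OddLocal.commutator_le_centralizer_of_fixedPointFree'' hs hqs hpq hps hx hP hV hxP hxV
    hPV (fun h2 _ => ⟨⟨fun a b => Subtype.ext ((hP'.resolve_left (not_not.2 h2)) a a.2 b b.2).eq⟩⟩)
    (Or.inr hVp) ((Subgroup.eq_bot_iff_forall _).2 fun v hv => hfree v hv.1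
      (Subgroup.mem_centralizer_iff.1 hv.2 x (mem_zpowers x)))
  intro m hm v hv
  have h1 := h (Subgroup.commutator_mem_commutator (inv_mem hm) (mem_zpowers x))
  rw [commutatorElement_def, inv_inv] at h1
  have h2 := Subgroup.mem_centralizer_iff.1 h1 v hv
  rw [mul_assoc m⁻¹, mul_assoc m⁻¹] at h2
  exact h2.symm

/-- A Frobenius group `Q ⋊ ⟨g⟩` with `g` fixed-point-free on `V` acts trivially through `Q`. -/
theorem frobenius_trivial [Finite X] {p : ℕ} (hp : p.Prime) {Q V : Subgroup X}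
    (hVc : ∀ a ∈ V, ∀ b ∈ V, Commute a b) (hVp : ∀ v ∈ V, v ^ p = 1)
    (hcop : ¬ p ∣ Nat.card Q) (hQV : Q ≤ normalizer (V : Set X)) {g : X}
    (hgV : g ∈ normalizer (V : Set X)) (hgQ : g ∈ normalizer (Q : Set X))
    (hQ : ∀ i : ℕ, g ^ i ≠ 1 → ∀ y ∈ Q, Commute (g ^ i) y → y = 1)
    (hfix : ∀ v ∈ V, Commute g v → v = 1) : ∀ y ∈ Q, ∀ v ∈ V, Commute y v := by
  classical
  have : Fintype Q := Fintype.ofFinite _
  letI : CommGroup V :=
    { (inferInstance : Group V) with mul_comm := fun a b => Subtype.ext (hVc a a.2 b b.2).eq }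
  let φ : normalizer (V : Set X) →* MulAut V := normalizerMonoidHom V
  let N := normalizer (V : Set X)
  let g' : N := ⟨g, hgV⟩
  let ι : Q → N := fun y => ⟨y, hQV y.2⟩
  have hφ : ∀ (a : N) (v : V), ((φ a v : V) : X) = a * v * (a : X)⁻¹ := fun a v => rfl
  suffices hmain : ∀ (v : V) (y : Q), φ (ι y) v = v by
    intro y hy v hv
    have := congrArg Subtype.val (hmain ⟨v, hv⟩ ⟨y, hy⟩)
    rw [hφ] at this
    exact mul_inv_eq_iff_eq_mul.1 this
  intro v
  set o := orderOf g with ho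
  have hgo : g' ^ o = 1 := Subtype.ext (by simp [g', ho, pow_orderOf_eq_one])
  let T : V → V := fun w => ∏ y : Q, φ (ι y) w
  have hT : ∀ w (z : Q), φ (ι z) (T w) = T w := by
    intro w z
    simp only [T, map_prod]
    refine Fintype.prod_equiv (Equiv.mulLeft z) _ _ fun y => ?_
    rw [← MulAut.mul_apply, ← map_mul]
    rfl
  have hinner : ∀ y : Q, ∏ i ∈ Finset.range o, φ (ι y * g' ^ i * (ι y)⁻¹) v = 1 := by
    intro y
    set P := ∏ i ∈ Finset.range o, φ (g' ^ i) ((φ (ι y)⁻¹) v) with hP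
    have hgP : φ g' P = P := by
      let f := fun i => φ (g' ^ i) ((φ (ι y)⁻¹) v)
      have h1 : φ g' P = ∏ i ∈ Finset.range o, f (i + 1) := by
        rw [hP, map_prod]
        refine Finset.prod_congr rfl fun i _ => ?_
        simp only [f, pow_succ', map_mul, MulAut.mul_apply]
      have h2 := Finset.prod_range_succ' f o
      rw [Finset.prod_range_succ, show f o = f 0 by simp only [f, hgo, pow_zero]] at h2
      rw [h1, hP]
      exact (mul_right_cancel h2).symm
    have hP1 : P = 1 := Subtype.ext (hfix _ P.2 (by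
      have := congrArg Subtype.val hgP
      rw [hφ] at this
      exact mul_inv_eq_iff_eq_mul.1 this))
    have : ∏ i ∈ Finset.range o, φ (ι y * g' ^ i * (ι y)⁻¹) v = φ (ι y) P := by
      rw [hP, map_prod]
      refine Finset.prod_congr rfl fun i _ => ?_
      simp only [map_mul, MulAut.mul_apply]
    rw [this, hP1, map_one]
  have hswap : ∏ i ∈ Finset.range o, ∏ y : Q, φ (ι y * g' ^ i * (ι y)⁻¹) v = 1 := by
    rw [Finset.prod_comm]
    exact Finset.prod_eq_one fun y _ => hinner y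
  have hrest : ∀ i ∈ (Finset.range o).erase 0, ∀ z : Q,
      φ (ι z) (∏ y : Q, φ (ι y * g' ^ i * (ι y)⁻¹) v) = ∏ y : Q, φ (ι y * g' ^ i * (ι y)⁻¹) v := by
    intro i hi z
    rw [Finset.mem_erase, Finset.mem_range] at hi
    have hne : g ^ i ≠ 1 := pow_ne_one_of_lt_orderOf hi.1 hi.2
    let ψ : Q → Q := fun y => y * ⟨g ^ i * (y : X)⁻¹ * (g ^ i)⁻¹,
      (Subgroup.mem_normalizer_iff.1 (pow_mem hgQ i) _).1 (inv_mem y.2)⟩
    have hψ : Function.Bijective ψ := by
      rw [← Finite.injective_iff_bijective]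
      intro a b h
      have h' : (a : X) * (g ^ i * (a : X)⁻¹ * (g ^ i)⁻¹) = b * (g ^ i * (b : X)⁻¹ * (g ^ i)⁻¹) :=
        congrArg Subtype.val h
      have h2 : Commute (g ^ i) ((b : X)⁻¹ * a) := by
        have e : (b : X)⁻¹ * a = g ^ i * ((b : X)⁻¹ * a) * (g ^ i)⁻¹ := by
          calc (b : X)⁻¹ * a = (b : X)⁻¹ * ((a : X) * (g ^ i * (a : X)⁻¹ * (g ^ i)⁻¹)) *
              (g ^ i * a * (g ^ i)⁻¹) := by group
            _ = g ^ i * ((b : X)⁻¹ * a) * (g ^ i)⁻¹ := by rw [h']; group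
        exact (mul_inv_eq_iff_eq_mul.1 e.symm)
      exact Subtype.ext (inv_mul_eq_one.1 (hQ i hne _ (mul_mem (inv_mem b.2) a.2) h2)).symm
    have e : ∏ y : Q, φ (ι y * g' ^ i * (ι y)⁻¹) v = T (φ (g' ^ i) v) := by
      refine Fintype.prod_equiv (Equiv.ofBijective ψ hψ) _ _ fun y => ?_
      rw [Equiv.ofBijective_apply, ← MulAut.mul_apply, ← map_mul]
      congr 2
      refine Subtype.ext ?_
      simp [ι, g', ψ, mul_assoc]
    rw [e, hT]
  intro z
  have ho0 : (0 : ℕ) ∈ Finset.range o := Finset.mem_range.2 (orderOf_pos g)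
  rw [← Finset.mul_prod_erase _ _ ho0] at hswap
  have h0 : ∏ y : Q, φ (ι y * g' ^ 0 * (ι y)⁻¹) v = v ^ Nat.card Q := by
    simp [Finset.prod_const, Nat.card_eq_fintype_card]
  rw [h0, mul_eq_one_iff_eq_inv] at hswap
  have hfixpow : φ (ι z) (v ^ Nat.card Q) = v ^ Nat.card Q := by
    rw [hswap, map_inv, map_prod]
    exact congrArg _ (Finset.prod_congr rfl fun i hi => hrest i hi z)
  obtain ⟨m, hm⟩ : ∃ m : ℕ, v ^ (Nat.card Q * m) = v := by
    have hv : v ^ p = 1 := Subtype.ext (by simpa using hVp v v.2)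
    rcases (Nat.dvd_prime hp).1 (orderOf_dvd_of_pow_eq_one hv) with h | h
    · exact ⟨0, by rw [orderOf_eq_one_iff.1 h]; simp⟩
    · obtain ⟨m, hm⟩ := exists_pow_eq_self_of_coprime (x := v) (n := Nat.card Q)
        (by rw [h]; exact ((Nat.Prime.coprime_iff_not_dvd hp).2 hcop).symm)
      exact ⟨m, by rw [pow_mul]; exact hm⟩
  rw [← hm, pow_mul, map_pow, hfixpow]

/-- A solvable group with cyclic cores has no elementary `t ^ 2` centralising the other cores. -/
theorem false_of_cyclic_cores [Finite X] [Group.IsSolvable X] {t : ℕ} [ht : Fact t.Prime]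
    (hcyc : ∀ q : ℕ, q.Prime → IsCyclic (Cfsg.pCore q X)) {E : Subgroup X} (hE : El2 t E)
    (hcen : ∀ e ∈ E, ∀ q : ℕ, q.Prime → q ≠ t → ∀ x ∈ Cfsg.pCore q X, Commute e x) : False := by
  set F := Cfsg.fittingSubgroup X with hF
  set O := Cfsg.pCore t X with hO
  have hOp : IsPGroup t O := Solvable.pCore_isPGroup t
  have hOn : O.Normal := Solvable.pCore_normal t X
  have hOF : O ≤ F := Solvable.pCore_le_fittingSubgroup t
  have hCF : centralizer (F : Set X) ≤ F := Solvable.centralizer_fittingSubgroup_le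
  have hFgen : F = ⨆ q : Nat.Primes, Cfsg.pCore (q : ℕ) X := Solvable.fittingSubgroup_eq_iSup_pCore
  have hcom : ∀ q : Nat.Primes, ∀ q' : Nat.Primes, ∀ x ∈ Cfsg.pCore (q : ℕ) X,
      ∀ y ∈ Cfsg.pCore (q' : ℕ) X, Commute x y := by
    intro q q' x hx y hy
    rcases eq_or_ne q q' with rfl | hne
    · haveI := hcyc q q.2
      have := IsCyclic.isMulCommutative (α := Cfsg.pCore (q : ℕ) X)
      exact congrArg Subtype.val (mul_comm' (⟨x, hx⟩ : Cfsg.pCore (q : ℕ) X) ⟨y, hy⟩)
    · haveI := Fact.mk q.2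
      haveI := Fact.mk q'.2
      exact Subgroup.commute_of_normal_of_disjoint _ _ (Solvable.pCore_normal _ _)
        (Solvable.pCore_normal _ _) (IsPGroup.disjoint_of_ne (q : ℕ) q'
          (fun e => hne (Nat.Primes.coe_nat_injective e)) _ _ (Solvable.pCore_isPGroup _)
          (Solvable.pCore_isPGroup _)) x y hx hy
  have hFc : ∀ x ∈ F, ∀ y ∈ F, Commute x y := by
    have h1 : F ≤ centralizer (F : Set X) := by
      conv_lhs => rw [hFgen]
      refine iSup_le fun q => ?_
      intro x hx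
      have h2 : F ≤ centralizer ({x} : Set X) := by
        rw [hFgen]
        refine iSup_le fun q' y hy => Subgroup.mem_centralizer_iff.2 ?_
        intro a ha
        rw [Set.mem_singleton_iff] at ha
        rw [ha]
        exact (hcom q q' x hx y hy).eq
      exact Subgroup.mem_centralizer_iff.2 fun y hy =>
        (Subgroup.mem_centralizer_iff.1 (h2 hy) x rfl).symm
    exact fun x hx y hy => (Subgroup.mem_centralizer_iff.1 (h1 hy) x hx)
  obtain ⟨f, hfE, hfO⟩ : ∃ f ∈ E, f ∉ O := by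
    by_contra h
    push Not at h
    obtain ⟨g, hg⟩ := (hcyc t ht.out).exists_generator
    have hEc : IsCyclic E := by
      haveI := hcyc t ht.out
      exact isCyclic_of_injective (Subgroup.inclusion (h : E ≤ O)) (Subgroup.inclusion_injective h)
    obtain ⟨e, he⟩ := hEc.exists_generator
    have h1 : orderOf e = t ^ 2 := hE.card ▸ orderOf_eq_card_of_forall_mem_zpowers he
    have h2 : orderOf e ∣ t :=
      orderOf_dvd_of_pow_eq_one (Subtype.ext (by simpa using hE.pow e e.2))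
    rw [h1] at h2
    nlinarith [Nat.le_of_dvd ht.out.pos h2, ht.out.two_le]
  have hft : f ^ t = 1 := hE.pow f hfE
  -- elements of `F` of order prime to `t` are centralised by `f`
  obtain ⟨a, ha⟩ := IsPGroup.iff_card.1 hOp
  set M := Nat.card F / t ^ (Nat.card F).factorization t with hM
  have hMcop : M.Coprime t :=
    ((Nat.Prime.coprime_iff_not_dvd ht.out).2
      (Nat.not_dvd_ordCompl ht.out Nat.card_pos.ne')).symm
  let C : Subgroup X :=
    { carrier := {x | x ∈ F ∧ Commute f (x ^ t ^ a) ∧ x ^ (t ^ a * M) = 1}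
      one_mem' := ⟨one_mem _, by simp, by simp⟩
      mul_mem' := fun {x y} ⟨hx, hx1, hx2⟩ ⟨hy, hy1, hy2⟩ =>
        ⟨mul_mem hx hy, by rw [(hFc x hx y hy).mul_pow]; exact hx1.mul_right hy1,
          by rw [(hFc x hx y hy).mul_pow, hx2, hy2, one_mul]⟩
      inv_mem' := fun {x} ⟨hx, hx1, hx2⟩ =>
        ⟨inv_mem hx, by rw [inv_pow]; exact hx1.inv_right, by rw [inv_pow, hx2, inv_one]⟩ }
  have hFC : F ≤ C := by
    conv_lhs => rw [hFgen]
    refine iSup_le fun q x hx => ?_
    refine ⟨hFgen ▸ le_iSup (fun q : Nat.Primes => Cfsg.pCore (q : ℕ) X) q hx, ?_⟩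
    by_cases hq : (q : ℕ) = t
    · have h1 : x ^ t ^ a = 1 := by
        have := orderOf_dvd_natCard (⟨x, by rw [hO, ← hq]; exact hx⟩ : O)
        rw [ha, Subgroup.orderOf_mk] at this
        exact orderOf_dvd_iff_pow_eq_one.1 this
      exact ⟨by rw [h1]; exact Commute.one_right f, by rw [pow_mul, h1, one_pow]⟩
    · haveI := Fact.mk q.2
      refine ⟨(hcen f hfE q q.2 hq x hx).pow_right _, ?_⟩
      have hd : orderOf x ∣ M := by
        obtain ⟨j, hj⟩ := IsPGroup.iff_orderOf.1 (Solvable.pCore_isPGroup (q : ℕ)) ⟨x, hx⟩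
        rw [Subgroup.orderOf_mk] at hj
        have h1 : orderOf x ∣ Nat.card F := by
          have := orderOf_dvd_natCard
            (⟨x, hFgen ▸ le_iSup (fun q : Nat.Primes => Cfsg.pCore (q : ℕ) X) q hx⟩ : F)
          rwa [Subgroup.orderOf_mk] at this
        rw [← Nat.ordProj_mul_ordCompl_eq_self (Nat.card F) t] at h1
        refine Nat.Coprime.dvd_of_dvd_mul_left ?_ h1
        rw [hj]
        exact Nat.Coprime.pow _ _ ((Nat.coprime_primes q.2 ht.out).2 hq)
      rw [mul_comm, pow_mul, orderOf_dvd_iff_pow_eq_one.1 hd, one_pow]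
  -- conjugates of `f` lie in `O * f`
  have hconj : ∀ h : X, h * f * h⁻¹ * f⁻¹ ∈ O := by
    intro h
    set c := h * f * h⁻¹ * f⁻¹ with hc
    have hcF : c ∈ F := by
      refine hCF ?_
      have hle : F ≤ centralizer ({c} : Set X) := by
        rw [hFgen]
        refine iSup_le fun q x hx => Subgroup.mem_centralizer_iff.2 ?_
        intro y hy
        rw [Set.mem_singleton_iff] at hy
        subst hy
        haveI := Fact.mk q.2
        obtain ⟨w, hw⟩ := (hcyc q q.2).exists_generator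
        have hpow : ∀ k : X, ∃ m : ℤ, ∀ y ∈ Cfsg.pCore (q : ℕ) X, k * y * k⁻¹ = y ^ m := by
          intro k
          have hk := (Solvable.pCore_normal (q : ℕ) X).conj_mem _ w.2 k
          obtain ⟨m, hm⟩ := Subgroup.mem_zpowers_iff.1 (hw ⟨_, hk⟩)
          refine ⟨m, fun y hy => ?_⟩
          obtain ⟨i, hi⟩ := Subgroup.mem_zpowers_iff.1 (hw ⟨y, hy⟩)
          have hy' : y = (w : X) ^ i := by
            have := congrArg Subtype.val hi
            simpa using this.symm
          have hm' : k * (w : X) * k⁻¹ = (w : X) ^ m := by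
            have := congrArg Subtype.val hm
            simpa using this.symm
          rw [hy', ← conj_zpow, hm', ← zpow_mul, ← zpow_mul, mul_comm]
        obtain ⟨m, hm⟩ := hpow h
        obtain ⟨n, hn⟩ := hpow f
        obtain ⟨m', hm'⟩ := hpow h⁻¹
        obtain ⟨n', hn'⟩ := hpow f⁻¹
        have hz : ∀ (i : ℤ), x ^ i ∈ Cfsg.pCore (q : ℕ) X := fun i => zpow_mem hx i
        have e1 : x ^ (m' * m) = x := by
          rw [zpow_mul, ← hm _ (hz _), ← hm' x hx]
          group
        have e2 : x ^ (n' * n) = x := by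
          rw [zpow_mul, ← hn _ (hz _), ← hn' x hx]
          group
        refine mul_inv_eq_iff_eq_mul.1 ?_
        calc c * x * c⁻¹ = h * (f * (h⁻¹ * (f⁻¹ * x * f⁻¹⁻¹) * h⁻¹⁻¹) * f⁻¹) * h⁻¹ := by
              rw [hc]; group
          _ = x ^ (n' * m' * n * m) := by
              rw [hn' x hx, hm' _ (hz _), ← zpow_mul, hn _ (hz _), ← zpow_mul, hm _ (hz _),
                ← zpow_mul]
          _ = x := by
              rw [show n' * m' * n * m = (n' * n) * (m' * m) by ring, zpow_mul, e2, e1]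
      exact Subgroup.mem_centralizer_iff.2 fun y hy =>
        (Subgroup.mem_centralizer_iff.1 (hle hy) c rfl).symm
    obtain ⟨-, hc1, hc2⟩ := hFC hcF
    set d := c ^ t ^ a with hd
    have hdF : d ∈ F := pow_mem hcF _
    have hdt : d ^ t = 1 := by
      -- telescoping product of the conjugates of `c` under `f`
      let cc : ℕ → X := fun i => f ^ i * c * (f ^ i)⁻¹
      have hcc : ∀ i, cc i ∈ F := fun i =>
        (Solvable.fittingSubgroup_normal X).conj_mem _ hcF _
      have hccd : ∀ i, cc i ^ t ^ a = d := fun i => by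
        simp only [cc]
        rw [conj_pow, (hc1.pow_left i).eq, mul_inv_cancel_right]
      have hex : ∀ n : ℕ, ∃ w ∈ F, (c * f) ^ n = w * f ^ n ∧ w ^ t ^ a = d ^ n := by
        intro n
        induction n with
        | zero => exact ⟨1, one_mem _, by simp, by simp⟩
        | succ n ih =>
          obtain ⟨w, hw, e, e'⟩ := ih
          refine ⟨w * cc n, mul_mem hw (hcc n), ?_, ?_⟩
          · rw [pow_succ, e, pow_succ]
            simp only [cc]
            group
          · rw [(hFc w hw _ (hcc n)).mul_pow, e', hccd, pow_succ]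
      obtain ⟨w, hw, e, e'⟩ := hex t
      have hcf : c * f = h * f * h⁻¹ := by rw [hc, inv_mul_cancel_right]
      rw [hcf, conj_pow, hft, mul_one, mul_inv_cancel, mul_one] at e
      rw [← e, one_pow] at e'
      exact e'.symm
    have hd1 : d = 1 := by
      have h1 : orderOf d ∣ t := orderOf_dvd_of_pow_eq_one hdt
      have h2 : orderOf d ∣ M := orderOf_dvd_of_pow_eq_one (by rw [hd, ← pow_mul]; exact hc2)
      exact orderOf_eq_one_iff.1 (Nat.eq_one_of_dvd_coprimes hMcop h2 h1)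
    -- a `t`-element of `F` lies in the `t`-core
    let S : Subgroup X :=
      { carrier := {x | x ∈ F ∧ x ^ t ^ a = 1}
        one_mem' := ⟨one_mem _, one_pow _⟩
        mul_mem' := fun {x y} hx hy =>
          ⟨mul_mem hx.1 hy.1, by rw [(hFc x hx.1 y hy.1).mul_pow, hx.2, hy.2, one_mul]⟩
        inv_mem' := fun {x} hx => ⟨inv_mem hx.1, by rw [inv_pow, hx.2, inv_one]⟩ }
    have hSn : S.Normal := ⟨fun x hx k => ⟨(Solvable.fittingSubgroup_normal X).conj_mem x hx.1 k,
      by rw [conj_pow, hx.2, mul_one, mul_inv_cancel]⟩⟩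
    have hSp : IsPGroup t S := fun x => ⟨a, Subtype.ext (by simpa using x.2.2)⟩
    exact Solvable.le_pCore hSn hSp ⟨hcF, hd1⟩
  have hNn : (O ⊔ zpowers f).Normal := by
    refine ⟨fun x hx k => ?_⟩
    have hle : (O ⊔ zpowers f) ≤ (O ⊔ zpowers f).comap (MulAut.conj k).toMonoidHom := by
      refine sup_le (fun y hy => Subgroup.mem_sup_left (hOn.conj_mem y hy k)) (zpowers_le.2 ?_)
      show k * f * k⁻¹ ∈ O ⊔ zpowers f
      rw [show k * f * k⁻¹ = (k * f * k⁻¹ * f⁻¹) * f by group]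
      exact mul_mem_sup (hconj k) (mem_zpowers f)
    exact hle hx
  have hf1 : f ≠ 1 := fun e => hfO (e ▸ one_mem _)
  have hNp : IsPGroup t ↥(O ⊔ zpowers f) :=
    IsPGroup.to_sup_of_normal_left hOp
      (IsPGroup.of_card (n := 1) (by rw [Nat.card_zpowers, hE.orderOf_eq ht.out hfE hf1, pow_one]))
  exact hfO (Solvable.le_pCore hNn hNp (Subgroup.mem_sup_right (mem_zpowers f)))

end CfsgLib.ClassK.FourPrimes
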