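import Cfsg.Agent.Lib.ClassK.FourPrimesTools

/-!
A solvable `{r, s}`-group of 2-rank data acting on commuting `p`- and `q`-groups.
-/

set_option autoImplicit false
set_option linter.unusedSectionVars false

namespace CfsgLib.ClassK.FourPrimes

open Subgroup

universe u

variable {X : Type u} [Group X] [Finite X]

/-- A subgroup closed under conjugation by the elements of `L` is normalised by `L`. -/
theorem le_normalizer_of_conj {L U : Subgroup X} (h : ∀ l ∈ L, ∀ u ∈ U, l * u * l⁻¹ ∈ U) :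
    L ≤ normalizer (U : Set X) := fun l hl => Subgroup.mem_normalizer_iff.2 fun x =>
  ⟨fun hx => h l hl x hx, fun hx => by
    have := h l⁻¹ (inv_mem hl) _ hx
    simpa [mul_assoc] using this⟩

theorem conj_mem_of_le_normalizer {L U : Subgroup X} (h : L ≤ normalizer (U : Set X)) {l x : X}
    (hl : l ∈ L) (hx : x ∈ U) : l * x * l⁻¹ ∈ U :=
  (Subgroup.mem_normalizer_iff.1 (h hl) x).1 hx

/-- The fixed points of a normal element inside a normalised subgroup are normalised. -/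
theorem le_normalizer_fixed {L V : Subgroup X} (hLV : L ≤ normalizer (V : Set X)) {z : X}
    (hz : L ≤ normalizer (zpowers z : Set X)) :
    L ≤ normalizer ((V ⊓ centralizer (zpowers z : Set X) : Subgroup X) : Set X) :=
  le_normalizer_of_conj fun l hl u hu => ⟨conj_mem_of_le_normalizer hLV hl hu.1,
    Subgroup.mem_centralizer_iff.2 fun y hy => by
      have h1 : l⁻¹ * y * l⁻¹⁻¹ ∈ zpowers z := conj_mem_of_le_normalizer hz (inv_mem hl) hy
      have h2 : (l⁻¹ * y * l⁻¹⁻¹) * u = u * (l⁻¹ * y * l⁻¹⁻¹) :=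
        Subgroup.mem_centralizer_iff.1 hu.2 _ h1
      calc y * (l * u * l⁻¹) = l * ((l⁻¹ * y * l⁻¹⁻¹) * u) * l⁻¹ := by group
        _ = l * u * l⁻¹ * y := by rw [h2]; group⟩

/-- A fixed-point-free involution inverts an abelian group. -/
theorem conj_eq_inv {a : X} (ha : a * a = 1) {V : Subgroup X}
    (hVc : ∀ x ∈ V, ∀ y ∈ V, Commute x y) (haV : a ∈ normalizer (V : Set X))
    (hfree : ∀ v ∈ V, Commute a v → v = 1) {v : X} (hv : v ∈ V) : a * v * a⁻¹ = v⁻¹ := by
  have h1 : a * v * a⁻¹ ∈ V := (Subgroup.mem_normalizer_iff.1 haV v).1 hv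
  have hai : a⁻¹ = a := inv_eq_of_mul_eq_one_right ha
  have h2 := hfree _ (mul_mem hv h1) (mul_inv_eq_iff_eq_mul.1 (by
    calc a * (v * (a * v * a⁻¹)) * a⁻¹ = (a * v * a⁻¹) * ((a * a) * v * (a * a)⁻¹) := by group
      _ = (a * v * a⁻¹) * v := by rw [ha, one_mul, inv_one, mul_one]
      _ = v * (a * v * a⁻¹) := (hVc _ h1 v hv).eq))
  exact (inv_eq_of_mul_eq_one_right h2).symm

/-- A group of order prime to two moduli acting on both. -/
structure Two (σ : Finset ℕ) (p q r s : ℕ) (L V W : Subgroup X) : Prop where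
  noTriple : NoTriple X σ
  hp : p.Prime
  hq : q.Prime
  hr : r.Prime
  hs : s.Prime
  pmem : p ∈ σ
  qmem : q ∈ σ
  rmem : r ∈ σ
  smem : s ∈ σ
  hpq : p ≠ q
  hpr : p ≠ r
  hps : p ≠ s
  hqr : q ≠ r
  hqs : q ≠ s
  hrs : r ≠ s
  solv : Group.IsSolvable L
  primes : ∀ t : ℕ, t.Prime → t ∣ Nat.card L → t = r ∨ t = s
  V1 : V ≠ ⊥
  W1 : W ≠ ⊥
  Vp : ∀ v ∈ V, v ^ p = 1
  Wq : ∀ w ∈ W, w ^ q = 1
  Vc : ∀ a ∈ V, ∀ b ∈ V, Commute a b
  Wc : ∀ a ∈ W, ∀ b ∈ W, Commute a b
  VW : ∀ v ∈ V, ∀ w ∈ W, Commute v w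
  LV : L ≤ normalizer (V : Set X)
  LW : L ≤ normalizer (W : Set X)
  Er : ∃ E : Subgroup X, E ≤ L ∧ El2 r E
  Es : ∃ E : Subgroup X, E ≤ L ∧ El2 s E

namespace Two

variable {σ : Finset ℕ} {p q r s : ℕ} {L V W : Subgroup X}

theorem swap (h : Two σ p q r s L V W) : Two σ p q s r L V W :=
  ⟨h.noTriple, h.hp, h.hq, h.hs, h.hr, h.pmem, h.qmem, h.smem, h.rmem, h.hpq, h.hps, h.hpr, h.hqs,
    h.hqr, h.hrs.symm, h.solv, fun t ht hd => (h.primes t ht hd).symm, h.V1, h.W1, h.Vp, h.Wq,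
    h.Vc, h.Wc, h.VW, h.LV, h.LW, h.Es, h.Er⟩

theorem flip (h : Two σ p q r s L V W) : Two σ q p r s L W V :=
  ⟨h.noTriple, h.hq, h.hp, h.hr, h.hs, h.qmem, h.pmem, h.rmem, h.smem, h.hpq.symm, h.hqr, h.hqs,
    h.hpr, h.hps, h.hrs, h.solv, h.primes, h.W1, h.V1, h.Wq, h.Vp, h.Wc, h.Vc,
    fun w hw v hv => (h.VW v hv w hw).symm, h.LW, h.LV, h.Er, h.Es⟩

theorem orderV (h : Two σ p q r s L V W) {v : X} (hv : v ∈ V) (h1 : v ≠ 1) : orderOf v = p :=
  haveI := Fact.mk h.hp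
  orderOf_eq_prime (h.Vp v hv) h1

theorem isPV (h : Two σ p q r s L V W) : IsPGroup p V :=
  fun v => ⟨1, Subtype.ext (by simpa using h.Vp v v.2)⟩

/-- An element of order `r` fixes nothing on one of the two modules. -/
theorem noBoth (h : Two σ p q r s L V W) {a : X} (ha : orderOf a = r ∨ orderOf a = s) {v w : X}
    (hv : v ∈ V) (hv1 : v ≠ 1) (hw : w ∈ W) (hw1 : w ≠ 1) (hav : Commute a v) (haw : Commute a w) :
    False := by
  have e1 := h.orderV hv hv1
  have e2 := h.flip.orderV hw hw1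
  rcases ha with ha | ha
  · exact h.noTriple a v w (ha ▸ h.rmem) (e1 ▸ h.pmem) (e2 ▸ h.qmem) (by rw [ha, e1]; exact h.hpr.symm)
      (by rw [ha, e2]; exact h.hqr.symm) (by rw [e1, e2]; exact h.hpq) hav haw (h.VW v hv w hw)
  · exact h.noTriple a v w (ha ▸ h.smem) (e1 ▸ h.pmem) (e2 ▸ h.qmem) (by rw [ha, e1]; exact h.hps.symm)
      (by rw [ha, e2]; exact h.hqs.symm) (by rw [e1, e2]; exact h.hpq) hav haw (h.VW v hv w hw)

theorem noEdgeFixed (h : Two σ p q r s L V W) {a b v : X} (ha : orderOf a = r) (hb : orderOf b = s)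
    (hab : Commute a b) (hv : v ∈ V) (hv1 : v ≠ 1) (hav : Commute a v) (hbv : Commute b v) :
    False := by
  have e1 := h.orderV hv hv1
  exact h.noTriple a b v (ha ▸ h.rmem) (hb ▸ h.smem) (e1 ▸ h.pmem) (by rw [ha, hb]; exact h.hrs)
    (by rw [ha, e1]; exact h.hpr.symm) (by rw [hb, e1]; exact h.hps.symm) hab hav hbv

/-- Only the identity of `L` is trivial on both modules. -/
theorem faithful (h : Two σ p q r s L V W) {c : X} (hc : c ∈ L) (hV : ∀ v ∈ V, Commute c v)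
    (hW : ∀ w ∈ W, Commute c w) : c = 1 := by
  by_contra h1
  obtain ⟨t, ht, hd⟩ := Nat.exists_prime_and_dvd (fun e => h1 (orderOf_eq_one_iff.1 e))
  have hk := orderOf_pow_orderOf_div (orderOf_pos c).ne' hd
  have hdL : t ∣ Nat.card L := hd.trans (by
    have := orderOf_dvd_natCard (⟨c, hc⟩ : L)
    rwa [Subgroup.orderOf_mk] at this)
  obtain ⟨⟨v, hv⟩, hv1⟩ := Subgroup.ne_bot_iff_exists_ne_one.1 h.V1
  obtain ⟨⟨w, hw⟩, hw1⟩ := Subgroup.ne_bot_iff_exists_ne_one.1 h.W1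
  exact h.noBoth (a := c ^ (orderOf c / t))
    ((h.primes t ht hdL).imp (fun e => hk.trans e) (fun e => hk.trans e)) hv
    (fun e => hv1 (Subtype.ext e)) hw (fun e => hw1 (Subtype.ext e)) ((hV v hv).pow_left _)
    ((hW w hw).pow_left _)

/-- No large normal `r`-subgroup. -/
theorem noBig (h : Two σ p q r s L V W) {N : Subgroup X} (hNL : N ≤ L) (hN : IsPGroup r N)
    (hLN : L ≤ normalizer (N : Set X)) (hodd : r ≠ 2 ∨ ∀ a ∈ N, ∀ b ∈ N, Commute a b)
    {E' : Subgroup X} (hE'N : E' ≤ N) (hE' : El2 r E') : False := by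
  haveI := Fact.mk h.hp
  haveI := Fact.mk h.hq
  haveI := Fact.mk h.hr
  obtain ⟨E, hEL, hE⟩ := h.Es
  let A : ∀ M : Subgroup X, L ≤ normalizer (M : Set X) → Subgroup X := fun M hM =>
    { carrier := {e | e ∈ L ∧ ∀ m ∈ N, ∀ v ∈ M, Commute (m⁻¹ * (e * m * e⁻¹)) v}
      one_mem' := ⟨one_mem _, fun m hm v hv => by simp⟩
      mul_mem' := fun {e f} he hf => ⟨mul_mem he.1 hf.1, fun m hm v hv => by
        have h1 := he.2 m hm v hv
        have hv' : e⁻¹ * v * e⁻¹⁻¹ ∈ M := conj_mem_of_le_normalizer hM (inv_mem he.1) hv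
        have h2 := hf.2 m hm _ hv'
        have h3 : Commute (e * (m⁻¹ * (f * m * f⁻¹)) * e⁻¹) v := by
          have := h2.map (MulAut.conj e).toMonoidHom
          simpa [mul_assoc] using this
        have := h1.mul_left h3
        rwa [show m⁻¹ * (e * m * e⁻¹) * (e * (m⁻¹ * (f * m * f⁻¹)) * e⁻¹) =
          m⁻¹ * (e * f * m * (e * f)⁻¹) by group] at this⟩
      inv_mem' := fun {e} he => ⟨inv_mem he.1, fun m hm v hv => by
        have hv' : e * v * e⁻¹ ∈ M := conj_mem_of_le_normalizer hM he.1 hv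
        have h1 := (he.2 m hm _ hv').inv_left
        have := h1.map (MulAut.conj e⁻¹).toMonoidHom
        simpa [mul_assoc] using this⟩ }
  have hcase : ∀ e ∈ E, e ≠ 1 →
      (∀ v ∈ V, Commute e v → v = 1) ∨ (∀ w ∈ W, Commute e w → w = 1) := by
    intro e he he1
    by_contra hcon
    push Not at hcon
    obtain ⟨⟨v, hv, hev, hv1⟩, ⟨w, hw, hew, hw1⟩⟩ := hcon
    exact h.noBoth (Or.inr (hE.orderOf_eq h.hs he he1)) hv hv1 hw hw1 hev hew
  have hunion : ∀ e ∈ E, e ∈ A V h.LV ∨ e ∈ A W h.LW := by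
    intro e he
    by_cases he1 : e = 1
    · subst he1; exact Or.inl (one_mem _)
    rcases hcase e he he1 with hf | hf
    · exact Or.inl ⟨hEL he, fpf_centralizes h.hs h.hpr h.hps h.hrs (hE.orderOf_eq h.hs he he1) hN
        hodd h.isPV h.Vp (hLN (hEL he)) (h.LV (hEL he)) (hNL.trans h.LV) hf⟩
    · exact Or.inr ⟨hEL he, fpf_centralizes h.hs h.hqr h.hqs h.hrs (hE.orderOf_eq h.hs he he1) hN
        hodd h.flip.isPV h.Wq (hLN (hEL he)) (h.LW (hEL he)) (hNL.trans h.LW) hf⟩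
  have main : ∀ {p q : ℕ} {V W : Subgroup X} (h : Two σ p q r s L V W),
      (∀ e ∈ E, e ∈ A V h.LV) → (∀ e ∈ E, e ≠ 1 → (∀ v ∈ V, Commute e v → v = 1) ∨
        e ∈ A W h.LW) → False := by
    intro p q V W h hA hB
    haveI := Fact.mk h.hp
    obtain ⟨e, he, he1, v, hv, hv1, hev⟩ := exists_fixed h.hs h.hps hE h.isPV h.V1 (hEL.trans h.LV)
    rcases hB e he he1 with hf | hf
    · exact hv1 (hf v hv hev)
    have hcen : ∀ m ∈ N, Commute e m := by
      intro m hm
      have := h.faithful (c := m⁻¹ * (e * m * e⁻¹))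
        (mul_mem (inv_mem (hNL hm)) (mul_mem (mul_mem (hEL he) (hNL hm)) (inv_mem (hEL he))))
        (fun v hv => (hA e he).2 m hm v hv) (fun w hw => hf.2 m hm w hw)
      exact mul_inv_eq_iff_eq_mul.1 (inv_mul_eq_one.1 this).symm
    have hU1 : V ⊓ centralizer ({e} : Set X) ≠ ⊥ := fun hbot => hv1 (by
      have : v ∈ V ⊓ centralizer ({e} : Set X) :=
        ⟨hv, Subgroup.mem_centralizer_iff.2 fun y hy => by
          rw [Set.mem_singleton_iff] at hy
          exact hy ▸ hev.eq⟩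
      rwa [hbot, Subgroup.mem_bot] at this)
    have hE'U : E' ≤ normalizer ((V ⊓ centralizer ({e} : Set X) : Subgroup X) : Set X) := by
      refine le_normalizer_of_conj fun l hl u hu =>
        ⟨conj_mem_of_le_normalizer h.LV (hNL (hE'N hl)) hu.1,
          Subgroup.mem_centralizer_iff.2 fun y hy => ?_⟩
      rw [Set.mem_singleton_iff] at hy
      subst hy
      have h1 : Commute y u := Subgroup.mem_centralizer_iff.1 hu.2 y rfl
      have h2 : Commute y l := hcen l (hE'N hl)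
      exact ((h2.mul_right h1).mul_right h2.inv_right).eq
    obtain ⟨a, ha, ha1, u, hu, hu1, hau⟩ := exists_fixed h.hr h.hpr hE'
      (h.isPV.to_le inf_le_left) hU1 hE'U
    exact h.noEdgeFixed (hE'.orderOf_eq h.hr ha ha1) (hE.orderOf_eq h.hs he he1)
      (hcen a (hE'N ha)).symm hu.1 hu1 hau (Subgroup.mem_centralizer_iff.1 hu.2 e rfl)
  rcases (show (∀ e ∈ E, e ∈ A V h.LV) ∨ (∀ e ∈ E, e ∈ A W h.LW) by
    by_contra hcon
    push Not at hcon
    obtain ⟨⟨a, ha, haA⟩, ⟨b, hb, hbB⟩⟩ := hcon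
    rcases hunion (a * b) (mul_mem ha hb) with hab | hab
    · exact haA (by simpa using mul_mem hab (inv_mem ((hunion b hb).resolve_right hbB)))
    · exact hbB (by simpa using mul_mem (inv_mem ((hunion a ha).resolve_left haA)) hab)) with hA | hA
  · exact main h hA fun e he he1 => (hcase e he he1).imp id fun hf => ⟨hEL he,
      fpf_centralizes h.hs h.hqr h.hqs h.hrs (hE.orderOf_eq h.hs he he1) hN hodd h.flip.isPV h.Wq
        (hLN (hEL he)) (h.LW (hEL he)) (hNL.trans h.LW) hf⟩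
  · exact main h.flip hA fun e he he1 => (hcase e he he1).symm.imp id fun hf => ⟨hEL he,
      fpf_centralizes h.hs h.hpr h.hps h.hrs (hE.orderOf_eq h.hs he he1) hN hodd h.isPV h.Vp
        (hLN (hEL he)) (h.LV (hEL he)) (hNL.trans h.LV) hf⟩

/-- A normal element of order `r` is fixed-point-free. -/
theorem fpfV (h : Two σ p q r s L V W) {z : X} (hzL : z ∈ L) (hz : orderOf z = r)
    (hn : L ≤ normalizer (zpowers z : Set X)) : ∀ v ∈ V, Commute z v → v = 1 := by
  intro v hv hzv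
  by_contra hv1
  haveI := Fact.mk h.hp
  haveI := Fact.mk h.hq
  haveI := Fact.mk h.hr
  obtain ⟨E, hEL, hE⟩ := h.Es
  have hvU : v ∈ V ⊓ centralizer (zpowers z : Set X) := ⟨hv, Subgroup.mem_centralizer_iff.2
    fun y hy => (commute_of_mem_zpowers hzv.symm hy).symm.eq⟩
  obtain ⟨e, he, he1, u, hu, hu1, heu⟩ := exists_fixed h.hs h.hps hE (h.isPV.to_le inf_le_left)
    (fun hb => hv1 (by
      have := hvU
      rwa [hb, Subgroup.mem_bot] at this))
    (hEL.trans (le_normalizer_fixed h.LV hn))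
  have hzu : Commute z u := Subgroup.mem_centralizer_iff.1 hu.2 z (mem_zpowers z)
  by_cases hez : Commute e z
  · exact h.noEdgeFixed hz (hE.orderOf_eq h.hs he he1) hez.symm hu.1 hu1 hzu heu
  have hfree : ∀ w ∈ W, Commute e w → w = 1 := fun w hw hew => by_contra fun hw1 =>
    h.noBoth (Or.inr (hE.orderOf_eq h.hs he he1)) hu.1 hu1 hw hw1 heu hew
  have hzp : zpowers z ≤ L := zpowers_le.2 hzL
  have key := fpf_centralizes h.hs h.hqr h.hqs h.hrs (hE.orderOf_eq h.hs he he1)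
    (P := zpowers z) (IsPGroup.of_card (n := 1) (by rw [Nat.card_zpowers, hz, pow_one]))
    (Or.inr fun a ha b hb => by
      obtain ⟨i, rfl⟩ := ha
      obtain ⟨j, rfl⟩ := hb
      exact (Commute.refl z).zpow_zpow i j)
    h.flip.isPV h.Wq (hn (hEL he)) (h.LW (hEL he)) (hzp.trans h.LW) hfree z (mem_zpowers z)
  set c := z⁻¹ * (e * z * e⁻¹) with hc
  have hc1 : c ≠ 1 := fun hc1 => hez (mul_inv_eq_iff_eq_mul.1 (inv_mul_eq_one.1 hc1).symm)
  have hzc : z ∈ zpowers c := mem_zpowers_of_ne_one h.hr hz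
    (mul_mem (inv_mem (mem_zpowers z)) (conj_mem_of_le_normalizer hn (hEL he) (mem_zpowers z))) hc1
  obtain ⟨⟨w, hw⟩, hw1⟩ := Subgroup.ne_bot_iff_exists_ne_one.1 h.W1
  exact h.noBoth (Or.inl hz) hu.1 hu1 hw (fun e => hw1 (Subtype.ext e)) hzu
    (commute_of_mem_zpowers (key w hw).symm hzc).symm

/-- Elements of order `s` centralise a normal element of order `r`. -/
theorem commute_normal (h : Two σ p q r s L V W) {z : X} (hzL : z ∈ L) (hz : orderOf z = r)
    (hn : L ≤ normalizer (zpowers z : Set X)) {e : X} (heL : e ∈ L) (he : orderOf e = s) :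
    Commute e z := by
  by_contra hez
  haveI := Fact.mk h.hp
  haveI := Fact.mk h.hq
  haveI := Fact.mk h.hr
  have hzp : zpowers z ≤ L := zpowers_le.2 hzL
  have hP : IsPGroup r ↥(zpowers z) := IsPGroup.of_card (n := 1) (by rw [Nat.card_zpowers, hz, pow_one])
  have hPc : r ≠ 2 ∨ ∀ a ∈ zpowers z, ∀ b ∈ zpowers z, Commute a b := Or.inr fun a ha b hb => by
    obtain ⟨i, rfl⟩ := ha
    obtain ⟨j, rfl⟩ := hb
    exact (Commute.refl z).zpow_zpow i j
  set c := z⁻¹ * (e * z * e⁻¹) with hc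
  have hc1 : c ≠ 1 := fun hc1 => hez (mul_inv_eq_iff_eq_mul.1 (inv_mul_eq_one.1 hc1).symm)
  have hzc : z ∈ zpowers c := mem_zpowers_of_ne_one h.hr hz
    (mul_mem (inv_mem (mem_zpowers z)) (conj_mem_of_le_normalizer hn heL (mem_zpowers z))) hc1
  have main : ∀ {p q : ℕ} {V W : Subgroup X} (h : Two σ p q r s L V W),
      ¬ ∀ v ∈ V, Commute e v → v = 1 := by
    intro p q V W h hf
    haveI := Fact.mk h.hp
    have key := fpf_centralizes h.hs h.hpr h.hps h.hrs he hP hPc h.isPV h.Vp (hn heL) (h.LV heL)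
      (hzp.trans h.LV) hf z (mem_zpowers z)
    obtain ⟨⟨v, hv⟩, hv1⟩ := Subgroup.ne_bot_iff_exists_ne_one.1 h.V1
    exact hv1 (Subtype.ext (h.fpfV hzL hz hn v hv (commute_of_mem_zpowers (key v hv).symm hzc).symm))
  have h1 := main h
  have h2 := main h.flip
  push Not at h1 h2
  obtain ⟨v, hv, hev, hv1⟩ := h1
  obtain ⟨w, hw, hew, hw1⟩ := h2
  exact h.noBoth (Or.inr he) hv hv1 hw hw1 hev hew

/-- The `r`-core is cyclic and centralised by the elements of order `s`. -/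
theorem core_small (h : Two σ p q r s L V W) :
    IsCyclic (Cfsg.pCore r L) ∧
      ∀ e ∈ L, orderOf e = s → ∀ x ∈ (Cfsg.pCore r L).map L.subtype, Commute e x := by
  haveI := Fact.mk h.hp
  haveI := Fact.mk h.hq
  haveI := Fact.mk h.hr
  set R := (Cfsg.pCore r L).map L.subtype with hR
  have hRL : R ≤ L := Subgroup.map_subtype_le _
  have hRp : IsPGroup r R := (Solvable.pCore_isPGroup (G := ↥L) r).map _
  have hLR : L ≤ normalizer (R : Set X) := le_normalizer_of_conj fun l hl x hx => by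
    obtain ⟨y, hy, rfl⟩ := hx
    exact ⟨_, (Solvable.pCore_normal r L).conj_mem y hy ⟨l, hl⟩, rfl⟩
  have e : ↥(Cfsg.pCore r L) ≃* R := (Cfsg.pCore r L).equivMapOfInjective _ L.subtype_injective
  by_cases hR1 : R = ⊥
  · have : Subsingleton R := by rw [hR1]; infer_instance
    have : Subsingleton (Cfsg.pCore r L) := e.toEquiv.subsingleton
    exact ⟨inferInstance, fun e _ _ x hx => by rw [hR1, Subgroup.mem_bot] at hx; subst hx; simp⟩
  let Z := R ⊓ centralizer (R : Set X)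
  have hZc : ∀ a ∈ Z, ∀ b ∈ Z, Commute a b := fun a ha b hb =>
    (Subgroup.mem_centralizer_iff.1 hb.2 a ha.1)
  have hLZ : L ≤ normalizer (Z : Set X) := le_normalizer_of_conj fun l hl x hx =>
    ⟨conj_mem_of_le_normalizer hLR hl hx.1, Subgroup.mem_centralizer_iff.2 fun y hy => by
      have h1 := conj_mem_of_le_normalizer hLR (inv_mem hl) hy
      have h2 : (l⁻¹ * y * l⁻¹⁻¹) * x = x * (l⁻¹ * y * l⁻¹⁻¹) :=
        Subgroup.mem_centralizer_iff.1 hx.2 _ h1
      calc y * (l * x * l⁻¹) = l * ((l⁻¹ * y * l⁻¹⁻¹) * x) * l⁻¹ := by group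
        _ = l * x * l⁻¹ * y := by rw [h2]; group⟩
  have hZp : IsPGroup r Z := hRp.to_le inf_le_left
  rcases el2_or_unique hZp with ⟨E', hE'Z, hE'⟩ | huniq
  · exact (h.noBig (inf_le_left.trans hRL) hZp hLZ (Or.inr hZc) hE'Z hE').elim
  obtain ⟨z, hzZ, hz⟩ : ∃ z ∈ Z, orderOf z = r := by
    have : Nontrivial R := (Subgroup.nontrivial_iff_ne_bot R).2 hR1
    have := hRp.center_nontrivial
    obtain ⟨c, hc⟩ := exists_ne (1 : Subgroup.center R)
    have hcZ : ((c : R) : X) ∈ Z := ⟨(c : R).2, Subgroup.mem_centralizer_iff.2 fun y hy =>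
      congrArg Subtype.val (Subgroup.mem_center_iff.1 c.2 ⟨y, hy⟩)⟩
    obtain ⟨k, hk, hkZ⟩ := exists_orderOf_pow hZp hcZ (fun e => hc (Subtype.ext (Subtype.ext e)))
    exact ⟨_, hkZ, hk⟩
  have hn : L ≤ normalizer (zpowers z : Set X) := le_normalizer_of_conj fun l hl x hx => by
    obtain ⟨i, rfl⟩ := hx
    simp only
    rw [← conj_zpow]
    refine zpow_mem (huniq z hzZ _ (conj_mem_of_le_normalizer hLZ hl hzZ) hz ?_) i
    rw [show l * z * l⁻¹ = MulAut.conj l z from rfl, MulEquiv.orderOf_eq, hz]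
  have hzL : z ∈ L := hRL hzZ.1
  have hr2 : r ≠ 2 := by
    rintro rfl
    obtain ⟨E, hEL, hE⟩ := h.Er
    have hzc : ∀ l ∈ L, Commute z l := fun l hl =>
      (commute_of_coprime Nat.prime_two hz (hn hl) (Nat.coprime_one_right _)).symm
    obtain ⟨x, hx, hxz⟩ := hE.not_mem_zpowers Nat.prime_two hz
    have hxo : orderOf x = 2 := hE.orderOf_eq Nat.prime_two hx (fun e => hxz (e ▸ one_mem _))
    have hE₂ := el2_of_commute Nat.prime_two hz hxo (hzc x (hEL hx)) hxz
    have hE₂L : zpowers z ⊔ zpowers x ≤ L := sup_le (zpowers_le.2 hzL) (zpowers_le.2 (hEL hx))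
    obtain ⟨t, ht, ht1, v, hv, hv1, htv⟩ :=
      exists_fixed Nat.prime_two h.hpr hE₂ h.isPV h.V1 (hE₂L.trans h.LV)
    have htL := hE₂L ht
    have hto : orderOf t = 2 := hE₂.orderOf_eq Nat.prime_two ht ht1
    have htz : t ∉ zpowers z := fun hh => hv1 (h.fpfV hzL hz hn v hv
      (commute_of_mem_zpowers htv.symm (mem_zpowers_of_ne_one Nat.prime_two hz hh ht1)).symm)
    have htt : t * t = 1 := by rw [← pow_two, ← hto, pow_orderOf_eq_one]
    have hzz : z * z = 1 := by rw [← pow_two, ← hz, pow_orderOf_eq_one]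
    have htfW : ∀ w ∈ W, Commute t w → w = 1 := fun w hw htw => by_contra fun hw1 =>
      h.noBoth (Or.inl hto) hv hv1 hw hw1 htv htw
    have hzfV := h.fpfV hzL hz hn
    have hzfW := h.flip.fpfV hzL hz hn
    have hcz : Commute z t := hzc t htL
    have htzW : ∀ w ∈ W, Commute (t * z) w := fun w hw => mul_inv_eq_iff_eq_mul.1 (by
      rw [show t * z * w * (t * z)⁻¹ = t * (z * w * z⁻¹) * t⁻¹ by group,
        conj_eq_inv hzz h.Wc (h.LW hzL) hzfW hw,
        conj_eq_inv htt h.Wc (h.LW htL) htfW (inv_mem hw), inv_inv])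
    have htz1 : t * z ≠ 1 := fun e => htz (by
      rw [eq_inv_of_mul_eq_one_left e]; exact inv_mem (mem_zpowers z))
    have htzo : orderOf (t * z) = 2 := hE₂.orderOf_eq Nat.prime_two
      (mul_mem ht (Subgroup.mem_sup_left (mem_zpowers z))) htz1
    obtain ⟨⟨w₀, hw₀⟩, hw₁⟩ := Subgroup.ne_bot_iff_exists_ne_one.1 h.W1
    have htzfV : ∀ v ∈ V, Commute (t * z) v → v = 1 := fun v hv hc => by_contra fun hv1 =>
      h.noBoth (Or.inl htzo) hv hv1 hw₀ (fun e => hw₁ (Subtype.ext e)) hc (htzW w₀ hw₀)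
    have htzz : t * z * (t * z) = 1 := by rw [← pow_two, ← htzo, pow_orderOf_eq_one]
    have htV : ∀ v ∈ V, t * v * t⁻¹ = v := fun v hv => by
      have h1 := conj_eq_inv htzz h.Vc (h.LV (mul_mem htL hzL)) htzfV (inv_mem hv)
      rw [inv_inv, show t * z * v⁻¹ * (t * z)⁻¹ = t * (z * v⁻¹ * z⁻¹) * t⁻¹ by group,
        conj_eq_inv hzz h.Vc (h.LV hzL) hzfV (inv_mem hv), inv_inv] at h1
      exact h1
    have htW : ∀ w ∈ W, t * w * t⁻¹ = w⁻¹ := fun w hw =>
      conj_eq_inv htt h.Wc (h.LW htL) htfW hw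
    have htc : ∀ l ∈ L, l * t * l⁻¹ = t := by
      intro l hl
      refine mul_inv_eq_one.1 (h.faithful (mul_mem (mul_mem (mul_mem hl htL) (inv_mem hl))
        (inv_mem htL)) ?_ ?_)
      · intro v hv
        refine mul_inv_eq_iff_eq_mul.1 ?_
        have h1 : t⁻¹ * v * t⁻¹⁻¹ = v := by
          rw [inv_eq_of_mul_eq_one_right htt]
          exact htV v hv
        have h2 : l⁻¹ * v * l⁻¹⁻¹ ∈ V := conj_mem_of_le_normalizer h.LV (inv_mem hl) hv
        calc l * t * l⁻¹ * t⁻¹ * v * (l * t * l⁻¹ * t⁻¹)⁻¹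
            = l * (t * (l⁻¹ * (t⁻¹ * v * t⁻¹⁻¹) * l⁻¹⁻¹) * t⁻¹) * l⁻¹ := by group
          _ = v := by rw [h1, htV _ h2]; group
      · intro w hw
        refine mul_inv_eq_iff_eq_mul.1 ?_
        have h1 : t⁻¹ * w * t⁻¹⁻¹ = w⁻¹ := by
          rw [inv_eq_of_mul_eq_one_right htt]
          exact htW w hw
        have h2 : l⁻¹ * w⁻¹ * l⁻¹⁻¹ ∈ W :=
          conj_mem_of_le_normalizer h.LW (inv_mem hl) (inv_mem hw)
        calc l * t * l⁻¹ * t⁻¹ * w * (l * t * l⁻¹ * t⁻¹)⁻¹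
            = l * (t * (l⁻¹ * (t⁻¹ * w * t⁻¹⁻¹) * l⁻¹⁻¹) * t⁻¹) * l⁻¹ := by group
          _ = w := by rw [h1, htW _ h2]; group
    have hN := el2_of_commute Nat.prime_two hz hto hcz htz
    refine h.noBig (sup_le (zpowers_le.2 hzL) (zpowers_le.2 htL)) hN.isPGroup ?_
      (Or.inr hN.comm) le_rfl hN
    refine le_normalizer_of_conj fun l hl x hx => ?_
    have : (zpowers z ⊔ zpowers t) ≤
        (zpowers z ⊔ zpowers t).comap (MulAut.conj l).toMonoidHom := by
      refine sup_le (zpowers_le.2 ?_) (zpowers_le.2 ?_)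
      · show l * z * l⁻¹ ∈ zpowers z ⊔ zpowers t
        rw [← (hzc l hl).eq, mul_inv_cancel_right]
        exact Subgroup.mem_sup_left (mem_zpowers z)
      · show l * t * l⁻¹ ∈ zpowers z ⊔ zpowers t
        rw [htc l hl]
        exact Subgroup.mem_sup_right (mem_zpowers t)
    exact this hx
  rcases el2_or_unique hRp with ⟨E', hE'R, hE'⟩ | hu
  · exact (h.noBig hRL hRp hLR (Or.inl hr2) hE'R hE').elim
  have hcyc : IsCyclic R := cyclic_of_unique hr2 hRp hu
  exact ⟨isCyclic_of_injective e.toMonoidHom e.injective, fun a ha hao => commute_cyclic h.hs h.hrs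
    hRp hcyc hao (hLR ha) hzZ.1 hz (h.commute_normal hzL hz hn ha hao)⟩

theorem false (h : Two σ p q r s L V W) : False := by
  haveI := Fact.mk h.hr
  haveI := h.solv
  obtain ⟨E, hEL, hE⟩ := h.Er
  have hE' : El2 r (E.subgroupOf L) := by
    refine ⟨fun a ha b hb => Subtype.ext (hE.comm a ha b hb).eq,
      fun a ha => Subtype.ext (by simpa using hE.pow a ha), ?_⟩
    rw [← hE.card]
    exact Nat.card_congr (Subgroup.subgroupOfEquivOfLe hEL).toEquiv
  have hother : ∀ t : ℕ, t.Prime → t ≠ r → t ≠ s → Cfsg.pCore t L = ⊥ := by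
    intro t ht h1 h2
    haveI := Fact.mk ht
    by_contra hne
    obtain ⟨n, hn⟩ := IsPGroup.iff_card.1 (Solvable.pCore_isPGroup (G := ↥L) t)
    rcases n with _ | n
    · exact hne (Subgroup.card_eq_one.1 (by simpa using hn))
    · have hd : t ∣ Nat.card L :=
        (hn ▸ dvd_pow_self t (Nat.succ_ne_zero n)).trans (Subgroup.card_subgroup_dvd_card _)
      exact (h.primes t ht hd).elim h1 h2
  refine false_of_cyclic_cores (X := ↥L) (fun t ht => ?_) hE' fun a ha t ht htr x hx => ?_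
  · by_cases h1 : t = r
    · exact h1 ▸ h.core_small.1
    by_cases h2 : t = s
    · exact h2 ▸ h.swap.core_small.1
    rw [hother t ht h1 h2]
    infer_instance
  · by_cases h2 : t = s
    · subst h2
      by_cases ha1 : a = 1
      · exact ha1 ▸ Commute.one_left x
      have hao : orderOf (a : X) = r := hE.orderOf_eq h.hr ha (fun e => ha1 (Subtype.ext e))
      exact Subtype.ext (h.swap.core_small.2 a a.2 hao x (Subgroup.mem_map_of_mem _ hx)).eq
    rw [hother t ht htr h2, Subgroup.mem_bot] at hx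
    subst hx
    exact Commute.one_right a

end Two

end CfsgLib.ClassK.FourPrimes
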