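import Cfsg.Agent.Lib.Amalgam.PReduced
import Cfsg.Agent.Lib.Amalgam.PCoreOf

/-!
A group `L` of characteristic `p` with a quadratically acting elementary abelian subgroup `Y` in a
unique maximal subgroup: `O_p(L)` modulo `C_Y(L)` is the sum of two conjugates of `Y ∩ O_p(L)`, and
no element of `Y` outside `O_p(L)` fixes a point outside its own summand.
-/

set_option autoImplicit false
set_option linter.unusedSectionVars false

namespace CfsgLib.ClassK.FrakL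

open Subgroup
open scoped commutatorElement

variable {G : Type*} [Group G] [Finite G] {p : ℕ} [Fact p.Prime]

/-- The hypotheses on `L` and `Y`. -/
structure Ctx (p : ℕ) (L Y : Subgroup G) : Prop where
  le : Y ≤ L
  elem : Cfsg.IsElementaryAbelian p Y
  ncl : Cfsg.pCoreOf p L =
    (normalClosure (((Y ⊓ Cfsg.pCoreOf p L).subgroupOf L : Subgroup ↥L) : Set ↥L)).map L.subtype
  norm : Cfsg.pCoreOf p L ≤ normalizer (Y : Set G)
  top : normalClosure ((Y.subgroupOf L : Subgroup ↥L) : Set ↥L) = ⊤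
  charp : centralizer (Cfsg.pCore p ↥L : Set ↥L) ≤ Cfsg.pCore p ↥L
  lt : L ⊓ normalizer (Y : Set G) < L
  max : ∀ X : Subgroup G, Y ≤ X → X < L → X ≤ L ⊓ normalizer (Y : Set G)

/-- A conjugate of `Y` under `L`. -/
abbrev cj (Y : Subgroup G) (g : G) : Subgroup G := Y.map (MulAut.conj g).toMonoidHom

theorem mem_cj {Y : Subgroup G} {g x : G} : x ∈ cj Y g ↔ g⁻¹ * x * g ∈ Y := by
  constructor
  · rintro ⟨y, hy, rfl⟩; simpa [mul_assoc] using hy
  · intro h; exact ⟨_, h, by simp [mul_assoc]⟩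

theorem mem_cj_conj {Y : Subgroup G} {g y : G} (hy : y ∈ Y) : g * y * g⁻¹ ∈ cj Y g := ⟨y, hy, rfl⟩

variable {L Y : Subgroup G}

/-- `C = C_Y(L)`. -/
abbrev cen (L Y : Subgroup G) : Subgroup G := Y ⊓ centralizer (L : Set G)

namespace Ctx

theorem cj_le (c : Ctx p L Y) {g : G} (hg : g ∈ L) : cj Y g ≤ L := by
  rintro _ ⟨y, hy, rfl⟩
  exact mul_mem (mul_mem hg (c.le hy)) (inv_mem hg)

theorem pCore_conj (_c : Ctx p L Y) {g x : G} (hg : g ∈ L) (hx : x ∈ Cfsg.pCoreOf p L) :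
    g * x * g⁻¹ ∈ Cfsg.pCoreOf p L :=
  (mem_normalizer_iff.1 (CfsgLib.Amalgam.le_normalizer_pCoreOf L hg) x).1 hx

theorem centralizer_le (c : Ctx p L Y) {x : G} (hx : x ∈ L)
    (h : ∀ a ∈ Cfsg.pCoreOf p L, x * a = a * x) : x ∈ Cfsg.pCoreOf p L := by
  refine ⟨⟨x, hx⟩, c.charp fun a ha => Subtype.ext ?_, rfl⟩
  exact (h a ⟨a, ha, rfl⟩).symm

theorem cen_le (c : Ctx p L Y) : cen L Y ≤ Cfsg.pCoreOf p L := fun _ hx =>
  c.centralizer_le (c.le hx.1) fun a ha => (hx.2 a (CfsgLib.Amalgam.pCoreOf_le L ha)).symm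

theorem cen_comm (_c : Ctx p L Y) {z l : G} (hz : z ∈ cen L Y) (hl : l ∈ L) : l * z = z * l := hz.2 l hl

theorem cen_le_cj (c : Ctx p L Y) {g : G} (hg : g ∈ L) : cen L Y ≤ cj Y g := by
  intro z hz
  refine mem_cj.2 ?_
  rw [mul_assoc, ← c.cen_comm hz hg, inv_mul_cancel_left]
  exact hz.1

theorem cj_comm (c : Ctx p L Y) {g x y : G} (hx : x ∈ cj Y g) (hy : y ∈ cj Y g) : x * y = y * x := by
  obtain ⟨x, hx, rfl⟩ := hx
  obtain ⟨y, hy, rfl⟩ := hy
  rw [← map_mul, ← map_mul, CfsgLib.PLocal.elemAb_comm c.elem hx hy]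

theorem cj_pow (c : Ctx p L Y) {g x : G} (hx : x ∈ cj Y g) : x ^ p = 1 := by
  obtain ⟨x, hx, rfl⟩ := hx
  rw [← map_pow, c.elem.2 x hx, map_one]

/-- `[Y^g, O_p(L)] ≤ Y^g ∩ O_p(L)`. -/
theorem comm_mem (c : Ctx p L Y) {g y a : G} (hg : g ∈ L) (hy : y ∈ cj Y g)
    (ha : a ∈ Cfsg.pCoreOf p L) : ⁅y, a⁆ ∈ cj Y g ∧ ⁅y, a⁆ ∈ Cfsg.pCoreOf p L := by
  refine ⟨?_, ?_⟩
  · refine mem_cj.2 ?_
    have ha' : g⁻¹ * a * g ∈ Cfsg.pCoreOf p L := by simpa using c.pCore_conj (inv_mem hg) ha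
    have h := (mem_normalizer_iff.1 (c.norm ha') _).1 (inv_mem (mem_cj.1 hy))
    have h2 := mul_mem (mem_cj.1 hy) h
    convert h2 using 1
    rw [commutatorElement_def]
    group
  · rw [commutatorElement_def]
    exact mul_mem (c.pCore_conj (c.cj_le hg hy) ha) (inv_mem ha)

/-- The kernel of the action on `O_p(L)/C` is `O_p(L)`. -/
theorem mem_of_trivial (c : Ctx p L Y) {x : G} (hx : x ∈ L)
    (h : ∀ a ∈ Cfsg.pCoreOf p L, ⁅x, a⁆ ∈ cen L Y) : x ∈ Cfsg.pCoreOf p L := by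
  set A := Cfsg.pCoreOf p L
  let K : Subgroup G :=
    { carrier := {k | k ∈ L ∧ ∀ a ∈ A, ⁅k, a⁆ ∈ cen L Y}
      one_mem' := ⟨one_mem L, fun a _ => by rw [commutatorElement_one_left]; exact one_mem _⟩
      mul_mem' := fun {k l} hk hl => ⟨mul_mem hk.1 hl.1, fun a ha => by
        have e : ⁅k * l, a⁆ = (k * ⁅l, a⁆ * k⁻¹) * ⁅k, a⁆ := by simp only [commutatorElement_def]; group
        rw [e, c.cen_comm (hl.2 a ha) hk.1, mul_inv_cancel_right]
        exact mul_mem (hl.2 a ha) (hk.2 a ha)⟩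
      inv_mem' := fun {k} hk => ⟨inv_mem hk.1, fun a ha => by
        have e : ⁅k⁻¹, a⁆ = k⁻¹ * ⁅k, a⁆⁻¹ * k := by simp only [commutatorElement_def]; group
        rw [e, mul_assoc, ← c.cen_comm (inv_mem (hk.2 a ha)) hk.1, inv_mul_cancel_left]
        exact inv_mem (hk.2 a ha)⟩ }
  have hKn : L ≤ normalizer (K : Set G) := by
    refine fun l hl => mem_normalizer_iff.2 fun k => ?_
    have key : ∀ l ∈ L, ∀ k ∈ K, l * k * l⁻¹ ∈ K := by
      rintro l hl k ⟨hk, hk'⟩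
      refine ⟨mul_mem (mul_mem hl hk) (inv_mem hl), fun a ha => ?_⟩
      have e : ⁅l * k * l⁻¹, a⁆ = l * ⁅k, l⁻¹ * a * l⁆ * l⁻¹ := by simp only [commutatorElement_def]; group
      have h1 := hk' (l⁻¹ * a * l) (by simpa using c.pCore_conj (inv_mem hl) ha)
      rw [e, c.cen_comm h1 hl, mul_inv_cancel_right]
      exact h1
    exact ⟨key l hl k, fun hk => by simpa [mul_assoc] using key l⁻¹ (inv_mem hl) _ hk⟩
  refine CfsgLib.Amalgam.le_pCoreOf (fun k (hk : k ∈ K) => hk.1) hKn ?_ (⟨hx, h⟩ : x ∈ K)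
  intro k
  obtain ⟨e, m, hm, hke⟩ := Nat.exists_eq_pow_mul_and_not_dvd (orderOf_pos k).ne' p
    (Nat.Prime.ne_one Fact.out)
  refine ⟨e, ?_⟩
  set u := k ^ p ^ e
  have hum : (u : G) ^ m = 1 := by
    rw [← SubmonoidClass.coe_pow, ← pow_mul, ← hke, pow_orderOf_eq_one]; rfl
  have huL : (u : G) ∈ L := u.2.1
  have hcent : ∀ a ∈ A, (u : G) * a = a * u := by
    intro a ha
    have hz := u.2.2 a ha
    set z := ⁅(u : G), a⁆ with hzd
    have hu : (u : G) * a * (u : G)⁻¹ = z * a := by rw [hzd, commutatorElement_def]; group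
    have hn : ∀ n : ℕ, (u : G) ^ n * a * ((u : G) ^ n)⁻¹ = z ^ n * a := by
      intro n
      induction n with
      | zero => simp
      | succ n ih =>
        have hzc : (u : G) * z ^ n = z ^ n * u := c.cen_comm (pow_mem hz n) huL
        calc (u : G) ^ (n + 1) * a * ((u : G) ^ (n + 1))⁻¹
            = (u : G) * ((u : G) ^ n * a * ((u : G) ^ n)⁻¹) * (u : G)⁻¹ := by rw [pow_succ']; group
          _ = z ^ n * ((u : G) * a * (u : G)⁻¹) := by rw [ih, ← mul_assoc, hzc]; group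
          _ = _ := by rw [hu, ← mul_assoc, ← pow_succ]
    have h1 := hn m
    rw [hum, one_mul, inv_one, mul_one, right_eq_mul] at h1
    obtain ⟨i, hi⟩ := (CfsgLib.Amalgam.isPGroup_pCoreOf (p := p) L) ⟨z, c.cen_le hz⟩
    have hi' : z ^ p ^ i = 1 := congrArg Subtype.val hi
    have hcop : (p ^ i).Coprime m :=
      Nat.Coprime.pow_left i ((Nat.Prime.coprime_iff_not_dvd Fact.out).2 hm)
    have hz1 : z = 1 := by simpa [hcop.gcd_eq_one] using pow_gcd_eq_one.2 ⟨hi', h1⟩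
    rw [← mul_inv_eq_iff_eq_mul, hu, hz1, one_mul]
  obtain ⟨i, hi⟩ := (CfsgLib.Amalgam.isPGroup_pCoreOf (p := p) L) ⟨(u : G), c.centralizer_le huL hcent⟩
  have hi' : (u : G) ^ p ^ i = 1 := congrArg Subtype.val hi
  have hcop : (p ^ i).Coprime m :=
    Nat.Coprime.pow_left i ((Nat.Prime.coprime_iff_not_dvd Fact.out).2 hm)
  exact Subtype.ext (by simpa [hcop.gcd_eq_one] using pow_gcd_eq_one.2 ⟨hi', hum⟩)

/-- A proper overgroup of `Y^g` normalises it. -/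
theorem max_cj (c : Ctx p L Y) {g : G} (hg : g ∈ L) {X : Subgroup G} (hX : cj Y g ≤ X) (hXL : X ≤ L)
    (hne : X ≠ L) : X ≤ normalizer ((cj Y g : Subgroup G) : Set G) := by
  set X' := X.map (MulAut.conj g⁻¹).toMonoidHom
  have hX'L : X' ≤ L := by
    rintro _ ⟨x, hx, rfl⟩
    exact mul_mem (mul_mem (inv_mem hg) (hXL hx)) (inv_mem (inv_mem hg))
  have hYX : Y ≤ X' := fun y hy => ⟨g * y * g⁻¹, hX (mem_cj_conj hy), by simp [mul_assoc]⟩
  have hX'ne : X' ≠ L := fun e => hne (le_antisymm hXL fun l hl => by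
    obtain ⟨x, hx, hxl⟩ : g⁻¹ * l * g ∈ X' := by rw [e]; exact mul_mem (mul_mem (inv_mem hg) hl) hg
    have : x = l := by simpa [mul_assoc] using hxl
    exact this ▸ hx)
  intro x hx
  have h1 : g⁻¹ * x * g ∈ normalizer (Y : Set G) := by
    have := (c.max X' hYX (lt_of_le_of_ne hX'L hX'ne)) ⟨x, hx, rfl⟩
    simpa using this.2
  refine mem_normalizer_iff.2 fun y => ?_
  rw [mem_cj, mem_cj, mem_normalizer_iff.1 h1 (g⁻¹ * y * g)]
  exact iff_of_eq (congrArg (· ∈ Y) (by group))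

/-- `Y` is not in `O_p(L)`. -/
theorem not_le (c : Ctx p L Y) : ¬ Y ≤ Cfsg.pCoreOf p L := by
  intro h
  refine lt_irrefl L (lt_of_le_of_lt (le_inf le_rfl fun l hl => c.norm ?_) c.lt)
  haveI : (((Cfsg.pCoreOf p L).subgroupOf L)).Normal :=
    normal_subgroupOf_of_le_normalizer (CfsgLib.Amalgam.le_normalizer_pCoreOf L)
  have := (normalClosure_le_normal (s := ((Y.subgroupOf L : Subgroup ↥L) : Set ↥L))
    (N := (Cfsg.pCoreOf p L).subgroupOf L) fun y hy => h hy) (c.top.symm ▸ mem_top (⟨l, hl⟩ : L))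
  exact this

/-- Two conjugates generating `L` exist. -/
theorem exists_gen (c : Ctx p L Y) : ∃ g ∈ L, Y ⊔ cj Y g = L := by
  by_contra hcon
  simp only [not_exists, not_and] at hcon
  refine lt_irrefl L (lt_of_le_of_lt ?_ c.lt)
  have h1 : normalClosure ((Y.subgroupOf L : Subgroup ↥L) : Set ↥L) ≤
      (L ⊓ normalizer (Y : Set G)).subgroupOf L := by
    rw [normalClosure, closure_le]
    intro x hx
    obtain ⟨y, hy, hyx⟩ := Group.mem_conjugatesOfSet_iff.1 hx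
    obtain ⟨g, rfl⟩ := isConj_iff.1 hyx
    have hle := c.max (Y ⊔ cj Y g) le_sup_left
      (lt_of_le_of_ne (sup_le c.le (c.cj_le g.2)) (hcon g g.2))
    exact hle (mem_sup_right (mem_cj_conj hy))
  rw [c.top] at h1
  exact fun l hl => h1 (mem_top (⟨l, hl⟩ : L))

variable {a b : G}

theorem inter_le (c : Ctx p L Y) (ha : a ∈ L) (hab : cj Y a ⊔ cj Y b = L) {x : G}
    (hxa : x ∈ cj Y a) (hxb : x ∈ cj Y b) : x ∈ cen L Y := by
  have hxc : x ∈ centralizer (L : Set G) := by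
    rw [← hab]
    have : cj Y a ⊔ cj Y b ≤ centralizer ({x} : Set G) := sup_le
      (fun y hy => by rw [mem_centralizer_singleton_iff]; exact c.cj_comm hy hxa)
      (fun y hy => by rw [mem_centralizer_singleton_iff]; exact c.cj_comm hy hxb)
    intro l hl
    exact mem_centralizer_singleton_iff.1 (this hl)
  refine ⟨?_, hxc⟩
  have h := mem_cj.1 hxa
  rwa [mul_assoc, ← hxc a ha, inv_mul_cancel_left] at h

theorem decomp (c : Ctx p L Y) (ha : a ∈ L) (hb : b ∈ L) (hab : cj Y a ⊔ cj Y b = L) {v : G}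
    (hv : v ∈ Cfsg.pCoreOf p L) :
    ∃ u u', u ∈ cj Y a ∧ u ∈ Cfsg.pCoreOf p L ∧ u' ∈ cj Y b ∧ u' ∈ Cfsg.pCoreOf p L ∧ v = u * u' := by
  set A := Cfsg.pCoreOf p L
  set U := cj Y a ⊓ A
  set U' := cj Y b ⊓ A
  have hnorm : ∀ {g : G}, g ∈ L → U' ≤ normalizer ((cj Y g ⊓ A : Subgroup G) : Set G) := by
    intro g hg x hx
    refine mem_normalizer_iff.2 fun y => ?_
    have key : ∀ x ∈ A, ∀ y ∈ cj Y g ⊓ A, x * y * x⁻¹ ∈ cj Y g ⊓ A := by
      intro x hx y hy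
      have h := c.comm_mem hg hy.1 hx
      rw [show x * y * x⁻¹ = ⁅y, x⁆⁻¹ * y by rw [commutatorElement_def]; group]
      exact Subgroup.mem_inf.2 ⟨mul_mem (inv_mem h.1) hy.1, mul_mem (inv_mem h.2) hy.2⟩
    exact ⟨key x hx.2 y, fun h => by simpa [mul_assoc] using key x⁻¹ (inv_mem hx.2) _ h⟩
  set W := U ⊔ U'
  have hWA : W ≤ A := sup_le inf_le_right inf_le_right
  have hWn : L ≤ normalizer (W : Set G) := by
    rw [← hab]
    have key : ∀ {g g' : G}, g ∈ L → g' ∈ L → (cj Y g ⊓ A ≤ W) → ∀ y ∈ cj Y g, ∀ w ∈ cj Y g' ⊓ A,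
        w ∈ W → y * w * y⁻¹ ∈ W := by
      intro g g' hg _ hgW y hy w hw hwW
      rw [show y * w * y⁻¹ = ⁅y, w⁆ * w by rw [commutatorElement_def]; group]
      exact mul_mem (hgW (Subgroup.mem_inf.2 (c.comm_mem hg hy hw.2))) hwW
    have hstep : ∀ {g : G}, g ∈ L → (cj Y g ⊓ A ≤ W) → cj Y g ≤ normalizer (W : Set G) := by
      intro g hg hgW
      have h1 : ∀ y ∈ cj Y g, ∀ w ∈ W, y * w * y⁻¹ ∈ W := by
        intro y hy w hw
        have : W ≤ W.comap (MulAut.conj y).toMonoidHom := sup_le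
          (fun w hw => key hg ha hgW y hy w hw (mem_sup_left hw))
          (fun w hw => key hg hb hgW y hy w hw (mem_sup_right hw))
        exact this hw
      exact fun y hy => mem_normalizer_iff.2 fun w =>
        ⟨h1 y hy w, fun h => by simpa [mul_assoc] using h1 y⁻¹ (inv_mem hy) _ h⟩
    exact sup_le (hstep ha le_sup_left) (hstep hb le_sup_right)
  have hAW : A ≤ W := by
    haveI : (W.subgroupOf L).Normal := normal_subgroupOf_of_le_normalizer hWn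
    show Cfsg.pCoreOf p L ≤ W
    rw [c.ncl]
    rintro _ ⟨x, hx, rfl⟩
    refine normalClosure_le_normal (N := W.subgroupOf L) (fun y hy => ?_) hx
    have hyY : (y : G) ∈ Y ⊓ Cfsg.pCoreOf p L := hy
    have h1 : a * y * a⁻¹ ∈ W := mem_sup_left ⟨mem_cj_conj hyY.1, c.pCore_conj ha hyY.2⟩
    have := (mem_normalizer_iff.1 (hWn (inv_mem ha)) _).1 h1
    show (y : G) ∈ W
    simpa [mul_assoc] using this
  have hv' := hAW hv
  rw [← SetLike.mem_coe, show W = U ⊔ U' from rfl, coe_mul_of_right_le_normalizer_left _ _ (hnorm ha)] at hv'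
  obtain ⟨u, hu, u', hu', rfl⟩ := hv'
  exact ⟨u, u', hu.1, hu.2, hu'.1, hu'.2, rfl⟩

theorem comm_cen (c : Ctx p L Y) {x y : G} (hx : x ∈ Cfsg.pCoreOf p L) (hy : y ∈ Cfsg.pCoreOf p L) :
    ⁅x, y⁆ ∈ cen L Y := by
  obtain ⟨g, hg, hgen⟩ := c.exists_gen
  have h1 : cj Y 1 = Y := by ext z; simp [mem_cj]
  have hab : cj Y 1 ⊔ cj Y g = L := by rw [h1]; exact hgen
  set S : Subgroup G := cen L Y
  have key : ∀ u ∈ cj Y 1, u ∈ Cfsg.pCoreOf p L → ∀ u' ∈ cj Y g, u' ∈ Cfsg.pCoreOf p L → ⁅u, u'⁆ ∈ S := by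
    intro u hu hu2 u' hu' hu'2
    refine c.inter_le (one_mem L) hab (c.comm_mem (one_mem L) hu hu'2).1 ?_
    rw [← commutatorElement_inv]
    exact inv_mem (c.comm_mem hg hu' hu2).1
  obtain ⟨u, u', hu, hu2, hu', hu'2, rfl⟩ := c.decomp (one_mem L) hg hab hx
  obtain ⟨v, v', hv, hv2, hv', hv'2, rfl⟩ := c.decomp (one_mem L) hg hab hy
  have hS : ∀ z ∈ S, ∀ l ∈ L, l * z * l⁻¹ = z := fun z hz l hl => by
    rw [c.cen_comm hz hl, mul_inv_cancel_right]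
  have hL : ∀ {z}, z ∈ Cfsg.pCoreOf p L → z ∈ L := fun h => CfsgLib.Amalgam.pCoreOf_le L h
  have e1 : ⁅u, v⁆ = 1 := commutatorElement_eq_one_iff_mul_comm.2 (c.cj_comm hu hv)
  have e2 : ⁅u', v'⁆ = 1 := commutatorElement_eq_one_iff_mul_comm.2 (c.cj_comm hu' hv')
  have e3 : ⁅u', v⁆ ∈ S := by rw [← commutatorElement_inv]; exact inv_mem (key v hv hv2 u' hu' hu'2)
  have e4 : ⁅u, v'⁆ ∈ S := key u hu hu2 v' hv' hv'2
  have hm : ∀ a b c' : G, ⁅a * b, c'⁆ = (a * ⁅b, c'⁆ * a⁻¹) * ⁅a, c'⁆ := fun a b c' => by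
    simp only [commutatorElement_def]; group
  have hm' : ∀ a b c' : G, ⁅a, b * c'⁆ = ⁅a, b⁆ * (b * ⁅a, c'⁆ * b⁻¹) := fun a b c' => by
    simp only [commutatorElement_def]; group
  rw [hm, hm' u', hm' u, e1, e2]
  simp only [mul_one, mul_inv_cancel, one_mul]
  rw [hS _ e3 u (hL hu2), hS _ e4 v (hL hv2)]
  exact mul_mem e3 e4

theorem cen_of_fixed (c : Ctx p L Y) {a b : G} (ha : a ∈ L) (hb : b ∈ L)
    (hab : cj Y a ⊔ cj Y b = L) {y u' : G} (hy : y ∈ cj Y a)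
    (hyA : y ∉ Cfsg.pCoreOf p L) (hu' : u' ∈ cj Y b) (hu'A : u' ∈ Cfsg.pCoreOf p L)
    (hfix : ⁅y, u'⁆ ∈ cen L Y) : u' ∈ cen L Y := by
  set M := cj Y b ⊔ zpowers y
  have hyL := c.cj_le ha hy
  by_cases hM : M = L
  · -- everything centralises `u'` modulo `C`, hence outright
    let S : Subgroup G :=
      { carrier := {l | l ∈ L ∧ ⁅l, u'⁆ ∈ cen L Y}
        one_mem' := ⟨one_mem L, by rw [commutatorElement_one_left]; exact one_mem _⟩
        mul_mem' := fun {k l} hk hl => ⟨mul_mem hk.1 hl.1, by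
          have e : ⁅k * l, u'⁆ = (k * ⁅l, u'⁆ * k⁻¹) * ⁅k, u'⁆ := by simp only [commutatorElement_def]; group
          rw [e, c.cen_comm hl.2 hk.1, mul_inv_cancel_right]
          exact mul_mem hl.2 hk.2⟩
        inv_mem' := fun {k} hk => ⟨inv_mem hk.1, by
          have e : ⁅k⁻¹, u'⁆ = k⁻¹ * ⁅k, u'⁆⁻¹ * k := by simp only [commutatorElement_def]; group
          rw [e, mul_assoc, ← c.cen_comm (inv_mem hk.2) hk.1, inv_mul_cancel_left]
          exact inv_mem hk.2⟩ }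
    have hLS : L ≤ S := hM ▸ sup_le (fun z hz => ⟨c.cj_le hb hz, by
      rw [commutatorElement_eq_one_iff_mul_comm.2 (c.cj_comm hz hu')]; exact one_mem _⟩)
      (zpowers_le.2 ⟨hyL, hfix⟩)
    let Z : Subgroup L := (centralizer ({u'} : Set G)).subgroupOf L
    haveI : Z.Normal := ⟨fun z hz l => by
      show (l : G) * z * (l : G)⁻¹ ∈ centralizer ({u'} : Set G)
      rw [mem_centralizer_singleton_iff]
      have hzc : (z : G) * u' = u' * z := mem_centralizer_singleton_iff.1 hz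
      have hc1 : ⁅(l : G)⁻¹, u'⁆ ∈ cen L Y := (hLS (inv_mem l.2)).2
      have e1 : (l : G)⁻¹ * u' = ⁅(l : G)⁻¹, u'⁆ * u' * (l : G)⁻¹ := by
        rw [commutatorElement_def]; group
      have hcz := c.cen_comm hc1 z.2
      set w := ⁅(l : G)⁻¹, u'⁆
      calc (l : G) * z * (l : G)⁻¹ * u' = l * (z * ((l : G)⁻¹ * u')) := by group
        _ = l * ((z * w) * u' * (l : G)⁻¹) := by rw [e1]; group
        _ = l * (w * (z * u') * (l : G)⁻¹) := by rw [hcz]; group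
        _ = l * (w * u' * (l : G)⁻¹) * (l * z * (l : G)⁻¹) := by rw [hzc]; group
        _ = u' * (l * z * (l : G)⁻¹) := by rw [← e1]; group⟩
    have hYZ : ∀ y ∈ Y, b * y * b⁻¹ ∈ centralizer ({u'} : Set G) := fun y hy => by
      rw [mem_centralizer_singleton_iff]
      exact c.cj_comm (mem_cj_conj hy) hu'
    have htop : ∀ l ∈ L, l * u' = u' * l := by
      intro l hl
      have h1 : normalClosure ((Y.subgroupOf L : Subgroup ↥L) : Set ↥L) ≤ Z := by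
        refine normalClosure_le_normal fun y hy => ?_
        have h2 : (⟨b, hb⟩ : L) * y * (⟨b, hb⟩ : L)⁻¹ ∈ Z := hYZ y hy
        have h3 := Subgroup.Normal.conj_mem (inferInstance : Z.Normal) _ h2 (⟨b, hb⟩ : L)⁻¹
        simpa [mul_assoc] using h3
      rw [c.top] at h1
      exact mem_centralizer_singleton_iff.1 (h1 (mem_top (⟨l, hl⟩ : L)))
    refine ⟨?_, htop⟩
    have h := mem_cj.1 hu'
    rwa [mul_assoc, ← htop b hb, inv_mul_cancel_left] at h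
  · exfalso
    have hMn := c.max_cj hb le_sup_left (sup_le (c.cj_le hb) (zpowers_le.2 hyL)) hM
    have hyN := hMn (mem_sup_right (mem_zpowers y))
    refine hyA (c.mem_of_trivial hyL fun v hv => ?_)
    obtain ⟨u, w, hu, hu2, hw, hw2, rfl⟩ := c.decomp ha hb hab hv
    have h1 : ⁅y, w⁆ ∈ cen L Y := by
      refine c.inter_le ha hab (c.comm_mem ha hy hw2).1 ?_
      rw [commutatorElement_def]
      exact mul_mem ((mem_normalizer_iff.1 hyN w).1 hw) (inv_mem hw)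
    have e : ⁅y, u * w⁆ = ⁅y, u⁆ * (u * ⁅y, w⁆ * u⁻¹) := by simp only [commutatorElement_def]; group
    rw [e, commutatorElement_eq_one_iff_mul_comm.2 (c.cj_comm hy hu), one_mul,
      c.cen_comm h1 (CfsgLib.Amalgam.pCoreOf_le L hu2), mul_inv_cancel_right]
    exact h1

theorem mem_cj_of_fixed (c : Ctx p L Y) {a b : G} (ha : a ∈ L) (hb : b ∈ L)
    (hab : cj Y a ⊔ cj Y b = L) {y v : G} (hy : y ∈ cj Y a)
    (hyA : y ∉ Cfsg.pCoreOf p L) (hv : v ∈ Cfsg.pCoreOf p L) (hfix : ⁅y, v⁆ ∈ cen L Y) :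
    v ∈ cj Y a := by
  obtain ⟨u, w, hu, hu2, hw, hw2, rfl⟩ := c.decomp ha hb hab hv
  have e : ⁅y, u * w⁆ = u * ⁅y, w⁆ * u⁻¹ := by
    rw [show ⁅y, u * w⁆ = ⁅y, u⁆ * (u * ⁅y, w⁆ * u⁻¹) by simp only [commutatorElement_def]; group,
      commutatorElement_eq_one_iff_mul_comm.2 (c.cj_comm hy hu), one_mul]
  have hw' : ⁅y, w⁆ ∈ cen L Y := by
    rw [e] at hfix
    have h2 : ⁅y, w⁆ = u⁻¹ * (u * ⁅y, w⁆ * u⁻¹) * u := by group
    rw [h2, mul_assoc, ← c.cen_comm hfix (CfsgLib.Amalgam.pCoreOf_le L hu2), inv_mul_cancel_left]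
    exact hfix
  exact mul_mem hu (c.cen_le_cj ha (c.cen_of_fixed ha hb hab hy hyA hw hw2 hw'))

/-- Two elements of distinct conjugates of `Y` fix nothing in common. -/
theorem cen_of_product_fixed (c : Ctx p L Y) {a b : G} (ha : a ∈ L) (hb : b ∈ L)
    (hab : cj Y a ⊔ cj Y b = L) {y y' v : G} (hy : y ∈ cj Y a) (hyA : y ∉ Cfsg.pCoreOf p L)
    (hy' : y' ∈ cj Y b) (hy'A : y' ∉ Cfsg.pCoreOf p L) (hv : v ∈ Cfsg.pCoreOf p L)
    (hfix : ⁅y * y', v⁆ ∈ cen L Y) : v ∈ cen L Y := by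
  set w := ⁅y', v⁆ with hwd
  set w' := ⁅y, v⁆ with hw'd
  have hw := c.comm_mem hb hy' hv
  have hw' := c.comm_mem ha hy hv
  have hyw := c.comm_mem ha hy hw.2
  have e : ⁅y * y', v⁆ = ⁅y, w⁆ * w * w' := by
    simp only [hwd, hw'd, commutatorElement_def]; group
  rw [e] at hfix
  have hwa : w ∈ cj Y a := by
    have : w = ⁅y, w⁆⁻¹ * (⁅y, w⁆ * w * w') * w'⁻¹ := by group
    rw [this]
    exact mul_mem (mul_mem (inv_mem hyw.1) (c.cen_le_cj ha hfix)) (inv_mem hw'.1)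
  have hwC : w ∈ cen L Y := c.inter_le ha hab hwa hw.1
  rw [commutatorElement_eq_one_iff_mul_comm.2 (c.cen_comm hwC (c.cj_le ha hy)), one_mul] at hfix
  have hw'C : w' ∈ cen L Y := by
    have := mul_mem (inv_mem hwC) hfix
    rwa [inv_mul_cancel_left] at this
  have hba : cj Y b ⊔ cj Y a = L := by rw [sup_comm]; exact hab
  exact c.inter_le ha hab (c.mem_cj_of_fixed ha hb hab hy hyA hv hw'C)
    (c.mem_cj_of_fixed hb ha hba hy' hy'A hv hwC)

theorem gen_of_not_pElement (c : Ctx p L Y) {a b : G} (ha : a ∈ L) (hb : b ∈ L) {y y' α : G}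
    (hy : y ∈ cj Y a) (hy' : y' ∈ cj Y b) (hα : α ∈ Cfsg.pCoreOf p L)
    (hnp : ¬ ∃ k, orderOf (y * y' * α) = p ^ k) : cj Y a ⊔ cj Y b = L := by
  by_contra hne
  have hn := c.max_cj ha le_sup_left (sup_le (c.cj_le ha) (c.cj_le hb)) hne
  have hbn : cj Y b ≤ normalizer ((cj Y a : Subgroup G) : Set G) := le_sup_right.trans hn
  have hYp : IsPGroup p Y := CfsgLib.PLocal.elemAb_isPGroup c.elem
  have hP : IsPGroup p ↥(cj Y a ⊔ cj Y b) := (hYp.map _).to_sup_of_normal_left' (hYp.map _) hbn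
  have hP2 : IsPGroup p ↥((cj Y a ⊔ cj Y b) ⊔ Cfsg.pCoreOf p L) :=
    hP.to_sup_of_normal_right' (CfsgLib.Amalgam.isPGroup_pCoreOf L)
      ((sup_le (c.cj_le ha) (c.cj_le hb)).trans (CfsgLib.Amalgam.le_normalizer_pCoreOf L))
  obtain ⟨k, hk⟩ := IsPGroup.iff_orderOf.1 hP2
    ⟨_, mul_mem (mem_sup_left (mul_mem (mem_sup_left hy) (mem_sup_right hy'))) (mem_sup_right hα)⟩
  exact hnp ⟨k, by rw [← hk, Subgroup.orderOf_mk]⟩

theorem not_mem_of_not_pElement (c : Ctx p L Y) {a b : G} (ha : a ∈ L) (hb : b ∈ L) {y y' α : G}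
    (hy : y ∈ cj Y a) (hy' : y' ∈ cj Y b) (hα : α ∈ Cfsg.pCoreOf p L)
    (hnp : ¬ ∃ k, orderOf (y * y' * α) = p ^ k) :
    y ∉ Cfsg.pCoreOf p L ∧ y' ∉ Cfsg.pCoreOf p L := by
  have hYp : IsPGroup p Y := CfsgLib.PLocal.elemAb_isPGroup c.elem
  have hA := CfsgLib.Amalgam.le_normalizer_pCoreOf (p := p) L
  constructor <;> intro hmem <;> apply hnp
  · have hP : IsPGroup p ↥(cj Y b ⊔ Cfsg.pCoreOf p L) :=
      (hYp.map _).to_sup_of_normal_right' (CfsgLib.Amalgam.isPGroup_pCoreOf L) ((c.cj_le hb).trans hA)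
    obtain ⟨k, hk⟩ := IsPGroup.iff_orderOf.1 hP
      ⟨_, mul_mem (mul_mem (mem_sup_right hmem) (mem_sup_left hy')) (mem_sup_right hα)⟩
    exact ⟨k, by rw [← hk, Subgroup.orderOf_mk]⟩
  · have hP : IsPGroup p ↥(cj Y a ⊔ Cfsg.pCoreOf p L) :=
      (hYp.map _).to_sup_of_normal_right' (CfsgLib.Amalgam.isPGroup_pCoreOf L) ((c.cj_le ha).trans hA)
    obtain ⟨k, hk⟩ := IsPGroup.iff_orderOf.1 hP
      ⟨_, mul_mem (mul_mem (mem_sup_left hy) (mem_sup_right hmem)) (mem_sup_right hα)⟩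
    exact ⟨k, by rw [← hk, Subgroup.orderOf_mk]⟩

/-- The main case: a product of two elements of conjugates of `Y`. -/
theorem fpf_product (c : Ctx p L Y) {a b : G} (ha : a ∈ L) (hb : b ∈ L) {y y' α : G}
    (hy : y ∈ cj Y a) (hy' : y' ∈ cj Y b) (hα : α ∈ Cfsg.pCoreOf p L)
    (hnp : ¬ ∃ k, orderOf (y * y' * α) = p ^ k) {v : G} (hv : v ∈ Cfsg.pCoreOf p L)
    (hfix : ⁅y * y' * α, v⁆ ∈ cen L Y) : v ∈ cen L Y := by
  obtain ⟨h1, h2⟩ := c.not_mem_of_not_pElement ha hb hy hy' hα hnp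
  refine c.cen_of_product_fixed ha hb (c.gen_of_not_pElement ha hb hy hy' hα hnp) hy h1 hy' h2 hv ?_
  have hc := c.comm_cen hα hv
  have e : ⁅y * y' * α, v⁆ = (y * y') * ⁅α, v⁆ * (y * y')⁻¹ * ⁅y * y', v⁆ := by
    simp only [commutatorElement_def]; group
  rw [e, c.cen_comm hc (mul_mem (c.cj_le ha hy) (c.cj_le hb hy')), mul_inv_cancel_right] at hfix
  have := mul_mem (inv_mem hc) hfix
  rwa [inv_mul_cancel_left] at this

/-- The central case, `p` odd. -/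
theorem fpf_central (c : Ctx p L Y) (hp2 : p ≠ 2) {h : G} (hh : h ∈ L)
    (hcen : ∀ l ∈ L, ⁅h, l⁆ ∈ Cfsg.pCoreOf p L) {a b : G} (ha : a ∈ L) (hb : b ∈ L) {y y' α : G}
    (hy : y ∈ cj Y a) (hy' : y' ∈ cj Y b) (hα : α ∈ Cfsg.pCoreOf p L)
    (hsq : h = (y * y') * (y * y') * α)
    (hnp : ¬ ∃ k, orderOf (y * y') = p ^ k) {v : G} (hv : v ∈ Cfsg.pCoreOf p L)
    (hfix : ⁅h, v⁆ ∈ cen L Y) : v ∈ cen L Y := by
  set A := Cfsg.pCoreOf p L
  have hAL : A ≤ L := CfsgLib.Amalgam.pCoreOf_le L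
  have hmod : ∀ {z : G}, z ∈ cen L Y → ∀ l ∈ L, l * z * l⁻¹ = z := fun hz l hl => by
    rw [c.cen_comm hz hl, mul_inv_cancel_right]
  have hyL := c.cj_le ha hy
  have hy'L := c.cj_le hb hy'
  have hwL : y * y' ∈ L := mul_mem hyL hy'L
  have hab := c.gen_of_not_pElement (α := 1) ha hb hy hy' (one_mem _) (by rwa [mul_one])
  obtain ⟨hyA, hy'A⟩ := c.not_mem_of_not_pElement (α := 1) ha hb hy hy' (one_mem _) (by rwa [mul_one])
  -- `h` commutes with conjugation modulo `C`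
  have hinv : ∀ x ∈ A, ⁅h, x⁆ ∈ cen L Y → ∀ l ∈ L, ⁅h, l * x * l⁻¹⁆ ∈ cen L Y := by
    intro x hx hxC l hl
    have hd := hcen l⁻¹ (inv_mem hl)
    set d := ⁅h, l⁻¹⁆
    have e0 : l⁻¹ * h * l = h * (h⁻¹ * d⁻¹ * h) := by
      simp only [d, commutatorElement_def]; group
    have hd' : h⁻¹ * d⁻¹ * h ∈ A := by simpa using c.pCore_conj (inv_mem hh) (inv_mem hd)
    have e : ⁅h, l * x * l⁻¹⁆ = l * ⁅h * (h⁻¹ * d⁻¹ * h), x⁆ * l⁻¹ := by
      rw [← e0]; simp only [commutatorElement_def]; group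
    have e2 : ⁅h * (h⁻¹ * d⁻¹ * h), x⁆ = h * ⁅h⁻¹ * d⁻¹ * h, x⁆ * h⁻¹ * ⁅h, x⁆ := by
      simp only [commutatorElement_def]; group
    have hc := c.comm_cen hd' hx
    rw [e, e2, hmod hc h hh, hmod (mul_mem hc hxC) l hl]
    exact mul_mem hc hxC
  -- reduce to `v ∈ Y^a`
  suffices key : ∀ x ∈ A, x ∈ cj Y a → ⁅h, x⁆ ∈ cen L Y → x ∈ cen L Y by
    set x := ⁅y, v⁆
    have hx := c.comm_mem ha hy hv
    have hxfix : ⁅h, x⁆ ∈ cen L Y := by
      have h1 := hinv v hv hfix y hyL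
      have e : ⁅h, x⁆ = ⁅h, y * v * y⁻¹⁆ * ((y * v * y⁻¹) * ⁅h, v⁻¹⁆ * (y * v * y⁻¹)⁻¹) := by
        simp only [x, commutatorElement_def]; group
      have h2 : ⁅h, v⁻¹⁆ ∈ cen L Y := by
        rw [show ⁅h, v⁻¹⁆ = v⁻¹ * ⁅h, v⁆⁻¹ * v by simp only [commutatorElement_def]; group, mul_assoc,
          ← c.cen_comm (inv_mem hfix) (hAL hv), inv_mul_cancel_left]
        exact inv_mem hfix
      rw [e, hmod h2 _ (mul_mem (mul_mem hyL (hAL hv)) (inv_mem hyL))]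
      exact mul_mem h1 h2
    exact key v hv (c.mem_cj_of_fixed ha hb hab hy hyA hv (key x hx.2 hx.1 hxfix)) hfix
  intro x hx hxa hxfix
  set w := y * y'
  have hw1 : ⁅w * w, x⁆ ∈ cen L Y := by
    have hc := c.comm_cen hα hx
    have e : ⁅h, x⁆ = (w * w) * ⁅α, x⁆ * (w * w)⁻¹ * ⁅w * w, x⁆ := by
      rw [hsq]; simp only [commutatorElement_def]; group
    rw [e, hmod hc _ (mul_mem hwL hwL)] at hxfix
    have := mul_mem (inv_mem hc) hxfix
    rwa [inv_mul_cancel_left] at this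
  set x1 := w * x * w⁻¹ * x
  have hx1A : x1 ∈ A := mul_mem (c.pCore_conj hwL hx) hx
  have hwA : w * x * w⁻¹ ∈ A := c.pCore_conj hwL hx
  have hx1fix : ⁅w, x1⁆ ∈ cen L Y := by
    have hc2 := c.comm_cen hx hwA
    have e : ⁅w, x1⁆ = ⁅w * w, x⁆ * ⁅x, w * x * w⁻¹⁆ := by
      simp only [x1, commutatorElement_def]; group
    rw [e]; exact mul_mem hw1 hc2
  have hx1 : x1 ∈ cen L Y := c.cen_of_product_fixed ha hb hab hy hyA hy' hy'A hx1A hx1fix
  -- `y'` inverts `x` modulo `C`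
  have hyc : y⁻¹ * x⁻¹ * y = x⁻¹ := by
    rw [mul_assoc, c.cj_comm (inv_mem hxa) hy, inv_mul_cancel_left]
  set y'' := y'
  have hstep : y'' * x * y''⁻¹ = x1 * x⁻¹ := by
    have e : y'' * x * y''⁻¹ = y⁻¹ * x1 * y * (y⁻¹ * x⁻¹ * y) := by simp only [x1, w, y'']; group
    rw [e, hyc, mul_assoc y⁻¹, ← c.cen_comm hx1 hyL, inv_mul_cancel_left]
  have hcx : ∀ z ∈ cen L Y, z * x = x * z := fun z hz => (c.cen_comm hz (hAL hx)).symm
  have hpow : ∀ n : ℕ, ∃ z ∈ cen L Y,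
      y'' ^ n * x * (y'' ^ n)⁻¹ = z * if Even n then x else x⁻¹ := by
    intro n
    induction n with
    | zero => exact ⟨1, one_mem _, by simp⟩
    | succ n ih =>
      obtain ⟨z, hz, e⟩ := ih
      have e1 : y'' ^ (n + 1) * x * (y'' ^ (n + 1))⁻¹ =
          y'' * (y'' ^ n * x * (y'' ^ n)⁻¹) * y''⁻¹ := by rw [pow_succ']; group
      rw [e1, e]
      rcases Nat.even_or_odd n with hn | hn
      · rw [if_pos hn, if_neg (by simp [Nat.even_add_one, hn])]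
        refine ⟨z * x1, mul_mem hz hx1, ?_⟩
        calc y'' * (z * x) * y''⁻¹ = (y'' * z * y''⁻¹) * (y'' * x * y''⁻¹) := by group
          _ = _ := by rw [hmod hz y'' hy'L, hstep]; exact (mul_assoc z x1 x⁻¹).symm
      · rw [if_neg (Nat.not_even_iff_odd.2 hn), if_pos (by simp [Nat.even_add_one, Nat.not_even_iff_odd.2 hn])]
        refine ⟨z * x1⁻¹, mul_mem hz (inv_mem hx1), ?_⟩
        calc y'' * (z * x⁻¹) * y''⁻¹ = (y'' * z * y''⁻¹) * (y'' * x * y''⁻¹)⁻¹ := by group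
          _ = _ := by rw [hmod hz y'' hy'L, hstep, mul_inv_rev, inv_inv, mul_assoc,
            ← hcx _ (inv_mem hx1)]
  obtain ⟨z, hz, e⟩ := hpow p
  have hodd : Odd p := (Fact.out : p.Prime).odd_of_ne_two hp2
  rw [c.cj_pow hy', one_mul, inv_one, mul_one, if_neg (Nat.not_even_iff_odd.2 hodd)] at e
  -- `x² ∈ C` and `x` has `p`-power order
  have hx2 : x * x ∈ cen L Y := by
    have : x * x = z := by
      nth_rewrite 1 [e]
      rw [inv_mul_cancel_right]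
    exact this ▸ hz
  obtain ⟨j, hj⟩ := hodd
  have hxp : x ^ p = 1 := c.cj_pow hxa
  have : x = (x * x) ^ (j + 1) := by
    rw [← sq, ← pow_mul, show 2 * (j + 1) = p + 1 by omega, pow_succ, hxp, one_mul]
  rw [this]
  exact pow_mem hx2 _

end Ctx

end CfsgLib.ClassK.FrakL
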