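import Cfsg.Agent.Lib.Suzuki.Cell
import Cfsg.Agent.Lib.Suzuki.Model
import Cfsg.Agent.Lib.Suzuki.Sylow
import Cfsg.Agent.Lib.Classical.SLTwoSylow
import Cfsg.Agent.Lib.ClassK.PushPSL
import Mathlib.GroupTheory.SpecificGroups.Dihedral

/-!
Elements of order prime to `p` in the quotient groups `SL₂(q)`, `Sz(q)`, dihedral, as products of two
elements of conjugates of a given subgroup.
-/

set_option autoImplicit false
set_option linter.unusedSectionVars false
set_option maxHeartbeats 1000000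

namespace CfsgLib.ClassK.FrakL

open Subgroup
open scoped MatrixGroups

/-- `s` lies in a conjugate of `T`. -/
def InConj {X : Type*} [Group X] (T : Subgroup X) (s : X) : Prop := ∃ g, g⁻¹ * s * g ∈ T

/-- `z` is a product of two elements of conjugates of `T`, or central and a square of one, `p` odd. -/
def Decomp {X : Type*} [Group X] (p : ℕ) (T : Subgroup X) (z : X) : Prop :=
  (∃ s t, InConj T s ∧ InConj T t ∧ z = s * t) ∨
    (p ≠ 2 ∧ (∀ x, z * x = x * z) ∧ ∃ s t, InConj T s ∧ InConj T t ∧ z = s * t * (s * t))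

theorem InConj.map {X Z : Type*} [Group X] [Group Z] (f : X →* Z) {T : Subgroup X} {s : X}
    (h : InConj T s) : InConj (T.map f) (f s) := by
  obtain ⟨g, hg⟩ := h
  exact ⟨f g, by rw [← map_inv, ← map_mul, ← map_mul]; exact mem_map_of_mem f hg⟩

theorem Decomp.map {X Z : Type*} [Group X] [Group Z] (f : X ≃* Z) {p : ℕ} {T : Subgroup X} {z : X}
    (h : Decomp p T z) : Decomp p (T.map f.toMonoidHom) (f z) := by
  rcases h with ⟨s, t, hs, ht, e⟩ | ⟨hp, hc, s, t, hs, ht, e⟩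
  · exact Or.inl ⟨f s, f t, hs.map f.toMonoidHom, ht.map f.toMonoidHom, by rw [e, map_mul]⟩
  · refine Or.inr ⟨hp, fun x => ?_, f s, f t, hs.map f.toMonoidHom, ht.map f.toMonoidHom, ?_⟩
    · obtain ⟨x, rfl⟩ := f.surjective x
      rw [← map_mul, hc, map_mul]
    · rw [e, map_mul, map_mul]

/-- Two generating conjugates of a group of order two: the dihedral case. -/
theorem decomp_dihedral {X : Type*} [Group X] [Finite X] {T : Subgroup X} (hT : Nat.card T = 2) {g : X}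
    (hgen : T ⊔ T.map (MulAut.conj g).toMonoidHom = ⊤) {z : X} (hz : Odd (orderOf z)) :
    Decomp 2 T z := by
  haveI : Nontrivial T := Finite.one_lt_card_iff_nontrivial.1 (by omega)
  obtain ⟨s0, hs0⟩ := exists_ne (1 : T)
  obtain ⟨s, hs⟩ : ∃ s : X, s = s0.1 := ⟨_, rfl⟩
  have hs2 : s * s = 1 := by
    have h1 : s0 ^ Nat.card T = 1 := pow_card_eq_one'
    rw [hT, sq] at h1
    rw [hs]; exact congrArg Subtype.val h1
  have hT' : ∀ x ∈ T, x = 1 ∨ x = s := by
    intro x hx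
    obtain ⟨u, v, huv, huniv⟩ := Nat.card_eq_two_iff.1 hT
    have h : ∀ w : T, w = u ∨ w = v := fun w => by
      have := Set.mem_univ w
      rw [← huniv] at this
      exact this
    rcases h ⟨x, hx⟩ with h1 | h1 <;> rcases h 1 with h2 | h2 <;> rcases h s0 with h3 | h3
    all_goals first
      | exact Or.inl (congrArg Subtype.val (h1.trans h2.symm))
      | exact Or.inr (hs ▸ congrArg Subtype.val (h1.trans h3.symm))
      | exact absurd (h3.trans h2.symm) hs0
  obtain ⟨s', hs'⟩ : ∃ s' : X, s' = g * s * g⁻¹ := ⟨_, rfl⟩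
  have hs'2 : s' * s' = 1 := by
    rw [hs', show g * s * g⁻¹ * (g * s * g⁻¹) = g * (s * s) * g⁻¹ by group, hs2]; group
  have hinv : s⁻¹ = s := inv_eq_of_mul_eq_one_right hs2
  have hinv' : s'⁻¹ = s' := inv_eq_of_mul_eq_one_right hs'2
  obtain ⟨r, hr⟩ : ∃ r : X, r = s * s' := ⟨_, rfl⟩
  have hsr : ∀ k : ℤ, s * r ^ k = r ^ (-k) * s := by
    intro k
    have h1 : s * r * s⁻¹ = r⁻¹ := by
      rw [hr, mul_inv_rev, hinv', hinv, ← mul_assoc s s, hs2, one_mul]
    have h2 : s * r ^ k * s⁻¹ = r ^ (-k) := by rw [← conj_zpow, h1, inv_zpow']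
    rw [← h2, inv_mul_cancel_right]
  let S : Subgroup X :=
    { carrier := {x | ∃ k : ℤ, x = r ^ k ∨ x = r ^ k * s}
      one_mem' := ⟨0, Or.inl (zpow_zero r).symm⟩
      mul_mem' := fun {x y} => by
        rintro ⟨k, rfl | rfl⟩ ⟨l, rfl | rfl⟩
        · exact ⟨k + l, Or.inl (zpow_add r k l).symm⟩
        · exact ⟨k + l, Or.inr (by rw [zpow_add, mul_assoc])⟩
        · exact ⟨k + -l, Or.inr (by rw [zpow_add, mul_assoc, hsr, mul_assoc])⟩
        · exact ⟨k + -l, Or.inl (by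
            rw [zpow_add, mul_assoc (r ^ k), ← mul_assoc s, hsr, mul_assoc _ s, hs2, mul_one])⟩
      inv_mem' := fun {x} => by
        rintro ⟨k, rfl | rfl⟩
        · exact ⟨-k, Or.inl (zpow_neg r k).symm⟩
        · exact ⟨k, Or.inr (by rw [mul_inv_rev, hinv, ← zpow_neg, hsr, neg_neg])⟩ }
  have hsS : s ∈ S := ⟨0, Or.inr (by rw [zpow_zero, one_mul])⟩
  have hs'S : s' ∈ S := by
    have hrS : r ∈ S := ⟨1, Or.inl (zpow_one r).symm⟩
    have := mul_mem hsS hrS
    rwa [hr, ← mul_assoc, hs2, one_mul] at this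
  have htop : ∀ x, x ∈ S := by
    intro x
    have hle : T ⊔ T.map (MulAut.conj g).toMonoidHom ≤ S := by
      refine sup_le (fun t ht => ?_) ?_
      · rcases hT' t ht with rfl | rfl
        exacts [one_mem S, hsS]
      · rintro _ ⟨t, ht, rfl⟩
        show g * t * g⁻¹ ∈ S
        rcases hT' t ht with h1 | h1 <;> rw [h1]
        · rw [mul_one, mul_inv_cancel]; exact one_mem S
        · rw [← hs']; exact hs'S
    exact hle (hgen ▸ mem_top x)
  have hsT : InConj T s := ⟨1, by rw [inv_one, one_mul, mul_one, hs]; exact s0.2⟩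
  have hrefl : ∀ k : ℤ, InConj T (r ^ k * s) := by
    intro k
    rcases Int.even_or_odd k with ⟨j, rfl⟩ | ⟨j, rfl⟩
    · refine ⟨r ^ j, ?_⟩
      have : (r ^ j)⁻¹ * (r ^ (j + j) * s) * r ^ j = s := by
        rw [mul_assoc, mul_assoc, hsr, ← zpow_neg, ← mul_assoc, ← mul_assoc, ← zpow_add, ← zpow_add]
        simp
      rw [this, hs]; exact s0.2
    · refine ⟨r ^ j * (s * g), ?_⟩
      have h1 : (r ^ j)⁻¹ * (r ^ (2 * j + 1) * s) * r ^ j = r * s := by
        rw [mul_assoc, mul_assoc, hsr, ← zpow_neg, ← mul_assoc, ← mul_assoc, ← zpow_add, ← zpow_add,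
          show -j + (2 * j + 1) + -j = 1 by ring, zpow_one]
      have h2 : (r ^ j * (s * g))⁻¹ * (r ^ (2 * j + 1) * s) * (r ^ j * (s * g)) =
          (s * g)⁻¹ * ((r ^ j)⁻¹ * (r ^ (2 * j + 1) * s) * r ^ j) * (s * g) := by group
      rw [h2, h1, show (s * g)⁻¹ * (r * s) * (s * g) = g⁻¹ * (s⁻¹ * r * (s * s)) * g by group, hs2,
        mul_one, hr, inv_mul_cancel_left, hs',
        show g⁻¹ * (g * s * g⁻¹) * g = s by group, hs]
      exact s0.2
  obtain ⟨k, rfl | rfl⟩ := htop z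
  · exact Or.inl ⟨r ^ k * s, s, hrefl k, hsT, by rw [mul_assoc, hs2, mul_one]⟩
  · exfalso
    have h2 : (r ^ k * s) ^ 2 = 1 := by
      rw [sq, mul_assoc, ← mul_assoc s, hsr, mul_assoc (r ^ (-k)), hs2, mul_one, zpow_neg, mul_inv_cancel]
    have h1 : orderOf (r ^ k * s) = 1 := by
      rcases (Nat.dvd_prime Nat.prime_two).1 (orderOf_dvd_of_pow_eq_one h2) with h | h
      · exact h
      · rw [h] at hz; exact absurd hz (by decide)
    have e : r ^ k * s = 1 := orderOf_eq_one_iff.1 h1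
    obtain ⟨a, ha⟩ := hrefl k
    rw [e] at ha
    -- the product is the identity, so it is fine anyway
    have : s = r ^ (-k) := by rw [zpow_neg]; exact eq_inv_of_mul_eq_one_right e
    have hs1 : s ≠ 1 := fun h => hs0 (Subtype.ext (hs ▸ h))
    refine hs1 ?_
    rcases Int.even_or_odd k with ⟨j, hj⟩ | ⟨j, hj⟩
    · subst hj
      have h5 : (r ^ j)⁻¹ * (r ^ (j + j) * s) * r ^ j = s := by
        rw [mul_assoc, mul_assoc, hsr, ← zpow_neg, ← mul_assoc, ← mul_assoc, ← zpow_add, ← zpow_add]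
        simp
      rw [e] at h5
      simpa using h5.symm
    · subst hj
      have h5 : (r ^ j)⁻¹ * (r ^ (2 * j + 1) * s) * r ^ j = r * s := by
        rw [mul_assoc, mul_assoc, hsr, ← zpow_neg, ← mul_assoc, ← mul_assoc, ← zpow_add, ← zpow_add,
          show -j + (2 * j + 1) + -j = 1 by ring, zpow_one]
      rw [e, mul_one, inv_mul_cancel] at h5
      have h6 : s' = 1 := by
        have : s⁻¹ * (r * s) * s⁻¹ = s' * 1 := by rw [hr]; group
        rw [← h5, mul_one, mul_one, hinv, hs2] at this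
        exact this.symm
      rw [hs'] at h6
      exact conj_eq_one_iff.1 h6

/-- The Suzuki case. -/
theorem decomp_suzuki {F : Type*} [Field F] [Fintype F] {m : ℕ} (hm : 1 ≤ m)
    (hF : Fintype.card F = 2 ^ (2 * m + 1)) {T : Subgroup (Cfsg.Lie.Sz F (2 ^ (m + 1)))}
    (hT : Nat.card T = Fintype.card F) (hT2 : ∀ x ∈ T, x * x = 1)
    {z : Cfsg.Lie.Sz F (2 ^ (m + 1))} (hz : Odd (orderOf z)) (hz1 : z ≠ 1) : Decomp 2 T z := by
  haveI : CharP F 2 := by
    haveI : Fact (Nat.Prime 2) := ⟨Nat.prime_two⟩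
    exact CfsgLib.ClassK.Push.charP_of_card hF
  haveI : Fact (Nat.Prime 2) := ⟨Nat.prime_two⟩
  set e := CfsgLib.Suzuki.szEquiv (F := F) hm hF
  -- transport
  suffices key : ∀ (T : Subgroup (Cfsg.Sz F m)), Nat.card T = Fintype.card F → (∀ x ∈ T, x * x = 1) →
      ∀ z : Cfsg.Sz F m, Odd (orderOf z) → z ≠ 1 → Decomp 2 T z by
    have h1 := key (T.map e.symm.toMonoidHom) (by rw [card_map_of_injective e.symm.injective, hT])
      (by
        rintro _ ⟨x, hx, rfl⟩
        show e.symm x * e.symm x = 1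
        rw [← map_mul, hT2 x hx, map_one])
      (e.symm z) (by rwa [MulEquiv.orderOf_eq])
      (fun h => hz1 (by rw [← e.apply_symm_apply z, h, map_one]))
    have h2 := h1.map e
    rw [Subgroup.map_map, e.apply_symm_apply] at h2
    have h3 : (e.toMonoidHom).comp e.symm.toMonoidHom = MonoidHom.id _ := by ext x; simp
    rwa [h3, Subgroup.map_id] at h2
  clear hT hT2 hz hz1
  intro T hT hT2 z hz hz1
  set h := CfsgLib.Suzuki.thSq_of_card hF
  -- the involutions of `U`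
  have hU : ∀ u ∈ CfsgLib.Suzuki.uSub h, u * u = 1 → ∃ b, u = CfsgLib.Suzuki.tG h 0 b := by
    rintro _ ⟨a, b, rfl⟩ hu
    rw [CfsgLib.Suzuki.tG_mul, CfsgLib.Suzuki.tG_eq_one] at hu
    have h2 := hu.2
    rw [CharTwo.add_self_eq_zero, zero_add, mul_eq_zero, map_eq_zero, or_self] at h2
    exact ⟨b, by rw [h2]⟩
  have hTp : IsPGroup 2 T := fun x => ⟨1, Subtype.ext (by simpa [sq] using hT2 x x.2)⟩
  obtain ⟨P, hP⟩ := hTp.exists_le_sylow
  obtain ⟨k, hk⟩ := CfsgLib.Suzuki.exists_conj_sylow hm hF P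
  have hTU : ∀ x ∈ T, ∃ b, k⁻¹ * x * k = CfsgLib.Suzuki.tG h 0 b := by
    intro x hx
    have h1 : x ∈ (P : Subgroup (Cfsg.Sz F m)) := hP hx
    rw [hk] at h1
    obtain ⟨u, hu, rfl⟩ := h1
    have e : k⁻¹ * (MulAut.conj k).toMonoidHom u * k = u := by simp [mul_assoc]
    rw [e]
    refine hU u hu ((MulAut.conj k).injective ?_)
    rw [map_mul, map_one]
    exact hT2 _ hx
  choose f hf using hTU
  letI : Fintype T := Fintype.ofFinite _
  have hbij : Function.Bijective (fun x : T => f x.1 x.2) := by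
    refine (Fintype.bijective_iff_injective_and_card _).2 ⟨fun x y e => ?_, ?_⟩
    · have e' : f x.1 x.2 = f y.1 y.2 := e
      have := (hf x.1 x.2).trans ((congrArg (CfsgLib.Suzuki.tG h 0) e').trans (hf y.1 y.2).symm)
      exact Subtype.ext (by simpa using this)
    · rw [← Nat.card_eq_fintype_card, hT]
  have hinvol : ∀ u : Cfsg.Sz F m, u * u = 1 → InConj T u := by
    intro u hu
    have hup : IsPGroup 2 (zpowers u) := by
      rintro ⟨x, i, rfl⟩
      refine ⟨1, Subtype.ext ?_⟩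
      show (u ^ i) ^ 2 ^ 1 = 1
      rw [pow_one, ← zpow_natCast, ← zpow_mul, mul_comm, zpow_mul, zpow_natCast, sq, hu, one_zpow]
    obtain ⟨P', hP'⟩ := hup.exists_le_sylow
    obtain ⟨l, hl⟩ := CfsgLib.Suzuki.exists_conj_sylow hm hF P'
    have h1 : u ∈ (P' : Subgroup (Cfsg.Sz F m)) := hP' (mem_zpowers u)
    rw [hl] at h1
    obtain ⟨v, hv, hvu⟩ := h1
    have hv' : l * v * l⁻¹ = u := hvu
    obtain ⟨b, hb⟩ := hU v hv ((MulAut.conj l).injective (by
      rw [map_mul, map_one]; show (l * v * l⁻¹) * (l * v * l⁻¹) = 1; rw [hv', hu]))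
    obtain ⟨x, hx⟩ := hbij.2 b
    refine ⟨l * k⁻¹, ?_⟩
    have hxb := hf x.1 x.2
    simp only at hx
    rw [hx, ← hb] at hxb
    rw [← hv', show (l * k⁻¹)⁻¹ * (l * v * l⁻¹) * (l * k⁻¹) = k * v * k⁻¹ by group, ← hxb,
      show k * (k⁻¹ * (x : Cfsg.Sz F m) * k) * k⁻¹ = x by group]
    exact x.2
  -- `z` is inverted by an involution
  rcases CfsgLib.Suzuki.two_or_cell hm hF z with ⟨l, hl⟩ | hA
  · obtain ⟨j, hj⟩ := CfsgLib.Suzuki.orderOf_two_power hF hl
    rw [hj, Nat.odd_pow_iff] at hz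
    · exact absurd hz (by decide)
    · exact fun e => hz1 (orderOf_eq_one_iff.1 (by rw [hj, e, pow_zero]))
  obtain ⟨d, hd, -, hcard⟩ := hA.normalizer_card hm hF
  obtain ⟨t, ht⟩ := exists_prime_orderOf_dvd_card'
    (G := ↥(normalizer ((centralizer ({z} : Set (Cfsg.Sz F m)) : Subgroup (Cfsg.Sz F m)) : Set (Cfsg.Sz F m)))) 2
    (by rw [hcard]; rcases hd with rfl | rfl <;> exact Dvd.dvd.mul_right (by norm_num) _)
  have ht' : orderOf (t : Cfsg.Sz F m) = 2 := by rw [Subgroup.orderOf_coe, ht]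
  have htt : (t : Cfsg.Sz F m) * t = 1 := by rw [← sq, ← ht', pow_orderOf_eq_one]
  have ht1 : (t : Cfsg.Sz F m) ≠ 1 := fun h => by rw [h, orderOf_one] at ht'; omega
  have hzA : z ∈ centralizer ({z} : Set (Cfsg.Sz F m)) := mem_centralizer_singleton_iff.2 rfl
  have hinv := hA.inverts hm hF htt ht1 t.2 hzA
  refine Or.inl ⟨t, (t : Cfsg.Sz F m) * z, hinvol _ htt, hinvol _ ?_, by rw [← mul_assoc, htt, one_mul]⟩
  calc (t : Cfsg.Sz F m) * z * (t * z) = ((t : Cfsg.Sz F m) * z * (t : Cfsg.Sz F m)⁻¹) * (t * t) * z := by group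
    _ = 1 := by rw [hinv, htt, mul_one, inv_mul_cancel]

theorem one_add_pow_eq {R : Type*} [Ring R] {N : R} (h : N * N = 0) (n : ℕ) :
    (1 + N) ^ n = 1 + n • N := by
  induction n with
  | zero => simp
  | succ n ih =>
    rw [pow_succ, ih, add_mul, one_mul, mul_add, mul_one, smul_mul_assoc, h, smul_zero, add_zero,
      add_smul, one_smul]
    abel

/-- The case of `SL₂`. -/
theorem decomp_sl {F : Type*} [Field F] [Fintype F] {p : ℕ} [Fact p.Prime] [CharP F p]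
    {T : Subgroup SL(2, F)} (hT : Nat.card T = Fintype.card F) {z : SL(2, F)}
    (hz : (orderOf z).Coprime p) (hz1 : z ≠ 1) : Decomp p T z := by
  classical
  obtain ⟨P₀, hP₀⟩ := CfsgLib.Classical.exists_sylow_uSL (F := F) p
  have hT' : Nat.card T = p ^ (Nat.card SL(2, F)).factorization p := by
    rw [← P₀.card_eq_multiplicity, hP₀, CfsgLib.Classical.card_uSL, hT, Nat.card_eq_fintype_card]
  set S := Sylow.ofCard T hT'
  have hS : (S : Subgroup SL(2, F)) = T := Sylow.coe_ofCard _ _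
  have hconj : ∀ s : SL(2, F), s ^ p = 1 → InConj T s := by
    intro s hs
    have hsp : IsPGroup p (zpowers s) := by
      rintro ⟨_, i, rfl⟩
      refine ⟨1, Subtype.ext ?_⟩
      show (s ^ i) ^ p ^ 1 = 1
      rw [pow_one, ← zpow_natCast, ← zpow_mul, mul_comm, zpow_mul, zpow_natCast, hs, one_zpow]
    obtain ⟨P, hP⟩ := hsp.exists_le_sylow
    obtain ⟨g, hg⟩ := MulAction.exists_smul_eq SL(2, F) P S
    refine ⟨g⁻¹, ?_⟩
    rw [inv_inv, ← hS, ← hg]
    exact ⟨s, hP (mem_zpowers s), rfl⟩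
  have hu : ∀ (U : GL (Fin 2) F) (N : Matrix (Fin 2) (Fin 2) F) (s : SL(2, F)), N * N = 0 →
      (s : Matrix (Fin 2) (Fin 2) F) = U * (1 + N) * ((U⁻¹ : GL (Fin 2) F) : Matrix (Fin 2) (Fin 2) F) → InConj T s := by
    intro U N s hN hs
    refine hconj s (Subtype.ext ?_)
    rw [Matrix.SpecialLinearGroup.coe_pow, hs, Units.conj_pow, one_add_pow_eq hN, ← Nat.cast_smul_eq_nsmul F,
      CharP.cast_eq_zero, zero_smul, add_zero, mul_one, Units.mul_inv]
    rfl
  obtain ⟨A, B, C, D, hzE⟩ : ∃ A B C D, (z : Matrix (Fin 2) (Fin 2) F) = !![A, B; C, D] :=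
    ⟨_, _, _, _, Matrix.eta_fin_two _⟩
  have hd := z.2
  rw [hzE, Matrix.det_fin_two_of] at hd
  have hN1 : (!![0, 1; 0, 0] : Matrix (Fin 2) (Fin 2) F) * !![0, 1; 0, 0] = 0 := by
    ext i j; fin_cases i <;> fin_cases j <;> simp [Matrix.mul_apply, Fin.sum_univ_two]
  have hN2 : ∀ b : F, (!![0, 0; b, 0] : Matrix (Fin 2) (Fin 2) F) * !![0, 0; b, 0] = 0 := fun b => by
    ext i j; fin_cases i <;> fin_cases j <;> simp [Matrix.mul_apply, Fin.sum_univ_two]
  by_cases hsc : B = 0 ∧ C = 0 ∧ A = D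
  · obtain ⟨rfl, rfl, rfl⟩ := hsc
    have hA : A = 1 ∨ A = -1 := mul_self_eq_one_iff.1 (by simpa using hd)
    rcases hA with rfl | rfl
    · refine absurd (Subtype.ext ?_) hz1
      rw [hzE]; ext i j; fin_cases i <;> fin_cases j <;> simp
    have hp2 : p ≠ 2 := fun h => by
      subst h
      refine hz1 (Subtype.ext ?_)
      rw [hzE, CharTwo.neg_eq]; ext i j; fin_cases i <;> fin_cases j <;> simp
    refine Or.inr ⟨hp2, fun x => Subtype.ext ?_, ?_⟩
    · have e : (z : Matrix (Fin 2) (Fin 2) F) = -1 := by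
        rw [hzE]; ext i j; fin_cases i <;> fin_cases j <;> simp
      rw [Matrix.SpecialLinearGroup.coe_mul, Matrix.SpecialLinearGroup.coe_mul, e, neg_one_mul, mul_neg_one]
    let s : SL(2, F) := ⟨!![1, 1; 0, 1], by simp [Matrix.det_fin_two_of]⟩
    let t : SL(2, F) := ⟨!![1, 0; -2, 1], by simp [Matrix.det_fin_two_of]⟩
    refine ⟨s, t, hu 1 !![0, 1; 0, 0] s hN1 ?_, hu 1 !![0, 0; -2, 0] t (hN2 _) ?_, Subtype.ext ?_⟩
    · ext i j; fin_cases i <;> fin_cases j <;> simp [s]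
    · ext i j; fin_cases i <;> fin_cases j <;> simp [t]
    · rw [hzE, Matrix.SpecialLinearGroup.coe_mul, Matrix.SpecialLinearGroup.coe_mul]
      ext i j
      fin_cases i <;> fin_cases j <;> simp [s, t, Matrix.mul_apply, Fin.sum_univ_two] <;> ring
  -- choose a vector moved off its line
  obtain ⟨v₀, v₁, hv⟩ : ∃ v₀ v₁ : F, (A - D) * v₀ * v₁ + B * v₁ ^ 2 - C * v₀ ^ 2 ≠ 0 := by
    by_cases hC : C = 0
    · by_cases hB : B = 0
      · refine ⟨1, 1, ?_⟩
        simp only [mul_one, one_pow, hB, hC, add_zero, sub_zero]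
        exact fun e => hsc ⟨hB, hC, sub_eq_zero.1 e⟩
      · exact ⟨0, 1, by simpa using hB⟩
    · exact ⟨1, 0, by simpa using hC⟩
  obtain ⟨P, hP⟩ : ∃ P : Matrix (Fin 2) (Fin 2) F,
      P = !![(A - 1) * v₀ + B * v₁, v₀; C * v₀ + (D - 1) * v₁, v₁] := ⟨_, rfl⟩
  have hPd : P.det ≠ 0 := by
    rw [hP, Matrix.det_fin_two_of]
    intro e
    exact hv (by linear_combination e)
  let U : GL (Fin 2) F := Matrix.GeneralLinearGroup.mkOfDetNeZero P hPd
  have hdet : ∀ X : Matrix (Fin 2) (Fin 2) F, X.det = 1 →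
      ((U : Matrix (Fin 2) (Fin 2) F) * X * ((U⁻¹ : GL (Fin 2) F) : Matrix (Fin 2) (Fin 2) F)).det = 1 := fun X hX => by
    rw [Matrix.det_units_conj, hX]
  have h1 : (1 + !![0, 1; 0, 0] : Matrix (Fin 2) (Fin 2) F) = !![1, 1; 0, 1] := by
    ext i j; fin_cases i <;> fin_cases j <;> simp
  have h2 : ∀ b : F, (1 + !![0, 0; b, 0] : Matrix (Fin 2) (Fin 2) F) = !![1, 0; b, 1] := fun b => by
    ext i j; fin_cases i <;> fin_cases j <;> simp
  let s : SL(2, F) := ⟨(U : Matrix (Fin 2) (Fin 2) F) * (1 + !![0, 1; 0, 0]) * ((U⁻¹ : GL (Fin 2) F) : Matrix (Fin 2) (Fin 2) F),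
    hdet _ (by rw [h1, Matrix.det_fin_two_of]; ring)⟩
  let t : SL(2, F) := ⟨(U : Matrix (Fin 2) (Fin 2) F) * (1 + !![0, 0; A + D - 2, 0]) * ((U⁻¹ : GL (Fin 2) F) : Matrix (Fin 2) (Fin 2) F),
    hdet _ (by rw [h2, Matrix.det_fin_two_of]; ring)⟩
  refine Or.inl ⟨s, t, hu U _ s hN1 rfl, hu U _ t (hN2 _) rfl, Subtype.ext ?_⟩
  show (z : Matrix (Fin 2) (Fin 2) F) = _
  rw [Matrix.SpecialLinearGroup.coe_mul]
  show (z : Matrix (Fin 2) (Fin 2) F) =
    (U : Matrix (Fin 2) (Fin 2) F) * (1 + !![0, 1; 0, 0]) * ((U⁻¹ : GL (Fin 2) F) : Matrix (Fin 2) (Fin 2) F) * ((U : Matrix (Fin 2) (Fin 2) F) * (1 + !![0, 0; A + D - 2, 0]) * ((U⁻¹ : GL (Fin 2) F) : Matrix (Fin 2) (Fin 2) F))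
  have key : (z : Matrix (Fin 2) (Fin 2) F) * (U : Matrix (Fin 2) (Fin 2) F) =
      (U : Matrix (Fin 2) (Fin 2) F) * ((1 + !![0, 1; 0, 0]) * (1 + !![0, 0; A + D - 2, 0])) := by
    show (z : Matrix (Fin 2) (Fin 2) F) * P = P * _
    rw [hzE, hP, h1, h2]
    ext i j
    fin_cases i <;> fin_cases j <;> simp [Matrix.mul_apply, Fin.sum_univ_two]
    · linear_combination (-v₀) * hd
    · ring
    · linear_combination (-v₁) * hd
    · ring
  calc (z : Matrix (Fin 2) (Fin 2) F) = z * (U : Matrix (Fin 2) (Fin 2) F) * ((U⁻¹ : GL (Fin 2) F) : Matrix (Fin 2) (Fin 2) F) := by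
        rw [mul_assoc, Units.mul_inv, mul_one]
    _ = _ := by
        rw [key]; simp only [mul_assoc, Units.inv_mul_cancel_left]

end CfsgLib.ClassK.FrakL
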