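import Cfsg.Agent.Lib.ClassK.FrakLCtx
import Cfsg.Agent.Lib.ClassK.FrakLQuot
import Cfsg.Agent.Lib.Amalgam.FrakM

/-!
For `L ∈ 𝔏_G(Y)`: elements of order not a power of `p` act without fixed points on `O_p(L)/C_Y(L)`.
-/

set_option autoImplicit false
set_option linter.unusedSectionVars false
set_option linter.style.haveILetI false
set_option maxHeartbeats 800000

namespace CfsgLib.ClassK.FrakL

open Subgroup
open scoped commutatorElement

variable {G : Type*} [Group G] [Finite G] {p : ℕ} [Fact p.Prime]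

theorem ctx_of_frakL {M L : Subgroup G} (hL : Cfsg.IsInFrakL p M L) :
    Ctx p L (Cfsg.largestPReducedOf p M) := by
  obtain ⟨h1, h2, h3, h4, h5, ⟨h6, h7⟩, -⟩ := hL
  exact ⟨h1, (CfsgLib.Amalgam.pRedIn_largest M).1.2.2.1, h2, h3, h4.1, h5, h6, h7⟩

theorem fpf {M L : Subgroup G} (hL : Cfsg.IsInFrakL p M L) {h : G} (hh : h ∈ L)
    (hnp : ¬ ∃ k : ℕ, orderOf h = p ^ k) {v : G} (hv : v ∈ Cfsg.pCoreOf p L)
    (hfix : ⁅h, v⁆ ∈ cen L (Cfsg.largestPReducedOf p M)) :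
    v ∈ cen L (Cfsg.largestPReducedOf p M) := by
  classical
  have c := ctx_of_frakL hL
  set Y := Cfsg.largestPReducedOf p M
  set A := Cfsg.pCoreOf p L
  -- pass to the `p'`-part
  obtain ⟨e, m, hm, hke⟩ := Nat.exists_eq_pow_mul_and_not_dvd (orderOf_pos h).ne' p
    (Nat.Prime.ne_one Fact.out)
  have hm1 : m ≠ 1 := fun e1 => hnp ⟨e, by rw [hke, e1, mul_one]⟩
  obtain ⟨h', hh'd⟩ : ∃ h' : G, h' = h ^ p ^ e := ⟨_, rfl⟩
  have hh' : h' ∈ L := hh'd ▸ pow_mem hh _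
  have hord : orderOf h' = m := by
    rw [hh'd, orderOf_pow_of_dvd (pow_pos (Fact.out : p.Prime).pos _).ne' (hke ▸ dvd_mul_right _ _), hke,
      Nat.mul_div_cancel_left _ (pow_pos (Fact.out : p.Prime).pos _)]
  have hcop : (orderOf h').Coprime p := by
    rw [hord]; exact ((Nat.Prime.coprime_iff_not_dvd Fact.out).2 hm).symm
  have hfix' : ⁅h', v⁆ ∈ cen L Y := by
    let S : Subgroup G :=
      { carrier := {k | k ∈ L ∧ ⁅k, v⁆ ∈ cen L Y}
        one_mem' := ⟨one_mem L, by rw [commutatorElement_one_left]; exact one_mem _⟩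
        mul_mem' := fun {k l} hk hl => ⟨mul_mem hk.1 hl.1, by
          have e : ⁅k * l, v⁆ = (k * ⁅l, v⁆ * k⁻¹) * ⁅k, v⁆ := by simp only [commutatorElement_def]; group
          rw [e, c.cen_comm hl.2 hk.1, mul_inv_cancel_right]
          exact mul_mem hl.2 hk.2⟩
        inv_mem' := fun {k} hk => ⟨inv_mem hk.1, by
          have e : ⁅k⁻¹, v⁆ = k⁻¹ * ⁅k, v⁆⁻¹ * k := by simp only [commutatorElement_def]; group
          rw [e, mul_assoc, ← c.cen_comm (inv_mem hk.2) hk.1, inv_mul_cancel_left]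
          exact inv_mem hk.2⟩ }
    rw [hh'd]
    exact (pow_mem (show h ∈ S from ⟨hh, hfix⟩) (p ^ e)).2
  have hnp' : ¬ ∃ k : ℕ, orderOf h' = p ^ k := by
    rintro ⟨k, hk⟩
    rw [hord] at hk
    rcases Nat.eq_zero_or_pos k with rfl | h0
    · exact hm1 (by rw [hk, pow_zero])
    · exact hm (hk ▸ dvd_pow_self p h0.ne')
  -- a decomposition in the quotient suffices
  set H' : ↥L := ⟨h', hh'⟩
  set z : ↥L ⧸ Cfsg.pCore p ↥L := QuotientGroup.mk' _ H'
  set T : Subgroup (↥L ⧸ Cfsg.pCore p ↥L) := (Y.subgroupOf L).map (QuotientGroup.mk' _)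
  have hzord : (orderOf z).Coprime p :=
    Nat.Coprime.coprime_dvd_left ((orderOf_map_dvd _ H').trans (dvd_of_eq (Subgroup.orderOf_mk h' hh')))
      hcop
  have hz1 : z ≠ 1 := by
    intro e1
    have hA : h' ∈ A := ⟨H', (QuotientGroup.eq_one_iff H').1 e1, rfl⟩
    obtain ⟨k, hk⟩ := IsPGroup.iff_orderOf.1 (CfsgLib.Amalgam.isPGroup_pCoreOf (p := p) L) ⟨h', hA⟩
    exact hnp' ⟨k, by rw [← hk, Subgroup.orderOf_mk]⟩
  have hTcard : Nat.card T = (Y ⊓ A).relIndex Y := by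
    let f : ↥Y →* ↥L ⧸ Cfsg.pCore p ↥L := (QuotientGroup.mk' _).comp (inclusion c.le)
    have hr : f.range = T := by
      rw [MonoidHom.range_comp]
      exact congrArg (Subgroup.map _) (inclusion_range c.le)
    have hk : f.ker = (Y ⊓ A).subgroupOf Y := by
      ext y
      rw [MonoidHom.mem_ker, mem_subgroupOf, MonoidHom.comp_apply, QuotientGroup.mk'_apply,
        QuotientGroup.eq_one_iff]
      refine ⟨fun h => ⟨y.2, ⟨_, h, rfl⟩⟩, fun h => ?_⟩
      obtain ⟨w, hw, hwy⟩ := h.2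
      have : w = inclusion c.le y := Subtype.ext hwy
      exact this ▸ hw
    rw [relIndex, ← hk, index_ker, hr]
  have hTinv : ∀ x ∈ T, x ^ p = 1 := by
    rintro _ ⟨y, hy, rfl⟩
    rw [← map_pow, show y ^ p = 1 from Subtype.ext (by simpa using c.elem.2 y hy), map_one]
  suffices hD : Decomp p T z by
    have lift : ∀ {s : ↥L ⧸ Cfsg.pCore p ↥L}, InConj T s →
        ∃ (S : ↥L) (a : G), a ∈ L ∧ (S : G) ∈ cj Y a ∧ QuotientGroup.mk' _ S = s := by
      rintro s ⟨g, y, hy, e⟩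
      obtain ⟨g, rfl⟩ := QuotientGroup.mk'_surjective _ g
      refine ⟨g * y * g⁻¹, g, g.2, mem_cj_conj hy, ?_⟩
      rw [map_mul, map_mul, map_inv, e]
      group
    rcases hD with ⟨s, t, hs, ht, e1⟩ | ⟨hp2, hcen, s, t, hs, ht, e1⟩
    · obtain ⟨S, a, ha, hSa, rfl⟩ := lift hs
      obtain ⟨U, b, hb, hUb, rfl⟩ := lift ht
      have hα : (S * U)⁻¹ * H' ∈ Cfsg.pCore p ↥L := (QuotientGroup.eq_one_iff _).1 (by
        show QuotientGroup.mk' _ ((S * U)⁻¹ * H') = 1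
        rw [map_mul, map_inv, map_mul]
        rw [show (QuotientGroup.mk' _ H' : ↥L ⧸ Cfsg.pCore p ↥L) = z from rfl, e1, inv_mul_cancel])
      obtain ⟨α, hαd⟩ : ∃ α : G, α = (((S * U)⁻¹ * H' : ↥L) : G) := ⟨_, rfl⟩
      have heq : h' = (S : G) * U * α := by simp [hαd, H', mul_assoc]
      exact c.fpf_product ha hb hSa hUb (hαd ▸ ⟨_, hα, rfl⟩) (heq ▸ hnp') hv (heq ▸ hfix')
    · obtain ⟨S, a, ha, hSa, rfl⟩ := lift hs
      obtain ⟨U, b, hb, hUb, rfl⟩ := lift ht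
      have hα : (S * U * (S * U))⁻¹ * H' ∈ Cfsg.pCore p ↥L := (QuotientGroup.eq_one_iff _).1 (by
        show QuotientGroup.mk' _ ((S * U * (S * U))⁻¹ * H') = 1
        rw [map_mul, map_inv, map_mul, map_mul]
        rw [show (QuotientGroup.mk' _ H' : ↥L ⧸ Cfsg.pCore p ↥L) = z from rfl, e1, inv_mul_cancel])
      obtain ⟨α, hαd⟩ : ∃ α : G, α = (((S * U * (S * U))⁻¹ * H' : ↥L) : G) := ⟨_, rfl⟩
      have heq : h' = (S : G) * U * ((S : G) * U) * α := by simp [hαd, H', mul_assoc]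
      refine c.fpf_central hp2 hh' (fun l hl => ?_) ha hb hSa hUb (hαd ▸ ⟨_, hα, rfl⟩) heq ?_ hv hfix'
      · refine ⟨⁅H', (⟨l, hl⟩ : ↥L)⁆, (QuotientGroup.eq_one_iff _).1 ?_, rfl⟩
        show QuotientGroup.mk' _ ⁅H', (⟨l, hl⟩ : ↥L)⁆ = 1
        rw [map_commutatorElement, commutatorElement_eq_one_iff_mul_comm]
        exact hcen _
      · rintro ⟨k, hk⟩
        refine hz1 (orderOf_eq_one_iff.1 ?_)
        have h1 : orderOf z ∣ p ^ k := by
          rw [e1, ← sq, ← map_mul]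
          refine (orderOf_pow_dvd _).trans ((orderOf_map_dvd _ _).trans ?_)
          rw [← Subgroup.orderOf_coe, Subgroup.coe_mul, hk]
        exact Nat.eq_one_of_dvd_coprimes (hzord.pow_right k) dvd_rfl h1
  have htwo : p = 2 → Nat.card T = 2 → Decomp p T z := by
    intro hp hT
    subst hp
    obtain ⟨g, hg, hgen⟩ := c.exists_gen
    refine decomp_dihedral hT (g := QuotientGroup.mk' _ (⟨g, hg⟩ : ↥L)) ?_
      ((Nat.coprime_two_right).1 hzord)
    rw [eq_top_iff]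
    intro x _
    obtain ⟨x, rfl⟩ := QuotientGroup.mk'_surjective _ x
    have hle : Y ⊔ cj Y g ≤ ((T ⊔ T.map (MulAut.conj (QuotientGroup.mk' _ (⟨g, hg⟩ : ↥L))).toMonoidHom).comap
        (QuotientGroup.mk' _)).map L.subtype := by
      refine sup_le (fun y hy => ⟨⟨y, c.le hy⟩, mem_sup_left ⟨_, hy, rfl⟩, rfl⟩) ?_
      rintro _ ⟨y, hy, rfl⟩
      refine ⟨⟨g, hg⟩ * ⟨y, c.le hy⟩ * (⟨g, hg⟩ : ↥L)⁻¹, mem_sup_right ⟨_, ⟨⟨y, c.le hy⟩, hy, rfl⟩, ?_⟩, rfl⟩
      simp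
      rfl
    rw [hgen] at hle
    obtain ⟨x', hx', e1⟩ := hle x.2
    exact L.subtype_injective e1 ▸ hx'
  obtain ⟨-, -, -, -, -, -, h7⟩ := hL
  rcases h7 with ⟨F, iF, iFF, hq, ⟨φ⟩⟩ | ⟨hp, F, iF, iFF, m', hF, hq, ⟨φ⟩⟩ | ⟨hp, r, hr, hr2, ⟨φ⟩⟩
  · have hTp : IsPGroup p T := fun x => ⟨1, Subtype.ext (by simpa using hTinv x x.2)⟩
    obtain ⟨n, hn⟩ := IsPGroup.iff_card.1 hTp
    rw [← hTcard, hn] at hq
    haveI : CharP F p := CfsgLib.ClassK.Push.charP_of_card hq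
    have h1 := decomp_sl (F := F) (T := T.map φ.toMonoidHom) (z := φ z)
      (by rw [card_map_of_injective φ.injective, hn, hq]) (by rwa [MulEquiv.orderOf_eq])
      (fun e1 => hz1 (φ.injective (e1.trans (map_one φ).symm)))
    have h2 := h1.map φ.symm
    rw [Subgroup.map_map, φ.symm_apply_apply] at h2
    have h3 : φ.symm.toMonoidHom.comp φ.toMonoidHom = MonoidHom.id _ := by ext x; simp
    rwa [h3, Subgroup.map_id] at h2
  · rw [← hTcard] at hq
    by_cases hm' : m' = 0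
    · exact htwo hp (by rw [← hq, hF, hm']; norm_num)
    subst hp
    have h1 := decomp_suzuki (F := F) (by omega : 1 ≤ m') hF (T := T.map φ.toMonoidHom) (z := φ z)
      (by rw [card_map_of_injective φ.injective, hq])
      (by
        rintro _ ⟨x, hx, rfl⟩
        show φ x * φ x = 1
        rw [← map_mul, ← sq, hTinv x hx, map_one])
      ((Nat.coprime_two_right).1 (by rwa [MulEquiv.orderOf_eq]))
      (fun e1 => hz1 (φ.injective (e1.trans (map_one φ).symm)))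
    have h2 := h1.map φ.symm
    rw [Subgroup.map_map, φ.symm_apply_apply] at h2
    have h3 : φ.symm.toMonoidHom.comp φ.toMonoidHom = MonoidHom.id _ := by ext x; simp
    rwa [h3, Subgroup.map_id] at h2
  · refine htwo hp ?_
    subst hp
    have hTp : IsPGroup 2 T := fun x => ⟨1, Subtype.ext (by simpa using hTinv x x.2)⟩
    obtain ⟨n, hn⟩ := IsPGroup.iff_card.1 hTp
    have hdvd : 2 ^ n ∣ 2 * r := by
      rw [← hn, ← DihedralGroup.nat_card, ← Nat.card_congr φ.toEquiv]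
      exact card_subgroup_dvd_card T
    have hn1 : n ≤ 1 := by
      by_contra hcon
      have h4 : 2 ^ 2 ∣ 2 * r := (pow_dvd_pow 2 (by omega)).trans hdvd
      rw [show (2 : ℕ) ^ 2 = 2 * 2 from rfl] at h4
      exact hr2 ((Nat.prime_dvd_prime_iff_eq Nat.prime_two hr).1 (Nat.dvd_of_mul_dvd_mul_left (by norm_num) h4)).symm
    have hn0 : n ≠ 0 := by
      intro e0
      rw [hTcard, e0, pow_zero] at hn
      refine c.not_le fun y hy => ?_
      exact (relIndex_eq_one.1 hn hy).2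
    rw [hn, show n = 1 by omega, pow_one]

end CfsgLib.ClassK.FrakL
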