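import Cfsg.Agent.Lib.BlockA.SylowSquares
import Cfsg.Agent.Lib.Invol.GLTwoTypes
import Cfsg.Agent.Lib.Invol.QWSimpleFusion

/-!
Centralizers and normalizers of Sylow 2-subgroups of `GL_2(q)`, `q` odd.
-/

set_option autoImplicit false
set_option linter.unusedSectionVars false

namespace CfsgLib.ClassK.GLTwoNorm

open Matrix CfsgLib.BlockA

universe u

variable {F : Type u} [Field F]

local notation "M2" => Matrix (Fin 2) (Fin 2) F
local notation "G2" => GL (Fin 2) F

/-- A non-scalar `2 × 2` matrix has commutative centralizer. -/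
theorem mul_comm_of_nonscalar {c x y : M2} (hc : c 0 1 ≠ 0 ∨ c 1 0 ≠ 0 ∨ c 0 0 ≠ c 1 1)
    (hx : x * c = c * x) (hy : y * c = c * y) : x * y = y * x := by
  have e : ∀ z : M2, z * c = c * z → z 0 1 * c 1 0 = c 0 1 * z 1 0 ∧
      z 0 1 * (c 1 1 - c 0 0) = c 0 1 * (z 1 1 - z 0 0) ∧
      z 1 0 * (c 1 1 - c 0 0) = c 1 0 * (z 1 1 - z 0 0) := fun z hz => by
    have h00 := congrFun (congrFun hz 0) 0
    have h01 := congrFun (congrFun hz 0) 1
    have h10 := congrFun (congrFun hz 1) 0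
    simp only [Matrix.mul_apply, Fin.sum_univ_two] at h00 h01 h10
    exact ⟨by linear_combination h00, by linear_combination h01, by linear_combination -h10⟩
  obtain ⟨a1, a2, a3⟩ := e x hx
  obtain ⟨b1, b2, b3⟩ := e y hy
  have k1 : x 0 1 * y 1 0 = y 0 1 * x 1 0 ∧ x 0 1 * (y 1 1 - y 0 0) = y 0 1 * (x 1 1 - x 0 0) ∧
      x 1 0 * (y 1 1 - y 0 0) = y 1 0 * (x 1 1 - x 0 0) := by
    rcases hc with h | h | h
    · have t2 : x 0 1 * (y 1 1 - y 0 0) = y 0 1 * (x 1 1 - x 0 0) := mul_left_cancel₀ h (by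
        linear_combination y 0 1 * a2 - x 0 1 * b2)
      refine ⟨mul_left_cancel₀ h ?_, t2, mul_left_cancel₀ h ?_⟩
      · linear_combination y 0 1 * a1 - x 0 1 * b1
      · linear_combination -(y 1 1 - y 0 0) * a1 + (x 1 1 - x 0 0) * b1 + c 1 0 * t2
    · have t3 : x 1 0 * (y 1 1 - y 0 0) = y 1 0 * (x 1 1 - x 0 0) := mul_left_cancel₀ h (by
        linear_combination y 1 0 * a3 - x 1 0 * b3)
      refine ⟨mul_left_cancel₀ h ?_, mul_left_cancel₀ h ?_, t3⟩
      · linear_combination y 1 0 * a1 - x 1 0 * b1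
      · linear_combination (y 1 1 - y 0 0) * a1 - (x 1 1 - x 0 0) * b1 + c 0 1 * t3
    · have h' : c 1 1 - c 0 0 ≠ 0 := sub_ne_zero.2 h.symm
      have t3 : x 1 0 * (y 1 1 - y 0 0) = y 1 0 * (x 1 1 - x 0 0) := mul_left_cancel₀ h' (by
        linear_combination (y 1 1 - y 0 0) * a3 - (x 1 1 - x 0 0) * b3)
      refine ⟨mul_left_cancel₀ h' ?_, mul_left_cancel₀ h' ?_, t3⟩
      · linear_combination y 1 0 * a2 - x 1 0 * b2 - c 0 1 * t3
      · linear_combination (y 1 1 - y 0 0) * a2 - (x 1 1 - x 0 0) * b2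
  ext i j
  fin_cases i <;> fin_cases j <;>
    simp only [Fin.zero_eta, Fin.mk_one, Matrix.mul_apply, Fin.sum_univ_two]
  · linear_combination k1.1
  · linear_combination k1.2.1
  · linear_combination -k1.2.2
  · linear_combination -k1.1

theorem commute_of_nonscalar {c x y : G2} (hc : c ∉ Subgroup.center G2) (hx : Commute x c)
    (hy : Commute y c) : Commute x y := by
  refine Units.ext (mul_comm_of_nonscalar ?_ (congrArg Units.val hx.eq) (congrArg Units.val hy.eq))
  by_contra h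
  push Not at h
  refine hc (Subgroup.mem_center_iff.2 fun w => Units.ext ?_)
  ext i j
  fin_cases i <;> fin_cases j <;>
    simp [Matrix.mul_apply, Fin.sum_univ_two, h.1, h.2.1, h.2.2, mul_comm]

theorem mem_center_of_commute {a b x : G2} (hab : ¬ Commute a b) (ha : Commute a x)
    (hb : Commute b x) : x ∈ Subgroup.center G2 := by
  by_contra h
  exact hab (commute_of_nonscalar h ha hb)

theorem center_entries {x : G2} (hx : x ∈ Subgroup.center G2) :
    (x : M2) = (x : M2) 0 0 • (1 : M2) := by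
  let t : G2 := GeneralLinearGroup.mkOfDetNeZero !![1, 1; 0, 1] (by simp [Matrix.det_fin_two_of])
  let s : G2 := GeneralLinearGroup.mkOfDetNeZero !![1, 0; 1, 1] (by simp [Matrix.det_fin_two_of])
  have h1 := congrArg Units.val (Subgroup.mem_center_iff.1 hx t)
  have h2 := congrArg Units.val (Subgroup.mem_center_iff.1 hx s)
  have a00 := congrFun (congrFun h1 0) 0
  have a01 := congrFun (congrFun h1 0) 1
  have b11 := congrFun (congrFun h2 1) 1
  simp [t, s, Matrix.mul_apply, Fin.sum_univ_two] at a00 a01 b11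
  ext i j
  fin_cases i <;> fin_cases j <;> simp [a00, b11]
  linear_combination a01

/-- The involution of `SL_2` is `-1`. -/
theorem eq_one_or_neg_one {x : G2} (hdet : GeneralLinearGroup.det x = 1) (hx : x * x = 1)
    (h2 : (2 : F) ≠ 0) : x = 1 ∨ x = -1 := by
  have hd : (x : M2) 0 0 * (x : M2) 1 1 - (x : M2) 0 1 * (x : M2) 1 0 = 1 := by
    rw [← Matrix.det_fin_two, ← GeneralLinearGroup.val_det_apply, hdet, Units.val_one]
  have h := congrArg Units.val hx
  have h00 := congrFun (congrFun h 0) 0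
  have h01 := congrFun (congrFun h 0) 1
  have h10 := congrFun (congrFun h 1) 0
  have h11 := congrFun (congrFun h 1) 1
  simp [Matrix.mul_apply, Fin.sum_univ_two] at h00 h01 h10 h11
  have hb : (x : M2) 0 1 = 0 := by
    have : (x : M2) 0 1 * 2 = 0 := by
      linear_combination (x : M2) 1 1 * h01 + (x : M2) 0 1 * (-h11) - (x : M2) 0 1 * hd
    simpa [h2] using this
  have hc : (x : M2) 1 0 = 0 := by
    have : (x : M2) 1 0 * 2 = 0 := by
      linear_combination (x : M2) 1 1 * h10 + (x : M2) 1 0 * (-h11) - (x : M2) 1 0 * hd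
    simpa [h2] using this
  rw [hb, hc] at hd h00
  simp only [mul_zero, zero_mul, sub_zero, add_zero] at hd h00
  rcases mul_self_eq_one_iff.1 h00 with e | e
  · refine Or.inl (Units.ext ?_)
    ext i j
    fin_cases i <;> fin_cases j <;> simp [hb, hc, e]
    rw [e, one_mul] at hd
    exact hd
  · refine Or.inr (Units.ext ?_)
    ext i j
    fin_cases i <;> fin_cases j <;> simp [hb, hc, e]
    rw [e, neg_one_mul, neg_eq_iff_eq_neg] at hd
    exact hd

variable [Fintype F]

theorem two_ne (hodd : Odd (Fintype.card F)) : (2 : F) ≠ 0 := by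
  intro h
  have : ringChar F = 2 := ((Nat.prime_dvd_prime_iff_eq
    (CharP.char_is_prime F (ringChar F)) Nat.prime_two).1 (ringChar.dvd (by exact_mod_cast h)))
  have := FiniteField.even_card_iff_char_two.1 this
  rw [Nat.odd_iff] at hodd
  omega

theorem three_le_val (hodd : Odd (Fintype.card F)) :
    3 ≤ padicValNat 2 (Fintype.card F ^ 2 - 1) := by
  haveI := Fact.mk Nat.prime_two
  have hq : 1 < Fintype.card F := Fintype.one_lt_card
  rw [← padicValNat_dvd_iff_le (Nat.sub_pos_of_lt (Nat.one_lt_pow two_ne_zero hq)).ne']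
  have h8 : Fintype.card F ^ 2 % 8 = 1 := by
    rw [Nat.pow_mod]
    rw [Nat.odd_iff] at hodd
    have : Fintype.card F % 8 = 1 ∨ Fintype.card F % 8 = 3 ∨ Fintype.card F % 8 = 5 ∨
        Fintype.card F % 8 = 7 := by omega
    rcases this with h | h | h | h <;> rw [h] <;> rfl
  exact Nat.dvd_of_mod_eq_zero (by omega)

/-- The determinant-one part of the local data is not commutative. -/
theorem exists_not_commute (hodd : Odd (Fintype.card F)) {D : Subgroup G2}
    (hQc : Nat.card (D ⊓ GeneralLinearGroup.det.ker : Subgroup G2) =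
      2 ^ padicValNat 2 (Fintype.card F ^ 2 - 1)) :
    ∃ a ∈ D ⊓ GeneralLinearGroup.det.ker, ∃ b ∈ D ⊓ GeneralLinearGroup.det.ker,
      ¬ Commute a b := by
  classical
  haveI := Fact.mk Nat.prime_two
  set Q := D ⊓ GeneralLinearGroup.det.ker
  have hle : Q ≤ (SpecialLinearGroup.toGL : SpecialLinearGroup (Fin 2) F →* G2).range := by
    intro x hx
    exact ⟨⟨(x : M2), by simpa using congrArg Units.val hx.2⟩, Units.ext rfl⟩
  have hinj := SpecialLinearGroup.toGL_injective (n := Fin 2) (R := F)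
  have hv : (Nat.card (SpecialLinearGroup (Fin 2) F)).factorization 2 =
      padicValNat 2 (Fintype.card F ^ 2 - 1) := by
    have h1 : (Nat.card (SpecialLinearGroup (Fin 2) F)).factorization 2 +
        padicValNat 2 (Fintype.card F - 1) = (Nat.card G2).factorization 2 :=
      SylowSquares.val_card_sl 1
    rw [SylowSquares.val_card_gl hodd, show 2 / 2 = 1 from rfl, show 2 - 1 = 1 from rfl,
      Nat.factorial_one, padicValNat.one] at h1
    omega
  let S : Sylow 2 (SpecialLinearGroup (Fin 2) F) := Sylow.ofCard (Q.comap SpecialLinearGroup.toGL)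
    (by rw [SylowSquares.card_comap hinj hle, hQc, hv])
  by_contra h
  push Not at h
  have hS : (S : Subgroup (SpecialLinearGroup (Fin 2) F)) ≤
      Subgroup.center (SpecialLinearGroup (Fin 2) F) := by
    rw [← (KnownB.SL2.sylow_two_facts hodd S).1]
    intro x hx
    rw [Subgroup.mem_centralizer_iff]
    intro y hy
    refine hinj ?_
    rw [map_mul, map_mul]
    exact h _ hy _ hx
  have h3 := Subgroup.card_le_of_le hS
  rw [Sylow.coe_ofCard, SylowSquares.card_comap hinj hle, hQc] at h3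
  have h4 : Nat.card (Subgroup.center (SpecialLinearGroup (Fin 2) F)) ≤ 2 := by
    rw [Nat.card_eq_fintype_card]
    refine (Fintype.card_le_of_injective (β := rootsOfUnity 2 F)
      (Matrix.SpecialLinearGroup.center_equiv_rootsOfUnity (n := Fin 2) (R := F)) (MulEquiv.injective _)).trans ?_
    exact Nat.card_eq_fintype_card (α := rootsOfUnity 2 F) ▸ card_rootsOfUnity F 2
  have h5 : (8 : ℕ) ≤ 2 ^ padicValNat 2 (Fintype.card F ^ 2 - 1) :=
    (pow_le_pow_right' (show (1 : ℕ) ≤ 2 by norm_num) (three_le_val hodd) : 2 ^ 3 ≤ _)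
  omega

/-- A `2`-element normalizing a Sylow `2`-subgroup lies in it. -/
theorem mem_sylow_of_normalizer {G : Type*} [Group G] (P : Sylow 2 G) {x : G}
    (hx : x ∈ Subgroup.normalizer ((P : Subgroup G) : Set G)) {k : ℕ} (hk : x ^ 2 ^ k = 1) :
    x ∈ (P : Subgroup G) := by
  haveI := Fact.mk Nat.prime_two
  obtain ⟨j, -, hj⟩ := (Nat.dvd_prime_pow Nat.prime_two).1 (orderOf_dvd_of_pow_eq_one hk)
  have hpx : IsPGroup 2 (Subgroup.zpowers x) :=
    IsPGroup.of_card (n := j) (by rw [Nat.card_zpowers, hj])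
  have h := P.3 (P.2.to_sup_of_normal_left' hpx (Subgroup.zpowers_le.2 hx)) le_sup_left
  rw [← h]
  exact Subgroup.mem_sup_right (Subgroup.mem_zpowers x)

/-- A normalizing element of `Γ` lies in the maximal 2-subgroup times odd scalars. -/
theorem normalizer_two_subgroup {D Γ : Subgroup G2} (hqw : Invol.IsQW D)
    (hmax : ∀ x ∈ Γ, x ∈ Subgroup.normalizer (D : Set G2) → ∀ {k : ℕ}, x ^ 2 ^ k = 1 → x ∈ D)
    {a b : G2} (ha : a ∈ D) (hb : b ∈ D) (hab : ¬ Commute a b) {d : G2} (hdΓ : d ∈ Γ)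
    (hd : d ∈ Subgroup.normalizer (D : Set G2)) :
    ∃ e ∈ D, ∃ v : G2, v ∈ Subgroup.center G2 ∧ Odd (orderOf v) ∧ d = e * v := by
  classical
  haveI := Fact.mk Nat.prime_two
  let φ := Subgroup.normalizerMonoidHom (H := D)
  obtain ⟨k, hk⟩ := Invol.isPGroup_mulAut_qw hqw (φ ⟨d, hd⟩)
  rw [← map_pow, ← MonoidHom.mem_ker] at hk
  have hcomm : ∀ x ∈ D, Commute x (d ^ 2 ^ k) := fun x hx => by
    have h1 : φ (⟨d, hd⟩ ^ 2 ^ k) ⟨x, hx⟩ = ⟨x, hx⟩ := by rw [MonoidHom.mem_ker.1 hk]; rfl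
    have h2 := congrArg Subtype.val h1
    have h3 : d ^ 2 ^ k * x * (d ^ 2 ^ k)⁻¹ = x := h2
    exact (eq_mul_inv_iff_mul_eq.1 h3.symm)
  obtain ⟨t, o, ho, hto⟩ := Nat.exists_eq_pow_mul_and_not_dvd (orderOf_pos d).ne' 2 (by norm_num)
  have hoo : Odd o := Nat.not_even_iff_odd.1 fun h => ho h.two_dvd
  obtain ⟨α, β, hαβ⟩ : IsCoprime ((2 : ℤ) ^ t) (o : ℤ) := by
    rw [show ((2 : ℤ) ^ t) = ((2 ^ t : ℕ) : ℤ) by push_cast; rfl, Int.isCoprime_iff_nat_coprime]
    simpa using (Nat.coprime_two_left.2 hoo).pow_left t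
  set v : G2 := (d ^ 2 ^ t) ^ α with hv
  have hvo : v ^ o = 1 := by
    rw [hv, ← zpow_natCast _ o, ← _root_.zpow_mul, mul_comm, _root_.zpow_mul, zpow_natCast, ← pow_mul, ← hto,
      pow_orderOf_eq_one, _root_.one_zpow]
  have hvodd : Odd (orderOf v) := Odd.of_dvd_nat hoo (orderOf_dvd_of_pow_eq_one hvo)
  have hvc : v ∈ Subgroup.center G2 := by
    obtain ⟨r, hr⟩ := exists_pow_eq_self_of_coprime
      (n := 2 ^ k) (x := v) ((Nat.coprime_two_left.2 hvodd).pow_left k)
    have h1 : v ^ 2 ^ k = ((d ^ 2 ^ k) ^ 2 ^ t) ^ α := by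
      rw [hv, ← zpow_natCast, ← _root_.zpow_mul, mul_comm, _root_.zpow_mul, zpow_natCast, ← pow_mul, ← pow_mul,
        mul_comm]
    refine mem_center_of_commute hab ?_ ?_ <;>
    · rw [← hr, h1]
      exact (((hcomm _ (by assumption)).pow_right _).zpow_right _).pow_right _
  refine ⟨d * v⁻¹, hmax _ ?_ ?_ (k := t) ?_, v, hvc, hvodd, by group⟩
  · exact mul_mem hdΓ (inv_mem (zpow_mem (pow_mem hdΓ _) _))
  · exact mul_mem hd (inv_mem (zpow_mem (pow_mem hd _) _))
  · have he : d * v⁻¹ = (d ^ o) ^ β := by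
      have h2 : d = d ^ (α * 2 ^ t + β * o) := by rw [hαβ, zpow_one]
      conv_lhs => arg 1; rw [h2]
      rw [hv, _root_.zpow_add, ← zpow_natCast d (2 ^ t), ← _root_.zpow_mul, ← zpow_natCast d o, ← _root_.zpow_mul]
      rw [← _root_.zpow_neg, ← _root_.zpow_add, ← _root_.zpow_add]
      congr 1
      push_cast
      ring
    rw [he, ← zpow_natCast _ (2 ^ t), ← _root_.zpow_mul, mul_comm, _root_.zpow_mul, zpow_natCast, ← pow_mul,
      mul_comm o, ← hto, pow_orderOf_eq_one, _root_.one_zpow]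

/-- The normalizer of a Sylow `2`-subgroup of `GL_2(q)` is the Sylow subgroup times odd scalars. -/
theorem normalizer_sylow (hodd : Odd (Fintype.card F)) (P : Sylow 2 G2) {a b : G2}
    (ha : a ∈ (P : Subgroup G2)) (hb : b ∈ (P : Subgroup G2)) (hab : ¬ Commute a b) {d : G2}
    (hd : d ∈ Subgroup.normalizer ((P : Subgroup G2) : Set G2)) :
    ∃ e ∈ (P : Subgroup G2), ∃ v : G2, v ∈ Subgroup.center G2 ∧ Odd (orderOf v) ∧ d = e * v := by
  classical
  haveI := Fact.mk Nat.prime_two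
  have hqw : Invol.IsQW (P : Subgroup G2) := by
    rw [Nat.odd_iff] at hodd
    rcases (show Fintype.card F % 4 = 1 ∨ Fintype.card F % 4 = 3 by omega) with h | h
    · exact Or.inr (Invol.gl_two_sylow_wreathed h P)
    · exact Or.inl (Invol.gl_two_sylow_quasiDihedral h P)
  exact normalizer_two_subgroup (Γ := ⊤) hqw (fun x _ hx _ hk => mem_sylow_of_normalizer P hx hk)
    ha hb hab (Subgroup.mem_top d) hd

end CfsgLib.ClassK.GLTwoNorm
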