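import Cfsg.Agent.Lib.ClassK.GUClassData
import Cfsg.Agent.Lib.KnownB.ClassBounds

/-!
Numerical bound `uPhi q n n ≤ 8.26 (q + 1) q ^ (n - 1)` behind the class number of `SU_n(q)`.
The counting of compositions follows `Lib/KnownB/CompWeight.lean` with the unitary weights; the
generating product is bounded term by term at `q = 2`.
-/

set_option autoImplicit false

namespace CfsgLib.ClassK.GUData

open Finset CfsgLib.KnownB.ClassNum

/-- Weighted number of compositions of `r` with parts `i, …, i + L - 1`. -/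
def uSum (q : ℕ) : ℕ → ℕ → ℕ → ℕ
  | _, 0, r => if r = 0 then 1 else 0
  | i, L + 1, r => ∑ a ∈ range (r / i + 1), uWt q a * uSum q (i + 1) L (r - i * a)

theorem u_sum_comps (q : ℕ) : ∀ L i r : ℕ, 1 ≤ i →
    ∑ a ∈ comps i L r, ∏ l, uWt q (a l) = uSum q i L r := by
  intro L
  induction L with
  | zero =>
    intro i r hi
    rw [uSum]
    split_ifs with h
    · rw [show comps i 0 r = {Fin.elim0} from Finset.ext fun a => by
        simp [mem_comps hi, h, Subsingleton.elim a Fin.elim0]]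
      simp
    · rw [show comps i 0 r = ∅ from Finset.ext fun a => by
        simp [mem_comps hi, Ne.symm h]]
      simp
  | succ L ih =>
    intro i r hi
    rw [uSum]
    simp only [← fun b => ih (i + 1) b (by omega), mul_sum]
    rw [sum_sigma']
    refine sum_bij' (fun a _ => ⟨a 0, Fin.tail a⟩) (fun p _ => Fin.cons p.1 p.2) ?_ ?_ ?_ ?_ ?_
    · intro a ha
      rw [mem_comps hi, Fin.sum_univ_succ] at ha
      simp only [Fin.val_zero, add_zero, Fin.val_succ] at ha
      rw [mem_sigma, mem_range, mem_comps (by omega)]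
      refine ⟨Nat.lt_succ_of_le ((Nat.le_div_iff_mul_le (by omega)).2 ?_), ?_⟩
      · show a 0 * i ≤ r
        rw [mul_comm]; omega
      · calc ∑ l : Fin L, (i + 1 + (l : ℕ)) * Fin.tail a l
            = ∑ l : Fin L, (i + ((l : ℕ) + 1)) * a l.succ :=
              Finset.sum_congr rfl fun l _ => by rw [Fin.tail]; congr 1; omega
          _ = r - i * a 0 := by omega
    · intro p hp
      rw [mem_sigma, mem_range, mem_comps (by omega)] at hp
      rw [mem_comps hi, Fin.sum_univ_succ]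
      simp only [Fin.cons_zero, Fin.cons_succ, Fin.val_zero, add_zero, Fin.val_succ]
      have h2 : i * p.1 ≤ r := by
        have := (Nat.le_div_iff_mul_le (show 0 < i by omega)).1 (Nat.le_of_lt_succ hp.1)
        rwa [mul_comm]
      rw [Finset.sum_congr rfl (fun (l : Fin L) _ => by
        rw [show i + ((l : ℕ) + 1) = i + 1 + (l : ℕ) by omega]), hp.2]
      omega
    · intro a _; exact Fin.cons_self_tail a
    · intro p _; simp
    · intro a _
      rw [Fin.prod_univ_succ]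
      rfl

variable {q : ℕ}

theorem uIdx_dvd_succ {L : ℕ} (a : Fin L → ℕ) : uIdx q a ∣ q + 1 := Nat.gcd_dvd_left _ _

theorem uIdx_dvd_part {L : ℕ} (a : Fin L → ℕ) {l : Fin L} (hl : a l ≠ 0) :
    uIdx q a ∣ 1 + (l : ℕ) :=
  (Nat.gcd_dvd_right _ _).trans (gcd_dvd (mem_filter.2 ⟨mem_univ l, hl⟩))

theorem uIdx_dvd_total {L r : ℕ} {a : Fin L → ℕ} (ha : a ∈ comps 1 L r) : uIdx q a ∣ r := by
  rw [← (mem_comps le_rfl).1 ha]
  refine dvd_sum fun l _ => ?_
  rcases Nat.eq_zero_or_pos (a l) with h | h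
  · simp [h]
  · exact Dvd.dvd.mul_right (uIdx_dvd_part a h.ne') _

theorem uIdx_one_le (hq : 2 ≤ q) {L : ℕ} (a : Fin L → ℕ) : 1 ≤ uIdx q a :=
  Nat.gcd_pos_of_pos_left _ (by omega)

/-- Compositions all of whose parts are multiples of `d`. -/
theorem u_sum_dvd_le (q : ℕ) {L r d : ℕ} (hd : 0 < d) :
    ∑ a ∈ (comps 1 L r).filter (fun a => ∀ l : Fin L, a l ≠ 0 → d ∣ 1 + (l : ℕ)), ∏ l, uWt q (a l) ≤
      uSum q 1 L (r / d) := by
  classical
  rw [← u_sum_comps q L 1 (r / d) le_rfl]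
  have hlt : ∀ k : Fin L, d ∣ 1 + (k : ℕ) → (1 + (k : ℕ)) / d - 1 < L := fun k hk => by
    have h1 := Nat.div_le_self (1 + (k : ℕ)) d
    have h2 := Nat.div_pos (Nat.le_of_dvd (by omega) hk) hd
    omega
  let ψ : (Fin L → ℕ) → Fin L → ℕ := fun a k =>
    if h : d * (1 + (k : ℕ)) - 1 < L then a ⟨d * (1 + (k : ℕ)) - 1, h⟩ else 0
  have hσ : ∀ a : Fin L → ℕ, (∀ l : Fin L, a l ≠ 0 → d ∣ 1 + (l : ℕ)) →
      ∀ (g : ℕ → ℕ → ℕ) (_ : ∀ j, g j 0 = 0),
      ∑ l : Fin L, g (1 + (l : ℕ)) (a l) = ∑ k : Fin L, g (d * (1 + (k : ℕ))) (ψ a k) := by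
    intro a ha g hg
    refine sum_bij_ne_zero
      (fun l _ hne => ⟨(1 + (l : ℕ)) / d - 1, hlt l (ha l fun h => hne (by rw [h, hg]))⟩) ?_ ?_ ?_ ?_
    · intro l _ _; exact mem_univ _
    · intro l₁ _ h₁ l₂ _ h₂ he
      have d1 := ha l₁ fun h => h₁ (by rw [h, hg])
      have d2 := ha l₂ fun h => h₂ (by rw [h, hg])
      have e := congrArg Fin.val he
      simp only at e
      have p1 := Nat.div_pos (Nat.le_of_dvd (by omega) d1) hd
      have p2 := Nat.div_pos (Nat.le_of_dvd (by omega) d2) hd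
      have : (1 + (l₁ : ℕ)) / d = (1 + (l₂ : ℕ)) / d := by omega
      have := (Nat.div_mul_cancel d1).symm.trans ((congrArg (· * d) this).trans (Nat.div_mul_cancel d2))
      exact Fin.ext (by omega)
    · intro k _ hne
      by_cases h : d * (1 + (k : ℕ)) - 1 < L
      · have hpos : 0 < d * (1 + (k : ℕ)) := Nat.mul_pos hd (by omega)
        have he : 1 + ((⟨d * (1 + (k : ℕ)) - 1, h⟩ : Fin L) : ℕ) = d * (1 + (k : ℕ)) := by
          show 1 + (d * (1 + (k : ℕ)) - 1) = _
          omega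
        refine ⟨⟨d * (1 + (k : ℕ)) - 1, h⟩, mem_univ _, ?_, Fin.ext ?_⟩
        · rw [he]; simpa [ψ, h] using hne
        · show (1 + (d * (1 + (k : ℕ)) - 1)) / d - 1 = (k : ℕ)
          rw [show 1 + (d * (1 + (k : ℕ)) - 1) = d * (1 + (k : ℕ)) by omega, Nat.mul_div_cancel_left _ hd]
          omega
      · exact absurd (by simp [ψ, h, hg]) hne
    · intro l _ hne
      have d1 := ha l fun h => hne (by rw [h, hg])
      have p1 := Nat.div_pos (Nat.le_of_dvd (by omega) d1) hd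
      have e1 : d * (1 + ((1 + (l : ℕ)) / d - 1)) = 1 + (l : ℕ) := by
        rw [show 1 + ((1 + (l : ℕ)) / d - 1) = (1 + (l : ℕ)) / d by omega, Nat.mul_div_cancel' d1]
      simp only [ψ]
      rw [e1]
      simp
  have hinj : Set.InjOn ψ ↑((comps 1 L r).filter (fun a => ∀ l : Fin L, a l ≠ 0 → d ∣ 1 + (l : ℕ))) := by
    intro a ha b hb hab
    funext l
    by_cases hl : d ∣ 1 + (l : ℕ)
    · have p1 := Nat.div_pos (Nat.le_of_dvd (by omega) hl) hd
      have e1 : d * (1 + ((1 + (l : ℕ)) / d - 1)) = 1 + (l : ℕ) := by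
        rw [show 1 + ((1 + (l : ℕ)) / d - 1) = (1 + (l : ℕ)) / d by omega, Nat.mul_div_cancel' hl]
      have := congrFun hab ⟨(1 + (l : ℕ)) / d - 1, hlt l hl⟩
      simp only [ψ, e1] at this
      simpa using this
    · have h1 : a l = 0 := by_contra fun h => hl ((mem_filter.1 ha).2 l h)
      have h2 : b l = 0 := by_contra fun h => hl ((mem_filter.1 hb).2 l h)
      rw [h1, h2]
  have hwt : ∀ a : Fin L → ℕ, (∀ l : Fin L, a l ≠ 0 → d ∣ 1 + (l : ℕ)) →
      ∏ l, uWt q (a l) = ∏ k, uWt q (ψ a k) := by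
    intro a ha
    refine prod_bij_ne_one
      (fun l _ hne => ⟨(1 + (l : ℕ)) / d - 1, hlt l (ha l fun h => hne (by rw [h]; rfl))⟩) ?_ ?_ ?_ ?_
    · intro l _ _; exact mem_univ _
    · intro l₁ _ h₁ l₂ _ h₂ he
      have d1 := ha l₁ fun h => h₁ (by rw [h]; rfl)
      have d2 := ha l₂ fun h => h₂ (by rw [h]; rfl)
      have e := congrArg Fin.val he
      simp only at e
      have p1 := Nat.div_pos (Nat.le_of_dvd (by omega) d1) hd
      have p2 := Nat.div_pos (Nat.le_of_dvd (by omega) d2) hd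
      have : (1 + (l₁ : ℕ)) / d = (1 + (l₂ : ℕ)) / d := by omega
      have := (Nat.div_mul_cancel d1).symm.trans ((congrArg (· * d) this).trans (Nat.div_mul_cancel d2))
      exact Fin.ext (by omega)
    · intro k _ hne
      by_cases h : d * (1 + (k : ℕ)) - 1 < L
      · have hpos : 0 < d * (1 + (k : ℕ)) := Nat.mul_pos hd (by omega)
        refine ⟨⟨d * (1 + (k : ℕ)) - 1, h⟩, mem_univ _, ?_, Fin.ext ?_⟩
        · simpa [ψ, h] using hne
        · show (1 + (d * (1 + (k : ℕ)) - 1)) / d - 1 = (k : ℕ)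
          rw [show 1 + (d * (1 + (k : ℕ)) - 1) = d * (1 + (k : ℕ)) by omega, Nat.mul_div_cancel_left _ hd]
          omega
      · exact absurd (by simp [ψ, h, uWt]) hne
    · intro l _ hne
      have d1 := ha l fun h => hne (by rw [h]; rfl)
      have p1 := Nat.div_pos (Nat.le_of_dvd (by omega) d1) hd
      have e1 : d * (1 + ((1 + (l : ℕ)) / d - 1)) = 1 + (l : ℕ) := by
        rw [show 1 + ((1 + (l : ℕ)) / d - 1) = (1 + (l : ℕ)) / d by omega, Nat.mul_div_cancel' d1]
      simp only [ψ, e1]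
      simp
  rw [sum_congr rfl (fun a ha => hwt a (mem_filter.1 ha).2),
    ← sum_image (f := fun b : Fin L → ℕ => ∏ k, uWt q (b k)) hinj]
  refine sum_le_sum_of_subset_of_nonneg (fun b hb => ?_) fun _ _ _ => Nat.zero_le _
  obtain ⟨a, ha, rfl⟩ := mem_image.1 hb
  rw [mem_filter, mem_comps le_rfl] at ha
  rw [mem_comps le_rfl]
  have h := (hσ a ha.2 (fun j x => j * x) fun j => by simp).symm.trans ha.1
  simp only [mul_assoc, ← mul_sum] at h
  rw [← h, Nat.mul_div_cancel_left _ hd]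

/-- Extra terms over the divisors. -/
theorem uPhi_le (hq : 2 ≤ q) (L r : ℕ) :
    uPhi q L r ≤ uSum q 1 L r +
      ∑ d ∈ (Nat.gcd r (q + 1)).divisors.filter (fun d => 1 < d), (d ^ 2 - 1) * uSum q 1 L (r / d) := by
  classical
  calc uPhi q L r
      ≤ ∑ a ∈ comps 1 L r, (1 + ∑ d ∈ (Nat.gcd r (q + 1)).divisors.filter (fun d => 1 < d),
          if d ∣ uIdx q a then d ^ 2 - 1 else 0) * ∏ l, uWt q (a l) := by
        refine sum_le_sum fun a ha => Nat.mul_le_mul_right _ ?_
        rcases (uIdx_one_le hq a).eq_or_lt with h | h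
        · rw [← h]; omega
        · have hmem : uIdx q a ∈ (Nat.gcd r (q + 1)).divisors.filter (fun d => 1 < d) :=
            mem_filter.2 ⟨Nat.mem_divisors.2 ⟨Nat.dvd_gcd (uIdx_dvd_total ha) (uIdx_dvd_succ a),
              fun h0 => by have := (Nat.gcd_eq_zero_iff.1 h0).2; omega⟩, h⟩
          have h2 := single_le_sum (f := fun d => if d ∣ uIdx q a then d ^ 2 - 1 else 0)
            (fun _ _ => Nat.zero_le _) hmem
          simp only [dvd_refl, if_true] at h2
          omega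
    _ ≤ _ := by
        simp only [add_mul, one_mul, sum_add_distrib, u_sum_comps q L 1 r le_rfl, sum_mul]
        refine Nat.add_le_add_left ?_ _
        rw [sum_comm]
        refine sum_le_sum fun d hd => ?_
        simp only [ite_mul, zero_mul]
        rw [← sum_filter, ← mul_sum]
        refine Nat.mul_le_mul_left _ (le_trans (sum_le_sum_of_subset_of_nonneg (fun a ha => ?_)
          fun _ _ _ => Nat.zero_le _) (u_sum_dvd_le q (by have := (mem_filter.1 hd).2; omega)))
        rw [mem_filter] at ha ⊢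
        exact ⟨ha.1, fun l hl => ha.2.trans (uIdx_dvd_part a hl)⟩

theorem uSum_zero (i L : ℕ) : uSum q i L 0 = 1 := by
  induction L generalizing i with
  | zero => simp [uSum]
  | succ L ih => simp [uSum, uWt, ih]

theorem uSum_small : ∀ i L r : ℕ, 0 < r → r < i → uSum q i L r = 0 := by
  intro i L
  induction L generalizing i with
  | zero => intro r h _; simp [uSum, h.ne']
  | succ L ih =>
    intro r h0 hr
    simp [uSum, Nat.div_eq_of_lt hr, ih (i + 1) r h0 (by omega)]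

theorem uSum_self_le (i L : ℕ) (hi : 1 ≤ i) : uSum q i L i ≤ q + 1 := by
  rcases L with _ | L
  · simp [uSum, show i ≠ 0 by omega]
  · simp [uSum, Nat.div_self hi, sum_range_succ, uWt, uSum_zero, uSum_small (i + 1) L i hi (by omega)]

/-- The normalised partial generating product. -/
def uS (q i L R : ℕ) : ℚ := ∑ r ∈ range (R + 1), (uSum q i L r : ℚ) / (q : ℚ) ^ r

theorem uS_zero (i R : ℕ) : uS q i 0 R = 1 := by
  rw [uS, sum_range_succ']
  simp [uSum]

theorem geom_uWt (hq : 2 ≤ q) {i : ℕ} (hi : 2 ≤ i) (a : ℕ) :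
    (uWt q a : ℚ) / (q : ℚ) ^ (i * a) =
      if a = 0 then 1 else (1 + 1 / q) * (((1 : ℚ) / q) ^ (i - 1)) ^ a := by
  have hq0 : (q : ℚ) ≠ 0 := by positivity
  rcases a with _ | a
  · simp [uWt]
  · obtain ⟨j, rfl⟩ : ∃ j, i = j + 1 := ⟨i - 1, by omega⟩
    rw [uWt, if_neg (Nat.succ_ne_zero a), if_neg (Nat.succ_ne_zero a), Nat.add_sub_cancel,
      Nat.add_sub_cancel, Nat.cast_mul, Nat.cast_pow, ← pow_mul,
      show (j + 1) * (a + 1) = j * (a + 1) + a + 1 by ring, pow_succ, pow_add, div_pow, one_pow]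
    field_simp
    push_cast
    ring

theorem geom_sum_uWt (hq : 2 ≤ q) {i : ℕ} (hi : 2 ≤ i) (A : ℕ) :
    (1 - ((1 : ℚ) / q) ^ (i - 1)) * ∑ a ∈ range (A + 1), (uWt q a : ℚ) / (q : ℚ) ^ (i * a) =
      1 + ((1 : ℚ) / q) ^ (i - 1) / q - (1 + 1 / q) * (((1 : ℚ) / q) ^ (i - 1)) ^ (A + 1) := by
  induction A with
  | zero => simp [uWt]; ring
  | succ A ih =>
    rw [sum_range_succ, mul_add, ih, geom_uWt hq hi, if_neg (Nat.succ_ne_zero A)]
    ring

/-- One factor of the product. -/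
theorem uS_step (hq : 2 ≤ q) {i : ℕ} (hi : 2 ≤ i) {L R : ℕ} {B : ℚ}
    (hB : uS q (i + 1) L R ≤ B) :
    uS q i (L + 1) R ≤ (1 + (1 / 2 : ℚ) ^ i) / (1 - 2 * (1 / 2 : ℚ) ^ i) * B := by
  have hq0 : (0 : ℚ) < q := by positivity
  have hq2 : (1 : ℚ) / q ≤ 1 / 2 := one_div_le_one_div_of_le (by norm_num) (by exact_mod_cast hq)
  obtain ⟨j, rfl⟩ : ∃ j, i = j + 1 := ⟨i - 1, by omega⟩
  have h2 : ((1 / 2 : ℚ) ^ j) = 2 * (1 / 2 : ℚ) ^ (j + 1) := by rw [pow_succ]; ring
  have hy : (1 / 2 : ℚ) ^ j < 1 := pow_lt_one₀ (by norm_num) (by norm_num) (by omega)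
  have hz : ((1 : ℚ) / q) ^ j ≤ (1 / 2 : ℚ) ^ j := pow_le_pow_left₀ (by positivity) hq2 j
  set g : ℕ → ℚ := fun a => (uWt q a : ℚ) / (q : ℚ) ^ ((j + 1) * a) with hg
  set u : ℕ → ℚ := fun s => (uSum q (j + 1 + 1) L s : ℚ) / (q : ℚ) ^ s with hu
  have hG : ∑ a ∈ range (R + 1), g a ≤ (1 + (1 / 2 : ℚ) ^ (j + 1)) / (1 - 2 * (1 / 2 : ℚ) ^ (j + 1)) := by
    have e := geom_sum_uWt hq (show 2 ≤ j + 1 by omega) R
    rw [Nat.add_sub_cancel] at e
    rw [← h2]
    calc ∑ a ∈ range (R + 1), g a ≤ (1 + ((1 : ℚ) / q) ^ (j + 1)) / (1 - ((1 : ℚ) / q) ^ j) := by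
          rw [le_div_iff₀ (by linarith), mul_comm, e, show ((1 : ℚ) / q) ^ j / q = ((1 : ℚ) / q) ^ (j + 1) by
            rw [pow_succ]; ring]
          have : 0 ≤ (1 + 1 / (q : ℚ)) * (((1 : ℚ) / q) ^ j) ^ (R + 1) := by positivity
          linarith
      _ ≤ _ := div_le_div₀ (by positivity)
          (by linarith [pow_le_pow_left₀ (by positivity) hq2 (j + 1)]) (by linarith) (by linarith)
  have key : uS q (j + 1) (L + 1) R ≤ (∑ a ∈ range (R + 1), g a) * ∑ s ∈ range (R + 1), u s := by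
    have hsplit : ∀ r, (uSum q (j + 1) (L + 1) r : ℚ) / (q : ℚ) ^ r =
        ∑ a ∈ range (r / (j + 1) + 1), g a * u (r - (j + 1) * a) := by
      intro r
      rw [uSum, Nat.cast_sum, sum_div]
      refine sum_congr rfl fun a ha => ?_
      have hle : (j + 1) * a ≤ r := by
        have := (Nat.le_div_iff_mul_le (Nat.succ_pos j)).1 (Nat.le_of_lt_succ (mem_range.1 ha))
        rwa [mul_comm]
      simp only [hg, hu]
      rw [div_mul_div_comm, ← pow_add, Nat.add_sub_cancel' hle, Nat.cast_mul]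
    rw [uS, sum_mul_sum, ← sum_product']
    simp only [hsplit]
    rw [sum_sigma']
    have hinj : Set.InjOn (fun p : (_ : ℕ) × ℕ => (p.2, p.1 - (j + 1) * p.2))
        ↑((range (R + 1)).sigma fun r => range (r / (j + 1) + 1)) := by
      intro p hp p' hp' e
      simp only [mem_coe, mem_sigma, mem_range, Nat.lt_succ_iff,
        Nat.le_div_iff_mul_le (Nat.succ_pos j), mul_comm p.2, mul_comm p'.2] at hp hp'
      simp only [Prod.mk.injEq] at e
      obtain ⟨e1, e2⟩ := e
      rw [e1] at hp e2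
      simp only [Nat.succ_eq_add_one] at hp hp'
      exact Sigma.ext (by omega) (heq_of_eq e1)
    rw [← sum_image (f := fun p : ℕ × ℕ => g p.1 * u p.2) hinj]
    refine sum_le_sum_of_subset_of_nonneg (fun p hp => ?_) fun p _ _ => by simp only [hg, hu]; positivity
    obtain ⟨⟨r, a⟩, h, rfl⟩ := mem_image.1 hp
    simp only [mem_sigma, mem_range, Nat.lt_succ_iff] at h
    simp only [mem_product, mem_range, Nat.lt_succ_iff]
    have := Nat.div_le_self r (j + 1)
    omega
  refine key.trans (mul_le_mul hG hB (sum_nonneg fun s _ => by simp only [hu]; positivity) ?_)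
  exact div_nonneg (by positivity) (by linarith)

/-- The tail of the product. -/
theorem uS_tail (hq : 2 ≤ q) : ∀ L i R : ℕ, 8 ≤ i → (1 - 6 * (1 / 2 : ℚ) ^ i) * uS q i L R ≤ 1 := by
  intro L
  induction L with
  | zero =>
    intro i R _
    rw [uS_zero, mul_one, sub_le_self_iff]
    positivity
  | succ L ih =>
    intro i R hi
    have h := ih (i + 1) R (by omega)
    rw [pow_succ] at h
    set y := (1 / 2 : ℚ) ^ i with hy
    have hy0 : 0 ≤ y := by positivity
    have hy1 : y ≤ 1 / 256 := le_of_le_of_eq (pow_le_pow_of_le_one (by norm_num) (by norm_num) hi) (by norm_num)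
    have h1 := uS_step hq (i := i) (L := L) (R := R) (B := 1 / (1 - 3 * y)) (by omega)
      (by rw [le_div_iff₀ (by linarith)]; linarith)
    refine (mul_le_mul_of_nonneg_left h1 (by linarith)).trans ?_
    rw [← hy, div_mul_div_comm, mul_one, mul_div_assoc', div_le_one (by nlinarith)]
    nlinarith

theorem uS_eight (hq : 2 ≤ q) (L R : ℕ) : uS q 8 L R ≤ 128 / 125 := by
  have := uS_tail hq L 8 R le_rfl
  norm_num at this
  linarith

theorem uS_pred (hq : 2 ≤ q) {i : ℕ} (hi : 2 ≤ i) {B C : ℚ} (h : ∀ L R, uS q (i + 1) L R ≤ B)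
    (h1 : 1 ≤ C) (hC : (1 + (1 / 2 : ℚ) ^ i) / (1 - 2 * (1 / 2 : ℚ) ^ i) * B ≤ C) :
    ∀ L R, uS q i L R ≤ C := by
  rintro (_ | L) R
  · rw [uS_zero]; exact h1
  · exact (uS_step hq hi (h L R)).trans hC

theorem uS_two (hq : 2 ≤ q) : ∀ L R, uS q 2 L R ≤ 551 / 100 := by
  have h7 : ∀ L R, uS q 7 L R ≤ 10484 / 10000 := uS_pred hq (by norm_num) (uS_eight hq) (by norm_num) (by norm_num)
  have h6 : ∀ L R, uS q 6 L R ≤ 10992 / 10000 := uS_pred hq (by norm_num) h7 (by norm_num) (by norm_num)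
  have h5 : ∀ L R, uS q 5 L R ≤ 12092 / 10000 := uS_pred hq (by norm_num) h6 (by norm_num) (by norm_num)
  have h4 : ∀ L R, uS q 4 L R ≤ 14684 / 10000 := uS_pred hq (by norm_num) h5 (by norm_num) (by norm_num)
  have h3 : ∀ L R, uS q 3 L R ≤ 22026 / 10000 := uS_pred hq (by norm_num) h4 (by norm_num) (by norm_num)
  exact uS_pred hq (by norm_num) h3 (by norm_num) (by norm_num)

/-- The generic bound on a coefficient. -/
theorem uSum_one_le (hq : 2 ≤ q) (L r : ℕ) (hr : 1 ≤ r) :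
    100 * uSum q 1 L r ≤ 551 * ((q + 1) * q ^ (r - 1)) := by
  rcases L with _ | L
  · simp [uSum, show r ≠ 0 by omega]
  obtain ⟨s, rfl⟩ : ∃ s, r = s + 1 := ⟨r - 1, by omega⟩
  have hq0 : (q : ℚ) ≠ 0 := by positivity
  have h : (uSum q 1 (L + 1) (s + 1) : ℚ) ≤ ((q : ℚ) + 1) * (q : ℚ) ^ s * uS q 2 L (s + 1) := by
    rw [uSum, Nat.div_one, Nat.cast_sum, uS, mul_sum, ← sum_range_reflect]
    refine sum_le_sum fun a ha => ?_
    rw [mem_range] at ha
    rw [Nat.add_sub_cancel, one_mul, Nat.sub_sub_self (by omega : a ≤ s + 1), Nat.cast_mul,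
      ← mul_div_assoc, le_div_iff₀ (by positivity), mul_right_comm]
    refine mul_le_mul_of_nonneg_right ?_ (Nat.cast_nonneg _)
    rcases Nat.lt_or_ge a (s + 1) with h | h
    · rw [uWt, if_neg (by omega), Nat.cast_mul, Nat.cast_pow, mul_assoc, ← pow_add,
        show s + 1 - a - 1 + a = s by omega, Nat.cast_add_one]
    · rw [show s + 1 - a = 0 by omega, uWt, if_pos rfl, Nat.cast_one, one_mul,
        show a = s + 1 by omega, pow_succ', mul_le_mul_iff_of_pos_right (by positivity)]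
      linarith
  rw [Nat.add_sub_cancel]
  have h2 := h.trans (mul_le_mul_of_nonneg_left (uS_two hq L (s + 1)) (by positivity))
  have : ((100 * uSum q 1 (L + 1) (s + 1) : ℕ) : ℚ) ≤ ((551 * ((q + 1) * q ^ s) : ℕ) : ℚ) := by
    push_cast
    linarith
  exact_mod_cast this

theorem uSum_one_one (L : ℕ) : uSum q 1 L 1 ≤ q + 1 := uSum_self_le 1 L le_rfl

theorem uSum_one_two (L : ℕ) : uSum q 1 L 2 ≤ (q + 1) * (q + 1) := by
  rcases L with _ | L
  · simp [uSum]
  · have h2 := uSum_self_le (q := q) 2 L (by omega)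
    have h1 := uSum_small (q := q) 2 L 1 (by omega) (by omega)
    simp only [uSum, Nat.div_one, sum_range_succ, range_zero, sum_empty, zero_add, one_mul, Nat.sub_zero,
      Nat.sub_self, uSum_zero, uWt, if_true, if_neg (by omega : ¬ 2 = 0), if_neg (by omega : ¬ 1 = 0),
      mul_one, Nat.reduceAdd, Nat.reduceSub, h1, mul_zero, add_zero, pow_one]
    rw [mul_add (q + 1) q 1]
    omega

/-- Extra terms for `q = 2`: only `d = 3` occurs. -/
theorem extra_two (L k : ℕ) (hk : 1 ≤ k) : 100 * (8 * uSum 2 1 L k) ≤ 275 * (3 * 2 ^ (3 * k - 1)) := by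
  have h := uSum_one_le (q := 2) le_rfl L k hk
  obtain rfl | rfl | hk3 : k = 1 ∨ k = 2 ∨ 3 ≤ k := by omega
  · have := uSum_one_one (q := 2) L
    norm_num
    omega
  · have := uSum_one_two (q := 2) L
    norm_num
    omega
  · obtain ⟨j, rfl⟩ : ∃ j, k = j + 3 := ⟨k - 3, by omega⟩
    have h8 : (2 : ℕ) ^ j ≤ 8 ^ j := Nat.pow_le_pow_left (by norm_num) j
    rw [show 3 * (j + 3) - 1 = 3 * j + 8 by omega, pow_add, pow_mul]
    rw [show j + 3 - 1 = j + 2 by omega, pow_add] at h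
    norm_num at h ⊢
    omega

/-- Extra terms for `q ≥ 3`. -/
theorem extra_three (hq : 3 ≤ q) (L n : ℕ) (hn : 2 ≤ n) :
    100 * ∑ d ∈ (Nat.gcd n (q + 1)).divisors.filter (fun d => 1 < d), (d ^ 2 - 1) * uSum q 1 L (n / d) ≤
      275 * ((q + 1) * q ^ (n - 1)) := by
  have hsub : ∑ d ∈ (Nat.gcd n (q + 1)).divisors.filter (fun d => 1 < d), (d ^ 2 - 1) * uSum q 1 L (n / d) ≤
      ∑ d ∈ n.divisors.filter (fun d => 1 < d), (d ^ 2 - 1) * uSum q 1 L (n / d) :=
    sum_le_sum_of_subset_of_nonneg (filter_subset_filter _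
      (Nat.divisors_subset_of_dvd (by omega) (Nat.gcd_dvd_left _ _))) fun _ _ _ => Nat.zero_le _
  have h1 := uSum_one_one (q := q) L
  have h2 := uSum_one_two (q := q) L
  have hqq : 3 * q ≤ q ^ 2 := by rw [pow_two]; exact Nat.mul_le_mul_right _ hq
  rcases Nat.lt_or_ge n 7 with hn7 | hn7
  · refine (Nat.mul_le_mul_left 100 hsub).trans ?_
    interval_cases n
    · rw [show (Nat.divisors 2).filter (fun d => 1 < d) = {2} from by decide]
      simp
      nlinarith
    · rw [show (Nat.divisors 3).filter (fun d => 1 < d) = {3} from by decide]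
      simp
      nlinarith
    · rw [show (Nat.divisors 4).filter (fun d => 1 < d) = {2, 4} from by decide]
      simp
      nlinarith [Nat.mul_le_mul_left (q + 1) hqq, Nat.mul_le_mul_left (q * (q + 1)) hqq]
    · rw [show (Nat.divisors 5).filter (fun d => 1 < d) = {5} from by decide]
      simp
      have : 81 ≤ q ^ 4 := le_trans (by norm_num) (Nat.pow_le_pow_left hq 4)
      nlinarith [Nat.mul_le_mul_left (q + 1) this]
    · rw [show (Nat.divisors 6).filter (fun d => 1 < d) = {2, 3, 6} from by decide]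
      simp
      have h3 := uSum_one_le (q := q) (by omega) L 3 (by omega)
      rw [show 3 - 1 = 2 from rfl] at h3
      have e : 27 * q ^ 2 ≤ q ^ 5 := by
        rw [show q ^ 5 = q ^ 3 * q ^ 2 by ring]
        exact Nat.mul_le_mul_right _ (le_trans (by norm_num) (Nat.pow_le_pow_left hq 3))
      nlinarith [Nat.mul_le_mul_left (q + 1) e, Nat.mul_le_mul_left (q + 1) hqq,
        Nat.mul_le_mul_left (q + 1) hq]
  · set g := Nat.gcd n (q + 1) with hg
    have hgq : g ≤ q + 1 := Nat.le_of_dvd (by omega) (Nat.gcd_dvd_right _ _)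
    have hterm : ∀ d ∈ g.divisors.filter (fun d => 1 < d),
        100 * ((d ^ 2 - 1) * uSum q 1 L (n / d)) ≤ (d ^ 2 - 1) * (551 * ((q + 1) * q ^ (n / 2 - 1))) := by
      intro d hd
      rw [mem_filter, Nat.mem_divisors] at hd
      have hdn : d ∣ n := hd.1.1.trans (Nat.gcd_dvd_left _ _)
      rw [mul_left_comm]
      refine Nat.mul_le_mul_left _ ((uSum_one_le (by omega) L _
        (Nat.div_pos (Nat.le_of_dvd (by omega) hdn) (by omega))).trans ?_)
      have := Nat.div_le_div_left (show 2 ≤ d by omega) (show 0 < 2 by omega) (a := n)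
      exact Nat.mul_le_mul_left _ (Nat.mul_le_mul_left _ (Nat.pow_le_pow_right (by omega) (by omega)))
    rw [mul_sum]
    refine (sum_le_sum hterm).trans ?_
    rw [← sum_mul]
    refine (Nat.mul_le_mul_right _ ((sum_divisor_sq_le g).trans
      (Nat.mul_le_mul_left 2 (show g ^ 2 - 1 ≤ q * (q + 2) from ?_)))).trans ?_
    · have : g ^ 2 ≤ (q + 1) ^ 2 := Nat.pow_le_pow_left hgq 2
      have e : (q + 1) ^ 2 = q * (q + 2) + 1 := by ring
      omega
    · obtain ⟨m, hm, hm3⟩ : ∃ m, n - 1 = m + (n / 2 - 1) + 1 ∧ 3 ≤ m := ⟨n - 1 - n / 2, by omega, by omega⟩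
      rw [hm, pow_succ, pow_add]
      have h4 : 1102 * (q + 2) ≤ 275 * q ^ m := by
        refine le_trans ?_ (Nat.mul_le_mul_left _ (Nat.pow_le_pow_right (by omega) hm3))
        nlinarith
      have := Nat.mul_le_mul_right ((q + 1) * q ^ (n / 2 - 1) * q) h4
      linarith

/-- The numerical bound behind `k(SU_n(q))`. -/
theorem uPhi_bound (hq : 2 ≤ q) (n : ℕ) (hn : 2 ≤ n) (L : ℕ) :
    100 * uPhi q L n ≤ 826 * ((q + 1) * q ^ (n - 1)) := by
  refine (Nat.mul_le_mul_left 100 (uPhi_le hq L n)).trans ?_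
  rw [mul_add]
  have h := uSum_one_le hq L n (by omega)
  suffices h2 : 100 * ∑ d ∈ (Nat.gcd n (q + 1)).divisors.filter (fun d => 1 < d),
      (d ^ 2 - 1) * uSum q 1 L (n / d) ≤ 275 * ((q + 1) * q ^ (n - 1)) by omega
  rcases hq.eq_or_lt with rfl | hq3
  · rcases (Nat.dvd_prime Nat.prime_three).1 (Nat.gcd_dvd_right n 3) with h3 | h3
    · simp [h3, filter_singleton]
    · rw [h3, show (Nat.divisors 3).filter (fun d => 1 < d) = {3} from by decide, sum_singleton]
      obtain ⟨k, rfl⟩ : 3 ∣ n := h3 ▸ Nat.gcd_dvd_left n 3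
      rw [Nat.mul_div_cancel_left _ (by norm_num)]
      exact extra_two L k (by omega)
  · exact extra_three hq3 L n hn

end CfsgLib.ClassK.GUData
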