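import Cfsg.Agent.Lib.ClassK.GULevelDet
import Cfsg.Agent.Lib.Classical.SemiUnitaryClasses
import Cfsg.Agent.Lib.Classical.SUCenter

/-!
The polynomial tuple of a unitary matrix is conjugate-reciprocal; counting of such tuples; splitting
of classes of `GU_n` in `SU_n`.
-/

set_option autoImplicit false

namespace CfsgLib.ClassK.GUData

open Matrix Polynomial Finset CfsgLib.Classical CfsgLib.Classical.SemiPalin CfsgLib.KnownB
  CfsgLib.KnownB.GLBlocks CfsgLib.KnownB.GLClass CfsgLib.KnownB.ClassNum CfsgLib.ClassK.GULevel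
open scoped Matrix

variable {K : Type*} [Field K] [Fintype K] {q n : ℕ} (hK : Fintype.card K = q ^ 2)

local notation "Mn" => Matrix (Fin n) (Fin n) K
local notation "σ" => qFrob hK

theorem tilde_one : tilde σ (1 : K[X]) = 1 := by
  rw [tilde, srev, coeff_one_zero, map_one, inv_one, map_one, one_mul, ← C_1, Polynomial.reverse_C,
    map_C, map_one]

include hK in
/-- The tuple of a unitary matrix is fixed by `tilde`. -/
theorem dataOf_tilde {A : GL (Fin n) K} (hA : A ∈ Cfsg.GU n K q) (l : Fin n) :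
    tilde σ (dataOf (A : Mn) l) = dataOf (A : Mn) l := by
  classical
  have hdet : (A : Mn).det ≠ 0 := ((Matrix.isUnit_iff_isUnit_det _).1 A.isUnit).ne_zero
  set D := decomp (A : Mn) with hD
  have hσ2 := qFrob_qFrob hK
  have h00 : ∀ b ∈ D.blocks, b.1.coeff 0 ≠ 0 := fun b hb => by
    obtain ⟨i, -, rfl⟩ := Multiset.mem_map.1 hb
    exact coeff_zero_ne hdet i
  have hval : Valid (D.blocks.map fun b => (tilde σ b.1, b.2)) := by
    intro b hb
    obtain ⟨c, hc, rfl⟩ := Multiset.mem_map.1 hb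
    obtain ⟨h1, h2, h3⟩ := D.valid c hc
    exact ⟨(tilde_facts σ h1 (h00 c hc)).1, tilde_irreducible σ hσ2 h1 (h00 c hc) h2, h3⟩
  have hker : ∀ (r : K[X]) (_ : r.coeff 0 ≠ 0),
      Nat.card {v // aeval (Matrix.toLin' (A : Mn)) (tilde σ r) v = 0} =
        Nat.card {v // aeval (Matrix.toLin' (A : Mn)) r v = 0} := by
    intro r h0
    have htl : ∀ (f : K[X]) (w : Fin n → K),
        aeval (Matrix.toLin' (A : Mn)) f w = aeval (A : Mn) f *ᵥ w := fun f w =>
      congrArg (fun T : Module.End K (Fin n → K) => T w) (Polynomial.aeval_algHom_apply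
        (Matrix.toLinAlgEquiv' (R := K) (n := Fin n)).toAlgHom (A : Mn) f)
    simp only [htl]
    have h1 := star'_aeval_mul hK hA h0
    have hu : IsUnit ((A : Mn) ^ r.natDegree) := A.isUnit.pow _
    have hne : σ (r.coeff 0) ≠ 0 := (_root_.map_ne_zero σ).2 h0
    have hc : Commute (SemiUnitary.star' hK (aeval (A : Mn) r)) ((A : Mn) ^ r.natDegree) :=
      ((commute_star'_aeval hK hA r).pow_left _).symm
    rw [hc.eq] at h1
    have h3 : ∀ w, σ (r.coeff 0) • (aeval (A : Mn) (tilde σ r) *ᵥ w) =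
        (A : Mn) ^ r.natDegree *ᵥ (SemiUnitary.star' hK (aeval (A : Mn) r) *ᵥ w) := fun w => by
      rw [mulVec_mulVec, h1, smul_mulVec]
    have h4 : ∀ w, aeval (A : Mn) (tilde σ r) *ᵥ w = 0 ↔ SemiUnitary.star' hK (aeval (A : Mn) r) *ᵥ w = 0 := by
      intro w
      refine ⟨fun hw => ?_, fun hw => ?_⟩
      · exact Matrix.mulVec_injective_iff_isUnit.2 hu (by rw [← h3, hw, smul_zero, mulVec_zero])
      · have := h3 w
        rw [hw, mulVec_zero, smul_eq_zero] at this
        exact this.resolve_left hne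
    have hrank : (SemiUnitary.star' hK (aeval (A : Mn) r)).rank = ((aeval (A : Mn) r).map σ).rank := by
      rw [SemiUnitary.star'_apply, Matrix.rank_transpose]
    rw [Nat.card_congr (Equiv.subtypeEquivRight h4), UnipUnitary.natCard_ker_eq, hrank,
      ← UnipUnitary.natCard_ker_eq, UnipUnitary.natCard_ker_map]
  have hblocks : D.blocks.map (fun b => (tilde σ b.1, b.2)) = D.blocks := by
    refine eq_of_torsExp hval D.valid fun r hr hri j => ?_
    by_cases hr0 : r.coeff 0 = 0
    · have hz : ∀ s : Multiset (K[X] × ℕ), (∀ b ∈ s, b.1.coeff 0 ≠ 0) → torsExp s r j = 0 := fun s hs =>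
        Multiset.sum_eq_zero fun x hx => by
          obtain ⟨b, hb, rfl⟩ := Multiset.mem_map.1 hx
          rw [if_neg]
          exact fun h => hs b hb (h ▸ hr0)
      rw [hz _ ?_, hz _ h00]
      intro b hb
      obtain ⟨c, hc, rfl⟩ := Multiset.mem_map.1 hb
      rw [(tilde_facts σ (D.valid c hc).1 (h00 c hc)).2.2]
      exact inv_ne_zero ((_root_.map_ne_zero σ).2 (h00 c hc))
    obtain ⟨htm, htd, htc⟩ := tilde_facts σ hr hr0
    have hti := tilde_irreducible σ hσ2 hr hr0 hri
    have hL : torsExp (D.blocks.map fun b => (tilde σ b.1, b.2)) r j = torsExp D.blocks (tilde σ r) j := by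
      rw [torsExp, torsExp, Multiset.map_map]
      congr 1
      refine Multiset.map_congr rfl fun b hb => ?_
      have : tilde σ b.1 = r ↔ b.1 = tilde σ r :=
        ⟨fun e => by rw [← e, tilde_tilde σ hσ2 (D.valid b hb).1 (h00 b hb)],
          fun e => by rw [e, tilde_tilde σ hσ2 hr hr0]⟩
      simp [this]
    rw [hL]
    have h1 := D.card_ker htm hti j
    have h2 := D.card_ker hr hri j
    rw [← tilde_pow', hker (r ^ j) (by
      rw [coeff_zero_eq_eval_zero, eval_pow, ← coeff_zero_eq_eval_zero]; exact pow_ne_zero _ hr0), h2,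
      htd] at h1
    exact (Nat.eq_of_mul_eq_mul_right hri.natDegree_pos
      (Nat.pow_right_injective Fintype.one_lt_card h1)).symm
  show tilde σ (hPoly D.blocks ((l : ℕ) + 1)) = hPoly D.blocks ((l : ℕ) + 1)
  conv_rhs => rw [← hblocks]
  rw [hPoly, hPoly, Multiset.filter_map, Multiset.map_map]
  simp only [Function.comp_def]
  generalize D.blocks.filter (fun b : K[X] × ℕ => b.2 = (l : ℕ) + 1) = s
  induction s using Multiset.induction_on with
  | empty => simp [tilde_one hK]
  | cons b t ih =>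
    rw [Multiset.map_cons, Multiset.prod_cons, tilde_mul, ih, Multiset.map_cons, Multiset.prod_cons]

/-- Norm-one scalars. -/
noncomputable def normOne : Subgroup Kˣ := (powMonoidHom (q + 1)).ker

include hK in
theorem mem_normOne {u : Kˣ} : u ∈ normOne (K := K) (q := q) ↔ (u : K) * σ (u : K) = 1 := by
  rw [normOne, MonoidHom.mem_ker, powMonoidHom_apply, qFrob_apply, ← pow_succ', ← Units.val_pow_eq_pow_val,
    Units.val_eq_one]

include hK in
theorem card_normOne : Nat.card (normOne (K := K) (q := q)) = q + 1 := by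
  rw [normOne, IsCyclic.card_powMonoidHom_ker, Nat.card_units, Nat.card_eq_fintype_card, hK]
  refine Nat.gcd_eq_right ⟨q - 1, ?_⟩
  rw [← Nat.sq_sub_sq q 1, one_pow]

include hK in
/-- A subgroup containing all `e`-th powers of norm-one scalars, `e` in a set, has index at most the
gcd there. -/
theorem index_le (H : Subgroup (normOne (K := K) (q := q))) {ι : Type*} [DecidableEq ι] (s : Finset ι)
    (g : ι → ℕ) (h : ∀ i ∈ s, ∀ u, u ^ g i ∈ H) : H.index ≤ Nat.gcd (q + 1) (s.gcd g) := by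
  classical
  set e := Nat.gcd (q + 1) (s.gcd g) with he
  haveI : IsCyclic (normOne (K := K) (q := q)) := inferInstance
  have hle : (powMonoidHom e : normOne (K := K) (q := q) →* _).range ≤ H := by
    rintro _ ⟨u, rfl⟩
    refine pow_gcd_mem H u ?_ (pow_finset_gcd_mem H u s g fun i hi => h i hi u)
    rw [← card_normOne hK, pow_card_eq_one']
    exact one_mem H
  have hd := Subgroup.index_dvd_of_le hle
  rw [IsCyclic.index_powMonoidHom_range, card_normOne hK, Nat.gcd_eq_right (Nat.gcd_dvd_left (q + 1) _)] at hd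
  exact Nat.le_of_dvd (Nat.gcd_pos_of_pos_left _ (Nat.succ_pos q)) hd

/-- `gcd` of `q + 1` and the parts in use. -/
def uIdx (q : ℕ) {L : ℕ} (a : Fin L → ℕ) : ℕ :=
  Nat.gcd (q + 1) ((univ.filter fun l => a l ≠ 0).gcd fun l : Fin L => 1 + (l : ℕ))

/-- Conjugate-reciprocal monic polynomials of degree `a`. -/
def uWt (q a : ℕ) : ℕ := if a = 0 then 1 else (q + 1) * q ^ (a - 1)

/-- Conjugate-reciprocal tuples with prescribed degrees and constant value. -/
theorem card_fibre_le {L : ℕ} (a : Fin L → ℕ) (t : K) :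
    Nat.card {h : Fin L → K[X] // (∀ l, (h l).Monic ∧ (h l).coeff 0 ≠ 0 ∧ (h l).natDegree = a l ∧
      tilde σ (h l) = h l) ∧ constVal h = t} * (q + 1) ≤ uIdx q a * ∏ l, uWt q (a l) := by
  classical
  let S := {l : Fin L // a l ≠ 0}
  let N1 := normOne (K := K) (q := q)
  let φ : (S → N1) →* N1 :=
    { toFun := fun c => ∏ s : S, c s ^ (1 + (s.1 : ℕ))
      map_one' := by simp
      map_mul' := fun c d => by simp [mul_pow, prod_mul_distrib] }
  have hidx : φ.range.index ≤ uIdx q a := by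
    refine index_le hK _ _ _ fun l hl u => ?_
    rw [mem_filter] at hl
    refine ⟨Pi.mulSingle ⟨l, hl.2⟩ u, ?_⟩
    show ∏ s : S, (Pi.mulSingle (M := fun _ => N1) (⟨l, hl.2⟩ : S) u s) ^ (1 + (s.1 : ℕ)) = u ^ (1 + (l : ℕ))
    rw [Fintype.prod_eq_single ⟨l, hl.2⟩ fun s hs => by rw [Pi.mulSingle_eq_of_ne hs, one_pow],
      Pi.mulSingle_eq_same]
  let X' := {c : S → N1 // (((φ c : N1) : Kˣ) : K) = t}
  have hX : Nat.card X' ≤ Nat.card φ.ker := by
    rcases isEmpty_or_nonempty X' with h | ⟨⟨c₀, hc₀⟩⟩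
    · simp
    · refine Nat.card_le_card_of_injective (fun c => (⟨c₀⁻¹ * c.1, ?_⟩ : φ.ker)) ?_
      · rw [MonoidHom.mem_ker, map_mul, map_inv, inv_mul_eq_one]
        exact Subtype.ext (Units.ext (hc₀.trans c.2.symm))
      · intro c d hcd
        exact Subtype.ext (mul_left_cancel (congrArg Subtype.val hcd))
  have hker : Nat.card φ.ker * (q + 1) ≤ uIdx q a * (q + 1) ^ (univ.filter fun l => a l ≠ 0).card := by
    have h1 : Nat.card φ.ker * Nat.card φ.range = (q + 1) ^ (univ.filter fun l => a l ≠ 0).card := by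
      rw [mul_comm, ← Nat.card_congr (QuotientGroup.quotientKerEquivRange φ).toEquiv,
        ← Subgroup.card_eq_card_quotient_mul_card_subgroup, Nat.card_fun, card_normOne hK,
        Nat.card_eq_fintype_card, Fintype.card_subtype]
    have h2 := φ.range.index_mul_card
    rw [card_normOne hK] at h2
    rw [← h1]
    calc Nat.card φ.ker * (q + 1) = Nat.card φ.ker * (φ.range.index * Nat.card φ.range) := by rw [h2]
      _ = φ.range.index * (Nat.card φ.ker * Nat.card φ.range) := by ring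
      _ ≤ uIdx q a * (Nat.card φ.ker * Nat.card φ.range) := Nat.mul_le_mul_right _ hidx
  let eps : X' → Fin L → K := fun c l => if h : a l ≠ 0 then (((c.1 ⟨l, h⟩ : N1) : Kˣ) : K) else 1
  have heps : ∀ c l, eps c l * σ (eps c l) = 1 := fun c l => by
    simp only [eps]
    split_ifs with h
    · exact (mem_normOne hK).1 (c.1 ⟨l, h⟩).2
    · rw [map_one, one_mul]
  let R : X' → Type _ := fun c =>
    ∀ l : Fin L, {v : Fin (a l - 1) → K // ∀ i, v i = eps c l * σ (v i.rev)}
  have hR : ∀ c, Nat.card (R c) = ∏ l, q ^ (a l - 1) := fun c => by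
    rw [Nat.card_pi]
    exact prod_congr rfl fun l _ => SemiUnitaryClasses.natCard_twisted hK (heps c l) _
  have hc0 : ∀ f : K[X], f.Monic → f.coeff 0 ≠ 0 → tilde σ f = f → f.coeff 0 * σ (f.coeff 0) = 1 := by
    intro f hf h0 ht
    have h1 := (tilde_facts σ hf h0).2.2
    rw [ht] at h1
    nth_rw 1 [h1]
    exact inv_mul_cancel₀ ((_root_.map_ne_zero σ).2 h0)
  let sc : ∀ h : {h : Fin L → K[X] // (∀ l, (h l).Monic ∧ (h l).coeff 0 ≠ 0 ∧ (h l).natDegree = a l ∧
      tilde σ (h l) = h l) ∧ constVal h = t}, S → N1 := fun h s =>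
    ⟨Units.mk0 _ (h.2.1 s.1).2.1,
      (mem_normOne hK).2 (hc0 _ (h.2.1 s.1).1 (h.2.1 s.1).2.1 (h.2.1 s.1).2.2.2)⟩
  have hinj : Nat.card {h : Fin L → K[X] // (∀ l, (h l).Monic ∧ (h l).coeff 0 ≠ 0 ∧
      (h l).natDegree = a l ∧ tilde σ (h l) = h l) ∧ constVal h = t} ≤ Nat.card (Σ c : X', R c) := by
    refine Nat.card_le_card_of_injective (fun h => ⟨⟨sc h, ?_⟩, fun l =>
      ⟨fun j => (h.1 l).coeff ((j : ℕ) + 1), fun j => ?_⟩⟩) ?_
    · refine Eq.trans ?_ h.2.2
      simp only [constVal, φ, MonoidHom.coe_mk, OneHom.coe_mk, sc, Subgroup.val_finsetProd,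
        SubmonoidClass.coe_pow, Units.coe_prod, Units.val_pow_eq_pow_val, Units.val_mk0]
      rw [← prod_subtype (univ.filter fun l => a l ≠ 0) (fun l => by simp)
        (fun l : Fin L => (h.1 l).coeff 0 ^ (1 + (l : ℕ)))]
      refine prod_filter_of_ne fun l _ hne hl0 => hne ?_
      rw [Monic.natDegree_eq_zero (h.2.1 l).1 |>.1 ((h.2.1 l).2.2.1.trans hl0), coeff_one_zero, one_pow]
    · have hj := j.2
      obtain ⟨hm, h0, hd, ht⟩ := h.2.1 l
      simp only [eps, dif_pos (show a l ≠ 0 by omega), sc, Units.val_mk0]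
      conv_lhs => rw [← ht]
      rw [tilde, coeff_C_mul, coeff_srev _ _ (by omega), hd, Fin.val_rev,
        show a l - 1 - ((j : ℕ) + 1) + 1 = a l - ((j : ℕ) + 1) by omega]
      congr 1
      exact inv_eq_of_mul_eq_one_left (hc0 _ hm h0 ht)
    · intro h h' e
      refine Subtype.ext (funext fun l => Polynomial.ext fun k => ?_)
      rcases lt_trichotomy k (a l) with hk | hk | hk
      · rcases k with _ | k
        · have := congrArg (fun z : Σ c : X', R c => (((z.1.1 ⟨l, by omega⟩ : N1) : Kˣ) : K)) e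
          simpa [sc] using this
        · exact congrArg (fun z : Σ c : X', R c => (z.2 l).1 ⟨k, by omega⟩) e
      · conv_lhs => rw [hk, ← (h.2.1 l).2.2.1]
        conv_rhs => rw [hk, ← (h'.2.1 l).2.2.1]
        rw [(h.2.1 l).1.coeff_natDegree, (h'.2.1 l).1.coeff_natDegree]
      · rw [coeff_eq_zero_of_natDegree_lt (by rw [(h.2.1 l).2.2.1]; exact hk),
          coeff_eq_zero_of_natDegree_lt (by rw [(h'.2.1 l).2.2.1]; exact hk)]
  haveI : Fintype X' := Fintype.ofFinite _
  rw [Nat.card_sigma, sum_congr rfl (fun c _ => hR c), sum_const, smul_eq_mul, Finset.card_univ,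
    ← Nat.card_eq_fintype_card] at hinj
  have hwt : ∏ l, uWt q (a l) = (q + 1) ^ (univ.filter fun l => a l ≠ 0).card * ∏ l, q ^ (a l - 1) := by
    rw [← prod_const, prod_filter, ← prod_mul_distrib]
    refine prod_congr rfl fun l _ => ?_
    rcases Nat.eq_zero_or_pos (a l) with h | h
    · simp [uWt, h]
    · rw [uWt, if_neg h.ne', if_pos h.ne']
  rw [hwt, ← mul_assoc]
  calc _ ≤ Nat.card X' * (∏ l, q ^ (a l - 1)) * (q + 1) := Nat.mul_le_mul_right _ hinj
    _ = Nat.card X' * (q + 1) * ∏ l, q ^ (a l - 1) := by ring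
    _ ≤ _ := Nat.mul_le_mul_right _ ((Nat.mul_le_mul_right _ hX).trans hker)

/-- Conjugate-reciprocal data of constant value `t`. -/
def IsUData (t : K) {L : ℕ} (r : ℕ) (h : Fin L → K[X]) : Prop :=
  IsData r h ∧ (∀ l, tilde σ (h l) = h l) ∧ constVal h = t

/-- The tuple of a class of `SU_n`. -/
noncomputable def suData (C : ConjClasses ↥(Cfsg.SU n K q)) : Fin n → K[X] :=
  dataOf (((Quotient.out C : ↥(Cfsg.SU n K q)) : Matrix.SpecialLinearGroup (Fin n) K) : Mn)

include hK in
theorem suData_spec (C : ConjClasses ↥(Cfsg.SU n K q)) : IsUData hK ((-1) ^ n) n (suData C) := by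
  set g : ↥(Cfsg.SU n K q) := Quotient.out C
  set G := (g : Matrix.SpecialLinearGroup (Fin n) K)
  have hA : Matrix.SpecialLinearGroup.toGL G ∈ Cfsg.GU n K q := g.2
  have hd : suData C = dataOf (G : Mn) := rfl
  have hv : ((Matrix.SpecialLinearGroup.toGL G : GL (Fin n) K) : Mn) = (G : Mn) := rfl
  have ht := dataOf_tilde hK hA
  rw [hv] at ht
  rw [hd]
  refine ⟨isData_dataOf (by rw [G.det_coe]; exact one_ne_zero), ht, ?_⟩
  have h1 := det_eq_constVal (G : Mn)
  rw [G.det_coe] at h1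
  calc constVal (dataOf (G : Mn)) = (-1) ^ n * ((-1) ^ n * constVal (dataOf (G : Mn))) := by
        rw [← mul_assoc, ← mul_pow]; simp
    _ = _ := by rw [← h1, mul_one]

include hK in
/-- A class of `GU_n` splits in at most `uIdx` classes of `SU_n`. -/
theorem card_suData_fibre (h : Fin n → K[X]) :
    Nat.card {C : ConjClasses ↥(Cfsg.SU n K q) // suData C = h} ≤ uIdx q fun l => (h l).natDegree := by
  classical
  let Fib := {C : ConjClasses ↥(Cfsg.SU n K q) // suData C = h}
  rcases isEmpty_or_nonempty Fib with hf | ⟨⟨C₀, hC₀⟩⟩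
  · simp
  let gl : ↥(Cfsg.SU n K q) → GL (Fin n) K := fun g => Matrix.SpecialLinearGroup.toGL g.1
  have hgl : ∀ g, gl g ∈ Cfsg.GU n K q := fun g => g.2
  let rep : ConjClasses ↥(Cfsg.SU n K q) → ↥(Cfsg.SU n K q) := fun C => Quotient.out C
  set A₀ := gl (rep C₀) with hA₀
  have hconj : ∀ C : Fib, ∃ T ∈ Cfsg.GU n K q, T * A₀ = gl (rep C.1) * T := by
    intro C
    obtain ⟨T, hT⟩ := exists_conj_of_dataOf (A := (A₀ : Mn)) (B := (gl (rep C.1) : Mn)) (hC₀.trans C.2.symm)
    exact SemiUnitary.exists_unitary_intertwine hK (hgl _) (hgl _) T (Units.ext hT)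
  choose T hT hTA using hconj
  let N1 := normOne (K := K) (q := q)
  have hdetN : ∀ y ∈ Cfsg.GU n K q, Matrix.GeneralLinearGroup.det y ∈ N1 := fun y hy => by
    rw [mem_normOne hK, Matrix.GeneralLinearGroup.val_det_apply]
    have h1 := congrArg Matrix.det ((SemiUnitary.mem_gu_iff hK y).1 hy)
    rwa [det_mul, det_transpose, SemiUnitary.det_map, det_one] at h1
  let dN : ↥(Cfsg.GU n K q) →* N1 :=
    ((Matrix.GeneralLinearGroup.det).comp (Cfsg.GU n K q).subtype).codRestrict N1 fun y => hdetN y.1 y.2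
  let D : Subgroup N1 := (Subgroup.centralizer ({⟨A₀, hgl _⟩} : Set ↥(Cfsg.GU n K q))).map dN
  have hidx : D.index ≤ uIdx q fun l => (h l).natDegree := by
    refine index_le hK _ _ _ fun l hl u => ?_
    rw [mem_filter] at hl
    have hl2 := hl.2
    rw [← hC₀] at hl2
    obtain ⟨i, hi⟩ : ∃ i, i ∈ univ.filter (fun i => (decomp (A₀ : Mn)).e i = (l : ℕ) + 1) := by
      by_contra hne
      push Not at hne
      refine hl2 ?_
      show (dataOf (A₀ : Mn) l).natDegree = 0
      rw [dataOf, hPoly_eq, eq_empty_of_forall_notMem hne, prod_empty, natDegree_one]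
    obtain ⟨y, hy, hyA, hyd⟩ := exists_level_det hK (hgl (rep C₀)) i ((u : Kˣ) : K) ((mem_normOne hK).1 u.2)
    refine ⟨⟨y, hy⟩, ?_, ?_⟩
    · rw [SetLike.mem_coe, Subgroup.mem_centralizer_singleton_iff]
      exact Subtype.ext hyA
    · refine Subtype.ext (Units.ext ?_)
      show (y : Mn).det = _
      rw [hyd, SubmonoidClass.coe_pow, Units.val_pow_eq_pow_val, (mem_filter.1 hi).2, add_comm]
  refine le_trans ?_ hidx
  rw [Subgroup.index]
  refine Nat.card_le_card_of_injective (fun C => ((dN ⟨T C, hT C⟩ : N1) : N1 ⧸ D)) fun C C' e => ?_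
  obtain ⟨S, hS, hSd⟩ := (QuotientGroup.eq.1 e : _ ∈ D)
  rw [SetLike.mem_coe, Subgroup.mem_centralizer_singleton_iff] at hS
  set P : ↥(Cfsg.GU n K q) := ⟨T C', hT C'⟩ * S⁻¹ * ⟨T C, hT C⟩⁻¹ with hP
  have hPdet : dN P = 1 := by
    rw [hP, map_mul, map_mul, map_inv, map_inv, hSd]
    simp [mul_comm, mul_assoc, mul_left_comm]
  let Ps : Matrix.SpecialLinearGroup (Fin n) K :=
    ⟨((P : GL (Fin n) K) : Mn), congrArg (fun z : N1 => ((z : Kˣ) : K)) hPdet⟩
  have hPsU : Ps ∈ Cfsg.SU n K q := by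
    rw [mem_su_iff hK]
    exact (SemiUnitary.mem_gu_iff hK _).1 P.2
  refine Subtype.ext ?_
  rw [← Quotient.out_eq C.1, ← Quotient.out_eq C'.1]
  refine Quotient.sound (isConj_iff.2 ⟨⟨Ps, hPsU⟩, Subtype.ext (Matrix.SpecialLinearGroup.toGL_injective ?_)⟩)
  simp only [Subgroup.coe_mul, InvMemClass.coe_inv, map_mul, map_inv,
    show Matrix.SpecialLinearGroup.toGL Ps = (P : GL (Fin n) K) from Units.ext rfl]
  show (P : GL (Fin n) K) * gl (rep C.1) * (P : GL (Fin n) K)⁻¹ = gl (rep C'.1)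
  have h1 : gl (rep C.1) = T C * A₀ * (T C)⁻¹ := by rw [hTA C]; simp
  have h2 : gl (rep C'.1) = T C' * A₀ * (T C')⁻¹ := by rw [hTA C']; simp
  have hS1 : (S : GL (Fin n) K) * A₀ = A₀ * S := congrArg Subtype.val hS
  have hS' : (S : GL (Fin n) K)⁻¹ * A₀ = A₀ * (S : GL (Fin n) K)⁻¹ := by
    rw [eq_mul_inv_iff_mul_eq, mul_assoc, ← hS1, inv_mul_cancel_left]
  rw [h1, h2, hP]
  simp only [Subgroup.coe_mul, InvMemClass.coe_inv, _root_.mul_inv_rev, inv_inv, mul_assoc, inv_mul_cancel_left]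
  rw [← mul_assoc (S : GL (Fin n) K)⁻¹, hS', mul_assoc, inv_mul_cancel_left]

/-- The weighted count. -/
def uPhi (q L r : ℕ) : ℕ := ∑ a ∈ comps 1 L r, uIdx q a ^ 2 * ∏ l, uWt q (a l)

include hK in
/-- `(q + 1) k(SU_n(q)) ≤ uPhi`. -/
theorem card_su_classes_le :
    Nat.card (ConjClasses ↥(Cfsg.SU n K q)) * (q + 1) ≤ uPhi q n n := by
  classical
  letI : Fintype (ConjClasses ↥(Cfsg.SU n K q)) := Fintype.ofFinite _
  rw [Nat.card_eq_fintype_card, ← Finset.card_univ,
    card_eq_sum_card_fiberwise (t := comps 1 n n) (f := fun C => fun l => (suData C l).natDegree)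
      (fun C _ => isData_deg_mem (suData_spec hK C).1), uPhi, sum_mul]
  refine sum_le_sum fun a _ => ?_
  let Dta := {h : Fin n → K[X] // (∀ l, (h l).Monic ∧ (h l).coeff 0 ≠ 0 ∧ (h l).natDegree = a l ∧
    tilde σ (h l) = h l) ∧ constVal h = (-1) ^ n}
  haveI : Finite Dta := by
    haveI := finite_degrees (F := K) a
    exact Finite.of_injective (fun h => (⟨h.1, fun l => ⟨(h.2.1 l).1, (h.2.1 l).2.1, (h.2.1 l).2.2.1⟩⟩ :
      {h : Fin n → K[X] // ∀ l, (h l).Monic ∧ (h l).coeff 0 ≠ 0 ∧ (h l).natDegree = a l})) fun h h' e =>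
      Subtype.ext (congrArg Subtype.val e :)
  letI : Fintype Dta := Fintype.ofFinite _
  let Fb := {C : ConjClasses ↥(Cfsg.SU n K q) // (fun l => (suData C l).natDegree) = a}
  let f : Fb → Dta := fun C => ⟨suData C.1, fun l => ⟨((suData_spec hK C.1).1.1 l).1,
    ((suData_spec hK C.1).1.1 l).2, congrFun C.2 l, (suData_spec hK C.1).2.1 l⟩, (suData_spec hK C.1).2.2⟩
  have hfib : ∀ d : Dta, Nat.card {C : Fb // f C = d} ≤ uIdx q a := fun d => by
    refine le_trans (Nat.card_le_card_of_injective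
      (fun C => (⟨C.1.1, congrArg Subtype.val C.2⟩ : {C // suData C = d.1}))
      (fun x y e => Subtype.ext (Subtype.ext (congrArg (fun z : {C // suData C = d.1} => z.1) e :)))) ((card_suData_fibre hK d.1).trans ?_)
    rw [show (fun l => (d.1 l).natDegree) = a from funext fun l => (d.2.1 l).2.2.1]
  have hcard : Nat.card Fb ≤ Nat.card Dta * uIdx q a := by
    rw [← Nat.card_congr (Equiv.sigmaFiberEquiv f), Nat.card_sigma]
    refine (sum_le_sum fun d _ => hfib d).trans ?_
    rw [sum_const, smul_eq_mul, Finset.card_univ, Nat.card_eq_fintype_card]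
  rw [← Nat.card_eq_finsetCard]
  refine le_trans (Nat.mul_le_mul_right _ (le_trans (Nat.card_le_card_of_injective
    (fun C => (⟨C.1, (mem_filter.1 C.2).2⟩ : Fb)) fun x y e => Subtype.ext (congrArg (fun z : Fb => z.1) e :)) hcard)) ?_
  calc Nat.card Dta * uIdx q a * (q + 1) = uIdx q a * (Nat.card Dta * (q + 1)) := by ring
    _ ≤ uIdx q a * (uIdx q a * ∏ l, uWt q (a l)) := Nat.mul_le_mul_left _ (card_fibre_le hK a _)
    _ = _ := by ring

end CfsgLib.ClassK.GUData
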