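import Cfsg.Prelude.Def_Classical
import Cfsg.Agent.Lib.KnownB.GLClass
import Cfsg.Agent.Lib.Classical.SemiUnitaryExists
import Cfsg.Agent.Lib.Classical.UnipUnitary

/-!
Determinants attained on the unitary centraliser of a unitary matrix: for every exponent `e` of a
block every `e`-th power of a norm-one scalar occurs.
-/

set_option autoImplicit false

namespace CfsgLib.ClassK.GULevel

open Matrix Polynomial Module CfsgLib.Classical CfsgLib.Classical.SemiPalin CfsgLib.KnownB CfsgLib.KnownB.GLBlocks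
open scoped Matrix

variable {K : Type*} [Field K] [Fintype K] {q n : ℕ} (hK : Fintype.card K = q ^ 2)

local notation "Mn" => Matrix (Fin n) (Fin n) K
local notation "σ" => qFrob hK
local notation "st" => SemiUnitary.star' hK

/-- The form `u ⬝ σ v`. -/
noncomputable def frm (u v : Fin n → K) : K := u ⬝ᵥ fun i => σ (v i)

theorem frm_mulVec_left (M : Mn) (u v : Fin n → K) :
    frm hK (M *ᵥ u) v = frm hK u (st M *ᵥ v) := by
  have h : (fun i => σ ((st M *ᵥ v) i)) = Mᵀ *ᵥ fun i => σ (v i) := by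
    ext i
    simp [SemiUnitary.star'_apply, mulVec, dotProduct, map_sum, qFrob_qFrob]
  rw [frm, frm, h, mulVec_transpose, dotProduct_comm (M *ᵥ u), dotProduct_mulVec, dotProduct_comm]

theorem frm_conj (u v : Fin n → K) : σ (frm hK u v) = frm hK v u := by
  simp only [frm, dotProduct, map_sum, map_mul, qFrob_qFrob]
  exact Finset.sum_congr rfl fun i _ => mul_comm _ _

theorem frm_add_left (u u' v : Fin n → K) : frm hK (u + u') v = frm hK u v + frm hK u' v :=
  add_dotProduct _ _ _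

theorem frm_smul_left (c : K) (u v : Fin n → K) : frm hK (c • u) v = c * frm hK u v :=
  smul_dotProduct _ _ _

theorem frm_add_right (u v v' : Fin n → K) : frm hK u (v + v') = frm hK u v + frm hK u v' := by
  simp [frm, dotProduct, mul_add, Finset.sum_add_distrib]

theorem frm_smul_right (c : K) (u v : Fin n → K) : frm hK u (c • v) = σ c * frm hK u v := by
  simp only [frm, dotProduct, Pi.smul_apply, smul_eq_mul, map_mul, Finset.mul_sum]
  exact Finset.sum_congr rfl fun i _ => by ring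

theorem eq_zero_of_frm (u : Fin n → K) (h : ∀ v, frm hK u v = 0) : u = 0 := by
  classical
  ext i
  have h1 := h (Pi.single i 1)
  have h2 : (fun j => σ ((Pi.single i 1 : Fin n → K) j)) = Pi.single i 1 := by
    ext j; rcases eq_or_ne j i with rfl | hj <;> simp [*]
  rwa [frm, h2, dotProduct_single, mul_one] at h1

/-- A vector orthogonal to the kernel of the adjoint lies in the image. -/
theorem exists_preimage (M : Mn) (x : Fin n → K) (h : ∀ w, st M *ᵥ w = 0 → frm hK x w = 0) :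
    ∃ y, M *ᵥ y = x := by
  classical
  by_contra hne
  have hx : x ∉ LinearMap.range M.mulVecLin := fun ⟨y, hy⟩ => hne ⟨y, by simpa using hy⟩
  obtain ⟨φ, hφx, hφ⟩ := Submodule.exists_dual_map_eq_bot_of_notMem hx inferInstance
  let w : Fin n → K := fun i => σ (φ (Pi.single i 1))
  have hw : ∀ y, frm hK y w = φ y := fun y => by
    conv_rhs => rw [← Finset.univ_sum_single y, map_sum]
    simp only [frm, dotProduct, w, qFrob_qFrob]
    refine Finset.sum_congr rfl fun i _ => ?_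
    rw [← smul_eq_mul, ← map_smul]
    congr 1
    ext j
    rcases eq_or_ne j i with rfl | hj <;> simp [*]
  refine hφx ?_
  rw [← hw]
  refine h w (eq_zero_of_frm hK _ fun v => ?_)
  rw [← frm_conj hK, ← frm_mulVec_left, hw]
  have h1 : φ (M *ᵥ v) ∈ (LinearMap.range M.mulVecLin).map φ := ⟨_, ⟨v, rfl⟩, rfl⟩
  rw [hφ, Submodule.mem_bot] at h1
  rw [h1, map_zero]

/-- If `(T u, u)` vanishes on a subspace then so does `(T u, v)`. -/
theorem polarise (T : Mn) (W : Submodule K (Fin n → K))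
    (h : ∀ u ∈ W, frm hK (T *ᵥ u) u = 0) {v w : Fin n → K} (hv : v ∈ W) (hw : w ∈ W) :
    frm hK (T *ᵥ v) w = 0 := by
  obtain ⟨θ, hθ⟩ := SemiUnitary.exists_theta hK
  have key : ∀ c : K, σ c * frm hK (T *ᵥ v) w + c * frm hK (T *ᵥ w) v = 0 := fun c => by
    have := h _ (W.add_mem hv (W.smul_mem c hw))
    rw [mulVec_add, mulVec_smul, frm_add_left, frm_smul_left, frm_add_right, frm_add_right,
      frm_smul_right, frm_smul_right, h v hv, h w hw] at this
    linear_combination this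
  have h1 := key 1
  rw [map_one] at h1
  have h2 : (σ θ - θ) * frm hK (T *ᵥ v) w = 0 := by linear_combination key θ - θ * h1
  exact (mul_eq_zero.1 h2).resolve_left (sub_ne_zero.2 hθ)

/-! ### Polynomials in a unitary matrix -/

variable {A : GL (Fin n) K} (hA : A ∈ Cfsg.GU n K q)

include hA in
theorem star'_mul_self : st (A : Mn) * (A : Mn) = 1 := by
  have h := congrArg Matrix.transpose ((SemiUnitary.mem_gu_iff hK A).1 hA)
  rw [transpose_mul, transpose_transpose, transpose_one] at h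
  exact h

theorem star'_pow (M : Mn) (k : ℕ) : st (M ^ k) = st M ^ k := by
  induction k with
  | zero => rw [pow_zero, pow_zero, SemiUnitary.star'_one]
  | succ k ih => rw [pow_succ', SemiUnitary.star'_mul, ih, ← pow_succ]

theorem star'_smul (c : K) (M : Mn) : st (c • M) = σ c • st M := by
  ext i j; simp [SemiUnitary.star'_apply]

include hA in
/-- `star' (r A) * A ^ d = σ (r 0) • (tilde r) A`. -/
theorem star'_aeval_mul {r : K[X]} (h0 : r.coeff 0 ≠ 0) :
    st (aeval (A : Mn) r) * (A : Mn) ^ r.natDegree =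
      σ (r.coeff 0) • aeval (A : Mn) (tilde σ r) := by
  have hpow : ∀ i ≤ r.natDegree, st ((A : Mn) ^ i) * (A : Mn) ^ r.natDegree =
      (A : Mn) ^ (r.natDegree - i) := fun i hi => by
    rw [star'_pow]
    conv_lhs => rw [← Nat.add_sub_cancel' hi, pow_add, ← mul_assoc]
    have hc : Commute (st (A : Mn)) (A : Mn) :=
      (star'_mul_self hK hA).trans (mul_eq_one_comm.1 (star'_mul_self hK hA)).symm
    rw [← hc.mul_pow, star'_mul_self hK hA, one_pow, one_mul]
  rw [tilde, map_mul, aeval_C, ← Algebra.smul_def, smul_smul,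
    mul_inv_cancel₀ ((_root_.map_ne_zero σ).2 h0), one_smul,
    aeval_eq_sum_range' (n := r.natDegree + 1) (p := srev σ r) (by rw [natDegree_srev _ h0]; omega),
    aeval_eq_sum_range (p := r), map_sum, Finset.sum_mul,
    ← Finset.sum_range_reflect (fun i => (srev σ r).coeff i • (A : Mn) ^ i)]
  refine Finset.sum_congr rfl fun i hi => ?_
  rw [Finset.mem_range] at hi
  rw [star'_smul, smul_mul_assoc, hpow i (by omega), show r.natDegree + 1 - 1 - i = r.natDegree - i by omega,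
    coeff_srev _ _ (by omega), show r.natDegree - (r.natDegree - i) = i by omega]

/-! ### The split-off cyclic module -/

omit [Fintype K] in
theorem commute_aeval {X M : Mn} (h : Commute X M) (r : K[X]) : Commute X (aeval M r) := by
  induction r using Polynomial.induction_on with
  | C a => rw [aeval_C]; exact Algebra.commute_algebraMap_right a X
  | add r s hr hs => rw [map_add]; exact hr.add_right hs
  | monomial k a _ =>
    rw [map_mul, aeval_C, map_pow, aeval_X]
    exact (Algebra.commute_algebraMap_right a X).mul_right (h.pow_right _)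

include hA in
theorem commute_star'_aeval (r : K[X]) : Commute (A : Mn) (st (aeval (A : Mn) r)) := by
  have hc : Commute (A : Mn) (st (A : Mn)) :=
    (mul_eq_one_comm.1 (star'_mul_self hK hA)).trans (star'_mul_self hK hA).symm
  induction r using Polynomial.induction_on with
  | C a =>
    rw [aeval_C, Algebra.algebraMap_eq_smul_one, star'_smul, SemiUnitary.star'_one]
    exact (Commute.one_right _).smul_right _
  | add r s hr hs => rw [map_add, map_add]; exact hr.add_right hs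
  | monomial k a _ =>
    rw [map_mul, aeval_C, map_pow, aeval_X, Algebra.algebraMap_eq_smul_one, smul_mul_assoc, one_mul,
      star'_smul, star'_pow]
    exact (hc.pow_right _).smul_right _

include hA in
/-- If the cyclic module of `u` is non-degenerate with annihilator `f`, the centraliser in `GU` has
determinant `d / σ d` for every `d` which is a norm from `K[X] / f`. -/
theorem exists_unitary_det {f : K[X]} (hf : f.Monic) {u : Fin n → K}
    (hfu : aeval (A : Mn) f *ᵥ u = 0)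
    (hnd : ∀ g : K[X], (∀ g' : K[X], frm hK (aeval (A : Mn) g *ᵥ u) (aeval (A : Mn) g' *ᵥ u) = 0) → f ∣ g)
    (g : K[X]) (hg : Algebra.norm K (AdjoinRoot.mk f g) ≠ 0) :
    ∃ y ∈ Cfsg.GU n K q, y * A = A * y ∧
      (y : Mn).det = Algebra.norm K (AdjoinRoot.mk f g) * (σ (Algebra.norm K (AdjoinRoot.mk f g)))⁻¹ := by
  classical
  let pb := AdjoinRoot.powerBasis hf.ne_zero
  let Φ : AdjoinRoot f →ₗ[K] (Fin n → K) :=
    { toFun := fun z => aeval (A : Mn) (AdjoinRoot.modByMonicHom hf z) *ᵥ u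
      map_add' := fun x y => by rw [map_add, map_add, add_mulVec]
      map_smul' := fun c x => by rw [map_smul, map_smul, smul_mulVec, RingHom.id_apply] }
  have hΦ : ∀ z : K[X], Φ (AdjoinRoot.mk f z) = aeval (A : Mn) z *ᵥ u := fun z => by
    show aeval (A : Mn) (AdjoinRoot.modByMonicHom hf (AdjoinRoot.mk f z)) *ᵥ u = _
    rw [AdjoinRoot.modByMonicHom_mk]
    conv_rhs => rw [← Polynomial.modByMonic_add_div z f, map_add, add_mulVec, mul_comm f, map_mul,
      ← mulVec_mulVec, hfu, mulVec_zero, add_zero]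
  obtain ⟨U, hU⟩ : ∃ U : Matrix (Fin n) (Fin pb.dim) K, U = LinearMap.toMatrix' (Φ ∘ₗ pb.basis.equivFun.symm.toLinearMap) :=
    ⟨_, rfl⟩
  have hUc : ∀ c, U *ᵥ c = Φ (pb.basis.equivFun.symm c) := fun c => by
    rw [hU, LinearMap.toMatrix'_mulVec]; rfl
  -- multiplication intertwines
  have hint : ∀ z : K[X], aeval (A : Mn) z * U =
      U * LinearMap.toMatrix' (pb.basis.equivFun.toLinearMap ∘ₗ
        LinearMap.mulLeft K (AdjoinRoot.mk f z) ∘ₗ pb.basis.equivFun.symm.toLinearMap) := fun z => by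
    refine Matrix.ext_of_mulVec_single fun i => ?_
    rw [← mulVec_mulVec, ← mulVec_mulVec, hUc, hUc, LinearMap.toMatrix'_mulVec]
    simp only [LinearMap.comp_apply, LinearEquiv.coe_coe, LinearEquiv.symm_apply_apply, LinearMap.mulLeft_apply]
    obtain ⟨w, hw⟩ := AdjoinRoot.mk_surjective (pb.basis.equivFun.symm (Pi.single i 1))
    rw [← hw, ← map_mul, hΦ, hΦ, map_mul, mulVec_mulVec]
  obtain ⟨N, hN, hNdet⟩ : ∃ N : Matrix (Fin pb.dim) (Fin pb.dim) K, aeval (A : Mn) g * U = U * N ∧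
      N.det = Algebra.norm K (AdjoinRoot.mk f g) := by
    refine ⟨_, hint g, ?_⟩
    rw [LinearMap.det_toMatrix', Algebra.norm_apply, ← LinearMap.det_conj (Algebra.lmul K (AdjoinRoot f)
      (AdjoinRoot.mk f g)) pb.basis.equivFun]
    rfl
  -- the Gram matrix
  obtain ⟨Us, hUs⟩ : ∃ Us : Matrix (Fin pb.dim) (Fin n) K, Us = (U.map σ)ᵀ := ⟨_, rfl⟩
  have hUs' : ∀ (x : Fin n → K) (c : Fin pb.dim → K),
      frm hK x (U *ᵥ c) = (Us *ᵥ x) ⬝ᵥ fun i => σ (c i) := fun x c => by
    have h : (fun i => σ ((U *ᵥ c) i)) = U.map σ *ᵥ fun i => σ (c i) := by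
      ext i; simp [mulVec, dotProduct, map_sum]
    rw [frm, h, dotProduct_mulVec, ← mulVec_transpose, hUs]
  obtain ⟨G, hG⟩ : ∃ G, G = Us * U := ⟨_, rfl⟩
  have hGu : IsUnit G := by
    rw [← Matrix.mulVec_injective_iff_isUnit]
    refine (injective_iff_map_eq_zero G.mulVecLin).2 fun c hc => ?_
    obtain ⟨w, hw⟩ := AdjoinRoot.mk_surjective (pb.basis.equivFun.symm c)
    have hd : f ∣ w := hnd w fun g' => by
      obtain ⟨c', hc'⟩ := pb.basis.equivFun.symm.surjective (AdjoinRoot.mk f g')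
      have h1 : U *ᵥ c' = aeval (A : Mn) g' *ᵥ u := by rw [hUc, hc', hΦ]
      have h2 : U *ᵥ c = aeval (A : Mn) w *ᵥ u := by rw [hUc, ← hw, hΦ]
      rw [← h1, ← h2, hUs', mulVec_mulVec, ← hG, show G *ᵥ c = 0 from hc, zero_dotProduct]
    have h0 := AdjoinRoot.mk_eq_zero.2 hd
    rw [hw] at h0
    exact (LinearEquiv.map_eq_zero_iff _).1 h0.symm.symm
  have hGs : (G.map σ)ᵀ = G := by
    rw [hG, hUs, Matrix.map_mul, transpose_mul]
    congr 1
    ext i j; simp [qFrob_qFrob]
  have hGd := (Matrix.isUnit_iff_isUnit_det G).1 hGu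
  obtain ⟨P, hP⟩ : ∃ P : Mn, P = U * G⁻¹ * Us := ⟨_, rfl⟩
  have hPU : P * U = U := by rw [hP, Matrix.mul_assoc, ← hG, Matrix.mul_assoc, nonsing_inv_mul _ hGd, Matrix.mul_one]
  have hPs : st P = P := by
    have hGi : ((G⁻¹).map σ)ᵀ = G⁻¹ := by
      refine (inv_eq_left_inv ?_).symm
      calc ((G⁻¹).map σ)ᵀ * G = ((G⁻¹).map σ)ᵀ * (G.map σ)ᵀ := by rw [hGs]
        _ = ((G * G⁻¹).map σ)ᵀ := by rw [Matrix.map_mul, transpose_mul]
        _ = 1 := by rw [mul_nonsing_inv _ hGd, Matrix.map_one _ (map_zero _) (map_one _), transpose_one]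
    have hU2 : (Us.map σ)ᵀ = U := by ext i j; simp [hUs, qFrob_qFrob]
    rw [hP, SemiUnitary.star'_apply, Matrix.map_mul, Matrix.map_mul, transpose_mul, transpose_mul, hGi, hU2,
      ← hUs, Matrix.mul_assoc]
  -- `P` commutes with polynomials in `A`
  have hfix : ∀ M : Mn, (∃ Z : Matrix (Fin pb.dim) (Fin pb.dim) K, M * U = U * Z) → P * M * P = M * P := by
    rintro M ⟨Z, hM⟩
    calc P * M * P = P * (M * U) * G⁻¹ * Us := by rw [hP]; simp only [Matrix.mul_assoc]
      _ = (P * U) * Z * G⁻¹ * Us := by rw [hM]; simp only [Matrix.mul_assoc]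
      _ = (M * U) * G⁻¹ * Us := by rw [hPU, ← hM]
      _ = M * P := by rw [hP]; simp only [Matrix.mul_assoc]
  obtain ⟨iv, hiv⟩ : ∃ iv : K[X], aeval (A : Mn) iv = st (A : Mn) := by
    refine ⟨X ^ (orderOf A - 1), ?_⟩
    rw [map_pow, aeval_X]
    refine left_inv_eq_right_inv ?_ (mul_eq_one_comm.1 (star'_mul_self hK hA))
    rw [← pow_succ, Nat.sub_add_cancel (orderOf_pos A), ← Units.val_pow_eq_pow_val, pow_orderOf_eq_one,
      Units.val_one]
  have hPA : Commute P (A : Mn) := by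
    have h1 := hfix (A : Mn) ⟨_, (by simpa [aeval_X] using hint X)⟩
    have h2 := hfix (st (A : Mn)) ⟨_, by rw [← hiv]; exact hint iv⟩
    have h3 := congrArg (st) h2
    simp only [SemiUnitary.star'_mul, hPs, SemiUnitary.star'_star', ← mul_assoc] at h3
    exact h3.symm.trans h1
  obtain ⟨Mg, hMg⟩ : ∃ Mg : Mn, Mg = aeval (A : Mn) g := ⟨_, rfl⟩
  have hPg : Commute P Mg := hMg ▸ commute_aeval hPA g
  have hAg : Commute (A : Mn) Mg := hMg ▸ commute_aeval (Commute.refl _) g
  have hAgs : Commute (A : Mn) (st Mg) := hMg ▸ commute_star'_aeval hK hA g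
  have hgg : Commute (st Mg) Mg := by
    rw [hMg]; exact commute_aeval (hMg ▸ hAgs.symm) g
  have hPgs : Commute P (st Mg) := by
    have h := congrArg (st) hPg.eq
    simp only [SemiUnitary.star'_mul, hPs] at h
    exact h.symm
  -- the normal element
  obtain ⟨Xg, hXg⟩ : ∃ Xg : Mn, Xg = 1 + (Mg - 1) * P := ⟨_, rfl⟩
  have hXs : st Xg = 1 + P * (st Mg - 1) := by
    rw [hXg, map_add, SemiUnitary.star'_mul, map_sub, SemiUnitary.star'_one, hPs]
  have hc1 : Commute (Mg - 1) P := (hPg.symm).sub_left (Commute.one_left _)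
  have hc2 : Commute (Mg - 1) (st Mg - 1) :=
    ((hgg.symm).sub_right (Commute.one_right _)).sub_left (Commute.one_left _)
  have hc3 : Commute P (st Mg - 1) := hPgs.sub_right (Commute.one_right _)
  have hnormal : Commute Xg (st Xg) := by
    rw [hXs, hXg]
    refine Commute.add_left (Commute.one_left _) (Commute.add_right (Commute.one_right _) ?_)
    exact Commute.mul_right (Commute.mul_left hc1 (Commute.refl P)) (Commute.mul_left hc2 hc3)
  have hXA : Commute Xg (A : Mn) := by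
    rw [hXg]
    exact (Commute.one_left _).add_left ((hAg.symm.sub_left (Commute.one_left _)).mul_left hPA)
  have hXdet : Xg.det = Algebra.norm K (AdjoinRoot.mk f g) := by
    have h1 : (Mg - 1) * P = U * ((N - 1) * G⁻¹ * Us) := by
      rw [hP, ← Matrix.mul_assoc, ← Matrix.mul_assoc, Matrix.sub_mul, hMg, hN, Matrix.one_mul,
        ← Matrix.mul_assoc, ← Matrix.mul_assoc, Matrix.mul_sub, Matrix.mul_one]
    rw [hXg, h1, Matrix.det_one_add_mul_comm, Matrix.mul_assoc, ← hG, Matrix.mul_assoc,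
      nonsing_inv_mul _ hGd, Matrix.mul_one, add_sub_cancel, hNdet]
  have hXsA : Commute (st Xg) (A : Mn) := by
    rw [hXs]
    exact (Commute.one_left _).add_left
      (hPA.mul_left (hAgs.symm.sub_left (Commute.one_left _)))
  set d := Algebra.norm K (AdjoinRoot.mk f g) with hd
  have hXsd : (st Xg).det = σ d := by
    rw [SemiUnitary.star'_apply, det_transpose, SemiUnitary.det_map, hXdet]
  have hσd : σ d ≠ 0 := (_root_.map_ne_zero σ).2 hg
  let Xu : GL (Fin n) K := Matrix.GeneralLinearGroup.mkOfDetNeZero Xg (by rw [hXdet]; exact hg)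
  let Su : GL (Fin n) K := Matrix.GeneralLinearGroup.mkOfDetNeZero (st Xg) (by rw [hXsd]; exact hσd)
  have hXS : Commute Xu Su := Units.ext hnormal.eq
  refine ⟨Xu * Su⁻¹, ?_, ?_, ?_⟩
  · rw [SemiUnitary.mem_gu_iff hK]
    have hy : st ((Xu * Su⁻¹ : GL (Fin n) K) : Mn) * ((Xu * Su⁻¹ : GL (Fin n) K) : Mn) = 1 := by
      have hSi : st ((Su⁻¹ : GL (Fin n) K) : Mn) * Xg = 1 := by
        have h1 := congrArg (st) (Su.mul_inv)
        rw [SemiUnitary.star'_mul, SemiUnitary.star'_one, show (Su : Mn) = st Xg from rfl,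
          SemiUnitary.star'_star'] at h1
        exact h1
      rw [Units.val_mul, SemiUnitary.star'_mul, show (Xu : Mn) = Xg from rfl]
      calc st ((Su⁻¹ : GL (Fin n) K) : Mn) * st Xg * (Xg * ((Su⁻¹ : GL (Fin n) K) : Mn))
          = st ((Su⁻¹ : GL (Fin n) K) : Mn) * (st Xg * Xg) * ((Su⁻¹ : GL (Fin n) K) : Mn) := by
            simp only [mul_assoc]
        _ = (st ((Su⁻¹ : GL (Fin n) K) : Mn) * Xg) * ((Su : Mn) * ((Su⁻¹ : GL (Fin n) K) : Mn)) := by
            rw [← hnormal.eq, show (Su : Mn) = st Xg from rfl]; simp only [mul_assoc]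
        _ = 1 := by rw [hSi, Units.mul_inv, one_mul]
    have h2 := congrArg Matrix.transpose hy
    rw [SemiUnitary.star'_apply, transpose_mul, transpose_transpose, transpose_one] at h2
    exact h2
  · have h1 : Commute Xu A := Units.ext hXA.eq
    have h2 : Commute Su A := Units.ext hXsA.eq
    exact (h1.mul_left h2.inv_left).eq
  · rw [Units.val_mul, det_mul, show (Xu : Mn) = Xg from rfl, hXdet, Matrix.coe_units_inv,
      Matrix.det_nonsing_inv, Ring.inverse_eq_inv', show (Su : Mn) = st Xg from rfl, hXsd]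

/-! ### Norms -/

theorem norm_mk_pow {p : K[X]} (hp : p.Monic) (e : ℕ) (g : K[X]) :
    Algebra.norm K (AdjoinRoot.mk (p ^ e) g) = blkNorm p g ^ e := by
  rw [show Algebra.norm K (AdjoinRoot.mk (p ^ e) g) = blkNorm (p ^ e) g from rfl, ← det_blkMul hp g e,
    ← det_blkMul_one (p := p ^ e) g]
  let E : blk (p ^ e) 1 ≃ₗ[K] blk p e :=
    (Submodule.quotEquivOfEq _ _ (by rw [pow_one])).restrictScalars K
  rw [← LinearMap.det_conj (blkMul (p ^ e) 1 g) E]
  congr 1
  refine LinearMap.ext fun z => ?_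
  obtain ⟨b, rfl⟩ := E.surjective z
  simp only [LinearMap.comp_apply, LinearEquiv.coe_coe, LinearEquiv.symm_apply_apply]
  obtain ⟨c, rfl⟩ := Submodule.Quotient.mk_surjective _ b
  rfl

omit [Fintype K] in
theorem norm_mk_mul {f₁ f₂ : K[X]} (h1 : f₁.Monic) (h2 : f₂.Monic) (hc : IsCoprime f₁ f₂) (g : K[X]) :
    Algebra.norm K (AdjoinRoot.mk (f₁ * f₂) g) =
      Algebra.norm K (AdjoinRoot.mk f₁ g) * Algebra.norm K (AdjoinRoot.mk f₂ g) := by
  haveI := h1.finite_adjoinRoot
  haveI := h2.finite_adjoinRoot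
  haveI := (h1.mul h2).finite_adjoinRoot
  let φ₁ : AdjoinRoot (f₁ * f₂) →ₐ[K] AdjoinRoot f₁ :=
    AdjoinRoot.liftAlgHom (f₁ * f₂) (Algebra.ofId K _) (AdjoinRoot.root f₁)
      (show eval₂ (algebraMap K _) (AdjoinRoot.root f₁) (f₁ * f₂) = 0 by
        rw [← aeval_def, AdjoinRoot.aeval_eq, map_mul, AdjoinRoot.mk_self, zero_mul])
  let φ₂ : AdjoinRoot (f₁ * f₂) →ₐ[K] AdjoinRoot f₂ :=
    AdjoinRoot.liftAlgHom (f₁ * f₂) (Algebra.ofId K _) (AdjoinRoot.root f₂)
      (show eval₂ (algebraMap K _) (AdjoinRoot.root f₂) (f₁ * f₂) = 0 by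
        rw [← aeval_def, AdjoinRoot.aeval_eq, map_mul, AdjoinRoot.mk_self, mul_zero])
  have hφ₁ : ∀ w, φ₁ (AdjoinRoot.mk _ w) = AdjoinRoot.mk f₁ w := fun w => by
    rw [← AdjoinRoot.aeval_eq, ← aeval_algHom_apply,
      show φ₁ (AdjoinRoot.root _) = AdjoinRoot.root f₁ from AdjoinRoot.liftAlgHom_root _ _ _ _, AdjoinRoot.aeval_eq]
  have hφ₂ : ∀ w, φ₂ (AdjoinRoot.mk _ w) = AdjoinRoot.mk f₂ w := fun w => by
    rw [← AdjoinRoot.aeval_eq, ← aeval_algHom_apply,
      show φ₂ (AdjoinRoot.root _) = AdjoinRoot.root f₂ from AdjoinRoot.liftAlgHom_root _ _ _ _, AdjoinRoot.aeval_eq]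
  let L := φ₁.toLinearMap.prod φ₂.toLinearMap
  have hinj : Function.Injective L := (injective_iff_map_eq_zero L).2 fun z hz => by
    obtain ⟨w, rfl⟩ := AdjoinRoot.mk_surjective z
    have e1 : φ₁ (AdjoinRoot.mk _ w) = 0 := congrArg Prod.fst hz
    have e2 : φ₂ (AdjoinRoot.mk _ w) = 0 := congrArg Prod.snd hz
    rw [hφ₁, AdjoinRoot.mk_eq_zero] at e1
    rw [hφ₂, AdjoinRoot.mk_eq_zero] at e2
    exact AdjoinRoot.mk_eq_zero.2 (hc.mul_dvd e1 e2)
  have hrank : Module.finrank K (AdjoinRoot (f₁ * f₂)) =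
      Module.finrank K (AdjoinRoot f₁ × AdjoinRoot f₂) := by
    rw [Module.finrank_prod, (AdjoinRoot.powerBasis (h1.mul h2).ne_zero).finrank,
      (AdjoinRoot.powerBasis h1.ne_zero).finrank, (AdjoinRoot.powerBasis h2.ne_zero).finrank,
      AdjoinRoot.powerBasis_dim, AdjoinRoot.powerBasis_dim, AdjoinRoot.powerBasis_dim,
      h1.natDegree_mul h2]
  let E := LinearEquiv.ofBijective L
    ⟨hinj, (LinearMap.injective_iff_surjective_of_finrank_eq_finrank hrank).1 hinj⟩
  rw [Algebra.norm_apply, Algebra.norm_apply, Algebra.norm_apply, ← LinearMap.det_prodMap,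
    ← LinearMap.det_conj (Algebra.lmul K (AdjoinRoot (f₁ * f₂)) (AdjoinRoot.mk _ g)) E]
  congr 1
  refine LinearMap.ext fun z => ?_
  obtain ⟨w, rfl⟩ := E.surjective z
  simp only [LinearMap.comp_apply, LinearEquiv.coe_coe, LinearEquiv.symm_apply_apply]
  refine Prod.ext ?_ ?_
  · show φ₁ (AdjoinRoot.mk _ g * w) = AdjoinRoot.mk f₁ g * φ₁ w
    rw [map_mul, hφ₁]
  · show φ₂ (AdjoinRoot.mk _ g * w) = AdjoinRoot.mk f₂ g * φ₂ w
    rw [map_mul, hφ₂]

/-! ### A level -/

omit [Fintype K] in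
theorem dvd_pow_pred {p r g : K[X]} (hp : Irreducible p) (hr : Irreducible r) {e : ℕ}
    (hg : g ∣ p ^ e * r ^ e) (h1 : ¬ p ^ e ∣ g) (h2 : ¬ r ^ e ∣ g) : g ∣ (p * r) ^ (e - 1) := by
  obtain ⟨x, y, hx, hy, rfl⟩ := exists_dvd_and_dvd_of_dvd_mul hg
  obtain ⟨i, hi, hxi⟩ := (dvd_prime_pow hp.prime e).1 hx
  obtain ⟨j, hj, hyj⟩ := (dvd_prime_pow hr.prime e).1 hy
  have hie : i ≤ e - 1 := by
    by_contra h
    obtain rfl : i = e := by omega
    exact h1 (hxi.symm.dvd.mul_right y)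
  have hje : j ≤ e - 1 := by
    by_contra h
    obtain rfl : j = e := by omega
    exact h2 (hyj.symm.dvd.mul_left x)
  rw [mul_pow]
  exact mul_dvd_mul (hxi.dvd.trans (pow_dvd_pow _ hie)) (hyj.dvd.trans (pow_dvd_pow _ hje))

theorem tilde_pow' (r : K[X]) : ∀ j : ℕ, tilde σ (r ^ j) = tilde σ r ^ j := by
  intro j
  induction j with
  | zero =>
    rw [pow_zero, pow_zero, tilde, srev, coeff_one_zero, map_one, inv_one, map_one, one_mul, ← C_1,
      Polynomial.reverse_C, map_C, map_one]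
  | succ j ih => rw [pow_succ, pow_succ, tilde_mul, ih]

include hA in
/-- The kernel of `r A` is the kernel of its adjoint when `tilde r = r`. -/
theorem ker_star' {r : K[X]} (h0 : r.coeff 0 ≠ 0) (ht : tilde σ r = r) (w : Fin n → K) :
    st (aeval (A : Mn) r) *ᵥ w = 0 ↔ aeval (A : Mn) r *ᵥ w = 0 := by
  have h := star'_aeval_mul hK hA h0
  rw [ht] at h
  have hc : Commute (st (aeval (A : Mn) r)) ((A : Mn) ^ r.natDegree) :=
    ((commute_star'_aeval hK hA r).pow_left _).symm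
  have hne : σ (r.coeff 0) ≠ 0 := (_root_.map_ne_zero σ).2 h0
  rw [hc.eq] at h
  have h' : σ (r.coeff 0) • (aeval (A : Mn) r *ᵥ w) =
      (A : Mn) ^ r.natDegree *ᵥ (st (aeval (A : Mn) r) *ᵥ w) := by
    rw [mulVec_mulVec, h, smul_mulVec]
  constructor
  · intro hw
    rw [hw, mulVec_zero, smul_eq_zero] at h'
    exact h'.resolve_left hne
  · intro hw
    rw [hw, smul_zero] at h'
    have hu : IsUnit ((A : Mn) ^ r.natDegree) := A.isUnit.pow _
    exact Matrix.mulVec_injective_iff_isUnit.2 hu (by rw [← h', mulVec_zero])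

include hA in
/-- A self-reciprocal `a` with a vector of exponent exactly `e` splits off a non-degenerate cyclic module. -/
theorem exists_cyclic {a : K[X]} (ham : a.Monic) (ha0 : a.coeff 0 ≠ 0) (hat : tilde σ a = a) {e : ℕ}
    (he : 1 ≤ e) {v : Fin n → K} (hv : aeval (A : Mn) (a ^ e) *ᵥ v = 0)
    (hv' : ∀ x, aeval (A : Mn) (a ^ e) *ᵥ x ≠ aeval (A : Mn) (a ^ (e - 1)) *ᵥ v)
    (hmin : ∀ g : K[X], g.Monic → g ∣ a ^ e → tilde σ g = g → a ^ e ∣ g ∨ g ∣ a ^ (e - 1)) :
    ∃ u : Fin n → K, aeval (A : Mn) (a ^ e) *ᵥ u = 0 ∧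
      ∀ g : K[X], (∀ g' : K[X], frm hK (aeval (A : Mn) g *ᵥ u) (aeval (A : Mn) g' *ᵥ u) = 0) → a ^ e ∣ g := by
  classical
  have hae0 : (a ^ e).coeff 0 ≠ 0 := by
    rw [coeff_zero_eq_eval_zero, eval_pow, ← coeff_zero_eq_eval_zero]; exact pow_ne_zero _ ha0
  have haet : tilde σ (a ^ e) = a ^ e := by rw [tilde_pow', hat]
  let W : Submodule K (Fin n → K) := LinearMap.ker (aeval (A : Mn) (a ^ e)).mulVecLin
  obtain ⟨u, huW, hu⟩ : ∃ u ∈ W, frm hK (aeval (A : Mn) (a ^ (e - 1)) *ᵥ u) u ≠ 0 := by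
    by_contra hcon
    push Not at hcon
    obtain ⟨y, hy⟩ := exists_preimage hK (aeval (A : Mn) (a ^ e)) (aeval (A : Mn) (a ^ (e - 1)) *ᵥ v)
      fun w hw => polarise hK _ W hcon (show v ∈ W from hv) ((ker_star' hK hA hae0 haet w).1 hw)
    exact hv' y hy
  refine ⟨u, huW, fun g hg => ?_⟩
  have huW' : aeval (A : Mn) (a ^ e) *ᵥ u = 0 := huW
  obtain ⟨iv, hiv⟩ : ∃ iv : K[X], aeval (A : Mn) iv = st (A : Mn) := by
    refine ⟨X ^ (orderOf A - 1), ?_⟩
    rw [map_pow, aeval_X]
    refine left_inv_eq_right_inv ?_ (mul_eq_one_comm.1 (star'_mul_self hK hA))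
    rw [← pow_succ, Nat.sub_add_cancel (orderOf_pos A), ← Units.val_pow_eq_pow_val, pow_orderOf_eq_one,
      Units.val_one]
  have hstar : ∀ f : K[X], st (aeval (A : Mn) f) = aeval (A : Mn) ((f.map σ).comp iv) := fun f => by
    rw [aeval_comp, hiv]
    induction f using Polynomial.induction_on with
    | C c =>
      rw [map_C, aeval_C, aeval_C, Algebra.algebraMap_eq_smul_one, Algebra.algebraMap_eq_smul_one,
        star'_smul, SemiUnitary.star'_one]
    | add f f' hf hf' => rw [map_add, map_add, hf, hf', Polynomial.map_add, map_add]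
    | monomial k c _ =>
      simp only [Polynomial.map_mul, Polynomial.map_pow, map_C, map_X, aeval_mul, aeval_C, aeval_X_pow,
        Algebra.algebraMap_eq_smul_one, smul_mul_assoc, one_mul, star'_smul, star'_pow]
  -- the ideal of polynomials killing the module
  let I : Ideal K[X] :=
    { carrier := {f | ∀ f' : K[X], frm hK (aeval (A : Mn) (f * f') *ᵥ u) u = 0}
      zero_mem' := fun f' => by simp [frm]
      add_mem' := fun {x y} hx hy f' => by
        rw [add_mul, map_add, add_mulVec, frm_add_left, hx f', hy f', add_zero]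
      smul_mem' := fun c x hx f' => by
        rw [smul_eq_mul, mul_comm c, mul_assoc]
        exact hx (c * f') }
  have hmem : ∀ f : K[X], f ∈ I ↔
      ∀ f' : K[X], frm hK (aeval (A : Mn) f *ᵥ u) (aeval (A : Mn) f' *ᵥ u) = 0 := by
    intro f
    constructor
    · intro h f'
      have h1 : frm hK (aeval (A : Mn) (f * (f'.map σ).comp iv) *ᵥ u) u = 0 := h _
      rw [mul_comm, map_mul, ← mulVec_mulVec, ← hstar, frm_mulVec_left, SemiUnitary.star'_star'] at h1
      exact h1
    · intro h f'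
      show frm hK (aeval (A : Mn) (f * f') *ᵥ u) u = 0
      rw [mul_comm, map_mul, ← mulVec_mulVec, frm_mulVec_left, hstar]
      exact h _
  have haeI : a ^ e ∈ I := fun f' => by
    rw [mul_comm, map_mul, ← mulVec_mulVec, huW', mulVec_zero]
    simp [frm]
  have htI : ∀ f ∈ I, f.coeff 0 ≠ 0 → tilde σ f ∈ I := by
    intro f hf h0 f'
    have hfs : ((f.map σ).comp iv) ∈ I := fun f'' => by
      rw [map_mul, ← hstar, ← mulVec_mulVec, frm_mulVec_left, SemiUnitary.star'_star', ← frm_conj,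
        (hmem f).1 hf f'', map_zero]
    have hne : σ (f.coeff 0) ≠ 0 := (_root_.map_ne_zero σ).2 h0
    have h1 := hfs (X ^ f.natDegree * f')
    rw [← mul_assoc, map_mul, map_mul, ← hstar, map_pow, aeval_X, star'_aeval_mul hK hA h0,
      smul_mul_assoc, ← map_mul, smul_mulVec, frm_smul_left, mul_eq_zero] at h1
    exact h1.resolve_left hne
  haveI : (I : Submodule K[X] K[X]).IsPrincipal := IsPrincipalIdealRing.principal I
  set g₁ := Submodule.IsPrincipal.generator I with hg₁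
  have hg₁dvd : ∀ f, f ∈ I ↔ g₁ ∣ f := fun f => Submodule.IsPrincipal.mem_iff_generator_dvd I
  have hg₁0 : g₁ ≠ 0 := fun h => (pow_ne_zero e ham.ne_zero) (zero_dvd_iff.1 (h ▸ (hg₁dvd _).1 haeI))
  obtain ⟨g₂, hg₂m, hg₂⟩ : ∃ g₂ : K[X], g₂.Monic ∧ Associated g₁ g₂ :=
    ⟨g₁ * C g₁.leadingCoeff⁻¹, monic_mul_leadingCoeff_inv hg₁0,
      associated_mul_unit_right g₁ _ (isUnit_C.2 (Ne.isUnit (inv_ne_zero (leadingCoeff_ne_zero.2 hg₁0))))⟩
  have hg₂e : g₂ ∣ a ^ e := hg₂.symm.dvd.trans ((hg₁dvd _).1 haeI)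
  have hg₂I : g₂ ∈ I := (hg₁dvd _).2 hg₂.dvd
  have hg₂0 : g₂.coeff 0 ≠ 0 := fun h => hae0 (by
    obtain ⟨s, hs⟩ := hg₂e; rw [hs, mul_coeff_zero, h, zero_mul])
  obtain ⟨htm, htd, -⟩ := tilde_facts σ hg₂m hg₂0
  have hg₂t : tilde σ g₂ = g₂ :=
    (eq_of_monic_of_dvd_of_natDegree_le hg₂m htm
      (hg₂.symm.dvd.trans ((hg₁dvd _).1 (htI g₂ hg₂I hg₂0))) htd.le)
  rcases hmin g₂ hg₂m hg₂e hg₂t with h | h
  · exact h.trans (hg₂.symm.dvd.trans ((hg₁dvd g).1 ((hmem g).2 hg)))
  · exact absurd (by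
      have := (hg₁dvd _).2 (hg₂.dvd.trans h) 1
      rwa [mul_one] at this) hu

include hA in
/-- For every block exponent `e`, every `e`-th power of a norm-one scalar is a determinant on the
unitary centraliser. -/
theorem exists_level_det (i : (GLClass.decomp (A : Mn)).ι) (c : K) (hc : c * σ c = 1) :
    ∃ y ∈ Cfsg.GU n K q, y * A = A * y ∧ (y : Mn).det = c ^ (GLClass.decomp (A : Mn)).e i := by
  classical
  let D := GLClass.decomp (A : Mn)
  set p := D.p i with hp
  set e := D.e i with he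
  have hpi : Irreducible p := D.irred i
  have hpm : p.Monic := D.monic i
  have he1 : 1 ≤ e := D.pos i
  have hdet : (A : Mn).det ≠ 0 := ((Matrix.isUnit_iff_isUnit_det _).1 A.isUnit).ne_zero
  have hp0 : p.coeff 0 ≠ 0 := GLClass.coeff_zero_ne hdet i
  -- a vector of exponent exactly `e`
  let v : Fin n → K :=
    (AEval'.of (Matrix.toLin' (A : Mn))).symm (D.equiv.symm (Pi.single (M := fun j => blk (D.p j) (D.e j)) i (Submodule.Quotient.mk 1)))
  have hAv : ∀ (f : K[X]) (w : Fin n → K) (j : D.ι),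
      D.equiv (AEval'.of (Matrix.toLin' (A : Mn)) (aeval (A : Mn) f *ᵥ w)) j =
        f • D.equiv (AEval'.of (Matrix.toLin' (A : Mn)) w) j := fun f w j => by
    have h1 : aeval (A : Mn) f *ᵥ w = aeval (Matrix.toLin' (A : Mn)) f w := by
      exact (congrArg (fun T : Module.End K (Fin n → K) => T w) (Polynomial.aeval_algHom_apply
        (Matrix.toLinAlgEquiv' (R := K) (n := Fin n)).toAlgHom (A : Mn) f)).symm
    rw [h1, show AEval'.of (Matrix.toLin' (A : Mn)) (aeval (Matrix.toLin' (A : Mn)) f w) =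
      f • AEval'.of (Matrix.toLin' (A : Mn)) w from AEval.of_aeval_smul _ _ w, map_smul, Pi.smul_apply]
  have hev : ∀ j, D.equiv (AEval'.of (Matrix.toLin' (A : Mn)) v) j =
      Pi.single (M := fun j => blk (D.p j) (D.e j)) i (Submodule.Quotient.mk 1) j := fun j => by
    simp only [v, LinearEquiv.apply_symm_apply]
  have hv : aeval (A : Mn) (p ^ e) *ᵥ v = 0 := by
    refine (AEval'.of (Matrix.toLin' (A : Mn))).map_eq_zero_iff.1
      (D.equiv.map_eq_zero_iff.1 (funext fun j => ?_))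
    rw [hAv, hev]
    rcases eq_or_ne j i with rfl | hj
    · rw [Pi.single_eq_same, ← Submodule.Quotient.mk_smul, smul_eq_mul, mul_one]
      exact blk_mk_eq_zero.2 dvd_rfl
    · rw [Pi.single_eq_of_ne hj, smul_zero]; rfl
  have hv' : ∀ x, aeval (A : Mn) (p ^ e) *ᵥ x ≠ aeval (A : Mn) (p ^ (e - 1)) *ᵥ v := by
    intro x hx
    have h1 := congrArg (fun z => D.equiv (AEval'.of (Matrix.toLin' (A : Mn)) z) i) hx
    simp only [hAv, hev, Pi.single_eq_same] at h1
    obtain ⟨w, hw⟩ := Submodule.Quotient.mk_surjective _ (D.equiv (AEval'.of (Matrix.toLin' (A : Mn)) x) i)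
    rw [← hw, ← Submodule.Quotient.mk_smul, ← Submodule.Quotient.mk_smul, smul_eq_mul, smul_eq_mul,
      mul_one, show (Submodule.Quotient.mk (p ^ e * w) : blk p e) = 0 from
        blk_mk_eq_zero.2 (dvd_mul_right _ _)] at h1
    have h2 := blk_mk_eq_zero.1 h1.symm
    have h3 := natDegree_le_of_dvd h2 (pow_ne_zero _ hpm.ne_zero)
    rw [hpm.natDegree_pow, hpm.natDegree_pow] at h3
    have := Nat.le_of_mul_le_mul_right h3 hpi.natDegree_pos
    omega
  -- the norm
  haveI : Fact (Irreducible p) := ⟨hpi⟩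
  haveI : Module.Finite K (AdjoinRoot p) := hpm.finite_adjoinRoot
  haveI : Finite (AdjoinRoot p) := Module.finite_of_finite K
  obtain ⟨d, hd0, hdc⟩ : ∃ d : K, d ≠ 0 ∧ c = d * (σ d)⁻¹ := by
    obtain ⟨θ, hθ⟩ := SemiUnitary.exists_theta hK
    by_cases h1 : 1 + c = 0
    · refine ⟨θ - σ θ, sub_ne_zero.2 hθ.symm, ?_⟩
      rw [map_sub, qFrob_qFrob, eq_mul_inv_iff_mul_eq₀ (sub_ne_zero.2 hθ)]
      linear_combination (σ θ - θ) * h1
    · have hc0 : c ≠ 0 := left_ne_zero_of_mul_eq_one hc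
      refine ⟨1 + c, h1, ?_⟩
      rw [eq_mul_inv_iff_mul_eq₀ ((_root_.map_ne_zero σ).2 h1), map_add, map_one]
      linear_combination hc
  obtain ⟨k, hk⟩ := FiniteField.norm_surjective K (AdjoinRoot p) d
  obtain ⟨g₀, hg₀⟩ := AdjoinRoot.mk_surjective k
  have hblk : blkNorm p g₀ = d := by rw [blkNorm, hg₀, hk]
  have hσ2 := qFrob_qFrob hK
  obtain ⟨htm, htd, htc⟩ := tilde_facts σ hpm hp0
  have hti : Irreducible (tilde σ p) := tilde_irreducible σ hσ2 hpm hp0 hpi
  obtain ⟨a, u, g, ham, hau, hN⟩ : ∃ (a : K[X]) (u : Fin n → K) (g : K[X]), a.Monic ∧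
      (aeval (A : Mn) (a ^ e) *ᵥ u = 0 ∧ ∀ g : K[X],
        (∀ g' : K[X], frm hK (aeval (A : Mn) g *ᵥ u) (aeval (A : Mn) g' *ᵥ u) = 0) → a ^ e ∣ g) ∧
      Algebra.norm K (AdjoinRoot.mk (a ^ e) g) = d ^ e := by
    by_cases htp : tilde σ p = p
    · obtain ⟨u, hu⟩ := exists_cyclic hK hA hpm hp0 htp he1 hv hv' fun g _ hg _ => by
        obtain ⟨j, hj, hgj⟩ := (dvd_prime_pow hpi.prime e).1 hg
        rcases Nat.lt_or_ge j e with h | h
        · exact Or.inr (hgj.dvd.trans (pow_dvd_pow _ (by omega)))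
        · obtain rfl : j = e := by omega
          exact Or.inl hgj.symm.dvd
      exact ⟨p, u, g₀, hpm, hu, by rw [norm_mk_pow hpm, hblk]⟩
    set r := tilde σ p with hr
    have hcop : IsCoprime p r := hpi.coprime_iff_not_dvd.2 fun h =>
      htp (eq_of_monic_of_associated hpm htm (hpi.associated_of_dvd hti h)).symm
    have ha0 : (p * r).coeff 0 ≠ 0 := by
      rw [mul_coeff_zero, htc]; exact mul_ne_zero hp0 (inv_ne_zero ((_root_.map_ne_zero σ).2 hp0))
    have hat : tilde σ (p * r) = p * r := by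
      rw [tilde_mul, hr, tilde_tilde σ hσ2 hpm hp0, mul_comm]
    obtain ⟨x, z, hxz⟩ : IsCoprime (r ^ (e - 1)) p := hcop.symm.pow_left
    obtain ⟨u, hu⟩ := exists_cyclic hK hA (hpm.mul htm) ha0 hat he1 (v := v)
      (by rw [mul_pow, mul_comm, map_mul, ← mulVec_mulVec, hv, mulVec_zero])
      (by
        intro w hw
        have he' : e - 1 + 1 = e := by omega
        refine hv' (aeval (A : Mn) (x * r ^ e) *ᵥ w + aeval (A : Mn) z *ᵥ v) ?_
        have h1 := congrArg (fun y => aeval (A : Mn) x *ᵥ y) hw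
        simp only [mulVec_mulVec, ← map_mul] at h1
        rw [mulVec_add, mulVec_mulVec, mulVec_mulVec, ← map_mul, ← map_mul,
          show p ^ e * (x * r ^ e) = x * (p * r) ^ e by ring, h1, ← add_mulVec, ← map_add]
        congr 2
        linear_combination p ^ (e - 1) * hxz + z * (congrArg (fun j => p ^ j) he').symm)
      fun g hgm hg hgt => by
        rw [mul_pow] at hg ⊢
        by_cases h1 : p ^ e ∣ g
        · refine Or.inl ((hcop.pow (m := e) (n := e)).mul_dvd h1 ?_)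
          obtain ⟨s, hs⟩ := h1
          exact ⟨tilde σ s, by rw [← hgt, hs, tilde_mul, tilde_pow']⟩
        by_cases h2 : r ^ e ∣ g
        · exfalso
          obtain ⟨s, hs⟩ := h2
          exact h1 ⟨tilde σ s, by rw [← hgt, hs, tilde_mul, tilde_pow', hr, tilde_tilde σ hσ2 hpm hp0]⟩
        exact Or.inr (dvd_pow_pred hpi hti hg h1 h2)
    obtain ⟨x', z', hxz'⟩ : IsCoprime (p ^ e) (r ^ e) := hcop.pow
    refine ⟨p * r, u, g₀ * (z' * r ^ e) + x' * p ^ e, hpm.mul htm, hu, ?_⟩
    rw [mul_pow, norm_mk_mul (hpm.pow e) (htm.pow e) hcop.pow]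
    have e1 : AdjoinRoot.mk (p ^ e) (g₀ * (z' * r ^ e) + x' * p ^ e) = AdjoinRoot.mk (p ^ e) g₀ := by
      rw [AdjoinRoot.mk_eq_mk]
      exact ⟨x' - g₀ * x', by linear_combination g₀ * hxz'⟩
    have e2 : AdjoinRoot.mk (r ^ e) (g₀ * (z' * r ^ e) + x' * p ^ e) = 1 := by
      rw [← map_one (AdjoinRoot.mk (r ^ e)), AdjoinRoot.mk_eq_mk]
      exact ⟨g₀ * z' - z', by linear_combination hxz'⟩
    rw [e1, e2, map_one, mul_one, norm_mk_pow hpm, hblk]
  obtain ⟨y, hy, hyA, hyd⟩ := exists_unitary_det hK hA (ham.pow e) hau.1 hau.2 g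
    (by rw [hN]; exact pow_ne_zero _ hd0)
  refine ⟨y, hy, hyA, ?_⟩
  rw [hyd, hN, hdc, map_pow, mul_pow, inv_pow]

end CfsgLib.ClassK.GULevel
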