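import Cfsg.Agent.Lib.ClassK.GLTwoSylowNorm
import Cfsg.Agent.Lib.Classical.SUOrder
import Cfsg.Agent.Lib.Classical.SemiUnitary

/-!
A Sylow 2-subgroup of `GU_2(q)`, `q` odd, inside `GL_2(q²)`: its determinant-one part is not
commutative and its normalizer in `GU_2(q)` is the subgroup times odd scalars.
-/

set_option autoImplicit false
set_option linter.unusedSectionVars false
set_option linter.unusedSimpArgs false

namespace CfsgLib.ClassK.GUTwoNorm

open Matrix CfsgLib.Classical CfsgLib.Invol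

universe u

variable {F : Type u} [Field F] [Fintype F] {q : ℕ}

local notation "G2" => GL (Fin 2) F
local notation "M2" => Matrix (Fin 2) (Fin 2) F

theorem card_odd (hF : Fintype.card F = q ^ 2) (hq : Odd q) : Odd (Fintype.card F) :=
  hF ▸ hq.pow

theorem one_lt (hF : Fintype.card F = q ^ 2) : 1 < q := by
  have h : 1 < q ^ 2 := hF ▸ Fintype.one_lt_card
  by_contra hc
  have : q ^ 2 ≤ 1 ^ 2 := Nat.pow_le_pow_left (by omega) 2
  omega

theorem isQW_congr {S T : Type u} [Group S] [Group T] (e : S ≃* T) (h : IsQW S) : IsQW T := by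
  rcases h with ⟨n, hn, hc, x, y, hx, hy, hxy⟩ | ⟨n, hn, hc, x, y, z, hx, hxy, hi, hz, hzx⟩
  · refine Or.inl ⟨n, hn, by rw [← Nat.card_congr e.toEquiv, hc], e x, e y, ?_, ?_, ?_⟩
    · rw [MulEquiv.orderOf_eq, hx]
    · rw [MulEquiv.orderOf_eq, hy]
    · rw [← map_inv, ← map_mul, ← map_mul, hxy, map_pow]
  · refine Or.inr ⟨n, hn, by rw [← Nat.card_congr e.toEquiv, hc], e x, e y, e z, ?_, ?_, ?_, ?_, ?_⟩
    · rw [MulEquiv.orderOf_eq, hx]
    · rw [← map_mul, hxy, map_mul]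
    · show Subgroup.zpowers (e.toMonoidHom x) ⊓ Subgroup.zpowers (e.toMonoidHom y) = ⊥
      rw [← MonoidHom.map_zpowers, ← MonoidHom.map_zpowers, ← Subgroup.map_inf _ _ _ e.injective, hi,
        Subgroup.map_bot]
    · rw [MulEquiv.orderOf_eq, hz]
    · rw [← map_inv, ← map_mul, ← map_mul, hzx]

theorem det_pow_eq_one (hF : Fintype.card F = q ^ 2) {e : G2} (he : e ∈ Cfsg.GU 2 F q) :
    (GeneralLinearGroup.det e) ^ (q + 1) = 1 := by
  have h1 := congrArg Matrix.det ((mem_gu_iff hF e).1 he)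
  rw [det_mul, det_transpose, ← RingHom.mapMatrix_apply, ← RingHom.map_det, qFrob_apply, det_one] at h1
  refine Units.ext ?_
  rw [Units.val_pow_eq_pow_val, GeneralLinearGroup.val_det_apply, pow_succ', Units.val_one]
  exact h1

theorem diag2_mem (hF : Fintype.card F = q ^ 2) {c d : Fˣ} (hc : c ^ (q + 1) = 1)
    (hd : d ^ (q + 1) = 1) : diag2 (c, d) ∈ Cfsg.GU 2 F q := by
  have hc' : (c : F) * qFrob hF (c : F) = 1 := by
    rw [qFrob_apply, ← pow_succ', ← Units.val_pow_eq_pow_val, hc, Units.val_one]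
  have hd' : (d : F) * qFrob hF (d : F) = 1 := by
    rw [qFrob_apply, ← pow_succ', ← Units.val_pow_eq_pow_val, hd, Units.val_one]
  rw [mem_gu_iff hF, diag2_coe]
  ext i j
  fin_cases i <;> fin_cases j <;> simp [Matrix.mul_apply, Fin.sum_univ_two, hc', hd']

theorem swap2_mem (hF : Fintype.card F = q ^ 2) : swap2 ∈ Cfsg.GU 2 F q := by
  rw [mem_gu_iff hF]
  ext i j
  fin_cases i <;> fin_cases j <;> simp [swap2, Matrix.mul_apply, Fin.sum_univ_two]

theorem det_diag2 (c d : Fˣ) : GeneralLinearGroup.det (diag2 (c, d)) = c * d := by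
  refine Units.ext ?_
  rw [GeneralLinearGroup.val_det_apply, diag2_coe, det_fin_two_of, Units.val_mul]
  ring

theorem neg_one_mem_gu (hF : Fintype.card F = q ^ 2) : (-1 : G2) ∈ Cfsg.GU 2 F q := by
  rw [mem_gu_iff hF]
  ext i j
  fin_cases i <;> fin_cases j <;> simp [Matrix.mul_apply, Fin.sum_univ_two]

theorem neg_one_mem_center : (-1 : G2) ∈ Subgroup.center G2 :=
  Subgroup.mem_center_iff.2 fun w => by simp

/-- In the dihedral case the determinant-one part is not commutative: a commutative one would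
embed in the cyclic group of order `q - 1`. -/
theorem exists_not_commute_one (hF : Fintype.card F = q ^ 2) (h4 : q % 4 = 1) {D : Subgroup G2}
    (hle : D ≤ Cfsg.GU 2 F q) (hDp : IsPGroup 2 D)
    (hDc : 2 ^ (2 + (q - 1).factorization 2) ≤ Nat.card D) {y : G2} (hyD : y ∈ D)
    (hy : (y : M2) = !![0, -1; 1, 0]) :
    ∃ a ∈ D ⊓ GeneralLinearGroup.det.ker, ∃ b ∈ D ⊓ GeneralLinearGroup.det.ker,
      ¬ Commute a b := by
  classical
  haveI := Fact.mk Nat.prime_two
  set Q := D ⊓ GeneralLinearGroup.det.ker with hQdef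
  set k := (q - 1).factorization 2 with hk
  have hq1 : 1 < q := one_lt hF
  have hyQ : y ∈ Q := ⟨hyD, Units.ext (by
    rw [GeneralLinearGroup.val_det_apply, hy, det_fin_two_of]; simp)⟩
  by_contra hcon
  push Not at hcon
  -- the index of `Q` in `D` is at most two
  have hdet2 : ∀ e ∈ D, GeneralLinearGroup.det e ^ 2 = 1 := by
    intro e he
    obtain ⟨t, ht⟩ := hDp ⟨e, he⟩
    have ht' : e ^ 2 ^ t = 1 := congrArg Subtype.val ht
    have h1 : orderOf (GeneralLinearGroup.det e) ∣ 2 ^ t :=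
      orderOf_dvd_of_pow_eq_one (by rw [← map_pow, ht', map_one])
    obtain ⟨s, -, hs⟩ := (Nat.dvd_prime_pow Nat.prime_two).1 h1
    have h2 : 2 ^ s ∣ q + 1 := hs ▸ orderOf_dvd_of_pow_eq_one (det_pow_eq_one hF (hle he))
    have hs1 : s ≤ 1 := by
      have h3 := ((Nat.Prime.pow_dvd_iff_le_factorization Nat.prime_two (by omega)).1 h2)
      rw [factorization_two_of_mod_four (n := q + 1) (by omega)] at h3
      exact h3
    rw [← orderOf_dvd_iff_pow_eq_one, hs]
    exact pow_dvd_pow 2 hs1 |>.trans (by norm_num)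
  have hDQ : Nat.card D ≤ Nat.card Q * 2 := by
    let f : D →* rootsOfUnity 2 F :=
      { toFun := fun e => ⟨GeneralLinearGroup.det (e : G2), hdet2 _ e.2⟩
        map_one' := Subtype.ext (map_one _)
        map_mul' := fun a b => Subtype.ext (map_mul _ _ _) }
    rw [← f.ker.index_mul_card, Subgroup.index_ker, mul_comm]
    refine Nat.mul_le_mul (le_of_eq ?_) ((Subgroup.card_le_card_group _).trans ?_)
    · exact Nat.card_congr
        { toFun := fun x => ⟨(x : D), x.1.2, congrArg Subtype.val (MonoidHom.mem_ker.1 x.2)⟩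
          invFun := fun x => ⟨⟨(x : G2), x.2.1⟩, MonoidHom.mem_ker.2 (Subtype.ext x.2.2)⟩
          left_inv := fun x => rfl
          right_inv := fun x => rfl }
    · exact Nat.card_eq_fintype_card (α := rootsOfUnity 2 F) ▸ card_rootsOfUnity F 2
  -- a square root of minus one, fixed by the field automorphism
  obtain ⟨i, hi⟩ : IsSquare (-1 : F) := by
    rw [FiniteField.isSquare_neg_one_iff, hF, Nat.pow_mod, h4]
    norm_num
  have hiq : qFrob hF i = i := by
    have h1 : i ^ 4 = 1 := by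
      rw [show i ^ 4 = (i * i) * (i * i) by ring, ← hi]; ring
    rw [qFrob_apply, show q = 4 * (q / 4) + 1 by omega, pow_succ, pow_mul, h1, one_pow, one_mul]
  have h2F : (2 : F) ≠ 0 := GLTwoNorm.two_ne (card_odd hF (Nat.odd_iff.2 (by omega)))
  -- entries of an element commuting with `y`
  have hent : ∀ x ∈ Q, (x : M2) = !![(x : M2) 0 0, -(x : M2) 1 0; (x : M2) 1 0, (x : M2) 0 0] ∧
      (x : M2) 0 0 * (x : M2) 0 0 + (x : M2) 1 0 * (x : M2) 1 0 = 1 ∧
      qFrob hF ((x : M2) 0 0) = (x : M2) 0 0 ∧ qFrob hF ((x : M2) 1 0) = (x : M2) 1 0 := by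
    intro x hx
    have hc : (x : M2) * (y : M2) = (y : M2) * (x : M2) := congrArg Units.val (hcon x hx y hyQ).eq
    rw [hy] at hc
    have c0 := congrFun (congrFun hc 0) 0
    have c1 := congrFun (congrFun hc 0) 1
    simp [Matrix.mul_apply, Fin.sum_univ_two] at c0 c1
    have e : (x : M2) = !![(x : M2) 0 0, -(x : M2) 1 0; (x : M2) 1 0, (x : M2) 0 0] := by
      ext a b
      fin_cases a <;> fin_cases b <;> simp
      · linear_combination c0
      · linear_combination -c1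
    have hdet := congrArg Units.val (MonoidHom.mem_ker.1 hx.2)
    rw [GeneralLinearGroup.val_det_apply, e, det_fin_two_of, Units.val_one] at hdet
    have hd : (x : M2) 0 0 * (x : M2) 0 0 + (x : M2) 1 0 * (x : M2) 1 0 = 1 := by
      linear_combination hdet
    have hu := (mem_gu_iff hF x).1 (hle hx.1)
    rw [e] at hu
    have u0 := congrFun (congrFun hu 0) 0
    have u1 := congrFun (congrFun hu 1) 0
    simp [Matrix.mul_apply, Fin.sum_univ_two] at u0 u1
    refine ⟨e, hd, ?_, ?_⟩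
    · linear_combination -qFrob hF ((x : M2) 0 0) * hd + (x : M2) 0 0 * u0 - (x : M2) 1 0 * u1
    · linear_combination -qFrob hF ((x : M2) 1 0) * hd + (x : M2) 1 0 * u0 + (x : M2) 0 0 * u1
  let f : Q →* F :=
    { toFun := fun x => ((x : G2) : M2) 0 0 + i * ((x : G2) : M2) 1 0
      map_one' := by simp
      map_mul' := fun a b => by
        obtain ⟨ea, -⟩ := hent a a.2
        obtain ⟨eb, -⟩ := hent b b.2
        show (((a : G2) * (b : G2) : G2) : M2) 0 0 + i * (((a : G2) * (b : G2) : G2) : M2) 1 0 = _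
        rw [Units.val_mul, ea, eb]
        simp [Matrix.mul_apply, Fin.sum_univ_two]
        linear_combination ((a : G2) : M2) 1 0 * ((b : G2) : M2) 1 0 * hi }
  have hinv : ∀ x : Q, f x * (((x : G2) : M2) 0 0 - i * ((x : G2) : M2) 1 0) = 1 := fun x => by
    show (((x : G2) : M2) 0 0 + i * ((x : G2) : M2) 1 0) * _ = 1
    linear_combination (hent x x.2).2.1 + (((x : G2) : M2) 1 0 * ((x : G2) : M2) 1 0) * hi
  have hfinj : Function.Injective f := by
    intro a b h
    obtain ⟨ea, -⟩ := hent a a.2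
    obtain ⟨eb, -⟩ := hent b b.2
    have h' : ((a : G2) : M2) 0 0 - i * ((a : G2) : M2) 1 0 =
        ((b : G2) : M2) 0 0 - i * ((b : G2) : M2) 1 0 := by
      refine mul_left_cancel₀ (left_ne_zero_of_mul_eq_one (hinv b)) ?_
      rw [hinv b, ← h, hinv a]
    have hi0 : i ≠ 0 := fun h0 => by rw [h0] at hi; simp at hi
    have hf' : ((a : G2) : M2) 0 0 + i * ((a : G2) : M2) 1 0 =
        ((b : G2) : M2) 0 0 + i * ((b : G2) : M2) 1 0 := h
    have e0 : ((a : G2) : M2) 0 0 = ((b : G2) : M2) 0 0 := mul_left_cancel₀ h2F (by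
      linear_combination hf' + h')
    have e1 : ((a : G2) : M2) 1 0 = ((b : G2) : M2) 1 0 := mul_left_cancel₀ (mul_ne_zero h2F hi0) (by
      linear_combination hf' - h')
    exact Subtype.ext (Units.ext (by rw [ea, eb, e0, e1]))
  have hfix : ∀ x : Q, qFrob hF (f x) = f x := fun x => by
    show qFrob hF (_ + _ * _) = _ + _ * _
    rw [map_add, map_mul, hiq, (hent x x.2).2.2.1, (hent x x.2).2.2.2]
  have hroot : ∀ x : Q, f x ^ 2 ^ k = 1 := by
    intro x
    obtain ⟨t, ht⟩ := hDp ⟨(x : G2), x.2.1⟩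
    have ht' : x ^ 2 ^ t = 1 := Subtype.ext (by simpa using congrArg Subtype.val ht)
    have h0 : f x ≠ 0 := left_ne_zero_of_mul_eq_one (hinv x)
    have h1 : f x ^ (q - 1) = 1 := by
      refine mul_left_cancel₀ h0 ?_
      rw [mul_one, ← pow_succ', Nat.sub_add_cancel hq1.le, ← qFrob_apply hF, hfix]
    have h2 : f x ^ 2 ^ t = 1 := by rw [← map_pow, ht', map_one]
    obtain ⟨s, -, hs⟩ := (Nat.dvd_prime_pow Nat.prime_two).1 (orderOf_dvd_of_pow_eq_one h2)
    have h3 : s ≤ k := (Nat.Prime.pow_dvd_iff_le_factorization Nat.prime_two (by omega)).1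
      (hs ▸ orderOf_dvd_of_pow_eq_one h1)
    exact orderOf_dvd_iff_pow_eq_one.1 (hs ▸ pow_dvd_pow 2 h3)
  have hQc : Nat.card Q ≤ 2 ^ k := by
    rw [Nat.card_eq_fintype_card]
    refine (Fintype.card_le_of_injective (β := {u : F // u ∈ (Polynomial.nthRoots (2 ^ k) (1 : F)).toFinset})
      (fun x => ⟨f x, Multiset.mem_toFinset.2 ((Polynomial.mem_nthRoots (by positivity)).2 (hroot x))⟩)
      fun a b h => hfinj (congrArg Subtype.val h)).trans ?_
    rw [Fintype.card_coe]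
    exact (Multiset.toFinset_card_le _).trans (Polynomial.card_nthRoots _ _)
  have h5 : 2 ^ (2 + k) = 2 ^ k * 4 := by rw [pow_add]; ring
  have h6 : 0 < 2 ^ k := pow_pos two_pos k
  omega

/-- The local data in `GU_2(q)`. -/
theorem exists_local (hF : Fintype.card F = q ^ 2) (hq : Odd q) :
    ∃ (D : Subgroup G2) (h : G2), D ≤ Cfsg.GU 2 F q ∧ IsPGroup 2 D ∧ (-1 : G2) ∈ D ∧ h ∈ D ∧
      orderOf (GeneralLinearGroup.det h) = 2 ^ (q + 1).factorization 2 ∧
      (∀ e ∈ D, GeneralLinearGroup.det e ∈ Subgroup.zpowers (GeneralLinearGroup.det h)) ∧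
      Nat.card D = 2 ^ (2 * (q + 1).factorization 2 + (q - 1).factorization 2) ∧
      (∃ a ∈ D ⊓ GeneralLinearGroup.det.ker, ∃ b ∈ D ⊓ GeneralLinearGroup.det.ker, ¬ Commute a b) ∧
      ∀ d ∈ Cfsg.GU 2 F q, d ∈ Subgroup.normalizer (D : Set G2) →
        ∃ e ∈ D, ∃ v : G2, v ∈ Subgroup.center G2 ∧ Odd (orderOf v) ∧ d = e * v := by
  classical
  haveI := Fact.mk Nat.prime_two
  have hq1 : 1 < q := one_lt hF
  have hq2 := Nat.odd_iff.1 hq
  set v := (q + 1).factorization 2 with hv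
  have hdvd : 2 ^ v ∣ q + 1 := Nat.ordProj_dvd _ 2
  have hsq : q ^ 2 - 1 = (q + 1) * (q - 1) := by simpa [sq] using Nat.sq_sub_sq q 1
  obtain ⟨a, ha⟩ := exists_unit_orderOf (F := F) (d := 2 ^ v) (by rw [hF, hsq]; exact hdvd.mul_right _)
  have haq : a ^ (q + 1) = 1 := orderOf_dvd_iff_pow_eq_one.1 (ha.symm ▸ hdvd)
  -- a monomial 2-subgroup
  let T : Subgroup G2 := ((Subgroup.zpowers a).prod (Subgroup.zpowers a)).map diag2
  have hTp : IsPGroup 2 T := by
    refine IsPGroup.map (fun x => ⟨v, Subtype.ext ?_⟩) _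
    obtain ⟨⟨c, d⟩, hc, hd⟩ := x
    obtain ⟨i, rfl⟩ := Subgroup.mem_zpowers_iff.1 hc
    obtain ⟨j, rfl⟩ := Subgroup.mem_zpowers_iff.1 hd
    have e : ∀ l : ℤ, (a ^ l) ^ 2 ^ v = 1 := fun l => by
      rw [← zpow_natCast, ← _root_.zpow_mul, mul_comm, _root_.zpow_mul, zpow_natCast, ← ha,
        pow_orderOf_eq_one, _root_.one_zpow]
    show (a ^ i, a ^ j) ^ 2 ^ v = (1 : Fˣ × Fˣ)
    rw [Prod.pow_mk, e, e]
    rfl
  have hSp : IsPGroup 2 (Subgroup.zpowers (swap2 : G2)) :=
    IsPGroup.of_card (n := 1) (by rw [Nat.card_zpowers, orderOf_swap2, pow_one])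
  have hTn : Subgroup.zpowers (swap2 : G2) ≤ Subgroup.normalizer (T : Set G2) := by
    rw [Subgroup.zpowers_le, Subgroup.mem_normalizer_iff_map_conj_eq]
    refine Subgroup.eq_of_le_of_card_ge ?_
      (Subgroup.card_map_of_injective (MulAut.conj _).injective).ge
    rintro _ ⟨_, ⟨⟨c, d⟩, ⟨hc, hd⟩, rfl⟩, rfl⟩
    exact ⟨(d, c), ⟨hd, hc⟩, (swap2_conj (c, d)).symm⟩
  set K := T ⊔ Subgroup.zpowers (swap2 : G2) with hK
  have hKp : IsPGroup 2 K := hTp.to_sup_of_normal_left' hSp hTn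
  have hKle : K ≤ Cfsg.GU 2 F q := by
    refine sup_le ?_ (Subgroup.zpowers_le.2 (swap2_mem hF))
    rintro _ ⟨⟨c, d⟩, ⟨hc, hd⟩, rfl⟩
    obtain ⟨i, rfl⟩ := Subgroup.mem_zpowers_iff.1 hc
    obtain ⟨j, rfl⟩ := Subgroup.mem_zpowers_iff.1 hd
    have e : ∀ l : ℤ, (a ^ l) ^ (q + 1) = 1 := fun l => by
      rw [← zpow_natCast, ← _root_.zpow_mul, mul_comm, _root_.zpow_mul, zpow_natCast, haq,
        _root_.one_zpow]
    exact diag2_mem hF (e i) (e j)
  obtain ⟨P, hP⟩ := (hKp.of_equiv (Subgroup.subgroupOfEquivOfLe hKle).symm).exists_le_sylow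
  set D := (P : Subgroup (Cfsg.GU 2 F q)).map (Cfsg.GU 2 F q).subtype with hD
  have hKD : K ≤ D := fun x hx => ⟨⟨x, hKle hx⟩, hP hx, rfl⟩
  have hDle : D ≤ Cfsg.GU 2 F q := Subgroup.map_subtype_le _
  have hDp : IsPGroup 2 D := P.2.map _
  let eD : (P : Subgroup (Cfsg.GU 2 F q)) ≃* D :=
    (P : Subgroup (Cfsg.GU 2 F q)).equivMapOfInjective _ Subtype.val_injective
  have hqw : IsQW D := by
    refine isQW_congr eD ?_
    rcases (show q % 4 = 1 ∨ q % 4 = 3 by omega) with h | h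
    · exact Or.inl (gu_two_sylow_quasiDihedral hF h P)
    · exact Or.inr (gu_two_sylow_wreathed hF h P)
  have hmax : ∀ x ∈ Cfsg.GU 2 F q, x ∈ Subgroup.normalizer (D : Set G2) → ∀ {k : ℕ},
      x ^ 2 ^ k = 1 → x ∈ D := by
    intro x hx hn k hk
    refine ⟨⟨x, hx⟩, GLTwoNorm.mem_sylow_of_normalizer P ?_ (k := k) (Subtype.ext hk), rfl⟩
    rw [Subgroup.mem_normalizer_iff]
    intro y
    have h1 := Subgroup.mem_normalizer_iff.1 hn (y : G2)
    exact ((Subgroup.mem_map_iff_mem (f := (Cfsg.GU 2 F q).subtype) Subtype.val_injective).symm.trans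
      h1).trans (Subgroup.mem_map_iff_mem (f := (Cfsg.GU 2 F q).subtype) Subtype.val_injective
        (x := ⟨x, hx⟩ * y * ⟨x, hx⟩⁻¹))
  have hDc : Nat.card D = 2 ^ (2 * v + (q - 1).factorization 2) := by
    rw [← Nat.card_congr eD.toEquiv, P.card_eq_multiplicity, factorization_card_gu_two hF hq]
  have hdiag : ∀ c d : Fˣ, c ∈ Subgroup.zpowers a → d ∈ Subgroup.zpowers a → diag2 (c, d) ∈ D :=
    fun c d hc hd => hKD (Subgroup.mem_sup_left ⟨(c, d), ⟨hc, hd⟩, rfl⟩)
  have hswap : (swap2 : G2) ∈ D := hKD (Subgroup.mem_sup_right (Subgroup.mem_zpowers _))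
  have hneg : (-1 : G2) ∈ D := by
    refine hmax _ (neg_one_mem_gu hF) ?_ (k := 1) (by simp)
    rw [Subgroup.mem_normalizer_iff]
    intro y
    rw [← Subgroup.mem_center_iff.1 neg_one_mem_center y, mul_inv_cancel_right]
  have h2F : (2 : F) ≠ 0 := GLTwoNorm.two_ne (card_odd hF hq)
  have hv1 : 1 ≤ v := (Nat.Prime.dvd_iff_one_le_factorization Nat.prime_two (by omega)).1
    (Nat.dvd_of_mod_eq_zero (by omega))
  have hneg1 : (-1 : Fˣ) ∈ Subgroup.zpowers a := by
    refine Subgroup.mem_zpowers_iff.2 ⟨((2 ^ (v - 1) : ℕ) : ℤ), ?_⟩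
    rw [zpow_natCast]
    refine Units.ext ?_
    have hp : IsPrimitiveRoot (a : F) (2 ^ v) := by
      rw [← ha, ← orderOf_units]; exact IsPrimitiveRoot.orderOf _
    have hp2 : IsPrimitiveRoot ((a : F) ^ 2 ^ (v - 1)) 2 :=
      hp.pow (pow_pos two_pos v) (by rw [← pow_succ, Nat.sub_add_cancel hv1])
    simpa using hp2.eq_neg_one_of_two_right
  have himg : ∀ e ∈ D, GeneralLinearGroup.det e ∈ Subgroup.zpowers (GeneralLinearGroup.det (diag2 (a, 1))) := by
    intro e he
    rw [det_diag2, mul_one]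
    obtain ⟨t, ht⟩ := hDp ⟨e, he⟩
    have ht' : e ^ 2 ^ t = 1 := congrArg Subtype.val ht
    obtain ⟨s, -, hs⟩ := (Nat.dvd_prime_pow Nat.prime_two).1 (orderOf_dvd_of_pow_eq_one
      (show GeneralLinearGroup.det e ^ 2 ^ t = 1 by rw [← map_pow, ht', map_one]))
    have h3 : s ≤ v := (Nat.Prime.pow_dvd_iff_le_factorization Nat.prime_two (by omega)).1
      (hs ▸ orderOf_dvd_of_pow_eq_one (det_pow_eq_one hF (hDle he)))
    haveI : NeZero (2 ^ v) := ⟨(pow_pos two_pos v).ne'⟩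
    have hp : IsPrimitiveRoot a (2 ^ v) := ha ▸ IsPrimitiveRoot.orderOf a
    rw [hp.zpowers_eq, mem_rootsOfUnity]
    exact orderOf_dvd_iff_pow_eq_one.1 (hs ▸ pow_dvd_pow 2 h3)
  have hab : ∃ x ∈ D ⊓ GeneralLinearGroup.det.ker, ∃ y ∈ D ⊓ GeneralLinearGroup.det.ker,
      ¬ Commute x y := by
    have hy : (diag2 (-1, 1) * swap2 : G2) ∈ D := mul_mem (hdiag _ _ hneg1 (one_mem _)) hswap
    have hyv : ((diag2 (-1, 1) * swap2 : G2) : M2) = !![0, -1; 1, 0] := by
      rw [Units.val_mul, diag2_coe]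
      ext i j
      fin_cases i <;> fin_cases j <;> simp [swap2, Matrix.mul_apply, Fin.sum_univ_two]
    rcases (show q % 4 = 1 ∨ q % 4 = 3 by omega) with h4 | h4
    · refine exists_not_commute_one hF h4 hDle hDp ?_ hy hyv
      rw [hDc, hv, factorization_two_of_mod_four (n := q + 1) (by omega)]
    · have hdet0 : ∀ {x : G2}, x ∈ D → GeneralLinearGroup.det x = 1 →
          x ∈ D ⊓ GeneralLinearGroup.det.ker := fun h1 h2 => ⟨h1, h2⟩
      refine ⟨diag2 (a, a⁻¹), hdet0 (hdiag _ _ (Subgroup.mem_zpowers a)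
        (inv_mem (Subgroup.mem_zpowers a))) (by rw [det_diag2, mul_inv_cancel]),
        diag2 (-1, 1) * swap2, hdet0 hy (Units.ext ?_), ?_⟩
      · rw [GeneralLinearGroup.val_det_apply, hyv, det_fin_two_of]; simp
      · intro hc
        have h1 : ((diag2 (a, a⁻¹) : G2) : M2) * !![0, -1; 1, 0] =
            !![0, -1; 1, 0] * ((diag2 (a, a⁻¹) : G2) : M2) := by
          rw [← hyv, ← Units.val_mul, ← Units.val_mul, hc.eq]
        rw [diag2_coe] at h1
        have h1 := congrFun (congrFun h1 0) 1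
        simp [Matrix.mul_apply, Fin.sum_univ_two] at h1
        have h2 : a ^ 2 = 1 := by
          rw [pow_two]
          exact mul_eq_one_iff_eq_inv.2 (Units.ext (by simpa using h1))
        have h3 : 2 ^ v ∣ 2 := ha ▸ orderOf_dvd_of_pow_eq_one h2
        have h4' : 2 ≤ v := two_le_factorization_of_mod_four (by omega) (by omega)
        have := Nat.le_of_dvd two_pos h3
        have : 2 ^ 2 ≤ 2 ^ v := Nat.pow_le_pow_right two_pos h4'
        omega
  refine ⟨D, diag2 (a, 1), hDle, hDp, hneg, hdiag _ _ (Subgroup.mem_zpowers a) (one_mem _),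
    by rw [det_diag2, mul_one, ha], himg, hDc, hab, fun d hdG hd => ?_⟩
  obtain ⟨x, hx, y, hy, hxy⟩ := hab
  exact GLTwoNorm.normalizer_two_subgroup hqw hmax hx.1 hy.1 hxy hdG hd

end CfsgLib.ClassK.GUTwoNorm
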