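import Mathlib

/-!
Conjugacy classes of a subgroup of index two: `2 k(H) ≤ k(S) + 3 v` with `v` the number of split classes,
and `k(S) ≤ 2 k(H) ≤ 4 k(S)`.
-/

set_option autoImplicit false

namespace CfsgLib.ClassK.IndexTwo

variable {S : Type*} [Group S] [Finite S]

omit [Finite S] in
theorem conj_out (a : S) : ∃ g : S, g * Quotient.out (ConjClasses.mk a) * g⁻¹ = a :=
  isConj_iff.1 (ConjClasses.mk_eq_mk_iff_isConj.1 (Quotient.out_eq (ConjClasses.mk a)))

omit [Finite S] in
/-- The commuting pairs over a class. -/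
noncomputable def fibreEquiv (C : ConjClasses S) :
    {p : S × S // ConjClasses.mk p.1 = C ∧ Commute p.1 p.2} ≃ S where
  toFun p := p.1.2 * (conj_out p.1.1).choose
  invFun s := ⟨(s * Quotient.out C * s⁻¹, s * (conj_out (s * Quotient.out C * s⁻¹)).choose⁻¹), by
    have hC : ConjClasses.mk (s * Quotient.out C * s⁻¹) = C :=
      (ConjClasses.mk_eq_mk_iff_isConj.2 (isConj_iff.2 ⟨s⁻¹, by group⟩)).trans (Quotient.out_eq C)
    refine ⟨hC, ?_⟩
    have h := (conj_out (s * Quotient.out C * s⁻¹)).choose_spec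
    generalize (conj_out (s * Quotient.out C * s⁻¹)).choose = g at h ⊢
    rw [hC] at h
    show s * Quotient.out C * s⁻¹ * (s * g⁻¹) = s * g⁻¹ * (s * Quotient.out C * s⁻¹)
    conv_rhs => rw [← h]
    group⟩
  left_inv := by
    rintro ⟨⟨a, b⟩, h1, h2⟩
    refine Subtype.ext ?_
    have h := (conj_out a).choose_spec
    have hch : ∀ a', a' = a → (conj_out a').choose = (conj_out a).choose := by rintro a' rfl; rfl
    obtain ⟨g, hg⟩ : ∃ g, g = (conj_out a).choose := ⟨_, rfl⟩
    rw [← hg] at h hch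
    rw [h1] at h
    have ha : b * g * Quotient.out C * (b * g)⁻¹ = a := by
      rw [show b * g * Quotient.out C * (b * g)⁻¹ = b * (g * Quotient.out C * g⁻¹) * b⁻¹ by group, h, ← h2.eq,
        mul_inv_cancel_right]
    simp only [← hg]
    refine Prod.ext ha ?_
    show b * g * (conj_out (b * g * Quotient.out C * (b * g)⁻¹)).choose⁻¹ = b
    rw [hch _ ha, mul_inv_cancel_right]
  right_inv s := by simp

theorem card_pairs (p : ConjClasses S → Prop) :
    Nat.card {x : S × S // p (ConjClasses.mk x.1) ∧ Commute x.1 x.2} =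
      Nat.card {C : ConjClasses S // p C} * Nat.card S := by
  have e : {x : S × S // p (ConjClasses.mk x.1) ∧ Commute x.1 x.2} ≃
      Σ C : {C : ConjClasses S // p C}, {x : S × S // ConjClasses.mk x.1 = C.1 ∧ Commute x.1 x.2} :=
    { toFun := fun x => ⟨⟨_, x.2.1⟩, x.1, rfl, x.2.2⟩
      invFun := fun y => ⟨y.2.1, by rw [y.2.2.1]; exact y.1.2, y.2.2.2⟩
      left_inv := fun _ => rfl
      right_inv := by
        rintro ⟨⟨C, hC⟩, ⟨x, hx⟩⟩
        obtain rfl : ConjClasses.mk x.1 = C := hx.1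
        rfl }
  rw [Nat.card_congr (e.trans ((Equiv.sigmaCongrRight fun C : {C : ConjClasses S // p C} => fibreEquiv C.1).trans (Equiv.sigmaEquivProd _ _))),
    Nat.card_prod]

variable (H : Subgroup S) (hH : H.index = 2)

include hH

omit [Finite S] in
theorem conj_mem_iff (g a : S) : g * a * g⁻¹ ∈ H ↔ a ∈ H := by
  rw [Subgroup.mul_mem_iff_of_index_two hH, Subgroup.mul_mem_iff_of_index_two hH, inv_mem_iff]
  tauto

/-- The classes outside `H`. -/
theorem card_neg : 2 * Nat.card (ConjClasses S) =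
    Nat.card (ConjClasses ↥H) + 3 * Nat.card {C : ConjClasses S // Quotient.out C ∉ H} := by
  classical
  have hmk : ∀ a : S, (Quotient.out (ConjClasses.mk a) ∈ H ↔ a ∈ H) := fun a => by
    obtain ⟨g, hg⟩ := conj_out a
    conv_rhs => rw [← hg, conj_mem_iff H hH]
  have hcard : 2 * Nat.card ↥H = Nat.card S := by rw [← H.card_mul_index, hH, mul_comm]
  let T : (S → Prop) → (S → Prop) → Type _ := fun P Q => {x : S × S // P x.1 ∧ Q x.2 ∧ Commute x.1 x.2}
  have eBD : T (· ∉ H) (· ∈ H) ≃ T (· ∉ H) (· ∉ H) :=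
    { toFun := fun x => ⟨(x.1.1, x.1.1 * x.1.2), x.2.1, fun h =>
        x.2.1 (((Subgroup.mul_mem_iff_of_index_two hH).1 h).2 x.2.2.1), (Commute.refl _).mul_right x.2.2.2⟩
      invFun := fun x => ⟨(x.1.1, x.1.1⁻¹ * x.1.2), x.2.1, (Subgroup.mul_mem_iff_of_index_two hH).2
          ⟨fun h => absurd (inv_mem_iff.1 h) x.2.1, fun h => absurd h x.2.2.1⟩,
        ((Commute.refl _).inv_right).mul_right x.2.2.2⟩
      left_inv := fun x => Subtype.ext (Prod.ext rfl (inv_mul_cancel_left _ _))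
      right_inv := fun x => Subtype.ext (Prod.ext rfl (mul_inv_cancel_left _ _)) }
  have eBC : T (· ∉ H) (· ∈ H) ≃ T (· ∈ H) (· ∉ H) :=
    { toFun := fun x => ⟨x.1.swap, x.2.2.1, x.2.1, x.2.2.2.symm⟩
      invFun := fun x => ⟨x.1.swap, x.2.2.1, x.2.1, x.2.2.2.symm⟩
      left_inv := fun _ => rfl
      right_inv := fun _ => rfl }
  have eA : T (· ∈ H) (· ∈ H) ≃ {x : ↥H × ↥H // Commute x.1 x.2} :=
    { toFun := fun x => ⟨(⟨x.1.1, x.2.1⟩, ⟨x.1.2, x.2.2.1⟩), Subtype.ext x.2.2.2.eq⟩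
      invFun := fun x => ⟨(x.1.1.1, x.1.2.1), x.1.1.2, x.1.2.2, congrArg Subtype.val x.2.eq⟩
      left_inv := fun _ => rfl
      right_inv := fun _ => rfl }
  have hA : Nat.card (T (· ∈ H) (· ∈ H)) = Nat.card (ConjClasses ↥H) * Nat.card ↥H := by
    rw [Nat.card_congr eA, card_comm_eq_card_conjClasses_mul_card]
  have hsplit : ∀ P : S → Prop, Nat.card (T P (· ∈ H)) + Nat.card (T P (· ∉ H)) =
      Nat.card {x : S × S // P x.1 ∧ Commute x.1 x.2} := fun P => by
    rw [← Nat.card_sum]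
    refine Nat.card_congr
      { toFun := Sum.elim (fun x => ⟨x.1, x.2.1, x.2.2.2⟩) fun x => ⟨x.1, x.2.1, x.2.2.2⟩
        invFun := fun x => if h : x.1.2 ∈ H then .inl ⟨x.1, x.2.1, h, x.2.2⟩ else .inr ⟨x.1, x.2.1, h, x.2.2⟩
        left_inv := ?_
        right_inv := ?_ }
    · rintro (x | x)
      · simp [x.2.2.1]
      · simp [x.2.2.1]
    · intro x; simp only; split_ifs <;> rfl
  have hneg := hsplit (· ∉ H)
  have hpos := hsplit (· ∈ H)
  rw [← Nat.card_congr eBD] at hneg
  rw [hA, ← Nat.card_congr eBC] at hpos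
  have e1 : Nat.card {x : S × S // x.1 ∉ H ∧ Commute x.1 x.2} =
      Nat.card {C : ConjClasses S // Quotient.out C ∉ H} * Nat.card S := by
    rw [← card_pairs fun C => Quotient.out C ∉ H]
    exact Nat.card_congr (Equiv.subtypeEquivRight fun x => by rw [hmk])
  have e2 : Nat.card {x : S × S // x.1 ∈ H ∧ Commute x.1 x.2} + Nat.card {x : S × S // x.1 ∉ H ∧ Commute x.1 x.2} =
      Nat.card (ConjClasses S) * Nat.card S := by
    rw [← card_comm_eq_card_conjClasses_mul_card, ← Nat.card_sum]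
    refine Nat.card_congr
      { toFun := Sum.elim (fun x => ⟨x.1, x.2.2⟩) fun x => ⟨x.1, x.2.2⟩
        invFun := fun x => if h : x.1.1 ∈ H then .inl ⟨x.1, h, x.2⟩ else .inr ⟨x.1, h, x.2⟩
        left_inv := ?_
        right_inv := ?_ }
    · rintro (x | x)
      · simp [x.2.1]
      · simp [x.2.1]
    · intro x; simp only; split_ifs <;> rfl
  refine Nat.eq_of_mul_eq_mul_right (Nat.card_pos (α := ↥H)) ?_
  rw [e1, ← hcard] at hneg
  rw [← hpos, e1, ← hcard] at e2
  linarith

/-- A split class. -/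
def IsSplit (C : ConjClasses S) : Prop :=
  Quotient.out C ∈ H ∧ ∀ c : S, Commute c (Quotient.out C) → c ∈ H

theorem card_le_pos_add_split : Nat.card (ConjClasses ↥H) ≤
    Nat.card {C : ConjClasses S // Quotient.out C ∈ H} + Nat.card {C : ConjClasses S // IsSplit H C} := by
  classical
  rw [← Nat.card_sum]
  have hC : ∀ D : ConjClasses ↥H, Quotient.out (ConjClasses.mk ((Quotient.out D : ↥H) : S)) ∈ H := fun D => by
    obtain ⟨g, hg⟩ := conj_out ((Quotient.out D : ↥H) : S)
    have h := (Quotient.out D : ↥H).2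
    rwa [← hg, conj_mem_iff H hH] at h
  have hsplit : ∀ D : ConjClasses ↥H,
      (¬∃ g ∈ H, g * Quotient.out (ConjClasses.mk ((Quotient.out D : ↥H) : S)) * g⁻¹ = (Quotient.out D : ↥H)) →
      IsSplit H (ConjClasses.mk ((Quotient.out D : ↥H) : S)) := by
    refine fun D hne => ⟨hC D, fun c hc => by_contra fun hcH => ?_⟩
    obtain ⟨g, hg⟩ := conj_out ((Quotient.out D : ↥H) : S)
    by_cases hgH : g ∈ H
    · exact hne ⟨g, hgH, hg⟩
    refine hne ⟨g * c, (Subgroup.mul_mem_iff_of_index_two hH).2 ⟨fun h => absurd h hgH, fun h => absurd h hcH⟩, ?_⟩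
    refine Eq.trans ?_ hg
    rw [mul_inv_rev, mul_assoc g c, hc.eq]
    group
  refine Nat.card_le_card_of_injective (fun D =>
    if h : ∃ g ∈ H, g * Quotient.out (ConjClasses.mk ((Quotient.out D : ↥H) : S)) * g⁻¹ = (Quotient.out D : ↥H)
    then .inl ⟨_, hC D⟩ else .inr ⟨_, hsplit D h⟩) fun D D' e => ?_
  have hfin : ∀ g g' : S, g * Quotient.out (ConjClasses.mk ((Quotient.out D : ↥H) : S)) * g⁻¹ = (Quotient.out D : ↥H) →
      g' * Quotient.out (ConjClasses.mk ((Quotient.out D : ↥H) : S)) * g'⁻¹ = (Quotient.out D' : ↥H) →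
      (g ∈ H ↔ g' ∈ H) → D = D' := by
    intro g g' hg hg' hiff
    rw [← Quotient.out_eq D, ← Quotient.out_eq D']
    refine Quotient.sound (isConj_iff.2 ⟨⟨g' * g⁻¹, (Subgroup.mul_mem_iff_of_index_two hH).2
      ⟨fun h => inv_mem (hiff.2 h), fun h => hiff.1 (inv_mem_iff.1 h)⟩⟩, Subtype.ext ?_⟩)
    show g' * g⁻¹ * (Quotient.out D : ↥H) * (g' * g⁻¹)⁻¹ = (Quotient.out D' : ↥H)
    generalize Quotient.out (ConjClasses.mk ((Quotient.out D : ↥H) : S)) = x at hg hg'
    rw [← hg', ← hg]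
    group
  obtain ⟨g, hg⟩ := conj_out ((Quotient.out D : ↥H) : S)
  obtain ⟨g', hg'⟩ := conj_out ((Quotient.out D' : ↥H) : S)
  simp only at e
  split_ifs at e with h h'
  · obtain ⟨a, ha, ha'⟩ := h
    obtain ⟨b, hb, hb'⟩ := h'
    have e' : ConjClasses.mk ((Quotient.out D : ↥H) : S) = ConjClasses.mk ((Quotient.out D' : ↥H) : S) :=
      congrArg Subtype.val (Sum.inl.inj e)
    rw [← e'] at hb'
    exact hfin a b ha' hb' (iff_of_true ha hb)
  · rename_i h'
    have e' : ConjClasses.mk ((Quotient.out D : ↥H) : S) = ConjClasses.mk ((Quotient.out D' : ↥H) : S) :=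
      congrArg Subtype.val (Sum.inr.inj e)
    refine hfin g g' hg (by rw [e']; exact hg') (iff_of_false (fun hgH => h ⟨g, hgH, hg⟩) fun hgH => h' ⟨g', hgH, hg'⟩)

/-- `2 k(H) ≤ k(S) + 3 v`. -/
theorem two_mul_le : 2 * Nat.card (ConjClasses ↥H) ≤
    Nat.card (ConjClasses S) + 3 * Nat.card {C : ConjClasses S // IsSplit H C} := by
  classical
  have h1 := card_neg H hH
  have h2 := card_le_pos_add_split H hH
  have h3 : Nat.card {C : ConjClasses S // Quotient.out C ∈ H} + Nat.card {C : ConjClasses S // Quotient.out C ∉ H} =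
      Nat.card (ConjClasses S) := by rw [← Nat.card_sum, Nat.card_congr (Equiv.sumCompl _)]
  omega

/-- `k(H) ≤ 2 k(S)`. -/
theorem le_two_mul : Nat.card (ConjClasses ↥H) ≤ 2 * Nat.card (ConjClasses S) := by
  have h2 := card_le_pos_add_split H hH
  have h4 : Nat.card {C : ConjClasses S // Quotient.out C ∈ H} ≤ Nat.card (ConjClasses S) :=
    Nat.card_le_card_of_injective _ Subtype.val_injective
  have h5 : Nat.card {C : ConjClasses S // IsSplit H C} ≤ Nat.card (ConjClasses S) :=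
    Nat.card_le_card_of_injective _ Subtype.val_injective
  omega

/-- `k(S) ≤ 2 k(H)`. -/
theorem le_two_mul' : Nat.card (ConjClasses S) ≤ 2 * Nat.card (ConjClasses ↥H) := by
  classical
  have h1 := card_neg H hH
  have h3 : Nat.card {C : ConjClasses S // Quotient.out C ∈ H} + Nat.card {C : ConjClasses S // Quotient.out C ∉ H} =
      Nat.card (ConjClasses S) := by rw [← Nat.card_sum, Nat.card_congr (Equiv.sumCompl _)]
  have h6 : Nat.card {C : ConjClasses S // Quotient.out C ∈ H} ≤ Nat.card (ConjClasses ↥H) := by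
    refine Nat.card_le_card_of_injective (fun C => ConjClasses.mk (⟨_, C.2⟩ : ↥H)) fun C C' e => Subtype.ext ?_
    rw [← Quotient.out_eq C.1, ← Quotient.out_eq C'.1]
    exact Quotient.sound (H.subtype.map_isConj (ConjClasses.mk_eq_mk_iff_isConj.1 e))
  omega

end CfsgLib.ClassK.IndexTwo
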