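import Mathlib

/-!
A subgroup meeting its image under an automorphism `c` in a normal subgroup of prime index: the
chain of intersections, the generators `x i` and the bound `2 t ≤ 3 e` on the length `e` of
commuting windows.
-/

set_option autoImplicit false
set_option linter.unusedSectionVars false

namespace CfsgLib.ClassK.IsoSub

open Subgroup

universe u

variable {G : Type u} [Group G] (c : MulAut G) (P : Subgroup G)

/-- The image of a subgroup. -/
def img (H : Subgroup G) : Subgroup G := H.map c.toMonoidHom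

theorem mem_img {H : Subgroup G} {x : G} : x ∈ img c H ↔ c⁻¹ x ∈ H := by
  constructor
  · rintro ⟨a, ha, rfl⟩
    rwa [MulEquiv.coe_toMonoidHom, MulAut.inv_apply_self]
  · intro h
    exact ⟨_, h, MulAut.apply_inv_self G c x⟩

theorem img_mono {H K : Subgroup G} (h : H ≤ K) : img c H ≤ img c K := Subgroup.map_mono h

theorem card_img (H : Subgroup G) : Nat.card (img c H) = Nat.card H :=
  (Nat.card_congr (H.equivMapOfInjective _ c.injective).toEquiv).symm

/-- The intersection of `P` and its first `j` images. -/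
def ch : ℕ → Subgroup G
  | 0 => P
  | j + 1 => ch j ⊓ img c (ch j)

theorem ch_succ_le (j : ℕ) : ch c P (j + 1) ≤ ch c P j := inf_le_left

theorem ch_succ_le_img (j : ℕ) : ch c P (j + 1) ≤ img c (ch c P j) := inf_le_right

theorem ch_succ_succ (j : ℕ) :
    ch c P (j + 2) = ch c P j ⊓ img c (ch c P (j + 1)) := by
  refine le_antisymm (le_inf ((ch_succ_le c P (j + 1)).trans (ch_succ_le c P j))
    (ch_succ_le_img c P (j + 1))) ?_
  show _ ≤ (ch c P j ⊓ img c (ch c P j)) ⊓ img c (ch c P (j + 1))
  exact le_inf (le_inf inf_le_left (inf_le_right.trans (img_mono c (ch_succ_le c P j)))) inf_le_right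

variable [Finite G] {p : ℕ}

theorem eq_of_relIndex_prime {A B C : Subgroup G} (hp : p.Prime) (hAB : A ≤ B) (hBC : B ≤ C)
    (hidx : A.relIndex C = p) (hne : A ≠ B) : B = C := by
  have h := Subgroup.relIndex_mul_relIndex A B C hAB hBC
  rw [hidx] at h
  rcases (Nat.dvd_prime hp).1 ⟨_, h.symm⟩ with h1 | h1
  · exact absurd (le_antisymm hAB (Subgroup.relIndex_eq_one.1 h1)) hne
  · rw [h1] at h
    exact le_antisymm hBC (Subgroup.relIndex_eq_one.1 (Nat.mul_left_cancel hp.pos (by rw [h, mul_one])))

/-- A normal subgroup of index `p` cuts a subgroup in index dividing `p`. -/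
theorem relIndex_dvd {N B H : Subgroup G} (hHB : H ≤ B)
    (hN : (N.subgroupOf B).Normal) : N.relIndex H ∣ N.relIndex B := by
  let f : ↥H →* ↥B ⧸ N.subgroupOf B := (QuotientGroup.mk' _).comp (Subgroup.inclusion hHB)
  have hker : f.ker = N.subgroupOf H := by
    ext x
    simp [f, Subgroup.mem_subgroupOf]
  have h := Subgroup.card_subgroup_dvd_card f.range
  rwa [← Subgroup.index_ker, hker] at h

variable (hp : p.Prime) (hN : ((ch c P 1).subgroupOf (img c P)).Normal)
  (hidx : (ch c P 1).relIndex (img c P) = p)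

include hN hidx in
theorem step (j : ℕ) :
    ((ch c P (j + 1)).subgroupOf (img c (ch c P j))).Normal ∧
      (ch c P (j + 1)).relIndex (img c (ch c P j)) ∣ p := by
  induction j with
  | zero => exact ⟨hN, hidx ▸ dvd_rfl⟩
  | succ j ih =>
    have hle : img c (ch c P (j + 1)) ≤ img c (ch c P j) := img_mono c (ch_succ_le c P j)
    refine ⟨?_, ?_⟩
    · show (((ch c P (j + 1)) ⊓ img c (ch c P (j + 1))).subgroupOf _).Normal
      rw [Subgroup.inf_subgroupOf_right]
      refine ⟨fun x hx k => ?_⟩
      exact ih.1.conj_mem ⟨x, hle x.2⟩ hx ⟨k, hle k.2⟩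
    · show ((ch c P (j + 1)) ⊓ img c (ch c P (j + 1))).relIndex _ ∣ p
      rw [Subgroup.inf_relIndex_right]
      exact (relIndex_dvd hle ih.1).trans ih.2

/-- Before the chain becomes stationary the indices are `p`. -/
theorem card_step (hp : p.Prime) {j : ℕ}
    (hd : (ch c P (j + 1)).relIndex (img c (ch c P j)) ∣ p)
    (hne : ch c P (j + 1) ≠ ch c P j) : Nat.card (ch c P j) = p * Nat.card (ch c P (j + 1)) := by
  have h := Subgroup.card_mul_index ((ch c P (j + 1)).subgroupOf (img c (ch c P j)))
  rw [Nat.card_congr (Subgroup.subgroupOfEquivOfLe (ch_succ_le_img c P j)).toEquiv, card_img] at h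
  rcases (Nat.dvd_prime hp).1 hd with h1 | h1
  · rw [Subgroup.relIndex] at h1
    rw [h1, mul_one] at h
    exact absurd (Subgroup.eq_of_le_of_card_ge (ch_succ_le c P j) h.ge) hne
  · rw [Subgroup.relIndex] at h1
    rw [h1] at h
    rw [← h, mul_comm]

/-- The data of a chain of length `t`. -/
structure Chain (c : MulAut G) (P : Subgroup G) (p t : ℕ) : Prop where
  prime : p.Prime
  pos : 1 ≤ t
  card : ∀ j, j ≤ t → Nat.card (ch c P j) = p ^ (t - j)
  join : ∀ j, j + 1 < t → ch c P j = ch c P (j + 1) ⊔ img c⁻¹ (ch c P (j + 1))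

theorem img_inv_le (j : ℕ) : img c⁻¹ (ch c P (j + 1)) ≤ ch c P j := fun x hx => by
  rw [mem_img, inv_inv] at hx
  have := ch_succ_le_img c P j hx
  rwa [mem_img, MulAut.inv_apply_self] at this

include hp hN hidx in
theorem exists_chain (hQ : ∀ Q : Subgroup G, Q ≤ P → (∀ a ∈ P, ∀ q ∈ Q, a * q * a⁻¹ ∈ Q) →
      img c Q = Q → Q = ⊥) : ∃ t, Chain c P p t := by
  classical
  have hstep := step c P hN hidx
  have hex : ∃ j, ch c P (j + 1) = ch c P j := by
    by_contra hcon
    push Not at hcon
    have key : ∀ j, Nat.card (ch c P j) + j ≤ Nat.card P := by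
      intro j
      induction j with
      | zero => simp [ch]
      | succ j ih =>
        have h := card_step c P hp (hstep j).2 (hcon j)
        have h1 : 1 ≤ Nat.card (ch c P (j + 1)) := Nat.card_pos
        have h2 := hp.two_le
        nlinarith
    have := key (Nat.card P + 1)
    omega
  set t := Nat.find hex with ht
  have hstab : ch c P (t + 1) = ch c P t := Nat.find_spec hex
  have hne : ∀ j, j < t → ch c P (j + 1) ≠ ch c P j := fun j hj => Nat.find_min hex hj
  have hinv : img c (ch c P t) = ch c P t := by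
    refine (Subgroup.eq_of_le_of_card_ge ?_ (card_img c _).le).symm
    calc ch c P t = ch c P (t + 1) := hstab.symm
      _ ≤ img c (ch c P t) := ch_succ_le_img c P t
  have hinv' : img c⁻¹ (ch c P t) = ch c P t := by
    ext x
    rw [mem_img, inv_inv]
    conv_lhs => rw [← hinv, mem_img, MulAut.inv_apply_self]
  have hjoin : ∀ j, j + 1 < t → ch c P j = ch c P (j + 1) ⊔ img c⁻¹ (ch c P (j + 1)) := by
    intro j hj
    refine (eq_of_relIndex_prime (p := p) hp le_sup_left
      (sup_le (ch_succ_le c P j) (img_inv_le c P j)) ?_ ?_).symm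
    · have h := Subgroup.card_mul_index ((ch c P (j + 1)).subgroupOf (ch c P j))
      rw [Nat.card_congr (Subgroup.subgroupOfEquivOfLe (ch_succ_le c P j)).toEquiv,
        card_step c P hp (hstep j).2 (hne j (by omega))] at h
      exact Nat.mul_left_cancel Nat.card_pos (h.trans (mul_comm _ _))
    · intro heq
      have h2 : img c⁻¹ (ch c P (j + 1)) ≤ ch c P (j + 1) :=
        le_sup_right.trans_eq heq.symm
      refine hne (j + 1) hj (le_antisymm (ch_succ_le c P (j + 1))
        (le_inf le_rfl fun x hx => (mem_img c).2 ?_))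
      have h3 : img c⁻¹ (ch c P (j + 1)) = ch c P (j + 1) :=
        Subgroup.eq_of_le_of_card_ge h2 (card_img _ _).ge
      have h4 : c⁻¹ x ∈ img c⁻¹ (ch c P (j + 1)) := by
        rw [mem_img, inv_inv, MulAut.apply_inv_self]
        exact hx
      rwa [h3] at h4
  have htpos : 1 ≤ t := by
    by_contra h0
    have ht0 : t = 0 := by omega
    have h1 : ch c P 1 = ch c P 0 := by
      have := hstab
      rwa [ht0] at this
    have h2 : img c P = P := by
      have := hinv
      rwa [ht0] at this
    rw [h2, h1] at hidx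
    simp only [ch, Subgroup.relIndex_self] at hidx
    exact hp.ne_one hidx.symm
  have hnormal : ∀ i, i < t → ∀ a ∈ ch c P (t - 1 - i), ∀ q ∈ ch c P t,
      a * q * a⁻¹ ∈ ch c P t := by
    intro i
    induction i with
    | zero =>
      intro _ a ha q hq
      have hn := (hstep (t - 1)).1
      rw [show t - 1 + 1 = t by omega] at hn
      have hq1 : c q ∈ ch c P t := by
        rw [← hinv]
        exact (mem_img c).2 (by rwa [MulAut.inv_apply_self])
      have hle : ch c P t ≤ img c (ch c P (t - 1)) := by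
        have := ch_succ_le_img c P (t - 1)
        rwa [show t - 1 + 1 = t by omega] at this
      have h5 := hn.conj_mem ⟨c q, hle hq1⟩ hq1
        ⟨c a, (mem_img c).2 (by rw [MulAut.inv_apply_self]; simpa using ha)⟩
      have h6 : c (a * q * a⁻¹) ∈ ch c P t := by
        rw [map_mul, map_mul, map_inv]
        exact h5
      rw [← hinv, mem_img, MulAut.inv_apply_self] at h6
      exact h6
    | succ i ih =>
      intro hi
      have hN' : ∀ a ∈ ch c P (t - 1 - i), a ∈ Subgroup.normalizer (ch c P t : Set G) := by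
        intro a ha
        refine Subgroup.mem_normalizer_iff.2 fun q => ⟨fun hq => ih (by omega) a ha q hq, fun hq => ?_⟩
        have := ih (by omega) a⁻¹ (inv_mem ha) _ hq
        simpa [mul_assoc] using this
      have hle : ch c P (t - 1 - (i + 1)) ≤ Subgroup.normalizer (ch c P t : Set G) := by
        rw [hjoin _ (by omega), show t - 1 - (i + 1) + 1 = t - 1 - i by omega]
        refine sup_le hN' fun b hb => ?_
        rw [mem_img, inv_inv] at hb
        have h7 := hN' _ hb
        refine Subgroup.mem_normalizer_iff.2 fun q => ?_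
        have h8 := Subgroup.mem_normalizer_iff.1 h7 (c q)
        have hc : ∀ z, z ∈ ch c P t ↔ c z ∈ ch c P t := fun z => by
          conv_rhs => rw [← hinv, mem_img, MulAut.inv_apply_self]
        rw [hc q, hc (b * q * b⁻¹), h8, map_mul, map_mul, map_inv]
      intro a ha q hq
      exact (Subgroup.mem_normalizer_iff.1 (hle ha) q).1 hq
  have hQbot : ch c P t = ⊥ := by
    refine hQ _ ?_ ?_ hinv
    · have hle : ∀ j, ch c P j ≤ P := fun j => by
        induction j with
        | zero => exact le_refl P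
        | succ j ih => exact (ch_succ_le c P j).trans ih
      exact hle t
    · intro a ha
      exact hnormal (t - 1) (by omega) a (by simpa [ch] using ha)
  refine ⟨t, hp, htpos, ?_, hjoin⟩
  have key : ∀ i, i ≤ t → Nat.card (ch c P (t - i)) = p ^ i := by
    intro i
    induction i with
    | zero => intro _; simp [hQbot]
    | succ i ih =>
      intro hi
      rw [card_step c P hp (hstep _).2 (hne _ (by omega)),
        show t - (i + 1) + 1 = t - i by omega, ih (by omega), pow_succ']
  intro j hj
  have := key (t - j) (by omega)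
  rwa [show t - (t - j) = j by omega] at this

section Windows

variable {c P}
variable (x : G)

/-- The conjugates of the generator. -/
def X (c : MulAut G) (x : G) (i : ℤ) : G := (c ^ i) x

/-- The subgroup generated by `X i` for `a ≤ i < b`. -/
def W (c : MulAut G) (x : G) (a b : ℤ) : Subgroup G :=
  Subgroup.closure {z | ∃ i, a ≤ i ∧ i < b ∧ z = X c x i}

theorem X_mem {a b i : ℤ} (h1 : a ≤ i) (h2 : i < b) : X c x i ∈ W c x a b :=
  Subgroup.subset_closure ⟨i, h1, h2, rfl⟩

theorem W_le {a b : ℤ} {H : Subgroup G} (h : ∀ i, a ≤ i → i < b → X c x i ∈ H) :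
    W c x a b ≤ H := by
  rw [W, Subgroup.closure_le]
  rintro _ ⟨i, h1, h2, rfl⟩
  exact h i h1 h2

theorem W_mono {a b a' b' : ℤ} (h1 : a' ≤ a) (h2 : b ≤ b') : W c x a b ≤ W c x a' b' :=
  W_le x fun _ hi1 hi2 => X_mem x (h1.trans hi1) (hi2.trans_le h2)

theorem X_shift (i j : ℤ) : (c ^ j) (X c x i) = X c x (i + j) := by
  rw [X, X, ← MulAut.mul_apply, ← zpow_add, add_comm]

theorem W_shift (a b j : ℤ) : img (c ^ j) (W c x a b) = W c x (a + j) (b + j) := by
  rw [img, W, W, MonoidHom.map_closure]
  congr 1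
  ext z
  constructor
  · rintro ⟨_, ⟨i, h1, h2, rfl⟩, rfl⟩
    exact ⟨i + j, by omega, by omega, X_shift x i j⟩
  · rintro ⟨i, h1, h2, rfl⟩
    refine ⟨_, ⟨i - j, by omega, by omega, rfl⟩, ?_⟩
    rw [MulEquiv.coe_toMonoidHom, X_shift, sub_add_cancel]

theorem commute_shift {i j d : ℤ} :
    Commute (X c x (i + d)) (X c x (j + d)) ↔ Commute (X c x i) (X c x j) := by
  rw [← X_shift x i d, ← X_shift x j d]
  exact ⟨fun h => by
    have := h.map (c ^ d)⁻¹.toMonoidHom
    simpa using this, fun h => h.map (c ^ d).toMonoidHom⟩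

theorem commute_of_window {z : G} {a b : ℤ} (hz : z ∈ W c x a b) {y : G}
    (h : ∀ i, a ≤ i → i < b → Commute (X c x i) y) : Commute z y := by
  have hle : W c x a b ≤ Subgroup.centralizer ({y} : Set G) :=
    W_le x fun i h1 h2 => Subgroup.mem_centralizer_singleton_iff.2 (h i h1 h2).eq
  exact Subgroup.mem_centralizer_singleton_iff.1 (hle hz)

end Windows

/-- Generators with windows of order `p ^ length`. -/
structure Gens (c : MulAut G) (P : Subgroup G) (p t : ℕ) (x : G) : Prop where
  prime : p.Prime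
  pos : 1 ≤ t
  top : W c x 0 t = P
  card : ∀ (a : ℤ) (k : ℕ), k ≤ t → Nat.card (W c x a (a + k)) = p ^ k

theorem Chain.exists_gens {t : ℕ} (h : Chain c P p t) : ∃ x, Gens c P p t x := by
  have hp := h.prime
  have hpos := h.pos
  haveI := Fact.mk hp
  have hc : Nat.card (ch c P (t - 1)) = p := by
    rw [h.card _ (by omega), show t - (t - 1) = 1 by omega, pow_one]
  obtain ⟨y, hy⟩ := (isCyclic_of_prime_card hc).exists_generator
  let x : G := (c ^ (-((t : ℤ) - 1))) y
  have hXy : X c x ((t : ℤ) - 1) = y := by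
    rw [X, ← MulAut.mul_apply, ← zpow_add, add_neg_cancel, zpow_zero]
    rfl
  have key : ∀ k : ℕ, 1 ≤ k → k ≤ t → ch c P (t - k) = W c x ((t : ℤ) - k) t := by
    intro k hk
    induction k, hk using Nat.le_induction with
    | base =>
      intro _
      refine le_antisymm (fun z hz => ?_) (W_le x fun i h1 h2 => ?_)
      · obtain ⟨m, hm⟩ := Subgroup.mem_zpowers_iff.1 (hy ⟨z, hz⟩)
        have : z = (y : G) ^ m := by
          have := congrArg Subtype.val hm
          simpa using this.symm
        rw [this, ← hXy]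
        exact zpow_mem (X_mem x (by push_cast; omega) (by omega)) m
      · obtain rfl : i = (t : ℤ) - 1 := by push_cast at h1; omega
        rw [hXy]
        exact y.2
    | succ k hk ih =>
      intro hkt
      have ih' := ih (by omega)
      rw [h.join _ (by omega), show t - (k + 1) + 1 = t - k by omega, ih',
        ← zpow_neg_one, W_shift x]
      refine le_antisymm (sup_le (W_mono x (by push_cast; omega) le_rfl)
        (W_mono x (by push_cast; omega) (by omega))) (W_le x fun i h1 h2 => ?_)
      by_cases hi : (t : ℤ) - k ≤ i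
      · exact Subgroup.mem_sup_left (X_mem x hi h2)
      · exact Subgroup.mem_sup_right (X_mem x (by push_cast at h1; omega) (by omega))
  refine ⟨x, hp, hpos, ?_, fun a k hk => ?_⟩
  · have := key t hpos le_rfl
    rw [Nat.sub_self, sub_self] at this
    exact this.symm
  · rcases Nat.eq_zero_or_pos k with rfl | hk0
    · rw [pow_zero, Subgroup.card_eq_one, eq_bot_iff]
      exact W_le x fun i h1 h2 => by push_cast at h2; omega
    · have hcard := h.card (t - k) (by omega)
      rw [key k hk0 hk, show t - (t - k) = k by omega] at hcard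
      have hs := W_shift (c := c) x ((t : ℤ) - k) t (a + k - t)
      rw [show (t : ℤ) - k + (a + k - t) = a by ring, show (t : ℤ) + (a + k - t) = a + k by ring] at hs
      rw [← hs, card_img, hcard]

namespace Gens

variable {c P} {t : ℕ} {x : G}

theorem card' (h : Gens c P p t x) {a b : ℤ} (h1 : a ≤ b) (h2 : b - a ≤ t) :
    Nat.card (W c x a b) = p ^ (b - a).toNat := by
  have := h.card a (b - a).toNat (by omega)
  rwa [show a + ((b - a).toNat : ℤ) = b by omega] at this

theorem not_mem (h : Gens c P p t x) {a b i : ℤ} (h1 : a ≤ b) (h2 : b + 1 - a ≤ t)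
    (hi : i = a - 1 ∨ i = b) : X c x i ∉ W c x a b := by
  intro hm
  have hp := h.prime
  rcases hi with rfl | rfl
  · have hle : W c x (a - 1) b ≤ W c x a b := W_le x fun j h3 h4 => by
      rcases eq_or_lt_of_le h3 with e | e
      · exact e ▸ hm
      · exact X_mem x (by omega) h4
    have hd := Nat.le_of_dvd Nat.card_pos (Subgroup.card_dvd_of_le hle)
    rw [h.card' (by omega) (by omega), h.card' h1 (by omega),
      Nat.pow_le_pow_iff_right hp.one_lt] at hd
    omega
  · have hle : W c x a (i + 1) ≤ W c x a i := W_le x fun j h3 h4 => by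
      rcases eq_or_lt_of_le (show j ≤ i by omega) with e | e
      · exact e ▸ hm
      · exact X_mem x h3 e
    have hd := Nat.le_of_dvd Nat.card_pos (Subgroup.card_dvd_of_le hle)
    rw [h.card' (by omega) (by omega), h.card' h1 (by omega),
      Nat.pow_le_pow_iff_right hp.one_lt] at hd
    omega

theorem X_ne_one (h : Gens c P p t x) (i : ℤ) : X c x i ≠ 1 := fun e =>
  h.not_mem (a := i) (b := i) le_rfl (by have := h.pos; omega) (Or.inr rfl) (e ▸ one_mem _)

theorem comm_mem (h : Gens c P p t x) {a b : ℤ} (hab : a < b) (hw : b + 1 - a ≤ t) :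
    X c x b * X c x a * (X c x b)⁻¹ * (X c x a)⁻¹ ∈ W c x (a + 1) b := by
  haveI := Fact.mk h.prime
  have hp := h.prime
  -- the two maximal subgroups of the window are normalised by the window
  have hn : ∀ A : Subgroup G, A ≤ W c x a (b + 1) → Nat.card A = p ^ (b - a).toNat →
      ∀ u ∈ W c x a (b + 1), ∀ v ∈ A, u * v * u⁻¹ ∈ A := by
    intro A hA hAc u hu v hv
    have hBc := h.card' (a := a) (b := b + 1) (by omega) (by omega)
    have hW : IsPGroup p ↥(W c x a (b + 1)) := IsPGroup.of_card hBc
    have hAn : (A.subgroupOf (W c x a (b + 1))).Normal := by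
      refine Subgroup.normal_of_index_eq_minFac_card ?_
      have hidx := Subgroup.card_mul_index (A.subgroupOf (W c x a (b + 1)))
      rw [Nat.card_congr (Subgroup.subgroupOfEquivOfLe hA).toEquiv, hAc, hBc,
        show (b + 1 - a).toNat = (b - a).toNat + 1 by omega, pow_succ] at hidx
      rw [Nat.eq_of_mul_eq_mul_left (pow_pos hp.pos _) hidx, hBc,
        Nat.Prime.pow_minFac hp (by omega)]
    exact hAn.conj_mem ⟨v, hA hv⟩ hv ⟨u, hu⟩
  have hA1 : W c x a b ≤ W c x a (b + 1) := W_mono x le_rfl (by omega)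
  have hA2 : W c x (a + 1) (b + 1) ≤ W c x a (b + 1) := W_mono x (by omega) le_rfl
  have hc1 : Nat.card (W c x a b) = p ^ (b - a).toNat := h.card' hab.le (by omega)
  have hc2 : Nat.card (W c x (a + 1) (b + 1)) = p ^ (b - a).toNat := by
    rw [h.card' (by omega) (by omega)]
    congr 1
    omega
  have ha : X c x a ∈ W c x a b := X_mem x le_rfl hab
  have hb : X c x b ∈ W c x (a + 1) (b + 1) := X_mem x (by omega) (by omega)
  have m1 : X c x b * X c x a * (X c x b)⁻¹ * (X c x a)⁻¹ ∈ W c x a b :=
    mul_mem (hn _ hA1 hc1 _ (hA2 hb) _ ha) (inv_mem ha)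
  have m2 : X c x b * X c x a * (X c x b)⁻¹ * (X c x a)⁻¹ ∈ W c x (a + 1) (b + 1) := by
    have := mul_mem hb (hn _ hA2 hc2 _ (hA1 ha) _ (inv_mem hb))
    simpa [mul_assoc] using this
  -- the intersection is the inner window
  have hK : W c x (a + 1) b ≤ W c x a b ⊓ W c x (a + 1) (b + 1) :=
    le_inf (W_mono x (by omega) le_rfl) (W_mono x le_rfl (by omega))
  by_contra hcon
  have hlt : ¬ W c x a b ⊓ W c x (a + 1) (b + 1) ≤ W c x (a + 1) b := fun hh => hcon (hh ⟨m1, m2⟩)
  have hd := Subgroup.card_dvd_of_le hK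
  have hd2 := Subgroup.card_dvd_of_le
    (inf_le_left : W c x a b ⊓ W c x (a + 1) (b + 1) ≤ W c x a b)
  rw [hc1] at hd2
  obtain ⟨m, hm, hmc⟩ := (Nat.dvd_prime_pow hp).1 hd2
  rw [h.card' (by omega) (by omega), hmc] at hd
  have hm' : (b - (a + 1)).toNat ≤ m := (Nat.pow_dvd_pow_iff_le_right hp.one_lt).1 hd
  rcases (show m = (b - (a + 1)).toNat ∨ m = (b - a).toNat by omega) with e | e
  · exact hlt (Subgroup.eq_of_le_of_card_ge hK (by rw [hmc, e, h.card' (by omega) (by omega)])).ge
  · have : W c x a b ≤ W c x (a + 1) (b + 1) :=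
      (Subgroup.eq_of_le_of_card_ge inf_le_left (by rw [hmc, e, hc1])).ge.trans inf_le_right
    exact h.not_mem (a := a + 1) (b := b + 1) (by omega) (by omega) (Or.inl (by ring)) (this ha)

/-- `e` is the length of the commuting windows. -/
theorem two_t_le (h : Gens c P p t x) {e : ℕ} (he1 : 1 ≤ e) (het : e < t)
    (hcom : ∀ d : ℕ, d < e → Commute (X c x 0) (X c x d))
    (hne : ¬ Commute (X c x 0) (X c x e)) : 2 * t ≤ 3 * e := by
  classical
  haveI := Fact.mk h.prime
  have hp := h.prime
  have hC : ∀ i j : ℤ, i - j < e → j - i < e → Commute (X c x i) (X c x j) := by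
    intro i j h1 h2
    rcases le_total i j with h3 | h3
    · have := (commute_shift x (d := i)).2 (hcom (j - i).toNat (by omega))
      rwa [zero_add, show ((j - i).toNat : ℤ) + i = j by omega] at this
    · have := (commute_shift x (d := j)).2 (hcom (i - j).toNat (by omega))
      rw [zero_add, show ((i - j).toNat : ℤ) + j = i by omega] at this
      exact this.symm
  have hnd : ∀ i : ℤ, ¬ Commute (X c x i) (X c x (i + e)) := fun i hh => hne (by
    have := (commute_shift x (i := 0) (j := (e : ℤ)) (d := i)).1 (by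
      rwa [zero_add, add_comm (e : ℤ) i])
    exact this)
  set x0 := X c x 0 with hx0
  set xe := X c x e with hxe
  set y := xe * x0 * xe⁻¹ * x0⁻¹ with hy
  have hy1 : y ≠ 1 := fun hh => hne (by
    rw [hy, mul_inv_eq_one, mul_inv_eq_iff_eq_mul] at hh
    exact hh.symm)
  have hymem : y ∈ W c x 1 e := by
    have := h.comm_mem (a := 0) (b := e) (by omega) (by omega)
    simpa [hy, hxe, hx0] using this
  have hex : ∀ r : ℤ, ∀ z : ℤ, r < z → z ≤ e → 0 ≤ r → ∀ w ∈ W c x r z,
      (∃ a : ℤ, ∃ v ∈ W c x (r + 1) z, w = X c x r ^ a * v) ∧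
      (∃ v ∈ W c x r (z - 1), ∃ a : ℤ, w = v * X c x (z - 1) ^ a) := by
    intro r z hrz hze hr w hw
    have hnorm : ∀ (i : ℤ) (a b : ℤ), r ≤ i → i < z → r ≤ a → b ≤ z →
        Subgroup.zpowers (X c x i) ≤ Subgroup.normalizer (W c x a b : Set G) := by
      intro i a b h1 h2 h3 h4
      refine Subgroup.zpowers_le.2 (Subgroup.mem_normalizer_iff.2 fun v => ?_)
      have hcm : ∀ u ∈ W c x a b, Commute u (X c x i) := fun u hu =>
        commute_of_window x hu fun j hj1 hj2 => hC j i (by omega) (by omega)
      constructor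
      · intro hv
        rw [(hcm v hv).symm.eq, mul_inv_cancel_right]
        exact hv
      · intro hv
        have h5 := (hcm _ hv).eq
        rw [inv_mul_cancel_right] at h5
        rwa [mul_left_cancel h5.symm] at hv
    constructor
    · have hle : W c x r z ≤ Subgroup.zpowers (X c x r) ⊔ W c x (r + 1) z := W_le x fun i h1 h2 => by
        rcases eq_or_lt_of_le h1 with e | e
        · exact e ▸ Subgroup.mem_sup_left (Subgroup.mem_zpowers _)
        · exact Subgroup.mem_sup_right (X_mem x (by omega) h2)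
      have hw' := hle hw
      rw [← SetLike.mem_coe, Subgroup.coe_mul_of_left_le_normalizer_right _ _
        (hnorm r (r + 1) z le_rfl hrz (by omega) le_rfl)] at hw'
      obtain ⟨_, ⟨a, rfl⟩, v, hv, rfl⟩ := hw'
      exact ⟨a, v, hv, rfl⟩
    · have hle : W c x r z ≤ W c x r (z - 1) ⊔ Subgroup.zpowers (X c x (z - 1)) :=
        W_le x fun i h1 h2 => by
          rcases eq_or_lt_of_le (show i ≤ z - 1 by omega) with e | e
          · exact e ▸ Subgroup.mem_sup_right (Subgroup.mem_zpowers _)
          · exact Subgroup.mem_sup_left (X_mem x h1 e)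
      have hw' := hle hw
      rw [← SetLike.mem_coe, Subgroup.coe_mul_of_right_le_normalizer_left _ _
        (hnorm (z - 1) r (z - 1) (by omega) (by omega) le_rfl (by omega))] at hw'
      obtain ⟨v, hv, _, ⟨a, rfl⟩, rfl⟩ := hw'
      exact ⟨v, hv, a, rfl⟩
  -- the greatest left end
  let S : Finset ℕ := (Finset.range e).filter fun r => 1 ≤ r ∧ y ∈ W c x r e
  have hS : S.Nonempty := by
    by_cases he : e = 1
    · exfalso
      subst he
      have : W c x 1 (1 : ℕ) ≤ ⊥ := W_le x fun i h1 h2 => by push_cast at h2; omega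
      exact hy1 (this hymem)
    · exact ⟨1, Finset.mem_filter.2 ⟨Finset.mem_range.2 (by omega), le_rfl, by simpa using hymem⟩⟩
  set r := S.max' hS with hr
  obtain ⟨hre, hr1, hyr⟩ := Finset.mem_filter.1 (S.max'_mem hS)
  rw [Finset.mem_range, ← hr] at hre
  rw [← hr] at hr1 hyr
  have hrmax : y ∉ W c x ((r : ℤ) + 1) e := fun hh => by
    by_cases hlt : r + 1 < e
    · have := S.le_max' (r + 1) (Finset.mem_filter.2 ⟨Finset.mem_range.2 hlt, by omega, by
        push_cast; exact hh⟩)
      omega
    · have : W c x ((r : ℤ) + 1) e ≤ ⊥ := W_le x fun i h1 h2 => by omega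
      exact hy1 (this hh)
  -- the least right end
  let T : Finset ℕ := (Finset.Ico r e).filter fun s : ℕ => y ∈ W c x r ((s : ℤ) + 1)
  have hT : T.Nonempty := ⟨e - 1, Finset.mem_filter.2 ⟨Finset.mem_Ico.2 ⟨by omega, by omega⟩, by
    rwa [show ((e - 1 : ℕ) : ℤ) + 1 = e by omega]⟩⟩
  set s := T.min' hT with hs
  obtain ⟨hsI, hys⟩ := Finset.mem_filter.1 (T.min'_mem hT)
  rw [Finset.mem_Ico, ← hs] at hsI
  rw [← hs] at hys
  have hsmin : y ∉ W c x (r : ℤ) s := fun hh => by
    by_cases hlt : r < s
    · have := T.min'_le (s - 1) (Finset.mem_filter.2 ⟨Finset.mem_Ico.2 ⟨by omega, by omega⟩, by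
        rwa [show ((s - 1 : ℕ) : ℤ) + 1 = s by omega]⟩)
      omega
    · have : W c x (r : ℤ) s ≤ ⊥ := W_le x fun i h1 h2 => by omega
      exact hy1 (this hh)
  have hunit : ∀ i : ℤ, ∀ a : ℤ, X c x i ^ a ≠ 1 → ∀ z : G,
      Commute (X c x i ^ a) z → Commute (X c x i) z := by
    intro i a ha z hz
    have hc : Nat.card (Subgroup.zpowers (X c x i)) = p := by
      have hW : W c x i (i + 1) = Subgroup.zpowers (X c x i) := le_antisymm
        (W_le x fun j h1 h2 => by rw [show j = i by omega]; exact Subgroup.mem_zpowers _)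
        (Subgroup.zpowers_le.2 (X_mem x le_rfl (by omega)))
      rw [← hW, h.card' (by omega) (by have := h.pos; omega)]
      simp
    have hle : Subgroup.zpowers (X c x i ^ a) ≤ Subgroup.zpowers (X c x i) :=
      Subgroup.zpowers_le.2 ⟨a, rfl⟩
    have hd := Subgroup.card_dvd_of_le hle
    rw [hc] at hd
    have heq : Subgroup.zpowers (X c x i ^ a) = Subgroup.zpowers (X c x i) := by
      rcases (Nat.dvd_prime hp).1 hd with hd | hd
      · exact absurd ((Subgroup.zpowers_eq_bot).1 (Subgroup.card_eq_one.1 hd)) ha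
      · exact Subgroup.eq_of_le_of_card_ge hle (by rw [hd, hc])
    obtain ⟨m, hm⟩ := Subgroup.mem_zpowers_iff.1 (heq ▸ Subgroup.mem_zpowers (X c x i) :
      X c x i ∈ Subgroup.zpowers (X c x i ^ a))
    rw [← hm]
    exact hz.zpow_left m
  have hright : t ≤ r + e := by
    by_contra hlt
    set z := X c x ((r : ℤ) + e) with hz
    have hze : Commute z xe := hC _ _ (by omega) (by omega)
    set d := z * x0 * z⁻¹ * x0⁻¹ with hd
    have hdmem : d ∈ W c x 1 ((r : ℤ) + e) := by
      have := h.comm_mem (a := 0) (b := (r : ℤ) + e) (by omega) (by omega)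
      simpa [hd, hz, hx0] using this
    have hde : Commute d xe := commute_of_window x hdmem fun j h1 h2 => hC _ _ (by omega) (by omega)
    have hdy : Commute d y := commute_of_window x hdmem fun j h1 h2 =>
      (commute_of_window x hyr fun i h3 h4 => hC _ _ (by omega) (by omega)).symm
    have hfix : z * y * z⁻¹ = y := by
      calc z * y * z⁻¹ = (z * xe * z⁻¹) * (z * x0 * z⁻¹) * (z * xe * z⁻¹)⁻¹ * (z * x0 * z⁻¹)⁻¹ := by
            rw [hy]; group
        _ = xe * (d * x0) * xe⁻¹ * (d * x0)⁻¹ := by
            rw [hze.eq, mul_inv_cancel_right, hd, inv_mul_cancel_right]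
        _ = (xe * d * xe⁻¹) * y * d⁻¹ := by rw [hy]; group
        _ = y := by
            rw [hde.symm.eq, mul_inv_cancel_right, hdy.eq, mul_inv_cancel_right]
    obtain ⟨a, v, hv, hyv⟩ := (hex r ((s : ℤ) + 1) (by omega) (by omega) (by omega) y hys).1
    have ha : X c x r ^ a ≠ 1 := fun hh => hrmax (by
      rw [hyv, hh, one_mul]
      exact W_mono x le_rfl (by omega) hv)
    have hvz : Commute v z := commute_of_window x hv fun i h3 h4 => hC _ _ (by omega) (by omega)
    have hyz : Commute y z := (mul_inv_eq_iff_eq_mul.1 hfix).symm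
    have := hyz.mul_left hvz.inv_left
    rw [hyv, mul_inv_cancel_right] at this
    exact hnd r (hunit _ a ha _ this)
  have hleft : t + s ≤ 2 * e := by
    by_contra hlt
    set z := X c x ((s : ℤ) - e) with hz
    have hz0 : Commute z x0 := hC _ _ (by omega) (by omega)
    set d := xe * z * xe⁻¹ * z⁻¹ with hd
    have hdmem : d ∈ W c x ((s : ℤ) - e + 1) e := by
      have := h.comm_mem (a := (s : ℤ) - e) (b := e) (by omega) (by omega)
      simpa [hd, hz, hxe] using this
    have hd0 : Commute d x0 := commute_of_window x hdmem fun j h1 h2 => hC _ _ (by omega) (by omega)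
    have hdy : Commute d y := commute_of_window x hdmem fun j h1 h2 =>
      (commute_of_window x hys fun i h3 h4 => hC _ _ (by omega) (by omega)).symm
    have hfix : z * y * z⁻¹ = y := by
      calc z * y * z⁻¹ = (z * xe * z⁻¹) * (z * x0 * z⁻¹) * (z * xe * z⁻¹)⁻¹ * (z * x0 * z⁻¹)⁻¹ := by
            rw [hy]; group
        _ = (d⁻¹ * xe) * x0 * (d⁻¹ * xe)⁻¹ * x0⁻¹ := by
            rw [hz0.eq, mul_inv_cancel_right, show z * xe * z⁻¹ = d⁻¹ * xe by rw [hd]; group]
        _ = d⁻¹ * y * (x0 * d * x0⁻¹) := by rw [hy]; group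
        _ = y := by
            rw [hd0.symm.eq, mul_inv_cancel_right, mul_assoc, hdy.symm.eq, inv_mul_cancel_left]
    obtain ⟨v, hv, a, hyv⟩ := (hex r ((s : ℤ) + 1) (by omega) (by omega) (by omega) y hys).2
    rw [show (s : ℤ) + 1 - 1 = s by ring] at hv hyv
    have ha : X c x s ^ a ≠ 1 := fun hh => hsmin (by
      rw [hyv, hh, mul_one]
      exact hv)
    have hvz : Commute v z := commute_of_window x hv fun i h3 h4 => hC _ _ (by omega) (by omega)
    have hyz : Commute y z := (mul_inv_eq_iff_eq_mul.1 hfix).symm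
    have := hvz.inv_left.mul_left hyz
    rw [hyv, inv_mul_cancel_left] at this
    refine hnd ((s : ℤ) - e) ?_
    rw [sub_add_cancel]
    exact (hunit _ a ha _ this).symm
  omega

end Gens

/-- The order of `P` is `p ^ t` with `t ≤ 3 n` and `t ≠ 3 n - 1`. -/
theorem bound {t n : ℕ} {x : G} (h : Gens c P p t x) (hn : 1 ≤ n)
    (hcen : ∀ v ∈ P, (∀ i, 0 ≤ i → i < (t : ℤ) + n → Commute v (X c x i)) → v = 1) :
    t ≤ 3 * n ∧ t ≠ 3 * n - 1 := by
  classical
  have hpos := h.pos
  have key : ∀ e : ℕ, 1 ≤ e → e ≤ t → (∀ d : ℕ, d < e → Commute (X c x 0) (X c x d)) →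
      2 * t ≤ 3 * e → t ≤ 3 * n ∧ t ≠ 3 * n - 1 := by
    intro e he1 het hcom hle
    by_cases hj : e ≤ n ∨ 2 * e ≤ t + n
    · rcases hj with hj | hj <;> constructor <;> omega
    · exfalso
      push Not at hj
      obtain ⟨j, hj1, hj2, hj3⟩ : ∃ j : ℕ, j < t ∧ j < e ∧ t + n ≤ j + e :=
        ⟨t + n - e, by omega, by omega, by omega⟩
      refine h.X_ne_one j (hcen _ ?_ fun i hi1 hi2 => ?_)
      · rw [← h.top]
        exact X_mem x (by omega) (by omega)
      · rcases le_total (j : ℤ) i with h3 | h3
        · have := (commute_shift x (d := (j : ℤ))).2 (hcom (i - j).toNat (by omega))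
          rwa [zero_add, show ((i - j).toNat : ℤ) + j = i by omega] at this
        · have := (commute_shift x (d := i)).2 (hcom ((j : ℤ) - i).toNat (by omega))
          rw [zero_add, show (((j : ℤ) - i).toNat : ℤ) + i = j by omega] at this
          exact this.symm
  by_cases hall : ∀ d : ℕ, d < t → Commute (X c x 0) (X c x d)
  · exact key t hpos le_rfl hall (by omega)
  · push Not at hall
    obtain ⟨e0, he0, hne0⟩ := hall
    have hex : ∃ e : ℕ, ¬ Commute (X c x 0) (X c x e) := ⟨e0, hne0⟩
    have hspec := Nat.find_spec hex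
    have hle := Nat.find_min' hex hne0
    have he1 : 1 ≤ Nat.find hex := by
      by_contra hh
      rw [show Nat.find hex = 0 by omega] at hspec
      exact hspec (Commute.refl _)
    exact key _ he1 (by omega) (fun d hd => not_not.1 (Nat.find_min hex hd))
      (h.two_t_le he1 (by omega) (fun d hd => not_not.1 (Nat.find_min hex hd)) hspec)

end CfsgLib.ClassK.IsoSub
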