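import Mathlib
import Cfsg.Agent.Lib.Classical.PalinCount

/-!
Codes for self-reciprocal polynomials with signs at the roots `±1`.
-/

set_option autoImplicit false

namespace CfsgLib.ClassK.IsoPoly

open Polynomial CfsgLib.Classical CfsgLib.Classical.SemiPalin

variable {F : Type*} [Field F]

/-- Even degree palindromic monic polynomials of degree `a`. -/
def IsPalin (a : ℕ) (P : F[X]) : Prop := P.Monic ∧ P.natDegree = a ∧ Even a ∧ P.reverse = P

/-- Self-reciprocal monic polynomials. -/
def IsRecip (f : F[X]) : Prop := f.Monic ∧ f.coeff 0 ≠ 0 ∧ tilde (RingHom.id F) f = f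

theorem card_palin_le [Fintype F] (a : ℕ) :
    Finite {P : F[X] // IsPalin a P} ∧
      Nat.card {P : F[X] // IsPalin a P} ≤ if Even a then Fintype.card F ^ (a / 2) else 0 := by
  have hinj : Function.Injective (fun (P : {P : F[X] // IsPalin a P}) (j : Fin (a / 2)) => P.1.coeff ((j : ℕ) + 1)) := by
    intro P P' e
    refine Subtype.ext (Polynomial.ext fun k => ?_)
    obtain ⟨⟨hm, hd, he, hr⟩, hm', hd', -, hr'⟩ := P.2, P'.2
    have key : ∀ k, k ≤ a / 2 → P.1.coeff k = P'.1.coeff k := by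
      intro k hk
      rcases k with _ | k
      · rw [coeff_zero_of_rev hr hm, coeff_zero_of_rev hr' hm']
      · exact congrFun e ⟨k, by omega⟩
    rcases le_or_gt k (a / 2) with hk | hk
    · exact key k hk
    rcases le_or_gt k a with hka | hka
    · obtain ⟨b, rfl⟩ := he
      rw [← coeff_rev hr (i := k) (by omega), ← coeff_rev hr' (i := k) (by omega), hd, hd']
      exact key _ (by omega)
    · rw [coeff_eq_zero_of_natDegree_lt (by omega), coeff_eq_zero_of_natDegree_lt (by omega)]
  refine ⟨Finite.of_injective _ hinj, ?_⟩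
  split_ifs with h
  · refine (Nat.card_le_card_of_injective _ hinj).trans ?_
    rw [Nat.card_fun, Nat.card_fin, Nat.card_eq_fintype_card]
  · haveI : IsEmpty {P : F[X] // IsPalin a P} := ⟨fun P => h P.2.2.2.1⟩
    simp

theorem tilde_id_reverse {g : F[X]} (h0 : g.coeff 0 ≠ 0) (h : tilde (RingHom.id F) g = g) :
    g.reverse = C (g.coeff 0) * g := by
  have e : C (g.coeff 0) * tilde (RingHom.id F) g = C (g.coeff 0) * g := by rw [h]
  rw [← e, tilde, srev, Polynomial.map_id, RingHom.id_apply, ← mul_assoc, ← C_mul, mul_inv_cancel₀ h0, C_1, one_mul]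

theorem reverse_sq {c : F} (hc : c * c = 1) :
    ((X - C c : F[X]) * (X - C c)).reverse = (X - C c) * (X - C c) := by
  have h1 : (X - C c : F[X]).reverse = 1 - C c * X := by
    rw [reverse, natDegree_X_sub_C, reflect_sub, reflect_C, pow_one]
    congr 1
    simpa using reflect_monomial (R := F) 1 1
  have hC : (C c : F[X]) * C c = 1 := by rw [← C_mul, hc, C_1]
  rw [reverse_mul_of_domain, h1]
  linear_combination (X ^ 2 - 1) * hC

theorem tilde_X_sub_C {c : F} (hc : c * c = 1) : tilde (RingHom.id F) (X - C c : F[X]) = X - C c := by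
  have h1 : (X - C c : F[X]).reverse = 1 - C c * X := by
    rw [reverse, natDegree_X_sub_C, reflect_sub, reflect_C, pow_one]
    congr 1
    simpa using reflect_monomial (R := F) 1 1
  have hc0 : (-c)⁻¹ = -c := inv_eq_of_mul_eq_one_right (by rw [neg_mul_neg, hc])
  rw [tilde, srev, Polynomial.map_id, RingHom.id_apply, h1, coeff_sub, coeff_X_zero, coeff_C_zero, zero_sub,
    hc0, map_neg]
  have hC : (C c : F[X]) * C c = 1 := by rw [← C_mul, hc, C_1]
  linear_combination (X : F[X]) * hC

/-- Splitting off the roots `±1`. -/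
theorem recip_split (h2 : (2 : F) ≠ 0) {f : F[X]} (hf : IsRecip f) :
    ∃ (g : F[X]) (i j : ℕ), i = rootMultiplicity 1 f ∧ j = rootMultiplicity (-1) f ∧ g.Monic ∧
      Even g.natDegree ∧ g.reverse = g ∧ f = (X - C 1) ^ i * (X - C (-1)) ^ j * g := by
  obtain ⟨hm, h0, ht⟩ := hf
  have hne : (1 : F) ≠ -1 := fun h => h2 (by linear_combination h)
  obtain ⟨g₁, hg₁, hg₁n⟩ := exists_eq_pow_rootMultiplicity_mul_and_not_dvd f hm.ne_zero 1
  have hg₁0 : g₁ ≠ 0 := fun h => hg₁n (h ▸ dvd_zero _)
  obtain ⟨g, hg, hgn⟩ := exists_eq_pow_rootMultiplicity_mul_and_not_dvd g₁ hg₁0 (-1)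
  have hj : rootMultiplicity (-1) f = rootMultiplicity (-1) g₁ := by
    conv_lhs => rw [hg₁, rootMultiplicity_mul (mul_ne_zero (pow_ne_zero _ (X_sub_C_ne_zero _)) hg₁0),
      rootMultiplicity_eq_zero (p := (X - C 1) ^ _) (by simp [IsRoot, hne.symm, sub_eq_zero]), zero_add]
  set i := rootMultiplicity 1 f
  set j := rootMultiplicity (-1) g₁
  have hfg : f = (X - C 1) ^ i * (X - C (-1)) ^ j * g := by rw [hg₁, hg, mul_assoc]
  have hgm : g.Monic := by
    have hp := ((monic_X_sub_C (1 : F)).pow i).mul ((monic_X_sub_C (-1 : F)).pow j)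
    exact hp.of_mul_monic_left (hfg ▸ hm)
  have hg0 : g.coeff 0 ≠ 0 := by
    rw [hfg, mul_coeff_zero] at h0
    exact right_ne_zero_of_mul h0
  have htg : tilde (RingHom.id F) g = g := by
    have hp : ∀ (c : F) (m : ℕ), c * c = 1 →
        tilde (RingHom.id F) ((X - C c) ^ m) = (X - C c) ^ m := by
      intro c m hc
      induction m with
      | zero =>
        rw [pow_zero, tilde, srev, Polynomial.map_id, coeff_one_zero, RingHom.id_apply, inv_one, C_1, one_mul,
          ← C_1, Polynomial.reverse_C]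
      | succ m ih => rw [pow_succ, tilde_mul, ih, tilde_X_sub_C hc]
    have e := congrArg (tilde (RingHom.id F)) hfg
    rw [ht, tilde_mul, tilde_mul, hp _ _ (one_mul 1), hp _ _ (by norm_num)] at e
    exact (mul_left_cancel₀ (mul_ne_zero (pow_ne_zero _ (X_sub_C_ne_zero _)) (pow_ne_zero _ (X_sub_C_ne_zero _)))
      (hfg.symm.trans e)).symm
  have h1g : g.eval 1 ≠ 0 := fun h => hg₁n (hg ▸ (dvd_iff_isRoot.2 h).mul_left _)
  have hm1g : g.eval (-1) ≠ 0 := fun h => hgn (dvd_iff_isRoot.2 h)
  have hrev := tilde_id_reverse hg0 htg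
  have hc1 : g.coeff 0 = 1 := by
    let : Invertible (1 : F) := invertibleOne
    have h4 := eval₂_reverse_mul_pow (RingHom.id F) 1 g
    rw [invOf_one, hrev, eval₂_id, eval₂_id, eval_mul, eval_C, one_pow, mul_one] at h4
    exact mul_right_cancel₀ h1g (h4.trans (one_mul _).symm)
  rw [hc1, C_1, one_mul] at hrev
  exact ⟨g, i, j, rfl, hj.symm, hgm, even_natDegree_of_eval_ne_zero hrev hm1g, hrev, hfg⟩

theorem palin_of_even {g : F[X]} (hg : g.Monic) (he : Even g.natDegree) (hr : g.reverse = g) (i j : ℕ) :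
    IsPalin (2 * i + 2 * j + g.natDegree) ((X - C 1) ^ (2 * i) * (X - C (-1)) ^ (2 * j) * g) := by
  refine ⟨(((monic_X_sub_C _).pow _).mul ((monic_X_sub_C _).pow _)).mul hg, ?_,
    ((even_two_mul i).add (even_two_mul j)).add he, ?_⟩
  · rw [((((monic_X_sub_C (1 : F)).pow _)).mul ((monic_X_sub_C _).pow _)).natDegree_mul hg,
      ((monic_X_sub_C (1 : F)).pow _).natDegree_mul ((monic_X_sub_C _).pow _), natDegree_pow, natDegree_pow,
      natDegree_X_sub_C, natDegree_X_sub_C, mul_one, mul_one]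
  · rw [reverse_mul_of_domain, reverse_mul_of_domain, hr, pow_mul, pow_mul, pow_two, pow_two,
      PalinCount.reverse_pow', PalinCount.reverse_pow', reverse_sq (one_mul (1 : F)),
      reverse_sq (show (-1 : F) * -1 = 1 by norm_num)]

/-- Even multiplicities at `±1` force a palindromic polynomial. -/
theorem palin_of_recip (h2 : (2 : F) ≠ 0) {f : F[X]} (hf : IsRecip f) (h1 : Even (rootMultiplicity 1 f))
    (hm1 : Even (rootMultiplicity (-1) f)) : IsPalin f.natDegree f := by
  obtain ⟨g, i, j, hi, hj, hg, he, hr, hfg⟩ := recip_split h2 hf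
  obtain ⟨i', hi'⟩ := h1
  obtain ⟨j', hj'⟩ := hm1
  obtain rfl : i = 2 * i' := by omega
  obtain rfl : j = 2 * j' := by omega
  have := palin_of_even hg he hr i' j'
  rw [← hfg] at this
  rwa [← this.2.1] at this

/-- The exponents of a code. -/
def dv : Fin 4 → ℕ := ![0, 1, 1, 2]

/-- The code of a multiplicity with a sign. -/
def code (m : ℕ) (s : Bool) : Fin 4 :=
  if m = 0 then 0 else if Even m then (if s then 3 else 0) else (if s then 2 else 1)

theorem code_spec (m : ℕ) (s : Bool) : ∃ i, m = dv (code m s) + 2 * i := by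
  unfold code
  split_ifs with h1 h2
  · exact ⟨0, by simp [dv, h1]⟩
  · obtain ⟨k, hk⟩ := h2; exact ⟨k - 1, by show m = 2 + _; omega⟩
  · obtain ⟨k, hk⟩ := h2; exact ⟨k, by show m = 0 + _; omega⟩
  · obtain ⟨k, hk⟩ := Nat.not_even_iff_odd.1 h2; exact ⟨k, by show m = 1 + _; omega⟩
  · obtain ⟨k, hk⟩ := Nat.not_even_iff_odd.1 h2; exact ⟨k, by show m = 1 + _; omega⟩

theorem code_inj {m : ℕ} {s s' : Bool} (hm : m ≠ 0) (h : code m s = code m s') : s = s' := by
  unfold code at h
  rw [if_neg hm, if_neg hm] at h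
  cases s <;> cases s' <;> split_ifs at h <;> simp_all

/-- The code of a signed self-reciprocal polynomial. -/
theorem exists_code (h2 : (2 : F) ≠ 0) {f : F[X]} (hf : IsRecip f) (s : Bool × Bool) :
    ∃ P : F[X], dv (code (rootMultiplicity 1 f) s.1) + dv (code (rootMultiplicity (-1) f) s.2) ≤ f.natDegree ∧
      IsPalin (f.natDegree - dv (code (rootMultiplicity 1 f) s.1) - dv (code (rootMultiplicity (-1) f) s.2)) P ∧
      f = (X - C 1) ^ dv (code (rootMultiplicity 1 f) s.1) *
        (X - C (-1)) ^ dv (code (rootMultiplicity (-1) f) s.2) * P := by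
  obtain ⟨g, i, j, hi, hj, hg, he, hr, hfg⟩ := recip_split h2 hf
  rw [← hi, ← hj]
  obtain ⟨i', hi'⟩ := code_spec i s.1
  obtain ⟨j', hj'⟩ := code_spec j s.2
  generalize dv (code i s.1) = di at hi' ⊢
  generalize dv (code j s.2) = dj at hj' ⊢
  have hd : f.natDegree = i + j + g.natDegree := by
    rw [hfg, (((monic_X_sub_C (1 : F)).pow _).mul ((monic_X_sub_C _).pow _)).natDegree_mul hg,
      ((monic_X_sub_C (1 : F)).pow _).natDegree_mul ((monic_X_sub_C _).pow _), natDegree_pow, natDegree_pow,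
      natDegree_X_sub_C, natDegree_X_sub_C, mul_one, mul_one]
  refine ⟨(X - C 1) ^ (2 * i') * (X - C (-1)) ^ (2 * j') * g, by omega, ?_, ?_⟩
  · rw [show f.natDegree - di - dj = 2 * i' + 2 * j' + g.natDegree by omega]
    exact palin_of_even hg he hr i' j'
  · rw [hfg, hi', hj', pow_add, pow_add]
    ring

end CfsgLib.ClassK.IsoPoly
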