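import Cfsg.Agent.Lib.ClassK.FormLevel
import Cfsg.Agent.Lib.ClassK.FormCongr
import Cfsg.Agent.Lib.ClassK.IsoPoly
import Cfsg.Agent.Lib.Classical.UnipUnitary
import Cfsg.Agent.Lib.KnownB.ClassData

/-!
Classes of the isometry group of an `ε`-symmetric form (odd characteristic): the polynomial tuple is
self-reciprocal and the signs of the layer forms determine the class; a weighted count.
-/

set_option autoImplicit false

namespace CfsgLib.ClassK.IsoData

open Matrix Polynomial Finset CfsgLib.Classical CfsgLib.Classical.SemiPalin CfsgLib.KnownB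
  CfsgLib.KnownB.GLBlocks CfsgLib.KnownB.GLClass CfsgLib.KnownB.ClassNum CfsgLib.ClassK.FormLayers
  CfsgLib.ClassK.FormLevel CfsgLib.ClassK.IsoPoly
open scoped Matrix

variable {F : Type*} [Field F] {n : ℕ}

local notation "Mn" => Matrix (Fin n) (Fin n) F
local notation "idF" => RingHom.id F

/-- The isometry group of the form with Gram matrix `J`. -/
def isoGroup (J : Matrix (Fin n) (Fin n) F) : Subgroup (GL (Fin n) F) where
  carrier := {A | (A : Mn)ᵀ * J * (A : Mn) = J}
  mul_mem' {A B} hA hB := by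
    simp only [Set.mem_setOf_eq] at *
    calc ((A * B : GL (Fin n) F) : Mn)ᵀ * J * ((A * B : GL (Fin n) F) : Mn)
        = (B : Mn)ᵀ * ((A : Mn)ᵀ * J * (A : Mn)) * (B : Mn) := by
          rw [Units.val_mul, transpose_mul]; simp only [Matrix.mul_assoc]
      _ = J := by rw [hA, hB]
  one_mem' := by simp
  inv_mem' {A} hA := by
    simp only [Set.mem_setOf_eq] at *
    calc ((A⁻¹ : GL (Fin n) F) : Mn)ᵀ * J * ((A⁻¹ : GL (Fin n) F) : Mn)
        = (((A : Mn) * ((A⁻¹ : GL (Fin n) F) : Mn))ᵀ) * J * ((A : Mn) * ((A⁻¹ : GL (Fin n) F) : Mn)) := by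
          conv_lhs => rw [← hA]
          rw [transpose_mul]; simp only [Matrix.mul_assoc]
      _ = J := by simp

theorem mem_isoGroup {J : Matrix (Fin n) (Fin n) F} {A : GL (Fin n) F} :
    A ∈ isoGroup J ↔ (A : Mn)ᵀ * J * (A : Mn) = J := Iff.rfl

variable {ε : F} {A : GL (Fin n) F} {J : Matrix (Fin n) (Fin n) F}

theorem adj_aeval (h : IsInv ε A J) (r : F[X]) :
    adj J (aeval (A : Mn) r) = aeval ((A⁻¹ : GL (Fin n) F) : Mn) r := by
  have hd := (isUnit_iff_isUnit_det J).1 h.unit
  induction r using Polynomial.induction_on' with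
  | add r s hr hs =>
    rw [map_add, map_add, ← hr, ← hs, adj, adj, adj, transpose_add, Matrix.mul_add, Matrix.add_mul]
  | monomial k a =>
    rw [aeval_monomial, aeval_monomial, ← Algebra.smul_def, ← Algebra.smul_def, adj, transpose_smul,
      mul_smul_comm, smul_mul_assoc, ← adj_self h, ← adj_pow h.unit]
    rfl

theorem aeval_inv_mul {r : F[X]} (h0 : r.coeff 0 ≠ 0) :
    aeval ((A⁻¹ : GL (Fin n) F) : Mn) r * (A : Mn) ^ r.natDegree =
      r.coeff 0 • aeval (A : Mn) (tilde idF r) := by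
  have hpow : ∀ i ≤ r.natDegree, ((A⁻¹ : GL (Fin n) F) : Mn) ^ i * (A : Mn) ^ r.natDegree =
      (A : Mn) ^ (r.natDegree - i) := fun i hi => by
    conv_lhs => rw [← Nat.add_sub_cancel' hi, pow_add, ← Matrix.mul_assoc]
    rw [← (show Commute ((A⁻¹ : GL (Fin n) F) : Mn) (A : Mn) from A.inv_mul.trans A.mul_inv.symm).mul_pow,
      A.inv_mul, one_pow, Matrix.one_mul]
  rw [tilde, map_mul, aeval_C, ← Algebra.smul_def, smul_smul, RingHom.id_apply, mul_inv_cancel₀ h0, one_smul,
    aeval_eq_sum_range' (n := r.natDegree + 1) (p := srev idF r) (by rw [natDegree_srev _ h0]; omega),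
    aeval_eq_sum_range (p := r), Finset.sum_mul,
    ← Finset.sum_range_reflect (fun i => (srev idF r).coeff i • (A : Mn) ^ i)]
  refine Finset.sum_congr rfl fun i hi => ?_
  rw [Finset.mem_range] at hi
  rw [smul_mul_assoc, hpow i (by omega), show r.natDegree + 1 - 1 - i = r.natDegree - i by omega,
    coeff_srev _ _ (by omega), show r.natDegree - (r.natDegree - i) = i by omega]
  rfl

variable [Fintype F]

/-- The tuple of an isometry is self-reciprocal. -/
theorem dataOf_recip (hinv : IsInv ε A J) (l : Fin n) : IsRecip (dataOf (A : Mn) l) := by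
  classical
  have hdet : (A : Mn).det ≠ 0 := ((Matrix.isUnit_iff_isUnit_det _).1 A.isUnit).ne_zero
  refine ⟨((isData_dataOf hdet).1 l).1, ((isData_dataOf hdet).1 l).2, ?_⟩
  set D := decomp (A : Mn) with hD
  have hσ2 : ∀ x : F, idF (idF x) = x := fun x => rfl
  have h00 : ∀ b ∈ D.blocks, b.1.coeff 0 ≠ 0 := fun b hb => by
    obtain ⟨i, -, rfl⟩ := Multiset.mem_map.1 hb
    exact coeff_zero_ne hdet i
  have hval : Valid (D.blocks.map fun b => (tilde idF b.1, b.2)) := by
    intro b hb
    obtain ⟨c, hc, rfl⟩ := Multiset.mem_map.1 hb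
    obtain ⟨h1, h2, h3⟩ := D.valid c hc
    exact ⟨(tilde_facts idF h1 (h00 c hc)).1, tilde_irreducible idF hσ2 h1 (h00 c hc) h2, h3⟩
  have hker : ∀ (r : F[X]) (_ : r.coeff 0 ≠ 0),
      Nat.card {v // aeval (Matrix.toLin' (A : Mn)) (tilde idF r) v = 0} =
        Nat.card {v // aeval (Matrix.toLin' (A : Mn)) r v = 0} := by
    intro r h0
    simp only [aeval_toLin']
    have h1 := aeval_inv_mul (A := A) h0
    rw [← adj_aeval hinv] at h1
    have hcomm : Commute (adj J (aeval (A : Mn) r)) ((A : Mn) ^ r.natDegree) := by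
      rw [adj_aeval hinv]
      refine (Commute.symm ?_).pow_right _
      refine Polynomial.induction_on r (fun a => ?_) (fun p q hp hq => ?_) fun k a _ => ?_
      · rw [aeval_C]; exact Algebra.commute_algebraMap_right a _
      · rw [map_add]; exact hp.add_right hq
      · rw [map_mul, aeval_C, map_pow, aeval_X]
        exact (Algebra.commute_algebraMap_right a _).mul_right
          ((show Commute (A : Mn) _ from A.mul_inv.trans A.inv_mul.symm).pow_right _)
    rw [hcomm.eq] at h1
    have h3 : ∀ w, r.coeff 0 • (aeval (A : Mn) (tilde idF r) *ᵥ w) =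
        (A : Mn) ^ r.natDegree *ᵥ (adj J (aeval (A : Mn) r) *ᵥ w) := fun w => by
      rw [mulVec_mulVec, h1, smul_mulVec]
    have h4 : ∀ w, aeval (A : Mn) (tilde idF r) *ᵥ w = 0 ↔
        (aeval (A : Mn) r)ᵀ *ᵥ (J *ᵥ w) = 0 := by
      intro w
      have hJi : IsUnit J⁻¹ := (Matrix.isUnit_nonsing_inv_iff).2 hinv.unit
      have hadj : adj J (aeval (A : Mn) r) *ᵥ w = J⁻¹ *ᵥ ((aeval (A : Mn) r)ᵀ *ᵥ (J *ᵥ w)) := by
        rw [adj, mulVec_mulVec, mulVec_mulVec]
      refine ⟨fun hw => ?_, fun hw => ?_⟩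
      · have h5 := (h3 w).symm
        rw [hw, smul_zero, hadj] at h5
        exact Matrix.mulVec_injective_of_isUnit hJi ((Matrix.mulVec_injective_of_isUnit (A.isUnit.pow _)
          (h5.trans (mulVec_zero _).symm)).trans (mulVec_zero _).symm)
      · have := h3 w
        rw [hadj, hw, mulVec_zero, mulVec_zero, smul_eq_zero] at this
        exact this.resolve_left h0
    let eJ : (Fin n → F) ≃ (Fin n → F) := Equiv.ofBijective J.mulVec
      ⟨Matrix.mulVec_injective_of_isUnit hinv.unit, Matrix.mulVec_surjective_iff_isUnit.2 hinv.unit⟩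
    rw [Nat.card_congr (Equiv.subtypeEquiv (q := fun v => (aeval (A : Mn) r)ᵀ *ᵥ v = 0) eJ h4),
      UnipUnitary.natCard_ker_eq, Matrix.rank_transpose, ← UnipUnitary.natCard_ker_eq]
  have hblocks : D.blocks.map (fun b => (tilde idF b.1, b.2)) = D.blocks := by
    refine eq_of_torsExp hval D.valid fun r hr hri j => ?_
    by_cases hr0 : r.coeff 0 = 0
    · have hz : ∀ s : Multiset (F[X] × ℕ), (∀ b ∈ s, b.1.coeff 0 ≠ 0) → torsExp s r j = 0 := fun s hs =>
        Multiset.sum_eq_zero fun x hx => by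
          obtain ⟨b, hb, rfl⟩ := Multiset.mem_map.1 hx
          rw [if_neg]
          exact fun h => hs b hb (h ▸ hr0)
      rw [hz _ ?_, hz _ h00]
      intro b hb
      obtain ⟨c, hc, rfl⟩ := Multiset.mem_map.1 hb
      rw [(tilde_facts idF (D.valid c hc).1 (h00 c hc)).2.2]
      exact inv_ne_zero (h00 c hc)
    obtain ⟨htm, htd, htc⟩ := tilde_facts idF hr hr0
    have hti := tilde_irreducible idF hσ2 hr hr0 hri
    have hL : torsExp (D.blocks.map fun b => (tilde idF b.1, b.2)) r j = torsExp D.blocks (tilde idF r) j := by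
      rw [torsExp, torsExp, Multiset.map_map]
      congr 1
      refine Multiset.map_congr rfl fun b hb => ?_
      have : tilde idF b.1 = r ↔ b.1 = tilde idF r :=
        ⟨fun e => by rw [← e, tilde_tilde idF hσ2 (D.valid b hb).1 (h00 b hb)],
          fun e => by rw [e, tilde_tilde idF hσ2 hr hr0]⟩
      simp [this]
    rw [hL]
    have htp : ∀ k, tilde idF (r ^ k) = tilde idF r ^ k := fun k => by
      induction k with
      | zero => rw [pow_zero, pow_zero, tilde, srev, Polynomial.map_id, coeff_one_zero, RingHom.id_apply,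
          inv_one, C_1, one_mul, ← C_1, Polynomial.reverse_C]
      | succ k ih => rw [pow_succ, pow_succ, tilde_mul, ih]
    have h1 := D.card_ker htm hti j
    have h2 := D.card_ker hr hri j
    rw [← htp, hker (r ^ j) (by
      rw [coeff_zero_eq_eval_zero, eval_pow, ← coeff_zero_eq_eval_zero]; exact pow_ne_zero _ hr0), h2,
      htd] at h1
    exact (Nat.eq_of_mul_eq_mul_right hri.natDegree_pos
      (Nat.pow_right_injective Fintype.one_lt_card h1)).symm
  show tilde idF (hPoly D.blocks ((l : ℕ) + 1)) = hPoly D.blocks ((l : ℕ) + 1)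
  conv_rhs => rw [← hblocks]
  rw [hPoly, hPoly, Multiset.filter_map, Multiset.map_map]
  simp only [Function.comp_def]
  generalize D.blocks.filter (fun b : F[X] × ℕ => b.2 = (l : ℕ) + 1) = s
  induction s using Multiset.induction_on with
  | empty =>
    rw [Multiset.map_zero, Multiset.prod_zero, tilde, srev, Polynomial.map_id, coeff_one_zero,
      RingHom.id_apply, inv_one, C_1, one_mul, Multiset.map_zero, Multiset.prod_zero, ← C_1, Polynomial.reverse_C]
  | cons b t ih =>
    rw [Multiset.map_cons, Multiset.prod_cons, tilde_mul, ih, Multiset.map_cons, Multiset.prod_cons]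

/-- The multiplicity of `c` in the tuple counts the blocks of the layer. -/
theorem rootMult_dataOf (A : GL (Fin n) F) (c : F) (l : Fin n) :
    rootMultiplicity c (dataOf (A : Mn) l) = Fintype.card (Lvl A c (l : ℕ)) := by
  classical
  rw [dataOf, hPoly_eq, ← count_roots, roots_prod _ _ (prod_ne_zero_iff.2 fun i _ => ((decomp (A : Mn)).monic i).ne_zero),
    Multiset.count_bind, Fintype.card_subtype]
  show ((univ.filter fun i => (decomp (A : Mn)).e i = (l : ℕ) + 1).1.map
    fun i => ((decomp (A : Mn)).p i).roots.count c).sum = _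
  rw [show ((univ.filter fun i => (decomp (A : Mn)).e i = (l : ℕ) + 1).1.map
      fun i => ((decomp (A : Mn)).p i).roots.count c).sum =
    ∑ i ∈ univ.filter (fun i => (decomp (A : Mn)).e i = (l : ℕ) + 1),
      if (decomp (A : Mn)).p i = X - C c then 1 else 0 from ?_, sum_boole, filter_filter, Nat.cast_id]
  · exact congrArg Finset.card (filter_congr fun i _ => and_comm)
  · refine sum_congr rfl fun i _ => ?_
    split_ifs with h
    · rw [h, roots_X_sub_C, Multiset.count_singleton_self]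
    · rw [count_roots, rootMultiplicity_eq_zero]
      intro hr
      exact h (eq_of_monic_of_associated ((decomp (A : Mn)).monic i) (monic_X_sub_C c)
        ((irreducible_X_sub_C c).associated_of_dvd ((decomp (A : Mn)).irred i) (dvd_iff_isRoot.2 hr)).symm)

/-- The alternating layers have even multiplicity. -/
theorem even_mult (h2 : (2 : F) ≠ 0) (hε : ε * ε = 1) (hinv : IsInv ε A J) {c : F} (hc : c * c = 1)
    (l : Fin n) (hf : ε * (-1) ^ (l : ℕ) = -1) : Even (rootMultiplicity c (dataOf (A : Mn) l)) := by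
  rw [rootMult_dataOf]
  by_contra hodd
  rw [Nat.not_even_iff_odd] at hodd
  have h := congrArg Matrix.det (gram_transpose (k := (l : ℕ)) hinv hc)
  rw [det_transpose, hf, det_smul, hodd.neg_one_pow] at h
  have hu := ((isUnit_iff_isUnit_det _).1 (isUnit_gram (k := (l : ℕ)) hinv hε hc)).ne_zero
  exact hu ((mul_eq_zero.1 (show (2 : F) * _ = 0 by linear_combination h)).resolve_left h2)

/-- The admissible codes at a level of degree `a`. -/
def Code (F : Type*) [Field F] (fl : Prop) (a : ℕ) : Type _ :=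
  Σ d : Fin 4 × Fin 4,
    {P : F[X] // dv d.1 + dv d.2 ≤ a ∧ IsPalin (a - dv d.1 - dv d.2) P ∧ (fl → d = (0, 0))}

/-- The number of admissible codes. -/
def wgt (q : ℕ) (fl : Prop) [Decidable fl] (a : ℕ) : ℕ :=
  ∑ d : Fin 4 × Fin 4, if dv d.1 + dv d.2 ≤ a ∧ Even (a - dv d.1 - dv d.2) ∧ (fl → d = (0, 0)) then
    q ^ ((a - dv d.1 - dv d.2) / 2) else 0

theorem card_code_le (fl : Prop) [Decidable fl] (a : ℕ) :
    Finite (Code F fl a) ∧ Nat.card (Code F fl a) ≤ wgt (Fintype.card F) fl a := by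
  haveI hfin : ∀ d : Fin 4 × Fin 4, Finite {P : F[X] // dv d.1 + dv d.2 ≤ a ∧
      IsPalin (a - dv d.1 - dv d.2) P ∧ (fl → d = (0, 0))} := fun d =>
    haveI := (card_palin_le (F := F) (a - dv d.1 - dv d.2)).1
    Finite.of_injective (fun P => (⟨P.1, P.2.2.1⟩ : {P : F[X] // IsPalin (a - dv d.1 - dv d.2) P}))
      fun P P' e => Subtype.ext (congrArg Subtype.val e :)
  unfold Code
  refine ⟨inferInstance, ?_⟩
  rw [Nat.card_sigma, wgt]
  refine sum_le_sum fun d _ => ?_
  by_cases h : dv d.1 + dv d.2 ≤ a ∧ Even (a - dv d.1 - dv d.2) ∧ (fl → d = (0, 0))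
  · rw [if_pos h]
    haveI := (card_palin_le (F := F) (a - dv d.1 - dv d.2)).1
    refine (Nat.card_le_card_of_injective (fun P => (⟨P.1, P.2.2.1⟩ : {P : F[X] // IsPalin (a - dv d.1 - dv d.2) P}))
      fun P P' e => Subtype.ext (by simpa using e)).trans ((card_palin_le _).2.trans ?_)
    rw [if_pos h.2.1]
  · rw [if_neg h]
    haveI : IsEmpty {P : F[X] // dv d.1 + dv d.2 ≤ a ∧ IsPalin (a - dv d.1 - dv d.2) P ∧ (fl → d = (0, 0))} :=
      ⟨fun P => h ⟨P.2.1, P.2.2.1.2.2.1, P.2.2.2⟩⟩
    simp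

theorem isSquare_mul_of_not {x y : F} (hx : ¬IsSquare x) (hy : ¬IsSquare y) : IsSquare (x * y) := by
  classical
  have hx0 : x ≠ 0 := fun h => hx (h ▸ IsSquare.zero)
  have hy0 : y ≠ 0 := fun h => hy (h ▸ IsSquare.zero)
  rw [← quadraticChar_one_iff_isSquare (mul_ne_zero hx0 hy0), map_mul,
    quadraticChar_neg_one_iff_not_isSquare.2 hx, quadraticChar_neg_one_iff_not_isSquare.2 hy]
  norm_num

omit [Fintype F] in
theorem frm_congr (X M : Matrix (Fin n) (Fin n) F) (u v : Fin n → F) :
    frm (Xᵀ * M * X) u v = frm M (X *ᵥ u) (X *ᵥ v) := by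
  rw [frm, frm, ← mulVec_mulVec, ← mulVec_mulVec, dotProduct_mulVec, vecMul_transpose]

omit [Fintype F] in
/-- Forms with the same invariants are congruent in the centraliser. -/
theorem exists_congr_of_sq [Finite F] (hε : ε * ε = 1) (h2 : (2 : F) ≠ 0) (fl : ℕ → Prop) [DecidablePred fl]
    (hfl : ∀ l, ε * (-1) ^ l = if fl l then -1 else 1) {A₀ : GL (Fin n) F} {J₁ J₂ : Matrix (Fin n) (Fin n) F}
    (i1 : IsInv ε A₀ J₁) (i2 : IsInv ε A₀ J₂)
    (hsq : ∀ c k, c * c = 1 → ¬ fl k → Nonempty (Lvl A₀ c k) →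
      IsSquare ((FormLevel.gram A₀ J₁ c k).det * (FormLevel.gram A₀ J₂ c k).det)) :
    ∃ g : GL (Fin n) F, Commute (g : Mn) (A₀ : Mn) ∧ (g : Mn)ᵀ * J₁ * (g : Mn) = J₂ := by
  classical
  have hcongr : ∀ (c : F) (k : ℕ), ∃ h : GL (Lvl A₀ c k) F, c * c = 1 →
      (h : Matrix (Lvl A₀ c k) (Lvl A₀ c k) F)ᵀ * FormLevel.gram A₀ J₁ c k * (h : Matrix (Lvl A₀ c k) (Lvl A₀ c k) F) =
        FormLevel.gram A₀ J₂ c k := by
    intro c k
    by_cases hc : c * c = 1
    swap
    · exact ⟨1, fun h => absurd h hc⟩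
    by_cases hempty : IsEmpty (Lvl A₀ c k)
    · exact ⟨1, fun _ => Subsingleton.elim _ _⟩
    have hu1 := isUnit_gram (k := k) i1 hε hc
    have hu2 := isUnit_gram (k := k) i2 hε hc
    have hs1 := gram_transpose (k := k) i1 hc
    have hs2 := gram_transpose (k := k) i2 hc
    by_cases hk : fl k
    · rw [hfl, if_pos hk, neg_one_smul] at hs1 hs2
      obtain ⟨h, hh⟩ := FormCongr.exists_congr_alt h2 hs1 hs2 hu1 hu2
      exact ⟨h, fun _ => hh⟩
    rw [hfl, if_neg hk, one_smul] at hs1 hs2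
    obtain ⟨h, hh⟩ := FormCongr.exists_congr_symm h2 hs1 hs2 hu1 hu2 (hsq c k hc hk (not_isEmpty_iff.1 hempty))
    exact ⟨h, fun _ => hh⟩
  choose h hh using hcongr
  obtain ⟨g, hgA, hg⟩ := exists_lift h
  have i1' : IsInv ε A₀ ((g : Mn)ᵀ * J₁ * (g : Mn)) := by
    refine ⟨?_, ?_, ?_⟩
    · simp only [transpose_mul, transpose_transpose, i1.symm, Matrix.mul_smul, smul_mul_assoc, Matrix.mul_assoc]
    · refine ((isUnit_iff_isUnit_det _).2 ?_)
      simp only [det_mul, det_transpose]
      have hgd := (isUnit_iff_isUnit_det _).1 g.isUnit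
      exact (hgd.mul ((isUnit_iff_isUnit_det _).1 i1.unit)).mul hgd
    · calc (A₀ : Mn)ᵀ * ((g : Mn)ᵀ * J₁ * (g : Mn)) * (A₀ : Mn)
          = ((g : Mn) * (A₀ : Mn))ᵀ * J₁ * ((g : Mn) * (A₀ : Mn)) := by
            simp only [transpose_mul, Matrix.mul_assoc]
        _ = (g : Mn)ᵀ * ((A₀ : Mn)ᵀ * J₁ * (A₀ : Mn)) * (g : Mn) := by
            rw [hgA.eq, transpose_mul]; simp only [Matrix.mul_assoc]
        _ = _ := by rw [i1.inv]
  have hgram : ∀ c k, c * c = 1 →
      gram A₀ (J₂) c k = gram A₀ ((g : Mn)ᵀ * J₁ * (g : Mn)) c k := by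
    intro c k hc
    have hN : Commute (g : Mn) (Nm A₀ c ^ k) :=
      (hgA.sub_right ((Commute.one_right _).smul_right c)).pow_right k
    rw [← hh c k hc]
    ext i j
    rw [FormLevel.gram, FormLevel.gram, Matrix.of_apply]
    have e1 : frm ((g : Mn)ᵀ * J₁ * (g : Mn)) (gen A₀ i.1) (Nm A₀ c ^ k *ᵥ gen A₀ j.1) =
        frm (J₁) ((g : Mn) *ᵥ gen A₀ i.1) (Nm A₀ c ^ k *ᵥ ((g : Mn) *ᵥ gen A₀ j.1)) := by
      rw [frm_congr, mulVec_mulVec (gen A₀ j.1) (g : Mn) (Nm A₀ c ^ k), hN.eq, ← mulVec_mulVec]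
    rw [e1, hg c k hc i, hg c k hc j]
    simp only [frm, mulVec_sum, mulVec_smul, dotProduct_sum, sum_dotProduct, dotProduct_smul, smul_dotProduct,
      smul_eq_mul, Matrix.mul_apply, transpose_apply, FormLevel.gram, Matrix.of_apply, sum_mul, mul_sum]
    refine sum_congr rfl fun a _ => sum_congr rfl fun b _ => ?_
    ring
  obtain ⟨g₂, hg₂A, hg₂⟩ := exists_congr_of_sameLayers h2 i1' i2 hε (sameLayers_of_gram i1' i2 hgram)
  refine ⟨g * g₂, ?_, ?_⟩
  · rw [Units.val_mul]; exact hgA.mul_left hg₂A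
  · rw [← hg₂, Units.val_mul, transpose_mul]; simp only [Matrix.mul_assoc]

variable (hε : ε * ε = 1) (hJs : Jᵀ = ε • J) (hJu : IsUnit J)

include hJs hJu in
theorem isInv_mem (g : ↥(isoGroup J)) : IsInv ε (g : GL (Fin n) F) J := ⟨hJs, hJu, g.2⟩

include hε hJs hJu in
/-- The weighted count of classes; `fl l` marks the alternating layers. -/
theorem card_classes_le (h2 : (2 : F) ≠ 0) (fl : ℕ → Prop) [DecidablePred fl]
    (hfl : ∀ l, ε * (-1) ^ l = if fl l then -1 else 1) :
    Nat.card (ConjClasses ↥(isoGroup J)) ≤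
      ∑ a ∈ comps 1 n n, ∏ l : Fin n, wgt (Fintype.card F) (fl l) (a l) := by
  classical
  let rep : ConjClasses ↥(isoGroup J) → GL (Fin n) F := fun C =>
    ((Quotient.out C : ↥(isoGroup J)) : GL (Fin n) F)
  have hrep : ∀ C, IsInv ε (rep C) J := fun C => isInv_mem hJs hJu _
  let dat : ConjClasses ↥(isoGroup J) → Fin n → F[X] := fun C => dataOf (rep C : Mn)
  -- one class for each tuple
  let base : (Fin n → F[X]) → GL (Fin n) F := fun h => if hh : ∃ C, dat C = h then rep hh.choose else 1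
  have hbase : ∀ C, ∃ T : GL (Fin n) F, (T : Mn) * (base (dat C) : Mn) = (rep C : Mn) * (T : Mn) := by
    intro C
    have hh : ∃ C', dat C' = dat C := ⟨C, rfl⟩
    simp only [base, dif_pos hh]
    exact exists_conj_of_dataOf hh.choose_spec
  choose T hT using hbase
  let Jc : ConjClasses ↥(isoGroup J) → Mn := fun C => (T C : Mn)ᵀ * J * (T C : Mn)
  have hJc : ∀ C, IsInv ε (base (dat C)) (Jc C) := fun C => by
    refine ⟨?_, ?_, ?_⟩
    · simp only [Jc, transpose_mul, transpose_transpose, hJs, Matrix.mul_smul, smul_mul_assoc, Matrix.mul_assoc]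
    · refine ((isUnit_iff_isUnit_det _).2 ?_)
      simp only [Jc, det_mul, det_transpose]
      have hTd := (isUnit_iff_isUnit_det _).1 (T C).isUnit
      exact (hTd.mul ((isUnit_iff_isUnit_det _).1 hJu)).mul hTd
    · calc (base (dat C) : Mn)ᵀ * Jc C * (base (dat C) : Mn)
          = ((T C : Mn) * (base (dat C) : Mn))ᵀ * J * ((T C : Mn) * (base (dat C) : Mn)) := by
            simp only [Jc, transpose_mul, Matrix.mul_assoc]
        _ = (T C : Mn)ᵀ * ((rep C : Mn)ᵀ * J * (rep C : Mn)) * (T C : Mn) := by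
            rw [hT, transpose_mul]; simp only [Matrix.mul_assoc]
        _ = _ := by rw [(hrep C).inv]
  let cs : Bool → F := fun b => if b then 1 else -1
  let sgn : ConjClasses ↥(isoGroup J) → Bool → Fin n → Bool := fun C b l =>
    if fl l ∨ rootMultiplicity (cs b) (dat C l) = 0 then false
    else decide (IsSquare (gram (base (dat C)) (Jc C) (cs b) (l : ℕ)).det)
  -- the invariants determine the class
  have hinj : ∀ C C', dat C = dat C' → sgn C = sgn C' → C = C' := by
    intro C C' hd hs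
    obtain ⟨A₀, hA₀⟩ : ∃ A₀, base (dat C) = A₀ := ⟨_, rfl⟩
    have hA₀' : base (dat C') = A₀ := by rw [← hd]; exact hA₀
    have i1 : IsInv ε A₀ (Jc C) := hA₀ ▸ hJc C
    have i2 : IsInv ε A₀ (Jc C') := hA₀' ▸ hJc C'
    obtain ⟨g, hgA, hg⟩ := exists_congr_of_sq hε h2 fl hfl i1 i2 fun c k hc hk hne => by
      obtain ⟨⟨i, hi⟩⟩ := hne
      have hkn : k < n := by
        have := (block_e_le (A₀ : Mn) i).2
        rw [hi.2] at this
        omega
      have hmult : ∀ D, base (dat D) = A₀ → rootMultiplicity c (dat D ⟨k, hkn⟩) ≠ 0 := fun D hD => by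
        have hh : ∃ C', dat C' = dat D := ⟨D, rfl⟩
        have hdA : dataOf (A₀ : Mn) = dat D := by
          rw [← hD]; simp only [base, dif_pos hh]; exact hh.choose_spec
        rw [← hdA, rootMult_dataOf]
        exact (Fintype.card_pos_iff.2 ⟨⟨i, hi⟩⟩).ne'
      obtain ⟨b, rfl⟩ : ∃ b, cs b = c := by
        rcases mul_self_eq_one_iff.1 hc with rfl | rfl
        · exact ⟨true, rfl⟩
        · exact ⟨false, rfl⟩
      have e := congrFun (congrFun hs b) ⟨k, hkn⟩
      simp only [sgn] at e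
      rw [if_neg (by simp only [hk, false_or]; exact hmult C hA₀),
        if_neg (by simp only [hk, false_or]; exact hmult C' hA₀')] at e
      subst hA₀
      rw [hA₀'] at e
      simp only [decide_eq_decide] at e
      by_cases hsq : IsSquare (FormLevel.gram (base (dat C)) (Jc C) (cs b) k).det
      · exact hsq.mul (e.1 hsq)
      · exact isSquare_mul_of_not hsq fun h' => hsq (e.2 h')
    set T' := T C' with hT'
    let X : GL (Fin n) F := T C * g * T'⁻¹
    have hX : X ∈ isoGroup J := by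
      show (X : Mn)ᵀ * J * (X : Mn) = J
      calc (X : Mn)ᵀ * J * (X : Mn)
          = ((T'⁻¹ : GL (Fin n) F) : Mn)ᵀ * ((g : Mn)ᵀ * Jc C * (g : Mn)) *
              ((T'⁻¹ : GL (Fin n) F) : Mn) := by
            simp only [X, Jc, Units.val_mul, transpose_mul, Matrix.mul_assoc]
        _ = ((T' : Mn) * ((T'⁻¹ : GL (Fin n) F) : Mn))ᵀ * J * ((T' : Mn) * ((T'⁻¹ : GL (Fin n) F) : Mn)) := by
            rw [hg]; simp only [Jc, hT', transpose_mul, Matrix.mul_assoc]
        _ = J := by simp
    have e1 : (T C : GL (Fin n) F) * A₀ = rep C * T C := Units.ext (hA₀ ▸ hT C)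
    have e2 : T' * A₀ = rep C' * T' := Units.ext (hA₀' ▸ hT C')
    have e3 : g * A₀ = A₀ * g := Units.ext hgA.eq
    rw [← Quotient.out_eq C, ← Quotient.out_eq C']
    refine (Quotient.sound (isConj_iff.2 ⟨⟨X, hX⟩, Subtype.ext ?_⟩) : _).symm
    show X * rep C' * X⁻¹ = rep C
    have e5 : rep C' = T' * A₀ * T'⁻¹ := by rw [e2, mul_inv_cancel_right]
    rw [mul_inv_eq_iff_eq_mul, e5]
    calc X * (T' * A₀ * T'⁻¹) = T C * (g * A₀) * T'⁻¹ := by simp only [X, mul_assoc, inv_mul_cancel_left]
      _ = rep C * X := by rw [e3, ← mul_assoc (T C), e1]; simp only [X, mul_assoc]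
  -- the codes
  have hrec : ∀ C l, IsRecip (dat C l) := fun C l => dataOf_recip (hrep C) l
  choose P hP1 hP2 hP3 using fun C l => exists_code h2 (hrec C l) (sgn C true l, sgn C false l)
  have hdeg : ∀ C, (fun l => (dat C l).natDegree) ∈ comps 1 n n := fun C =>
    isData_deg_mem (isData_dataOf ((isUnit_iff_isUnit_det _).1 (rep C).isUnit).ne_zero)
  have hzero : ∀ C (l : Fin n), fl l →
      (code (rootMultiplicity 1 (dat C l)) (sgn C true l),
        code (rootMultiplicity (-1) (dat C l)) (sgn C false l)) = (0, 0) := by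
    intro C l hl
    have hs : ∀ b, sgn C b l = false := fun b => by simp only [sgn, hl, true_or, if_true]
    have hz : ∀ m, Even m → code m false = 0 := fun m hm => by
      unfold code; rw [if_pos hm]; simp
    rw [hs, hs, hz _ (even_mult h2 hε (hrep C) (one_mul 1) l (by rw [hfl, if_pos hl])),
      hz _ (even_mult h2 hε (hrep C) (by norm_num) l (by rw [hfl, if_pos hl]))]
  haveI : ∀ (a : Fin n → ℕ) (l : Fin n), Finite (Code F (fl l) (a l)) := fun a l => (card_code_le _ _).1
  let Φ : ConjClasses ↥(isoGroup J) → Σ a : (comps 1 n n : Finset (Fin n → ℕ)), ∀ l : Fin n, Code F (fl l) (a.1 l) :=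
    fun C => ⟨⟨_, hdeg C⟩, fun l => ⟨(code (rootMultiplicity 1 (dat C l)) (sgn C true l),
      code (rootMultiplicity (-1) (dat C l)) (sgn C false l)), P C l, hP1 C l, hP2 C l, hzero C l⟩⟩
  have hΦ : Function.Injective Φ := by
    intro C C' e
    have hcode : ∀ l, (code (rootMultiplicity 1 (dat C l)) (sgn C true l),
        code (rootMultiplicity (-1) (dat C l)) (sgn C false l), P C l) =
        (code (rootMultiplicity 1 (dat C' l)) (sgn C' true l),
          code (rootMultiplicity (-1) (dat C' l)) (sgn C' false l), P C' l) := fun l => by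
      have := congrArg (fun z : Σ a : (comps 1 n n : Finset (Fin n → ℕ)), ∀ l : Fin n, Code F (fl l) (a.1 l) =>
        ((z.2 l).1.1, (z.2 l).1.2, (z.2 l).2.1)) e
      exact this
    have hd : dat C = dat C' := funext fun l => by
      have := hcode l
      simp only [Prod.mk.injEq] at this
      rw [hP3 C l, hP3 C' l, this.1, this.2.1, this.2.2]
    refine hinj C C' hd (funext fun b => funext fun l => ?_)
    by_cases hm : rootMultiplicity (cs b) (dat C l) = 0
    · simp only [sgn]
      rw [if_pos (Or.inr hm), if_pos (Or.inr (hd ▸ hm))]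
    · have := hcode l
      rw [← hd] at this
      simp only [Prod.mk.injEq] at this
      cases b
      · exact code_inj hm this.2.1
      · exact code_inj hm this.1
  refine (Nat.card_le_card_of_injective Φ hΦ).trans ?_
  rw [Nat.card_sigma, ← sum_coe_sort (comps 1 n n)]
  exact sum_le_sum fun a _ => (Nat.card_pi).trans_le (prod_le_prod' fun l _ => (card_code_le _ _).2)

end CfsgLib.ClassK.IsoData
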