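import Cfsg.Agent.Lib.ClassK.LineGroup
import Cfsg.Agent.Lib.Transfer.SimpleCount

/-!
# Simple groups with `p + 1` Sylow `p`-subgroups of order `p` as groups of permutations of a line
-/

set_option autoImplicit false

namespace CfsgLib.ClassK

open Subgroup

variable {G : Type*} [Group G] [Finite G] [IsSimpleGroup G]

/-- An additive automorphism of `ZMod p` is a multiplication. -/
theorem addEquiv_zmod_apply {p : ℕ} [NeZero p] (g : ZMod p ≃+ ZMod p) (i : ℕ) (x : ZMod p) :
    (g : ZMod p → ZMod p)^[i] x = (g : ZMod p → ZMod p)^[i] 1 * x := by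
  have h1 : ∀ y : ZMod p, g y = g 1 * y := fun y => by
    have h := map_nsmul g y.val 1
    rw [nsmul_one, nsmul_eq_mul, ZMod.natCast_zmod_val] at h
    rw [h, mul_comm]
  induction i with
  | zero => simp
  | succ i ih =>
    rw [Function.iterate_succ_apply', Function.iterate_succ_apply', ih, h1,
      h1 ((g : ZMod p → ZMod p)^[i] 1), mul_assoc]

/-- The permutation representation on the Sylow `p`-subgroups, in coordinates. -/
theorem exists_lineGroup_prime (hG : ¬ IsMulCommutative G) {p m : ℕ} [Fact p.Prime]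
    (hcard : Nat.card G = p * (p + 1) * m) (hm : 2 ≤ m) (hmp : m < p)
    (hn : Nat.card (Sylow p G) = p + 1) (g : ZMod p ≃+ ZMod p)
    (hroots : ∀ k : ZMod p, k ^ m = 1 → ∃ i < m, (g : ZMod p → ZMod p)^[i] 1 = k) :
    ∃ f : G →* Equiv.Perm (Option (ZMod p)), Function.Injective f ∧
      LineGroup g m (fun _ => true) f.range := by
  classical
  have hp : p.Prime := Fact.out
  obtain ⟨P⟩ := (inferInstance : Nonempty (Sylow p G))
  have hPc : ∀ Q : Sylow p G, Nat.card (Q : Subgroup G) = p := fun Q => by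
    rw [Q.card_eq_multiplicity, hcard, mul_assoc, Nat.factorization_mul hp.ne_zero (by positivity),
      Finsupp.add_apply, hp.factorization_self, Nat.factorization_eq_zero_of_not_dvd, add_zero, pow_one]
    intro hd
    rcases hp.dvd_mul.1 hd with h | h
    · exact hp.not_dvd_one ((Nat.dvd_add_right dvd_rfl).1 h)
    · exact absurd (Nat.le_of_dvd (by omega) h) (by omega)
  set N := normalizer ((P : Subgroup G) : Set G) with hN
  have hNc : Nat.card N = p * m := by
    have h := N.card_mul_index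
    rw [show N.index = p + 1 from P.card_eq_index_normalizer.symm.trans hn, hcard] at h
    refine Nat.eq_of_mul_eq_mul_right (Nat.succ_pos p) (h.trans ?_)
    rw [Nat.succ_eq_add_one]; ring
  have hfree : ∀ Q : Sylow p G, Q ≠ P → ∀ y ∈ (P : Subgroup G),
      y ∈ normalizer ((Q : Subgroup G) : Set G) → y = 1 := by
    intro Q hQ y hy hyQ
    have h : y ∈ (P : Subgroup G) ⊓ normalizer ((Q : Subgroup G) : Set G) := ⟨hy, hyQ⟩
    replace h : y ∈ (P : Subgroup G) ⊓ (Q : Subgroup G) := (P.2.inf_normalizer_sylow Q).le h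
    by_contra hy1
    have hz : ∀ (R : Sylow p G), y ∈ (R : Subgroup G) → zpowers y = (R : Subgroup G) := by
      intro R hR
      refine eq_of_le_of_card_ge (zpowers_le.2 hR) ?_
      rw [hPc R, Nat.card_zpowers]
      rcases (Nat.dvd_prime hp).1 ((Subgroup.orderOf_dvd_natCard _ hR).trans (hPc R).dvd) with e | e
      · exact absurd (orderOf_eq_one_iff.1 e) hy1
      · exact e.ge
    exact hQ (Sylow.ext ((hz Q h.2).symm.trans (hz P h.1)))
  haveI : IsCyclic (P : Subgroup G) := isCyclic_of_prime_card (hPc P)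
  obtain ⟨⟨x, hx⟩, hxgen⟩ := IsCyclic.exists_generator (α := (P : Subgroup G))
  have hxo : orderOf x = p := by
    rw [← hPc P, ← orderOf_eq_card_of_forall_mem_zpowers hxgen, orderOf_mk]
  have hxpow : ∀ n : ℕ, x ^ n = x ^ (n : ZMod p).val := fun n => by
    rw [ZMod.val_natCast, ← hxo, pow_mod_orderOf]
  have hxgen' : ∀ y ∈ (P : Subgroup G), ∃ b : ZMod p, y = x ^ b.val := by
    intro y hy
    obtain ⟨i, hi⟩ := mem_powers_iff_mem_zpowers.2 (hxgen ⟨y, hy⟩)
    exact ⟨(i : ZMod p), by rw [← hxpow]; exact (congrArg Subtype.val hi).symm⟩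
  haveI : Nontrivial (Sylow p G) := by
    rw [← Finite.one_lt_card_iff_nontrivial, hn]; have := hp.pos; omega
  obtain ⟨Q₀, hQ₀⟩ := exists_ne P
  -- coordinates
  let e₀ : Option (ZMod p) → Sylow p G := fun o => o.elim P fun b => x ^ b.val • Q₀
  have hadd : ∀ a b : ZMod p, x ^ a.val * x ^ b.val = x ^ (a + b).val := fun a b => by
    rw [← pow_add, hxpow, Nat.cast_add, ZMod.natCast_zmod_val, ZMod.natCast_zmod_val]
  have hxP : ∀ n : ℕ, x ^ n • P = P := fun n =>
    Sylow.smul_eq_iff_mem_normalizer.2 (le_normalizer (pow_mem hx n))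
  have hne : ∀ b : ZMod p, x ^ b.val • Q₀ ≠ P := fun b h =>
    hQ₀ (by rwa [← hxP b.val, smul_left_cancel_iff] at h)
  have he : Function.Bijective e₀ := by
    refine (Nat.bijective_iff_injective_and_card e₀).2 ⟨?_, ?_⟩
    · rintro (_ | a) (_ | b) h
      · rfl
      · exact absurd h.symm (hne b)
      · exact absurd h (hne a)
      · have h1 : x ^ (-a + b).val • Q₀ = Q₀ := by
          rw [← hadd, mul_smul, show x ^ b.val • Q₀ = x ^ a.val • Q₀ from h.symm, ← mul_smul, hadd,
            neg_add_cancel, ZMod.val_zero, pow_zero, one_smul]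
        have h2 := hfree Q₀ hQ₀ _ (pow_mem hx _) (Sylow.smul_eq_iff_mem_normalizer.1 h1)
        rw [← orderOf_dvd_iff_pow_eq_one, hxo] at h2
        have h3 := Nat.eq_zero_of_dvd_of_lt h2 (ZMod.val_lt _)
        rw [ZMod.val_eq_zero, neg_add_eq_zero] at h3
        rw [h3]
    · rw [hn, Nat.card_eq_fintype_card, Fintype.card_option, ZMod.card]
  let e : Option (ZMod p) ≃ Sylow p G := Equiv.ofBijective e₀ he
  let f : G →* Equiv.Perm (Option (ZMod p)) :=
    (Equiv.permCongrHom e.symm).toMonoidHom.comp (MulAction.toPermHom G (Sylow p G))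
  have hfiff : ∀ (γ : G) (o o' : Option (ZMod p)), f γ o = o' ↔ γ • e₀ o = e₀ o' := fun γ o o' => by
    change e.symm (γ • e o) = o' ↔ _
    rw [Equiv.symm_apply_eq]; rfl
  have hfinj : Function.Injective f := by
    refine (Equiv.permCongrHom e.symm).injective.comp ((MonoidHom.ker_eq_bot_iff _).1 ?_)
    rcases IsSimpleGroup.eq_bot_or_eq_top_of_normal (MulAction.toPermHom G (Sylow p G)).ker
      inferInstance with h | h
    · exact h
    · exfalso
      refine CfsgLib.Transfer.normalizer_ne_top_of_simple hG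
        (hcard ▸ (dvd_mul_right p _).mul_right m) P (top_le_iff.1 fun γ _ => ?_)
      exact Sylow.smul_eq_iff_mem_normalizer.1
        (congrArg (fun π : Equiv.Perm (Sylow p G) => π P) (MonoidHom.mem_ker.1 (h ▸ mem_top γ)))
  have hftrans : ∀ b : ZMod p, f (x ^ b.val) = ptTrans b := by
    intro b
    ext o : 1
    rw [hfiff]
    rcases o with _ | a
    · exact hxP _
    · show x ^ b.val • (x ^ a.val • Q₀) = x ^ (b + a).val • Q₀
      rw [← mul_smul, hadd]
  -- the two-point stabilizer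
  set H := N ⊓ normalizer ((Q₀ : Subgroup G) : Set G) with hH
  have hHmem : ∀ {δ : G}, δ ∈ H ↔ f δ none = none ∧ f δ (some 0) = some 0 := by
    intro δ
    rw [hfiff, hfiff, hH, mem_inf]
    show _ ↔ δ • P = P ∧ δ • ((x ^ (0 : ZMod p).val) • Q₀) = (x ^ (0 : ZMod p).val) • Q₀
    rw [ZMod.val_zero, pow_zero, one_smul, Sylow.smul_eq_iff_mem_normalizer,
      Sylow.smul_eq_iff_mem_normalizer]
    exact Iff.rfl
  have hact : ∀ δ ∈ H, ∃ i < m, f δ = ptMul g ^ i := by
    intro δ hδ
    obtain ⟨hδn, hδ0⟩ := hHmem.1 hδ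
    obtain ⟨k, hk⟩ := hxgen' (δ * x * δ⁻¹) ((mem_normalizer_iff.1 (mem_inf.1 hδ).1 x).1 hx)
    have hlin : ∀ a : ZMod p, f δ (some a) = some (k * a) := by
      intro a
      have h1 : f (δ * x ^ a.val) = f (x ^ (k * a).val * δ) := by
        congr 1
        have h2 : δ * x ^ a.val * δ⁻¹ = x ^ (k * a).val := by
          rw [← conj_pow, hk, ← pow_mul, hxpow, Nat.cast_mul, ZMod.natCast_zmod_val,
            ZMod.natCast_zmod_val]
        rw [← h2]; group
      have h3 := congrArg (fun π : Equiv.Perm (Option (ZMod p)) => π (some 0)) h1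
      simpa [map_mul, hftrans, hδ0, Equiv.Perm.mul_apply] using h3
    have hpow : ∀ n : ℕ, f (δ ^ n) (some 1) = some (k ^ n) := by
      intro n
      induction n with
      | zero => simp
      | succ n ih => rw [pow_succ', map_mul, Equiv.Perm.mul_apply, ih, hlin, pow_succ']
    have hδm : δ ^ m = 1 := by
      refine hfree Q₀ hQ₀ _ ?_ (pow_mem (mem_inf.1 hδ).2 m)
      have hidx : ((P : Subgroup G).subgroupOf N).index = m := by
        have h := ((P : Subgroup G).subgroupOf N).card_mul_index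
        rw [Nat.card_congr (subgroupOfEquivOfLe le_normalizer).toEquiv, hPc, hNc] at h
        exact Nat.eq_of_mul_eq_mul_left hp.pos h
      have := Subgroup.pow_index_mem ((P : Subgroup G).subgroupOf N) ⟨δ, (mem_inf.1 hδ).1⟩
      rw [hidx] at this
      exact mem_subgroupOf.1 this
    have hkm : k ^ m = 1 := by
      have h := hpow m
      rw [hδm, map_one, Equiv.Perm.one_apply, Option.some.injEq] at h
      exact h.symm
    obtain ⟨i, hi, hik⟩ := hroots k hkm
    refine ⟨i, hi, Equiv.ext fun o => ?_⟩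
    rcases o with _ | a
    · rw [hδn, ptMul_pow_none]
    · rw [hlin, ptMul_pow_some, addEquiv_zmod_apply, hik]
  have hstab0 : ∀ γ : G, f γ none = none → ∃ b : ZMod p, ∃ δ ∈ H, γ = x ^ b.val * δ := by
    intro γ hγ
    obtain ⟨b, hb⟩ : ∃ b, f γ (some 0) = some b := Option.ne_none_iff_exists'.1 fun h =>
      absurd ((f γ).injective (h.trans hγ.symm)) (by simp)
    refine ⟨b, (x ^ b.val)⁻¹ * γ, hHmem.2 ⟨?_, ?_⟩, by group⟩
    · rw [map_mul, map_inv, hftrans, Equiv.Perm.mul_apply, hγ, Equiv.Perm.inv_eq_iff_eq, ptTrans_none]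
    · rw [map_mul, map_inv, hftrans, Equiv.Perm.mul_apply, hb, Equiv.Perm.inv_eq_iff_eq, ptTrans_some,
        add_zero]
  have hgen : ∃ δ ∈ H, f δ = ptMul g := by
    choose i hi hfi using fun δ : H => hact δ δ.2
    let φ : H → Fin m := fun δ => ⟨i δ, hi δ⟩
    have hφ : Function.Injective φ := fun δ δ' h => by
      refine Subtype.ext (hfinj ?_)
      rw [hfi, hfi, show i δ = i δ' from congrArg Fin.val h]
    have hHN : H ≤ N := inf_le_left
    have hcardH : m ≤ Nat.card H := by
      have hsurj : Function.Surjective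
          (fun q : ZMod p × H => (⟨x ^ q.1.val * q.2, mul_mem (le_normalizer (pow_mem hx _)) (hHN q.2.2)⟩ : N)) := by
        intro γ
        obtain ⟨b, δ, hδ, hγ⟩ := hstab0 γ ((hfiff _ none none).2 (Sylow.smul_eq_iff_mem_normalizer.2 γ.2))
        exact ⟨(b, ⟨δ, hδ⟩), Subtype.ext hγ.symm⟩
      have h := Nat.card_le_card_of_surjective _ hsurj
      rw [Nat.card_prod, Nat.card_zmod, hNc] at h
      exact Nat.le_of_mul_le_mul_left h hp.pos
    have hφs : Function.Surjective φ := ((Nat.bijective_iff_injective_and_card φ).2 ⟨hφ, by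
      rw [Nat.card_fin]
      exact le_antisymm ((Nat.card_le_card_of_injective φ hφ).trans_eq (Nat.card_fin m)) hcardH⟩).2
    obtain ⟨δ, hδ⟩ := hφs ⟨1, by omega⟩
    exact ⟨δ, δ.2, by rw [hfi, show i δ = 1 from congrArg Fin.val hδ, pow_one]⟩
  refine ⟨f, hfinj, ⟨fun b => ⟨_, hftrans b⟩, ?_, ?_, ?_, fun _ _ _ _ _ _ _ => rfl⟩⟩
  · obtain ⟨δ, -, hδ⟩ := hgen
    exact ⟨δ, hδ⟩
  · rintro _ ⟨γ, rfl⟩ hγ
    obtain ⟨b, δ, hδ, rfl⟩ := hstab0 γ hγ
    obtain ⟨i, hi, hfi⟩ := hact δ hδ
    exact ⟨b, i, hi, by rw [map_mul, hftrans, hfi]⟩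
  · obtain ⟨γ, hγ⟩ := MulAction.exists_smul_eq G P Q₀
    refine ⟨f γ, ⟨γ, rfl⟩, fun h => hQ₀ ?_⟩
    rw [hfiff] at h
    exact hγ.symm.trans h

/-- Uniqueness from a rigidity check. -/
theorem nonempty_mulEquiv_of_lineGroup {H : Type*} [Group H] {R : Type*} [AddCommGroup R] [Fintype R]
    [DecidableEq R] {g : R ≃+ R} {m : ℕ} {good : ℕ → Bool} {f : G →* Equiv.Perm (Option R)}
    {f' : H →* Equiv.Perm (Option R)} (hf : Function.Injective f) (hf' : Function.Injective f')
    (h : LineGroup g m good f.range) (h' : LineGroup g m good f'.range) {u v : R} (hu : u ≠ 0)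
    (hgm : ∀ x, (g : R → R)^[m] x = x)
    (horb : ∀ x : R, x ≠ 0 → (∃ i < m, (g : R → R)^[i] u = x) ∨ ∃ i < m, (g : R → R)^[i] v = x)
    {e₀ : ℕ} {c₀ d₀ : R} (hrig : Rigid (g : R → R) m u v good e₀ c₀ d₀) : Nonempty (G ≃* H) :=
  ⟨((MonoidHom.ofInjective hf).trans (MulEquiv.subgroupCongr (h.eq h' hu hgm horb hrig))).trans
    (MonoidHom.ofInjective hf').symm⟩

end CfsgLib.ClassK
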