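import Cfsg.Agent.Lib.ClassK.LineGroup
import Cfsg.Agent.Lib.Transfer.SimpleCount

/-!
# Coordinates for a Sylow action with regular abelian Sylow subgroup
-/

set_option autoImplicit false

namespace CfsgLib.ClassK

open Subgroup

variable {G : Type*} [Group G] [Finite G] [IsSimpleGroup G] {p : ℕ} [Fact p.Prime]
variable {R : Type*} [AddCommGroup R] [Fintype R] [DecidableEq R]

theorem exists_lineGroup_coord (hG : ¬ IsMulCommutative G) (hp : p ∣ Nat.card G) (P Q₀ : Sylow p G)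
    (hn : Nat.card (Sylow p G) = Fintype.card R + 1) (hQ₀ : Q₀ ≠ P)
    (hfree : ∀ y ∈ (P : Subgroup G), y ∈ normalizer ((Q₀ : Subgroup G) : Set G) → y = 1)
    (φ : R → G) (hφadd : ∀ a b, φ a * φ b = φ (a + b)) (hφP : ∀ a, φ a ∈ (P : Subgroup G))
    (hφinj : Function.Injective φ) (g : R ≃+ R) {m : ℕ} (δ : G)
    (hδP : δ ∈ normalizer ((P : Subgroup G) : Set G))
    (hδQ : δ ∈ normalizer ((Q₀ : Subgroup G) : Set G)) (hδ : ∀ a, δ * φ a * δ⁻¹ = φ (g a))
    (hH : ∀ γ ∈ normalizer ((P : Subgroup G) : Set G), γ ∈ normalizer ((Q₀ : Subgroup G) : Set G) →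
      ∃ i < m, γ = δ ^ i) :
    ∃ f : G →* Equiv.Perm (Option R), Function.Injective f ∧
      LineGroup g m (fun _ => true) f.range := by
  classical
  have hφ0 : φ 0 = 1 := by
    have h := hφadd 0 0
    rwa [add_zero, mul_eq_left] at h
  let e₀ : Option R → Sylow p G := fun o => o.elim P fun b => φ b • Q₀
  have hxP : ∀ b, φ b • P = P := fun b =>
    Sylow.smul_eq_iff_mem_normalizer.2 (le_normalizer (hφP b))
  have hne : ∀ b, φ b • Q₀ ≠ P := fun b h =>
    hQ₀ (by rwa [← hxP b, smul_left_cancel_iff] at h)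
  have he : Function.Bijective e₀ := by
    refine (Nat.bijective_iff_injective_and_card e₀).2 ⟨?_, ?_⟩
    · rintro (_ | a) (_ | b) h
      · rfl
      · exact absurd h.symm (hne b)
      · exact absurd h (hne a)
      · have h1 : φ (-a + b) • Q₀ = Q₀ := by
          rw [← hφadd, mul_smul, show φ b • Q₀ = φ a • Q₀ from h.symm, ← mul_smul, hφadd,
            neg_add_cancel, hφ0, one_smul]
        have h2 := hfree _ (hφP _) (Sylow.smul_eq_iff_mem_normalizer.1 h1)
        rw [← hφ0] at h2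
        have h3 := hφinj h2
        rw [neg_add_eq_zero] at h3
        rw [h3]
    · rw [hn, Nat.card_eq_fintype_card, Fintype.card_option]
  let e : Option R ≃ Sylow p G := Equiv.ofBijective e₀ he
  let f : G →* Equiv.Perm (Option R) :=
    (Equiv.permCongrHom e.symm).toMonoidHom.comp (MulAction.toPermHom G (Sylow p G))
  have hfiff : ∀ (γ : G) (o o' : Option R), f γ o = o' ↔ γ • e₀ o = e₀ o' := fun γ o o' => by
    change e.symm (γ • e o) = o' ↔ _
    rw [Equiv.symm_apply_eq]; rfl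
  have hfinj : Function.Injective f := by
    refine (Equiv.permCongrHom e.symm).injective.comp ((MonoidHom.ker_eq_bot_iff _).1 ?_)
    rcases IsSimpleGroup.eq_bot_or_eq_top_of_normal (MulAction.toPermHom G (Sylow p G)).ker
      inferInstance with h | h
    · exact h
    · exfalso
      refine CfsgLib.Transfer.normalizer_ne_top_of_simple hG hp P (top_le_iff.1 fun γ _ => ?_)
      exact Sylow.smul_eq_iff_mem_normalizer.1
        (congrArg (fun π : Equiv.Perm (Sylow p G) => π P) (MonoidHom.mem_ker.1 (h ▸ mem_top γ)))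
  have hftrans : ∀ b, f (φ b) = ptTrans b := by
    intro b
    ext o : 1
    rw [hfiff]
    rcases o with _ | a
    · exact hxP _
    · show φ b • (φ a • Q₀) = φ (b + a) • Q₀
      rw [← mul_smul, hφadd]
  have hfδ : f δ = ptMul g := by
    ext o : 1
    rw [hfiff]
    rcases o with _ | a
    · exact Sylow.smul_eq_iff_mem_normalizer.2 hδP
    · show δ • (φ a • Q₀) = φ (g a) • Q₀
      rw [← hδ, mul_smul (δ * φ a), Sylow.smul_eq_iff_mem_normalizer.2 (inv_mem hδQ), mul_smul]
  refine ⟨f, hfinj, ⟨fun b => ⟨_, hftrans b⟩, ⟨δ, hfδ⟩, ?_, ?_, fun _ _ _ _ _ _ _ => rfl⟩⟩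
  · rintro _ ⟨γ, rfl⟩ hγ
    obtain ⟨b, hb⟩ : ∃ b, f γ (some 0) = some b := Option.ne_none_iff_exists'.1 fun h =>
      absurd ((f γ).injective (h.trans hγ.symm)) (by simp)
    rw [hfiff] at hb hγ
    have hP' : γ • P = P := hγ
    have hQ' : γ • Q₀ = φ b • Q₀ := by
      have h : γ • (φ 0 • Q₀) = φ b • Q₀ := hb
      rwa [hφ0, one_smul] at h
    obtain ⟨i, hi, hγi⟩ := hH ((φ b)⁻¹ * γ)
      (Sylow.smul_eq_iff_mem_normalizer.1 (by rw [mul_smul, hP', inv_smul_eq_iff, hxP]))
      (Sylow.smul_eq_iff_mem_normalizer.1 (by rw [mul_smul, hQ', inv_smul_smul]))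
    refine ⟨b, i, hi, ?_⟩
    rw [← hftrans, ← hfδ, ← map_pow, ← map_mul, ← hγi, mul_inv_cancel_left]
  · obtain ⟨γ, hγ⟩ := MulAction.exists_smul_eq G P Q₀
    refine ⟨f γ, ⟨γ, rfl⟩, fun h => hQ₀ ?_⟩
    rw [hfiff] at h
    exact hγ.symm.trans h

end CfsgLib.ClassK
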