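import Mathlib

/-!
# Recognition of small two-point-transitive groups on `R ∪ {∞}`

A permutation group on `Option R` containing all translations, whose stabilizer of `∞` consists of
the maps `x ↦ g ^ i x + b`, is determined once a finite check (`Rigid`) succeeds.
-/

set_option autoImplicit false

namespace CfsgLib.ClassK

open Equiv

variable {R : Type*} [AddCommGroup R]

/-- The translation by `b` fixing `none`. -/
def ptTrans (b : R) : Perm (Option R) := (Equiv.addLeft b).optionCongr

/-- An additive automorphism, fixing `none`. -/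
def ptMul (g : R ≃+ R) : Perm (Option R) := g.toEquiv.optionCongr

@[simp] theorem ptTrans_none (b : R) : ptTrans b none = none := rfl

@[simp] theorem ptTrans_some (b x : R) : ptTrans b (some x) = some (b + x) := rfl

@[simp] theorem ptMul_none (g : R ≃+ R) : ptMul g none = none := rfl

@[simp] theorem ptMul_some (g : R ≃+ R) (x : R) : ptMul g (some x) = some (g x) := rfl

theorem ptMul_pow_none (g : R ≃+ R) (i : ℕ) : (ptMul g ^ i) none = none := by
  induction i with
  | zero => rfl
  | succ i ih => rw [pow_succ', Perm.mul_apply, ih, ptMul_none]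

theorem ptMul_pow_some (g : R ≃+ R) (i : ℕ) (x : R) :
    (ptMul g ^ i) (some x) = some ((g : R → R)^[i] x) := by
  induction i with
  | zero => rfl
  | succ i ih => rw [pow_succ', Perm.mul_apply, ih, ptMul_some, Function.iterate_succ_apply']

section Check

variable [DecidableEq R]

/-- The map with `∞ ↦ 0 ↦ ∞`, `g ^ k u ↦ g ^ (e k) c` and `g ^ k v ↦ g ^ (e k) d`. -/
def cand (g : R → R) (m : ℕ) (u v : R) (e : ℕ) (c d : R) : Option R → Option R
  | none => some 0
  | some r =>
    if r = 0 then none else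
      match (List.range m).find? (fun k => decide (g^[k] u = r)) with
      | some k => some (g^[e * k % m] c)
      | none =>
        match (List.range m).find? (fun k => decide (g^[k] v = r)) with
        | some k => some (g^[e * k % m] d)
        | none => none

/-- The map `x ↦ w (w (w x + u) - c)`. -/
def testMap (w : Option R → Option R) (u c : R) (x : Option R) : Option R :=
  w ((w ((w x).map (u + ·))).map (-c + ·))

/-- The only candidate passing the test is `(e₀, c₀, d₀)`. -/
def Rigid (g : R → R) (m : ℕ) (u v : R) (good : ℕ → Bool) (e₀ : ℕ) (c₀ d₀ : R) [Fintype R] : Prop :=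
  ∀ e < m, good e = true → ∀ c ∈ [u, v], ∀ d : R, d ≠ 0 →
    (∃ j < m, ∀ x : R,
      cand g m u v e c d (cand g m u v e c d (some x)) = some (g^[j] x)) →
    (∃ i < m, ∃ b : R, testMap (cand g m u v e c d) u c (some 0) = some b ∧
      ∀ x : R, testMap (cand g m u v e c d) u c (some x) = some (b + g^[i] x)) →
    (e = e₀ ∧ c = c₀ ∧ d = d₀)

set_option synthInstance.maxSize 100000 in
instance [Fintype R] (g : R → R) (m : ℕ) (u v : R) (good : ℕ → Bool) (e₀ : ℕ) (c₀ d₀ : R) :
    Decidable (Rigid g m u v good e₀ c₀ d₀) := by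
  unfold Rigid; infer_instance

end Check

variable [Fintype R] [DecidableEq R]

/-- The data needed of a permutation group on `Option R`. -/
structure LineGroup (g : R ≃+ R) (m : ℕ) (good : ℕ → Bool) (K : Subgroup (Perm (Option R))) :
    Prop where
  trans_mem : ∀ b, ptTrans b ∈ K
  mul_mem' : ptMul g ∈ K
  stab : ∀ k ∈ K, k none = none → ∃ b, ∃ i < m, k = ptTrans b * ptMul g ^ i
  moves : ∃ k ∈ K, k none ≠ none
  allowed : ∀ e < m, ∀ w ∈ K, w none = some 0 → w (some 0) = none →
    w * ptMul g = ptMul g ^ e * w → good e = true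

/-- Two such groups coincide. -/
theorem LineGroup.eq {g : R ≃+ R} {m : ℕ} {good : ℕ → Bool} {K K' : Subgroup (Perm (Option R))}
    (hK : LineGroup g m good K) (hK' : LineGroup g m good K') {u v : R} (hu : u ≠ 0)
    (hgm : ∀ x, (g : R → R)^[m] x = x)
    (horb : ∀ x : R, x ≠ 0 → (∃ i < m, (g : R → R)^[i] u = x) ∨ ∃ i < m, (g : R → R)^[i] v = x)
    {e₀ : ℕ} {c₀ d₀ : R} (hrig : Rigid (g : R → R) m u v good e₀ c₀ d₀) : K = K' := by
  suffices key : ∀ L : Subgroup (Perm (Option R)), LineGroup g m good L →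
      ∃ w ∈ L, w none = some 0 ∧ w (some 0) = none ∧
        (∀ x, w x = cand (g : R → R) m u v e₀ c₀ d₀ x) ∧
        ∀ k ∈ L, k none = none ∨ ∃ c b, ∃ i < m, k = ptTrans c * w⁻¹ * ptTrans b * ptMul g ^ i by
    obtain ⟨w, hw, -, -, hwc, hdec⟩ := key K hK
    obtain ⟨w', hw', -, -, hwc', hdec'⟩ := key K' hK'
    have e : w = w' := Equiv.ext fun x => (hwc x).trans (hwc' x).symm
    subst e
    apply le_antisymm
    · intro k hk
      rcases hdec k hk with h | ⟨c, b, i, -, rfl⟩
      · obtain ⟨b, i, -, rfl⟩ := hK.stab k hk h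
        exact mul_mem (hK'.trans_mem b) (pow_mem hK'.mul_mem' i)
      · exact mul_mem (mul_mem (mul_mem (hK'.trans_mem c) (inv_mem hw')) (hK'.trans_mem b))
          (pow_mem hK'.mul_mem' i)
    · intro k hk
      rcases hdec' k hk with h | ⟨c, b, i, -, rfl⟩
      · obtain ⟨b, i, -, rfl⟩ := hK'.stab k hk h
        exact mul_mem (hK.trans_mem b) (pow_mem hK.mul_mem' i)
      · exact mul_mem (mul_mem (mul_mem (hK.trans_mem c) (inv_mem hw)) (hK.trans_mem b))
          (pow_mem hK.mul_mem' i)
  intro L hL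
  -- an element swapping `∞` and `0`
  obtain ⟨k, hk, hk0⟩ := hL.moves
  obtain ⟨c, hc⟩ := Option.ne_none_iff_exists'.1 hk0
  set k₁ := ptTrans (-c) * k with hk₁def
  have hk₁ : k₁ ∈ L := mul_mem (hL.trans_mem _) hk
  have hk₁0 : k₁ none = some 0 := by simp [hk₁def, Perm.mul_apply, hc]
  obtain ⟨b, hb⟩ : ∃ b, k₁ (some b) = none := by
    rcases hx : k₁⁻¹ none with _ | b
    · rw [Perm.inv_eq_iff_eq] at hx
      rw [hk₁0] at hx; exact absurd hx (by simp)
    · exact ⟨b, by rw [Perm.inv_eq_iff_eq] at hx; exact hx.symm⟩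
  set w₁ := k₁ * ptTrans b with hw₁def
  have hw₁ : w₁ ∈ L := mul_mem hk₁ (hL.trans_mem _)
  have hw₁n : w₁ none = some 0 := by simp [hw₁def, Perm.mul_apply, hk₁0]
  have hw₁z : w₁ (some 0) = none := by simp [hw₁def, Perm.mul_apply, hb]
  -- normalise the value at `u`
  obtain ⟨c₁, hc₁⟩ : ∃ c₁, w₁ (some u) = some c₁ := by
    refine Option.ne_none_iff_exists'.1 fun h => hu ?_
    exact Option.some.inj (w₁.injective (h.trans hw₁z.symm))
  have hc₁0 : c₁ ≠ 0 := by
    rintro rfl
    exact absurd (w₁.injective (hc₁.trans hw₁n.symm)) (by simp)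
  obtain ⟨c', i, hi, hic, hc'⟩ : ∃ c', ∃ i < m, (g : R → R)^[i] c' = c₁ ∧ c' ∈ [u, v] := by
    rcases horb c₁ hc₁0 with ⟨i, hi, h⟩ | ⟨i, hi, h⟩
    · exact ⟨u, i, hi, h, by simp⟩
    · exact ⟨v, i, hi, h, by simp⟩
  set w := ptMul g ^ (m - i) * w₁ with hwdef
  have hw : w ∈ L := mul_mem (pow_mem hL.mul_mem' _) hw₁
  have hg0 : ∀ j, (g : R → R)^[j] 0 = 0 := fun j => Function.iterate_fixed (map_zero g) j
  have hwn : w none = some 0 := by
    rw [hwdef, Perm.mul_apply, hw₁n, ptMul_pow_some, hg0]
  have hwz : w (some 0) = none := by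
    rw [hwdef, Perm.mul_apply, hw₁z, ptMul_pow_none]
  have hwu : w (some u) = some c' := by
    rw [hwdef, Perm.mul_apply, hc₁, ptMul_pow_some, ← hic, ← Function.iterate_add_apply,
      Nat.sub_add_cancel hi.le, hgm]
  clear_value w
  -- the induced map on `⟨g⟩`
  obtain ⟨b', e, he, hwe⟩ := hL.stab (w * ptMul g * w⁻¹)
    (mul_mem (mul_mem hw hL.mul_mem') (inv_mem hw)) (by
      have : w⁻¹ none = some 0 := by rw [Perm.inv_eq_iff_eq, hwz]
      rw [Perm.mul_apply, Perm.mul_apply, this, ptMul_some, map_zero, hwz])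
  have hb' : b' = 0 := by
    have : w⁻¹ (some 0) = none := by rw [Perm.inv_eq_iff_eq, hwn]
    have h := congrArg (fun π : Perm (Option R) => π (some 0)) hwe
    simp only [Perm.mul_apply, this, ptMul_none, hwn, ptMul_pow_some, hg0, ptTrans_some, add_zero,
      Option.some.injEq] at h
    exact h.symm
  have hwg : w * ptMul g = ptMul g ^ e * w := by
    have h1 : ptTrans (0 : R) = 1 := by
      ext x : 1
      rcases x with _ | x <;> simp
    rw [hb', h1, one_mul, mul_inv_eq_iff_eq_mul] at hwe
    exact hwe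
  have hwk : ∀ (j : ℕ) x, w ((ptMul g ^ j) x) = (ptMul g ^ (e * j)) (w x) := by
    intro j x
    induction j with
    | zero => simp
    | succ j ih =>
      have h := congrArg (fun π : Perm (Option R) => π ((ptMul g ^ j) x)) hwg
      simp only [Perm.mul_apply] at h
      rw [pow_succ' (ptMul g) j, Perm.mul_apply, h, ih, Nat.mul_succ, add_comm (e * j) e, pow_add,
        Perm.mul_apply]
  have hgmod : ∀ (n : ℕ) x, (g : R → R)^[n] x = (g : R → R)^[n % m] x := by
    intro n x
    have hfix : ∀ q, (g : R → R)^[m * q] x = x := fun q => by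
      rw [Function.iterate_mul]; exact Function.iterate_fixed (hgm x) q
    conv_lhs => rw [← Nat.mod_add_div n m, Function.iterate_add_apply, hfix]
  obtain ⟨d, hd0, hwv⟩ : ∃ d, d ≠ 0 ∧ (v = 0 ∨ w (some v) = some d) := by
    by_cases hv : v = 0
    · exact ⟨u, hu, Or.inl hv⟩
    obtain ⟨d, hd⟩ : ∃ d, w (some v) = some d :=
      Option.ne_none_iff_exists'.1 fun h => hv (Option.some.inj (w.injective (h.trans hwz.symm)))
    refine ⟨d, ?_, Or.inr hd⟩
    rintro rfl
    exact absurd (w.injective (hd.trans hwn.symm)) (by simp)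
  have hcand : ∀ x, w x = cand (g : R → R) m u v e c' d x := by
    rintro (_ | r)
    · exact hwn
    by_cases hr : r = 0
    · subst hr; simp [cand, hwz]
    simp only [cand, hr, if_false]
    rcases h1 : (List.range m).find? (fun k => decide ((g : R → R)^[k] u = r)) with _ | j
    · dsimp only
      rcases h2 : (List.range m).find? (fun k => decide ((g : R → R)^[k] v = r)) with _ | j
      · exfalso
        rw [List.find?_eq_none] at h1 h2
        rcases horb r hr with ⟨i, hi, h⟩ | ⟨i, hi, h⟩
        · exact h1 i (List.mem_range.2 hi) (by simp [h])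
        · exact h2 i (List.mem_range.2 hi) (by simp [h])
      · have hj : (g : R → R)^[j] v = r := by simpa using List.find?_some h2
        rcases hwv with rfl | hwv
        · exact absurd (hj.symm.trans (hg0 j)) hr
        dsimp only
        rw [← hj, ← ptMul_pow_some, hwk, hwv, ptMul_pow_some, hgmod]
    · have hj : (g : R → R)^[j] u = r := by simpa using List.find?_some h1
      dsimp only
      rw [← hj, ← ptMul_pow_some, hwk, hwu, ptMul_pow_some, hgmod]
  -- the test
  set z := w * ptTrans (-c') * w * ptTrans u * w with hzdef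
  have hz : z ∈ L := mul_mem (mul_mem (mul_mem (mul_mem hw (hL.trans_mem _)) hw) (hL.trans_mem _)) hw
  have hzn : z none = none := by
    simp [hzdef, Perm.mul_apply, hwn, hwu, hwz]
  obtain ⟨bz, iz, hiz, hzeq⟩ := hL.stab z hz hzn
  have htest : ∀ x, testMap (cand (g : R → R) m u v e c' d) u c' x = z x := by
    intro x
    have hm : ∀ (a : R) (o : Option R), o.map (a + ·) = ptTrans a o := fun a o => by
      rcases o with _ | o <;> rfl
    simp only [testMap, ← hcand, hm, hzdef, Perm.mul_apply]
  have hzval : ∀ x, z (some x) = some (bz + (g : R → R)^[iz] x) := fun x => by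
    rw [hzeq, Perm.mul_apply, ptMul_pow_some, ptTrans_some]
  obtain ⟨bw, iw, hiw, hweq⟩ := hL.stab (w * w) (mul_mem hw hw)
    (by rw [Perm.mul_apply, hwn, hwz])
  have hsq : ∀ x, w (w (some x)) = some (bw + (g : R → R)^[iw] x) := fun x => by
    rw [← Perm.mul_apply, hweq, Perm.mul_apply, ptMul_pow_some, ptTrans_some]
  have hbw : bw = 0 := by
    have h := hsq 0
    rw [hwz, hwn, hg0, add_zero, Option.some.injEq] at h
    exact h.symm
  obtain ⟨rfl, rfl, rfl⟩ := hrig e he (hL.allowed e he w hw hwn hwz hwg) c' hc' d hd0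
    ⟨iw, hiw, fun x => by rw [← hcand, ← hcand, hsq, hbw, zero_add]⟩
    ⟨iz, hiz, bz, by rw [htest, hzval, hg0, add_zero], fun x => by rw [htest, hzval]⟩
  refine ⟨w, hw, hwn, hwz, hcand, fun k hk => ?_⟩
  by_cases hkn : k none = none
  · exact Or.inl hkn
  refine Or.inr ?_
  obtain ⟨a, ha⟩ := Option.ne_none_iff_exists'.1 hkn
  obtain ⟨b, i, hi, h⟩ := hL.stab (w * ptTrans (-a) * k)
    (mul_mem (mul_mem hw (hL.trans_mem _)) hk) (by simp [Perm.mul_apply, ha, hwz])
  refine ⟨a, b, i, hi, ?_⟩
  have hinv : ptTrans a * ptTrans (-a) = 1 := by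
    ext x : 1
    rcases x with _ | x <;> simp [Perm.mul_apply]
  rw [mul_assoc (ptTrans a * w⁻¹), ← h, mul_assoc (ptTrans a), ← mul_assoc w⁻¹, inv_mul_cancel_left,
    ← mul_assoc, hinv, one_mul]

end CfsgLib.ClassK
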