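import Cfsg.Agent.Lib.ClassK.SmallOrdersInvol
import Cfsg.Agent.Lib.Char.Diag
import Cfsg.Agent.Lib.Char.Integral
import Mathlib.LinearAlgebra.Eigenspace.Triangularizable

/-!
# No simple group of order 720
-/

set_option autoImplicit false

namespace CfsgLib.ClassK

open Module
open scoped ComplexConjugate

universe u

/-- A representation of degree 4 without fixed vectors under `x`, where `f` acts on the powers of
`x` (of order 5) by squaring, has `det (ρ f) = -1`. -/
theorem det_eq_neg_one_of_four_cycle (X F : Module.End ℂ (Fin 4 → ℂ)) (hX : X ^ 5 = 1)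
    (hF : F ^ 4 = 1) (hXF : X * F = F * X ^ 3) (hfix : ∀ v, X v = v → v = 0) :
    LinearMap.det F = -1 := by
  obtain ⟨μ, hμ⟩ := Module.End.exists_eigenvalue X
  obtain ⟨v, hv⟩ := hμ.exists_hasEigenvector
  have hv1 : X v = μ • v := hv.apply_eq_smul
  have hv0 : v ≠ 0 := hv.right
  have hpow : ∀ (w : Fin 4 → ℂ) (c : ℂ), X w = c • w → ∀ n : ℕ, (X ^ n) w = c ^ n • w := by
    intro w c hw n
    induction n with
    | zero => simp
    | succ n ih => rw [pow_succ, Module.End.mul_apply, hw, map_smul, ih, smul_smul, pow_succ']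
  have hμ5 : μ ^ 5 = 1 := by
    have h := hpow v μ hv1 5
    rw [hX, Module.End.one_apply] at h
    by_contra hne
    refine hv0 ((smul_eq_zero.1 (show (μ ^ 5 - 1) • v = 0 by rw [sub_smul, one_smul, ← h, sub_self]))
      |>.resolve_left (sub_ne_zero.2 hne))
  have hμ1 : μ ≠ 1 := fun h => hv0 (hfix v (by rw [hv1, h, one_smul]))
  have hprim : IsPrimitiveRoot μ 5 :=
    IsPrimitiveRoot.iff_orderOf.2 (orderOf_eq_prime (hp := ⟨by norm_num⟩) hμ5 hμ1)
  let w : Fin 4 → (Fin 4 → ℂ) := fun i => (F ^ (i : ℕ)) v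
  let ev : Fin 4 → ℂ := fun i => μ ^ (3 ^ (i : ℕ) % 5)
  have hstep : ∀ (u : Fin 4 → ℂ) (c : ℂ), X u = c • u → X (F u) = c ^ 3 • F u := by
    intro u c hu
    rw [← Module.End.mul_apply, hXF, Module.End.mul_apply, hpow u c hu, map_smul]
  have hFinj : ∀ (n : ℕ) (u : Fin 4 → ℂ), (F ^ n) u = 0 → u = 0 := by
    intro n u hu
    have h : (F ^ (4 * n)) u = 0 := by
      rw [show 4 * n = 3 * n + n by ring, pow_add, Module.End.mul_apply, hu, map_zero]
    rwa [pow_mul, hF, one_pow, Module.End.one_apply] at h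
  have hred : ∀ m : ℕ, μ ^ m = μ ^ (m % 5) := fun m => pow_eq_pow_mod m hμ5
  have heig : ∀ i, X.HasEigenvector (ev i) (w i) := by
    have hgen : ∀ n : ℕ, X ((F ^ n) v) = μ ^ (3 ^ n) • (F ^ n) v := by
      intro n
      induction n with
      | zero => simpa using hv1
      | succ n ih =>
        rw [pow_succ' F, Module.End.mul_apply, hstep _ _ ih, ← pow_mul, pow_succ 3 n]
    intro i
    refine ⟨Module.End.mem_eigenspace_iff.2 ?_, fun h => hv0 (hFinj _ v h)⟩
    rw [show ev i = μ ^ (3 ^ (i : ℕ)) from (hred _).symm]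
    exact hgen i
  have hinj : Function.Injective ev := by
    intro i j hij
    have hlt : ∀ k : Fin 4, 3 ^ (k : ℕ) % 5 < 5 := fun k => Nat.mod_lt _ (by norm_num)
    have := hprim.pow_inj (hlt i) (hlt j) hij
    clear hij
    revert this
    revert i j
    decide
  have hli := Module.End.eigenvectors_linearIndependent' X ev hinj w heig
  let b := basisOfLinearIndependentOfCardEqFinrank hli (by simp)
  have hb : ∀ i, b i = w i := fun i => by simp [b]
  have hFb : ∀ i : Fin 4, F (b i) = b (i + 1) := by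
    intro i
    rw [hb, hb]
    show F ((F ^ (i : ℕ)) v) = (F ^ ((i + 1 : Fin 4) : ℕ)) v
    rw [← Module.End.mul_apply, ← pow_succ']
    fin_cases i
    · rfl
    · rfl
    · rfl
    · show (F ^ 4) v = (F ^ 0) v
      rw [hF, pow_zero]
  rw [← LinearMap.det_toMatrix b]
  have hM : LinearMap.toMatrix b b F = !![0, 0, 0, 1; 1, 0, 0, 0; 0, 1, 0, 0; 0, 0, 1, 0] := by
    ext i j
    rw [LinearMap.toMatrix_apply, hFb]
    fin_cases i <;> fin_cases j <;> simp [Finsupp.single_apply]
  rw [hM]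
  simp [Matrix.det_succ_row_zero, Fin.sum_univ_succ, Fin.succAbove]
  norm_num

variable {G : Type u} [Group G] [Finite G]

/-- Character values on a normalized subgroup of order 5: they are integers congruent to the
degree, and vanishing fixed space gives degree `-4` times the value. -/
theorem value_of_conj_powers {n : ℕ} (ρ : Representation ℂ G (Fin n → ℂ)) {x : G} (hx : x ^ 5 = 1)
    (hconj : ∀ i : ℕ, 0 < i → i < 5 → IsConj x (x ^ i)) :
    ∃ (a : ℤ) (m : ℕ), ρ.character x = a ∧ (n : ℤ) = 5 * m - 4 * a ∧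
      (m = 0 → ∀ v, ρ x v = v → v = 0) := by
  set X := ρ x with hX
  set e : Module.End ℂ (Fin n → ℂ) := (5 : ℂ)⁻¹ • ∑ i ∈ Finset.range 5, X ^ i with he
  have hX5 : X ^ 5 = 1 := by rw [hX, ← map_pow, hx, map_one]
  have hXe : X * (∑ i ∈ Finset.range 5, X ^ i) = ∑ i ∈ Finset.range 5, X ^ i := by
    simp only [Finset.sum_range_succ, Finset.sum_range_zero, zero_add, pow_zero, mul_add, mul_one,
      ← pow_succ', hX5]
    simp only [pow_one]
    abel
  have hXie : ∀ i : ℕ, X ^ i * (∑ j ∈ Finset.range 5, X ^ j) = ∑ j ∈ Finset.range 5, X ^ j := by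
    intro i
    induction i with
    | zero => rw [pow_zero, one_mul]
    | succ i ih => rw [pow_succ, mul_assoc, hXe, ih]
  have hee : IsIdempotentElem e := by
    show e * e = e
    rw [he, smul_mul_smul_comm, Finset.sum_mul, Finset.sum_congr rfl fun i _ => hXie i,
      Finset.sum_const, Finset.card_range, ← Nat.cast_smul_eq_nsmul ℂ, smul_smul]
    norm_num
  have htr := (LinearMap.isProj_range_iff_isIdempotentElem e).2 hee |>.trace
  set m := Module.finrank ℂ (LinearMap.range e)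
  have hval : ∀ i : ℕ, 0 < i → i < 5 → LinearMap.trace ℂ (Fin n → ℂ) (X ^ i) = ρ.character x := by
    intro i hi hi5
    rw [hX, ← map_pow]
    exact (CfsgLib.Char.isClassFunction_isConj (CfsgLib.Char.isCharacter_isClassFunction ⟨n, ρ, rfl⟩)
      (hconj i hi hi5)).symm
  rw [he, map_smul, map_sum, Finset.sum_range_succ, Finset.sum_range_succ, Finset.sum_range_succ,
    Finset.sum_range_succ, Finset.sum_range_one, pow_zero, LinearMap.trace_one,
    Module.finrank_fin_fun, hval 1 one_pos (by norm_num), hval 2 two_pos (by norm_num),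
    hval 3 three_pos (by norm_num), hval 4 four_pos (by norm_num), smul_eq_mul] at htr
  have hv : ρ.character x = ((((5 * m : ℤ) - n : ℤ) : ℚ) / 4 : ℚ) := by
    push_cast
    linear_combination (5 / 4 : ℂ) * htr
  have hint : IsIntegral ℤ (((((5 * m : ℤ) - n : ℤ) : ℚ) / 4 : ℚ) : ℂ) :=
    hv ▸ CfsgLib.Char.char_isIntegral (ρ := ρ) x
  obtain ⟨a, ha⟩ := CfsgLib.Char.exists_int_of_isIntegral_rat hint
  refine ⟨a, m, by rw [hv, ha]; norm_num, ?_, fun hm v hxv => ?_⟩
  · rw [div_eq_iff (by norm_num)] at ha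
    have : (5 * m : ℤ) - n = a * 4 := by exact_mod_cast ha
    omega
  · have hbot : LinearMap.range e = ⊥ := Submodule.finrank_eq_zero.1 hm
    have h0 : e v = 0 := by
      have := LinearMap.mem_range_self e v
      rwa [hbot, Submodule.mem_bot] at this
    have hiv : ∀ i : ℕ, (X ^ i) v = v := fun i => by
      induction i with
      | zero => simp
      | succ i ih => rw [pow_succ, Module.End.mul_apply, hxv, ih]
    rw [he, LinearMap.smul_apply, LinearMap.sum_apply, Finset.sum_congr rfl fun i _ => hiv i,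
      Finset.sum_const, Finset.card_range, ← Nat.cast_smul_eq_nsmul ℂ, smul_smul] at h0
    simpa using h0

variable [IsSimpleGroup G]

theorem det_rep_eq_one (hG : ¬ IsMulCommutative G) {n : ℕ} (ρ : Representation ℂ G (Fin n → ℂ))
    (g : G) : LinearMap.det (ρ g) = 1 := by
  let d : G →* ℂ := (LinearMap.det : Module.End ℂ (Fin n → ℂ) →* ℂ).comp ρ
  let u := d.toHomUnits
  rcases u.normal_ker.eq_bot_or_eq_top with hk | hk
  · exact absurd ⟨⟨fun a b => (MonoidHom.ker_eq_bot_iff u).1 hk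
      (by rw [map_mul, map_mul, mul_comm])⟩⟩ hG
  · have h : u g = 1 := MonoidHom.mem_ker.1 (hk ▸ Subgroup.mem_top g)
    simpa [u, d] using congrArg Units.val h

theorem card_ne_720 (hG : ¬ IsMulCommutative G) : Nat.card G ≠ 720 := by
  classical
  intro hc
  have := Fintype.ofFinite G
  have := Fintype.ofFinite (Cfsg.IrrCharacter G)
  have : Fact (Nat.Prime 5) := ⟨by norm_num⟩
  obtain ⟨P, hP, hN, hC⟩ := data_720 hG hc
  have hcyc := isCyclic_of_prime_card hP
  -- every automorphism of `P` is induced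
  have hsurj : Function.Surjective P.normalizerMonoidHom := by
    rw [← MonoidHom.range_eq_top]
    apply Subgroup.eq_top_of_card_eq
    have h1 := CfsgLib.Transfer.card_range_normalizerMonoidHom P
    rw [hN, hC] at h1
    rw [IsCyclic.card_mulAut, hP, Nat.totient_prime (by norm_num)]
    omega
  obtain ⟨x', hx'⟩ := exists_prime_orderOf_dvd_card' (G := P) 5 hP.symm.dvd
  set x : G := (x' : G)
  have hxo : orderOf x = 5 := by rw [Subgroup.orderOf_coe, hx']
  have hx5 : x ^ 5 = 1 := hxo ▸ pow_orderOf_eq_one x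
  have hx1 : x ≠ 1 := fun h => by rw [h, orderOf_one] at hxo; omega
  have hz : Subgroup.zpowers x = P :=
    Subgroup.eq_of_le_of_card_ge (Subgroup.zpowers_le.2 x'.2) (by rw [Nat.card_zpowers, hxo, hP])
  have hCx : Nat.card (Subgroup.centralizer ({x} : Set G)) = 5 := by
    rw [← Subgroup.centralizer_closure, ← Subgroup.zpowers_eq_closure, hz, hC]
  have hco : (Nat.card P).Coprime 2 := by rw [hP]; norm_num
  let α : MulAut P := MulEquiv.mk (powCoprime hco)
    fun a b => ((IsCyclic.commGroup (α := P)).mul_comm a b |> fun h => Commute.mul_pow h 2)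
  obtain ⟨f', hf'⟩ := hsurj α
  set f : G := (f' : G)
  have hfx : f * x * f⁻¹ = x ^ 2 := by
    have h := congrArg (fun β : MulAut P => ((β x' : P) : G)) hf'
    exact h
  have hfpow : ∀ i : ℕ, f * x ^ i * f⁻¹ = x ^ (2 * i) := fun i => by
    rw [← conj_pow, hfx, ← pow_mul]
  have hfx2 : f ^ 2 * x * (f ^ 2)⁻¹ = x ^ 4 := by
    rw [show f ^ 2 * x * (f ^ 2)⁻¹ = f * (f * x * f⁻¹) * f⁻¹ by simp [pow_succ, mul_assoc], hfx, hfpow]
  have hfx3 : f ^ 3 * x * (f ^ 3)⁻¹ = x ^ 3 := by
    rw [show f ^ 3 * x * (f ^ 3)⁻¹ = f * (f ^ 2 * x * (f ^ 2)⁻¹) * f⁻¹ by group, hfx2, hfpow,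
      pow_eq_pow_mod _ hx5]
  have hfx4 : f ^ 4 * x * (f ^ 4)⁻¹ = x := by
    rw [show f ^ 4 * x * (f ^ 4)⁻¹ = f * (f ^ 3 * x * (f ^ 3)⁻¹) * f⁻¹ by group, hfx3, hfpow,
      pow_eq_pow_mod _ hx5, pow_one]
  have hf4 : f ^ 4 = 1 := by
    have hmem : f ^ 4 ∈ P := by
      rw [← hz]
      have hP' : Subgroup.centralizer ({x} : Set G) = Subgroup.zpowers x :=
        (Subgroup.eq_of_le_of_card_ge (Subgroup.zpowers_le.2
          (Subgroup.mem_centralizer_singleton_iff.2 rfl)) (by rw [hCx, Nat.card_zpowers, hxo])).symm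
      rw [← hP', Subgroup.mem_centralizer_singleton_iff]
      exact mul_inv_eq_iff_eq_mul.1 hfx4
    obtain ⟨j, hj⟩ : ∃ j : ℕ, x ^ j = f ^ 4 := by
      rw [← hz] at hmem
      obtain ⟨k, hk⟩ := Subgroup.mem_zpowers_iff.1 hmem
      exact mem_powers_iff_mem_zpowers.2 ⟨k, hk⟩
    have h := hfpow j
    rw [hj, show f * f ^ 4 * f⁻¹ = f ^ 4 by group, ← hj, two_mul, pow_add] at h
    rw [← hj, left_eq_mul.1 h]
  have hconj : ∀ i : ℕ, 0 < i → i < 5 → IsConj x (x ^ i) := by
    intro i hi hi5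
    interval_cases i
    · rw [pow_one]
    · exact isConj_iff.2 ⟨f, hfx⟩
    · exact isConj_iff.2 ⟨f ^ 3, hfx3⟩
    · exact isConj_iff.2 ⟨f ^ 2, hfx2⟩
  -- values and degrees
  have hdata : ∀ φ : Cfsg.IrrCharacter G, ∃ (a : ℤ) (D m : ℕ), (φ : G → ℂ) x = a ∧
      (φ : G → ℂ) 1 = D ∧ (D : ℤ) = 5 * m - 4 * a ∧ D ∣ 720 ∧ ¬ (D = 4 ∧ a = -1) := by
    intro φ
    obtain ⟨n, ρ, -, hρ⟩ := φ.2
    obtain ⟨a, m, ha, hn, hm⟩ := value_of_conj_powers ρ hx5 hconj
    have h1 : (φ : G → ℂ) 1 = (n : ℂ) := by rw [← hρ]; simp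
    refine ⟨a, n, m, by rw [← hρ, ha], h1, hn, ?_, ?_⟩
    · have h2 := BlockB.irr_degree_dvd_card φ
      have h3 : (Cfsg.charDegree (φ : G → ℂ) : ℂ) = (n : ℂ) := by
        rw [BlockB.irr_degree_cast φ, h1]
      rw [Nat.cast_inj] at h3
      rwa [h3, hc] at h2
    · rintro ⟨rfl, rfl⟩
      have hm0 : m = 0 := by omega
      have h := det_eq_neg_one_of_four_cycle (ρ x) (ρ f) (by rw [← map_pow, hx5, map_one])
        (by rw [← map_pow, hf4, map_one]) (by
          rw [← map_pow, ← map_mul, ← map_mul]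
          congr 1
          exact (mul_inv_eq_iff_eq_mul.1 (by rw [hfpow 3, pow_eq_pow_mod _ hx5, pow_one] :
            f * x ^ 3 * f⁻¹ = x)).symm) (hm hm0)
      rw [det_rep_eq_one hG ρ f] at h
      norm_num at h
  choose a D m ha hD hDm hDd hD4 using hdata
  let one : Cfsg.IrrCharacter G := ⟨fun _ => 1, CfsgLib.Char.isIrrCharacter_one⟩
  have ha1 : a one = 1 := by exact_mod_cast show ((a one : ℤ) : ℂ) = 1 from (ha one).symm
  have hD1 : D one = 1 := by exact_mod_cast show ((D one : ℕ) : ℂ) = 1 from (hD one).symm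
  have hne1 : ∀ φ, φ ≠ one → 2 ≤ D φ := by
    intro φ hφ
    have h1 := CfsgLib.Transfer.irr_apply_one_ne_one hG φ (fun h => hφ (Subtype.ext h))
    rw [hD] at h1
    have h2 : 0 < D φ := Nat.pos_of_ne_zero fun h => by simpa [h] using hDd φ
    by_contra hlt
    exact h1 (by rw [show D φ = 1 by omega]; norm_num)
  have hsq : ∑ φ, a φ ^ 2 = 5 := by
    have h := CfsgLib.Char.column_orthogonality x x
    rw [if_pos (IsConj.refl x), hCx] at h
    simp only [ha, map_intCast, ← sq] at h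
    exact_mod_cast h
  have hlin : ∑ φ, (D φ : ℤ) * a φ = 0 := by
    have h := CfsgLib.Char.sum_irr_mul_degree x
    rw [if_neg hx1] at h
    simp only [ha, hD] at h
    exact_mod_cast h
  have hdeg : ∑ φ, D φ ^ 2 = 720 := by
    have h := CfsgLib.Char.sum_irr_sq (G := G)
    simp only [hD, hc] at h
    exact_mod_cast h
  set S := (Finset.univ.erase one).filter fun φ => a φ ≠ 0 with hS
  have hsub : S ⊆ Finset.univ.erase one := Finset.filter_subset _ _
  have hzero : ∀ φ ∈ Finset.univ.erase one, φ ∉ S → a φ = 0 := fun φ hφ hn => by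
    by_contra h
    exact hn (Finset.mem_filter.2 ⟨hφ, h⟩)
  rw [← Finset.add_sum_erase _ _ (Finset.mem_univ one), ha1,
    ← Finset.sum_subset hsub (fun φ hφ hn => by rw [hzero φ hφ hn]; rfl)] at hsq
  rw [← Finset.add_sum_erase _ _ (Finset.mem_univ one), ha1, hD1,
    ← Finset.sum_subset hsub (fun φ hφ hn => by rw [hzero φ hφ hn, mul_zero])] at hlin
  rw [← Finset.add_sum_erase _ _ (Finset.mem_univ one), hD1] at hdeg
  have hdegS : ∑ φ ∈ S, D φ ^ 2 ≤ 719 := by
    have := Finset.sum_le_sum_of_subset (f := fun φ => D φ ^ 2) hsub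
    omega
  have hopt : ∀ φ ∈ S, a φ ^ 2 = 4 ∨
      ((a φ, D φ) ∈ [((1 : ℤ), (6 : ℕ)), (-1, 9), (1, 16), (-1, 24)]) := by
    intro φ hφ
    obtain ⟨hφ1, hane⟩ := Finset.mem_filter.1 hφ
    have h2 := hne1 φ (Finset.ne_of_mem_erase hφ1)
    have hle := Finset.single_le_sum (fun ψ _ => sq_nonneg (a ψ)) hφ
    have h3 : a φ ≤ 2 := by nlinarith
    have h4 : -2 ≤ a φ := by nlinarith
    have h5 : D φ ≤ 26 := by
      have := Finset.single_le_sum (f := fun ψ => D ψ ^ 2) (fun _ _ => Nat.zero_le _) hφ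
      nlinarith
    have h6 := hDm φ
    have h7 := hDd φ
    have h8 := hD4 φ
    have h9 : ((D φ : ℤ) - a φ) % 5 = 0 := by omega
    generalize a φ = y at *
    generalize D φ = z at *
    interval_cases y <;> first
      | exact absurd rfl hane
      | (left; norm_num; done)
      | (right
         interval_cases z <;> first
           | omega
           | (exfalso; revert h7; decide)
           | decide)
  by_cases htwo : ∃ φ ∈ S, a φ ^ 2 = 4
  · obtain ⟨φ, hφ, h4⟩ := htwo
    rw [← Finset.add_sum_erase _ _ hφ, h4] at hsq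
    have h0 : ∀ ψ ∈ S.erase φ, a ψ = 0 := fun ψ hψ => by
      have h := Finset.single_le_sum (fun χ _ => sq_nonneg (a χ)) hψ
      have h' : a ψ ^ 2 ≤ 0 := by omega
      exact pow_eq_zero_iff two_ne_zero |>.1 (le_antisymm h' (sq_nonneg _))
    rw [← Finset.add_sum_erase _ _ hφ, Finset.sum_eq_zero fun ψ hψ => by rw [h0 ψ hψ, mul_zero]]
      at hlin
    have hsqrt : a φ = 2 ∨ a φ = -2 := sq_eq_sq_iff_eq_or_eq_neg.1 (h4.trans (by norm_num))
    rcases hsqrt with h | h <;> rw [h] at hlin <;> push_cast at hlin <;> omega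
  · simp only [not_exists, not_and] at htwo
    have hopt' := fun φ hφ => (hopt φ hφ).resolve_left (htwo φ hφ)
    have hone : ∀ φ ∈ S, a φ ^ 2 = 1 := fun φ hφ => by
      have := hopt' φ hφ
      simp only [List.mem_cons, List.not_mem_nil, or_false, Prod.mk.injEq] at this
      rcases this with ⟨h, -⟩ | ⟨h, -⟩ | ⟨h, -⟩ | ⟨h, -⟩ <;> rw [h] <;> rfl
    have hcard : S.card = 4 := by
      rw [Finset.sum_congr rfl hone, Finset.sum_const, nsmul_one] at hsq
      omega
    have hlen : S.toList.length = 4 := by rw [Finset.length_toList, hcard]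
    rw [← Finset.sum_map_toList] at hlin hdegS
    have hmem : ∀ φ ∈ S.toList, φ ∈ S := fun φ => Finset.mem_toList.1
    match hl : S.toList, hlen with
    | [p, q, r, s], _ =>
      rw [hl] at hlin hdegS hmem
      simp only [List.map_cons, List.map_nil, List.sum_cons, List.sum_nil, add_zero] at hlin hdegS
      have key : ∀ A ∈ [((1 : ℤ), (6 : ℕ)), (-1, 9), (1, 16), (-1, 24)],
          ∀ B ∈ [((1 : ℤ), (6 : ℕ)), (-1, 9), (1, 16), (-1, 24)],
          ∀ C ∈ [((1 : ℤ), (6 : ℕ)), (-1, 9), (1, 16), (-1, 24)],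
          ∀ E ∈ [((1 : ℤ), (6 : ℕ)), (-1, 9), (1, 16), (-1, 24)],
          ¬ (1 * 1 + ((A.2 : ℤ) * A.1 + ((B.2 : ℤ) * B.1 + ((C.2 : ℤ) * C.1 + (E.2 : ℤ) * E.1)))
              = 0 ∧ A.2 ^ 2 + (B.2 ^ 2 + (C.2 ^ 2 + E.2 ^ 2)) ≤ 719) := by decide +kernel
      exact key _ (hopt' p (hmem p (by simp))) _ (hopt' q (hmem q (by simp)))
        _ (hopt' r (hmem r (by simp))) _ (hopt' s (hmem s (by simp)))
        ⟨by simpa using hlin, hdegS⟩

end CfsgLib.ClassK
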