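import Cfsg.Agent.Lib.ClassK.LineCoord
import Cfsg.Agent.Lib.Transfer.Frobenius
import Cfsg.Agent.Lib.Transfer.SylowLemmas
import Cfsg.Agent.Lib.Invol.Simple

/-!
# Uniqueness of the simple group of order 360
-/

set_option autoImplicit false

namespace CfsgLib.ClassK

open Subgroup
open scoped Nat

variable {G : Type*} [Group G] [Finite G] [IsSimpleGroup G]

local instance factPrimeThreeSimple360 : Fact (Nat.Prime 3) := ⟨Nat.prime_three⟩
local instance factPrimeTwoSimple360 : Fact (Nat.Prime 2) := ⟨Nat.prime_two⟩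

/-- The rotation of order four of `(ZMod 3) ^ 2`. -/
def rotNine : (ZMod 3 × ZMod 3) ≃+ (ZMod 3 × ZMod 3) where
  toFun x := (-x.2, x.1)
  invFun x := (x.2, -x.1)
  left_inv x := by simp
  right_inv x := by simp
  map_add' x y := by ext <;> simp [add_comm]

theorem nonabelian_360 (h : Nat.card G = 360) : ¬ IsMulCommutative G :=
  CfsgLib.Transfer.not_isMulCommutative_of_not_prime (by rw [h]; norm_num)

theorem card_sylow_three_360 (h : Nat.card G = 360) :
    Nat.card (Sylow 3 G) = 10 ∧ ∀ P : Sylow 3 G, Nat.card (P : Subgroup G) = 9 ∧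
      IsMulCommutative (P : Subgroup G) := by
  have hG := nonabelian_360 h
  have hP : ∀ P : Sylow 3 G, Nat.card (P : Subgroup G) = 9 := fun P => by
    rw [P.card_eq_multiplicity, h, show (360 : ℕ) = 3 ^ 2 * 40 by norm_num,
      Nat.factorization_mul (by norm_num) (by norm_num), Finsupp.add_apply,
      Nat.Prime.factorization_pow Nat.prime_three, Finsupp.single_eq_same,
      Nat.factorization_eq_zero_of_not_dvd (show ¬ 3 ∣ 40 by norm_num), add_zero]
    norm_num
  have hab : ∀ P : Sylow 3 G, IsMulCommutative (P : Subgroup G) := fun P =>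
    IsPGroup.isMulCommutative_of_card_eq_prime_sq (p := 3) (by rw [hP P]; norm_num)
  refine ⟨?_, fun P => ⟨hP P, hab P⟩⟩
  obtain ⟨P⟩ := (inferInstance : Nonempty (Sylow 3 G))
  obtain ⟨h1, hm, hd, hf⟩ := CfsgLib.Transfer.sylow_count_of_simple hG (p := 3) (by rw [h]; norm_num)
  have hN := (normalizer ((P : Subgroup G) : Set G)).card_mul_index
  rw [show (normalizer ((P : Subgroup G) : Set G)).index = Nat.card (Sylow 3 G) from
    P.card_eq_index_normalizer.symm, h] at hN
  have h9 : 9 ∣ Nat.card (normalizer ((P : Subgroup G) : Set G)) :=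
    (hP P).symm.dvd.trans (card_dvd_of_le le_normalizer)
  have hn40 : Nat.card (Sylow 3 G) ≠ 40 := by
    intro e
    rw [e] at hN
    refine CfsgLib.Transfer.not_normalizer_le_centralizer hG (p := 3) (by rw [h]; norm_num) P ?_
    rw [← eq_of_le_of_card_ge (le_normalizer (H := (P : Subgroup G))) (by rw [hP P]; omega)]
    haveI := hab P
    exact le_centralizer _
  obtain ⟨k, hk⟩ := h9
  rw [hk, mul_assoc] at hN
  have hd40 : Nat.card (Sylow 3 G) ∣ 40 := ⟨k, by
    have : k * Nat.card (Sylow 3 G) = 40 := by omega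
    rw [mul_comm]; omega⟩
  have hle := Nat.le_of_dvd (by norm_num) hd40
  rw [h] at hf
  revert h1 hm hd40 hf hn40
  interval_cases (Nat.card (Sylow 3 G)) <;> norm_num [Nat.factorial]

/-- Distinct Sylow `3`-subgroups meet trivially. -/
theorem sylow_three_ti_360 (h : Nat.card G = 360) {P R : Sylow 3 G} (hne : R ≠ P) {x : G}
    (hxP : x ∈ (P : Subgroup G)) (hxR : x ∈ (R : Subgroup G)) : x = 1 := by
  by_contra hx1
  have hG := nonabelian_360 h
  obtain ⟨hn, hall⟩ := card_sylow_three_360 h
  set C := centralizer ({x} : Set G) with hC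
  have hle : ∀ S : Sylow 3 G, x ∈ (S : Subgroup G) → (S : Subgroup G) ≤ C := fun S hS s hs =>
    mem_centralizer_singleton_iff.2
      (congrArg Subtype.val ((hall S).2.is_comm.comm (⟨s, hs⟩ : (S : Subgroup G)) ⟨x, hS⟩))
  have hCtop : C ≠ ⊤ := fun e => hx1 (by
    have hz : x ∈ center G := mem_center_iff.2 fun g =>
      mem_centralizer_singleton_iff.1 (e.ge (mem_top g))
    rwa [CfsgLib.Invol.center_eq_bot_of_simple hG, mem_bot] at hz)
  -- `C` has at least four Sylow `3`-subgroups
  set PC := P.subtype (hle P hxP) with hPC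
  set RC := R.subtype (hle R hxR) with hRC
  have hPRC : RC ≠ PC := fun e => hne (Sylow.subtype_injective e)
  have h4 : 4 ≤ Nat.card (Sylow 3 C) := by
    have h1 : 1 < Nat.card (Sylow 3 C) :=
      Finite.one_lt_card_iff_nontrivial.2 ⟨⟨RC, PC, hPRC⟩⟩
    have h2 := card_sylow_modEq_one 3 C
    simp only [Nat.ModEq] at h2
    omega
  have hidx : Nat.card (Sylow 3 C) ∣ (PC : Subgroup C).index := PC.card_dvd_index
  have hPCc : Nat.card (PC : Subgroup C) = 9 := by
    rw [hPC, Sylow.coe_subtype, Nat.card_congr (subgroupOfEquivOfLe (hle P hxP)).toEquiv,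
      (hall P).1]
  obtain ⟨c, hc⟩ : ∃ c, (PC : Subgroup C).index = c := ⟨_, rfl⟩
  have hCc : Nat.card C = 9 * c := by
    rw [← (PC : Subgroup C).card_mul_index, hPCc, hc]
  have hfac := CfsgLib.Transfer.two_mul_card_dvd_factorial hG hCtop
  have hCi := C.card_mul_index
  rw [hCc, h, mul_assoc] at hCi
  rw [h] at hfac
  have hci : c * C.index = 40 := by omega
  have hcdvd : c ∣ 40 := ⟨C.index, hci.symm⟩
  rw [hc] at hidx
  have hmod := card_sylow_modEq_one 3 C
  simp only [Nat.ModEq] at hmod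
  -- so `|C| = 36` with four Sylow `3`-subgroups
  have hc4 : c = 4 ∧ Nat.card (Sylow 3 C) = 4 := by
    have hc8 : C.index ≠ 0 := FiniteIndex.index_ne_zero
    have hi6 : 6 ≤ C.index := by
      by_contra hlt
      have : 720 ≤ C.index ! := Nat.le_of_dvd (Nat.factorial_pos _) hfac
      have h5 : C.index ! ≤ (5 : ℕ) ! := Nat.factorial_le (by omega)
      norm_num [Nat.factorial] at h5
      omega
    have hc6 : c ≤ 6 := by nlinarith
    have hn4 : Nat.card (Sylow 3 C) ≤ c :=
      Nat.le_of_dvd (Nat.pos_of_ne_zero fun e => by rw [e] at hci; simp at hci) hidx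
    interval_cases c <;> interval_cases (Nat.card (Sylow 3 C)) <;> omega
  obtain ⟨rfl, hn4⟩ := hc4
  -- a normal four-group
  have hNC : normalizer ((PC : Subgroup C) : Set C) ≤ centralizer ((PC : Subgroup C) : Set C) := by
    rw [← eq_of_le_of_card_ge (le_normalizer (H := (PC : Subgroup C))) (by
      have := (normalizer ((PC : Subgroup C) : Set C)).card_mul_index
      rw [show (normalizer ((PC : Subgroup C) : Set C)).index = 4 from
        PC.card_eq_index_normalizer.symm.trans hn4, hCc] at this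
      rw [hPCc]; omega)]
    intro a ha
    exact mem_centralizer_iff.2 fun b hb => Subtype.ext
      (congrArg Subtype.val ((hall P).2.is_comm.comm
        (⟨(b : G), mem_subgroupOf.1 hb⟩ : (P : Subgroup G)) ⟨(a : G), mem_subgroupOf.1 ha⟩) :)
  obtain ⟨S, K, hK, hKS⟩ :=
    CfsgLib.Transfer.hasNormalPComplement_of_normalizer_le_centralizer PC hNC
  have hKc : Nat.card K = 4 := by
    have h' := hKS.card_mul
    have hS : Nat.card (S : Subgroup C) = 9 :=
      (Nat.card_congr (S.equiv PC).toEquiv).trans hPCc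
    rw [hS, hCc] at h'
    omega
  set V := K.map C.subtype with hV
  have hVc : Nat.card V = 4 := by rw [hV, card_map_of_injective C.subtype_injective, hKc]
  have hCN : C ≤ normalizer (V : Set G) := by
    haveI := hK
    have h1 := Subgroup.le_normalizer_map C.subtype (H := K)
    rwa [normalizer_eq_top, ← MonoidHom.range_eq_map, range_subtype] at h1
  obtain ⟨T, hT⟩ := (IsPGroup.of_card (n := 2) (p := 2) (show Nat.card V = 2 ^ 2 by rw [hVc]; norm_num)).exists_le_sylow
  have hT8 : Nat.card (T : Subgroup G) = 8 := by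
    rw [T.card_eq_multiplicity, h, show (360 : ℕ) = 2 ^ 3 * 45 by norm_num,
      Nat.factorization_mul (by norm_num) (by norm_num), Finsupp.add_apply,
      Nat.Prime.factorization_pow Nat.prime_two, Finsupp.single_eq_same,
      Nat.factorization_eq_zero_of_not_dvd (show ¬ 2 ∣ 45 by norm_num), add_zero]
    norm_num
  have hVT : V < (T : Subgroup G) := lt_of_le_of_ne hT fun e => by
    rw [e, hT8] at hVc; norm_num at hVc
  obtain ⟨y, hyT, hyN, hyV⟩ := CfsgLib.Transfer.exists_mem_normalizer_not_mem T.2 hVT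
  set M := normalizer (V : Set G) with hM
  have h36 : 36 ∣ Nat.card M := by
    have := card_dvd_of_le hCN
    rw [hCc] at this
    exact this
  have h8 : 8 ∣ Nat.card M := by
    have hTM : (T : Subgroup G) ≤ M := by
      set U := V ⊔ zpowers y with hU
      have hUT : U ≤ (T : Subgroup G) := sup_le hT (zpowers_le.2 hyT)
      have hUM : U ≤ M := sup_le le_normalizer (zpowers_le.2 hyN)
      have hUeq : U = (T : Subgroup G) := by
        have hlt : V < U := lt_of_le_of_ne le_sup_left fun e =>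
          hyV (e ▸ mem_sup_right (mem_zpowers y))
        have h1 : 4 < Nat.card U := hVc ▸ lt_of_le_of_ne (Subgroup.card_le_of_le hlt.le)
          fun e => hlt.ne (eq_of_le_of_card_ge hlt.le e.ge)
        have h2 := card_dvd_of_le hUT
        rw [hT8] at h2
        refine eq_of_le_of_card_ge hUT ?_
        rw [hT8]
        have h3 := Nat.le_of_dvd (by norm_num) h2
        revert h2 h1
        interval_cases (Nat.card U) <;> norm_num
      rw [← hUeq]; exact hUM
    exact hT8 ▸ card_dvd_of_le hTM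
  have h72 : 72 ∣ Nat.card M := Nat.lcm_dvd h36 h8
  by_cases hMtop : M = ⊤
  · haveI : V.Normal := normalizer_eq_top_iff.1 hMtop
    rcases IsSimpleGroup.eq_bot_or_eq_top_of_normal V inferInstance with e | e
    · rw [e, card_bot] at hVc; norm_num at hVc
    · rw [e, card_top, h] at hVc; norm_num at hVc
  · have hfac' := CfsgLib.Transfer.two_mul_card_dvd_factorial hG hMtop
    have hMi := M.card_mul_index
    obtain ⟨j, hj⟩ := h72
    rw [hj, h, mul_assoc] at hMi
    have hji : j * M.index = 5 := by omega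
    have hi5 : M.index ≤ 5 := Nat.le_of_dvd (by norm_num) ⟨j, by rw [← hji]; ring⟩
    rw [h] at hfac'
    have h720 : 720 ≤ M.index ! := Nat.le_of_dvd (Nat.factorial_pos _) hfac'
    have h5 : M.index ! ≤ (5 : ℕ) ! := Nat.factorial_le hi5
    norm_num [Nat.factorial] at h5
    omega

/-- A simple group of order 360 acts on ten points as the standard line group. -/
theorem exists_lineGroup_360 (h : Nat.card G = 360) :
    ∃ f : G →* Equiv.Perm (Option (ZMod 3 × ZMod 3)), Function.Injective f ∧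
      LineGroup rotNine 4 (fun _ => true) f.range := by
  classical
  have hG := nonabelian_360 h
  obtain ⟨hn, hall⟩ := card_sylow_three_360 h
  obtain ⟨P⟩ := (inferInstance : Nonempty (Sylow 3 G))
  obtain ⟨hPc, hPab⟩ := hall P
  haveI : Nontrivial (Sylow 3 G) := by
    rw [← Finite.one_lt_card_iff_nontrivial, hn]; norm_num
  obtain ⟨Q₀, hQ₀⟩ := exists_ne P
  have hfree : ∀ y ∈ (P : Subgroup G), y ∈ normalizer ((Q₀ : Subgroup G) : Set G) → y = 1 :=
    fun y hy hyQ => sylow_three_ti_360 h hQ₀ hy ((P.2.inf_normalizer_sylow Q₀).le ⟨hy, hyQ⟩).2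
  have hpow3 : ∀ v ∈ (P : Subgroup G), v ^ 3 = 1 ∨ orderOf v = 9 := by
    intro v hv
    have hd := Subgroup.orderOf_dvd_natCard _ hv
    rw [hPc] at hd
    have hle := Nat.le_of_dvd (by norm_num) hd
    by_cases h9 : orderOf v = 9
    · exact Or.inr h9
    refine Or.inl (orderOf_dvd_iff_pow_eq_one.1 ?_)
    revert hd h9
    interval_cases (orderOf v) <;> norm_num
  have hcomm : ∀ a ∈ (P : Subgroup G), ∀ b ∈ (P : Subgroup G), Commute a b := fun a ha b hb =>
    congrArg Subtype.val (hPab.is_comm.comm (⟨a, ha⟩ : (P : Subgroup G)) ⟨b, hb⟩)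
  set N := normalizer ((P : Subgroup G) : Set G) with hN
  set H := N ⊓ normalizer ((Q₀ : Subgroup G) : Set G) with hH
  have hNc : Nat.card N = 36 := by
    have h' := N.card_mul_index
    rw [show N.index = 10 from P.card_eq_index_normalizer.symm.trans hn, h] at h'
    omega
  -- the points other than `P` are a regular orbit of `P`
  have hpfix : ∀ u ∈ (P : Subgroup G), u • P = P := fun u hu =>
    Sylow.smul_eq_iff_mem_normalizer.2 (le_normalizer hu)
  have hpts : ∀ S : Sylow 3 G, S ≠ P → ∃ u : (P : Subgroup G), (u : G) • Q₀ = S := by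
    let q : ↥(P : Subgroup G) → {S : Sylow 3 G // S ≠ P} := fun u => ⟨(u : G) • Q₀, fun e => hQ₀
      (smul_left_cancel (u : G) (e.trans (hpfix _ u.2).symm))⟩
    have hq : Function.Injective q := fun u u' e => by
      have e' : (u : G) • Q₀ = (u' : G) • Q₀ := congrArg Subtype.val e
      have := hfree _ ((u'⁻¹ * u).2) (Sylow.smul_eq_iff_mem_normalizer.1 (by
        show ((u' : G)⁻¹ * u) • Q₀ = Q₀
        rw [mul_smul, e', inv_smul_smul]))
      exact (inv_mul_eq_one.1 (show u'⁻¹ * u = 1 from Subtype.ext this)).symm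
    intro S hS
    have hsurj : Function.Surjective q := ((Nat.bijective_iff_injective_and_card q).2 ⟨hq, by
      let _ : Fintype (Sylow 3 G) := Fintype.ofFinite _
      rw [hPc, Nat.card_eq_fintype_card, Fintype.card_subtype_compl, Fintype.card_subtype_eq,
        ← Nat.card_eq_fintype_card, hn]⟩).2
    obtain ⟨u, hu⟩ := hsurj ⟨S, hS⟩
    exact ⟨u, congrArg Subtype.val hu⟩
  have hH4 : Nat.card H = 4 := by
    let prodMap : ↥(P : Subgroup G) × H → N := fun q =>
      ⟨(q.1 : G) * q.2, mul_mem (le_normalizer q.1.2) (mem_inf.1 q.2.2).1⟩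
    have hprodMap : Function.Bijective prodMap := by
      constructor
      · rintro ⟨u, a⟩ ⟨u', a'⟩ e
        have e' : (u : G) * a = u' * a' := congrArg Subtype.val e
        have e2 : ((u'⁻¹ * u : (P : Subgroup G)) : G) = (a' : G) * (a : G)⁻¹ := by
          push_cast
          rw [eq_mul_inv_iff_mul_eq, mul_assoc, e', inv_mul_cancel_left]
        have h1 := hfree _ (u'⁻¹ * u).2 (by
          rw [e2]; exact mul_mem (mem_inf.1 a'.2).2 (inv_mem (mem_inf.1 a.2).2))
        have hu : u' = u := inv_mul_eq_one.1 (Subtype.ext h1)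
        subst hu
        rw [mul_right_inj] at e'
        exact Prod.ext rfl (Subtype.ext e')
      · intro γ
        have hγP : (γ : G) • P = P := Sylow.smul_eq_iff_mem_normalizer.2 γ.2
        obtain ⟨u, hu⟩ := hpts ((γ : G) • Q₀) fun e => hQ₀ (by
          conv_rhs at e => rw [← hγP]
          exact smul_left_cancel _ e)
        refine ⟨(u, ⟨(u : G)⁻¹ * γ, mem_inf.2 ⟨mul_mem (inv_mem (le_normalizer u.2)) γ.2,
          Sylow.smul_eq_iff_mem_normalizer.1 (by rw [mul_smul, ← hu, inv_smul_smul])⟩⟩),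
          Subtype.ext (mul_inv_cancel_left _ _)⟩
    have h' := Nat.card_eq_of_bijective prodMap hprodMap
    rw [Nat.card_prod, hPc, hNc] at h'
    omega
  have hconjP : ∀ γ ∈ H, ∀ u ∈ (P : Subgroup G), γ * u * γ⁻¹ ∈ (P : Subgroup G) :=
    fun γ hγ u hu => (mem_normalizer_iff.1 (mem_inf.1 hγ).1 u).1 hu
  have hmove : ∀ γ ∈ H, ∀ u : (P : Subgroup G),
      (γ • ((u : G) • Q₀) = (u : G) • Q₀ ↔ γ * u * γ⁻¹ = u) := by
    intro γ hγ u
    have hγQ : γ⁻¹ • Q₀ = Q₀ :=
      Sylow.smul_eq_iff_mem_normalizer.2 (inv_mem (mem_inf.1 hγ).2)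
    constructor
    · intro e
      have e' : (γ * u * γ⁻¹) • Q₀ = (u : G) • Q₀ := by
        rw [mul_smul, hγQ, mul_smul, e]
      have h1 := hfree ((u : G)⁻¹ * (γ * u * γ⁻¹)) (mul_mem (inv_mem u.2) (hconjP γ hγ u u.2))
        (Sylow.smul_eq_iff_mem_normalizer.1 (by rw [mul_smul, e', inv_smul_smul]))
      exact (inv_mul_eq_one.1 h1).symm
    · intro e
      conv_rhs => rw [← e, mul_smul, hγQ]
      rw [mul_smul]
  have hfaith : ∀ γ ∈ H, (∀ u ∈ (P : Subgroup G), γ * u * γ⁻¹ = u) → γ = 1 := by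
    intro γ hγ hcen
    have hk : γ ∈ (MulAction.toPermHom G (Sylow 3 G)).ker := by
      rw [MonoidHom.mem_ker]
      refine Equiv.ext fun S => ?_
      show γ • S = S
      by_cases hS : S = P
      · rw [hS]; exact Sylow.smul_eq_iff_mem_normalizer.2 (mem_inf.1 hγ).1
      · obtain ⟨u, rfl⟩ := hpts S hS
        exact (hmove γ hγ u).2 (hcen u u.2)
    rcases IsSimpleGroup.eq_bot_or_eq_top_of_normal (MulAction.toPermHom G (Sylow 3 G)).ker
      inferInstance with e | e
    · rwa [e, mem_bot] at hk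
    · exfalso
      refine CfsgLib.Transfer.normalizer_ne_top_of_simple hG (p := 3) (by rw [h]; norm_num) P
        (top_le_iff.1 fun g _ => Sylow.smul_eq_iff_mem_normalizer.1 ?_)
      exact congrArg (fun π : Equiv.Perm (Sylow 3 G) => π P) (MonoidHom.mem_ker.1 (e ▸ mem_top g))
  -- involutions of `H` invert `P`
  have hinv : ∀ γ ∈ H, orderOf γ = 2 → ∀ u ∈ (P : Subgroup G), γ * u * γ⁻¹ = u⁻¹ := by
    intro γ hγ hγ2
    -- fixed-point-free on `P`
    have hfpf : ∀ u ∈ (P : Subgroup G), γ * u * γ⁻¹ = u → u = 1 := by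
      by_contra! hcon
      obtain ⟨u₀, hu₀, hu₀f, hu₀1⟩ := hcon
      set F := (P : Subgroup G) ⊓ centralizer ({γ} : Set G) with hF
      have hu₀F : u₀ ∈ F := mem_inf.2
        ⟨hu₀, mem_centralizer_singleton_iff.2 (mul_inv_eq_iff_eq_mul.1 hu₀f).symm⟩
      have hFd : Nat.card F ∣ 9 := hPc ▸ card_dvd_of_le inf_le_left
      have hF1 : Nat.card F ≠ 1 := fun e =>
        hu₀1 (mem_bot.1 ((card_eq_one.1 e).le hu₀F))
      have hF9 : Nat.card F ≠ 9 := fun e => by
        have hle : (P : Subgroup G) ≤ F := (eq_of_le_of_card_ge inf_le_left (by rw [e, hPc])).ge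
        have := hfaith γ hγ fun u hu => by
          rw [← mem_centralizer_singleton_iff.1 (mem_inf.1 (hle hu)).2, mul_inv_cancel_right]
        rw [this, orderOf_one] at hγ2
        norm_num at hγ2
      have hF3 : Nat.card F = 3 := by
        have := Nat.le_of_dvd (by norm_num) hFd
        revert hFd hF1 hF9
        interval_cases (Nat.card F) <;> norm_num
      -- four fixed points
      let _ : Fintype (Sylow 3 G) := Fintype.ofFinite _
      set σ := MulAction.toPermHom G (Sylow 3 G) γ with hσ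
      have hσP : γ • P = P := Sylow.smul_eq_iff_mem_normalizer.2 (mem_inf.1 hγ).1
      let fx : Option F → Function.fixedPoints σ := fun o => o.elim ⟨P, hσP⟩
        fun u => ⟨(u : G) • Q₀, (hmove γ hγ ⟨u, (mem_inf.1 u.2).1⟩).2 (by
          show γ * (u : G) * γ⁻¹ = u
          rw [← mem_centralizer_singleton_iff.1 (mem_inf.1 u.2).2, mul_inv_cancel_right])⟩
      have hfx : Function.Bijective fx := by
        constructor
        · have hne : ∀ u : F, (u : G) • Q₀ ≠ P := fun u e => hQ₀
            (smul_left_cancel (u : G) (e.trans (hpfix _ (mem_inf.1 u.2).1).symm))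
          rintro (_ | u) (_ | u') e
          · rfl
          · exact absurd (congrArg Subtype.val e).symm (hne u')
          · exact absurd (congrArg Subtype.val e) (hne u)
          · have e' : (u : G) • Q₀ = (u' : G) • Q₀ := congrArg Subtype.val e
            have := hfree _ (mul_mem (inv_mem (mem_inf.1 u'.2).1) (mem_inf.1 u.2).1)
              (Sylow.smul_eq_iff_mem_normalizer.1
                (show ((u' : G)⁻¹ * u) • Q₀ = Q₀ by rw [mul_smul, e', inv_smul_smul]))
            rw [inv_mul_eq_one] at this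
            rw [Subtype.ext this.symm]
        · rintro ⟨S, hS⟩
          by_cases hSP : S = P
          · exact ⟨none, Subtype.ext hSP.symm⟩
          · obtain ⟨u, rfl⟩ := hpts S hSP
            exact ⟨some ⟨u, mem_inf.2 ⟨u.2, mem_centralizer_singleton_iff.2
              (mul_inv_eq_iff_eq_mul.1 ((hmove γ hγ u).1 hS)).symm⟩⟩, rfl⟩
      have hfour : Fintype.card (Function.fixedPoints σ) = 4 := by
        rw [← Nat.card_eq_fintype_card, ← Nat.card_eq_of_bijective fx hfx, Finite.card_option, hF3]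
      have hσ2 : σ ^ 2 = 1 := by
        rw [hσ, ← map_pow, ← hγ2, pow_orderOf_eq_one, map_one]
      have hodd := Equiv.Perm.sign_of_pow_two_eq_one hσ2
      rw [hfour, ← Nat.card_eq_fintype_card, hn, hσ,
        CfsgLib.Transfer.sign_eq_one_of_simple hG] at hodd
      exact absurd hodd (by decide)
    intro u hu
    set v := γ * u * γ⁻¹
    have hγγ : γ * γ = 1 := by rw [← sq, ← hγ2, pow_orderOf_eq_one]
    have hfix : γ * (v * u) * γ⁻¹ = v * u := by
      rw [show γ * (v * u) * γ⁻¹ = (γ * γ) * u * (γ * γ)⁻¹ * v by simp only [v]; group,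
        hγγ, inv_one, one_mul, mul_one]
      exact (hcomm u hu v (hconjP γ hγ u hu)).eq
    exact eq_inv_of_mul_eq_one_left (hfpf _ (mul_mem (hconjP γ hγ u hu) hu) hfix)
  -- a generator of `H`
  have huniq : ∀ a ∈ H, ∀ b ∈ H, orderOf a = 2 → orderOf b = 2 → a = b := by
    intro a ha b hb hao hbo
    have := hfaith (a * b) (mul_mem ha hb) fun u hu => by
      rw [show a * b * u * (a * b)⁻¹ = a * (b * u * b⁻¹) * a⁻¹ by group, hinv b hb hbo u hu,
        hinv a ha hao _ (inv_mem hu), inv_inv]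
    rw [mul_eq_one_iff_eq_inv] at this
    rw [this, inv_eq_iff_mul_eq_one, ← sq, ← hbo, pow_orderOf_eq_one]
  obtain ⟨δ, hδH, hδ4⟩ : ∃ δ ∈ H, orderOf δ = 4 := by
    by_contra! hno
    have hord : ∀ a : H, a ≠ 1 → orderOf (a : G) = 2 := by
      intro a ha
      have hd := _root_.orderOf_dvd_natCard a
      rw [hH4, ← Subgroup.orderOf_coe] at hd
      have hle := Nat.le_of_dvd (by norm_num) hd
      have h0 : orderOf (a : G) ≠ 1 := fun e => ha (Subtype.ext (orderOf_eq_one_iff.1 e))
      have h4 := hno a a.2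
      revert hd h0 h4
      interval_cases (orderOf (a : G)) <;> norm_num
    haveI : Nontrivial H := Finite.one_lt_card_iff_nontrivial.1 (by rw [hH4]; norm_num)
    obtain ⟨a, ha⟩ := exists_ne (1 : H)
    have hcov : Function.Surjective (fun b : Bool => if b then a else 1) := by
      intro b
      by_cases hb : b = 1
      · exact ⟨false, hb.symm⟩
      · exact ⟨true, Subtype.ext (huniq a a.2 b b.2 (hord a ha) (hord b hb))⟩
    have := Nat.card_le_card_of_surjective _ hcov
    rw [hH4] at this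
    simp at this
  have hδsq : ∀ u ∈ (P : Subgroup G), δ * (δ * u * δ⁻¹) * δ⁻¹ = u⁻¹ := by
    intro u hu
    rw [← hinv (δ * δ) (mul_mem hδH hδH) (by
      rw [← sq, orderOf_pow' _ two_ne_zero, hδ4]; norm_num) u hu]
    group
  -- no element of order nine
  have hexp : ∀ v ∈ (P : Subgroup G), v ^ 3 = 1 := by
    intro v hv
    rcases hpow3 v hv with h' | h9
    · exact h'
    exfalso
    obtain ⟨k, hk⟩ := mem_powers_iff_mem_zpowers.2 (show δ * v * δ⁻¹ ∈ zpowers v by
      rw [eq_of_le_of_card_ge (zpowers_le.2 hv) (by rw [Nat.card_zpowers, h9, hPc])]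
      exact hconjP δ hδH v hv)
    have hk' : δ * v * δ⁻¹ = v ^ k := hk.symm
    have h2 := hδsq v hv
    rw [hk', ← conj_pow, hk', ← pow_mul, eq_inv_iff_mul_eq_one, ← pow_succ,
      ← orderOf_dvd_iff_pow_eq_one, h9] at h2
    obtain ⟨c, hc⟩ := h2
    have hmod : ((k * k + 1 : ℕ) : ZMod 9) = ((9 * c : ℕ) : ZMod 9) := congrArg Nat.cast hc
    push_cast at hmod
    have h90 : (9 : ZMod 9) = 0 := by decide
    rw [h90, zero_mul] at hmod
    exact (by decide : ∀ x : ZMod 9, x * x + 1 ≠ 0) _ hmod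
  haveI : Nontrivial (P : Subgroup G) :=
    Finite.one_lt_card_iff_nontrivial.1 (by rw [hPc]; norm_num)
  obtain ⟨⟨v, hvP⟩, hv1⟩ := exists_ne (1 : (P : Subgroup G))
  have hv1' : v ≠ 1 := fun e => hv1 (Subtype.ext e)
  set w := δ * v * δ⁻¹ with hw
  have hwP : w ∈ (P : Subgroup G) := hconjP δ hδH v hvP
  have hvw : Commute v w := hcomm v hvP w hwP
  let emb : ZMod 3 × ZMod 3 → G := fun a => v ^ a.1.val * w ^ a.2.val
  have hpowmod : ∀ u ∈ (P : Subgroup G), ∀ n : ℕ, u ^ n = u ^ (n : ZMod 3).val := fun u hu n => by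
    rw [ZMod.val_natCast, ← pow_eq_pow_mod n (hexp u hu)]
  have hpadd : ∀ u ∈ (P : Subgroup G), ∀ a b : ZMod 3, u ^ a.val * u ^ b.val = u ^ (a + b).val :=
    fun u hu a b => by
      rw [← pow_add, hpowmod u hu, Nat.cast_add, ZMod.natCast_zmod_val, ZMod.natCast_zmod_val]
  have hembadd : ∀ a b, emb a * emb b = emb (a + b) := fun a b => by
    simp only [emb, Prod.fst_add, Prod.snd_add, ← hpadd v hvP, ← hpadd w hwP]
    exact ((hvw.pow_pow b.1.val a.2.val).symm).mul_mul_mul_comm _ _
  have hembP : ∀ a, emb a ∈ (P : Subgroup G) := fun a => mul_mem (pow_mem hvP _) (pow_mem hwP _)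
  have hδemb : ∀ a, δ * emb a * δ⁻¹ = emb (rotNine a) := fun a => by
    have h1 : (v⁻¹) ^ a.2.val = v ^ (-a.2).val := by
      rw [inv_pow, inv_eq_iff_mul_eq_one, hpadd v hvP, add_neg_cancel, ZMod.val_zero, pow_zero]
    show δ * (v ^ a.1.val * w ^ a.2.val) * δ⁻¹ = v ^ (-a.2).val * w ^ a.1.val
    rw [show δ * (v ^ a.1.val * w ^ a.2.val) * δ⁻¹ =
      (δ * v ^ a.1.val * δ⁻¹) * (δ * w ^ a.2.val * δ⁻¹) by group, ← conj_pow, ← conj_pow, ← hw,
      hδsq v hvP, h1]
    exact (hvw.pow_pow _ _).eq.symm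
  have hembinj : Function.Injective emb := by
    have hemb0 : emb 0 = 1 := by simp [emb]
    have hker : ∀ a, emb a = 1 → a = 0 := by
      intro a ha
      have hb : emb (rotNine a) = 1 := by rw [← hδemb, ha, mul_one, mul_inv_cancel]
      by_contra hne
      have hsmul : ∀ (x : ZMod 3 × ZMod 3) (n : ℕ), emb x = 1 → emb (n • x) = 1 := fun x n hx => by
        induction n with
        | zero => rw [zero_smul, hemb0]
        | succ n ih => rw [succ_nsmul, ← hembadd, ih, hx, one_mul]
      obtain ⟨i, j, hij⟩ := (by decide : ∀ x : ZMod 3 × ZMod 3, x ≠ 0 →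
        ∃ i j : Fin 3, (i : ℕ) • x + (j : ℕ) • (-x.2, x.1) = (1, 0)) a hne
      have hb' : emb (-a.2, a.1) = 1 := hb
      have h10 : emb (1, 0) = 1 := by
        rw [← hij, ← hembadd, hsmul a i ha, hsmul _ j hb', one_mul]
      exact hv1' (by simpa [emb, show (1 : ZMod 3).val = 1 from rfl] using h10)
    intro a b e
    have h1 : emb (a + -b) = 1 := by
      rw [← hembadd, e, hembadd, add_neg_cancel, hemb0]
    exact eq_of_sub_eq_zero (by rw [sub_eq_add_neg]; exact hker _ h1)
  refine exists_lineGroup_coord hG (by rw [h]; norm_num) P Q₀ (by rw [hn]; rfl) hQ₀ hfree emb hembadd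
    hembP hembinj rotNine δ (mem_inf.1 hδH).1 (mem_inf.1 hδH).2 hδemb fun γ hγP hγQ => ?_
  have hz : zpowers δ = H := eq_of_le_of_card_ge (zpowers_le.2 hδH)
    (by rw [hH4, Nat.card_zpowers, hδ4])
  obtain ⟨k, hk⟩ := mem_powers_iff_mem_zpowers.2 (hz.ge (mem_inf.2 ⟨hγP, hγQ⟩))
  exact ⟨k % 4, Nat.mod_lt _ (by norm_num), by
    rw [← hδ4, pow_mod_orderOf]; exact hk.symm⟩

theorem nonempty_equiv_360 {H : Type*} [Group H] [Finite H] [IsSimpleGroup H]
    (h : Nat.card G = 360) (h' : Nat.card H = 360) : Nonempty (G ≃* H) := by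
  obtain ⟨f, hf, hl⟩ := exists_lineGroup_360 h
  obtain ⟨f', hf', hl'⟩ := exists_lineGroup_360 h'
  exact ⟨((MonoidHom.ofInjective hf).trans (MulEquiv.subgroupCongr
    (hl.eq hl' (u := ((1, 0) : ZMod 3 × ZMod 3)) (v := (1, 1)) (by decide)
      (by decide +kernel) (by decide +kernel) (e₀ := 3) (c₀ := (1, 0)) (d₀ := (2, 1))
      (by decide +kernel)))).trans (MonoidHom.ofInjective hf').symm⟩

end CfsgLib.ClassK
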