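import Cfsg.Agent.Lib.ClassK.SmallOrders

/-!
The sweep over the even orders between 3640 and 6232: all but 47 are excluded by counting the Sylow
subgroups of one prime.
-/

set_option autoImplicit false

namespace CfsgLib.ClassK

/-- The orders not excluded by a single Sylow count. -/
def sweepRest : List ℕ :=
  [3648, 3696, 3744, 3780, 3840, 3888, 3960, 4000, 4032, 4080, 4160, 4200, 4212, 4320, 4400, 4480,
    4500, 4536, 4620, 4680, 4732, 4760, 4800, 4928, 4960, 5040, 5104, 5148, 5184, 5200, 5236, 5292,
    5376, 5400, 5460, 5472, 5600, 5616, 5724, 5760, 5852, 5880, 5940, 6000, 6048, 6072, 6160]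

/-- Large prime divisors first. -/
def sweepKilled (n : ℕ) : Bool :=
  ((List.range 34).map (n / ·) ++ ((List.range 190).filter fun p => n % p == 0).reverse).any fun p =>
    decide (n % p = 0) && primeTest p && (List.range 13).any (orderKilled n p)

def sweepOK (lo k : ℕ) : Bool :=
  (List.range k).all fun i => sweepKilled (lo + 2 * i) || sweepRest.contains (lo + 2 * i)

theorem sweep_1 : sweepOK 3642 216 = true := by decide +kernel

theorem sweep_2 : sweepOK 4074 216 = true := by decide +kernel

theorem sweep_3 : sweepOK 4506 216 = true := by decide +kernel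

theorem sweep_4 : sweepOK 4938 216 = true := by decide +kernel

theorem sweep_5 : sweepOK 5370 216 = true := by decide +kernel

theorem sweep_6 : sweepOK 5802 216 = true := by decide +kernel

variable {G : Type*} [Group G] [Finite G] [IsSimpleGroup G]

theorem sweepKilled_false (hG : ¬ IsMulCommutative G) : sweepKilled (Nat.card G) = false := by
  by_contra h
  simp only [Bool.not_eq_false, sweepKilled, List.any_eq_true, Bool.and_eq_true,
    decide_eq_true_eq] at h
  obtain ⟨p, -, ⟨-, hp⟩, a, -, ha⟩ := h
  have : Fact p.Prime := ⟨prime_of_primeTest hp⟩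
  exact false_of_orderKilled hG ha

/-- An even order between 3640 and 6232 of a simple group is among the 47 left by the sweep. -/
theorem card_mem_sweepRest (hG : ¬ IsMulCommutative G) (h2 : 2 ∣ Nat.card G)
    (hlo : 3640 < Nat.card G) (hhi : Nat.card G ≤ 6232) : Nat.card G ∈ sweepRest := by
  have key : ∀ {lo k : ℕ}, sweepOK lo k = true → lo ≤ Nat.card G → Nat.card G < lo + 2 * k →
      2 ∣ lo → Nat.card G ∈ sweepRest := by
    intro lo k h h3 h4 h5
    simp only [sweepOK, List.all_eq_true, List.mem_range, Bool.or_eq_true,
      List.contains_iff_mem] at h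
    have e : lo + 2 * ((Nat.card G - lo) / 2) = Nat.card G := by omega
    rcases h ((Nat.card G - lo) / 2) (by omega) with h | h
    · rw [e, sweepKilled_false hG] at h; exact absurd h Bool.false_ne_true
    · rwa [e] at h
  rcases Nat.lt_or_ge (Nat.card G) 4074 with h | h
  · exact key sweep_1 (by omega) (by omega) (by norm_num)
  rcases Nat.lt_or_ge (Nat.card G) 4506 with h' | h'
  · exact key sweep_2 h (by omega) (by norm_num)
  rcases Nat.lt_or_ge (Nat.card G) 4938 with h | h
  · exact key sweep_3 h' (by omega) (by norm_num)
  rcases Nat.lt_or_ge (Nat.card G) 5370 with h' | h'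
  · exact key sweep_4 h (by omega) (by norm_num)
  rcases Nat.lt_or_ge (Nat.card G) 5802 with h | h
  · exact key sweep_5 h' (by omega) (by norm_num)
  exact key sweep_6 h (by omega) (by norm_num)

end CfsgLib.ClassK
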