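import Cfsg.Agent.Lib.ClassK.RowDegree
import Cfsg.Agent.Lib.ClassK.SmallOrders
import Cfsg.Agent.Lib.Transfer.TwentyOne
import Cfsg.Agent.Lib.Transfer.ExcSimple

/-!
A numerical sieve for simple groups from the principal block of a Sylow subgroup of prime order:
degree congruences, the degree equation, divisibility and the bound from a nontrivial centralizer.
-/

set_option autoImplicit false

namespace CfsgLib.ClassK.RowSieve

open Cfsg CfsgLib CfsgLib.Block

universe u

/-- Admissible nonexceptional degree `D`, `b` telling whether the value on `P` is `1`. -/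
def candOK (n M p : ℕ) (cne : Bool) (allow : ℕ → Bool) (c : ℕ × Bool) : Bool :=
  allow c.1 && decide (2 ≤ c.1) && decide (n % c.1 = 0) && decide (M % c.1 = 0) &&
    (if c.2 then decide (c.1 % p = 1) && (!cne || decide (2 * p + 1 ≤ c.1))
      else decide (c.1 % p = p - 1) && (!cne || decide (3 * p - 1 ≤ c.1)))

/-- The candidates below `B`. -/
def cands (n M p B : ℕ) (cne : Bool) (allow : ℕ → Bool) : List (ℕ × Bool) :=
  ((List.range B).map (fun D => (D, true)) ++ (List.range B).map (fun D => (D, false))).filter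
    (candOK n M p cne allow)

/-- Admissible exceptional degree. -/
def excOK (n M p : ℕ) (cne : Bool) (allow : ℕ → Bool) (d : ℕ) : Bool :=
  allow d && decide (2 ≤ d) && decide (n % d = 0) && decide (M % d = 0) && (!cne || decide (p ≤ d))

/-- The closing test of the degree equation. -/
def finalOK (n M p B e t : ℕ) (cne : Bool) (allow want : ℕ → Bool) (P N S : ℕ) (hit : Bool) : Bool :=
  if t = 1 then hit && decide (1 + P = N) && decide (1 + S ≤ n)
  else (List.range B).any fun d => excOK n M p cne allow d && decide (1 + S + t * (d * d) ≤ n) &&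
    ((hit || want d) && (decide (1 + P = N + d) && decide (d % p = e % p) ||
      decide (1 + P + d = N) && decide ((d + e) % p = 0)))

/-- Multisets of candidates, through the totals of positive and negative degrees and of squares. -/
def search (n : ℕ) (want : ℕ → Bool) (fin : ℕ → ℕ → ℕ → Bool → Bool) :
    List (ℕ × Bool) → ℕ → ℕ → ℕ → ℕ → Bool → Bool
  | [], k, P, N, S, hit => decide (k = 0) && fin P N S hit
  | c :: cs, k, P, N, S, hit => (List.range (k + 1)).any fun j =>
      decide (S + j * (c.1 * c.1) ≤ n) &&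
        search n want fin cs (k - j) (if c.2 then P + j * c.1 else P) (if c.2 then N else N + j * c.1)
          (S + j * (c.1 * c.1)) (hit || (decide (0 < j) && want c.1))

/-- One configuration of Sylow count `np` and automizer order `e`. -/
def configOK (n p B np e : ℕ) (allow want : ℕ → Bool) : Bool :=
  let M := np * e
  let t := (p - 1) / e
  let cne := decide (M * p ≠ n)
  search n want (finalOK n M p B e t cne allow want) (cands n M p B cne allow)
    (if t = 1 then p - 1 else e - 1) 0 0 0 false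

/-- Is a nonprincipal member of the principal `p`-block with wanted degree possible, for a selected
Sylow count and automizer order, all degrees being allowed ones? -/
def rowPossible (n p B : ℕ) (sel : ℕ → ℕ → Bool) (allow want : ℕ → Bool) : Bool :=
  (List.range (n / (2 * p * p) + 1)).any fun i =>
    let np := 1 + i * p
    decide (2 ≤ np) && decide (n % (np * p) = 0) && !(decide (p = 5) && decide (np = 21)) &&
      !(countExcluded n p 1 np) &&
      (List.range p).any fun e => decide (2 ≤ e) && decide ((p - 1) % e = 0) &&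
        decide (n % (np * e * p) = 0) && sel np e && configOK n p B np e allow want

theorem search_sound {n : ℕ} {want : ℕ → Bool} {fin : ℕ → ℕ → ℕ → Bool → Bool}
    {ι : Type*} (f : ι → ℕ × Bool) :
    ∀ (L : List (ℕ × Bool)) (s : Finset ι) (P N S : ℕ) (hit : Bool),
      (∀ i ∈ s, f i ∈ L) → S + ∑ i ∈ s, (f i).1 * (f i).1 ≤ n →
      (∀ h : Bool, (hit = true ∨ (∃ i ∈ s, want (f i).1 = true) → h = true) →
        fin (P + ∑ i ∈ s.filter (fun i => (f i).2 = true), (f i).1)
          (N + ∑ i ∈ s.filter (fun i => (f i).2 = false), (f i).1)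
          (S + ∑ i ∈ s, (f i).1 * (f i).1) h = true) →
      search n want fin L s.card P N S hit = true := by
  classical
  intro L
  induction L with
  | nil =>
    intro s P N S hit hs _ hfin
    obtain rfl : s = ∅ := Finset.eq_empty_of_forall_notMem fun i hi => by simpa using hs i hi
    simpa [search] using hfin hit (by simp)
  | cons c cs ih =>
    intro s P N S hit hs hle hfin
    set s₁ := s.filter (fun i => f i = c) with hs₁
    set s₂ := s.filter (fun i => ¬ f i = c) with hs₂
    have hcard : s₁.card + s₂.card = s.card := Finset.card_filter_add_card_filter_not _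
    have hsq : ∑ i ∈ s, (f i).1 * (f i).1 =
        s₁.card * (c.1 * c.1) + ∑ i ∈ s₂, (f i).1 * (f i).1 := by
      rw [← Finset.sum_filter_add_sum_filter_not s (fun i => f i = c)]
      congr 1
      rw [Finset.sum_congr rfl (g := fun _ => c.1 * c.1) fun i hi => by
        rw [(Finset.mem_filter.1 hi).2], Finset.sum_const, smul_eq_mul]
    have hlin : ∀ b : Bool, ∑ i ∈ s.filter (fun i => (f i).2 = b), (f i).1 =
        (if c.2 = b then s₁.card * c.1 else 0) +
          ∑ i ∈ s₂.filter (fun i => (f i).2 = b), (f i).1 := by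
      intro b
      rw [Finset.sum_filter, Finset.sum_filter,
        ← Finset.sum_filter_add_sum_filter_not s (fun i => f i = c)]
      congr 1
      rw [Finset.sum_congr rfl (g := fun _ => if c.2 = b then c.1 else 0) fun i hi => by
        rw [(Finset.mem_filter.1 hi).2], Finset.sum_const, smul_eq_mul, mul_ite, mul_zero]
    rw [search, List.any_eq_true]
    refine ⟨s₁.card, List.mem_range.2 (by omega), ?_⟩
    rw [Bool.and_eq_true, decide_eq_true_eq]
    refine ⟨by rw [hsq] at hle; omega, ?_⟩
    rw [show s.card - s₁.card = s₂.card by omega]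
    refine ih s₂ _ _ _ _ (fun i hi => ?_) (by rw [hsq] at hle; omega) fun h hh => ?_
    · obtain ⟨hi, hne⟩ := Finset.mem_filter.1 hi
      exact (List.mem_cons.1 (hs i hi)).resolve_left hne
    · have h' := hfin h fun hyp => hh ?_
      · rw [hsq, hlin true, hlin false] at h'
        cases hc : c.2 <;> simp only [hc, reduceIte, Bool.false_eq_true, Bool.true_eq_false,
          if_false, if_true, zero_add] at h' ⊢ <;> rw [add_assoc S] <;>
          first | (rw [add_assoc N]; exact h') | (rw [add_assoc P]; exact h')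
      · rcases hyp with hyp | ⟨i, hi, hw⟩
        · exact Or.inl (by rw [hyp, Bool.true_or])
        · by_cases hic : f i = c
          · refine Or.inl ?_
            rw [hic] at hw
            rw [hw, show decide (0 < s₁.card) = true from decide_eq_true
              (Finset.card_pos.2 ⟨i, Finset.mem_filter.2 ⟨hi, hic⟩⟩)]
            simp
          · exact Or.inr ⟨i, Finset.mem_filter.2 ⟨hi, hic⟩, hw⟩

variable {G : Type u} [Group G] [Finite G] {p : ℕ} [hpf : Fact p.Prime]

theorem hasNormalPComplement_centralizer (P : Sylow p G) (hP : Nat.card P = p) {y : G}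
    (hy : y ∈ (P : Subgroup G)) (hy1 : y ≠ 1) :
    Cfsg.HasNormalPComplement p (Subgroup.centralizer ({y} : Set G)) := by
  rw [BrauerReynolds.centralizer_mem_eq P hP hy hy1]
  have hle : (P : Subgroup G) ≤ Subgroup.centralizer ((P : Subgroup G) : Set G) := by
    have : IsCyclic (P : Subgroup G) := isCyclic_of_prime_card hP
    intro a ha
    exact Subgroup.mem_centralizer_iff.2 fun b hb => congrArg Subtype.val
      ((IsCyclic.commGroup (α := (P : Subgroup G))).mul_comm ⟨b, hb⟩ ⟨a, ha⟩)
  refine CfsgLib.Transfer.hasNormalPComplement_of_normalizer_le_centralizer (P.subtype hle) ?_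
  intro m _
  rw [Sylow.coe_subtype, Subgroup.mem_centralizer_iff]
  intro z hz
  exact Subtype.ext (Subgroup.mem_centralizer_iff.1 m.2 (z : G) hz)

/-- The rows of the principal block including the case `e = p - 1`. -/
structure Rows (M : Ideal AlgInt) (P : Sylow p G) (e t d₀ : ℕ) (σ : ℤ)
    (CF YF : Finset (IrrCharacter G)) (ε : IrrCharacter G → ℤ) : Prop where
  hte : t * e + 1 = p
  e_two : 2 ≤ e
  e_eq : (Subgroup.centralizer ((P : Subgroup G) : Set G)).relIndex
    (Subgroup.normalizer ((P : Subgroup G) : Set G)) = e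
  one_mem : (⟨fun _ => 1, Char.isIrrCharacter_one⟩ : IrrCharacter G) ∈ CF
  eps_one : ε ⟨fun _ => 1, Char.isIrrCharacter_one⟩ = 1
  eps_pm : ∀ χ ∈ CF, ε χ = 1 ∨ ε χ = -1
  mem : ∀ χ, χ ∈ principalBlock M G ↔ χ ∈ CF ∨ χ ∈ YF
  disj : Disjoint CF YF
  card_CF : CF.card = if t = 1 then p else e
  card_YF : YF.card = if t = 1 then 0 else t
  sign : σ = 1 ∨ σ = -1
  CF_mod : ∀ χ ∈ CF, (p : ℤ) ∣ ε χ - (charDegree (χ : G → ℂ) : ℤ)
  CF_val : ∀ χ ∈ CF, ∀ y ∈ (P : Subgroup G), y ≠ 1 → (χ : G → ℂ) y = (ε χ : ℂ)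
  YF_deg : ∀ η ∈ YF, charDegree (η : G → ℂ) = d₀
  YF_sum : t ≠ 1 → ∀ y ∈ (P : Subgroup G), y ≠ 1 → ∑ η ∈ YF, (η : G → ℂ) y = ((-σ : ℤ) : ℂ)
  d₀_mod : t ≠ 1 → (p : ℤ) ∣ (e : ℤ) * σ - d₀
  deg_eq : ∑ χ ∈ CF, ε χ * (charDegree (χ : G → ℂ) : ℤ) = if t = 1 then 0 else σ * d₀
  relation_one : t = 1 → ∀ g : G, ¬ p ∣ orderOf g → ∑ χ ∈ CF, (ε χ : ℂ) * (χ : G → ℂ) g = 0
  relation : t ≠ 1 → ∀ η ∈ YF, ∀ g : G, ¬ p ∣ orderOf g →
    ∑ χ ∈ CF, (ε χ : ℂ) * (χ : G → ℂ) g = (σ : ℂ) * (η : G → ℂ) g

theorem exists_rows (hperf : commutator G = ⊤) {M : Ideal AlgInt} (hM : IsPModular p M)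
    (P : Sylow p G) (hP : Nat.card P = p) :
    ∃ (e t d₀ : ℕ) (σ : ℤ) (CF YF : Finset (IrrCharacter G)) (ε : IrrCharacter G → ℤ),
      Rows M P e t d₀ σ CF YF ε := by
  classical
  have := isPrime_of_pmodular hM
  have := Fintype.ofFinite G
  have := Fintype.ofFinite (IrrCharacter G)
  have hp : p.Prime := hpf.out
  obtain ⟨e, t, d₀, σ, CF, YF, ε, D⟩ := BrauerTuan.exists_rowData hperf hM P hP
  by_cases ht : t = 1
  swap
  · have ht2 : 2 ≤ t := by have := D.t_pos; omega
    obtain ⟨hCF, hYF, hσ, hYB, hdisj, hall, hYd, hd0, hsum, hrel⟩ := D.exc ht2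
    have hone : ¬ p ∣ orderOf (1 : G) := by rw [orderOf_one]; exact hp.not_dvd_one
    obtain ⟨η, hη⟩ : YF.Nonempty := Finset.card_pos.1 (by omega)
    refine ⟨e, t, d₀, σ, CF, YF, ε, ⟨D.hte, D.e_two, D.e_eq, D.one_mem, D.eps_one, D.eps_pm,
      fun χ => ⟨hall χ, fun h => h.elim (D.CF_sub χ) (hYB χ)⟩, hdisj, by rw [if_neg ht, hCF],
      by rw [if_neg ht, hYF], hσ, D.CF_mod, D.CF_val, hYd, fun _ => hsum, fun _ => hd0, ?_, fun h => absurd h ht, fun _ => hrel⟩⟩
    rw [if_neg ht]
    have h := hrel η hη 1 hone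
    simp only [← BlockB.irr_degree_cast] at h
    rw [hYd η hη] at h
    exact_mod_cast h
  have hte := D.hte
  rw [ht, one_mul] at hte
  have he2 := D.e_two
  have heq := D.e_eq
  obtain ⟨E, r, hEcard, hBcard, hshape, hdeg, hval, -, hrel, -⟩ :=
    PrimeRows.exists_rows_sum p M hM P hP e heq
  have hEtop : E = ⊤ := Subgroup.eq_top_of_card_eq _ (by
    rw [hEcard, Nat.card_eq_fintype_card, ZMod.card_units]; omega)
  set Bf := (principalBlock M G).toFinite.toFinset with hBf
  have hmem : ∀ χ, χ ∈ Bf ↔ χ ∈ principalBlock M G := fun χ => Set.Finite.mem_toFinset _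
  have hconst : ∀ χ ∈ principalBlock M G, ∃ c : ℤ, (c = 1 ∨ c = -1) ∧ ∀ v, r χ v = c := by
    intro χ hχ
    obtain ⟨c, hc, h | ⟨w, hw⟩⟩ := hshape χ hχ
    · exact ⟨c, hc, h⟩
    · exact ⟨c, hc, fun v => (hw v).1 (hEtop ▸ Subgroup.mem_top _)⟩
  choose! c hc hcv using hconst
  have hBf' : Bf.card = p := by
    rw [Nat.card_eq_card_finite_toFinset (principalBlock M G).toFinite, ← hBf,
      show p - 1 = e by omega, ← Nat.mul_succ, mul_comm] at hBcard
    have := Nat.eq_of_mul_eq_mul_left (by omega) hBcard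
    omega
  obtain ⟨y, hy, hy1⟩ : ∃ y ∈ (P : Subgroup G), y ≠ 1 := by
    refine Subgroup.bot_or_exists_ne_one _ |>.resolve_left fun h => ?_
    rw [h, Subgroup.card_bot] at hP
    exact hp.ne_one hP.symm
  have hone : ¬ p ∣ orderOf (1 : G) := by rw [orderOf_one]; exact hp.not_dvd_one
  have hv : ∀ χ ∈ principalBlock M G, ∀ z ∈ (P : Subgroup G), z ≠ 1 →
      (χ : G → ℂ) z = ((-c χ : ℤ) : ℂ) := fun χ hχ z hz hz1 => by
    have h := hval χ hχ (c χ) (hcv χ hχ) z hz hz1 1 (Subgroup.one_mem _) hone
    rw [mul_one] at h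
    rw [h, Int.cast_neg]
  refine ⟨e, t, 0, 1, Bf, ∅, fun χ => -c χ, ⟨D.hte, he2, heq, (hmem _).2 one_mem_principalBlock,
    ?_, fun χ hχ => ?_, fun χ => by simp [hmem], Finset.disjoint_empty_right _,
    by rw [if_pos ht, hBf'], by rw [if_pos ht, Finset.card_empty], Or.inl rfl, fun χ hχ => ?_,
    fun χ hχ => hv χ ((hmem χ).1 hχ), fun η hη => absurd hη (Finset.notMem_empty η),
    fun h => absurd ht h, fun h => absurd ht h, ?_, fun _ g hg => ?_, fun h => absurd ht h⟩⟩
  · have h := hv _ one_mem_principalBlock y hy hy1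
    simp only at h
    exact (by exact_mod_cast h.symm)
  · rcases hc χ ((hmem χ).1 hχ) with h | h <;> simp [h]
  · have hB := (hmem χ).1 hχ
    have h : (p : ℤ) ∣ (∑ v, r χ v) - (charDegree (χ : G → ℂ) : ℤ) :=
      Int.modEq_iff_dvd.1 (hdeg χ hB)
    rw [Finset.sum_congr rfl fun v _ => hcv χ hB v, Finset.sum_const, Finset.card_univ,
      ZMod.card_units, nsmul_eq_mul] at h
    have e1 : -c χ - (charDegree (χ : G → ℂ) : ℤ) = ((((p - 1 : ℕ) : ℤ) * c χ) -
        (charDegree (χ : G → ℂ) : ℤ)) - (p : ℤ) * c χ := by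
      rw [Nat.cast_sub hp.one_le]; push_cast; ring
    rw [e1]
    exact dvd_sub h (dvd_mul_right _ _)
  · rw [if_pos ht]
    have h := hrel 1 hone 1
    rw [finsum_mem_eq_finite_toFinset_sum _ (principalBlock M G).toFinite, ← hBf,
      Finset.sum_congr rfl fun χ hχ => by
        rw [hcv χ ((hmem χ).1 hχ) 1, ← BlockB.irr_degree_cast χ]] at h
    have h' : ∑ χ ∈ Bf, c χ * (charDegree (χ : G → ℂ) : ℤ) = 0 := by exact_mod_cast h
    simp only [neg_mul, Finset.sum_neg_distrib, h', neg_zero]
  · have h := hrel g hg 1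
    rw [finsum_mem_eq_finite_toFinset_sum _ (principalBlock M G).toFinite, ← hBf,
      Finset.sum_congr rfl fun χ hχ => by rw [hcv χ ((hmem χ).1 hχ) 1]] at h
    simp only [Int.cast_neg, neg_mul, Finset.sum_neg_distrib, h, neg_zero]

/-- Every nonprincipal member of the principal block is accepted by the sieve. -/
theorem rowPossible_of_mem [IsSimpleGroup G] (hG : ¬ IsMulCommutative G) {n : ℕ}
    (hn : Nat.card G = n) {B : ℕ} (hB : n < B * B) (h1 : p ∣ n) (h2 : ¬ p ^ 2 ∣ n)
    {M : Ideal AlgInt} (hM : IsPModular p M) (χ : IrrCharacter G) (hχ : χ ∈ principalBlock M G)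
    (hne : (χ : G → ℂ) ≠ fun _ => 1) (sel : ℕ → ℕ → Bool)
    (hsel : ∀ P : Sylow p G, sel (Nat.card (Sylow p G))
      ((Subgroup.centralizer ((P : Subgroup G) : Set G)).relIndex
        (Subgroup.normalizer ((P : Subgroup G) : Set G))) = true)
    (allow : ℕ → Bool) (hallow : ∀ φ : IrrCharacter G, φ ∈ principalBlock M G →
      (φ : G → ℂ) ≠ (fun _ => 1) → allow (charDegree (φ : G → ℂ)) = true) (want : ℕ → Bool)
    (hw : want (charDegree (χ : G → ℂ)) = true) : rowPossible n p B sel allow want = true := by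
  classical
  subst hn
  have hp : p.Prime := hpf.out
  have := Fintype.ofFinite G
  have := Fintype.ofFinite (IrrCharacter G)
  have hperf := CfsgLib.Transfer.commutator_eq_top_of_simple hG
  obtain ⟨P⟩ := (inferInstance : Nonempty (Sylow p G))
  have hP : Nat.card P = p := CfsgLib.Transfer.card_sylow_eq_prime P h1 h2
  obtain ⟨e, t, d₀, σ, CF, YF, ε, D⟩ := exists_rows hperf hM P hP
  set np := Nat.card (Sylow p G) with hnp
  set C := Subgroup.centralizer ((P : Subgroup G) : Set G) with hC
  set N := Subgroup.normalizer ((P : Subgroup G) : Set G)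
  have hNC : e * Nat.card C = Nat.card N := by
    rw [← D.e_eq, Subgroup.relIndex,
      ← Nat.card_congr (Subgroup.subgroupOfEquivOfLe (Subgroup.centralizer_le_normalizer _)).toEquiv]
    exact Subgroup.index_mul_card _
  have hnN : np * (e * Nat.card C) = Nat.card G := by
    rw [hNC, hnp, Sylow.card_eq_index_normalizer P]; exact Subgroup.index_mul_card _
  have hPC : (P : Subgroup G) ≤ C := by
    have : IsCyclic (P : Subgroup G) := isCyclic_of_prime_card hP
    intro a ha
    exact Subgroup.mem_centralizer_iff.2 fun b hb => congrArg Subtype.val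
      ((IsCyclic.commGroup (α := (P : Subgroup G))).mul_comm ⟨b, hb⟩ ⟨a, ha⟩)
  obtain ⟨c, hc⟩ : p ∣ Nat.card C := hP ▸ Subgroup.card_dvd_of_le hPC
  have hc0 : 0 < c := Nat.pos_of_ne_zero fun h => by
    rw [h, mul_zero] at hc; exact Nat.card_pos.ne' hc
  have he2 := D.e_two
  have hte := D.hte
  have hep : e < p := by
    rcases Nat.eq_zero_or_pos t with h | h
    · rw [h, zero_mul, zero_add] at hte; exact absurd hte.symm hp.ne_one
    · have : 1 * e ≤ t * e := Nat.mul_le_mul_right _ h
      omega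
  have hdiv : (p - 1) / e = t := by
    rw [show p - 1 = t * e by omega, Nat.mul_div_cancel _ (by omega)]
  obtain ⟨hnp1, hnpmod, -, -, hexcl⟩ := count_not_excluded (p := p) (a := 1) hG one_pos
    (by rwa [pow_one]) h2
  rw [← hnp] at hnp1 hnpmod hexcl
  obtain ⟨i, hi⟩ : ∃ i, np = 1 + i * p :=
    ⟨np / p, by have := Nat.div_add_mod np p; rw [mul_comm]; omega⟩
  -- elements
  obtain ⟨y, hy, hy1⟩ : ∃ y ∈ (P : Subgroup G), y ≠ 1 := by
    refine Subgroup.bot_or_exists_ne_one _ |>.resolve_left fun h => ?_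
    rw [h, Subgroup.card_bot] at hP
    exact hp.ne_one hP.symm
  have hidx : (Subgroup.centralizer ({y} : Set G)).index = np * e := by
    rw [BrauerReynolds.centralizer_mem_eq P hP hy hy1, BrauerReynolds.index_centralizer, D.e_eq,
      mul_comm]
  let one : IrrCharacter G := ⟨fun _ => 1, Char.isIrrCharacter_one⟩
  have hdeg2 : ∀ φ : IrrCharacter G, φ ≠ one → 2 ≤ charDegree (φ : G → ℂ) := fun φ hφ => by
    have h0 : 0 < charDegree (φ : G → ℂ) := BlockB.irr_degree_pos φ
    by_contra hlt
    refine hφ (Subtype.ext (BrauerReynolds.eq_one_of_degree_one hperf φ ?_))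
    rw [← BlockB.irr_degree_cast φ, show charDegree (φ : G → ℂ) = 1 by omega, Nat.cast_one]
  have hdvdn : ∀ φ : IrrCharacter G, Nat.card G % charDegree (φ : G → ℂ) = 0 := fun φ =>
    Nat.mod_eq_zero_of_dvd (BlockB.irr_degree_dvd_card φ)
  have hfaith : ∀ φ : IrrCharacter G, φ ≠ one → ∀ g : G, g ≠ 1 →
      (φ : G → ℂ) g ≠ (φ : G → ℂ) 1 := fun φ hφ g hg =>
    CfsgLib.Transfer.irr_apply_ne_apply_one φ (fun h => hφ (Subtype.ext h)) hg
  have hyo : orderOf y = p := by
    have h := Subgroup.orderOf_dvd_natCard (P : Subgroup G) hy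
    rw [hP] at h
    exact ((Nat.dvd_prime hp).1 h).resolve_left fun h' => hy1 (orderOf_eq_one_iff.1 h')
  set cne := decide (np * e * p ≠ Nat.card G) with hcne
  have hsmall : ∀ φ : IrrCharacter G, φ ∈ principalBlock M G → φ ≠ one → cne = true →
      p ≤ charDegree (φ : G → ℂ) := by
    intro φ hφ hφ1 hC'
    by_contra hlt
    have h := BrauerTuan.centralizer_eq_of_small_principal hperf hM hyo h2 hφ
      ⟨y, hfaith φ hφ1 y hy1⟩ (by omega)
    rw [BrauerReynolds.centralizer_mem_eq P hP hy hy1] at h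
    refine (of_decide_eq_true hC') ?_
    rw [← hnN, show Nat.card C = p by rw [hC, h, Nat.card_zpowers, hyo], mul_assoc]
  -- the nonexceptional members
  let f : IrrCharacter G → ℕ × Bool := fun φ => (charDegree (φ : G → ℂ), decide (ε φ = 1))
  have hmemCF : ∀ φ ∈ CF, φ ∈ principalBlock M G := fun φ hφ => (D.mem φ).2 (Or.inl hφ)
  have hmemYF : ∀ φ ∈ YF, φ ∈ principalBlock M G := fun φ hφ => (D.mem φ).2 (Or.inr hφ)
  have hlt : ∀ φ : IrrCharacter G, charDegree (φ : G → ℂ) * charDegree (φ : G → ℂ) ≤ Nat.card G →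
      charDegree (φ : G → ℂ) < B := fun φ h => by
    by_contra hle
    push Not at hle
    have := Nat.mul_le_mul hle hle
    omega
  have hsumsq : ∑ φ : IrrCharacter G, charDegree (φ : G → ℂ) * charDegree (φ : G → ℂ) =
      Nat.card G := by
    have h := CfsgLib.Char.sum_irr_sq (G := G)
    simp only [← BlockB.irr_degree_cast, pow_two] at h
    exact_mod_cast h
  have hsq1 : ∀ φ : IrrCharacter G,
      charDegree (φ : G → ℂ) * charDegree (φ : G → ℂ) ≤ Nat.card G := fun φ => by
    rw [← hsumsq]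
    exact Finset.single_le_sum (f := fun φ : IrrCharacter G =>
      charDegree (φ : G → ℂ) * charDegree (φ : G → ℂ)) (fun _ _ => Nat.zero_le _)
      (Finset.mem_univ φ)
  have hcand : ∀ φ ∈ CF.erase one, f φ ∈ cands (Nat.card G) (np * e) p B cne allow := by
    intro φ hφ
    obtain ⟨hφ1, hφC⟩ := Finset.mem_erase.1 hφ
    set d := charDegree (φ : G → ℂ) with hd
    have hd2 : 2 ≤ d := hdeg2 φ hφ1
    have hal : allow d = true :=
      hallow φ (hmemCF φ hφC) fun h => hφ1 (Subtype.ext h)
    have hM' : (np * e) % d = 0 := Nat.mod_eq_zero_of_dvd (hidx ▸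
      BrauerReynolds.dvd_of_omega_sum {φ} id y (BlockB.irr_degree_pos φ)
        (fun j hj => by rw [Finset.mem_singleton.1 hj]; exact (BlockB.irr_degree_cast φ).symm)
        (D.eps_pm φ hφC) (by rw [Finset.sum_singleton]; exact D.CF_val φ hφC y hy hy1))
    have hbound : cne = true → (ε φ = 1 → 2 * p + 1 ≤ d) ∧ (ε φ = -1 → 3 * p - 1 ≤ d) := by
      intro hC'
      have hc1 : c ≠ 1 := fun h => (of_decide_eq_true hC') (by
        rw [← hnN, hc, h, mul_one, mul_assoc])
      obtain ⟨q, hq, hqc⟩ := Nat.exists_prime_and_dvd hc1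
      have hqp : p ≠ q := fun h => h2 ((pow_two p).symm ▸ (Nat.mul_dvd_mul_left p (h ▸ hqc)).trans
        (hc ▸ Subgroup.card_subgroup_dvd_card C))
      have := Fact.mk hq
      obtain ⟨k, hk⟩ := exists_prime_orderOf_dvd_card' (G := C) q (hc ▸ dvd_mul_of_dvd_right hqc p)
      have hko : orderOf (k : G) = q := by rw [Subgroup.orderOf_coe, hk]
      obtain ⟨m, ρ, -, hρ⟩ := φ.2
      have hdm : d = m := by
        have h := BlockB.irr_degree_cast φ
        rw [← hd, ← hρ, Representation.char_one, Module.finrank_fin_fun] at h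
        exact_mod_cast h
      have hcomm : Commute y (k : G) := Subgroup.mem_centralizer_iff.1 k.2 y hy
      rw [hdm]
      refine RowDegree.degree_bound hperf hp hq hqp ρ hyo hko hcomm (D.eps_pm φ hφC)
        (fun a ha l => ?_) (by rw [hρ]; exact hfaith φ hφ1 _ fun h => hq.ne_one (by
          rw [← hko, h, orderOf_one]))
      have hya : y ^ a ∈ (P : Subgroup G) := pow_mem hy a
      have hya1 : y ^ a ≠ 1 := fun h => ha (hyo ▸ orderOf_dvd_of_pow_eq_one h)
      have hyap : orderOf (y ^ a) = p := by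
        rw [Nat.Coprime.orderOf_pow (by rw [hyo]; exact (hp.coprime_iff_not_dvd).2 ha), hyo]
      rw [hρ, (principal_section hM ⟨1, by rw [pow_one, hyap]⟩
          (hasNormalPComplement_centralizer P hP hya hya1)).1 φ (hmemCF φ hφC) ((k : G) ^ l)
          ((hcomm.pow_pow a l)) ?_]
      · exact D.CF_val φ hφC _ hya hya1
      · intro hd'
        have h : p ∣ q := hd'.trans (by rw [← hko]; exact orderOf_pow_dvd l)
        exact hqp ((Nat.prime_dvd_prime_iff_eq hp hq).1 h)
    have hmod := D.CF_mod φ hφC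
    rw [← hd] at hmod
    have hdn : Nat.card G % d = 0 := hdvdn φ
    simp only [cands, List.mem_filter, List.mem_append, List.mem_map, List.mem_range]
    refine ⟨?_, ?_⟩
    · rcases D.eps_pm φ hφC with h | h
      · exact Or.inl ⟨d, hlt φ (hsq1 φ), Prod.ext rfl (by simp [f, h])⟩
      · exact Or.inr ⟨d, hlt φ (hsq1 φ), Prod.ext rfl (by simp [f, h])⟩
    · rcases D.eps_pm φ hφC with h | h <;> rw [h] at hmod
      · have hd1 : d % p = 1 := by
          have h1 : (d : ℤ) % p = (1 : ℤ) % p := Int.modEq_iff_dvd.2 hmod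
          rw [Int.emod_eq_of_lt zero_le_one (by exact_mod_cast hp.one_lt)] at h1
          exact_mod_cast h1
        cases hC' : cne
        · simp [-Nat.card_eq_fintype_card, candOK, f, h, ← hd, hd2, hal, hM', hd1, hdn]
        · simp [-Nat.card_eq_fintype_card, candOK, f, h, ← hd, hd2, hal, hM', hd1, hdn, (hbound hC').1 h]
      · have hd1 : d % p = p - 1 := by
          have h1 : (d : ℤ) % p = (-1 : ℤ) % p := Int.modEq_iff_dvd.2 hmod
          have hp1 : (-1 : ℤ) % p = (p : ℤ) - 1 := by
            rw [show (-1 : ℤ) = ((p : ℤ) - 1) + (p : ℤ) * (-1) by ring, Int.add_mul_emod_self_left,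
              Int.emod_eq_of_lt (by have := hp.one_lt; omega) (by omega)]
          rw [hp1] at h1
          have h1' : ((d % p : ℕ) : ℤ) = (p : ℤ) - 1 := by push_cast; exact h1
          omega
        cases hC' : cne
        · simp [-Nat.card_eq_fintype_card, candOK, f, h, ← hd, hd2, hal, hM', hd1, hdn]
        · simp [-Nat.card_eq_fintype_card, candOK, f, h, ← hd, hd2, hal, hM', hd1, hdn, (hbound hC').2 h]
  -- the equation
  have hone : ε one = 1 := D.eps_one
  have hdone : charDegree (one : G → ℂ) = 1 := by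
    have h := BlockB.irr_degree_cast one
    simp only [one] at h
    exact_mod_cast h
  have hsplit : ∀ g : IrrCharacter G → ℤ,
      ∑ φ ∈ CF, g φ = g one + ∑ φ ∈ CF.erase one, g φ := fun g =>
    (Finset.add_sum_erase _ _ D.one_mem).symm
  set A := ∑ φ ∈ (CF.erase one).filter (fun φ => (f φ).2 = true), (f φ).1 with hA
  set A' := ∑ φ ∈ (CF.erase one).filter (fun φ => (f φ).2 = false), (f φ).1 with hA'
  have heq : (1 : ℤ) + A - A' = if t = 1 then 0 else σ * d₀ := by
    rw [← D.deg_eq, hsplit, hone, hdone, hA, hA', Nat.cast_sum, Nat.cast_sum, Finset.sum_filter,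
      Finset.sum_filter, add_sub_assoc, ← Finset.sum_sub_distrib, one_mul, Nat.cast_one]
    refine congrArg _ (Finset.sum_congr rfl fun φ hφ => ?_)
    rcases D.eps_pm φ (Finset.mem_erase.1 hφ).2 with h | h <;> simp [f, h]
  set S := ∑ φ ∈ CF.erase one, (f φ).1 * (f φ).1 with hS
  have htot : 1 + S + (if t = 1 then 0 else t * (d₀ * d₀)) ≤ Nat.card G := by
    rw [← hsumsq]
    refine le_trans (le_of_eq ?_) (Finset.sum_le_univ_sum_of_nonneg
      (s := CF ∪ YF) fun _ => Nat.zero_le _)
    rw [Finset.sum_union D.disj, ← Finset.add_sum_erase _ _ D.one_mem, hdone,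
      Finset.sum_congr rfl (g := fun _ => d₀ * d₀) (s₁ := YF) fun φ hφ => by rw [D.YF_deg φ hφ],
      Finset.sum_const, D.card_YF, smul_eq_mul, hS]
    split_ifs <;> simp [f, one]
  have hcard : (CF.erase one).card = if t = 1 then p - 1 else e - 1 := by
    rw [Finset.card_erase_of_mem D.one_mem, D.card_CF]
    split_ifs <;> rfl
  have hmain : configOK (Nat.card G) p B np e allow want = true := by
    simp only [configOK, hdiv]
    rw [← hcne, ← hcard]
    refine search_sound f _ (CF.erase one) 0 0 0 false hcand (by rw [← hS]; omega) fun h hh => ?_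
    simp only [zero_add]
    rw [← hA, ← hA', ← hS]
    by_cases ht : t = 1
    · rw [if_pos ht] at heq htot
      have hhit : h = true := hh (Or.inr ⟨χ, Finset.mem_erase.2 ⟨fun h => hne (congrArg Subtype.val h), ?_⟩, hw⟩)
      · simp only [finalOK, if_pos ht, hhit, Bool.true_and, Bool.and_eq_true, decide_eq_true_eq]
        exact ⟨by omega, by omega⟩
      · rcases (D.mem χ).1 hχ with h' | h'
        · exact h'
        · have := Finset.card_pos.2 ⟨χ, h'⟩
          rw [D.card_YF, if_pos ht] at this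
          exact absurd this (lt_irrefl 0)
    · rw [if_neg ht] at heq htot
      obtain ⟨η, hη⟩ : YF.Nonempty := Finset.card_pos.1 (by
        rw [D.card_YF, if_neg ht]
        rcases Nat.eq_zero_or_pos t with h0 | h0
        · rw [h0, zero_mul, zero_add] at hte; exact absurd hte.symm hp.ne_one
        · exact h0)
      have hη1 : η ≠ one := fun h =>
        Finset.disjoint_left.1 D.disj D.one_mem (h ▸ hη : one ∈ YF)
      have hd0 : charDegree (η : G → ℂ) = d₀ := D.YF_deg η hη
      have hd02 : 2 ≤ d₀ := hd0 ▸ hdeg2 η hη1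
      have hM0 : (np * e) % d₀ = 0 := Nat.mod_eq_zero_of_dvd (hidx ▸
        BrauerReynolds.dvd_of_omega_sum YF id y (by omega)
          (fun j hj => by rw [← D.YF_deg j hj]; exact (BlockB.irr_degree_cast j).symm)
          (σ := -σ) (by rcases D.sign with h | h <;> simp [h]) (D.YF_sum ht y hy hy1))
      have hexc : excOK (Nat.card G) (np * e) p cne allow d₀ = true := by
        have hdn := hdvdn η
        rw [hd0] at hdn
        have hal : allow d₀ = true := hd0 ▸ hallow η (hmemYF η hη) fun h => hη1 (Subtype.ext h)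
        cases hC' : cne
        · simp [-Nat.card_eq_fintype_card, excOK, hd02, hal, hdn, hM0]
        · simp [-Nat.card_eq_fintype_card, excOK, hd02, hal, hdn, hM0, hd0 ▸ hsmall η (hmemYF η hη) hη1 hC']
      have hhit : (h || want d₀) = true := by
        rcases (D.mem χ).1 hχ with h' | h'
        · rw [hh (Or.inr ⟨χ, Finset.mem_erase.2 ⟨fun h'' => hne (congrArg Subtype.val h''), h'⟩,
            hw⟩), Bool.true_or]
        · rw [← D.YF_deg χ h', hw, Bool.or_true]
      simp only [finalOK, if_neg ht, List.any_eq_true]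
      refine ⟨d₀, List.mem_range.2 (hd0 ▸ hlt η (hsq1 η)), ?_⟩
      simp only [hexc, hhit, Bool.true_and, Bool.and_eq_true, Bool.or_eq_true, decide_eq_true_eq]
      refine ⟨by omega, ?_⟩
      have hmod := D.d₀_mod ht
      rcases D.sign with hs | hs <;> rw [hs] at heq hmod
      · refine Or.inl ⟨by omega, ?_⟩
        rw [mul_one] at hmod
        have h1 : (d₀ : ℤ) % p = (e : ℤ) % p := Int.modEq_iff_dvd.2 hmod
        exact_mod_cast h1
      · refine Or.inr ⟨by omega, ?_⟩
        refine Nat.mod_eq_zero_of_dvd (Int.natCast_dvd_natCast.1 ?_)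
        have h := hmod.neg_right
        push_cast
        simpa [add_comm] using h
  simp only [rowPossible, List.any_eq_true, List.mem_range, Bool.and_eq_true, decide_eq_true_eq,
    Bool.not_eq_true']
  refine ⟨i, ?_, ⟨⟨⟨by omega, ?_⟩, ?_⟩, ?_⟩, e, hep, ⟨⟨⟨he2, ?_⟩, ?_⟩, ?_⟩, by rw [← hi]; exact hmain⟩
  · have h : i * (2 * p * p) < Nat.card G := by
      rw [← hnN, hc]
      have h1 : i * p < np := by omega
      have h2' : 2 * p ≤ e * (p * c) := Nat.mul_le_mul he2 (Nat.le_mul_of_pos_right p hc0)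
      calc i * (2 * p * p) = i * p * (2 * p) := by ring
        _ < np * (2 * p) := Nat.mul_lt_mul_of_pos_right h1 (by have := hp.pos; omega)
        _ ≤ np * (e * (p * c)) := Nat.mul_le_mul_left _ h2'
    have hpos : 0 < 2 * p * p := by have := hp.pos; positivity
    have := (Nat.le_div_iff_mul_le hpos).2 h.le
    omega
  · rw [← hi]
    exact Nat.mod_eq_zero_of_dvd ⟨e * c, by rw [← hnN, hc]; ring⟩
  · rw [← hi]
    by_cases h5 : p = 5
    · subst h5
      have h21 := CfsgLib.Transfer.card_sylow_five_ne_twentyone G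
      simp [-Nat.card_eq_fintype_card, hnp, h21]
    · simp [h5]
  · rw [← hi]; exact hexcl
  · rw [show p - 1 = t * e by omega]; exact Nat.mul_mod_left t e
  · rw [← hi]
    exact Nat.mod_eq_zero_of_dvd ⟨c, by rw [← hnN, hc]; ring⟩
  · rw [← hi, hnp, ← D.e_eq]; exact hsel P

/-- A false sieve kills the order. -/
theorem false_of_rowPossible' [IsSimpleGroup G] (hG : ¬ IsMulCommutative G) {n B : ℕ}
    (hn : Nat.card G = n) (hB : n < B * B) (h1 : p ∣ n) (h2 : ¬ p ^ 2 ∣ n) (sel : ℕ → ℕ → Bool)
    (hsel : ∀ P : Sylow p G, sel (Nat.card (Sylow p G))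
      ((Subgroup.centralizer ((P : Subgroup G) : Set G)).relIndex
        (Subgroup.normalizer ((P : Subgroup G) : Set G))) = true) (allow : ℕ → Bool)
    (hallow : ∀ φ : IrrCharacter G, (φ : G → ℂ) ≠ (fun _ => 1) →
      allow (charDegree (φ : G → ℂ)) = true)
    (hf : rowPossible n p B sel allow (fun _ => true) = false) : False := by
  classical
  have hperf := CfsgLib.Transfer.commutator_eq_top_of_simple hG
  obtain ⟨P⟩ := (inferInstance : Nonempty (Sylow p G))
  have hP : Nat.card P = p := CfsgLib.Transfer.card_sylow_eq_prime P (hn.symm ▸ h1) (hn.symm ▸ h2)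
  obtain ⟨M, hM⟩ := BlockB.exists_isPModular (p := p) hpf.out
  obtain ⟨e, t, d₀, σ, CF, YF, ε, D⟩ := exists_rows hperf hM P hP
  have he2 := D.e_two
  have hp2 := hpf.out.two_le
  obtain ⟨χ, hχ, hne⟩ : ∃ χ ∈ CF, χ ≠ ⟨fun _ => 1, Char.isIrrCharacter_one⟩ := by
    refine Finset.exists_mem_ne ?_ _
    rw [D.card_CF]
    split_ifs <;> omega
  have h := rowPossible_of_mem hG hn hB h1 h2 hM χ ((D.mem χ).2 (Or.inl hχ))
    (fun h => hne (Subtype.ext h)) sel hsel allow (fun φ _ hφ => hallow φ hφ) (fun _ => true) rfl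
  rw [hf] at h
  exact Bool.false_ne_true h

/-- A false sieve without restrictions kills the order. -/
theorem false_of_rowPossible [IsSimpleGroup G] (hG : ¬ IsMulCommutative G) {n B : ℕ}
    (hn : Nat.card G = n) (hB : n < B * B) (h1 : p ∣ n) (h2 : ¬ p ^ 2 ∣ n)
    (hf : rowPossible n p B (fun _ _ => true) (fun _ => true) (fun _ => true) = false) : False :=
  false_of_rowPossible' hG hn hB h1 h2 _ (fun _ => rfl) _ (fun _ _ => rfl) hf

/-- Two primes with no element of order divisible by both share a wanted degree. -/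
theorem exists_common_degree [IsSimpleGroup G] (hG : ¬ IsMulCommutative G) {n B q : ℕ}
    [Fact q.Prime] (hn : Nat.card G = n) (hB : n < B * B) (h1 : p ∣ n) (h2 : ¬ p ^ 2 ∣ n)
    (h3 : q ∣ n) (h4 : ¬ q ^ 2 ∣ n) (hno : ∀ g : G, p ∣ orderOf g → ¬ q ∣ orderOf g)
    (w : ℕ → Bool)
    (hp' : rowPossible n p B (fun _ _ => true) (fun _ => true) (fun d => !(w d)) = false)
    (hq' : rowPossible n q B (fun _ _ => true) (fun _ => true) w = false) : False := by
  classical
  obtain ⟨M₁, hM₁⟩ := BlockB.exists_isPModular (p := p) hpf.out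
  obtain ⟨M₂, hM₂⟩ := BlockB.exists_isPModular (p := q) (Fact.out : q.Prime)
  obtain ⟨x, hx⟩ := exists_prime_orderOf_dvd_card' (G := G) p (hn.symm ▸ h1)
  obtain ⟨y, hy⟩ := exists_prime_orderOf_dvd_card' (G := G) q (hn.symm ▸ h3)
  obtain ⟨χ, hχ1, hχ2, hne⟩ := RowDegree.exists_common hM₁ hM₂ hx hy hno
  by_cases hw : w (charDegree (χ : G → ℂ)) = true
  · have h := rowPossible_of_mem hG hn hB h3 h4 hM₂ χ hχ2 hne (fun _ _ => true)
      (fun _ => rfl) (fun _ => true) (fun _ _ _ => rfl) w hw
    rw [hq'] at h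
    exact Bool.false_ne_true h
  · have h := rowPossible_of_mem hG hn hB h1 h2 hM₁ χ hχ1 hne (fun _ _ => true)
      (fun _ => rfl) (fun _ => true) (fun _ _ _ => rfl) (fun d => !(w d)) (by simpa using hw)
    rw [hp'] at h
    exact Bool.false_ne_true h

omit hpf in
/-- The order through the Sylow count, the automizer order and the centralizer. -/
theorem card_config (P : Sylow p G) [Fact p.Prime] :
    Nat.card (Sylow p G) * ((Subgroup.centralizer ((P : Subgroup G) : Set G)).relIndex
      (Subgroup.normalizer ((P : Subgroup G) : Set G)) *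
      Nat.card (Subgroup.centralizer ((P : Subgroup G) : Set G))) = Nat.card G := by
  have h : (Subgroup.centralizer ((P : Subgroup G) : Set G)).relIndex
      (Subgroup.normalizer ((P : Subgroup G) : Set G)) *
      Nat.card (Subgroup.centralizer ((P : Subgroup G) : Set G)) =
      Nat.card (Subgroup.normalizer ((P : Subgroup G) : Set G)) := by
    rw [Subgroup.relIndex,
      ← Nat.card_congr (Subgroup.subgroupOfEquivOfLe (Subgroup.centralizer_le_normalizer _)).toEquiv]
    exact Subgroup.index_mul_card _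
  rw [h, Sylow.card_eq_index_normalizer P]
  exact Subgroup.index_mul_card _

end CfsgLib.ClassK.RowSieve
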