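import Cfsg.Agent.Lib.ClassK.SmallOrders
import Cfsg.Agent.Lib.Transfer.TwentyOne
import Cfsg.Agent.Lib.Transfer.ExcSimple

/-!
# Orders left by the sieve, easy cases
-/

set_option autoImplicit false

namespace CfsgLib.ClassK

open Subgroup
open scoped Nat

universe u

variable {G : Type u} [Group G] [Finite G] [IsSimpleGroup G]

theorem card_ne_420_840 (hG : ¬ IsMulCommutative G) : Nat.card G ≠ 420 ∧ Nat.card G ≠ 840 := by
  have : Fact (Nat.Prime 5) := ⟨by norm_num⟩
  refine ⟨fun h => ?_, fun h => ?_⟩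
  all_goals
    have := sylow_count_mem (p := 5) (a := 1) hG h one_pos (by norm_num) (by norm_num) [21]
      (by decide +kernel)
    exact CfsgLib.Transfer.card_sylow_five_ne_twentyone G (List.mem_singleton.1 this)

/-- Fifteen Sylow 2-subgroups in a group of order `15 * 2 ^ a`, `a ≥ 4`. -/
theorem false_of_fifteen_sylow_two (hG : ¬ IsMulCommutative G) {a : ℕ} (ha : 4 ≤ a)
    (hc : Nat.card G = 2 ^ a * 15) (hn : Nat.card (Sylow 2 G) = 15) : False := by
  have : Fact (Nat.Prime 2) := ⟨Nat.prime_two⟩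
  obtain ⟨P, R, hPR, hle⟩ := CfsgLib.Transfer.exists_large_intersection (p := 2) (G := G) 2
    (by rw [hn]; decide)
  have hPc : ∀ S : Sylow 2 G, Nat.card (S : Subgroup G) = 2 ^ a := fun S =>
    card_sylow_of_exact S (hc ▸ dvd_mul_right _ _) (by
      rw [hc, pow_succ]
      intro h
      have := (Nat.mul_dvd_mul_iff_left (pow_pos two_pos a)).1 h
      omega)
  set D := (P : Subgroup G) ⊓ (R : Subgroup G) with hD
  have hsub : ∀ S : Sylow 2 G, D ≤ (S : Subgroup G) →
      (D.subgroupOf (S : Subgroup G)).index = 2 → (S : Subgroup G) ≤ normalizer (D : Set G) := by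
    intro S hS hi
    have hnorm := Subgroup.normal_of_index_eq_two hi
    intro x hx
    refine mem_normalizer_fintype fun y hy => ?_
    exact hnorm.conj_mem (⟨y, hS hy⟩ : (S : Subgroup G)) hy ⟨x, hx⟩
  have hne : ((R : Subgroup G).subgroupOf (P : Subgroup G)).index ≠ 1 := fun h => by
    rw [index_eq_one, subgroupOf_eq_top] at h
    exact hPR (Sylow.ext (P.3 R.2 h).symm)
  have hi : ((R : Subgroup G).subgroupOf (P : Subgroup G)).index = 2 := by
    have h0 : ((R : Subgroup G).subgroupOf (P : Subgroup G)).index ≠ 0 :=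
      Subgroup.FiniteIndex.index_ne_zero
    rw [pow_one] at hle
    omega
  have hDP : (D.subgroupOf (P : Subgroup G)).index = 2 := by
    rwa [show D.subgroupOf (P : Subgroup G) = (R : Subgroup G).subgroupOf (P : Subgroup G) from
      inf_subgroupOf_left _ _]
  have hDc : Nat.card D * 2 = 2 ^ a := by
    have := (D.subgroupOf (P : Subgroup G)).card_mul_index
    rwa [hDP, hPc, Nat.card_congr (subgroupOfEquivOfLe (inf_le_left : D ≤ _)).toEquiv] at this
  have hDR : (D.subgroupOf (R : Subgroup G)).index = 2 := by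
    have h := (D.subgroupOf (R : Subgroup G)).card_mul_index
    rw [hPc, Nat.card_congr (subgroupOfEquivOfLe (inf_le_right : D ≤ _)).toEquiv, ← hDc] at h
    exact Nat.eq_of_mul_eq_mul_left Nat.card_pos h
  set N := normalizer (D : Set G)
  have hPN : (P : Subgroup G) ≤ N := hsub P inf_le_left hDP
  have hRN : (R : Subgroup G) ≤ N := hsub R inf_le_right hDR
  have h16 : 16 ≤ 2 ^ a := le_trans (by norm_num) (Nat.pow_le_pow_right two_pos ha)
  have hNtop : N ≠ ⊤ := by
    intro ht
    rcases IsSimpleGroup.eq_bot_or_eq_top_of_normal D (normalizer_eq_top_iff.1 ht) with h' | h'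
    · rw [h', card_bot] at hDc
      omega
    · rw [h', card_top, hc] at hDc
      omega
  have hfac := CfsgLib.Transfer.two_mul_card_dvd_factorial hG hNtop
  have hNi := N.card_mul_index
  obtain ⟨k, hk⟩ := hPc P ▸ card_dvd_of_le hPN
  have hk1 : k ≠ 1 := by
    rintro rfl
    rw [mul_one] at hk
    have h1 : (P : Subgroup G) = N := eq_of_le_of_card_ge hPN (by rw [hk, hPc])
    exact hPR (Sylow.ext (R.3 P.2 (h1 ▸ hRN)))
  rw [hk, mul_assoc, hc] at hNi
  have hki := Nat.eq_of_mul_eq_mul_left (pow_pos two_pos a) hNi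
  have hi5 : N.index ≤ 7 := by
    by_contra hlt
    have : k ≠ 0 := fun h => by rw [h, zero_mul] at hki; omega
    have := Nat.mul_le_mul (show 2 ≤ k by omega) (show 8 ≤ N.index by omega)
    omega
  have h16' : 2 * (16 * 15) ∣ N.index ! := by
    refine dvd_trans ?_ hfac
    rw [hc]
    exact Nat.mul_dvd_mul_left 2 (Nat.mul_dvd_mul_right (pow_dvd_pow 2 ha) 15)
  revert h16'
  generalize N.index = i at hi5
  interval_cases i <;> decide

theorem card_ne_480_960 (hG : ¬ IsMulCommutative G) : Nat.card G ≠ 480 ∧ Nat.card G ≠ 960 := by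
  have : Fact (Nat.Prime 2) := ⟨Nat.prime_two⟩
  constructor
  · intro h
    refine false_of_fifteen_sylow_two hG (a := 5) (by norm_num) (h.trans (by norm_num)) ?_
    exact List.mem_singleton.1 (sylow_count_mem (p := 2) (a := 5) hG h (by norm_num) (by norm_num)
      (by norm_num) [15] (by decide +kernel))
  · intro h
    refine false_of_fifteen_sylow_two hG (a := 6) (by norm_num) (h.trans (by norm_num)) ?_
    exact List.mem_singleton.1 (sylow_count_mem (p := 2) (a := 6) hG h (by norm_num) (by norm_num)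
      (by norm_num) [15] (by decide +kernel))

/-- Data of a self-centralizing Sylow subgroup of prime order. -/
theorem selfCentralizing_data (hG : ¬ IsMulCommutative G) {n p m e : ℕ} [Fact p.Prime]
    (hc : Nat.card G = n) (h1 : p ∣ n) (h2 : ¬ p ^ 2 ∣ n) (hm : m * (e * p) = n)
    (hS : Nat.card (Sylow p G) = m) (hm' : ∀ e' c : ℕ, e' ∣ p - 1 → 1 < e' → e' * c = e → c = 1) :
    ∃ A : Subgroup G, Nat.card A = p ∧ Nat.card (normalizer (A : Set G)) = e * Nat.card A ∧
      ∀ x ∈ A, x ≠ 1 → centralizer ({x} : Set G) = A := by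
  subst hc
  obtain ⟨P, k, e', C, hP, hk, -, -, -, hC, hN, ⟨c, rfl⟩, he, he1, hnN, -, -⟩ :=
    CfsgLib.Transfer.prime_sylow_data (p := p) hG h1 h2
  rw [hk, hS, ← hm] at hnN
  have hmpos : 0 < m := hS ▸ Nat.card_pos
  have h3 : e' * c = e := by
    have h4 := Nat.eq_of_mul_eq_mul_left hmpos hnN
    rw [← mul_assoc, mul_comm e' p, mul_assoc, mul_comm e p] at h4
    exact Nat.eq_of_mul_eq_mul_left (Fact.out : p.Prime).pos h4
  have hc1 := hm' e' c he he1 h3
  subst hc1
  rw [mul_one] at h3 hC
  subst h3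
  refine ⟨P, hP, ?_, CfsgLib.Transfer.centralizer_singleton_eq _ hP hC.symm⟩
  rw [hN, hP, mul_one]

theorem card_ne_612_1040 (hG : ¬ IsMulCommutative G) : Nat.card G ≠ 612 ∧ Nat.card G ≠ 1040 := by
  have := Fintype.ofFinite G
  constructor
  · intro h
    have : Fact (Nat.Prime 17) := ⟨by norm_num⟩
    have hm := List.mem_singleton.1 (sylow_count_mem (p := 17) (a := 1) hG h one_pos (by norm_num)
      (by norm_num) [18] (by decide +kernel))
    obtain ⟨A, hA, hN, hcen⟩ := selfCentralizing_data hG (e := 2) h (by norm_num) (by norm_num)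
      (by norm_num) hm (fun e c he he1 hec => by
        have := Nat.le_of_dvd two_pos ⟨c, hec.symm⟩
        obtain rfl : e = 2 := by omega
        omega)
    obtain ⟨s, D, d, c, q, hs, hD, hd, hd1, ⟨k, hk0, hk⟩, hdD, hsq, -⟩ :=
      CfsgLib.Transfer.exc_two_numeric A hcen hG (w := 8) hN (by rw [hA]) (by norm_num)
    rw [h] at hD hd hsq
    rw [hA] at hk
    have hD24 : D ≤ 24 := by nlinarith
    have hk1 : k = 1 := by rcases hs with rfl | rfl <;> omega
    subst hk1
    rcases hs with rfl | rfl <;> push_cast at hk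
    · obtain rfl : D = 18 := by omega
      obtain rfl : d = 19 := by omega
      norm_num at hd
    · obtain rfl : D = 16 := by omega
      norm_num at hD
  · intro h
    have : Fact (Nat.Prime 13) := ⟨by norm_num⟩
    have hm := List.mem_singleton.1 (sylow_count_mem (p := 13) (a := 1) hG h one_pos (by norm_num)
      (by norm_num) [40] (by decide +kernel))
    obtain ⟨A, hA, hN, hcen⟩ := selfCentralizing_data hG (e := 2) h (by norm_num) (by norm_num)
      (by norm_num) hm (fun e c he he1 hec => by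
        have := Nat.le_of_dvd two_pos ⟨c, hec.symm⟩
        obtain rfl : e = 2 := by omega
        omega)
    obtain ⟨s, D, d, c, q, hs, hD, hd, hd1, ⟨k, hk0, hk⟩, hdD, hsq, -⟩ :=
      CfsgLib.Transfer.exc_two_numeric A hcen hG (w := 6) hN (by rw [hA]) (by norm_num)
    rw [h] at hD hd hsq
    rw [hA] at hk
    have hD32 : D ≤ 32 := by nlinarith
    have hk2 : k ≤ 2 := by rcases hs with rfl | rfl <;> omega
    interval_cases k <;> rcases hs with rfl | rfl <;> push_cast at hk <;>
      (obtain rfl : D = _ := Int.ofNat.inj hk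
       norm_num at hD)

theorem card_ne_756 (hG : ¬ IsMulCommutative G) : Nat.card G ≠ 756 := by
  intro h
  have := Fintype.ofFinite G
  have : Fact (Nat.Prime 7) := ⟨by norm_num⟩
  have hm := List.mem_singleton.1 (sylow_count_mem (p := 7) (a := 1) hG h one_pos (by norm_num)
    (by norm_num) [36] (by decide +kernel))
  obtain ⟨A, hA, hN, hcen⟩ := selfCentralizing_data hG (e := 3) h (by norm_num) (by norm_num)
    (by norm_num) hm (fun e c he he1 hec => by
      have := Nat.le_of_dvd three_pos ⟨c, hec.symm⟩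
      interval_cases e <;> omega)
  obtain ⟨ε, α, d, θ, S, a, D, hd, hd1, hdG, hS, -, hnorm, hdeg, hsq⟩ :=
    CfsgLib.Transfer.exists_excData_simple A hcen hG (w := 2) hN (by rw [hA]) le_rfl
  rw [h] at hdG hsq
  obtain ⟨hα, hc2⟩ : (α = 0 ∨ α = ε) ∧ ∑ χ ∈ S, a χ ^ 2 = 2 := by
    have h0 : 0 ≤ ∑ χ ∈ S, a χ ^ 2 := Finset.sum_nonneg fun _ _ => sq_nonneg _
    push_cast at hnorm
    have h1 : α ≤ 2 := by nlinarith
    have h2 : -2 ≤ α := by nlinarith
    rcases hd.sign with rfl | rfl <;> interval_cases α <;> first | omega | (norm_num; omega) |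
      (norm_num at hnorm; omega)
  have hDa : ∀ χ ∈ S, a χ = -1 ∧ (D χ = 6 ∨ D χ = 27) := by
    intro χ hχ
    obtain ⟨-, hD1, hDG, -, -, hane, -, k, hk0, hk⟩ := hS χ hχ
    have hle : a χ ^ 2 ≤ 2 := hc2 ▸ Finset.single_le_sum (fun _ _ => sq_nonneg _) hχ
    have h1 : a χ ≤ 1 := by nlinarith
    have h2 : -1 ≤ a χ := by nlinarith
    have hb : D χ ^ 2 ≤ 756 := by
      have := Finset.single_le_sum (f := fun ψ => D ψ ^ 2) (fun _ _ => Nat.zero_le _) hχ
      omega
    have hb' : D χ ≤ 27 := by nlinarith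
    rw [h] at hDG
    rw [hA] at hk
    push_cast at hk
    have hk' : k ≤ 4 := by omega
    generalize a χ = x at hk h1 h2 hane ⊢
    generalize D χ = y at hk hDG hD1 hb' ⊢
    interval_cases x <;> interval_cases k <;> first
      | omega
      | (obtain rfl : y = _ := Int.ofNat.inj hk; revert hDG; norm_num)
  have hcard : S.card = 2 := by
    have : ∑ χ ∈ S, a χ ^ 2 = ∑ χ ∈ S, (1 : ℤ) :=
      Finset.sum_congr rfl fun χ hχ => by rw [(hDa χ hχ).1]; rfl
    rw [hc2, Finset.sum_const, nsmul_one] at this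
    exact_mod_cast this.symm
  obtain ⟨χ₁, χ₂, hne, rfl⟩ := Finset.card_eq_two.1 hcard
  rw [Finset.sum_pair hne] at hdeg hsq
  obtain ⟨ha1, hD1⟩ := hDa χ₁ (by simp)
  obtain ⟨ha2, hD2⟩ := hDa χ₂ (by simp)
  rw [ha1, ha2] at hdeg
  push_cast at hdeg
  rcases hD1 with e1 | e1 <;> rcases hD2 with e2 | e2 <;> rw [e1, e2] at hdeg hsq <;>
    rcases hd.sign with rfl | rfl <;> rcases hα with rfl | rfl <;> norm_num at hdeg hsq ⊢ <;>
    first
      | omega
      | (obtain rfl : d = 11 := by omega
         norm_num at hdG)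

end CfsgLib.ClassK
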