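import Cfsg.Agent.Lib.ClassK.RowInvolution

/-!
Involutions inverting a self-centralizing Sylow subgroup of order `p`.
-/

set_option autoImplicit false

namespace CfsgLib.ClassK.RowInvolution

open Cfsg CfsgLib CfsgLib.Block CfsgLib.ClassK.RowSieve

universe u

variable {G : Type u} [Group G] [Finite G] {p : ℕ} [hpf : Fact p.Prime]

/-- Sylow count and automizer order of a self-centralizing Sylow subgroup. -/
theorem config_of_selfCentral [IsSimpleGroup G] (hG : ¬ IsMulCommutative G) (P : Sylow p G)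
    (hP : Nat.card P = p) (hC : Nat.card (Subgroup.centralizer ((P : Subgroup G) : Set G)) = p) :
    2 ≤ (Subgroup.centralizer ((P : Subgroup G) : Set G)).relIndex
        (Subgroup.normalizer ((P : Subgroup G) : Set G)) ∧
      (Subgroup.centralizer ((P : Subgroup G) : Set G)).relIndex
        (Subgroup.normalizer ((P : Subgroup G) : Set G)) ∣ p - 1 ∧
      Nat.card (Sylow p G) % p = 1 ∧
      Nat.card (Sylow p G) * ((Subgroup.centralizer ((P : Subgroup G) : Set G)).relIndex
        (Subgroup.normalizer ((P : Subgroup G) : Set G)) * p) = Nat.card G := by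
  obtain ⟨M, hM⟩ := BlockB.exists_isPModular (p := p) hpf.out
  obtain ⟨e, t, d₀, σ, CF, YF, ε, D⟩ :=
    exists_rows (CfsgLib.Transfer.commutator_eq_top_of_simple hG) hM P hP
  have hte := D.hte
  rw [D.e_eq]
  refine ⟨D.e_two, ⟨t, by rw [mul_comm]; omega⟩, ?_, ?_⟩
  · have h := card_sylow_modEq_one p G
    rwa [Nat.ModEq, Nat.mod_eq_of_lt hpf.out.one_lt] at h
  · have h := card_config P
    rwa [D.e_eq, hC] at h

/-- An element inverting one nontrivial element of a group of prime order inverts all of it. -/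
theorem invert_all (P : Sylow p G) (hP : Nat.card P = p) {x t : G} (hx : x ∈ (P : Subgroup G))
    (hx1 : x ≠ 1) (ht : t * x * t⁻¹ = x⁻¹) : ∀ a ∈ (P : Subgroup G), t * a * t⁻¹ = a⁻¹ := by
  intro a ha
  have hz : Subgroup.zpowers x = (P : Subgroup G) := by
    refine Subgroup.eq_of_le_of_card_ge (Subgroup.zpowers_le.2 hx) ?_
    have h := Subgroup.orderOf_dvd_natCard (P : Subgroup G) hx
    rw [hP] at h
    rw [hP, Nat.card_zpowers,
      ((Nat.dvd_prime hpf.out).1 h).resolve_left fun h' => hx1 (orderOf_eq_one_iff.1 h')]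
  rw [← hz] at ha
  obtain ⟨i, rfl⟩ := Subgroup.mem_zpowers_iff.1 ha
  rw [← conj_zpow, ht, inv_zpow]

/-- With automizer of order `2 ^ k` there is an involution inverting `P` whose centralizer has
order divisible by `2 ^ k`. -/
theorem exists_inverting (P : Sylow p G) (hP : Nat.card P = p)
    (hC : Nat.card (Subgroup.centralizer ((P : Subgroup G) : Set G)) = p) (hp2 : p ≠ 2) {k : ℕ}
    (hk : 0 < k) (he : (Subgroup.centralizer ((P : Subgroup G) : Set G)).relIndex
      (Subgroup.normalizer ((P : Subgroup G) : Set G)) = 2 ^ k) :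
    ∃ x t : G, x ∈ (P : Subgroup G) ∧ x ≠ 1 ∧ orderOf t = 2 ∧ t * x * t⁻¹ = x⁻¹ ∧
      2 ^ k ∣ Nat.card (Subgroup.centralizer ({t} : Set G)) := by
  have hp := hpf.out
  obtain ⟨x, ε, hxo, hgen, hconj, hker⟩ := exists_prime_sylow_data P hP
  have hxP : x ∈ (P : Subgroup G) := hgen ▸ Subgroup.mem_zpowers x
  have hx1 : x ≠ 1 := fun h => hp.ne_one (by rw [← hxo, h, orderOf_one])
  have hrange : Nat.card ε.range = 2 ^ k := by rw [← Subgroup.index_ker, hker, ← he]; rfl
  obtain ⟨w, hw⟩ := IsCyclic.exists_ofOrder_eq_natCard (α := ε.range)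
  obtain ⟨h, hh⟩ := MonoidHom.mem_range.1 w.2
  rw [← Subgroup.orderOf_coe, ← hh, hrange] at hw
  have hpe : (ε h) ^ p = ε h := by
    have hdvd : 2 ^ k ∣ p - 1 := by
      have h1 := orderOf_dvd_natCard (ε h)
      rwa [hw, Nat.card_eq_fintype_card, ZMod.card_units] at h1
    obtain ⟨j, hj⟩ := hdvd
    have h2 : p = 2 ^ k * j + 1 := by have := hp.one_le; omega
    calc (ε h) ^ p = (ε h) ^ (2 ^ k * j + 1) := congrArg ((ε h) ^ ·) h2
      _ = ε h := by rw [pow_succ, pow_mul, ← hw, pow_orderOf_eq_one, one_pow, one_mul]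
  set g : G := ((h ^ p : _) : G) with hg
  have hεg : ε (h ^ p) = ε h := by rw [map_pow, hpe]
  have hgord : orderOf g = 2 ^ k := by
    refine Nat.dvd_antisymm (orderOf_dvd_of_pow_eq_one ?_) ?_
    · have hmem : h ^ (2 ^ k) ∈ ε.ker := by
        rw [MonoidHom.mem_ker, map_pow, ← hw, pow_orderOf_eq_one]
      rw [hker, Subgroup.mem_subgroupOf, SubgroupClass.coe_pow] at hmem
      have h1 := Subgroup.orderOf_dvd_natCard _ hmem
      rw [hC] at h1
      rw [hg, SubgroupClass.coe_pow, ← pow_mul, mul_comm, pow_mul]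
      exact orderOf_dvd_iff_pow_eq_one.1 h1
    · rw [hg, Subgroup.orderOf_coe, ← hw, ← hεg]
      exact orderOf_map_dvd ε _
  have hk1 : 2 ^ k = 2 * 2 ^ (k - 1) := by
    conv_lhs => rw [show k = k - 1 + 1 by omega, pow_succ]
    ring
  set t := g ^ (2 ^ (k - 1)) with ht
  have hto : orderOf t = 2 := by
    rw [ht, orderOf_pow' _ (by positivity), hgord, hk1,
      Nat.gcd_eq_right (dvd_mul_left _ _), Nat.mul_div_cancel _ (by positivity)]
  refine ⟨x, t, hxP, hx1, hto, ?_, ?_⟩
  · have hεt : ε ((h ^ p) ^ (2 ^ (k - 1))) = -1 := by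
      have hne : (ε h) ^ (2 ^ (k - 1)) ≠ 1 := pow_ne_one_of_lt_orderOf (by positivity)
        (by rw [hw, hk1]; have : 0 < 2 ^ (k - 1) := by positivity
            omega)
      have h2 : ((ε h) ^ (2 ^ (k - 1))) ^ 2 = 1 := by
        rw [← pow_mul, mul_comm, ← hk1, ← hw, pow_orderOf_eq_one]
      rw [map_pow, hεg]
      have h3 : (((ε h) ^ (2 ^ (k - 1)) : (ZMod p)ˣ) : ZMod p) ^ 2 = 1 := by
        rw [← Units.val_pow_eq_pow_val, h2, Units.val_one]
      rcases sq_eq_one_iff.1 h3 with h4 | h4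
      · exact absurd (Units.ext h4) hne
      · exact Units.ext h4
    have h1 := hconj ((h ^ p) ^ (2 ^ (k - 1)))
    rw [hεt, SubgroupClass.coe_pow, ← hg, ← ht, Units.val_neg, Units.val_one] at h1
    rw [h1, eq_inv_iff_mul_eq_one, ← pow_succ, ← orderOf_dvd_iff_pow_eq_one, hxo]
    rw [← ZMod.natCast_eq_zero_iff]
    rw [Nat.cast_add, ZMod.natCast_zmod_val, Nat.cast_one, neg_add_cancel]
  · rw [← hgord]
    exact Subgroup.orderOf_dvd_natCard _ (Subgroup.mem_centralizer_singleton_iff.2
      (Commute.pow_right (Commute.refl g) _).eq)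

/-- The count of pairs for an inverting involution. -/
theorem card_pairs_eq (P : Sylow p G) (hP : Nat.card P = p) (hp2 : p ≠ 2)
    (hC : Nat.card (Subgroup.centralizer ((P : Subgroup G) : Set G)) = p) {x t : G}
    (hx : x ∈ (P : Subgroup G)) (hx1 : x ≠ 1) (ht : orderOf t = 2) (hinv : t * x * t⁻¹ = x⁻¹) :
    Nat.card {s : G // IsConj (t * (s * t * s⁻¹)) x} =
      Nat.card (Subgroup.centralizer ({t} : Set G)) ^ 2 := by
  classical
  have := Fintype.ofFinite G
  have htt : t * t = 1 := by rw [← pow_two, ← ht, pow_orderOf_eq_one]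
  rw [Nat.card_eq_fintype_card, Fintype.card_subtype]
  exact card_pairs_invert (CfsgLib.Transfer.centralizer_singleton_eq (P : Subgroup G) hP hC)
    (by rw [hP]; exact hpf.out.odd_of_ne_two hp2) htt
    (fun a ha => by
      have := invert_all P hP hx hx1 hinv a ha
      rwa [inv_eq_of_mul_eq_one_right htt] at this) hx hx1

end CfsgLib.ClassK.RowInvolution
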