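import Cfsg.Agent.Lib.ClassK.SmallOrders
import Cfsg.Agent.Lib.Transfer.TwentyOne
import Cfsg.Agent.Lib.Transfer.Frobenius
import Cfsg.Agent.Lib.StructC.SylowCount

/-!
Simple groups of orders 4500, 5292, 5400 and 6000: intersections of Sylow subgroups.
-/

set_option autoImplicit false

namespace CfsgLib.ClassK

open Subgroup
open scoped Nat Pointwise

universe u

variable {G : Type u} [Group G] [Finite G] [IsSimpleGroup G]

/-- A proper subgroup containing two Sylow subgroups when their number is not `1` modulo `p ^ 2`. -/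
theorem exists_overgroup (hG : ¬ IsMulCommutative G) {p a : ℕ} [hp : Fact p.Prime] (ha : 2 ≤ a)
    (h1 : p ^ a ∣ Nat.card G) (h2 : ¬ p ^ (a + 1) ∣ Nat.card G)
    (hn : ¬ Nat.card (Sylow p G) ≡ 1 [MOD p ^ 2]) :
    ∃ (H : Subgroup G) (m : ℕ), H ≠ ⊤ ∧ 1 < m ∧ m % p = 1 ∧ p ^ a * m ∣ Nat.card H := by
  obtain ⟨P, R, hPR, hle⟩ := CfsgLib.Transfer.exists_large_intersection (p := p) (G := G) 2 hn
  have hPc : ∀ S : Sylow p G, Nat.card (S : Subgroup G) = p ^ a := fun S =>
    card_sylow_of_exact S h1 h2
  set D := (P : Subgroup G) ⊓ (R : Subgroup G)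
  have hsub : ∀ S : Sylow p G, D ≤ (S : Subgroup G) →
      (D.subgroupOf (S : Subgroup G)).index = p → (S : Subgroup G) ≤ normalizer (D : Set G) := by
    intro S hS hi
    have hnorm : (D.subgroupOf (S : Subgroup G)).Normal := Subgroup.normal_of_index_eq_minFac_card
      (by rw [hi, hPc, Nat.pow_minFac (by omega), hp.out.minFac_eq])
    exact (normal_subgroupOf_iff_le_normalizer hS).1 hnorm
  have hne : ((R : Subgroup G).subgroupOf (P : Subgroup G)).index ≠ 1 := fun h => by
    rw [index_eq_one, subgroupOf_eq_top] at h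
    exact hPR (Sylow.ext (P.3 R.2 h).symm)
  have hi : ((R : Subgroup G).subgroupOf (P : Subgroup G)).index = p := by
    have hd := ((R : Subgroup G).subgroupOf (P : Subgroup G)).index_dvd_card
    rw [hPc] at hd
    obtain ⟨j, -, hj⟩ := (Nat.dvd_prime_pow hp.out).1 hd
    rw [hj] at hne hle ⊢
    have hj0 : j ≠ 0 := fun h => hne (by rw [h, pow_zero])
    have : j ≤ 2 - 1 := (Nat.pow_le_pow_iff_right hp.out.one_lt).1 hle
    rw [show j = 1 by omega, pow_one]
  have hDP : (D.subgroupOf (P : Subgroup G)).index = p := by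
    rwa [show D.subgroupOf (P : Subgroup G) = (R : Subgroup G).subgroupOf (P : Subgroup G) from
      inf_subgroupOf_left _ _]
  have hDc : Nat.card D * p = p ^ a := by
    have := (D.subgroupOf (P : Subgroup G)).card_mul_index
    rwa [hDP, hPc, Nat.card_congr (subgroupOfEquivOfLe (inf_le_left : D ≤ _)).toEquiv] at this
  have hDR : (D.subgroupOf (R : Subgroup G)).index = p := by
    have h := (D.subgroupOf (R : Subgroup G)).card_mul_index
    rw [hPc, Nat.card_congr (subgroupOfEquivOfLe (inf_le_right : D ≤ _)).toEquiv, ← hDc] at h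
    exact Nat.eq_of_mul_eq_mul_left Nat.card_pos h
  set N := normalizer (D : Set G)
  have hPN : (P : Subgroup G) ≤ N := hsub P inf_le_left hDP
  have hRN : (R : Subgroup G) ≤ N := hsub R inf_le_right hDR
  refine ⟨N, Nat.card (Sylow p N), fun ht => ?_, ?_, ?_, ?_⟩
  · rcases IsSimpleGroup.eq_bot_or_eq_top_of_normal D (normalizer_eq_top_iff.1 ht) with h' | h'
    · rw [h', card_bot, one_mul] at hDc
      have := (Nat.pow_eq_self_iff hp.out.one_lt).1 hDc.symm
      omega
    · have h3 : (P : Subgroup G) = ⊤ := top_le_iff.1 (h' ▸ (inf_le_left : D ≤ _))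
      have h4 : (R : Subgroup G) = ⊤ := top_le_iff.1 (h' ▸ (inf_le_right : D ≤ _))
      exact hPR (Sylow.ext (h3.trans h4.symm))
  · have : Nontrivial (Sylow p N) := ⟨⟨R.subtype hRN, P.subtype hPN,
      fun h => hPR (Sylow.subtype_injective h).symm⟩⟩
    exact Finite.one_lt_card
  · have h := card_sylow_modEq_one p N
    rwa [Nat.ModEq, Nat.mod_eq_of_lt hp.out.one_lt] at h
  · have h := (P.subtype hPN).card_dvd_index
    have hc : Nat.card ((P.subtype hPN : Sylow p N) : Subgroup N) = p ^ a := by
      rw [← hPc P]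
      exact Nat.card_congr (subgroupOfEquivOfLe hPN).toEquiv
    have hm := ((P.subtype hPN : Sylow p N) : Subgroup N).card_mul_index
    rw [hc] at hm
    rw [← hm]
    exact Nat.mul_dvd_mul_left _ h

/-- Nothing of order 4500, 5292 or 6000. -/
theorem card_ne_4500_5292_6000 (hG : ¬ IsMulCommutative G) :
    Nat.card G ≠ 4500 ∧ Nat.card G ≠ 5292 ∧ Nat.card G ≠ 6000 := by
  have key : ∀ (n p a : ℕ), Fact p.Prime → 2 ≤ a → p ^ a ∣ n → ¬ p ^ (a + 1) ∣ n →
      (∀ d ∈ List.range (n / p ^ a + 1), d < 2 ∨ d % p ≠ 1 ∨ n / p ^ a % d ≠ 0 ∨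
        countExcluded n p a d = true ∨ d % p ^ 2 ≠ 1) →
      (∀ m ∈ List.range (n / p ^ a + 1), m < 2 ∨ m % p ≠ 1 ∨ n % (p ^ a * m) ≠ 0 ∨
        (n / (p ^ a * m) < 13 ∧ (n / (p ^ a * m))! % (2 * n) ≠ 0)) →
      Nat.card G ≠ n := by
    intro n p a hp ha h1 h2 hcount hm h
    subst h
    obtain ⟨hc1, hc2, hmem, hc3, hc4⟩ := count_not_excluded (p := p) (a := a) hG (by omega) h1 h2
    have hne : ¬ Nat.card (Sylow p G) ≡ 1 [MOD p ^ 2] := by
      rcases hcount _ hmem with h | h | h | h | h
      · omega
      · exact absurd hc2 h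
      · exact absurd hc3 h
      · rw [hc4] at h; exact absurd h Bool.false_ne_true
      · intro h'
        refine h ?_
        rw [Nat.ModEq, Nat.mod_eq_of_lt (a := 1) (Nat.one_lt_pow two_ne_zero hp.out.one_lt)] at h'
        exact h'
    obtain ⟨H, m, hH, hm1, hmp, hmd⟩ := exists_overgroup hG ha h1 h2 hne
    have hd : p ^ a * m ∣ Nat.card G := hmd.trans H.card_subgroup_dvd_card
    have hmle : m ≤ Nat.card G / p ^ a :=
      (Nat.le_div_iff_mul_le (pow_pos hp.out.pos _)).2 (by rw [mul_comm]; exact Nat.le_of_dvd Nat.card_pos hd)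
    rcases hm m (List.mem_range.2 (by omega)) with h | h | h | ⟨hlt, h⟩
    · omega
    · exact h hmp
    · exact h (Nat.mod_eq_zero_of_dvd hd)
    · have hfac := CfsgLib.Transfer.two_mul_card_dvd_factorial hG hH
      refine h (Nat.mod_eq_zero_of_dvd (hfac.trans (Nat.factorial_dvd_factorial ?_)))
      have hi := H.index_mul_card
      have hpos : 0 < p ^ a * m := Nat.mul_pos (pow_pos hp.out.pos _) (by omega)
      refine (Nat.le_div_iff_mul_le hpos).2 ?_
      calc H.index * (p ^ a * m) ≤ H.index * Nat.card H :=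
            Nat.mul_le_mul_left _ (Nat.le_of_dvd Nat.card_pos hmd)
        _ = Nat.card G := hi
  exact ⟨key 4500 5 3 ⟨by norm_num⟩ (by norm_num) (by norm_num) (by norm_num) (by decide +kernel)
      (by decide +kernel),
    key 5292 7 2 ⟨by norm_num⟩ le_rfl (by norm_num) (by norm_num) (by decide +kernel)
      (by decide +kernel),
    key 6000 5 3 ⟨by norm_num⟩ (by norm_num) (by norm_num) (by norm_num) (by decide +kernel)
      (by decide +kernel)⟩

/-- Nothing of order 5400. -/
theorem card_ne_5400 (hG : ¬ IsMulCommutative G) : Nat.card G ≠ 5400 := by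
  classical
  intro hcard
  have : Fact (Nat.Prime 5) := ⟨by norm_num⟩
  have := Fintype.ofFinite G
  have := Fintype.ofFinite (Sylow 5 G)
  have hn36 : Nat.card (Sylow 5 G) = 36 := by
    have h := sylow_count_mem (p := 5) (a := 2) hG hcard (by norm_num) (by norm_num) (by norm_num)
      [36] (by decide +kernel)
    exact List.mem_singleton.1 h
  obtain ⟨P⟩ := (inferInstance : Nonempty (Sylow 5 G))
  have hPc : ∀ S : Sylow 5 G, Nat.card (S : Subgroup G) = 5 ^ 2 := fun S =>
    card_sylow_of_exact S (by rw [hcard]; norm_num) (by rw [hcard]; norm_num)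
  have hab : ∀ S : Sylow 5 G, ∀ a ∈ (S : Subgroup G), ∀ b ∈ (S : Subgroup G), a * b = b * a :=
    fun S a ha b hb => congrArg Subtype.val
      ((IsPGroup.commGroupOfCardEqPrimeSq (hPc S)).mul_comm ⟨a, ha⟩ ⟨b, hb⟩)
  have hindex : ∀ H : Subgroup G, H ≠ ⊤ → 10 ≤ H.index := fun H hH => by
    have h := CfsgLib.Transfer.two_mul_card_dvd_factorial hG hH
    rw [hcard] at h
    by_contra hlt
    have hlt' : H.index ≤ 9 := by omega
    revert h
    generalize H.index = i at hlt'
    interval_cases i <;> decide
  have hcent : ∀ {y : G}, y ≠ 1 → centralizer ({y} : Set G) ≠ ⊤ := fun {y} hy htop => by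
    have hc : y ∈ center G := mem_center_iff.2 fun g =>
      mem_centralizer_singleton_iff.1 (htop.ge (mem_top g))
    rcases IsSimpleGroup.eq_bot_or_eq_top_of_normal (center G) inferInstance with h | h
    · rw [h, mem_bot] at hc; exact hy hc
    · exact hG ⟨⟨fun a b => mem_center_iff.1 (h.ge (mem_top b)) a⟩⟩
  -- fixed points of `y` are the Sylow subgroups containing it
  let f : G → ℕ := fun y => (Finset.univ.filter fun Q : Sylow 5 G => y ∈ (Q : Subgroup G)).card
  have hfix : ∀ y ∈ (P : Subgroup G), ∀ Q : Sylow 5 G, y • Q = Q ↔ y ∈ (Q : Subgroup G) := by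
    intro y hy Q
    rw [Sylow.smul_eq_iff_mem_normalizer]
    refine ⟨fun h => ?_, fun h => le_normalizer h⟩
    have hpg : IsPGroup 5 (zpowers y ⊔ (Q : Subgroup G) : Subgroup G) :=
      IsPGroup.to_sup_of_normal_right' (P.2.to_le (zpowers_le.2 hy)) Q.2 (zpowers_le.2 h)
    have := Q.3 hpg le_sup_right
    exact this ▸ (mem_sup_left (mem_zpowers y) : y ∈ zpowers y ⊔ (Q : Subgroup G))
  have hf16 : ∀ y ∈ (P : Subgroup G), y ≠ 1 → f y = 1 ∨ f y = 6 := by
    intro y hy hy1
    set C := centralizer ({y} : Set G) with hC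
    have hmem : ∀ Q : Sylow 5 G, y ∈ (Q : Subgroup G) ↔ (Q : Subgroup G) ≤ C := by
      refine fun Q => ⟨fun h a ha => mem_centralizer_singleton_iff.2 (hab Q a ha y h), fun h => ?_⟩
      refine (hfix y hy Q).1 (Sylow.smul_eq_iff_mem_normalizer.2 ?_)
      exact mem_normalizer_fintype fun a ha => by
        rw [← mem_centralizer_singleton_iff.1 (h ha), mul_inv_cancel_right]; exact ha
    have hPC : (P : Subgroup G) ≤ C := (hmem P).1 hy
    have hfC : f y = Nat.card (Sylow 5 C) := by
      have e : f y = Nat.card {Q : Sylow 5 G // (Q : Subgroup G) ≤ C} := by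
        simp only [f]
        rw [Nat.card_eq_fintype_card, Fintype.card_subtype]
        exact congrArg Finset.card (Finset.filter_congr fun Q _ => hmem Q)
      rw [e]
      refine Nat.card_eq_of_bijective (fun Q => (Q : Sylow 5 G).subtype Q.2)
        ⟨fun Q R h => Subtype.ext (Sylow.subtype_injective h), fun S => ?_⟩
      obtain ⟨Q, hQ⟩ := (S.2.map C.subtype).exists_le_sylow
      have hQC : (Q : Subgroup G) = (S : Subgroup C).map C.subtype := by
        refine (eq_of_le_of_card_ge hQ ?_).symm
        rw [hPc Q, card_map_of_injective C.subtype_injective]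
        exact Nat.le_of_dvd Nat.card_pos (S.pow_dvd_card_of_pow_dvd_card
          (hPc P ▸ card_dvd_of_le hPC))
      have hle : (Q : Subgroup G) ≤ C := hQC ▸ map_subtype_le _
      refine ⟨⟨Q, hle⟩, Sylow.ext ?_⟩
      rw [Sylow.coe_subtype]
      apply map_injective C.subtype_injective
      rw [← hQC, subgroupOf_map_subtype, inf_eq_left.2 hle]
    rw [hfC]
    have hmod : Nat.card (Sylow 5 C) % 5 = 1 := card_sylow_modEq_one 5 C
    have hdvd : 5 ^ 2 * Nat.card (Sylow 5 C) ∣ Nat.card C := by
      have h := (P.subtype hPC).card_dvd_index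
      have hm := ((P.subtype hPC : Sylow 5 C) : Subgroup C).card_mul_index
      rw [show Nat.card ((P.subtype hPC : Sylow 5 C) : Subgroup C) = 5 ^ 2 from
        (Nat.card_congr (subgroupOfEquivOfLe hPC).toEquiv).trans (hPc P)] at hm
      rw [← hm]
      exact Nat.mul_dvd_mul_left _ h
    obtain ⟨k, hk⟩ := hdvd
    have hi := C.index_mul_card
    rw [hk, hcard] at hi
    have h10 := hindex C (hcent hy1)
    set m := Nat.card (Sylow 5 C)
    have hmk : C.index * (m * k) = 216 := by nlinarith
    have hk0 : 1 ≤ k := Nat.pos_of_ne_zero fun h => by rw [h, mul_zero, mul_zero] at hmk; omega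
    have hm21 : m ≤ 21 := by nlinarith
    have hmd : m ∣ 216 := ⟨C.index * k, by rw [← hmk]; ring⟩
    interval_cases m <;> omega
  -- counting orbits
  have hburn : 25 ∣ ∑ y : (P : Subgroup G), f y := by
    have h := MulAction.sum_card_fixedBy_eq_card_orbits_mul_card_group (P : Subgroup G) (Sylow 5 G)
    rw [Fintype.card_eq_nat_card (α := (P : Subgroup G)), hPc P] at h
    have e : ∀ y : (P : Subgroup G), Fintype.card (MulAction.fixedBy (Sylow 5 G) y) = f y := by
      intro y
      rw [Fintype.card_subtype]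
      exact congrArg Finset.card (Finset.filter_congr fun Q _ => hfix y y.2 Q)
    rw [Finset.sum_congr rfl fun y _ => e y] at h
    exact ⟨_, h.trans (mul_comm _ _)⟩
  set six := Finset.univ.filter fun y : (P : Subgroup G) => y ≠ 1 ∧ f y = 6 with hsix
  have hsum : ∑ y : (P : Subgroup G), f y = 36 + 24 + 5 * six.card := by
    rw [← Finset.add_sum_erase _ _ (Finset.mem_univ (1 : (P : Subgroup G))),
      Finset.sum_congr rfl (g := fun y : (P : Subgroup G) => 1 + 5 * if y ≠ 1 ∧ f y = 6 then 1 else 0)
        fun y hy => by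
          have hy1 : y ≠ 1 := Finset.ne_of_mem_erase hy
          rcases hf16 y y.2 (fun h => hy1 (Subtype.ext h)) with h | h <;> simp [h, hy1],
      Finset.sum_add_distrib, Finset.sum_const, Finset.card_erase_of_mem (Finset.mem_univ _),
      Finset.card_univ, Fintype.card_eq_nat_card, hPc P, ← Finset.mul_sum, Finset.sum_boole,
      Finset.filter_erase, Finset.erase_eq_of_notMem (by simp), ← hsix]
    rw [show f ((1 : (P : Subgroup G)) : G) = 36 by
      simp only [f, OneMemClass.coe_one, one_mem, Finset.filter_true]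
      rw [Finset.card_univ, Fintype.card_eq_nat_card, hn36]]
    simp only [Nat.cast_id, smul_eq_mul, mul_one]
    ring
  -- the lines
  have hord : ∀ y : (P : Subgroup G), y ≠ 1 → f y = 6 → orderOf y = 5 := by
    intro y hy1 hy6
    have h : orderOf y ∣ 5 ^ 2 := hPc P ▸ orderOf_dvd_natCard y
    obtain ⟨j, hj, hjo⟩ := (Nat.dvd_prime_pow (Fact.out : Nat.Prime 5)).1 h
    interval_cases j
    · exact absurd (orderOf_eq_one_iff.1 (by rw [hjo, pow_zero])) hy1
    · rw [hjo, pow_one]
    · exfalso
      have hz : zpowers (y : G) = (P : Subgroup G) := eq_of_le_of_card_ge (zpowers_le.2 y.2)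
        (by rw [Nat.card_zpowers, orderOf_coe, hjo, hPc P])
      have h1 : f y = 1 := Finset.card_eq_one.2 ⟨P, Finset.eq_singleton_iff_unique_mem.2
        ⟨Finset.mem_filter.2 ⟨Finset.mem_univ _, y.2⟩, fun Q hQ => Sylow.ext
          (eq_of_le_of_card_ge (hz ▸ zpowers_le.2 (Finset.mem_filter.1 hQ).2)
            (by rw [hPc, hPc])).symm⟩⟩
      omega
  set lines := six.image fun y : (P : Subgroup G) => zpowers (y : G)
  have hline : ∀ L ∈ lines, Nat.card L = 5 ∧ L ≤ (P : Subgroup G) := by
    intro L hL
    obtain ⟨y, hy, rfl⟩ := Finset.mem_image.1 hL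
    obtain ⟨hy1, hy6⟩ := (Finset.mem_filter.1 hy).2
    exact ⟨by rw [Nat.card_zpowers, orderOf_coe, hord y hy1 hy6], zpowers_le.2 y.2⟩
  have hfz : ∀ {y z : G}, zpowers y = zpowers z → f y = f z := fun {y z} h => by
    simp only [f]
    refine congrArg Finset.card (Finset.filter_congr fun Q _ => ?_)
    rw [← zpowers_le, h, zpowers_le]
  have hcardsix : six.card = 4 * lines.card := by
    rw [Finset.card_eq_sum_card_image (fun y : (P : Subgroup G) => zpowers (y : G)) six,
      Finset.sum_congr rfl (g := fun _ => 4) fun L hL => ?_, Finset.sum_const, smul_eq_mul, mul_comm]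
    obtain ⟨y, hy, rfl⟩ := Finset.mem_image.1 hL
    obtain ⟨hy1, hy6⟩ := (Finset.mem_filter.1 hy).2
    have hc : Nat.card {z : (P : Subgroup G) // z ∈ six ∧ zpowers (z : G) = zpowers (y : G)} = 4 := by
      have hyo := hord y hy1 hy6
      have e : Nat.card {z : zpowers (y : G) // z ≠ 1} = 4 := by
        have h5 : Nat.card (zpowers (y : G)) = 5 := by rw [Nat.card_zpowers, orderOf_coe, hyo]
        have := Fintype.ofFinite (zpowers (y : G))
        rw [Nat.card_eq_fintype_card, Fintype.card_subtype_compl, Fintype.card_subtype_eq,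
          ← Nat.card_eq_fintype_card, h5]
      rw [← e]
      refine Nat.card_congr
        { toFun := fun z => ⟨⟨((z : (P : Subgroup G)) : G), le_of_eq z.2.2 (mem_zpowers _)⟩, fun h => ?_⟩
          invFun := fun z => ⟨⟨((z : zpowers (y : G)) : G), zpowers_le.2 y.2 z.1.2⟩, ?_⟩
          left_inv := fun z => rfl
          right_inv := fun z => rfl }
      · exact ((Finset.mem_filter.1 z.2.1).2).1 (Subtype.ext (congrArg (fun w : zpowers (y : G) =>
          (w : G)) h))
      · have hz1 : ((z : zpowers (y : G)) : G) ≠ 1 := fun h => z.2 (Subtype.ext h)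
        have hzz : zpowers ((z : zpowers (y : G)) : G) = zpowers (y : G) := by
          refine eq_of_le_of_card_ge (zpowers_le.2 z.1.2) ?_
          have h := Subgroup.orderOf_dvd_natCard _ z.1.2
          rw [Nat.card_zpowers, orderOf_coe y, hyo] at h
          rw [Nat.card_zpowers, Nat.card_zpowers, orderOf_coe y, hyo]
          exact (((Nat.dvd_prime (Fact.out : Nat.Prime 5)).1 h).resolve_left
              fun h' => hz1 (orderOf_eq_one_iff.1 h')).ge
        exact ⟨Finset.mem_filter.2 ⟨Finset.mem_univ _, fun h => hz1 (congrArg Subtype.val h),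
          (hfz hzz).trans hy6⟩, hzz⟩
    rw [← hc, Nat.card_eq_fintype_card, Fintype.card_subtype]
    exact congrArg Finset.card (by ext z; simp [and_comm])
  have hlines : lines.card = 2 := by
    have h24 : six.card ≤ 24 := by
      have h := Finset.card_le_card (show six ⊆ Finset.univ.erase 1 from fun y hy =>
        Finset.mem_erase.2 ⟨(Finset.mem_filter.1 hy).2.1, Finset.mem_univ _⟩)
      rw [Finset.card_erase_of_mem (Finset.mem_univ _), Finset.card_univ, Fintype.card_eq_nat_card,
        hPc P] at h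
      norm_num at h ⊢
      exact h
    rw [hsum] at hburn
    omega
  -- an element of order three of the normalizer centralizes `P`
  set N := normalizer ((P : Subgroup G) : Set G) with hN
  have hNc : Nat.card N = 150 := by
    have h := N.index_mul_card
    have e : Nat.card (Sylow 5 G) = N.index := P.card_eq_index_normalizer
    rw [← e, hn36, hcard] at h
    omega
  have : Fact (Nat.Prime 3) := ⟨Nat.prime_three⟩
  obtain ⟨g, hg⟩ := exists_prime_orderOf_dvd_card' (G := N) 3 (by rw [hNc]; norm_num)
  have hgo : orderOf (g : G) = 3 := by rw [orderOf_coe, hg]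
  have hg3 : (g : G) ^ 3 = 1 := by rw [← hgo, pow_orderOf_eq_one]
  let c : Subgroup G → Subgroup G := fun L => L.map (MulAut.conj (g : G)).toMonoidHom
  have hcz : ∀ y : G, c (zpowers y) = zpowers ((g : G) * y * (g : G)⁻¹) := fun y => by
    simp only [c, MonoidHom.map_zpowers]; rfl
  have hfc : ∀ y : G, f ((g : G) * y * (g : G)⁻¹) = f y := by
    intro y
    refine (Finset.card_equiv (MulAction.toPerm (g : G)) fun Q => ?_).symm
    simp only [Finset.mem_filter, Finset.mem_univ, true_and, MulAction.toPerm_apply,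
      Sylow.coe_subgroup_smul, Subgroup.mem_pointwise_smul_iff_inv_smul_mem]
    simp [MulAut.smul_def, mul_assoc]
  have hmaps : ∀ L ∈ lines, c L ∈ lines := by
    intro L hL
    obtain ⟨y, hy, rfl⟩ := Finset.mem_image.1 hL
    obtain ⟨hy1, hy6⟩ := (Finset.mem_filter.1 hy).2
    rw [hcz]
    refine Finset.mem_image.2 ⟨⟨_, (mem_normalizer_iff.1 g.2 y).1 y.2⟩, Finset.mem_filter.2
      ⟨Finset.mem_univ _, fun h => hy1 (Subtype.ext ?_), (hfc y).trans hy6⟩, rfl⟩
    have h' : (g : G) * y * (g : G)⁻¹ = 1 := congrArg Subtype.val h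
    exact conj_eq_one_iff.1 h'
  have hcomp : ∀ L, c (c (c L)) = L := fun L => by
    ext w
    simp only [c, mem_map_equiv, MulAut.conj_symm_apply]
    have hgg : (g : G) * g * g = 1 := by rw [← hg3, pow_succ, pow_two]
    rw [show (g : G)⁻¹ * ((g : G)⁻¹ * ((g : G)⁻¹ * w * g) * g) * g =
      ((g : G) * g * g)⁻¹ * w * ((g : G) * g * g) by group, hgg, inv_one, one_mul, mul_one]
  have hfixL : ∀ L ∈ lines, c L = L := by
    intro L hL
    by_contra hne
    have h2 : lines = {L, c L} := by
      refine (Finset.eq_of_subset_of_card_le ?_ ?_).symm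
      · intro z hz
        simp only [Finset.mem_insert, Finset.mem_singleton] at hz
        rcases hz with rfl | rfl
        exacts [hL, hmaps L hL]
      · rw [hlines, Finset.card_pair (Ne.symm hne)]
    have h3 : c (c L) ∈ lines := hmaps _ (hmaps L hL)
    rw [h2, Finset.mem_insert, Finset.mem_singleton] at h3
    rcases h3 with h3 | h3
    · exact hne (by have := hcomp L; rwa [h3] at this)
    · exact hne (by have := hcomp L; rwa [h3, h3] at this)
  have hcentL : ∀ L ∈ lines, L ≤ centralizer ({(g : G)} : Set G) := by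
    intro L hL
    obtain ⟨hL5, -⟩ := hline L hL
    have : IsCyclic L := isCyclic_of_prime_card hL5
    have hgL : (g : G) ∈ normalizer (L : Set G) := by
      rw [mem_normalizer_iff]
      intro w
      conv_rhs => rw [← hfixL L hL]
      simp only [c, mem_map_equiv, MulAut.conj_symm_apply]
      rw [show (g : G)⁻¹ * ((g : G) * w * (g : G)⁻¹) * g = w by group]
    have hk : L.normalizerMonoidHom ⟨g, hgL⟩ = 1 := by
      rw [← orderOf_eq_one_iff]
      have ha : orderOf (L.normalizerMonoidHom ⟨g, hgL⟩) ∣ 3 := by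
        refine (orderOf_map_dvd _ _).trans ?_
        rw [Subgroup.orderOf_mk, hgo]
      have hb := orderOf_dvd_natCard (L.normalizerMonoidHom ⟨g, hgL⟩)
      rw [IsCyclic.card_mulAut, hL5, Nat.totient_prime (Fact.out : Nat.Prime 5)] at hb
      exact Nat.eq_one_of_dvd_coprimes (by norm_num) ha hb
    have hker : (⟨g, hgL⟩ : normalizer (L : Set G)) ∈ L.normalizerMonoidHom.ker := hk
    rw [normalizerMonoidHom_ker, mem_subgroupOf, mem_centralizer_iff] at hker
    exact fun w hw => mem_centralizer_singleton_iff.2 (hker w hw)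
  have hPg : (P : Subgroup G) ≤ centralizer ({(g : G)} : Set G) := by
    obtain ⟨L₁, L₂, hne, hl⟩ := Finset.card_eq_two.1 hlines
    have h1 := hline L₁ (hl ▸ by simp)
    have h2 := hline L₂ (hl ▸ by simp)
    refine le_trans (le_of_eq ?_) (sup_le (hcentL L₁ (hl ▸ by simp)) (hcentL L₂ (hl ▸ by simp)))
    refine (eq_of_le_of_card_ge (sup_le h1.2 h2.2) ?_).symm
    rw [hPc P]
    have hdvd : Nat.card (L₁ ⊔ L₂ : Subgroup G) ∣ 5 ^ 2 := hPc P ▸ card_dvd_of_le (sup_le h1.2 h2.2)
    obtain ⟨j, hj, hjc⟩ := (Nat.dvd_prime_pow (Fact.out : Nat.Prime 5)).1 hdvd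
    rw [hjc]
    by_contra hlt
    have hj1 : j ≤ 1 := by
      by_contra h
      exact hlt (Nat.pow_le_pow_right (by norm_num) (by omega))
    have hle : Nat.card (L₁ ⊔ L₂ : Subgroup G) ≤ 5 := hjc ▸
      (Nat.pow_le_pow_right (by norm_num) hj1).trans (by norm_num)
    have e1 : L₁ = L₁ ⊔ L₂ := eq_of_le_of_card_ge le_sup_left (h1.1 ▸ hle)
    have e2 : L₂ = L₁ ⊔ L₂ := eq_of_le_of_card_ge le_sup_right (h2.1 ▸ hle)
    exact hne (e1.trans e2.symm)
  -- the centralizer of that element
  set C := centralizer ({(g : G)} : Set G)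
  have h9 : 3 ^ 2 ∣ Nat.card C := by
    obtain ⟨S, hS⟩ := (IsPGroup.of_card (n := 1) (G := zpowers (g : G))
      (by rw [Nat.card_zpowers, hgo, pow_one]) : IsPGroup 3 _).exists_le_sylow
    have hSc : Nat.card (S : Subgroup G) = 3 ^ 3 :=
      card_sylow_of_exact S (by rw [hcard]; norm_num) (by rw [hcard]; norm_num)
    have : Fact (1 < 3) := ⟨by norm_num⟩
    -- the centre of `S` together with `g` has order at least nine
    have hnt : Nontrivial (S : Subgroup G) := Finite.one_lt_card_iff_nontrivial.1 (by rw [hSc]; norm_num)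
    have := S.2.center_nontrivial
    set g' : (S : Subgroup G) := ⟨g, hS (mem_zpowers _)⟩
    have hle : (center (S : Subgroup G) ⊔ zpowers g').map (S : Subgroup G).subtype ≤ C := by
      rintro _ ⟨w, hw, rfl⟩
      have : w ∈ centralizer ({g'} : Set (S : Subgroup G)) :=
        sup_le (fun a ha => mem_centralizer_singleton_iff.2 (mem_center_iff.1 ha g').symm)
          (zpowers_le.2 (mem_centralizer_singleton_iff.2 rfl)) hw
      exact mem_centralizer_singleton_iff.2
        (congrArg Subtype.val (mem_centralizer_singleton_iff.1 this))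
    refine dvd_trans ?_ (card_dvd_of_le hle)
    rw [card_map_of_injective Subtype.val_injective]
    have hdvd : Nat.card (center (S : Subgroup G) ⊔ zpowers g' : Subgroup (S : Subgroup G)) ∣ 3 ^ 3 :=
      hSc ▸ card_subgroup_dvd_card _
    obtain ⟨j, -, hjc⟩ := (Nat.dvd_prime_pow Nat.prime_three).1 hdvd
    rw [hjc]
    refine pow_dvd_pow 3 ?_
    by_contra hlt
    have hle3 : Nat.card (center (S : Subgroup G) ⊔ zpowers g' : Subgroup (S : Subgroup G)) ≤ 3 :=
      hjc ▸ (Nat.pow_le_pow_right (by norm_num) (show j ≤ 1 by omega)).trans (by norm_num)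
    have e1 : center (S : Subgroup G) = center (S : Subgroup G) ⊔ zpowers g' := by
      refine eq_of_le_of_card_ge le_sup_left (hle3.trans ?_)
      obtain ⟨i, hi⟩ := (S.2.to_subgroup (center (S : Subgroup G))).exists_card_eq
      have h1 : 1 < Nat.card (center (S : Subgroup G)) := Finite.one_lt_card
      rw [hi] at h1 ⊢
      exact Nat.le_of_dvd (by positivity) (dvd_pow_self 3 fun h => by rw [h] at h1; norm_num at h1)
    have hgc : g' ∈ center (S : Subgroup G) := e1 ▸ mem_sup_right (mem_zpowers _)
    have hSC : (S : Subgroup G) ≤ C := fun a ha => mem_centralizer_singleton_iff.2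
      (congrArg Subtype.val (mem_center_iff.1 hgc ⟨a, ha⟩))
    -- then `27 * 25` divides `|C(g)|`
    have h675 : 27 * 25 ∣ Nat.card C := Nat.Coprime.mul_dvd_of_dvd_of_dvd (by norm_num)
      (by have h := card_dvd_of_le hSC; rw [hSc] at h; norm_num at h ⊢; exact h) (by have h := card_dvd_of_le hPg; rw [hPc P] at h; norm_num at h ⊢; exact h)
    have h10 := hindex C (hcent fun h => by rw [h, orderOf_one] at hgo; omega)
    have hi := C.index_mul_card
    rw [hcard] at hi
    have := Nat.le_of_dvd Nat.card_pos h675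
    nlinarith
  have h225 : 9 * 25 ∣ Nat.card C := Nat.Coprime.mul_dvd_of_dvd_of_dvd (by norm_num) h9
    (by have h := card_dvd_of_le hPg; rw [hPc P] at h; norm_num at h ⊢; exact h)
  have hnorm : ((P : Subgroup G).subgroupOf C).Normal := by
    have h10 := hindex C (hcent fun h => by rw [h, orderOf_one] at hgo; omega)
    have hi := C.index_mul_card
    rw [hcard] at hi
    obtain ⟨j, hj⟩ := h225
    rw [hj] at hi
    have hj2 : j = 1 ∨ j = 2 := by
      have hij : C.index * j = 24 := by nlinarith
      have : j ≤ 2 := by nlinarith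
      rcases Nat.eq_zero_or_pos j with h | h
      · rw [h, mul_zero] at hij; omega
      · omega
    -- a subgroup of odd order and index at most two has a unique Sylow 5-subgroup
    have key : ∀ K : Subgroup C, K.Normal → Nat.card K = 225 →
        ((P : Subgroup G).subgroupOf C).Normal := by
      intro K hK hKc
      set S := P.subtype hPg with hS
      have hSc : Nat.card (S : Subgroup C) = 5 ^ 2 :=
        (Nat.card_congr (subgroupOfEquivOfLe hPg).toEquiv).trans (hPc P)
      have hKi : ¬ 5 ∣ K.index := by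
        have h := K.card_mul_index
        rw [hKc, hj] at h
        rcases hj2 with rfl | rfl <;> omega
      have hSK : (S : Subgroup C) ≤ K := by
        intro w hw
        have h1 : orderOf ((w : C) : C ⧸ K) ∣ orderOf w := orderOf_map_dvd (QuotientGroup.mk' K) w
        have h2 : orderOf ((w : C) : C ⧸ K) ∣ K.index := orderOf_dvd_natCard _
        have h3 : orderOf w ∣ 5 ^ 2 := hSc ▸ Subgroup.orderOf_dvd_natCard _ hw
        have h4 := Nat.eq_one_of_dvd_coprimes (Nat.Coprime.pow_left 2
          (((Fact.out : Nat.Prime 5).coprime_iff_not_dvd).2 hKi)) (h1.trans h3) h2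
        exact (QuotientGroup.eq_one_iff w).1 (orderOf_eq_one_iff.1 h4)
      have hSK1 : Nat.card (Sylow 5 K) = 1 := by
        have h := (S.subtype hSK).card_dvd_index
        have hm := ((S.subtype hSK : Sylow 5 K) : Subgroup K).card_mul_index
        rw [show Nat.card ((S.subtype hSK : Sylow 5 K) : Subgroup K) = 5 ^ 2 from
          (Nat.card_congr (subgroupOfEquivOfLe hSK).toEquiv).trans hSc, hKc] at hm
        have hmod : Nat.card (Sylow 5 K) % 5 = 1 := card_sylow_modEq_one 5 K
        rw [show ((S.subtype hSK : Sylow 5 K) : Subgroup K).index = 9 by omega] at h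
        have hle := Nat.le_of_dvd (by norm_num) h
        interval_cases hh : Nat.card (Sylow 5 K) <;> omega
      have : Subsingleton (Sylow 5 K) := (Nat.card_eq_one_iff_unique.1 hSK1).1
      have hn : ((S.subtype hSK : Sylow 5 K) : Subgroup K).Normal :=
        (S.subtype hSK).normal_of_subsingleton
      have hchar : ((S.subtype hSK : Sylow 5 K) : Subgroup K).Characteristic :=
        (S.subtype hSK).characteristic_of_normal hn
      have hmap := ConjAct.normal_of_characteristic_of_normal (H := K)
        (K := ((S.subtype hSK : Sylow 5 K) : Subgroup K))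
      rw [Sylow.coe_subtype, subgroupOf_map_subtype, inf_eq_left.2 hSK] at hmap
      exact hmap
    rcases hj2 with rfl | rfl
    · exact key ⊤ inferInstance (by rw [card_top, hj])
    · have : Fact (Nat.Prime 2) := ⟨Nat.prime_two⟩
      obtain ⟨T⟩ := (inferInstance : Nonempty (Sylow 2 C))
      have hTc : Nat.card (T : Subgroup C) = 2 := by
        have := card_sylow_of_exact (a := 1) T (by rw [hj]; norm_num) (by rw [hj]; norm_num)
        rwa [pow_one] at this
      obtain ⟨K, hKn, hKc⟩ := (CfsgLib.Transfer.hasNormalPComplement_iff_exists_isComplement' T).1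
        (CfsgLib.Transfer.hasNormalPComplement_of_normalizer_le_centralizer T (fun w hw => by
          rw [mem_centralizer_iff]
          intro t ht
          have hsq : ∀ a ∈ (T : Subgroup C), a = 1 ∨ a = t ∨ t = 1 := by
            intro a ha
            by_cases ht1 : t = 1
            · exact Or.inr (Or.inr ht1)
            by_cases ha1 : a = 1
            · exact Or.inl ha1
            refine Or.inr (Or.inl ?_)
            obtain ⟨b, hb⟩ := (Nat.card_eq_two_iff' (1 : (T : Subgroup C))).1 hTc
            exact congrArg Subtype.val ((hb.2 ⟨a, ha⟩ fun h => ha1 (congrArg Subtype.val h)).trans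
              (hb.2 ⟨t, ht⟩ fun h => ht1 (congrArg Subtype.val h)).symm)
          rcases hsq (w * t * w⁻¹) ((mem_normalizer_iff.1 hw t).1 ht) with h | h | h
          · rw [conj_eq_one_iff.1 h]; simp
          · exact (mul_inv_eq_iff_eq_mul.1 h).symm
          · rw [h]; simp))
      refine key K hKn ?_
      have h := hKc.card_mul
      rw [hTc, hj] at h
      omega
  have hle := card_dvd_of_le ((normal_subgroupOf_iff_le_normalizer hPg).1 hnorm)
  rw [hNc] at hle
  have := Nat.le_of_dvd (by norm_num) (h225.trans hle)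
  omega

end CfsgLib.ClassK
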