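import Cfsg.Agent.Lib.ClassK.GLTwoSylowNorm

/-!
Elements of a monomial block group with small fixed-space codimension.
-/

set_option autoImplicit false
set_option linter.unusedSectionVars false
set_option linter.unusedSimpArgs false

namespace CfsgLib.ClassK.MonBlocks

open Matrix CfsgLib.BlockA CfsgLib.BlockA.SqComm CfsgLib.BlockA.SylowSquares

universe u

variable {F : Type u} [Field F] {m : ℕ}

local notation "G2" => GL (Fin 2) F
local notation "Blk" => Matrix (Fin 2 × Fin m) (Fin 2 × Fin m) F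
local notation "W" => Wr m (GL (Fin 2) F)
local notation "sgl" => CfsgLib.BlockA.SqComm.single

theorem monHom_entry (x : W) (r c : Fin 2 × Fin m) :
    ((monHom x : GL (Fin 2 × Fin m) F) : Blk) r c =
      if r.2 = x.right c.2 then ((x.left r.2 : G2) : Matrix (Fin 2) (Fin 2) F) r.1 c.1 else 0 := by
  simp [monHom_apply, coe_permHom, mul_pmat_apply, coe_diagHom, Matrix.blockDiagonal_apply]

theorem sub_one_entry (x : W) (r c : Fin 2 × Fin m) :
    (((monHom x : GL (Fin 2 × Fin m) F) : Blk) - 1) r c =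
      (if r.2 = x.right c.2 then ((x.left r.2 : G2) : Matrix (Fin 2) (Fin 2) F) r.1 c.1 else 0) -
        if r = c then 1 else 0 := by
  rw [Matrix.sub_apply, monHom_entry, Matrix.one_apply]

theorem card_le_rank {ι κ : Type*} [Fintype ι] [DecidableEq ι] [Fintype κ] (A : Matrix κ κ F)
    (r c : ι → κ) (h : (A.submatrix r c).det ≠ 0) : Fintype.card ι ≤ A.rank := by
  rw [← Matrix.rank_of_isUnit _ ((Matrix.isUnit_iff_isUnit_det _).2 (isUnit_iff_ne_zero.2 h))]
  exact A.rank_submatrix_le r c

/-- Two moved blocks. -/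
theorem four_le_rank (x : W) {a b : Fin m} (hab : a ≠ b) (ha : x.right a ≠ a) (hb : x.right b ≠ b)
    (hba : x.right b ≠ a) : 4 ≤ (((monHom x : GL (Fin 2 × Fin m) F) : Blk) - 1).rank := by
  let e : Fin 2 ⊕ Fin 2 → Fin 2 × Fin m := Sum.elim (fun i => (i, a)) (fun i => (i, b))
  refine le_trans (le_of_eq (by simp)) (card_le_rank _ e e ?_)
  have he : (((monHom x : GL (Fin 2 × Fin m) F) : Blk) - 1).submatrix e e =
      Matrix.fromBlocks (-1) 0
        (Matrix.of fun i j => if b = x.right a then
          ((x.left b : G2) : Matrix (Fin 2) (Fin 2) F) i j else 0) (-1) := by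
    ext (i | i) (j | j) <;>
      simp only [e, Matrix.submatrix_apply, Sum.elim_inl, Sum.elim_inr, sub_one_entry] <;>
      simp [Matrix.one_apply, Ne.symm ha, Ne.symm hb, Ne.symm hba, hab, hab.symm]
  rw [he, Matrix.det_fromBlocks_zero₁₂]
  simp [Matrix.det_neg]

/-- A moved block and a non-trivial fixed block. -/
theorem three_le_rank_of_moved (x : W) {a l : Fin m} (ha : x.right a ≠ a) (hl : x.right l = l)
    (hne : x.left l ≠ 1) : 3 ≤ (((monHom x : GL (Fin 2 × Fin m) F) : Blk) - 1).rank := by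
  obtain ⟨i₀, j₀, h0⟩ : ∃ i j, ((x.left l : G2) : Matrix (Fin 2) (Fin 2) F) i j -
      (1 : Matrix (Fin 2) (Fin 2) F) i j ≠ 0 := by
    by_contra h
    push Not at h
    exact hne (Units.ext (by ext i j; exact sub_eq_zero.1 (h i j)))
  have hla : l ≠ a := fun h => ha (h ▸ hl)
  have h1 : x.right a ≠ l := fun h => hla.symm (x.right.injective (h.trans hl.symm))
  let r : Fin 2 ⊕ Unit → Fin 2 × Fin m := Sum.elim (fun i => (i, a)) (fun _ => (i₀, l))
  let c : Fin 2 ⊕ Unit → Fin 2 × Fin m := Sum.elim (fun i => (i, a)) (fun _ => (j₀, l))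
  refine le_trans (le_of_eq (by simp)) (card_le_rank _ r c ?_)
  have he : (((monHom x : GL (Fin 2 × Fin m) F) : Blk) - 1).submatrix r c =
      Matrix.fromBlocks (-1) 0 0 (Matrix.of fun _ _ => ((x.left l : G2) : Matrix (Fin 2) (Fin 2) F) i₀ j₀ -
        (1 : Matrix (Fin 2) (Fin 2) F) i₀ j₀) := by
    ext (i | i) (j | j) <;>
      simp only [r, c, Matrix.submatrix_apply, Sum.elim_inl, Sum.elim_inr, sub_one_entry] <;>
      simp [Matrix.one_apply, Ne.symm ha, hl, hla, hla.symm, Ne.symm h1]
  rw [he, Matrix.det_fromBlocks_zero₁₂]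
  simpa [Matrix.det_neg] using h0

/-- Three independent non-trivial entries. -/
theorem three_le_rank_of_entries (x : W) (hx : x.right = 1) (r c : Fin 3 → Fin 2 × Fin m)
    (hrc : ∀ t, (r t).2 = (c t).2)
    (h0 : ∀ t, ((x.left (r t).2 : G2) : Matrix (Fin 2) (Fin 2) F) (r t).1 (c t).1 ≠
      (1 : Matrix (Fin 2) (Fin 2) F) (r t).1 (c t).1)
    (hoff : ∀ s t, s ≠ t → (r s).2 ≠ (r t).2 ∨ ((r s).1 ≠ (c t).1 ∧
      ((x.left (r s).2 : G2) : Matrix (Fin 2) (Fin 2) F) (r s).1 (c t).1 = 0)) :
    3 ≤ (((monHom x : GL (Fin 2 × Fin m) F) : Blk) - 1).rank := by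
  refine le_trans (le_of_eq (by simp)) (card_le_rank _ r c ?_)
  have he : (((monHom x : GL (Fin 2 × Fin m) F) : Blk) - 1).submatrix r c =
      Matrix.diagonal fun t => ((x.left (r t).2 : G2) : Matrix (Fin 2) (Fin 2) F) (r t).1 (c t).1 -
        (1 : Matrix (Fin 2) (Fin 2) F) (r t).1 (c t).1 := by
    ext s t
    rw [Matrix.submatrix_apply, sub_one_entry, hx, Matrix.diagonal_apply, Equiv.Perm.coe_one, id]
    rcases eq_or_ne s t with rfl | hst
    · simp [hrc s, Prod.ext_iff, Matrix.one_apply]
    · rw [if_neg hst]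
      rcases hoff s t hst with h | ⟨h1, h2⟩
      · rw [← hrc t, if_neg h, if_neg (fun e => h (by rw [e, hrc t])), sub_zero]
      · rw [h2, ite_self, if_neg (fun e => h1 (congrArg Prod.fst e)), sub_zero]
  rw [he, Matrix.det_diagonal]
  exact Finset.prod_ne_zero_iff.2 fun t _ => sub_ne_zero.2 (h0 t)

/-- At most two non-trivial diagonal blocks. -/
theorem card_nontrivial_le [DecidableEq (GL (Fin 2) F)] (x : W) (hx : x.right = 1)
    (hr : (((monHom x : GL (Fin 2 × Fin m) F) : Blk) - 1).rank ≤ 2) :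
    (Finset.univ.filter fun i => x.left i ≠ 1).card ≤ 2 := by
  classical
  by_contra h
  obtain ⟨s, hs, hs3⟩ := Finset.exists_subset_card_eq (show 3 ≤ (Finset.univ.filter fun i => x.left i ≠ 1).card by omega)
  let e : Fin 3 → Fin m := fun t => ((s.equivFinOfCardEq hs3).symm t : Fin m)
  have he : Function.Injective e := fun u v h =>
    (s.equivFinOfCardEq hs3).symm.injective (Subtype.ext h)
  have hne : ∀ t, ∃ i j, ((x.left (e t) : G2) : Matrix (Fin 2) (Fin 2) F) i j ≠
      (1 : Matrix (Fin 2) (Fin 2) F) i j := fun t => by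
    by_contra h'
    push Not at h'
    exact (Finset.mem_filter.1 (hs ((s.equivFinOfCardEq hs3).symm t).2)).2
      (Units.ext (by ext i j; exact h' i j))
  choose i j hij using hne
  have := three_le_rank_of_entries x hx (fun t => (i t, e t)) (fun t => (j t, e t)) (fun _ => rfl)
    hij (fun a b hab => Or.inl (he.ne hab))
  omega

/-- At most one diagonal block is `-1`. -/
theorem neg_one_unique (x : W) (hx : x.right = 1) (h2 : (2 : F) ≠ 0)
    (hr : (((monHom x : GL (Fin 2 × Fin m) F) : Blk) - 1).rank ≤ 2) {a b : Fin m}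
    (ha : x.left a = -1) (hb : x.left b = -1) : a = b := by
  by_contra hab
  have hne : (-1 : F) ≠ 1 := fun h => h2 (by linear_combination -h)
  have := three_le_rank_of_entries x hx ![(0, a), (1, a), (0, b)] ![(0, a), (1, a), (0, b)]
    (fun _ => rfl) (fun t => by fin_cases t <;> simp [ha, hb, hne])
    (fun s t hst => by
      fin_cases s <;> fin_cases t <;>
        first
        | exact absurd rfl hst
        | simp [ha, hb, hab, Ne.symm hab])
  omega

/-! ### Supports -/

/-- The blocks on which `x` does not commute with the copy of `Q`. -/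
noncomputable def supp (Q : Subgroup G2) (x : W) : Finset (Fin m) := by
  classical exact Finset.univ.filter fun c => ∃ q ∈ Q, ¬ Commute (sgl c q) x

variable {Q : Subgroup (GL (Fin 2) F)}

theorem mem_supp {x : W} {c : Fin m} : c ∈ supp Q x ↔ ∃ q ∈ Q, ¬ Commute (sgl c q) x := by
  simp [supp]

theorem single_left (c : Fin m) (q : G2) :
    (sgl c q : W).left = Pi.mulSingle c q := rfl

theorem single_right (c : Fin m) (q : G2) : (sgl c q : W).right = 1 := rfl

theorem mul_left_apply (x y : W) (r : Fin m) :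
    (x * y).left r = x.left r * y.left (x.right.symm r) := rfl

/-- Off the support, the block is fixed and central. -/
theorem of_notMem_supp {x : W} {c : Fin m} (hc : c ∉ supp Q x) {a b : G2} (ha : a ∈ Q)
    (hb : b ∈ Q) (hab : ¬ Commute a b) : x.right c = c ∧ x.left c ∈ Subgroup.center G2 := by
  rw [mem_supp] at hc
  push Not at hc
  have h : ∀ q ∈ Q, (if x.right c = c then q else 1) * x.left (x.right c) =
      x.left (x.right c) * q := fun q hq => by
    have h1 := congrArg (fun w : W => w.left (x.right c)) (hc q hq).eq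
    simp only [mul_left_apply, single_left, single_right, Equiv.Perm.one_symm] at h1
    simpa [Pi.mulSingle_apply] using h1
  have hfix : x.right c = c := by
    by_contra hne
    have h1 := h a ha
    rw [if_neg hne, one_mul] at h1
    exact hab (by rw [left_eq_mul.1 h1]; exact Commute.one_left b)
  refine ⟨hfix, GLTwoNorm.mem_center_of_commute hab ?_ ?_⟩
  · have h1 := h a ha; rwa [if_pos hfix, hfix] at h1
  · have h1 := h b hb; rwa [if_pos hfix, hfix] at h1

theorem notMem_supp {x : W} {c : Fin m} (hc : x.right c = c)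
    (hz : x.left c ∈ Subgroup.center G2) : c ∉ supp Q x := by
  rw [mem_supp]
  rintro ⟨q, -, hq⟩
  refine hq (SemidirectProduct.ext (funext fun r => ?_) (by simp [single_right]))
  simp only [mul_left_apply, single_left, single_right, Pi.mulSingle_apply, Equiv.Perm.one_symm, Equiv.Perm.coe_one, id]
  have hc' : x.right.symm r = c ↔ r = c := by rw [Equiv.symm_apply_eq, hc]
  by_cases hr : r = c
  · subst hr
    rw [if_pos rfl, if_pos (hc'.2 rfl)]
    exact Subgroup.mem_center_iff.1 hz q
  · rw [if_neg hr, if_neg (fun h => hr (hc'.1 h))]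
    simp

/-- Conjugation by a monomial element moves singles to singles. -/
theorem conj_single_eq (w : W) (c : Fin m) (q : G2) :
    w * sgl c q * w⁻¹ =
      sgl (w.right c) (w.left (w.right c) * q * (w.left (w.right c))⁻¹) := by
  rw [mul_inv_eq_iff_eq_mul]
  refine SemidirectProduct.ext (funext fun r => ?_) (by simp [single_right])
  simp only [mul_left_apply, single_left, single_right, Pi.mulSingle_apply, Equiv.Perm.one_symm, Equiv.Perm.coe_one, id]
  by_cases hr : r = w.right c
  · subst hr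
    simp
  · have : w.right.symm r ≠ c := fun h => hr (by rw [← h]; simp)
    simp [hr, this]

theorem supp_conj_mem {E : Subgroup G2} (hE : ∀ e ∈ E, ∀ q ∈ Q, e * q * e⁻¹ ∈ Q) {w x : W}
    (hw : ∀ i, w.left i ∈ E) {c : Fin m} (hc : c ∈ supp Q x) :
    w.right c ∈ supp Q (w * x * w⁻¹) := by
  rw [mem_supp] at hc ⊢
  obtain ⟨q, hq, hn⟩ := hc
  refine ⟨_, hE _ (hw (w.right c)) q hq, ?_⟩
  rw [← conj_single_eq]
  intro h
  apply hn
  have e : ∀ z : W, w⁻¹ * (w * z * w⁻¹) * w = z := fun z => by group
  have h1 : w * (sgl c q * x) * w⁻¹ = w * (x * sgl c q) * w⁻¹ := by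
    calc w * (sgl c q * x) * w⁻¹ = (w * sgl c q * w⁻¹) * (w * x * w⁻¹) := by group
      _ = (w * x * w⁻¹) * (w * sgl c q * w⁻¹) := h.eq
      _ = _ := by group
  exact mul_left_cancel (mul_right_cancel h1)

theorem supp_conj {E : Subgroup G2} (hE : ∀ e ∈ E, ∀ q ∈ Q, e * q * e⁻¹ ∈ Q) {w x : W}
    (hw : ∀ i, w.left i ∈ E) : supp Q (w * x * w⁻¹) = (supp Q x).image w.right := by
  classical
  ext r
  rw [Finset.mem_image]
  constructor
  · intro hr
    have hw' : ∀ i, (w⁻¹).left i ∈ E := fun i => inv_mem (hw _)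
    have h1 := supp_conj_mem hE hw' hr
    rw [show w⁻¹ * (w * x * w⁻¹) * w⁻¹⁻¹ = x by group] at h1
    exact ⟨_, h1, by simp⟩
  · rintro ⟨c, hc, rfl⟩
    exact supp_conj_mem hE hw hc

/-- The support of a small element. -/
theorem supp_cases {x : W} (hr : (((monHom x : GL (Fin 2 × Fin m) F) : Blk) - 1).rank ≤ 2)
    {a b : G2} (ha : a ∈ Q) (hb : b ∈ Q) (hab : ¬ Commute a b) :
    (x.right = 1 ∧ (supp Q x).card ≤ 2) ∨
      ∀ c ∈ supp Q x, x.right c ≠ c ∧ (supp Q x).card ≤ 2 := by
  classical
  by_cases hx : x.right = 1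
  · refine Or.inl ⟨hx, le_trans (Finset.card_le_card fun c hc => ?_) (card_nontrivial_le x hx hr)⟩
    refine Finset.mem_filter.2 ⟨Finset.mem_univ c, fun h => ?_⟩
    exact notMem_supp (by simp [hx]) (h ▸ one_mem _) hc
  · obtain ⟨p, hp⟩ : ∃ p, x.right p ≠ p := by
      by_contra h
      push Not at h
      exact hx (Equiv.ext h)
    have hq : x.right (x.right p) ≠ x.right p := fun h => hp (x.right.injective h)
    have hqp : x.right (x.right p) = p := by
      by_contra h
      have := four_le_rank x (Ne.symm hp) hp hq h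
      omega
    have hmov : ∀ c, x.right c ≠ c → c = p ∨ c = x.right p := fun c hc => by
      by_contra h
      push Not at h
      have := four_le_rank x h.1 hc hp (Ne.symm h.2)
      omega
    have hsupp : ∀ c ∈ supp Q x, x.right c ≠ c := fun c hc h => by
      by_cases h1 : x.left c = 1
      · exact notMem_supp h (h1 ▸ one_mem _) hc
      · have := three_le_rank_of_moved x hp h h1
        omega
    refine Or.inr fun c hc => ⟨hsupp c hc, le_trans (Finset.card_le_card
      (t := {p, x.right p}) fun c hc => ?_) Finset.card_le_two⟩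
    simpa using hmov c (hsupp c hc)

/-- Enough conjugates under the base group. -/
theorem exists_variants {x : W} (hr : (((monHom x : GL (Fin 2 × Fin m) F) : Blk) - 1).rank ≤ 2)
    {a b : G2} (ha : a ∈ Q) (hb : b ∈ Q) (hab : ¬ Commute a b) {c : Fin m} (hc : c ∈ supp Q x) :
    ∃ X : Finset W, (supp Q x).card + 1 ≤ X.card ∧
      ∀ y ∈ X, ∃ d : Fin m, ∃ q ∈ Q, y = sgl d q * x * (sgl d q)⁻¹ := by
  classical
  have hval : ∀ (d : Fin m) (q : G2) (r : Fin m), (sgl d q * x * (sgl d q)⁻¹).left r =
      (if r = d then q else 1) * x.left r * if x.right.symm r = d then q⁻¹ else 1 := fun d q r => by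
    rw [← map_inv]
    simp only [mul_left_apply, single_left, single_right, SemidirectProduct.mul_right, one_mul,
      Pi.mulSingle_apply, Equiv.Perm.one_symm, Equiv.Perm.coe_one, id]
  let g : Fin m → G2 → W := fun d q => sgl d q * x * (sgl d q)⁻¹
  rcases supp_cases hr ha hb hab with ⟨h1, h2⟩ | h
  · -- diagonal
    have hmove : ∀ d ∈ supp Q x, ∃ q ∈ Q, (g d q).left d ≠ x.left d := fun d hd => by
      by_contra h
      push Not at h
      refine notMem_supp (by simp [h1]) ?_ hd
      have hcm : ∀ q ∈ Q, Commute q (x.left d) := fun q hq => by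
        have e := h q hq
        simp only [g, hval, h1, if_pos rfl, Equiv.Perm.one_symm, Equiv.Perm.coe_one, id] at e
        exact mul_inv_eq_iff_eq_mul.1 e
      exact GLTwoNorm.mem_center_of_commute hab (hcm a ha) (hcm b hb)
    have hoff : ∀ d q r, r ≠ d → (g d q).left r = x.left r := fun d q r hrd => by
      simp [g, hval, h1, hrd, Equiv.Perm.one_symm]
    obtain ⟨q, hq, hqne⟩ := hmove c hc
    have hxne : x ≠ g c q := fun h => hqne (by rw [← h])
    rcases le_or_gt (supp Q x).card 1 with h3 | h3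
    · refine ⟨{x, g c q}, by rw [Finset.card_pair hxne]; omega, fun y hy => ?_⟩
      rw [Finset.mem_insert, Finset.mem_singleton] at hy
      rcases hy with rfl | rfl
      · exact ⟨c, 1, one_mem _, by simp⟩
      · exact ⟨c, q, hq, rfl⟩
    · obtain ⟨c', hc', hcc'⟩ : ∃ c' ∈ supp Q x, c' ≠ c :=
        Finset.exists_mem_ne h3 c
      obtain ⟨q', hq', hqne'⟩ := hmove c' hc'
      refine ⟨{x, g c q, g c' q'}, ?_, fun y hy => ?_⟩
      · rw [Finset.card_eq_three.2 ⟨x, g c q, g c' q', hxne, fun h => hqne' (by rw [← h]),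
          fun h => hqne (by rw [h, hoff _ _ _ hcc'.symm]), rfl⟩]
        omega
      · simp only [Finset.mem_insert, Finset.mem_singleton] at hy
        rcases hy with rfl | rfl | rfl
        · exact ⟨c, 1, one_mem _, by simp⟩
        · exact ⟨c, q, hq, rfl⟩
        · exact ⟨c', q', hq', rfl⟩
  · -- a transposition
    obtain ⟨hne, h2⟩ := h c hc
    have hs : x.right.symm c ≠ c := fun h => hne (by conv_lhs => rw [← h, Equiv.apply_symm_apply])
    have hinj : Function.Injective (g c) := fun q q' h => by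
      have e := congrArg (fun w : W => w.left c) h
      simpa [g, hval, hs] using e
    have h1a : (1 : G2) ≠ a := fun h => hab (h ▸ Commute.one_left b)
    have h1b : (1 : G2) ≠ b := fun h => hab (h ▸ Commute.one_right a)
    have hab' : a ≠ b := fun h => hab (h ▸ Commute.refl _)
    refine ⟨({1, a, b} : Finset G2).image (g c), ?_, fun y hy => ?_⟩
    · rw [Finset.card_image_of_injective _ hinj,
        Finset.card_eq_three.2 ⟨1, a, b, h1a, h1b, hab', rfl⟩]
      omega
    · simp only [Finset.mem_image, Finset.mem_insert, Finset.mem_singleton] at hy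
      obtain ⟨q, (rfl | rfl | rfl), rfl⟩ := hy
      · exact ⟨c, 1, one_mem _, rfl⟩
      · exact ⟨c, q, ha, rfl⟩
      · exact ⟨c, q, hb, rfl⟩

/-- A small set of small elements, closed under a transitive monomial group, has empty supports. -/
theorem supp_eq_empty {E : Subgroup G2} (hE : ∀ e ∈ E, ∀ q ∈ Q, e * q * e⁻¹ ∈ Q) (hQE : Q ≤ E)
    {a b : G2} (ha : a ∈ Q) (hb : b ∈ Q) (hab : ¬ Commute a b) (P : Set (Equiv.Perm (Fin m)))
    (htr : ∀ i k : Fin m, ∃ σ ∈ P, σ i = k) (C : Finset W) (hC : C.card ≤ m)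
    (hr : ∀ y ∈ C, (((monHom y : GL (Fin 2 × Fin m) F) : Blk) - 1).rank ≤ 2)
    (hperm : ∀ σ ∈ P, ∀ y ∈ C,
      SemidirectProduct.inr σ * y * (SemidirectProduct.inr σ)⁻¹ ∈ C)
    (hbase : ∀ (d : Fin m), ∀ q ∈ Q, ∀ y ∈ C, sgl d q * y * (sgl d q)⁻¹ ∈ C)
    {y : W} (hy : y ∈ C) : supp Q y = ∅ := by
  classical
  by_contra hne
  obtain ⟨c₀, hc₀⟩ := Finset.nonempty_iff_ne_empty.2 hne
  set s := (supp Q y).card with hs
  have hs0 : 0 < s := Finset.card_pos.2 ⟨c₀, hc₀⟩
  let C' := C.filter fun z => (supp Q z).card = s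
  have key : ∀ k : Fin m, s + 1 ≤ (C'.filter fun z => k ∈ supp Q z).card := by
    intro k
    obtain ⟨σ, hσ, hσk⟩ := htr c₀ k
    obtain ⟨X, hXc, hX⟩ := exists_variants (hr y hy) ha hb hab hc₀
    refine hXc.trans ?_
    have hinj : Function.Injective fun w : W =>
        SemidirectProduct.inr σ * w * (SemidirectProduct.inr σ)⁻¹ :=
      fun u v h => mul_left_cancel (mul_right_cancel h)
    rw [← Finset.card_image_of_injective X hinj]
    refine Finset.card_le_card fun w hw => ?_
    obtain ⟨v, hv, rfl⟩ := Finset.mem_image.1 hw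
    obtain ⟨d, q, hq, rfl⟩ := hX v hv
    have hsl : ∀ i, (sgl d q : W).left i ∈ E := fun i => by
      rw [single_left, Pi.mulSingle_apply]
      split_ifs
      · exact hQE hq
      · exact one_mem _
    have hsupp : supp Q (sgl d q * y * (sgl d q)⁻¹) = supp Q y := by
      rw [supp_conj hE hsl, single_right, Equiv.Perm.coe_one, Finset.image_id]
    have hsig : supp Q (SemidirectProduct.inr σ * (sgl d q * y * (sgl d q)⁻¹) *
        (SemidirectProduct.inr σ)⁻¹) = (supp Q y).image σ := by
      rw [supp_conj hE (fun i => one_mem _), hsupp]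
      rfl
    simp only [C', Finset.mem_filter, hsig, Finset.card_image_of_injective _ σ.injective]
    exact ⟨⟨hperm σ hσ _ (hbase d q hq y hy), rfl⟩,
      Finset.mem_image.2 ⟨c₀, hc₀, hσk⟩⟩
  have h1 : ∑ k : Fin m, (C'.filter fun z => k ∈ supp Q z).card = ∑ z ∈ C', (supp Q z).card := by
    simp only [Finset.card_filter]
    rw [Finset.sum_comm]
    refine Finset.sum_congr rfl fun z _ => ?_
    rw [← Finset.card_filter, Finset.filter_mem_eq_inter, Finset.univ_inter]
  have h2 : ∑ z ∈ C', (supp Q z).card = C'.card * s := by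
    rw [Finset.sum_congr rfl fun z hz => (Finset.mem_filter.1 hz).2, Finset.sum_const, smul_eq_mul]
  have h3 : m * (s + 1) ≤ ∑ k : Fin m, (C'.filter fun z => k ∈ supp Q z).card := by
    refine le_trans ?_ (Finset.sum_le_sum fun k _ => key k)
    simp
  have h4 : C'.card * s ≤ m * s :=
    Nat.mul_le_mul_right s ((Finset.card_filter_le _ _).trans hC)
  have hm : 0 < m := Fin.pos c₀
  rw [h1, h2, Nat.mul_add, mul_one] at h3
  omega

end CfsgLib.ClassK.MonBlocks
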