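import Cfsg.Agent.Lib.PLocal.Replace
import Cfsg.Agent.Lib.PLocal.Basic
import Cfsg.Agent.Lib.Complement.SymFour
import Cfsg.Agent.Lib.Complement.TwoTools

/-!
# Two-groups that are far from offending

`Nice U A`: `|A / C_A(U)|² ≤ |U / C_U(A)|`.  Without a section `S₄`, an element of odd order inverted
by an involution and acting nontrivially on an elementary abelian `2`-group `W` forces
`|W : C_W(a)| ≥ 4`.
-/

set_option autoImplicit false
set_option linter.unusedSectionVars false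
set_option linter.dupNamespace false
set_option linter.unusedVariables false
set_option linter.style.haveILetI false

namespace CfsgLib.ClassK.Nice

open Subgroup CfsgLib.PLocal
open scoped Pointwise

universe u v

variable {G : Type u} [Group G]

/-- The image of `A` in the automorphisms of `U` is elementary abelian. -/
def ElemOn (U A : Subgroup G) : Prop :=
  (∀ a ∈ A, a * a ∈ centralizer (U : Set G)) ∧
    ∀ a ∈ A, ∀ b ∈ A, a * b * a⁻¹ * b⁻¹ ∈ centralizer (U : Set G)

/-- `|A : C_A(U)|² ≤ |U : C_U(A)|`. -/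
def Nice (U A : Subgroup G) : Prop :=
  Nat.card A ^ 2 * Nat.card ↥(U ⊓ centralizer (A : Set G)) ≤
    Nat.card U * Nat.card ↥(A ⊓ centralizer (U : Set G)) ^ 2

/-- Every subgroup of `T` with elementary abelian action on `U` is far from offending. -/
def NiceOn (T U : Subgroup G) : Prop := ∀ A : Subgroup G, A ≤ T → ElemOn U A → Nice U A

theorem ElemOn.mono {U A B : Subgroup G} (h : ElemOn U A) (hBA : B ≤ A) : ElemOn U B :=
  ⟨fun a ha => h.1 a (hBA ha), fun a ha b hb => h.2 a (hBA ha) b (hBA hb)⟩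

theorem elemOn_of_elemAb {U A : Subgroup G} (hA : Cfsg.IsElementaryAbelian 2 A) : ElemOn U A := by
  refine ⟨fun a ha => ?_, fun a ha b hb => ?_⟩
  · rw [← pow_two, hA.2 a ha]; exact one_mem _
  · rw [elemAb_comm hA ha hb]; simp

theorem centralizer_singleton_iff {a w : G} :
    w ∈ centralizer ({a} : Set G) ↔ a * w * a⁻¹ = w := by
  rw [mem_centralizer_iff]
  simp [mul_inv_eq_iff_eq_mul]

section Map

variable {H : Type v} [Group H] {f : G →* H}

theorem map_centralizer_inf (hf : Function.Injective f) (U A : Subgroup G) :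
    (U ⊓ centralizer (A : Set G)).map f = U.map f ⊓ centralizer ((A.map f : Subgroup H) : Set H) := by
  ext z
  constructor
  · rintro ⟨u, ⟨huU, huA⟩, rfl⟩
    refine ⟨mem_map_of_mem f huU, ?_⟩
    rintro _ ⟨a, ha, rfl⟩
    rw [← map_mul, ← map_mul, huA a ha]
  · rintro ⟨⟨u, huU, rfl⟩, hz⟩
    refine ⟨u, ⟨huU, fun a ha => hf ?_⟩, rfl⟩
    rw [map_mul, map_mul]
    exact hz (f a) ⟨a, ha, rfl⟩

theorem nice_map_iff (hf : Function.Injective f) (U A : Subgroup G) :
    Nice (U.map f) (A.map f) ↔ Nice U A := by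
  rw [Nice, Nice, ← map_centralizer_inf hf, ← map_centralizer_inf hf,
    card_map_of_injective hf, card_map_of_injective hf, card_map_of_injective hf,
    card_map_of_injective hf]

theorem map_mem_centralizer_iff (hf : Function.Injective f) {U : Subgroup G} {x : G} :
    f x ∈ centralizer ((U.map f : Subgroup H) : Set H) ↔ x ∈ centralizer (U : Set G) := by
  constructor
  · intro h u hu
    refine hf ?_
    rw [map_mul, map_mul]
    exact h (f u) ⟨u, hu, rfl⟩
  · rintro h _ ⟨u, hu, rfl⟩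
    rw [← map_mul, ← map_mul, h u hu]

theorem elemOn_map_iff (hf : Function.Injective f) (U A : Subgroup G) :
    ElemOn (U.map f) (A.map f) ↔ ElemOn U A := by
  constructor
  · intro h
    refine ⟨fun a ha => (map_mem_centralizer_iff hf).1 ?_,
      fun a ha b hb => (map_mem_centralizer_iff hf).1 ?_⟩
    · rw [map_mul]; exact h.1 _ ⟨a, ha, rfl⟩
    · simp only [map_mul, map_inv]; exact h.2 _ ⟨a, ha, rfl⟩ _ ⟨b, hb, rfl⟩
  · intro h
    refine ⟨?_, ?_⟩
    · rintro _ ⟨a, ha, rfl⟩
      rw [← map_mul]; exact (map_mem_centralizer_iff hf).2 (h.1 a ha)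
    · rintro _ ⟨a, ha, rfl⟩ _ ⟨b, hb, rfl⟩
      simp only [← map_inv, ← map_mul]
      exact (map_mem_centralizer_iff hf).2 (h.2 a ha b hb)

theorem niceOn_map (hf : Function.Injective f) {T U : Subgroup G} (h : NiceOn T U) :
    NiceOn (T.map f) (U.map f) := by
  intro A hAT hA
  have hA' : A = (T ⊓ A.comap f).map f := by
    refine le_antisymm (fun z hz => ?_) (map_le_iff_le_comap.2 inf_le_right)
    obtain ⟨t, ht, rfl⟩ := hAT hz
    exact ⟨t, ⟨ht, hz⟩, rfl⟩
  rw [hA'] at hA ⊢
  exact (nice_map_iff hf _ _).2 (h _ inf_le_left ((elemOn_map_iff hf _ _).1 hA))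

theorem niceOn_comap (hf : Function.Injective f) {T U : Subgroup G}
    (h : NiceOn (T.map f) (U.map f)) : NiceOn T U := fun A hAT hA =>
  (nice_map_iff hf _ _).1 (h _ (map_mono hAT) ((elemOn_map_iff hf _ _).2 hA))

end Map

variable [Finite G]

/-- Being far from offending passes to the subgroup generated by a family. -/
theorem nice_sSup {S : Set (Subgroup G)} : ∀ {A : Subgroup G},
    (∀ U ∈ S, ∀ B : Subgroup G, B ≤ A → Nice U B) → Nice (sSup S) A := by
  suffices key : ∀ n : ℕ, ∀ A : Subgroup G, Nat.card A ≤ n →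
      (∀ U ∈ S, ∀ B : Subgroup G, B ≤ A → Nice U B) → Nice (sSup S) A from
    fun {A} h => key _ A le_rfl h
  intro n
  induction n with
  | zero => intro A hA; exact absurd hA (by have := Nat.card_pos (α := A); omega)
  | succ n ih =>
    intro A hAn h
    set Y := sSup S with hY
    by_cases hAY : A ≤ centralizer (Y : Set G)
    · unfold Nice
      rw [inf_eq_left.2 hAY, inf_eq_left.2 (le_centralizer_iff.1 hAY), mul_comm]
    obtain ⟨U, hUS, hAU⟩ : ∃ U ∈ S, ¬ A ≤ centralizer (U : Set G) := by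
      by_contra hcon
      push Not at hcon
      exact hAY (le_centralizer_iff.1 (sSup_le fun U hU => le_centralizer_iff.1 (hcon U hU)))
    set K := A ⊓ centralizer (U : Set G) with hK
    have hUY : U ≤ Y := le_sSup hUS
    have hKA : K < A := lt_of_le_of_ne inf_le_left fun e => hAU (inf_eq_left.1 e)
    have hKn : Nat.card K ≤ n := by
      have h1 : Nat.card K < Nat.card A := lt_of_le_of_ne (card_le_of_le hKA.le)
        fun e => hKA.ne (eq_of_le_of_card_ge hKA.le e.ge)
      omega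
    have h1 : Nice U A := h U hUS A le_rfl
    have h2 : Nice Y K := ih K hKn fun W hW B hB => h W hW B (hB.trans inf_le_left)
    have hker : Nat.card ↥(K ⊓ centralizer (Y : Set G)) ≤
        Nat.card ↥(A ⊓ centralizer (Y : Set G)) := card_le_of_le (inf_le_inf_right _ inf_le_left)
    have hprod : Nat.card U * Nat.card ↥(Y ⊓ centralizer (A : Set G)) ≤
        Nat.card ↥(Y ⊓ centralizer (K : Set G)) * Nat.card ↥(U ⊓ centralizer (A : Set G)) := by
      refine (card_mul_le_card_sup_mul_inf _ _).trans (Nat.mul_le_mul ?_ ?_)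
      · refine card_le_of_le (sup_le (le_inf hUY (le_centralizer_iff.1 inf_le_right)) ?_)
        exact inf_le_inf_left _ (centralizer_le (hK ▸ inf_le_left))
      · exact card_le_of_le (le_inf inf_le_left (inf_le_right.trans inf_le_right))
    unfold Nice at h1 h2 ⊢
    rw [← hK] at h1
    refine Nat.le_of_mul_le_mul_left ?_ (Nat.card_pos (α := U))
    set a := Nat.card A
    set k := Nat.card K
    calc Nat.card U * (a ^ 2 * Nat.card ↥(Y ⊓ centralizer (A : Set G)))
        = a ^ 2 * (Nat.card U * Nat.card ↥(Y ⊓ centralizer (A : Set G))) := by ring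
      _ ≤ a ^ 2 * (Nat.card ↥(Y ⊓ centralizer (K : Set G)) *
            Nat.card ↥(U ⊓ centralizer (A : Set G))) := Nat.mul_le_mul le_rfl hprod
      _ = Nat.card ↥(Y ⊓ centralizer (K : Set G)) *
            (a ^ 2 * Nat.card ↥(U ⊓ centralizer (A : Set G))) := by ring
      _ ≤ Nat.card ↥(Y ⊓ centralizer (K : Set G)) * (Nat.card U * k ^ 2) :=
          Nat.mul_le_mul le_rfl h1
      _ = Nat.card U * (k ^ 2 * Nat.card ↥(Y ⊓ centralizer (K : Set G))) := by ring
      _ ≤ Nat.card U * (Nat.card Y * Nat.card ↥(K ⊓ centralizer (Y : Set G)) ^ 2) :=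
          Nat.mul_le_mul le_rfl h2
      _ ≤ _ := Nat.mul_le_mul le_rfl (Nat.mul_le_mul le_rfl (Nat.pow_le_pow_left hker 2))

/-- `|B ⊔ ⟨x⟩| ≤ 2 |B|` for an involution `x` centralizing `B`. -/
theorem card_sup_zpowers_le {B : Subgroup G} {x : G} (hx : ∀ b ∈ B, b * x = x * b)
    (hx2 : x * x = 1) : Nat.card ↥(B ⊔ zpowers x) ≤ 2 * Nat.card B := by
  have hn : zpowers x ≤ normalizer (B : Set G) := zpowers_le.2 <| mem_normalizer_iff.2 fun z =>
    ⟨fun hz => by rw [← hx z hz, mul_inv_cancel_right]; exact hz, fun hz => by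
      have h1 : z = x * z * x⁻¹ := by
        have h2 := hx _ hz
        rw [inv_mul_cancel_right] at h2
        exact mul_left_cancel h2
      rw [h1]; exact hz⟩
  calc Nat.card ↥(B ⊔ zpowers x) = ((B : Set G) * (zpowers x : Set G)).ncard := by
        rw [← Nat.card_coe_set_eq, ← Subgroup.coe_mul_of_right_le_normalizer_left B (zpowers x) hn]
        rfl
    _ ≤ Nat.card B * Nat.card (zpowers x) := by
        rw [← Nat.card_coe_set_eq]
        exact Set.natCard_mul_le
    _ ≤ Nat.card B * 2 := Nat.mul_le_mul_left _ (by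
        rw [Nat.card_zpowers]
        exact Nat.le_of_dvd two_pos (orderOf_dvd_of_pow_eq_one (by rw [pow_two, hx2])))
    _ = _ := mul_comm _ _

/-- `|K ⊔ A| |K ⊓ A| = |A| |K|` when `A` normalizes `K`. -/
theorem card_sup_mul_inf {K A : Subgroup G} (h : A ≤ normalizer (K : Set G)) :
    Nat.card (K ⊔ A : Subgroup G) * Nat.card (K ⊓ A : Subgroup G) = Nat.card A * Nat.card K := by
  have h1 : K.relIndex (K ⊔ A) = K.relIndex A := by
    haveI : (K.subgroupOf (normalizer (K : Set G))).Normal := normal_in_normalizer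
    rw [← relIndex_subgroupOf (sup_le le_normalizer h), ← relIndex_subgroupOf h,
      subgroupOf_sup le_normalizer h, relIndex_sup_left]
  have h2 : Nat.card (K ⊔ A : Subgroup G) = Nat.card K * K.relIndex A := by
    rw [← h1, ← relIndex_bot_left, ← relIndex_bot_left,
      relIndex_mul_relIndex ⊥ K _ bot_le le_sup_left]
  have h3 : Nat.card A = Nat.card (K ⊓ A : Subgroup G) * K.relIndex A := by
    rw [← inf_relIndex_right K A, ← relIndex_bot_left, ← relIndex_bot_left,
      relIndex_mul_relIndex ⊥ (K ⊓ A) _ bot_le inf_le_right]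
  rw [h2, h3]; ring

/-- An element of odd order centralizing a series `1 ≤ K` with `[y, x] ∈ K` fixes `x`. -/
theorem fixed_of_stabilizes {K : Subgroup G} (hK : IsPGroup 2 K) {y x : G} (hy : Odd (orderOf y))
    (hyK : ∀ k ∈ K, y * k * y⁻¹ = k) (hx : y * x * y⁻¹ * x⁻¹ ∈ K) : y * x * y⁻¹ = x := by
  set k := y * x * y⁻¹ * x⁻¹ with hk
  have hx1 : y * x * y⁻¹ = k * x := by rw [hk]; group
  have hiter : ∀ i : ℕ, y ^ i * x * (y ^ i)⁻¹ = k ^ i * x := by
    intro i
    induction i with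
    | zero => simp
    | succ i ih =>
      calc y ^ (i + 1) * x * (y ^ (i + 1))⁻¹ = y * (y ^ i * x * (y ^ i)⁻¹) * y⁻¹ := by
            rw [pow_succ']; group
        _ = y * (k ^ i * x) * y⁻¹ := by rw [ih]
        _ = (y * k ^ i * y⁻¹) * (y * x * y⁻¹) := by group
        _ = k ^ (i + 1) * x := by rw [hyK _ (pow_mem hx i), hx1, pow_succ, ← mul_assoc]
  have h1 := hiter (orderOf y)
  rw [pow_orderOf_eq_one, one_mul, inv_one, mul_one, eq_comm, mul_eq_right] at h1
  obtain ⟨j, hj⟩ := hK ⟨k, hx⟩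
  have h2 : k ^ 2 ^ j = 1 := congrArg Subtype.val hj
  have h3 : orderOf k = 1 := Nat.eq_one_of_dvd_coprimes
    ((Nat.coprime_two_left.2 hy).pow_left j) (orderOf_dvd_of_pow_eq_one h2)
    (orderOf_dvd_of_pow_eq_one h1)
  rw [hx1, orderOf_eq_one_iff.1 h3, one_mul]

/-- A power of an element whose image has odd order is of odd order and generates it modulo `N`. -/
theorem exists_odd_part (N : Subgroup G) [N.Normal] {d : G}
    (hd : Odd (orderOf (QuotientGroup.mk' N d))) :
    ∃ y ∈ zpowers d, Odd (orderOf y) ∧ d ∈ zpowers y ⊔ N := by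
  obtain ⟨i, m, hm, hdm⟩ := Nat.exists_eq_two_pow_mul_odd (orderOf_pos d).ne'
  refine ⟨d ^ 2 ^ i, pow_mem (mem_zpowers d) _, ?_, ?_⟩
  · rw [orderOf_pow_of_dvd (pow_pos two_pos i).ne' (hdm ▸ dvd_mul_right _ _), hdm,
      Nat.mul_div_cancel_left _ (pow_pos two_pos i)]
    exact hm
  · obtain ⟨k, hk⟩ := exists_pow_eq_self_of_coprime
      (x := QuotientGroup.mk' N d) (n := 2 ^ i) ((Nat.coprime_two_left.2 hd).pow_left i)
    rw [← map_pow, ← map_pow] at hk
    have h1 : ((d ^ 2 ^ i) ^ k)⁻¹ * d ∈ N := by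
      rw [← QuotientGroup.eq]; exact hk
    have h2 := mul_mem (mem_sup_left (T := N) (pow_mem (mem_zpowers (d ^ 2 ^ i)) k))
      (mem_sup_right (S := zpowers (d ^ 2 ^ i)) h1)
    rwa [mul_inv_cancel_left] at h2

/-- An element inverting `d` modulo `N` inverts all powers of `d` modulo `N`. -/
theorem inverts_zpowers (N : Subgroup G) [N.Normal] {a d y : G} (h : a * d * a⁻¹ * d ∈ N)
    (hy : y ∈ zpowers d) : a * y * a⁻¹ * y ∈ N := by
  obtain ⟨k, rfl⟩ := mem_zpowers_iff.1 hy
  rw [← QuotientGroup.eq_one_iff] at h ⊢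
  simp only [QuotientGroup.mk_mul, QuotientGroup.mk_inv, QuotientGroup.mk_zpow] at h ⊢
  have h1 : (a : G ⧸ N) * d * (a : G ⧸ N)⁻¹ = (d : G ⧸ N)⁻¹ := eq_inv_of_mul_eq_one_left h
  rw [← conj_zpow, h1, inv_zpow, inv_mul_cancel]

/-- The commutator of an element with an involution modulo `N` is inverted modulo `N`. -/
theorem inverts_commutator (N : Subgroup G) [N.Normal] {a g : G} (ha : a * a ∈ N) :
    a * (g⁻¹ * a * g * a⁻¹) * a⁻¹ * (g⁻¹ * a * g * a⁻¹) ∈ N := by
  rw [← QuotientGroup.eq_one_iff] at ha ⊢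
  simp only [QuotientGroup.mk_mul, QuotientGroup.mk_inv] at ha ⊢
  have h1 : (a : G ⧸ N)⁻¹ = a := (eq_inv_of_mul_eq_one_left ha).symm
  have h2 : ∀ z : G ⧸ N, (a : G ⧸ N) * (a * z) = z := fun z => by rw [← mul_assoc, ha, one_mul]
  simp only [h1, mul_assoc, h2, mul_inv_cancel_left, inv_mul_cancel_left]
  simp [ha]

/-- Without a section `S₄`: an element of odd order inverted by an involution and not centralizing
the elementary abelian `2`-group `W` forces `|W : C_W(a)| ≥ 4`. -/
theorem four_mul_le_of_inverted (hfree : ¬ Cfsg.Involves (Equiv.Perm (Fin 4)) G) {W : Subgroup G}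
    (hWc : ∀ x ∈ W, ∀ y ∈ W, x * y = y * x) (hW2 : ∀ x ∈ W, x * x = 1) {a y : G}
    (haW : a ∈ normalizer (W : Set G)) (hyW : y ∈ normalizer (W : Set G))
    (ha2 : a * a ∈ centralizer (W : Set G)) (hinv : a * y * a⁻¹ * y ∈ centralizer (W : Set G))
    (hy : Odd (orderOf y)) (hyC : y ∉ centralizer (W : Set G)) :
    4 * Nat.card ↥(W ⊓ centralizer ({a} : Set G)) ≤ Nat.card W := by
  classical
  by_contra hlt
  set I := W ⊓ centralizer ({a} : Set G) with hI
  obtain ⟨n, hn⟩ := hy
  set s := y ^ (n + 1) with hs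
  have hs2 : s * s = y := by
    rw [hs, ← pow_add, show n + 1 + (n + 1) = 2 * n + 1 + 1 by omega, pow_succ, ← hn,
      pow_orderOf_eq_one, one_mul]
  have hsW : s ∈ normalizer (W : Set G) := pow_mem hyW _
  set N₀ := normalizer (W : Set G)
  set I' := I.map (MulAut.conj s⁻¹).toMonoidHom with hI'
  have hI'W : I' ≤ W := by
    rintro _ ⟨w, hw, rfl⟩
    exact (mem_normalizer_iff.1 (inv_mem hsW) w).1 hw.1
  set I₂ := I ⊓ I' with hI₂
  have hW2' : IsPGroup 2 W := IsPGroup.iff_card.2 <| by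
    haveI : Fact (Nat.Prime 2) := ⟨Nat.prime_two⟩
    exact IsPGroup.iff_card.1 (fun x => ⟨1, Subtype.ext (by
      show ((x : G)) ^ (2 ^ 1) = 1
      rw [pow_one, pow_two]; exact hW2 x x.2)⟩)
  haveI : Fact (Nat.Prime 2) := ⟨Nat.prime_two⟩
  have hWI : Nat.card W ≤ 2 * Nat.card I := by
    obtain ⟨i, hi⟩ := IsPGroup.iff_card.1 (hW2'.to_le (inf_le_left : I ≤ W))
    obtain ⟨w, hw⟩ := IsPGroup.iff_card.1 hW2'
    rw [hi, hw] at hlt ⊢
    have h1 : 2 ^ w < 2 ^ (i + 2) := by rw [pow_add]; omega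
    have h2 := (Nat.pow_lt_pow_iff_right (by norm_num)).1 h1
    calc 2 ^ w ≤ 2 ^ (i + 1) := Nat.pow_le_pow_right (by norm_num) (by omega)
      _ = 2 * 2 ^ i := by rw [pow_succ]; ring
  have hI₂card : Nat.card W ≤ 4 * Nat.card I₂ := by
    have h1 : Nat.card I * Nat.card I ≤ Nat.card W * Nat.card I₂ := by
      calc Nat.card I * Nat.card I = Nat.card I * Nat.card I' := by
            rw [hI', card_map_of_injective (MulAut.conj s⁻¹).injective]
        _ ≤ _ := (card_mul_le_card_sup_mul_inf I I').trans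
            (Nat.mul_le_mul_right _ (card_le_of_le (sup_le inf_le_left hI'W)))
    refine Nat.le_of_mul_le_mul_left ?_ (Nat.card_pos (α := W))
    calc Nat.card W * Nat.card W ≤ (2 * Nat.card I) * (2 * Nat.card I) := Nat.mul_le_mul hWI hWI
      _ = 4 * (Nat.card I * Nat.card I) := by ring
      _ ≤ 4 * (Nat.card W * Nat.card I₂) := Nat.mul_le_mul_left 4 h1
      _ = _ := by ring
  have hC : ∀ c ∈ centralizer (W : Set G), ∀ w ∈ W, c * w * c⁻¹ = w := fun c hc w hw => by
    rw [← hc w hw, mul_inv_cancel_right]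
  have hfix : ∀ w ∈ I₂, y * w * y⁻¹ = w := by
    rintro w ⟨⟨hwW, hwa⟩, u, ⟨huW, hua⟩, huw⟩
    replace hwa := centralizer_singleton_iff.1 hwa
    replace hua := centralizer_singleton_iff.1 hua
    have hu : u = s * w * s⁻¹ := by
      rw [← huw]; simp [mul_assoc]
    have hcs : a * s * a⁻¹ * s ∈ centralizer (W : Set G) := by
      have hn' : ∀ g ∈ N₀, ∀ c ∈ centralizer (W : Set G), g * c * g⁻¹ ∈ centralizer (W : Set G) := by
        intro g hg c hc z hz
        have h1 := hc (g⁻¹ * z * g) ((mem_normalizer_iff''.1 hg z).1 hz)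
        calc z * (g * c * g⁻¹) = g * ((g⁻¹ * z * g) * c) * g⁻¹ := by group
          _ = g * (c * (g⁻¹ * z * g)) * g⁻¹ := by rw [h1]
          _ = g * c * g⁻¹ * z := by group
      have key : ∀ k : ℕ, a * y ^ k * a⁻¹ * y ^ k ∈ centralizer (W : Set G) := by
        intro k
        induction k with
        | zero => simp
        | succ k ih =>
          have : a * y ^ (k + 1) * a⁻¹ * y ^ (k + 1) =
              (a * y ^ k * a⁻¹ * y ^ k) * ((y ^ k)⁻¹ * (a * y * a⁻¹ * y) * y ^ k) := by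
            rw [pow_succ]
            group
          rw [this]
          refine mul_mem ih ?_
          have := hn' _ (inv_mem (pow_mem hyW k)) _ hinv
          rwa [inv_inv] at this
      exact key (n + 1)
    have e1 : a * u * a⁻¹ = s⁻¹ * w * s := by
      have h1 := hC _ hcs _ (show s⁻¹ * w * s ∈ W from (mem_normalizer_iff''.1 hsW w).1 hwW)
      calc a * u * a⁻¹ = (a * s * a⁻¹ * s) * (s⁻¹ * (a * w * a⁻¹) * s) * (a * s * a⁻¹ * s)⁻¹ := by
            rw [hu]; group
        _ = (a * s * a⁻¹ * s) * (s⁻¹ * w * s) * (a * s * a⁻¹ * s)⁻¹ := by rw [hwa]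
        _ = s⁻¹ * w * s := h1
    rw [hua, hu] at e1
    calc y * w * y⁻¹ = s * (s * w * s⁻¹) * s⁻¹ := by rw [← hs2]; group
      _ = s * (s⁻¹ * w * s) * s⁻¹ := by rw [e1]
      _ = w := by group
  -- `y ^ 3` centralizes `W`
  have hcube : y ^ 3 ∈ centralizer (W : Set G) := by
    intro w hw
    suffices h : y ^ 3 * w * (y ^ 3)⁻¹ = w by
      conv_lhs => rw [← h]
      group
    by_cases hwI : w ∈ I₂
    · calc y ^ 3 * w * (y ^ 3)⁻¹ = y * (y * (y * w * y⁻¹) * y⁻¹) * y⁻¹ := by
            rw [pow_succ, pow_succ, pow_one]; group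
        _ = w := by rw [hfix w hwI, hfix w hwI, hfix w hwI]
    have hpow : ∀ k : ℕ, ∀ x ∈ I₂, y ^ k * x * (y ^ k)⁻¹ = x := by
      intro k x hx
      induction k with
      | zero => simp
      | succ k ih =>
        calc y ^ (k + 1) * x * (y ^ (k + 1))⁻¹ = y ^ k * (y * x * y⁻¹) * (y ^ k)⁻¹ := by
              rw [pow_succ]; group
          _ = x := by rw [hfix x hx, ih]
    have hyk : ∀ k : ℕ, y ^ k * w * (y ^ k)⁻¹ ∈ W := fun k =>
      (mem_normalizer_iff.1 (pow_mem hyW k) w).1 hw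
    let J := I₂.subgroupOf W
    haveI : J.Normal := ⟨fun x hx g => by
      have hgx : g * x = x * g := Subtype.ext (hWc g g.2 x x.2)
      rw [hgx, mul_inv_cancel_right]; exact hx⟩
    let f : Fin 4 → {q : W ⧸ J // q ≠ 1} := fun k =>
      ⟨QuotientGroup.mk' J ⟨_, hyk k⟩, fun e => by
        rw [QuotientGroup.mk'_apply, QuotientGroup.eq_one_iff, mem_subgroupOf] at e
        have h1 := hpow (k : ℕ) _ e
        have h2 : y ^ (k : ℕ) * w * (y ^ (k : ℕ))⁻¹ = w := by
          have h3 := congrArg (fun z => (y ^ (k : ℕ))⁻¹ * z * y ^ (k : ℕ)) h1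
          simpa [mul_assoc] using h3
        exact hwI (h2 ▸ e)⟩
    haveI := Fintype.ofFinite (W ⧸ J)
    obtain ⟨i, j, hij, hf⟩ : ∃ i j, i < j ∧ f i = f j := by
      have hcard : Fintype.card {q : W ⧸ J // q ≠ 1} < Fintype.card (Fin 4) := by
        rw [Fintype.card_subtype_compl, Fintype.card_subtype_eq, Fintype.card_fin,
          ← Nat.card_eq_fintype_card]
        have h1 := card_eq_card_quotient_mul_card_subgroup J
        rw [Nat.card_congr (subgroupOfEquivOfLe (inf_le_left.trans inf_le_left : I₂ ≤ W)).toEquiv] at h1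
        have h2 : Nat.card (W ⧸ J) * Nat.card I₂ ≤ 4 * Nat.card I₂ := h1 ▸ hI₂card
        have h3 := Nat.le_of_mul_le_mul_right h2 Nat.card_pos
        omega
      obtain ⟨i, j, hne, he⟩ := Fintype.exists_ne_map_eq_of_card_lt f hcard
      rcases lt_or_gt_of_ne hne with h | h
      exacts [⟨i, j, h, he⟩, ⟨j, i, h, he.symm⟩]
    obtain ⟨d, hd⟩ : ∃ d : ℕ, (j : ℕ) = i + d := ⟨j - i, by omega⟩
    have hd3 : 1 ≤ d ∧ d ≤ 3 := by have := Fin.lt_def.1 hij; have := j.isLt; omega
    have hfe := Subtype.ext_iff.1 hf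
    simp only [f, QuotientGroup.mk'_apply] at hfe
    rw [QuotientGroup.eq, mem_subgroupOf] at hfe
    set c := (y ^ (i : ℕ) * w * (y ^ (i : ℕ))⁻¹)⁻¹ * (y ^ (j : ℕ) * w * (y ^ (j : ℕ))⁻¹) with hc
    have hcI : c ∈ I₂ := hfe
    have hzc : y ^ d * w * (y ^ d)⁻¹ = w * c := by
      have h1 := hpow (i : ℕ) c hcI
      have h2 : c = (y ^ (i : ℕ))⁻¹ * c * y ^ (i : ℕ) := by
        conv_rhs => rw [← h1]
        group
      calc y ^ d * w * (y ^ d)⁻¹
          = (y ^ (i : ℕ))⁻¹ * (y ^ (j : ℕ) * w * (y ^ (j : ℕ))⁻¹) * y ^ (i : ℕ) := by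
            rw [hd, pow_add]; group
        _ = w * ((y ^ (i : ℕ))⁻¹ * c * y ^ (i : ℕ)) := by rw [hc]; group
        _ = w * c := by rw [← h2]
    have hiter : ∀ k : ℕ, (y ^ d) ^ k * w * ((y ^ d) ^ k)⁻¹ = w * c ^ k := by
      intro k
      induction k with
      | zero => simp
      | succ k ih =>
        have h1 := hpow d _ (pow_mem hcI k)
        calc (y ^ d) ^ (k + 1) * w * ((y ^ d) ^ (k + 1))⁻¹
            = y ^ d * ((y ^ d) ^ k * w * ((y ^ d) ^ k)⁻¹) * (y ^ d)⁻¹ := by
              rw [pow_succ']; group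
          _ = y ^ d * (w * c ^ k) * (y ^ d)⁻¹ := by rw [ih]
          _ = (y ^ d * w * (y ^ d)⁻¹) * (y ^ d * c ^ k * (y ^ d)⁻¹) := by group
          _ = w * c ^ (k + 1) := by rw [hzc, h1, pow_succ' c k, mul_assoc]
    have h1 := hiter (orderOf y)
    rw [← pow_mul, mul_comm d, pow_mul, pow_orderOf_eq_one, one_pow, one_mul, inv_one, mul_one,
      hn, pow_succ, pow_mul, pow_two, hW2 c hcI.1.1, one_pow, one_mul] at h1
    have hcz : y ^ d * w * (y ^ d)⁻¹ = w := by rw [hzc]; exact h1.symm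
    have hk : ∀ k : ℕ, (y ^ d) ^ k * w * ((y ^ d) ^ k)⁻¹ = w := fun k => by
      rw [hiter k]
      have : c = 1 := mul_eq_left.1 h1.symm
      rw [this, one_pow, mul_one]
    obtain ⟨h1d, h3d⟩ := hd3
    interval_cases d
    · have := hk 3; rwa [pow_one] at this
    · have hyy : y = (y ^ 2) ^ (n + 1) := by
        rw [← pow_mul, show 2 * (n + 1) = 2 * n + 1 + 1 by omega, pow_succ, ← hn,
          pow_orderOf_eq_one, one_mul]
      have := hk ((n + 1) * 3)
      rwa [pow_mul, ← hyy] at this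
    · exact hcz
  exact hfree (CfsgLib.Complement.involves_symFour hWc hW2 haW hyW hcube hyC ha2 hinv)

end CfsgLib.ClassK.Nice
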