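import Cfsg.Agent.Lib.ClassK.NiceBasic
import Cfsg.Agent.Lib.BlockB.PSolvableCentralizer
import Cfsg.Agent.Lib.Coprime.Generation
import Cfsg.Agent.Lib.PLength.DerivedBound
import Cfsg.Agent.Lib.Solvable.PCore

/-!
# Reduced solvable groups without a section `S₄`

If a solvable group without a section `S₄` acts on the normal elementary abelian `2`-subgroup `V` with
no nontrivial normal `2`-subgroup in the image, every elementary abelian image is far from
offending on `V`.
-/

set_option autoImplicit false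
set_option linter.unusedSectionVars false
set_option linter.style.haveILetI false

namespace CfsgLib.ClassK.Nice

open Cfsg Subgroup CfsgLib.PLocal

universe u

variable {G : Type u} [Group G] [Finite G]

theorem nice_of_reduced (hfree : ¬ Cfsg.Involves (Equiv.Perm (Fin 4)) G) (hsolv : Group.IsSolvable G)
    {V : Subgroup G} [V.Normal] (hV : IsElementaryAbelian 2 V)
    (hred : pCore 2 (G ⧸ centralizer (V : Set G)) = ⊥) :
    ∀ A : Subgroup G, ElemOn V A → Nice V A := by
  haveI : Fact (Nat.Prime 2) := ⟨Nat.prime_two⟩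
  set C := centralizer (V : Set G) with hCdef
  set q := QuotientGroup.mk' C with hq
  set R := pPrimeCore 2 (G ⧸ C) with hR
  haveI : R.Normal := CfsgLib.Solvable.pPrimeCore_normal 2 _
  have hRC : centralizer (R : Set (G ⧸ C)) ≤ R :=
    CfsgLib.BlockB.centralizer_pPrimeCore_le_of_isPSolvable
      (CfsgLib.PLength.isPSolvable_of_isSolvable (p := 2) (Nat.card (G ⧸ C)) (G ⧸ C) le_rfl
        (by haveI := hsolv; exact Group.isSolvable_of_surjective (QuotientGroup.mk'_surjective C))).choose_spec.isPSolvable hred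
  suffices key : ∀ n : ℕ, ∀ A : Subgroup G, Nat.card (A.map q) ≤ n → ElemOn V A → Nice V A from
    fun A hA => key _ A le_rfl hA
  intro n
  induction n with
  | zero => intro A hA; exact absurd hA (by have := Nat.card_pos (α := A.map q); omega)
  | succ n ih =>
    intro A hAn hA
    by_cases hAC : A ≤ C
    · unfold Nice
      rw [inf_eq_left.2 hAC, inf_eq_left.2 (le_centralizer_iff.1 hAC), mul_comm]
    set Ab := A.map q with hAb
    have hcomm : IsMulCommutative Ab := ⟨⟨by
      rintro ⟨_, a, ha, rfl⟩ ⟨_, b, hb, rfl⟩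
      refine Subtype.ext ?_
      show q a * q b = q b * q a
      have h1 : q (a * b * a⁻¹ * b⁻¹) = 1 := (QuotientGroup.eq_one_iff _).2 (hA.2 a ha b hb)
      simp only [map_mul, map_inv] at h1
      rw [mul_inv_eq_one, mul_inv_eq_iff_eq_mul] at h1
      exact h1⟩⟩
    have hsq : ∀ z ∈ Ab, z * z = 1 := by
      rintro _ ⟨a, ha, rfl⟩
      rw [← map_mul]; exact (QuotientGroup.eq_one_iff _).2 (hA.1 a ha)
    have hA2 : IsPGroup 2 Ab := fun z => ⟨1, Subtype.ext (by
      show (z : G ⧸ C) ^ (2 ^ 1) = 1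
      rw [pow_one, pow_two]; exact hsq z z.2)⟩
    have hcop : (Nat.card Ab).Coprime (Nat.card R) := by
      obtain ⟨k, hk⟩ := IsPGroup.iff_card.1 hA2
      rw [hk]
      exact (CfsgLib.Solvable.pPrimeCore_coprime 2).symm.pow_left k
    have hnotc : ¬ Ab ≤ centralizer (R : Set (G ⧸ C)) := fun hle => by
      refine hAC fun a ha => ?_
      have h1 : q a ∈ R := hRC (hle ⟨a, ha, rfl⟩)
      have h2 : q a = 1 := by
        have := (Subgroup.disjoint_of_coprime_natCard (H := Ab) (K := R) hcop).eq_bot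
        exact mem_bot.1 (this ▸ ⟨⟨a, ha, rfl⟩, h1⟩)
      exact (QuotientGroup.eq_one_iff a).1 h2
    obtain ⟨Bb, hBA, ⟨_, ⟨a, haA, rfl⟩, hBa⟩, hBc⟩ : ∃ Bb : Subgroup (G ⧸ C), Bb ≤ Ab ∧
        (∃ z ∈ Ab, Bb ⊔ zpowers z = Ab) ∧
        ¬ R ⊓ centralizer (Bb : Set (G ⧸ C)) ≤ centralizer (Ab : Set (G ⧸ C)) := by
      by_contra hcon
      push Not at hcon
      refine hnotc (le_centralizer_iff.1 ?_)
      rw [← CfsgLib.Coprime.cocyclicJoin_eq hcomm
        (le_trans le_top (by rw [normalizer_eq_top])) hcop]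
      exact iSup₂_le fun B hB => hcon B hB.1 hB.2
    obtain ⟨_, ⟨hgR, hgB⟩, hgA⟩ := SetLike.not_le_iff_exists.1 hBc
    obtain ⟨g, rfl⟩ := QuotientGroup.mk'_surjective C ‹_›
    have hga : q g * q a ≠ q a * q g := fun h => hgA fun z hz => by
      have hle : Ab ≤ centralizer ({q g} : Set (G ⧸ C)) := by
        rw [← hBa]
        refine sup_le (fun b hb => ?_) (zpowers_le.2 ?_)
        · rintro _ rfl; exact (hgB b hb).symm
        · rintro _ rfl; exact h
      exact ((hle hz) _ rfl).symm
    set B := A ⊓ Bb.comap q with hB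
    have hBmap : B.map q = Bb := by
      refine le_antisymm (map_le_iff_le_comap.2 inf_le_right) fun z hz => ?_
      obtain ⟨b, hb, rfl⟩ := hBA hz
      exact ⟨b, ⟨hb, hz⟩, rfl⟩
    have hBb_lt : Bb < Ab := lt_of_le_of_ne hBA fun e => hga (hgB (q a) (e ▸ ⟨a, haA, rfl⟩)).symm
    have hBn : Nat.card (B.map q) ≤ n := by
      rw [hBmap]
      have h1 : Nat.card Bb < Nat.card Ab := lt_of_le_of_ne (card_le_of_le hBA)
        fun e => hBb_lt.ne (eq_of_le_of_card_ge hBA e.ge)
      omega
    have hNB := ih B hBn (hA.mono inf_le_left)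
    -- the inverted element
    have ha2 : a * a ∈ C := hA.1 a haA
    set d := g⁻¹ * a * g * a⁻¹ with hd
    have hdR : q d ∈ R := by
      have : q d = (q g)⁻¹ * (q a * q g * (q a)⁻¹) := by simp [hd, mul_assoc]
      rw [this]
      exact mul_mem (inv_mem hgR) (Normal.conj_mem inferInstance _ hgR _)
    have hdodd : Odd (orderOf (q d)) := by
      have h1 : orderOf (q d) ∣ Nat.card R := by
        simpa using orderOf_dvd_natCard (⟨q d, hdR⟩ : R)
      exact Nat.coprime_two_right.1 ((CfsgLib.Solvable.pPrimeCore_coprime 2).coprime_dvd_left h1)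
    obtain ⟨y, hyd, hyodd, hdy⟩ := exists_odd_part C hdodd
    have hinv : a * y * a⁻¹ * y ∈ C := inverts_zpowers C (inverts_commutator C ha2) hyd
    have hyC : y ∉ C := fun h => by
      have hdC : d ∈ C := (sup_le (zpowers_le.2 h) le_rfl) hdy
      have h2 : q d = 1 := (QuotientGroup.eq_one_iff d).2 hdC
      simp only [hd, map_mul, map_inv] at h2
      rw [mul_inv_eq_one, mul_assoc, inv_mul_eq_iff_eq_mul] at h2
      exact hga h2.symm
    have hyB : ∀ b ∈ B, y * b * y⁻¹ * b⁻¹ ∈ C := by
      intro b hb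
      have hdb : d ∈ (centralizer ({q b} : Set (G ⧸ C))).comap q := by
        show q d ∈ centralizer ({q b} : Set (G ⧸ C))
        have hgb : q g ∈ centralizer ({q b} : Set (G ⧸ C)) := by
          rintro _ rfl; exact hgB _ hb.2
        have hab : q a ∈ centralizer ({q b} : Set (G ⧸ C)) := by
          rintro _ rfl
          exact congrArg Subtype.val (hcomm.is_comm.comm ⟨q b, ⟨b, hb.1, rfl⟩⟩ ⟨q a, ⟨a, haA, rfl⟩⟩)
        simp only [hd, map_mul, map_inv]
        exact mul_mem (mul_mem (mul_mem (inv_mem hgb) hab) hgb) (inv_mem hab)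
      have h1 : q b * q y = q y * q b := (zpowers_le.2 hdb hyd) _ rfl
      refine (QuotientGroup.eq_one_iff _).1 ?_
      show q (y * b * y⁻¹ * b⁻¹) = 1
      rw [map_mul, map_mul, map_mul, map_inv, map_inv, ← h1]
      group
    set W := V ⊓ centralizer (B : Set G) with hW
    have hCfix : ∀ c ∈ C, ∀ v ∈ V, c * v * c⁻¹ = v := fun c hc v hv => by
      rw [← hc v hv, mul_inv_cancel_right]
    have hmemW : ∀ w, w ∈ W ↔ w ∈ V ∧ ∀ b ∈ B, b * w * b⁻¹ = w := fun w => by
      refine ⟨fun h => ⟨h.1, fun b hb => ?_⟩, fun h => ⟨h.1, fun b hb => ?_⟩⟩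
      · rw [h.2 b hb, mul_inv_cancel_right]
      · conv_rhs => rw [← h.2 b hb]
        group
    have hnorm : ∀ t : G, (∀ b ∈ B, t⁻¹ * b * t * b⁻¹ ∈ C) → t ∈ normalizer (W : Set G) := by
      intro t ht
      refine mem_normalizer_iff_map_conj_eq.2 (eq_of_le_of_card_ge ?_
        (card_map_of_injective (MulAut.conj t).injective).ge)
      rintro _ ⟨w, hw, rfl⟩
      obtain ⟨hwV, hwB⟩ := (hmemW w).1 hw
      refine (hmemW _).2 ⟨Normal.conj_mem inferInstance w hwV t, fun b hb => ?_⟩
      show b * (t * w * t⁻¹) * b⁻¹ = t * w * t⁻¹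
      calc b * (t * w * t⁻¹) * b⁻¹
          = t * ((t⁻¹ * b * t * b⁻¹) * (b * w * b⁻¹) * (t⁻¹ * b * t * b⁻¹)⁻¹) * t⁻¹ := by group
        _ = t * w * t⁻¹ := by rw [hwB b hb, hCfix _ (ht b hb) w hwV]
    have hyW : y ∈ normalizer (W : Set G) := hnorm y fun b hb => by
      have h1 := hyB b hb
      rw [← QuotientGroup.eq_one_iff] at h1 ⊢
      simp only [QuotientGroup.mk_mul, QuotientGroup.mk_inv] at h1 ⊢
      rw [mul_inv_eq_one, mul_inv_eq_iff_eq_mul] at h1
      rw [mul_assoc _ (b : G ⧸ C), ← h1]; group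
    have haW : a ∈ normalizer (W : Set G) := hnorm a fun b hb => by
      have h1 := hA.2 a⁻¹ (inv_mem haA) b hb.1
      rwa [inv_inv] at h1
    have hyWC : y ∉ centralizer (W : Set G) := by
      intro hyWc
      obtain ⟨m, hm⟩ := hyodd
      -- `B` has a nontrivial fixed point on the elements of trivial `y`-norm
      obtain ⟨v, hvV, hvy⟩ : ∃ v ∈ V, y * v * y⁻¹ ≠ v := by
        by_contra hcon
        push Not at hcon
        exact hyC fun v hv => by
          conv_lhs => rw [← hcon v hv]
          group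
      have hVc : ∀ x ∈ V, ∀ z ∈ V, x * z = z * x := fun x hx z hz => elemAb_comm hV hx hz
      letI : CommGroup V := { (inferInstance : Group V) with
        mul_comm := fun x z => Subtype.ext (hVc x x.2 z z.2) }
      let φ : MulAut V := MulAut.conjNormal y
      let nm : V →* V :=
        { toFun := fun x => ∏ i ∈ Finset.range (orderOf y), (φ ^ i) x
          map_one' := by simp
          map_mul' := fun x z => by rw [← Finset.prod_mul_distrib]; simp }
      have hφ : ∀ (i : ℕ) (x : V), (((φ ^ i) x : V) : G) = y ^ i * x * (y ^ i)⁻¹ := fun i x => by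
        rw [show φ ^ i = MulAut.conjNormal (y ^ i) from (map_pow MulAut.conjNormal y i).symm]
        exact MulAut.conjNormal_apply _ _
      set V₁ := nm.ker.map V.subtype with hV₁
      have hV₁V : V₁ ≤ V := map_subtype_le _
      have hinvB : ∀ b ∈ B, b ∈ normalizer (V₁ : Set G) := by
        intro b hb
        refine mem_normalizer_iff_map_conj_eq.2 (eq_of_le_of_card_ge ?_
          (card_map_of_injective (MulAut.conj b).injective).ge)
        rintro _ ⟨_, ⟨x, hx, rfl⟩, rfl⟩
        refine ⟨MulAut.conjNormal b x, ?_, MulAut.conjNormal_apply _ _⟩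
        have hcm : ∀ i : ℕ, (φ ^ i) (MulAut.conjNormal b x) = MulAut.conjNormal b ((φ ^ i) x) := by
          intro i
          refine Subtype.ext ?_
          rw [hφ, MulAut.conjNormal_apply, MulAut.conjNormal_apply, hφ]
          have hc : (y ^ i * b) * ((b * y ^ i)⁻¹) ∈ C := by
            have h1 := hyB b hb
            rw [← QuotientGroup.eq_one_iff] at h1 ⊢
            simp only [QuotientGroup.mk_mul, QuotientGroup.mk_inv, QuotientGroup.mk_pow] at h1 ⊢
            rw [mul_inv_eq_one, mul_inv_eq_iff_eq_mul] at h1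
            rw [(show Commute (y : G ⧸ C) b from h1).pow_left i |>.eq, mul_inv_cancel]
          calc y ^ i * (b * (x : G) * b⁻¹) * (y ^ i)⁻¹
              = (y ^ i * b * (b * y ^ i)⁻¹) * (b * (y ^ i * x * (y ^ i)⁻¹) * b⁻¹) *
                  (y ^ i * b * (b * y ^ i)⁻¹)⁻¹ := by group
            _ = _ := hCfix _ hc _ (Normal.conj_mem inferInstance _
                  (Normal.conj_mem inferInstance _ x.2 _) _)
        show nm _ = 1
        have hx' : nm x = 1 := hx
        simp only [nm, MonoidHom.coe_mk, OneHom.coe_mk] at hx' ⊢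
        rw [Finset.prod_congr rfl fun i _ => hcm i, ← map_prod, hx', map_one]
      have hw0 : φ ⟨v, hvV⟩ * (⟨v, hvV⟩ : V)⁻¹ ∈ nm.ker := by
        rw [MonoidHom.mem_ker]
        rw [map_mul, map_inv, mul_inv_eq_one]
        simp only [nm, MonoidHom.coe_mk, OneHom.coe_mk]
        have h2 : ∀ i : ℕ, (φ ^ i) (φ ⟨v, hvV⟩) = (φ ^ (i + 1)) ⟨v, hvV⟩ := fun i => rfl
        simp only [h2]
        have h3 := Finset.prod_range_succ' (fun i => (φ ^ i) (⟨v, hvV⟩ : V)) (orderOf y)
        have h4 := Finset.prod_range_succ (fun i => (φ ^ i) (⟨v, hvV⟩ : V)) (orderOf y)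
        rw [h4] at h3
        have h5 : φ ^ orderOf y = 1 := by rw [← map_pow, pow_orderOf_eq_one, map_one]
        simp only [pow_zero, h5] at h3
        exact (mul_right_cancel h3).symm
      have hV₁ne : V₁ ≠ ⊥ := fun e => hvy <| by
        have h1 : ((φ ⟨v, hvV⟩ * (⟨v, hvV⟩ : V)⁻¹ : V) : G) ∈ V₁ := ⟨_, hw0, rfl⟩
        rw [e, mem_bot] at h1
        rw [Subgroup.coe_mul, Subgroup.coe_inv, MulAut.conjNormal_apply, mul_inv_eq_one] at h1
        exact h1
      -- fixed point of `B`
      let act : B →* MulAut V₁ := (Subgroup.normalizerMonoidHom V₁).comp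
        (Subgroup.inclusion (fun b hb => hinvB b hb))
      haveI : (C.subgroupOf B).Normal := inferInstance
      have hker : C.subgroupOf B ≤ act.ker := fun b hb => by
        refine MulEquiv.ext fun z => Subtype.ext ?_
        exact hCfix _ hb _ (hV₁V z.2)
      let actq : B ⧸ C.subgroupOf B →* MulAut V₁ := QuotientGroup.lift _ act hker
      letI : MulAction (B ⧸ C.subgroupOf B) V₁ := MulAction.compHom V₁ actq
      have hBq : IsPGroup 2 (B ⧸ C.subgroupOf B) := fun z => ⟨1, by
        obtain ⟨b, rfl⟩ := QuotientGroup.mk_surjective z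
        rw [pow_one, pow_two, ← QuotientGroup.mk_mul, QuotientGroup.eq_one_iff]
        exact hA.1 b b.2.1⟩
      have hdvd : 2 ∣ Nat.card V₁ := by
        obtain ⟨k, hk⟩ := IsPGroup.iff_card.1 ((elemAb_isPGroup hV).to_le hV₁V)
        exact hk ▸ dvd_pow_self 2 fun e => hV₁ne (card_eq_one.1 (by rw [hk, e, pow_zero]))
      obtain ⟨z, hz, hz1⟩ := hBq.exists_fixed_point_of_prime_dvd_card_of_fixed_point V₁ hdvd
        (a := 1) fun b => map_one (actq b)
      have hzW : (z : G) ∈ W := (hmemW _).2 ⟨hV₁V z.2, fun b hb => by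
        have h1 : actq (QuotientGroup.mk ⟨b, hb⟩) z = z := hz _
        exact congrArg Subtype.val h1⟩
      obtain ⟨x, hx, hxz⟩ := z.2
      refine hz1 (Subtype.ext ?_).symm
      have hfix : φ x = x := Subtype.ext (by
        rw [MulAut.conjNormal_apply]
        have := hyWc _ hzW
        rw [← show ((x : G)) = z from hxz] at this
        rw [← this, mul_inv_cancel_right])
      have hfi : ∀ i : ℕ, (φ ^ i) x = x := fun i => by
        induction i with
        | zero => simp
        | succ i ih => rw [pow_succ, MulAut.mul_apply, hfix, ih]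
      have hx' : nm x = 1 := hx
      simp only [nm, MonoidHom.coe_mk, OneHom.coe_mk, hfi, Finset.prod_const, Finset.card_range]
        at hx'
      have hx2 : x * x = 1 := Subtype.ext (by rw [← pow_two]; exact hV.2 _ x.2)
      rw [hm, pow_succ, pow_mul, pow_two, hx2, one_pow, one_mul] at hx'
      rw [← hxz, hx']; rfl
    have hWc : ∀ x ∈ W, ∀ z ∈ W, x * z = z * x := fun x hx z hz => elemAb_comm hV hx.1 hz.1
    have hW2 : ∀ x ∈ W, x * x = 1 := fun x hx => by rw [← pow_two]; exact hV.2 x hx.1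
    have hCW : C ≤ centralizer (W : Set G) := centralizer_le inf_le_left
    have h4 := four_mul_le_of_inverted hfree hWc hW2 haW hyW (hCW ha2) (hCW hinv) hyodd hyWC
    have hAfix : V ⊓ centralizer (A : Set G) ≤ W ⊓ centralizer ({a} : Set G) := fun w hw =>
      ⟨⟨hw.1, centralizer_le (inf_le_left : B ≤ A) hw.2⟩, fun z hz => hz ▸ hw.2 a haA⟩
    have hcardA : ∀ E : Subgroup G, E ≤ A →
        Nat.card E = Nat.card (E.map q) * Nat.card ↥(E ⊓ C) := fun E _ => by
      have h1 := card_eq_card_quotient_mul_card_subgroup (q.comp E.subtype).ker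
      rw [Nat.card_congr (QuotientGroup.quotientKerEquivRange _).toEquiv,
        MonoidHom.range_comp, range_subtype] at h1
      rw [h1]
      congr 1
      rw [← card_map_of_injective E.subtype_injective]
      congr 2
      ext z
      constructor
      · rintro ⟨w, hw, rfl⟩
        exact ⟨w.2, (QuotientGroup.eq_one_iff _).1 hw⟩
      · rintro ⟨hzE, hzC⟩
        exact ⟨⟨z, hzE⟩, (QuotientGroup.eq_one_iff _).2 hzC, rfl⟩
    have hAb2 : Nat.card Ab ≤ 2 * Nat.card Bb := by
      conv_lhs => rw [← hBa]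
      exact card_sup_zpowers_le (fun b hb => congrArg Subtype.val
        (hcomm.is_comm.comm ⟨b, hBA hb⟩ ⟨q a, ⟨a, haA, rfl⟩⟩)) (hsq _ ⟨a, haA, rfl⟩)
    unfold Nice at hNB ⊢
    rw [← hCdef] at hNB ⊢
    rw [hcardA A le_rfl]
    rw [hcardA B inf_le_left, hBmap] at hNB
    set kB := Nat.card ↥(B ⊓ C)
    set kA := Nat.card ↥(A ⊓ C)
    have hkB : 0 < kB := Nat.card_pos
    have h5 : Nat.card Bb ^ 2 * Nat.card W ≤ Nat.card V := by
      refine Nat.le_of_mul_le_mul_left ?_ (pow_pos hkB 2)
      calc kB ^ 2 * (Nat.card Bb ^ 2 * Nat.card W) = (Nat.card Bb * kB) ^ 2 * Nat.card W := by ring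
        _ ≤ Nat.card V * kB ^ 2 := hNB
        _ = _ := by ring
    calc (Nat.card Ab * kA) ^ 2 * Nat.card ↥(V ⊓ centralizer (A : Set G))
        ≤ (2 * Nat.card Bb * kA) ^ 2 * Nat.card ↥(W ⊓ centralizer ({a} : Set G)) :=
          Nat.mul_le_mul (Nat.pow_le_pow_left (Nat.mul_le_mul hAb2 le_rfl) 2) (card_le_of_le hAfix)
      _ = kA ^ 2 * (Nat.card Bb ^ 2 * (4 * Nat.card ↥(W ⊓ centralizer ({a} : Set G)))) := by ring
      _ ≤ kA ^ 2 * (Nat.card Bb ^ 2 * Nat.card W) :=
          Nat.mul_le_mul_left _ (Nat.mul_le_mul_left _ h4)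
      _ ≤ kA ^ 2 * Nat.card V := Nat.mul_le_mul_left _ h5
      _ = _ := by ring

end CfsgLib.ClassK.Nice
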