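import Cfsg.Agent.Lib.ClassK.ZNZero
import Cfsg.Agent.Lib.PLocal.Sylow

/-!
Maximal straddling `2`-subgroups: the `2`-local overgroups and a component outside `M`.
-/

set_option autoImplicit false
set_option linter.unusedSectionVars false

namespace CfsgLib.ClassK.ZN

open Cfsg Subgroup CfsgLib.PLocal
open scoped commutatorElement

universe u

/-- The standing hypotheses: a group of characteristic `2` type with solvable `2`-locals and
`C(Ω₁(Z(S))) ≤ N(S)`, and a `2`-local `M ⊇ N(J(S))`. -/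
structure Setup (G : Type u) [Group G] (S : Sylow 2 G) (M : Subgroup G) : Prop where
  char2 : IsCharacteristicTwoType G
  sol : ∀ N : Subgroup G, IsTwoLocal N → Group.IsSolvable ↥N
  cen : ∀ P : Sylow 2 G, centralizer (omegaCenterOf (P : Subgroup G) : Set G) ≤
    normalizer ((P : Subgroup G) : Set G)
  core : pCore 2 G = ⊥
  loc : IsTwoLocal M
  normJ : normalizer (thompsonSubgroupOf 2 (S : Subgroup G) : Set G) ≤ M

variable {G : Type u} [Group G] [Finite G]

theorem thompsonOf_ne_bot {T : Subgroup G} (hT : IsPGroup 2 T) (hT1 : T ≠ ⊥) :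
    thompsonSubgroupOf 2 T ≠ ⊥ := by
  haveI : Fact (Nat.Prime 2) := ⟨Nat.prime_two⟩
  haveI : Nontrivial T := (nontrivial_iff_ne_bot _).2 hT1
  obtain ⟨n, hn, hcard⟩ := hT.nontrivial_iff_card.1 inferInstance
  unfold thompsonSubgroupOf
  rw [Ne, Subgroup.map_eq_bot_iff_of_injective _ T.subtype_injective]
  exact CfsgLib.PLocal.thompson_ne_bot (hcard ▸ dvd_pow_self 2 hn.ne')

theorem lt_inf_normalizer_of_lt {R P : Subgroup G} (hP : IsPGroup 2 P) (hlt : R < P) :
    R < P ⊓ normalizer (R : Set G) := by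
  haveI : Fact (Nat.Prime 2) := ⟨Nat.prime_two⟩
  haveI := hP.isNilpotent
  have hRP : R ≤ P ⊓ normalizer (R : Set G) := le_inf hlt.le le_normalizer
  refine lt_of_le_of_ne hRP fun e => ?_
  have h := normalizerCondition_iff_only_full_group_self_normalizing.1
    Group.normalizerCondition_of_isNilpotent (R.subgroupOf P)
    (le_antisymm (fun x hx => ?_) le_normalizer)
  · exact hlt.not_ge (subgroupOf_eq_top.1 h)
  · have h1 := le_normalizer_map P.subtype ⟨x, hx, rfl⟩
    rw [map_subgroupOf_eq_of_le hlt.le] at h1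
    exact (e.ge ⟨x.2, h1⟩ : (x : G) ∈ R)

theorem eq_of_normalizer_inf_le {R P : Subgroup G} (hP : IsPGroup 2 P) (hle : R ≤ P)
    (h : P ⊓ normalizer (R : Set G) ≤ R) : R = P :=
  hle.eq_of_not_lt fun hlt => (lt_inf_normalizer_of_lt hP hlt).not_ge h

/-- A member of `straddlingTwoSubgroups M` above `J(T)` for maximal `T`. -/
theorem max_eq_props {M T U : Subgroup G} (hT : T ∈ maxStraddlingTwoSubgroups M)
    (hU : U ∈ straddlingTwoSubgroups M) (hJU : thompsonSubgroupOf 2 T ≤ U) :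
    thompsonSubgroupOf 2 U = thompsonSubgroupOf 2 T ∧ Nat.card U ≤ Nat.card T := by
  obtain ⟨h1, h2⟩ := hT.2 U hU
  have ha : maxElemAbelianOrder U = maxElemAbelianOrder T :=
    le_antisymm h1 (aOrd_le_of_thompson_le hJU)
  obtain ⟨h3, h4⟩ := h2 ha
  have hJ := thompson_eq_thompson hJU ha.le h3
  exact ⟨hJ, h4 (by rw [hJ])⟩

namespace Setup

variable {S : Sylow 2 G} {M T : Subgroup G}

theorem S_le_M (c : Setup G S M) : (S : Subgroup G) ≤ M :=
  (le_normalizer.trans (normalizer_le_normalizer_thompsonOf _)).trans c.normJ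

/-- A Sylow `2`-subgroup of `M` is one of `G`, conjugate to `S` in `M`. -/
theorem exists_sylow_le (c : Setup G S M) {R : Subgroup G} (hR : IsPGroup 2 R) (hRM : R ≤ M) :
    ∃ m ∈ M, R ≤ cj m (S : Subgroup G) ∧
      normalizer (thompsonSubgroupOf 2 (cj m (S : Subgroup G)) : Set G) ≤ M := by
  haveI : Fact (Nat.Prime 2) := ⟨Nat.prime_two⟩
  have hS : IsSylowTwoIn (S : Subgroup G) M := by
    refine ⟨c.S_le_M, S.isPGroup', ?_⟩
    rw [← Nat.not_even_iff_odd, even_iff_two_dvd]
    exact fun h2 => S.not_dvd_index (h2.trans ⟨_, (relIndex_mul_index c.S_le_M).symm⟩)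
  obtain ⟨m, hm, hle⟩ := exists_cj_of_isSylowTwoIn hS hR hRM
  refine ⟨m, hm, hle, fun x hx => ?_⟩
  rw [← cj_thompson] at hx
  have h1 : m⁻¹ * x * m ∈ normalizer (thompsonSubgroupOf 2 (S : Subgroup G) : Set G) := by
    refine mem_normalizer_of_cj ?_
    rw [← cj_cj, ← cj_cj, cj_eq_self hx, cj_inv_cj]
  have := mul_mem (mul_mem hm (c.normJ h1)) (inv_mem hm)
  simpa [mul_assoc] using this

variable (c : Setup G S M) (hT : T ∈ maxStraddlingTwoSubgroups M)
include c hT

theorem pT : IsPGroup 2 T := hT.1.1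

theorem T_ne_bot : T ≠ ⊥ := hT.1.2.1

theorem T_le_M : T ≤ M := hT.1.2.2.1

theorem pJ : IsPGroup 2 (thompsonSubgroupOf 2 T) := (c.pT hT).to_le (thompsonOf_le T)

theorem J_ne_bot : thompsonSubgroupOf 2 T ≠ ⊥ := thompsonOf_ne_bot (c.pT hT) (c.T_ne_bot hT)

theorem normalizer_J_le : normalizer (thompsonSubgroupOf 2 T : Set G) ≤ M := by
  by_contra hne
  obtain ⟨m, -, hTm, hnm⟩ := c.exists_sylow_le (c.pT hT) (c.T_le_M hT)
  set P := cj m (S : Subgroup G)
  have hPp : IsPGroup 2 P := isPGroup_cj m S.isPGroup'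
  have hPM : P ≤ M := (le_normalizer.trans (normalizer_le_normalizer_thompsonOf _)).trans hnm
  rcases eq_or_lt_of_le hTm with heq | hlt
  · exact hne (heq ▸ hnm)
  have hgt := lt_inf_normalizer_of_lt hPp hlt
  set U := P ⊓ normalizer (T : Set G)
  have hU : U ∈ straddlingTwoSubgroups M :=
    ⟨hPp.to_le inf_le_left, fun e => c.T_ne_bot hT (le_bot_iff.1 (hgt.le.trans e.le)),
      inf_le_left.trans hPM, _, ⟨_, c.pJ hT, c.J_ne_bot hT, rfl⟩,
      inf_le_right.trans (normalizer_le_normalizer_thompsonOf T), hne⟩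
  have h1 := (max_eq_props hT hU ((thompsonOf_le T).trans hgt.le)).2
  exact absurd (eq_of_le_of_card_ge hgt.le h1) hgt.ne

/-- A Sylow `2`-subgroup over `J(T)` of a `2`-local outside `M` has Thompson subgroup `J(T)`. -/
theorem sylow_of_outside {L : Subgroup G} (hL : IsTwoLocal L) (hLM : ¬ L ≤ M) {T₀ : Subgroup G}
    (hT₀ : IsSylowTwoIn T₀ L) (hJ : thompsonSubgroupOf 2 T ≤ T₀) :
    thompsonSubgroupOf 2 T₀ = thompsonSubgroupOf 2 T ∧ T₀ ∈ straddlingTwoSubgroups M ∧
      L ∈ jOvergroups T₀ ∧ Nat.card T₀ ≤ Nat.card T := by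
  have hnM := c.normalizer_J_le hT
  set U := T₀ ⊓ normalizer (thompsonSubgroupOf 2 T : Set G)
  have hJU : thompsonSubgroupOf 2 T ≤ U := le_inf hJ le_normalizer
  have hU : U ∈ straddlingTwoSubgroups M :=
    ⟨hT₀.2.1.to_le inf_le_left, fun e => c.J_ne_bot hT (le_bot_iff.1 (hJU.trans e.le)),
      inf_le_right.trans hnM, L, hL, inf_le_left.trans hT₀.1, hLM⟩
  obtain ⟨hJ', hcard⟩ := max_eq_props hT hU hJU
  have hUT : U = T₀ := eq_of_normalizer_inf_le hT₀.2.1 inf_le_left
    (le_inf inf_le_left (inf_le_right.trans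
      ((normalizer_le_normalizer_thompsonOf U).trans (by rw [hJ']))))
  rw [hUT] at hU hJ' hcard
  refine ⟨hJ', hU, ⟨hT₀, fun hle => hLM ?_, ?_⟩, hcard⟩
  · have h1 : thompsonSubgroupOf 2 (pCoreOf 2 L) = thompsonSubgroupOf 2 T := by
      rw [thompsonOf_eq_of_le hle (le_sylowTwoIn_core hT₀), hJ']
    refine le_trans ?_ hnM
    rw [← h1]
    exact (CfsgLib.Amalgam.le_normalizer_pCoreOf L).trans (normalizer_le_normalizer_thompsonOf _)
  · obtain ⟨R, hR, hR1, rfl⟩ := hL
    exact centralizer_core_le c.char2 hR hR1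

/-- `T` is Sylow in every `2`-local outside `M` containing it. -/
theorem mem_jOvergroups {L : Subgroup G} (hL : IsTwoLocal L) (hLM : ¬ L ≤ M) (hTL : T ≤ L) :
    L ∈ jOvergroups T := by
  obtain ⟨T₁, hT₁, hle⟩ := exists_isSylowTwoIn (c.pT hT) hTL
  obtain ⟨-, -, h, hcard⟩ := c.sylow_of_outside hT hL hLM hT₁ ((thompsonOf_le T).trans hle)
  rwa [eq_of_le_of_card_ge hle hcard]

theorem over_of_outside {L : Subgroup G} (hL : IsTwoLocal L) (hLM : ¬ L ≤ M) (hTL : T ≤ L) : Over T L :=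
  over_of_zn c.sol c.cen (c.mem_jOvergroups hT hL hLM hTL) (c.T_ne_bot hT)

theorem exists_component_le {L : Subgroup G} (hL : IsTwoLocal L) (hLM : ¬ L ≤ M) (hTL : T ≤ L) :
    ∃ K : Subgroup G, IsJComponent T K ∧ K ≤ L := by
  have h := c.over_of_outside hT hL hLM hTL
  obtain ⟨ι, -, ⟨i⟩, P, a, d, hf⟩ := h.exists_frame
  obtain ⟨K, hK, hKL, -⟩ := hf.exists_component h i
  exact ⟨K, hK, hKL⟩

theorem zero_of_outside {K : Subgroup G} (hK : IsJComponent T K) (hKM : ¬ K ≤ M) :
    K ∈ jComponentsZero T := by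
  refine ⟨hK, fun S' hJS hS' => ?_⟩
  have hc := pre_of_isJComponent (c.pT hT) hK
  exact (c.sylow_of_outside hT ⟨_, elemAb_isPGroup hc.elemW, Comp.W_ne_bot (c.pT hT) hK, rfl⟩
    (fun e => hKM ((le_sup_left.trans hc.KJ_le_normW).trans e)) hS' hJS).1

theorem exists_outside_component : (jComponentsOutside M T).Nonempty := by
  obtain ⟨-, -, -, L, hL, hTL, hLM⟩ := hT.1
  have h := c.over_of_outside hT hL hLM hTL
  obtain ⟨ι, hι, -, P, a, d, hf⟩ := h.exists_frame
  have hXM : Xof L ≤ M := h.X_fix_J.trans (c.normalizer_J_le hT)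
  obtain ⟨K, hK, hKL, hKM⟩ : ∃ K, IsJComponent T K ∧ K ≤ L ∧ ¬ K ≤ M := by
    by_contra! hcon
    have hd : ∀ i, d i ∈ M := by
      intro i
      obtain ⟨K, hK, hKL, hKi⟩ := hf.exists_component h i
      obtain ⟨e, he, -, heQ⟩ := (pre_of_isJComponent h.pT hK).exists_d
      have h1 := hf.d_mem_of_mem h (hKi he) fun hx => heQ ((hf.mem_X_iff h hK hKL he).1 hx)
      exact (sup_le hXM (zpowers_le.2 (hcon K hK hKL he))) h1
    refine hLM fun g hg => ?_
    obtain ⟨p, hp, n, hn, rfl⟩ := hf.exists_mul h hg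
    refine mul_mem ?_ (c.normalizer_J_le hT hn.2)
    haveI := Fintype.ofFinite ι
    classical
    have key : ∀ s : Finset ι, ∃ z ∈ P ⊓ M, ∀ i ∈ s, ⁅p * z, a i⁆ ∈ Xof L := by
      intro s
      induction s using Finset.induction_on with
      | empty => exact ⟨1, one_mem _, by simp⟩
      | insert i s his ih =>
        obtain ⟨z, hz, hs⟩ := ih
        have hy : p * z ∈ P := mul_mem hp hz.1
        set e := ⁅p * z, a i⁆
        have heD : e ∈ Xof L ⊔ zpowers (d i) := by
          obtain ⟨m, hm⟩ := hf.coord _ hy i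
          have := mul_mem (mem_sup_left hm : _ ∈ Xof L ⊔ zpowers (d i))
            (mem_sup_right (inv_mem (zpow_mem (mem_zpowers (d i)) m)))
          rwa [mul_inv_cancel_right] at this
        have heP : e ∈ P := by
          rw [show e = p * z * (a i * (p * z)⁻¹ * (a i)⁻¹) by
            simp only [e, commutatorElement_def]; group]
          exact mul_mem hy
            ((mem_normalizer_iff.1 (hf.L_le_normP (h.J_le_L (hf.a_mem i))) _).1 (inv_mem hy))
        refine ⟨z * e, mul_mem hz ⟨heP, (sup_le hXM (zpowers_le.2 (hd i))) heD⟩, fun k hk => ?_⟩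
        have hnX : ∀ q ∈ Xof L, p * z * q * (p * z)⁻¹ ∈ Xof L := fun q hq =>
          (mem_normalizer_iff.1 (h.L_le_normX (hf.P_le hy)) q).1 hq
        rw [show ⁅p * (z * e), a k⁆ = p * z * ⁅e, a k⁆ * (p * z)⁻¹ * ⁅p * z, a k⁆ by
          simp only [commutatorElement_def]; group]
        rcases Finset.mem_insert.1 hk with rfl | hks
        · have hai : (a k)⁻¹ = a k := inv_eq_of_mul_eq_one_right (hf.a_sq k)
          have hinv : a k * e * (a k)⁻¹ = e⁻¹ := by
            simp only [e, commutatorElement_def, mul_inv_rev, hai, inv_inv]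
            simp only [mul_assoc, hf.a_sq k, mul_one]
          have h3 : ⁅e, a k⁆ = e * e := by
            rw [commutatorElement_def, show e * a k * e⁻¹ * (a k)⁻¹ = e * (a k * e * (a k)⁻¹)⁻¹ by
              group, hinv, inv_inv]
          rw [h3, show p * z * (e * e) * (p * z)⁻¹ * e = ⁅p * z, e * e⁆ * e ^ 3 by
            rw [commutatorElement_def, pow_succ, pow_two]; group]
          refine mul_mem (hf.comm _ hy _ (mul_mem heP heP)) ?_
          obtain ⟨x, hx, y, hyz, hxy⟩ := CfsgLib.Comp.exists_mul_of_mem_sup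
            (zpowers_le.2 (h.L_le_normX (hf.P_le (hf.d_mem k)))) heD
          obtain ⟨m, rfl⟩ := hyz
          have hdL : d k ^ m ∈ L := zpow_mem (hf.P_le (hf.d_mem k)) m
          rw [← hxy, show (x * d k ^ m) ^ 3 = x * (d k ^ m * x * (d k ^ m)⁻¹) *
              (d k ^ m * d k ^ m * x * (d k ^ m * d k ^ m)⁻¹) * (d k ^ m) ^ 3 by
            simp only [pow_succ, pow_zero, one_mul]; group]
          exact mul_mem (mul_mem (mul_mem hx ((mem_normalizer_iff.1 (h.L_le_normX hdL) x).1 hx))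
            ((mem_normalizer_iff.1 (h.L_le_normX (mul_mem hdL hdL)) x).1 hx))
            (by rw [← zpow_natCast, ← zpow_mul, mul_comm, zpow_mul, zpow_natCast]
                exact zpow_mem (hf.d_cube k) m)
        · have hne : i ≠ k := fun e' => his (e' ▸ hks)
          exact mul_mem (hnX _ (hf.coordSub_le h i k hne heD).2) (hs k hks)
    obtain ⟨z, hz, hs⟩ := key Finset.univ
    exact (mul_mem_cancel_right (mem_inf.1 hz).2).1
      (hXM (hf.sep _ (mul_mem hp hz.1) fun i => hs i (Finset.mem_univ i)))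
  refine ⟨K, c.zero_of_outside hT hK hKM, hKM, fun e => ?_⟩
  refine pCoreOf_ne_bot_of_mem h.mem (c.T_ne_bot hT) (le_bot_iff.1 (e ▸ ?_))
  exact CfsgLib.Amalgam.le_pCoreOf (h.O_le_T.trans le_sup_right)
    ((sup_le hKL h.T_le).trans h.L_le_normO) h.pO

end Setup

end CfsgLib.ClassK.ZN
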