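import Cfsg.Agent.Lib.ClassK.ZNCover
import Cfsg.Agent.Lib.ClassK.ZNStraddle

/-!
The two families of components attached to a maximal straddling `2`-subgroup `T ≤ S`.
-/

set_option autoImplicit false
set_option linter.unusedSectionVars false

namespace CfsgLib.ClassK.ZN

open Cfsg Subgroup CfsgLib.PLocal
open scoped commutatorElement

universe u

variable {G : Type u} [Group G]

/-- The components outside `M`. -/
def outP (M : Subgroup G) : Subgroup G → Prop := fun K => ¬ K ≤ M

/-- All components. -/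
def allP : Subgroup G → Prop := fun _ => True

variable [Finite G]

theorem omegaCenterOf_ne_bot' {P : Subgroup G} (hP : IsPGroup 2 P) (h1 : P ≠ ⊥) :
    omegaCenterOf P ≠ ⊥ := by
  have : Fact (Nat.Prime 2) := ⟨Nat.prime_two⟩
  have hne := CfsgLib.Amalgam.inf_centralizer_ne_bot hP hP h1 le_normalizer
  have hCp : IsPGroup 2 (P ⊓ centralizer (P : Set G) : Subgroup G) := hP.to_le inf_le_left
  have : Nontrivial (P ⊓ centralizer (P : Set G) : Subgroup G) := (nontrivial_iff_ne_bot _).2 hne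
  obtain ⟨n, hn, hcard⟩ := hCp.nontrivial_iff_card.1 inferInstance
  obtain ⟨⟨x, hx⟩, hxo⟩ := exists_prime_orderOf_dvd_card' 2 (hcard ▸ dvd_pow_self 2 hn.ne' :
    2 ∣ Nat.card (P ⊓ centralizer (P : Set G) : Subgroup G))
  rw [Subgroup.orderOf_mk] at hxo
  intro e
  have h2 : x ∈ omegaCenterOf P :=
    mem_omegaCenterOf hx.1 (by rw [← hxo]; exact pow_orderOf_eq_one x) hx.2
  rw [e, mem_bot] at h2
  rw [h2, orderOf_one] at hxo
  omega

theorem aOrd_le_of_le {U U' : Subgroup G} (h : U ≤ U') :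
    maxElemAbelianOrder U ≤ maxElemAbelianOrder U' :=
  aOrd_le_of_thompson_le ((thompsonOf_le U).trans h)

theorem le_sylow_of_le_normalizer (S : Sylow 2 G) {R : Subgroup G} (hR : IsPGroup 2 R)
    (h : R ≤ normalizer ((S : Subgroup G) : Set G)) : R ≤ (S : Subgroup G) :=
  (le_sup_left : R ≤ R ⊔ S).trans
    (S.is_maximal' (hR.to_sup_of_normal_right' S.isPGroup' h) le_sup_right).le

theorem isSylowTwoIn_sylowG (S : Sylow 2 G) {N : Subgroup G} (h : (S : Subgroup G) ≤ N) :
    IsSylowTwoIn (S : Subgroup G) N := by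
  have : Fact (Nat.Prime 2) := ⟨Nat.prime_two⟩
  refine ⟨h, S.isPGroup', ?_⟩
  rw [← Nat.not_even_iff_odd, even_iff_two_dvd]
  exact fun h2 => S.not_dvd_index (h2.trans ⟨_, (relIndex_mul_index h).symm⟩)

theorem sylow_le_centralizer_Z (S : Sylow 2 G) :
    (S : Subgroup G) ≤ centralizer (omegaCenterOf (S : Subgroup G) : Set G) :=
  le_centralizer_self_omegaCenterOf _

theorem omegaCenter_le_Zof {T P : Subgroup G} (hTP : T ≤ P) (hT : omegaCenterOf P ≤ T) :
    omegaCenterOf P ≤ Zof T := by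
  intro z hz
  have hz2 : z ^ 2 = 1 := (elemAb_omegaCenterOf P).2 z hz
  have hc : ∀ x ∈ T, x * z = z * x := fun x hx =>
    (le_centralizer_self_omegaCenterOf P (hTP hx) z hz).symm
  obtain ⟨A, hA⟩ := exists_maxElemIn 2 T
  exact mem_omegaCenterOf (le_thompsonOf hA (mem_maxElemIn_of_centralizes hA (hT hz) hz2
    fun x hx => hc x (hA.1 hx))) hz2 fun x hx => hc x (thompsonOf_le T hx)

namespace Setup

variable {S : Sylow 2 G} {M T : Subgroup G} (c : Setup G S M)
include c

theorem S_ne_bot (hT : T ∈ maxStraddlingTwoSubgroups M) (hTS : T ≤ (S : Subgroup G)) :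
    (S : Subgroup G) ≠ ⊥ := fun e => c.T_ne_bot hT (le_bot_iff.1 (hTS.trans e.le))

/-- Replace `S` by a conjugate in `M` containing a given `2`-subgroup of `M`. -/
theorem exists_setup {R : Subgroup G} (hR : IsPGroup 2 R) (hRM : R ≤ M) :
    ∃ S' : Sylow 2 G, Setup G S' M ∧ R ≤ (S' : Subgroup G) ∧
      ∃ m ∈ M, (S' : Subgroup G) = cj m (S : Subgroup G) := by
  obtain ⟨m, hm, hle, hn⟩ := c.exists_sylow_le hR hRM
  have e : ((m • S : Sylow 2 G) : Subgroup G) = cj m (S : Subgroup G) := rfl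
  exact ⟨m • S, ⟨c.char2, c.sol, c.cen, c.core, c.loc, by rw [e]; exact hn⟩, by rw [e]; exact hle,
    m, hm, e⟩

theorem centralizer_Z_le : centralizer (omegaCenterOf (S : Subgroup G) : Set G) ≤
    normalizer (thompsonSubgroupOf 2 (S : Subgroup G) : Set G) :=
  (c.cen S).trans (normalizer_le_normalizer_thompsonOf _)

theorem world_out (hT : T ∈ maxStraddlingTwoSubgroups M) (hTS : T ≤ (S : Subgroup G)) :
    World T (outP M) (omegaCenterOf (S : Subgroup G)) where
  char2 := c.char2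
  sol := c.sol
  cen := c.cen
  pT := c.pT hT
  T_ne := c.T_ne_bot hT
  pcj := fun n hn K hK hle => hK (by
    have hnM := c.normalizer_J_le hT hn
    rw [← cj_inv_cj n K, ← cj_eq_self (le_normalizer (inv_mem hnM))]
    exact cj_mono hle)
  thompson := fun N hN K _ hKM hKN T₁ hJ hT₁ =>
    (c.sylow_of_outside hT hN (fun e => hKM (hKN.trans e)) hT₁ hJ).1
  syl := fun N hN K _ hKM hKN hTN =>
    (c.mem_jOvergroups hT hN (fun e => hKM (hKN.trans e)) hTN).1
  Z_ne := omegaCenterOf_ne_bot' S.isPGroup' (c.S_ne_bot hT hTS)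
  Z_le := by
    refine omegaCenter_le_Zof hTS ?_
    obtain ⟨-, -, -, L, hL, hTL, hLM⟩ := hT.1
    have h := c.over_of_outside hT hL hLM hTL
    exact ((omegaCenter_sylow_le h.mem S hTS).trans h.V_le_O).trans h.O_le_T
  T_cen := hTS.trans (sylow_le_centralizer_Z S)
  Z_not := fun K _ hKM e => hKM ((e.trans c.centralizer_Z_le).trans c.normJ)
  big := ⟨S, S.isPGroup', fun R hR hle => le_sylow_of_le_normalizer S hR (hle.trans (c.cen S))⟩

theorem world_all (h : (S : Subgroup G) ≠ ⊥) :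
    World (S : Subgroup G) allP (omegaCenterOf (S : Subgroup G)) where
  char2 := c.char2
  sol := c.sol
  cen := c.cen
  pT := S.isPGroup'
  T_ne := h
  pcj := fun _ _ _ _ => trivial
  thompson := fun _ _ _ _ _ _ T₁ hJ hT₁ => by
    have : Fact (Nat.Prime 2) := ⟨Nat.prime_two⟩
    obtain ⟨S₁, hS₁⟩ := hT₁.2.1.exists_le_sylow
    obtain ⟨g, hg⟩ := MulAction.exists_smul_eq G S S₁
    have hle : T₁ ≤ cj g (S : Subgroup G) := by rw [← hg] at hS₁; exact hS₁
    have hJ1 : thompsonSubgroupOf 2 T₁ ≤ thompsonSubgroupOf 2 (cj g (S : Subgroup G)) :=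
      thompson_le_thompson ((thompsonOf_le T₁).trans hle)
        (by rw [aOrd_cj]; exact aOrd_le_of_thompson_le hJ)
    refine thompson_eq_thompson hJ ((aOrd_le_of_le hle).trans (aOrd_cj g _).le) ?_
    exact (card_le_of_le hJ1).trans (by rw [← cj_thompson, card_cj])
  syl := fun _ _ _ _ _ _ hTN => isSylowTwoIn_sylowG S hTN
  Z_ne := omegaCenterOf_ne_bot' S.isPGroup' h
  Z_le := omegaCenter_le_Zof le_rfl (omegaCenterOf_le _)
  T_cen := sylow_le_centralizer_Z S
  Z_not := fun K hK _ e => by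
    have hc := pre_of_isJComponent S.isPGroup' hK
    obtain ⟨d, hd, -, hdQ⟩ := hc.exists_d
    refine hdQ (hc.le_Q (hc.pJ.to_le ?_) le_rfl hd)
    conv_lhs => rw [← hc.comm]
    exact le_normalizer_iff_commutator_le_right.1 (e.trans c.centralizer_Z_le)
  big := ⟨S, S.isPGroup', fun R hR hle => le_sylow_of_le_normalizer S hR (hle.trans (c.cen S))⟩

theorem exists_mem_out (hT : T ∈ maxStraddlingTwoSubgroups M) :
    ∃ K, Mem T (outP M) K ∧ pCoreOf 2 (K ⊔ T) ≠ ⊥ := by
  obtain ⟨K, hK, hKM, hc⟩ := c.exists_outside_component hT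
  exact ⟨K, ⟨hK.1, hKM⟩, hc⟩

end Setup

namespace World

variable {T Z : Subgroup G} {p : Subgroup G → Prop} (W : World T p Z)

local notation "J" => thompsonSubgroupOf 2 T

include W

/-- If all members share, one `2`-local contains all of them and `N(J(T))`. -/
theorem exists_local_of_allShare (hA : AllShare T p) {K₀ : Subgroup G} (hK₀ : Mem T p K₀) :
    ∃ L : Subgroup G, IsTwoLocal L ∧ normalizer (J : Set G) ≤ L ∧ ∀ K, Mem T p K → K ≤ L := by
  set Y : Subgroup G := sSup {A | ∃ K, Mem T p K ∧ A = wOf K} with hY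
  have hle : ∀ K, Mem T p K → wOf K ≤ Y := fun K hK => le_sSup ⟨K, hK, rfl⟩
  have hpair : ∀ K K', Mem T p K → Mem T p K' → wOf K ≤ centralizer (wOf K' : Set G) := by
    intro K K' hK hK'
    by_cases e : K = K'
    · subst e; exact elemAb_le_centralizer (pre_of_isJComponent W.pT hK.1).elemW
    · exact (pre_of_isJComponent W.pT hK.1).W_le_K.trans (W.share_props hK hK' e (hA K K' hK hK')).2
  have hYab : Y ≤ centralizer (Y : Set G) := by
    refine sSup_le ?_
    rintro _ ⟨K, hK, rfl⟩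
    rw [le_centralizer_iff]
    refine sSup_le ?_
    rintro _ ⟨K', hK', rfl⟩
    exact hpair K' K hK' hK
  have hYe : IsElementaryAbelian 2 Y := by
    refine ⟨⟨⟨fun a b => Subtype.ext (hYab b.2 a a.2)⟩⟩, ?_⟩
    let Sq : Subgroup G :=
      { carrier := {x | x ∈ Y ∧ x ^ 2 = 1}
        one_mem' := ⟨one_mem _, one_pow 2⟩
        mul_mem' := fun {a b} ha hb => ⟨mul_mem ha.1 hb.1, by
          rw [(show Commute a b from hYab hb.1 a ha.1).mul_pow, ha.2, hb.2, one_mul]⟩
        inv_mem' := fun {a} ha => ⟨inv_mem ha.1, by rw [inv_pow, ha.2, inv_one]⟩ }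
    have h1 : Y ≤ Sq := sSup_le (by
      rintro _ ⟨K, hK, rfl⟩ x hx
      exact ⟨hle K hK hx, (pre_of_isJComponent W.pT hK.1).elemW.2 x hx⟩)
    exact fun x hx => (h1 hx).2
  refine ⟨normalizer (Y : Set G), ⟨Y, elemAb_isPGroup hYe, fun e =>
    Comp.W_ne_bot W.pT hK₀.1 (le_bot_iff.1 ((hle K₀ hK₀).trans e.le)), rfl⟩, fun n hn => ?_,
    fun K hK k hk => ?_⟩
  · refine mem_normalizer_of_cj (eq_of_le_of_card_ge ?_ (card_cj _ _).ge)
    rw [cj, map_le_iff_le_comap]
    refine sSup_le ?_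
    rintro _ ⟨K, hK, rfl⟩
    rw [← map_le_iff_le_comap]
    exact (cj_wOf n K).le.trans (hle _ (W.mem_cj_of hn hK))
  · refine mem_normalizer_of_cj (eq_of_le_of_card_ge ?_ (card_cj _ _).ge)
    rw [cj, map_le_iff_le_comap]
    refine sSup_le ?_
    rintro _ ⟨K', hK', rfl⟩
    rw [← map_le_iff_le_comap]
    refine (cj_eq_self ?_).le.trans (hle K' hK')
    by_cases e : K = K'
    · subst e; exact normalizer_le_normalizer_wOf K (le_normalizer hk)
    · exact centralizer_le_normalizer _ ((W.share_props hK hK' e (hA K K' hK hK')).2 hk)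

end World

namespace Setup

variable {S : Sylow 2 G} {M T : Subgroup G} (c : Setup G S M)
include c

theorem noShare_out_of_lt (hT : T ∈ maxStraddlingTwoSubgroups M) (hlt : T < (S : Subgroup G)) :
    NoShare T (outP M) := by
  have W := c.world_out hT hlt.le
  refine W.noShare_of_not_allShare fun hA => ?_
  obtain ⟨K₀, hK₀, -⟩ := c.exists_mem_out hT
  obtain ⟨L, hL, hJL, hKL⟩ := W.exists_local_of_allShare hA hK₀
  have hgt := lt_inf_normalizer_of_lt S.isPGroup' hlt
  set U := (S : Subgroup G) ⊓ normalizer (T : Set G)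
  have hU : U ∈ straddlingTwoSubgroups M :=
    ⟨S.isPGroup'.to_le inf_le_left, fun e => c.T_ne_bot hT (le_bot_iff.1 (hgt.le.trans e.le)),
      inf_le_left.trans c.S_le_M, L, hL,
      (inf_le_right.trans (normalizer_le_normalizer_thompsonOf T)).trans hJL,
      fun e => hK₀.2 ((hKL K₀ hK₀).trans e)⟩
  exact absurd (eq_of_le_of_card_ge hgt.le
    (max_eq_props hT hU ((thompsonOf_le T).trans hgt.le)).2) hgt.ne

end Setup

end CfsgLib.ClassK.ZN
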