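import Cfsg.Agent.Lib.ClassK.NiceNormal
import Cfsg.Agent.Lib.ClassK.NiceReduced
import Cfsg.Agent.Lib.ClassK.ZNFamilies
import Cfsg.Agent.Lib.ClassK.ZNStraddle

/-!
# Solvable `2`-locals without a section `S₄`

If the `2`-locals of `G` are solvable, of characteristic two and without a section `S₄`, a maximal
`2`-local `M` is the normalizer of a subgroup determined by any of its Sylow `2`-subgroups, these
are Sylow subgroups of `G`, and `M` is strongly embedded unless `O₂(G) ≠ 1`.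
-/

set_option autoImplicit false
set_option linter.unusedSectionVars false
set_option linter.style.haveILetI false

namespace CfsgLib.ClassK.Nice

open Cfsg Subgroup CfsgLib.PLocal

universe u

variable {G : Type u} [Group G] [Finite G]

/-- Every `2`-local is solvable, of characteristic two and has no section `S₄`. -/
def FreeLocals (G : Type u) [Group G] : Prop :=
  ∀ M : Subgroup G, IsTwoLocal M →
    Group.IsSolvable M ∧ IsOfCharacteristicTwo ↥M ∧ ¬ Involves (Equiv.Perm (Fin 4)) ↥M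

/-- The closure of `Ω₁(Z(T))` under the normalizer of `J(T)`. -/
def wT (T : Subgroup G) : Subgroup G :=
  sSup {W : Subgroup G | ∃ k ∈ normalizer (thompsonSubgroupOf 2 T : Set G),
    cnj k (omegaCenterOf T) = W}

theorem isTwoLocal_cnj (g : G) {N : Subgroup G} (h : IsTwoLocal N) : IsTwoLocal (cnj g N) := by
  obtain ⟨P, hP, hP1, rfl⟩ := h
  refine ⟨cnj g P, hP.map _, ?_, ?_⟩
  · rw [Ne, Subgroup.map_eq_bot_iff_of_injective _ (MulAut.conj g).injective]; exact hP1
  · exact Subgroup.map_equiv_normalizer_eq P (MulAut.conj g)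

theorem isMaximalTwoLocal_cnj (g : G) {M : Subgroup G} (h : IsMaximalTwoLocal M) :
    IsMaximalTwoLocal (cnj g M) := by
  refine ⟨isTwoLocal_cnj g h.1, fun N hN hle => ?_⟩
  have h1 : M ≤ cnj g⁻¹ N := fun x hx => mem_cnj.2 (by
    simpa [mul_assoc] using hle (mem_map_of_mem (MulAut.conj g).toMonoidHom hx))
  rw [← h.2 _ (isTwoLocal_cnj g⁻¹ hN) h1, cnj_cancel]

theorem exists_maximal {N : Subgroup G} (hN : IsTwoLocal N) :
    ∃ L : Subgroup G, IsMaximalTwoLocal L ∧ N ≤ L := by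
  obtain ⟨L, hNL, hL, hmax⟩ :=
    Set.Finite.exists_le_maximal (Set.toFinite {L : Subgroup G | IsTwoLocal L}) hN
  exact ⟨L, ⟨hL, fun L' hL' hle => le_antisymm (hmax hL' hle) hle⟩, hNL⟩

theorem pCoreOf_facts (hloc : FreeLocals G) {M : Subgroup G} (hM : IsMaximalTwoLocal M) :
    pCoreOf 2 M ≠ ⊥ ∧ normalizer (pCoreOf 2 M : Set G) = M ∧
      centralizer (pCoreOf 2 M : Set G) ≤ pCoreOf 2 M := by
  obtain ⟨P, hP, hP1, hMP⟩ := hM.1
  have hle : P ≤ pCoreOf 2 M :=
    CfsgLib.Amalgam.le_pCoreOf (hMP ▸ le_normalizer) hMP.le hP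
  have hne : pCoreOf 2 M ≠ ⊥ := fun e => hP1 (le_bot_iff.1 (e ▸ hle))
  have hN : normalizer (pCoreOf 2 M : Set G) = M :=
    hM.2 _ ⟨_, CfsgLib.Amalgam.isPGroup_pCoreOf M, hne, rfl⟩
      (CfsgLib.Amalgam.le_normalizer_pCoreOf M)
  refine ⟨hne, hN, fun x hx => ?_⟩
  have hxM : x ∈ M := hN ▸ centralizer_le_normalizer _ hx
  refine ⟨⟨x, hxM⟩, (hloc M hM.1).2.1 (fun y hy => Subtype.ext ?_), rfl⟩
  exact hx y ⟨y, hy, rfl⟩

/-- A maximal `2`-local is the normalizer of `wT T` for each of its Sylow `2`-subgroups `T`. -/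
theorem eq_normalizer_wT (hloc : FreeLocals G) {M : Subgroup G} (hM : IsMaximalTwoLocal M)
    {T : Subgroup G} (hTM : T ≤ M) (hT : IsPGroup 2 T)
    (hTmax : ∀ P : Subgroup G, T ≤ P → P ≤ M → IsPGroup 2 P → P = T) :
    M = normalizer (wT T : Set G) ∧ normalizer (thompsonSubgroupOf 2 T : Set G) ≤ M := by
  haveI : Fact (Nat.Prime 2) := ⟨Nat.prime_two⟩
  obtain ⟨hO1, hNO, hCO⟩ := pCoreOf_facts hloc hM
  set O := pCoreOf 2 M with hO
  have hOT : O ≤ T := by
    have h1 : T ⊔ O = T := hTmax _ le_sup_left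
      (sup_le hTM (CfsgLib.Amalgam.pCoreOf_le M))
      (hT.to_sup_of_normal_right' (CfsgLib.Amalgam.isPGroup_pCoreOf M)
        (hTM.trans (CfsgLib.Amalgam.le_normalizer_pCoreOf M)))
    exact h1 ▸ le_sup_right
  have hT1 : T ≠ ⊥ := fun e => hO1 (le_bot_iff.1 (e ▸ hOT))
  set J := thompsonSubgroupOf 2 T with hJ
  set K := normalizer (J : Set G) with hK
  have hKloc : IsTwoLocal K :=
    ⟨J, hT.to_le (thompsonOf_le T), ZN.thompsonOf_ne_bot hT hT1, rfl⟩
  have hTK : T ≤ K := le_normalizer.trans (normalizer_le_normalizer_thompsonOf T)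
  have hJT : J ≤ T := thompsonOf_le T
  obtain ⟨S, hS⟩ := (hT.of_equiv (subgroupOfEquivOfLe hTK).symm).exists_le_sylow
  set S' := (S : Subgroup K).map K.subtype with hS'
  have hTS : T ≤ S' := fun x hx => ⟨⟨x, hTK hx⟩, hS (mem_subgroupOf.2 hx), rfl⟩
  have hS'p : IsPGroup 2 S' := S.2.map _
  set Z := omegaCenterOf S' with hZ
  have hZS : S' ≤ centralizer (Z : Set G) := ZN.le_centralizer_self_omegaCenterOf S'
  have hZT : Z ≤ T :=
    ((le_centralizer_iff.1 hZS).trans (centralizer_le (hOT.trans hTS))).trans (hCO.trans hOT)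
  have hZJ : Z ≤ J := fun z hz => (omegaOne_le 2 _ (mem_omega_centerThompsonOf (hZT hz)
    ((ZN.elemAb_omegaCenterOf S').2 z hz)
    (centralizer_le (hJT.trans hTS) (le_centralizer_iff.1 hZS hz)))).1
  set Sc := {W : Subgroup G | ∃ k ∈ K, cnj k Z = W} with hSc
  set W := sSup Sc with hW
  have hWJ : W ≤ J := sSup_le (by
    rintro _ ⟨k, hk, rfl⟩
    exact (map_mono hZJ).trans (cnj_eq_iff.2 hk).le)
  have hWJc : W ≤ centralizer (J : Set G) := sSup_le (by
    rintro _ ⟨k, hk, rfl⟩ _ ⟨z, hz, rfl⟩ x hx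
    show x * (k * z * k⁻¹) = k * z * k⁻¹ * x
    have h1 := hZS (hTS (hJT ((mem_normalizer_iff''.1 hk x).1 hx))) z hz
    calc x * (k * z * k⁻¹) = k * (k⁻¹ * x * k * z) * k⁻¹ := by group
      _ = k * (z * (k⁻¹ * x * k)) * k⁻¹ := by rw [h1]
      _ = _ := by group)
  have hWel : IsElementaryAbelian 2 W := by
    refine elemAb_sSup ?_ ?_
    · rintro _ ⟨k, -, rfl⟩; exact elemAb_map _ (ZN.elemAb_omegaCenterOf S')
    · intro A hA B hB
      exact ((le_sSup hA : A ≤ W).trans hWJc).trans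
        (centralizer_le ((le_sSup hB : B ≤ W).trans hWJ))
  have hKW : K ≤ normalizer (W : Set G) := fun k hk => by
    refine mem_normalizer_iff_map_conj_eq.2 (eq_of_le_of_card_ge ?_
      (card_map_of_injective (MulAut.conj k).injective).ge)
    refine map_le_iff_le_comap.2 (sSup_le ?_)
    rintro _ ⟨g, hg, rfl⟩
    rw [← map_le_iff_le_comap]
    exact le_sSup (s := Sc) ⟨k * g, mul_mem hk hg, cnj_mul _ _ _⟩
  have hZW : Z ≤ W := le_sSup ⟨1, one_mem _, cnj_one _⟩
  have hW1 : W ≠ ⊥ := fun e =>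
    ZN.omegaCenterOf_ne_bot' hS'p (fun e' => hT1 (le_bot_iff.1 (e' ▸ hTS))) (le_bot_iff.1 (e ▸ hZW))
  -- `W` is far from offending
  have hWK : W ≤ K := hWJ.trans le_normalizer
  have hniceK : ∀ A : Subgroup K, ElemOn (W.subgroupOf K) A → Nice (W.subgroupOf K) A := by
    haveI : (W.subgroupOf K).Normal := normal_subgroupOf_iff_le_normalizer hWK |>.2 hKW
    set C := centralizer ((W.subgroupOf K : Subgroup K) : Set K) with hC
    refine nice_of_reduced (hloc K hKloc).2.2 (hloc K hKloc).1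
      (elemAb_comap_of_injective K.subtype_injective hWel) ?_
    refine le_bot_iff.1 fun x hx => ?_
    obtain ⟨d, rfl⟩ := QuotientGroup.mk'_surjective C x
    haveI : (pCore 2 (K ⧸ C)).Normal := CfsgLib.Solvable.pCore_normal 2 _
    set D := (pCore 2 (K ⧸ C)).comap (QuotientGroup.mk' C) with hD
    haveI : D.Normal := inferInstanceAs ((pCore 2 (K ⧸ C)).comap (QuotientGroup.mk' C)).Normal
    have hCD : C ≤ D := fun y hy => by
      show QuotientGroup.mk' C y ∈ pCore 2 (K ⧸ C)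
      rw [show QuotientGroup.mk' C y = 1 from (QuotientGroup.eq_one_iff y).2 hy]
      exact one_mem _
    have hDle := normal_pGroup_quotient_le S hCD (pCore_comap_relIndex C)
    have hDZ : ∀ y ∈ D, (y : G) ∈ centralizer (Z : Set G) := by
      intro y hy
      refine ((sup_le ?_ ?_ :
        C ⊔ ((S : Subgroup K) ⊓ D) ≤ (centralizer (Z : Set G)).comap K.subtype) (hDle hy))
      · intro c hc z hz
        exact congrArg Subtype.val (hc ⟨z, hWK (hZW hz)⟩ (mem_subgroupOf.2 (hZW hz)))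
      · exact fun s hs => hZS ⟨s, hs.1, rfl⟩
    rw [mem_bot]
    refine (QuotientGroup.eq_one_iff d).2 fun w hw => Subtype.ext ?_
    have hle : W ≤ centralizer ({(d : G)} : Set G) := sSup_le (by
      rintro _ ⟨k, hk, rfl⟩ _ ⟨z, hz, rfl⟩ _ rfl
      have h1 := hDZ _ (Normal.conj_mem inferInstance d (show d ∈ D from hx) (⟨k, hk⟩ : K)⁻¹) z hz
      have h2 : z * (k⁻¹ * (d : G) * k) = k⁻¹ * (d : G) * k * z := by simpa using h1
      show (d : G) * (k * z * k⁻¹) = k * z * k⁻¹ * (d : G)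
      calc (d : G) * (k * z * k⁻¹) = k * (k⁻¹ * (d : G) * k * z) * k⁻¹ := by group
        _ = k * (z * (k⁻¹ * (d : G) * k)) * k⁻¹ := by rw [h2]
        _ = _ := by group)
    exact (hle (mem_subgroupOf.1 hw) _ rfl).symm
  have hniceT : NiceOn T W := by
    have h1 : NiceOn (T.subgroupOf K) (W.subgroupOf K) := fun A _ hA => hniceK A hA
    have h2 := niceOn_map K.subtype_injective h1
    rwa [map_subgroupOf_eq_of_le hTK, map_subgroupOf_eq_of_le hWK] at h2
  -- `W` is normal in `M`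
  have hWM : W ≤ M := (hWJ.trans hJT).trans hTM
  let TM : Sylow 2 M :=
    { T.subgroupOf M with
      isPGroup' := hT.of_equiv (subgroupOfEquivOfLe hTM).symm
      is_maximal' := fun {P} hP hle => by
        have h1 := hTmax (P.map M.subtype) (fun x hx => ⟨⟨x, hTM hx⟩, hle hx, rfl⟩)
          (map_subtype_le P) (hP.map _)
        refine le_antisymm (fun x hx => ?_) hle
        exact (h1.le ⟨x, hx, rfl⟩ : (x : G) ∈ T) }
  have hTMc : (TM : Subgroup M) = T.subgroupOf M := rfl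
  have hnorm : (W.subgroupOf M).Normal := by
    refine normal_of_niceOn (hloc M hM.1).2.2 (hloc M hM.1).1 (hloc M hM.1).2.1 TM
      (elemAb_comap_of_injective M.subtype_injective hWel) (comap_mono (hWJ.trans hJT)) ?_ ?_ ?_
    · intro t ht
      rw [mem_normalizer_iff]
      intro x
      simpa [mem_subgroupOf] using mem_normalizer_iff.1 (hKW (hTK (mem_subgroupOf.1 ht))) x
    · refine niceOn_comap M.subtype_injective ?_
      rw [hTMc, map_subgroupOf_eq_of_le hTM, map_subgroupOf_eq_of_le hWM]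
      exact hniceT
    · intro g hg
      rw [mem_normalizer_iff]
      intro x
      have hgW : (g : G) ∈ normalizer (W : Set G) := by
        refine hKW (mem_normalizer_iff_map_conj_eq.2 (eq_of_le_of_card_ge ?_
          (card_map_of_injective (MulAut.conj (g : G)).injective).ge))
        rw [hJ, thompsonOf_eq]
        refine map_le_iff_le_comap.2 (sSup_le fun A hA => ?_)
        rw [← map_le_iff_le_comap]
        refine le_sSup ?_
        have hA' : A.subgroupOf M ∈ maxElemIn 2 (TM : Subgroup M) := by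
          refine ⟨comap_mono hA.1, elemAb_comap_of_injective M.subtype_injective hA.2.1,
            fun B hB hBe => ?_⟩
          have h1 := hA.2.2 (B.map M.subtype) (map_le_iff_le_comap.2 hB) (elemAb_map _ hBe)
          rw [card_map_of_injective M.subtype_injective] at h1
          rw [Nat.card_congr (subgroupOfEquivOfLe (hA.1.trans hTM)).toEquiv]
          exact h1
        refine ⟨?_, elemAb_map _ hA.2.1, fun B hB hBe => ?_⟩
        · rintro _ ⟨y, hy, rfl⟩
          exact mem_subgroupOf.1 (hg _ hA' ⟨⟨y, hTM (hA.1 hy)⟩, mem_subgroupOf.2 hy, rfl⟩)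
        · rw [card_map_of_injective (MulAut.conj (g : G)).injective]
          exact hA.2.2 B hB hBe
      simpa [mem_subgroupOf] using mem_normalizer_iff.1 hgW x
  have hMeq : normalizer (W : Set G) = M :=
    hM.2 _ ⟨W, (hT.to_le (hWJ.trans hJT)), hW1, rfl⟩ (le_normalizer_of_normal_subgroupOf hWM)
  have hKM : K ≤ M := hMeq ▸ hKW
  refine ⟨?_, hKM⟩
  have hST : S' = T := hTmax _ hTS ((map_subtype_le _).trans hKM) hS'p
  have hweq : wT T = W := by rw [hW, hSc, hZ, hST]; rfl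
  rw [hweq, hMeq]

/-- The Sylow `2`-subgroups of a maximal `2`-local are Sylow in `G`. -/
theorem sylow_of_maximal (hloc : FreeLocals G) {M : Subgroup G} (hM : IsMaximalTwoLocal M)
    {T : Subgroup G} (hTM : T ≤ M) (hT : IsPGroup 2 T)
    (hTmax : ∀ P : Subgroup G, T ≤ P → P ≤ M → IsPGroup 2 P → P = T) :
    ∀ P : Subgroup G, T ≤ P → IsPGroup 2 P → P = T := by
  intro P hTP hP
  refine (ZN.eq_of_normalizer_inf_le hP hTP ?_).symm
  refine (hTmax _ (le_inf hTP le_normalizer) ?_ (hP.to_le inf_le_left)).le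
  exact inf_le_right.trans ((normalizer_le_normalizer_thompsonOf T).trans
    (eq_normalizer_wT hloc hM hTM hT hTmax).2)

theorem exists_sylow_in (M : Subgroup G) {R : Subgroup G} (hR : IsPGroup 2 R) (hRM : R ≤ M) :
    ∃ T : Subgroup G, R ≤ T ∧ T ≤ M ∧ IsPGroup 2 T ∧
      ∀ P : Subgroup G, T ≤ P → P ≤ M → IsPGroup 2 P → P = T := by
  obtain ⟨T, ⟨hTM, hTp, hRT⟩, hmax⟩ := Set.exists_max_image
    {T : Subgroup G | T ≤ M ∧ IsPGroup 2 T ∧ R ≤ T} (fun T => Nat.card T) (Set.toFinite _)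
    ⟨R, hRM, hR, le_rfl⟩
  exact ⟨T, hRT, hTM, hTp, fun P hTP hPM hP =>
    (eq_of_le_of_card_ge hTP (hmax P ⟨hPM, hP, hRT.trans hTP⟩)).symm⟩

/-- Two maximal `2`-locals containing the same Sylow subgroup of `G` coincide. -/
theorem eq_of_sylow_le (hloc : FreeLocals G) {M M' : Subgroup G} (hM : IsMaximalTwoLocal M)
    (hM' : IsMaximalTwoLocal M') (T : Sylow 2 G) (h : (T : Subgroup G) ≤ M)
    (h' : (T : Subgroup G) ≤ M') : M = M' :=
  (eq_normalizer_wT hloc hM h T.2 fun P hle _ hP => T.3 hP hle).1.trans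
    (eq_normalizer_wT hloc hM' h' T.2 fun P hle _ hP => T.3 hP hle).1.symm

theorem exists_sylow_le (hloc : FreeLocals G) {M : Subgroup G} (hM : IsMaximalTwoLocal M) :
    ∃ T : Sylow 2 G, (T : Subgroup G) ≤ M := by
  obtain ⟨T, -, hTM, hT, hTmax⟩ := exists_sylow_in M IsPGroup.of_bot (bot_le : ⊥ ≤ M)
  exact ⟨⟨T, hT, fun {P} hP hle => sylow_of_maximal hloc hM hTM hT hTmax P hle hP⟩, hTM⟩

/-- All maximal `2`-locals are conjugate. -/
theorem exists_cnj_eq (hloc : FreeLocals G) {M M' : Subgroup G} (hM : IsMaximalTwoLocal M)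
    (hM' : IsMaximalTwoLocal M') : ∃ x : G, cnj x M = M' := by
  haveI : Fact (Nat.Prime 2) := ⟨Nat.prime_two⟩
  obtain ⟨T, hT⟩ := exists_sylow_le hloc hM
  obtain ⟨T', hT'⟩ := exists_sylow_le hloc hM'
  obtain ⟨x, hx⟩ := MulAction.exists_smul_eq G T T'
  refine ⟨x, eq_of_sylow_le hloc (isMaximalTwoLocal_cnj x hM) hM' T' ?_ hT'⟩
  rw [← hx]
  exact map_mono hT

/-- A maximal `2`-local is strongly embedded. -/
theorem isStronglyEmbedded (hloc : FreeLocals G) (hO : pCore 2 G = ⊥) {M : Subgroup G}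
    (hM : IsMaximalTwoLocal M) : IsStronglyEmbedded M := by
  haveI : Fact (Nat.Prime 2) := ⟨Nat.prime_two⟩
  obtain ⟨hO1, hNO, -⟩ := pCoreOf_facts hloc hM
  have hself : ∀ g : G, cnj g M = M → g ∈ M := fun g hg => by
    rw [← hNO, ← cnj_eq_iff]
    show (pCoreOf 2 M).map _ = _
    rw [← CfsgLib.Amalgam.pCoreOf_map _ (MulAut.conj g).injective]
    exact congrArg (pCoreOf 2) hg
  refine ⟨fun e => ?_, ?_, ?_⟩
  · subst e
    rw [CfsgLib.Amalgam.pCoreOf_top] at hO1
    exact hO1 hO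
  · obtain ⟨n, hn⟩ := IsPGroup.iff_card.1 (CfsgLib.Amalgam.isPGroup_pCoreOf (p := 2) M)
    rw [even_iff_two_dvd]
    refine dvd_trans ?_ (card_dvd_of_le (CfsgLib.Amalgam.pCoreOf_le (p := 2) M))
    rw [hn]
    refine dvd_pow_self 2 fun e => hO1 (card_eq_one.1 ?_)
    rw [hn, e, pow_zero]
  intro g hg
  by_contra hodd
  rw [Nat.not_odd_iff_even, even_iff_two_dvd] at hodd
  obtain ⟨⟨x, hx⟩, hxo⟩ := exists_prime_orderOf_dvd_card' 2 hodd
  rw [Subgroup.orderOf_mk] at hxo
  have hxT : zpowers x ∈ {P : Subgroup G | IsPGroup 2 P ∧ P ≠ ⊥ ∧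
      ∃ y : G, y ∉ M ∧ P ≤ M ⊓ cnj y M} :=
    ⟨IsPGroup.of_card (n := 1) (by rw [Nat.card_zpowers, hxo, pow_one]),
      fun e => by rw [zpowers_eq_bot.1 e, orderOf_one] at hxo; omega,
      g, hg, zpowers_le.2 hx⟩
  obtain ⟨R, ⟨hR, hR1, y, hy, hRle⟩, hmax⟩ := Set.exists_max_image
    {P : Subgroup G | IsPGroup 2 P ∧ P ≠ ⊥ ∧ ∃ y : G, y ∉ M ∧ P ≤ M ⊓ cnj y M}
    (fun P => Nat.card P) (Set.toFinite _) ⟨_, hxT⟩
  have hle1 : R ≤ M := hRle.trans inf_le_left
  have hle2 : R ≤ cnj y M := hRle.trans inf_le_right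
  have hMy := isMaximalTwoLocal_cnj y hM
  obtain ⟨T, hRT, hTM, hT, hTmax⟩ := exists_sylow_in M hR hle1
  obtain ⟨T', hRT', hTM', hT', hTmax'⟩ := exists_sylow_in (cnj y M) hR hle2
  obtain ⟨L, hL, hNL⟩ := exists_maximal (N := normalizer (R : Set G)) ⟨R, hR, hR1, rfl⟩
  obtain ⟨z, rfl⟩ := exists_cnj_eq hloc hM hL
  by_cases hlt : R < T
  · have hLM : cnj z M = M := by
      by_contra hne
      have hz : z ∉ M := fun hz => hne (cnj_eq_iff.2 (le_normalizer hz))
      have h1 := ZN.lt_inf_normalizer_of_lt hT hlt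
      have h2 := hmax (T ⊓ normalizer (R : Set G)) ⟨hT.to_le inf_le_left,
        fun e => hR1 (le_bot_iff.1 (e ▸ h1.le)), z, hz,
        inf_le_inf hTM (hNL.trans le_rfl)⟩
      exact h1.ne (eq_of_le_of_card_ge h1.le h2)
    rw [hLM] at hNL
    by_cases hlt' : R < T'
    · have h1 := ZN.lt_inf_normalizer_of_lt hT' hlt'
      have h2 := hmax (T' ⊓ normalizer (R : Set G)) ⟨hT'.to_le inf_le_left,
        fun e => hR1 (le_bot_iff.1 (e ▸ h1.le)), y, hy,
        le_inf (inf_le_right.trans hNL) (inf_le_left.trans hTM')⟩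
      exact h1.ne (eq_of_le_of_card_ge h1.le h2)
    · obtain rfl : R = T' := hRT'.eq_of_not_lt hlt'
      have h1 := sylow_of_maximal hloc hMy hTM' hT' hTmax'
      exact hlt.ne (h1 T hRT hT).symm
  · obtain rfl : R = T := hRT.eq_of_not_lt hlt
    have h1 := sylow_of_maximal hloc hM hTM hT hTmax
    refine hy (hself y ?_)
    exact (eq_of_sylow_le hloc hM hMy ⟨R, hR, fun {P} hP hle => h1 P hle hP⟩ hle1 hle2).symm

end CfsgLib.ClassK.Nice
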