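import Cfsg.Agent.Lib.ClassK.NiceOffender
import Cfsg.Agent.Lib.Complement.TwoTools

/-!
# The normality criterion

`G` solvable of characteristic two without a section `S₄`, `T` a Sylow `2`-subgroup, `U` normal in
`T`, far from offending and fixed by every element conjugating the largest elementary abelian
subgroups of `T` into `T`: then `U` is normal in `G`.
-/

set_option autoImplicit false
set_option linter.unusedSectionVars false
set_option linter.style.haveILetI false

namespace CfsgLib.ClassK.Nice

open Cfsg Subgroup CfsgLib.PLocal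

universe u

variable {G : Type u} [Group G] [Finite G]

theorem mem_centralizer_conj {g : G} {V : Subgroup G} (hg : g ∈ normalizer (V : Set G)) {x : G}
    (hx : x ∈ centralizer (V : Set G)) : g * x * g⁻¹ ∈ centralizer (V : Set G) := by
  intro v hv
  have h1 := hx _ ((mem_normalizer_iff''.1 hg v).1 hv)
  calc v * (g * x * g⁻¹) = g * (g⁻¹ * v * g * x) * g⁻¹ := by group
    _ = g * (x * (g⁻¹ * v * g)) * g⁻¹ := by rw [h1]
    _ = _ := by group

/-- The preimage of `O_{2'}(G/O₂(G))` normalizes `U`. -/
theorem comap_le_normalizer (hfree : ¬ Cfsg.Involves (Equiv.Perm (Fin 4)) G)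
    (T : Sylow 2 G) {U : Subgroup G} (hU : IsElementaryAbelian 2 U) (hUQ : U ≤ pCore 2 G)
    (hTU : (T : Subgroup G) ≤ normalizer (U : Set G)) (hnice : NiceOn T U)
    (hJN : ∀ g : G, (∀ A ∈ maxElemIn 2 (T : Subgroup G), cnj g A ≤ (T : Subgroup G)) →
      g ∈ normalizer (U : Set G))
    [(pCore 2 G).Normal] {R : Subgroup (G ⧸ pCore 2 G)} [R.Normal]
    (hR : (Nat.card R).Coprime 2) :
    R.comap (QuotientGroup.mk' (pCore 2 G)) ≤ normalizer (U : Set G) := by
  haveI : Fact (Nat.Prime 2) := ⟨Nat.prime_two⟩
  set q := QuotientGroup.mk' (pCore 2 G) with hq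
  set K := R.comap q with hK
  set S := {W : Subgroup G | ∃ g, q g ∈ R ∧ cnj g U = W} with hS
  set V := sSup S with hV
  have hVnorm : ∀ t : G, (∀ g, q g ∈ R → ∃ g', q g' ∈ R ∧ cnj t (cnj g U) = cnj g' U) →
      t ∈ normalizer (V : Set G) := fun t ht => by
    refine mem_normalizer_iff_map_conj_eq.2 (eq_of_le_of_card_ge ?_
      (card_map_of_injective (MulAut.conj t).injective).ge)
    refine map_le_iff_le_comap.2 (sSup_le ?_)
    rintro _ ⟨g, hg, rfl⟩
    rw [← map_le_iff_le_comap]
    obtain ⟨g', hg', he⟩ := ht g hg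
    exact he.le.trans (le_sSup ⟨g', hg', rfl⟩)
  have hKV : K ≤ normalizer (V : Set G) := fun k hk => hVnorm k fun g hg =>
    ⟨k * g, by rw [map_mul]; exact mul_mem hk hg, (cnj_mul _ _ _).symm⟩
  have hTV : (T : Subgroup G) ≤ normalizer (V : Set G) := fun t ht => hVnorm t fun g hg =>
    ⟨t * g * t⁻¹, by simp only [map_mul, map_inv]; exact Normal.conj_mem inferInstance _ hg _, by
      rw [cnj_mul (t * g) t⁻¹, cnj_eq_iff.2 (hTU (inv_mem ht)), ← cnj_mul]⟩
  have hAV : ∀ A ∈ maxElemIn 2 (T : Subgroup G), A ≤ centralizer (V : Set G) := fun A hA =>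
    le_centralizer_iff.1 (sSup_le (by
      rintro _ ⟨g, hg, rfl⟩
      exact le_centralizer_iff.1 (maxElemIn_centralizes hfree T hU hUQ hTU hnice hR A hA g hg)))
  have hUV : U ≤ V := le_sSup ⟨1, by rw [map_one]; exact one_mem _, cnj_one U⟩
  set H := K ⊔ (T : Subgroup G) with hH
  have hTH : (T : Subgroup G) ≤ H := le_sup_right
  set C := (centralizer (V : Set G)).subgroupOf H with hC
  haveI : C.Normal := ⟨fun x hx g =>
    mem_subgroupOf.2 (mem_centralizer_conj ((sup_le hKV hTV : H ≤ _) g.2) hx)⟩
  intro k hk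
  obtain ⟨c, hc, n, hn, he⟩ :=
    frattini_mul (T.subtype hTH) C (⟨k, mem_sup_left hk⟩ : H)
  have hnU : (n : G) ∈ normalizer (U : Set G) := by
    refine hJN _ fun A hA => ?_
    rintro _ ⟨x, hx, rfl⟩
    have hx' : (⟨x, hTH (hA.1 hx)⟩ : H) ∈ ((T.subtype hTH : Sylow 2 H) : Subgroup H) ⊓ C :=
      ⟨mem_subgroupOf.2 (hA.1 hx), mem_subgroupOf.2 (hAV A hA hx)⟩
    exact mem_subgroupOf.1 ((mem_normalizer_iff.1 hn _).1 hx').1
  have hcU : (c : G) ∈ normalizer (U : Set G) :=
    centralizer_le_normalizer _ (centralizer_le hUV (mem_subgroupOf.1 hc))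
  have := mul_mem hcU hnU
  rwa [show (c : G) * n = k from (congrArg Subtype.val he).symm] at this

/-- **The normality criterion.** -/
theorem normal_of_niceOn (hfree : ¬ Cfsg.Involves (Equiv.Perm (Fin 4)) G)
    (hsolv : Group.IsSolvable G) (hchar : centralizer (pCore 2 G : Set G) ≤ pCore 2 G)
    (T : Sylow 2 G) {U : Subgroup G} (hU : IsElementaryAbelian 2 U) (hUT : U ≤ T)
    (hTU : (T : Subgroup G) ≤ normalizer (U : Set G)) (hnice : NiceOn T U)
    (hJN : ∀ g : G, (∀ A ∈ maxElemIn 2 (T : Subgroup G), cnj g A ≤ (T : Subgroup G)) →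
      g ∈ normalizer (U : Set G)) : U.Normal := by
  suffices key : ∀ (n : ℕ) {G : Type u} [Group G] [Finite G], Nat.card G ≤ n →
      ¬ Cfsg.Involves (Equiv.Perm (Fin 4)) G → Group.IsSolvable G →
      centralizer (pCore 2 G : Set G) ≤ pCore 2 G → ∀ (T : Sylow 2 G) (U : Subgroup G),
      IsElementaryAbelian 2 U → U ≤ T → (T : Subgroup G) ≤ normalizer (U : Set G) →
      NiceOn T U → (∀ g : G, (∀ A ∈ maxElemIn 2 (T : Subgroup G), cnj g A ≤ (T : Subgroup G)) →
        g ∈ normalizer (U : Set G)) → U.Normal from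
    key _ le_rfl hfree hsolv hchar T U hU hUT hTU hnice hJN
  intro n
  induction n with
  | zero => intro G _ _ h; exact absurd h (Nat.not_le.2 Nat.card_pos)
  | succ n ih =>
    intro G _ _ hn hfree hsolv hchar T U hU hUT hTU hnice hJN
    haveI : Fact (Nat.Prime 2) := ⟨Nat.prime_two⟩
    haveI := hsolv
    have hUQ := le_pCore_of_niceOn hfree hsolv hchar T hU hUT hTU hnice
    set Q := pCore 2 G with hQ
    haveI : Q.Normal := CfsgLib.Solvable.pCore_normal 2 G
    set R := pPrimeCore 2 (G ⧸ Q) with hR
    haveI : R.Normal := CfsgLib.Solvable.pPrimeCore_normal 2 (G ⧸ Q)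
    set K := R.comap (QuotientGroup.mk' Q) with hK
    haveI : K.Normal := inferInstanceAs (R.comap (QuotientGroup.mk' Q)).Normal
    have hKU : K ≤ normalizer (U : Set G) := comap_le_normalizer hfree T hU hUQ hTU hnice hJN
      (CfsgLib.Solvable.pPrimeCore_coprime 2)
    have hQK : Q ≤ K := fun x hx => by
      show QuotientGroup.mk' Q x ∈ R
      rw [show QuotientGroup.mk' Q x = 1 from (QuotientGroup.eq_one_iff x).2 hx]
      exact one_mem _
    rw [← normalizer_eq_top_iff]
    refine eq_top_iff.2 ?_
    set K₂ := (pCore 2 (G ⧸ K)).comap (QuotientGroup.mk' K) with hK₂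
    haveI : (pCore 2 (G ⧸ K)).Normal := CfsgLib.Solvable.pCore_normal 2 _
    haveI : K₂.Normal := inferInstanceAs ((pCore 2 (G ⧸ K)).comap (QuotientGroup.mk' K)).Normal
    have hKK₂ : K ≤ K₂ := fun x hx => by
      show QuotientGroup.mk' K x ∈ pCore 2 (G ⧸ K)
      rw [show QuotientGroup.mk' K x = 1 from (QuotientGroup.eq_one_iff x).2 hx]
      exact one_mem _
    set T₂ := (T : Subgroup G) ⊓ K₂ with hT₂
    have hK₂le : K₂ ≤ K ⊔ T₂ := normal_pGroup_quotient_le T hKK₂ (pCore_comap_relIndex K)
    by_cases hN : T₂.Normal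
    · -- then `G = K`
      have hT₂K : T₂ ≤ K :=
        (CfsgLib.Solvable.le_pCore hN (T.2.to_le inf_le_left)).trans hQK
      have h0 : pCore 2 (G ⧸ K) = ⊥ := by
        refine le_bot_iff.1 fun x hx => ?_
        obtain ⟨g, rfl⟩ := QuotientGroup.mk'_surjective K x
        have hg : g ∈ K := (sup_le le_rfl hT₂K : K ⊔ T₂ ≤ K) (hK₂le hx)
        rw [mem_bot]
        exact (QuotientGroup.eq_one_iff g).2 hg
      have h1 : pPrimeCore 2 (G ⧸ K) = ⊥ := by
        set P := pPrimeCore 2 (G ⧸ K) with hP
        haveI : P.Normal := CfsgLib.Solvable.pPrimeCore_normal 2 _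
        set D := P.comap (QuotientGroup.mk' K) with hD
        haveI : D.Normal := inferInstanceAs (P.comap (QuotientGroup.mk' K)).Normal
        have hKD : K ≤ D := fun x hx => by
          show QuotientGroup.mk' K x ∈ P
          rw [show QuotientGroup.mk' K x = 1 from (QuotientGroup.eq_one_iff x).2 hx]
          exact one_mem _
        have e1 : K.relIndex D = Nat.card P := by
          have h := relIndex_comap (⊥ : Subgroup (G ⧸ K)) (QuotientGroup.mk' K) D
          rw [MonoidHom.comap_bot, QuotientGroup.ker_mk', hD, map_comap_eq_self_of_surjective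
            (QuotientGroup.mk'_surjective K), relIndex_bot_left] at h
          exact h
        have e2 : Q.relIndex K = Nat.card R := by
          have h := relIndex_comap (⊥ : Subgroup (G ⧸ Q)) (QuotientGroup.mk' Q) K
          rw [MonoidHom.comap_bot, QuotientGroup.ker_mk', hK, map_comap_eq_self_of_surjective
            (QuotientGroup.mk'_surjective Q), relIndex_bot_left] at h
          exact h
        have e3 : Nat.card ↥(D.map (QuotientGroup.mk' Q)) = Q.relIndex D := by
          have h := relIndex_comap (⊥ : Subgroup (G ⧸ Q)) (QuotientGroup.mk' Q) D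
          rw [MonoidHom.comap_bot, QuotientGroup.ker_mk', relIndex_bot_left] at h
          exact h.symm
        have hDR : D.map (QuotientGroup.mk' Q) ≤ R := by
          refine CfsgLib.Solvable.le_pPrimeCore
            (Normal.map inferInstance _ (QuotientGroup.mk'_surjective Q)) ?_
          rw [e3, ← relIndex_mul_relIndex Q K D hQK hKD, e1, e2]
          exact (CfsgLib.Solvable.pPrimeCore_coprime 2).mul_left
            (CfsgLib.Solvable.pPrimeCore_coprime 2)
        refine le_bot_iff.1 fun x hx => ?_
        obtain ⟨g, rfl⟩ := QuotientGroup.mk'_surjective K x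
        have hg : g ∈ K := map_le_iff_le_comap.1 hDR (show g ∈ D from hx)
        rw [mem_bot]
        exact (QuotientGroup.eq_one_iff g).2 hg
      intro g _
      refine hKU ((QuotientGroup.eq_one_iff g).1 ?_)
      have h2 := centralizer_pPrimeCore_quotient hsolv K h0
      rw [h1] at h2
      exact mem_bot.1 (h2 (fun z hz => by rw [mem_bot.1 hz]; simp))
    · -- induction in `N(T₂)`
      set L := normalizer (T₂ : Set G) with hL
      have hTL : (T : Subgroup G) ≤ L := fun t ht => by
        refine mem_normalizer_iff_map_conj_eq.2 (eq_of_le_of_card_ge ?_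
          (card_map_of_injective (MulAut.conj t).injective).ge)
        rintro _ ⟨x, hx, rfl⟩
        exact mem_inf.2 ⟨(T : Subgroup G).mul_mem ((T : Subgroup G).mul_mem ht hx.1)
          ((T : Subgroup G).inv_mem ht), Normal.conj_mem inferInstance x hx.2 t⟩
      have hLn : Nat.card L ≤ n := by
        have hne : L ≠ ⊤ := fun h => hN (normalizer_eq_top_iff.1 h)
        have h1 : Nat.card L < Nat.card G := by
          rcases lt_or_eq_of_le (Subgroup.card_le_card_group L) with h | h
          · exact h
          · exact absurd (eq_top_of_card_eq L h) hne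
        omega
      have hQT : Q ≤ (T : Subgroup G) := CfsgLib.Solvable.pCore_le_sylow T
      have hQL : Q.subgroupOf L ≤ pCore 2 L :=
        CfsgLib.Solvable.le_pCore inferInstance
          (T.2.to_le hQT |>.of_equiv (subgroupOfEquivOfLe (hQT.trans hTL)).symm)
      have hcharL : centralizer (pCore 2 L : Set L) ≤ pCore 2 L := fun x hx => by
        refine hQL (mem_subgroupOf.2 (hchar fun y hy => ?_))
        exact congrArg Subtype.val (hx ⟨y, hQT.trans hTL hy⟩ (hQL (mem_subgroupOf.2 hy)))
      have hUL : U ≤ L := hUT.trans hTL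
      have hsub : ((T.subtype hTL : Sylow 2 L) : Subgroup L) = (T : Subgroup G).subgroupOf L := rfl
      have hnorm : (U.subgroupOf L).Normal := by
        refine ih hLn (fun h => hfree (CfsgLib.Complement.involves_of_subgroup h)) inferInstance
          hcharL (T.subtype hTL) (U.subgroupOf L)
          (elemAb_comap_of_injective L.subtype_injective hU) (comap_mono hUT) ?_ ?_ ?_
        · intro t ht
          rw [mem_normalizer_iff]
          intro x
          simpa [mem_subgroupOf] using mem_normalizer_iff.1 (hTU (mem_subgroupOf.1 ht)) x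
        · refine niceOn_comap L.subtype_injective ?_
          rw [hsub, map_subgroupOf_eq_of_le hTL, map_subgroupOf_eq_of_le hUL]
          exact hnice
        · intro g hg
          rw [mem_normalizer_iff]
          intro x
          have hgU : (g : G) ∈ normalizer (U : Set G) := by
            refine hJN _ fun A hA => ?_
            have hA' : A.subgroupOf L ∈ maxElemIn 2 ((T.subtype hTL : Sylow 2 L) : Subgroup L) := by
              refine ⟨comap_mono hA.1, elemAb_comap_of_injective L.subtype_injective hA.2.1,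
                fun B hB hBe => ?_⟩
              have h1 := hA.2.2 (B.map L.subtype) (map_le_iff_le_comap.2 hB) (elemAb_map _ hBe)
              rw [card_map_of_injective L.subtype_injective] at h1
              rw [Nat.card_congr (subgroupOfEquivOfLe (hA.1.trans hTL)).toEquiv]
              exact h1
            rintro _ ⟨y, hy, rfl⟩
            exact mem_subgroupOf.1 (hg _ hA' ⟨⟨y, hTL (hA.1 hy)⟩, mem_subgroupOf.2 hy, rfl⟩)
          simpa [mem_subgroupOf] using mem_normalizer_iff.1 hgU x
      have hLU : L ≤ normalizer (U : Set G) := le_normalizer_of_normal_subgroupOf hUL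
      intro g _
      obtain ⟨c, hc, m, hm, rfl⟩ := frattini_mul T K₂ g
      exact mul_mem ((sup_le hKU (inf_le_left.trans hTU) : K ⊔ T₂ ≤ _) (hK₂le hc)) (hLU hm)

end CfsgLib.ClassK.Nice
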