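import Cfsg.Agent.Lib.ClassK.NiceSwing
import Cfsg.Agent.Lib.PLocal.Offender
import Cfsg.Agent.Lib.PLocal.Thompson
import Cfsg.Agent.Lib.PLocal.Sylow

/-!
# No offenders on the closure of a far from offending subgroup

`G` solvable without a section `S₄`, `T` a Sylow `2`-subgroup, `U ≤ O₂(G)` normal in `T`, far from
offending and centralized by the largest elementary abelian subgroups of `T`: these centralize the
closure of `U` under the preimage of `O_{2'}(G / O₂(G))`.
-/

set_option autoImplicit false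
set_option linter.unusedSectionVars false
set_option linter.style.haveILetI false

namespace CfsgLib.ClassK.Nice

open Cfsg Subgroup CfsgLib.PLocal
open scoped commutatorElement

universe u

variable {G : Type u} [Group G]

/-- The conjugate `g H g⁻¹`. -/
abbrev cnj (g : G) (H : Subgroup G) : Subgroup G := H.map (MulAut.conj g).toMonoidHom

theorem mem_cnj {g : G} {H : Subgroup G} {x : G} : x ∈ cnj g H ↔ g⁻¹ * x * g ∈ H := by
  constructor
  · rintro ⟨h, hh, rfl⟩
    simpa [mul_assoc] using hh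
  · exact fun h => ⟨_, h, by simp [mul_assoc]⟩

theorem cnj_mul (g h : G) (H : Subgroup G) : cnj (g * h) H = cnj g (cnj h H) := by
  ext x; simp [mem_cnj, mul_assoc]

theorem cnj_one (H : Subgroup G) : cnj 1 H = H := by ext x; simp [mem_cnj]

theorem cnj_cancel (g : G) (H : Subgroup G) : cnj g (cnj g⁻¹ H) = H := by
  rw [← cnj_mul, mul_inv_cancel, cnj_one]

theorem cnj_eq_iff {g : G} {H : Subgroup G} : cnj g H = H ↔ g ∈ normalizer (H : Set G) :=
  mem_normalizer_iff_map_conj_eq.symm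

theorem elemAb_sSup {S : Set (Subgroup G)} (h : ∀ A ∈ S, IsElementaryAbelian 2 A)
    (hc : ∀ A ∈ S, ∀ B ∈ S, A ≤ centralizer (B : Set G)) : IsElementaryAbelian 2 (sSup S) := by
  have hle : sSup S ≤ centralizer ((sSup S : Subgroup G) : Set G) :=
    sSup_le fun A hA => le_centralizer_iff.1 (sSup_le fun B hB => hc B hB A hA)
  refine ⟨⟨⟨fun x y => Subtype.ext (hle y.2 _ x.2)⟩⟩, fun x hx => ?_⟩
  let E : Subgroup G :=
    { carrier := {x | x ∈ sSup S ∧ x ^ 2 = 1}
      one_mem' := ⟨one_mem _, one_pow _⟩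
      mul_mem' := fun {x z} hx hz => ⟨mul_mem hx.1 hz.1, by
        rw [(show Commute x z from hle hz.1 _ hx.1).mul_pow, hx.2, hz.2, one_mul]⟩
      inv_mem' := fun {x} hx => ⟨inv_mem hx.1, by rw [inv_pow, hx.2, inv_one]⟩ }
  exact ((sSup_le fun A hA z hz => (⟨le_sSup hA hz, (h A hA).2 z hz⟩ : z ∈ E)) : sSup S ≤ E) hx |>.2

variable [Finite G]

theorem maxElemIn_card_le {T A Y : Subgroup G} (hA : A ∈ maxElemIn 2 T)
    (hY : IsElementaryAbelian 2 Y) (hYT : Y ≤ T) :
    Nat.card Y * Nat.card ↥(A ⊓ centralizer (Y : Set G)) ≤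
      Nat.card A * Nat.card ↥(Y ⊓ centralizer (A : Set G)) := by
  have h1 := card_mul_le_card_sup_mul_inf Y (A ⊓ centralizer (Y : Set G))
  refine h1.trans (Nat.mul_le_mul ?_ (card_le_of_le ?_))
  · exact hA.2.2 _ (sup_le hYT (inf_le_left.trans hA.1))
      (elemAb_sup hY (elemAb_mono hA.2.1 inf_le_left) (le_centralizer_iff.1 inf_le_right))
  · exact le_inf inf_le_left
      ((inf_le_right.trans inf_le_left).trans (elemAb_le_centralizer hA.2.1))

/-- Conjugates of a far from offending `U` inside `Q` commute. -/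
theorem le_centralizer_cnj {T Q U : Subgroup G} [Q.Normal] (hQT : Q ≤ T)
    (hU : IsElementaryAbelian 2 U) (hUQ : U ≤ Q) (hnice : NiceOn T U) (g : G) :
    cnj g U ≤ centralizer (U : Set G) := by
  have hQ : ∀ k : G, cnj k U ≤ Q := fun k => by
    rintro _ ⟨u, hu, rfl⟩
    exact Normal.conj_mem inferInstance u (hUQ hu) k
  have h1 : Nice U (cnj g U) :=
    hnice _ ((hQ g).trans hQT) (elemOn_of_elemAb (elemAb_map _ hU))
  have h2 : Nice U (cnj g⁻¹ U) :=
    hnice _ ((hQ g⁻¹).trans hQT) (elemOn_of_elemAb (elemAb_map _ hU))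
  have hi : Function.Injective (MulAut.conj g).toMonoidHom := (MulAut.conj g).injective
  replace h2 := (nice_map_iff hi _ _).2 h2
  change Nice (cnj g U) (cnj g (cnj g⁻¹ U)) at h2
  rw [cnj_cancel] at h2
  unfold Nice at h1 h2
  have hcard : Nat.card ↥(cnj g U) = Nat.card U := card_map_of_injective hi
  rw [hcard] at h1 h2
  rw [inf_comm] at h2
  set c := Nat.card ↥(cnj g U ⊓ centralizer (U : Set G)) with hc
  set c' := Nat.card ↥(U ⊓ centralizer ((cnj g U : Subgroup G) : Set G)) with hc'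
  have hc2 : Nat.card ↥(centralizer (U : Set G) ⊓ cnj g U) = c := by rw [inf_comm]
  rw [hc2] at h2
  set n := Nat.card U with hn
  have hcp : 0 < c := Nat.card_pos
  have hc'p : 0 < c' := Nat.card_pos
  have hnp : 0 < n := Nat.card_pos
  have hcn : c ≤ n := hcard ▸ card_le_of_le inf_le_left
  have hc'n : c' ≤ n := card_le_of_le inf_le_left
  have h4 : n * n ≤ c * c' := by
    refine Nat.le_of_mul_le_mul_right ?_ (Nat.mul_pos hcp hc'p)
    refine Nat.le_of_mul_le_mul_right ?_ (Nat.mul_pos hnp hnp)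
    calc n * n * (c * c') * (n * n) = (n ^ 2 * c') * (n ^ 2 * c) := by ring
      _ ≤ (n * c ^ 2) * (n * c' ^ 2) := Nat.mul_le_mul h1 h2
      _ = _ := by ring
  have h5 : n ≤ c := by
    refine Nat.le_of_mul_le_mul_right ?_ hc'p
    calc n * c' ≤ n * n := Nat.mul_le_mul_left _ hc'n
      _ ≤ c * c' := h4
  have he := eq_of_le_of_card_ge (inf_le_left : cnj g U ⊓ centralizer (U : Set G) ≤ cnj g U)
    (by rw [← hc, hcard]; exact h5)
  exact inf_eq_left.1 he

/-- The largest elementary abelian subgroups of `T` centralize `⟨U^K⟩`. -/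
theorem maxElemIn_centralizes (hfree : ¬ Cfsg.Involves (Equiv.Perm (Fin 4)) G)
    (T : Sylow 2 G) {U : Subgroup G} (hU : IsElementaryAbelian 2 U) (hUQ : U ≤ pCore 2 G)
    (hTU : (T : Subgroup G) ≤ normalizer (U : Set G)) (hnice : NiceOn T U)
    [(pCore 2 G).Normal] {R : Subgroup (G ⧸ pCore 2 G)} [R.Normal]
    (hR : (Nat.card R).Coprime 2) :
    ∀ A ∈ maxElemIn 2 (T : Subgroup G), ∀ g : G, QuotientGroup.mk' (pCore 2 G) g ∈ R →
      A ≤ centralizer ((cnj g U : Subgroup G) : Set G) := by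
  haveI : Fact (Nat.Prime 2) := ⟨Nat.prime_two⟩
  set Q := pCore 2 G with hQ
  have hQT : Q ≤ (T : Subgroup G) := CfsgLib.Solvable.pCore_le_sylow T
  set q := QuotientGroup.mk' Q with hq
  set S := {W : Subgroup G | ∃ g, q g ∈ R ∧ cnj g U = W} with hS
  set V := sSup S with hV
  have hatomQ : ∀ g, cnj g U ≤ Q := fun g => by
    rintro _ ⟨u, hu, rfl⟩
    exact Normal.conj_mem inferInstance u (hUQ hu) g
  have hatomT : ∀ g, Q ≤ normalizer ((cnj g U : Subgroup G) : Set G) := fun g x hx => by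
    rw [← cnj_eq_iff, ← cnj_mul, show x * g = g * (g⁻¹ * x * g) by group, cnj_mul,
      cnj_eq_iff.2 (hTU (hQT (by simpa using Normal.conj_mem inferInstance x hx g⁻¹)))]
  have hVab : IsElementaryAbelian 2 V := by
    refine elemAb_sSup ?_ ?_
    · rintro _ ⟨g, -, rfl⟩; exact elemAb_map _ hU
    · rintro _ ⟨g, -, rfl⟩ _ ⟨h, -, rfl⟩
      rintro _ ⟨u, hu, rfl⟩ z hz
      obtain ⟨w, hw, rfl⟩ := hz
      have h1 := le_centralizer_cnj hQT hU hUQ hnice (h⁻¹ * g) (x := h⁻¹ * (g * u * g⁻¹) * h)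
        (mem_cnj.2 (by simpa [mul_assoc] using hu)) w hw
      show h * w * h⁻¹ * (g * u * g⁻¹) = g * u * g⁻¹ * (h * w * h⁻¹)
      calc h * w * h⁻¹ * (g * u * g⁻¹) = h * (w * (h⁻¹ * (g * u * g⁻¹) * h)) * h⁻¹ := by group
        _ = h * (h⁻¹ * (g * u * g⁻¹) * h * w) * h⁻¹ := by rw [h1]
        _ = _ := by group
  have hVQ : V ≤ Q := sSup_le (by rintro _ ⟨g, -, rfl⟩; exact hatomQ g)
  have hVT : (T : Subgroup G) ≤ normalizer (V : Set G) := by
    intro t ht
    refine mem_normalizer_iff_map_conj_eq.2 (eq_of_le_of_card_ge ?_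
      (card_map_of_injective (MulAut.conj t).injective).ge)
    refine map_le_iff_le_comap.2 (sSup_le ?_)
    rintro _ ⟨g, hg, rfl⟩
    rw [← map_le_iff_le_comap]
    refine le_sSup_of_le (b := cnj (t * g * t⁻¹) U) ⟨_, ?_, rfl⟩ (le_of_eq ?_)
    · simp only [map_mul, map_inv]
      exact Normal.conj_mem inferInstance _ hg _
    · conv_rhs => rw [cnj_mul, cnj_mul, cnj_eq_iff.2 (hTU (inv_mem ht))]
      rfl
  intro A₀ hA₀ g₀ hg₀
  refine le_trans ?_ (centralizer_le (show ((cnj g₀ U : Subgroup G) : Set G) ⊆ (V : Set G) from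
    (le_sSup (⟨g₀, hg₀, rfl⟩ : cnj g₀ U ∈ S) : cnj g₀ U ≤ V)))
  by_contra hA₀V
  -- quadratic replacement
  obtain ⟨hA, hquad', hne⟩ := maxElemIn_replace (hVQ.trans hQT) hVT hVab hA₀
  set A := ⁅V, A₀⁆ ⊔ (A₀ ⊓ centralizer ((⁅V, A₀⁆ : Subgroup G) : Set G)) with hAdef
  have hAV : ¬ A ≤ centralizer (V : Set G) := fun h => hne
    (fun e => hA₀V (le_centralizer_iff.1 (commutator_eq_bot_iff_le_centralizer.1 e)))
    (commutator_eq_bot_iff_le_centralizer.2 (le_centralizer_iff.1 h))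
  clear_value A
  clear hA₀ hA₀V hne hAdef A₀ g₀ hg₀
  have hquad : ∀ v ∈ V, ∀ a ∈ A, ∀ b ∈ A,
      b * (a * v * a⁻¹ * v⁻¹) * b⁻¹ = a * v * a⁻¹ * v⁻¹ := by
    intro v hv a ha b hb
    have h1 : a * v * a⁻¹ * v⁻¹ ∈ ⁅V, A⁆ := by
      rw [commutator_comm]
      exact commutator_mem_commutator ha hv
    have h2 := commutator_eq_bot_iff_le_centralizer.1 hquad' h1 b hb
    rw [h2, mul_inv_cancel_right]
  have hAT : A ≤ (T : Subgroup G) := hA.1
  have hA2 : ∀ a ∈ A, a * a = 1 := fun a ha => by rw [← pow_two]; exact hA.2.1.2 a ha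
  -- atoms normalized by `A`
  set Kc := (R ⊓ centralizer ((A.map q : Subgroup (G ⧸ Q)) : Set (G ⧸ Q))).comap q with hKc
  have hKcQ : ∀ c ∈ Kc, ∀ b ∈ A, c⁻¹ * b * c * b⁻¹ ∈ Q := fun c hc b hb => by
    have h1 : q b * q c = q c * q b := hc.2 (q b) ⟨b, hb, rfl⟩
    refine (QuotientGroup.eq_one_iff _).1 ?_
    show q (c⁻¹ * b * c * b⁻¹) = 1
    simp only [map_mul, map_inv]
    rw [mul_assoc (q c)⁻¹, h1, inv_mul_cancel_left, mul_inv_cancel]
  have hKcT : ∀ c ∈ Kc, ∀ x ∈ A ⊔ Q, c⁻¹ * x * c ∈ (T : Subgroup G) := by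
    intro c hc x hx
    have hle : (A ⊔ Q).map (MulAut.conj c⁻¹).toMonoidHom ≤ (T : Subgroup G) := by
      rw [Subgroup.map_sup]
      refine sup_le ?_ ?_
      · rintro _ ⟨b, hb, rfl⟩
        have h1 := mul_mem (hQT (hKcQ c hc b hb)) (hAT hb)
        simpa [mul_assoc] using h1
      · rintro _ ⟨x, hx, rfl⟩
        exact hQT (Normal.conj_mem inferInstance x hx _)
    simpa using hle ⟨x, hx, rfl⟩
  have hatomA : ∀ c ∈ Kc, A ≤ centralizer ((cnj c U : Subgroup G) : Set G) := by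
    intro c hc
    have hi : Function.Injective (MulAut.conj c).toMonoidHom := (MulAut.conj c).injective
    have hle : cnj c⁻¹ A ≤ (T : Subgroup G) := fun x hx => by
      rw [mem_cnj, inv_inv] at hx
      have := hKcT c hc _ (mem_sup_left hx)
      simpa [mul_assoc] using this
    have h1 := (nice_map_iff hi U (cnj c⁻¹ A)).2
      (hnice _ hle (elemOn_of_elemAb (elemAb_map _ hA.2.1)))
    change Nice (cnj c U) (cnj c (cnj c⁻¹ A)) at h1
    rw [cnj_cancel] at h1
    have h2 := maxElemIn_card_le hA (elemAb_map _ hU : IsElementaryAbelian 2 (cnj c U))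
      ((hatomQ c).trans hQT)
    unfold Nice at h1
    set y := Nat.card ↥(cnj c U)
    set k := Nat.card ↥(A ⊓ centralizer ((cnj c U : Subgroup G) : Set G)) with hk
    set f := Nat.card ↥(cnj c U ⊓ centralizer (A : Set G))
    have h3 : Nat.card A ≤ k := by
      have hpos : 0 < Nat.card A * f := Nat.mul_pos Nat.card_pos Nat.card_pos
      refine Nat.le_of_mul_le_mul_right ?_ hpos
      calc Nat.card A * (Nat.card A * f) = Nat.card A ^ 2 * f := by ring
        _ ≤ y * k ^ 2 := h1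
        _ = y * k * k := by ring
        _ ≤ Nat.card A * f * k := Nat.mul_le_mul_right _ h2
        _ = _ := by ring
    exact inf_eq_left.1 (eq_of_le_of_card_ge inf_le_left (hk ▸ h3))
  set P := sSup {W : Subgroup G | ∃ c ∈ Kc, cnj c U = W} with hP
  have hPA : A ≤ centralizer (P : Set G) := le_centralizer_iff.1 <| sSup_le <| by
    rintro _ ⟨c, hc, rfl⟩
    exact le_centralizer_iff.1 (hatomA c hc)
  have hPnorm : ∀ t : G, (∀ c ∈ Kc, ∃ c' ∈ Kc, cnj t (cnj c U) = cnj c' U) →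
      t ∈ normalizer (P : Set G) := fun t ht => by
    refine mem_normalizer_iff_map_conj_eq.2 (eq_of_le_of_card_ge ?_
      (card_map_of_injective (MulAut.conj t).injective).ge)
    refine map_le_iff_le_comap.2 (sSup_le ?_)
    rintro _ ⟨c, hc, rfl⟩
    rw [← map_le_iff_le_comap]
    obtain ⟨c', hc', he⟩ := ht c hc
    exact he.le.trans (le_sSup ⟨c', hc', rfl⟩)
  have hQP : Q ≤ normalizer (P : Set G) := fun x hx =>
    hPnorm x fun c hc => ⟨c, hc, cnj_eq_iff.2 (hatomT c hx)⟩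
  have hKcP : Kc ≤ normalizer (P : Set G) := fun x hx =>
    hPnorm x fun c hc => ⟨x * c, mul_mem hx hc, (cnj_mul _ _ _).symm⟩
  have hS₀ : ¬ R ≤ (normalizer (P : Set G)).map q := fun hle => by
    refine hAV (hPA.trans (centralizer_le ?_))
    show V ≤ P
    refine sSup_le ?_
    rintro _ ⟨g, hg, rfl⟩
    obtain ⟨n, hn, hng⟩ := hle hg
    have hgn : g ∈ normalizer (P : Set G) := by
      have h1 : n⁻¹ * g ∈ Q := (QuotientGroup.eq_one_iff _).1
        (by show q (n⁻¹ * g) = 1; rw [map_mul, map_inv, hng, inv_mul_cancel])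
      have := mul_mem hn (hQP h1)
      rwa [mul_inv_cancel_left] at this
    calc cnj g U ≤ cnj g P := map_mono (le_sSup ⟨1, one_mem _, cnj_one _⟩)
      _ = P := cnj_eq_iff.2 hgn
  obtain ⟨B, a, g, hBA, haA, hAQB, hBa, hgR, hgS, hgB⟩ := exists_hyperplane Q
    (fun b hb => by rw [hA2 b hb]; exact one_mem _)
    (fun b hb c hc => by rw [elemAb_comm hA.2.1 hb hc]; simp) hR hS₀
  rw [← hq] at hBa hgR hgS hgB
  have ha2 : a * a = 1 := hA2 a haA
  set d := g⁻¹ * a * g * a⁻¹ with hd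
  have hdR : q d ∈ R := by
    have : q d = (q g)⁻¹ * (q a * q g * (q a)⁻¹) := by simp [hd, mul_assoc]
    rw [this]
    exact mul_mem (inv_mem hgR) (Normal.conj_mem inferInstance _ hgR _)
  have hdodd : Odd (orderOf (q d)) := Nat.coprime_two_right.1
    (hR.coprime_dvd_left (Subgroup.orderOf_dvd_natCard R hdR))
  obtain ⟨y, hyd, hyodd, hdy⟩ := exists_odd_part Q (d := d) hdodd
  have hinvd : a * d * a⁻¹ * d ∈ (⊥ : Subgroup G) :=
    inverts_commutator ⊥ (by rw [ha2]; exact one_mem _)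
  have hdB : ∀ b ∈ B, q d * q b = q b * q d := fun b hb => by
    have hgb : q g ∈ centralizer ({q b} : Set (G ⧸ Q)) := by
      rintro _ rfl; exact (hgB b hb).symm
    have hab : q a ∈ centralizer ({q b} : Set (G ⧸ Q)) := by
      rintro _ rfl; rw [← map_mul, ← map_mul, elemAb_comm hA.2.1 (hBA hb) haA]
    have h1 : q d ∈ centralizer ({q b} : Set (G ⧸ Q)) := by
      simp only [hd, map_mul, map_inv]
      exact mul_mem (mul_mem (mul_mem (inv_mem hgb) hab) hgb) (inv_mem hab)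
    exact (h1 _ rfl).symm
  have hyP : y ∉ normalizer (P : Set G) := fun hy => by
    have hdP : d ∈ normalizer (P : Set G) := (sup_le (zpowers_le.2 hy) hQP) hdy
    obtain ⟨m, hm⟩ := hdodd
    set c := g * d ^ (m + 1) with hc
    have hcKc : c ∈ Kc := by
      refine ⟨?_, ?_⟩
      · show q c ∈ R
        rw [hc, map_mul, map_pow]
        exact mul_mem hgR (pow_mem hdR _)
      · show q c ∈ centralizer ((A.map q : Subgroup (G ⧸ Q)) : Set (G ⧸ Q))
        have hle : A.map q ≤ centralizer ({q c} : Set (G ⧸ Q)) := by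
          rw [← hBa]
          refine sup_le ?_ (zpowers_le.2 ?_)
          · rintro _ ⟨b, hb, rfl⟩ _ rfl
            rw [hc, map_mul, map_pow]
            exact ((show Commute (q g) (q b) from hgB b hb).mul_left
              ((show Commute (q d) (q b) from hdB b hb).pow_left (m + 1))).eq
          · rintro _ rfl
            rw [hc, map_mul, map_pow]
            have e1 : q a * q d * (q a)⁻¹ = (q d)⁻¹ := eq_inv_of_mul_eq_one_left (by
              rw [← map_inv, ← map_mul, ← map_mul, ← map_mul, mem_bot.1 hinvd, map_one])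
            have haa : q a * q a = 1 := by rw [← map_mul, ha2, map_one]
            have hinvq : (q a)⁻¹ = q a := inv_eq_of_mul_eq_one_left haa
            have e2 : q a * q g * (q a)⁻¹ = q g * q d := by
              simp [hd, mul_assoc]
            have e3 : (q d) * ((q d) ^ (m + 1))⁻¹ = (q d) ^ (m + 1) := by
              rw [mul_inv_eq_iff_eq_mul, ← pow_add, show m + 1 + (m + 1) = 2 * m + 1 + 1 by omega,
                pow_succ, ← hm, pow_orderOf_eq_one, one_mul]
            have e4 : q a * (q g * q d ^ (m + 1)) * (q a)⁻¹ = q g * q d ^ (m + 1) := by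
              calc q a * (q g * q d ^ (m + 1)) * (q a)⁻¹
                  = (q a * q g * (q a)⁻¹) * (q a * q d * (q a)⁻¹) ^ (m + 1) := by
                    rw [conj_pow]; group
                _ = q g * (q d * ((q d) ^ (m + 1))⁻¹) := by rw [e1, e2, inv_pow, mul_assoc]
                _ = _ := by rw [e3]
            exact (mul_inv_eq_iff_eq_mul.1 e4).symm
        exact fun z hz => ((hle hz) _ rfl).symm
    refine hgS ⟨g, ?_, rfl⟩
    have := mul_mem (hKcP hcKc) (inv_mem (pow_mem hdP (m + 1)))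
    rwa [hc, mul_inv_cancel_right] at this
  obtain ⟨c, hc, hyc⟩ : ∃ c ∈ Kc, y ∉ normalizer ((cnj c U : Subgroup G) : Set G) := by
    by_contra hcon
    push Not at hcon
    exact hyP (hPnorm y fun c hc => ⟨c, hc, cnj_eq_iff.2 (hcon c hc)⟩)
  set U' := cnj c U with hU'
  -- an element of prime power order moving `U'`
  obtain ⟨z, ⟨hzy, hzU'⟩, hzmin⟩ := Set.exists_min_image
    {z : G | z ∈ zpowers y ∧ z ∉ normalizer (U' : Set G)} orderOf (Set.toFinite _)
    ⟨y, mem_zpowers y, hyc⟩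
  have hzodd : Odd (orderOf z) := hyodd.of_dvd_nat (orderOf_dvd_of_mem_zpowers hzy)
  have hz1 : orderOf z ≠ 1 := fun e => hzU' (by rw [orderOf_eq_one_iff.1 e]; exact one_mem _)
  set p := (orderOf z).minFac with hpdef
  have hp : p.Prime := Nat.minFac_prime hz1
  have hpodd : Odd p := hzodd.of_dvd_nat (Nat.minFac_dvd _)
  have hzpU : z ^ p ∈ normalizer (U' : Set G) := by
    by_contra hh
    have h1 := hzmin (z ^ p) ⟨pow_mem hzy p, hh⟩
    rw [orderOf_pow_of_dvd hp.ne_zero (Nat.minFac_dvd _)] at h1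
    exact absurd h1 (Nat.not_le.2 (Nat.div_lt_self (orderOf_pos z) hp.one_lt))
  have hzd : z ∈ zpowers d := (zpowers_le.2 hyd) hzy
  have hinv : a * z * a⁻¹ * z = 1 := mem_bot.1 (inverts_zpowers ⊥ hinvd hzd)
  have haz : ∀ i : ℕ, a * z ^ i * a⁻¹ = (z ^ i)⁻¹ := fun i => by
    rw [← conj_pow, eq_inv_of_mul_eq_one_left hinv, inv_pow]
  have hzR : q z ∈ R := by
    have : zpowers d ≤ R.comap q := zpowers_le.2 hdR
    exact this hzd
  have hzB : ∀ b ∈ B, q z * q b = q b * q z := fun b hb => by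
    have h1 : zpowers d ≤ (centralizer ({q b} : Set (G ⧸ Q))).comap q :=
      zpowers_le.2 (by rintro _ rfl; exact (hdB b hb).symm)
    exact ((h1 hzd) _ rfl).symm
  set Q₁ := B ⊔ Q with hQ₁
  have hQ₁n : ∀ t : G, (∀ b ∈ B, q t * q b = q b * q t) → t ∈ normalizer (Q₁ : Set G) := by
    intro t ht
    refine mem_normalizer_iff_map_conj_eq.2 (eq_of_le_of_card_ge ?_
      (card_map_of_injective (MulAut.conj t).injective).ge)
    rw [hQ₁, Subgroup.map_sup]
    refine sup_le ?_ ?_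
    · rintro _ ⟨b, hb, rfl⟩
      have h1 : t * b * t⁻¹ * b⁻¹ ∈ Q := (QuotientGroup.eq_one_iff _).1 (by
        show q (t * b * t⁻¹ * b⁻¹) = 1
        simp only [map_mul, map_inv, ht b hb, mul_inv_cancel_right, mul_inv_cancel])
      have h2 := mul_mem (mem_sup_right (S := B) h1) (mem_sup_left (T := Q) hb)
      rwa [inv_mul_cancel_right] at h2
    · rintro _ ⟨x, hx, rfl⟩
      exact mem_sup_right (Normal.conj_mem inferInstance x hx t)
  have hzQ₁ := hQ₁n z hzB
  have hU'A : A ≤ centralizer (U' : Set G) := hatomA c hc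
  have hQ₁U' : ∀ i : ℕ, Q₁ ≤ normalizer ((cnj (z ^ i) U' : Subgroup G) : Set G) := by
    intro i x hx
    rw [← cnj_eq_iff, ← cnj_mul, show x * z ^ i = z ^ i * ((z ^ i)⁻¹ * x * z ^ i) by group, cnj_mul]
    congr 1
    refine cnj_eq_iff.2 ?_
    have hx' := (mem_normalizer_iff''.1 (pow_mem hzQ₁ i) x).1 hx
    exact (sup_le ((hBA.trans hU'A).trans (centralizer_le_normalizer _)) (hatomT c) : Q₁ ≤ _) hx'
  have hU'V : ∀ i : ℕ, cnj (z ^ i) U' ≤ V := fun i => le_sSup ⟨z ^ i * c, by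
    rw [map_mul, map_pow]; exact mul_mem (pow_mem hzR i) hc.1, cnj_mul _ _ _⟩
  set Y := sSup {W : Subgroup G | ∃ i : ℕ, cnj (z ^ i) U' = W} with hY
  have hYV : Y ≤ V := sSup_le (by rintro _ ⟨i, rfl⟩; exact hU'V i)
  have hU'Y : U' ≤ Y := le_sSup ⟨0, by rw [pow_zero, cnj_one]⟩
  have hYab : IsElementaryAbelian 2 Y := elemAb_mono hVab hYV
  have hYc : ∀ x ∈ Y, ∀ w ∈ Y, x * w = w * x := fun x hx w hw => elemAb_comm hYab hx hw
  have hY2 : ∀ x ∈ Y, x * x = 1 := fun x hx => by rw [← pow_two]; exact hYab.2 x hx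
  have hYgen : ∀ (Z : Subgroup G),
      (∀ i : ℕ, ∀ u ∈ U', z ^ i * u * (z ^ i)⁻¹ ∈ Z) → Y ≤ Z := by
    intro Z h
    refine sSup_le ?_
    rintro _ ⟨i, rfl⟩ _ ⟨u, hu, rfl⟩
    exact h i u hu
  have hYel : ∀ i : ℕ, ∀ u ∈ U', z ^ i * u * (z ^ i)⁻¹ ∈ Y := fun i u hu =>
    (le_sSup (⟨i, rfl⟩ : cnj (z ^ i) U' ∈ {W : Subgroup G | ∃ i : ℕ, cnj (z ^ i) U' = W}) :
      cnj (z ^ i) U' ≤ Y) ⟨u, hu, rfl⟩
  have hzY : z ∈ normalizer (Y : Set G) := by
    refine mem_normalizer_iff_map_conj_eq.2 (eq_of_le_of_card_ge ?_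
      (card_map_of_injective (MulAut.conj z).injective).ge)
    refine map_le_iff_le_comap.2 (hYgen _ fun i u hu => ?_)
    show z * (z ^ i * u * (z ^ i)⁻¹) * z⁻¹ ∈ Y
    convert hYel (i + 1) u hu using 1
    rw [pow_succ']; group
  have hQ₁Y : Q₁ ≤ normalizer (Y : Set G) := by
    intro x hx
    refine mem_normalizer_iff_map_conj_eq.2 (eq_of_le_of_card_ge ?_
      (card_map_of_injective (MulAut.conj x).injective).ge)
    refine map_le_iff_le_comap.2 (sSup_le ?_)
    rintro _ ⟨i, rfl⟩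
    rw [← map_le_iff_le_comap]
    exact (mem_normalizer_iff_map_conj_eq.1 (hQ₁U' i hx)).le.trans (le_sSup ⟨i, rfl⟩)
  have hau : ∀ i : ℕ, ∀ u ∈ U',
      a * (z ^ i * u * (z ^ i)⁻¹) * a⁻¹ = (z ^ i)⁻¹ * u * z ^ i := by
    intro i u hu
    calc a * (z ^ i * u * (z ^ i)⁻¹) * a⁻¹
        = (a * z ^ i * a⁻¹) * (a * u * a⁻¹) * (a * z ^ i * a⁻¹)⁻¹ := by group
      _ = _ := by rw [haz, ← hU'A haA u hu, mul_inv_cancel_right, inv_inv]
  have hsq : ∀ w : G, ∀ t : G, Odd (orderOf t) → t * t * w * (t * t)⁻¹ = w → t * w * t⁻¹ = w := by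
    intro w t ht h
    obtain ⟨k, hk⟩ := ht
    have h1 : t * t ∈ centralizer ({w} : Set G) := by
      rintro _ rfl
      conv_lhs => rw [← h]
      group
    have h2 : t = (t * t) ^ (k + 1) := by
      rw [← pow_two, ← pow_mul, show 2 * (k + 1) = 2 * k + 1 + 1 by omega, pow_succ, ← hk,
        pow_orderOf_eq_one, one_mul]
    have h3 : t ∈ centralizer ({w} : Set G) := h2 ▸ pow_mem h1 _
    rw [← h3 w rfl, mul_inv_cancel_right]
  have hodd : ∀ i : ℕ, Odd (orderOf (z ^ i)) := fun i =>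
    hzodd.of_dvd_nat (orderOf_pow_dvd i)
  -- `z ^ p` centralizes `Y`
  have hzpfix : ∀ u ∈ U', z ^ p * u * (z ^ p)⁻¹ = u := fun u hu => by
    refine hsq u _ (hodd p) ?_
    have h1 : z ^ p * u * (z ^ p)⁻¹ ∈ U' := (mem_normalizer_iff.1 hzpU u).1 hu
    have h2 := hau p u hu
    rw [← hU'A haA _ h1, mul_inv_cancel_right] at h2
    calc z ^ p * z ^ p * u * (z ^ p * z ^ p)⁻¹
        = z ^ p * (z ^ p * u * (z ^ p)⁻¹) * (z ^ p)⁻¹ := by group
      _ = z ^ p * ((z ^ p)⁻¹ * u * z ^ p) * (z ^ p)⁻¹ := by rw [h2]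
      _ = u := by group
  have hzpY : z ^ p ∈ centralizer (Y : Set G) := by
    refine le_centralizer_iff.1 ?_ (mem_zpowers (z ^ p))
    refine hYgen _ fun i u hu => ?_
    have h1 : z ^ p ∈ centralizer ({z ^ i * u * (z ^ i)⁻¹} : Set G) := by
      rintro _ rfl
      have h2 : z ^ p * (z ^ i * u * (z ^ i)⁻¹) * (z ^ p)⁻¹ = z ^ i * u * (z ^ i)⁻¹ := by
        calc z ^ p * (z ^ i * u * (z ^ i)⁻¹) * (z ^ p)⁻¹
            = z ^ i * (z ^ p * u * (z ^ p)⁻¹) * (z ^ i)⁻¹ := by
              rw [← mul_assoc, ← mul_assoc, ← pow_add, add_comm p i, pow_add]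
              group
          _ = _ := by rw [hzpfix u hu]
      conv_lhs => rw [← h2]
      group
    refine fun t ht => ?_
    have h3 : zpowers (z ^ p) ≤ centralizer ({z ^ i * u * (z ^ i)⁻¹} : Set G) := zpowers_le.2 h1
    exact ((h3 ht) _ rfl).symm
  have hp3 : p ≠ 3 := fun e => by
    refine hfree (CfsgLib.Complement.involves_symFour (W := Y) hYc hY2 (a := a) (k := z) ?_ hzY
      (e ▸ hzpY) (fun h => hzU' ?_) (by rw [ha2]; exact one_mem _)
      (by rw [hinv]; exact one_mem _))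
    · refine mem_normalizer_iff_map_conj_eq.2 (eq_of_le_of_card_ge ?_
        (card_map_of_injective (MulAut.conj a).injective).ge)
      refine map_le_iff_le_comap.2 (hYgen _ fun i u hu => ?_)
      show a * (z ^ i * u * (z ^ i)⁻¹) * a⁻¹ ∈ Y
      rw [hau i u hu]
      have : (z ^ i)⁻¹ = z ^ (i * (orderOf z - 1)) := by
        refine inv_eq_of_mul_eq_one_right ?_
        rw [← pow_add, ← mul_one_add, Nat.add_sub_cancel' (show 1 ≤ orderOf z from orderOf_pos z), mul_comm, pow_mul,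
          pow_orderOf_eq_one, one_pow]
      rw [this]
      convert hYel (i * (orderOf z - 1)) u hu using 1
      rw [← this, inv_inv]
    · rw [← cnj_eq_iff]
      refine eq_of_le_of_card_ge ?_ (card_map_of_injective (MulAut.conj z).injective).ge
      rintro _ ⟨u, hu, rfl⟩
      show z * u * z⁻¹ ∈ U'
      rw [← h u (hU'Y hu), mul_inv_cancel_right]; exact hu
  have haY : a ∈ normalizer (Y : Set G) := by
    refine mem_normalizer_iff_map_conj_eq.2 (eq_of_le_of_card_ge ?_
      (card_map_of_injective (MulAut.conj a).injective).ge)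
    refine map_le_iff_le_comap.2 (hYgen _ fun i u hu => ?_)
    show a * (z ^ i * u * (z ^ i)⁻¹) * a⁻¹ ∈ Y
    rw [hau i u hu]
    have : (z ^ i)⁻¹ = z ^ (i * (orderOf z - 1)) := by
      refine inv_eq_of_mul_eq_one_right ?_
      rw [← pow_add, ← mul_one_add, Nat.add_sub_cancel' (show 1 ≤ orderOf z from orderOf_pos z), mul_comm, pow_mul,
        pow_orderOf_eq_one, one_pow]
    rw [this]
    convert hYel (i * (orderOf z - 1)) u hu using 1
    rw [← this, inv_inv]
  have hzYC : z ∉ centralizer (Y : Set G) := fun h => hzU' (by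
    rw [← cnj_eq_iff]
    refine eq_of_le_of_card_ge ?_ (card_map_of_injective (MulAut.conj z).injective).ge
    rintro _ ⟨u, hu, rfl⟩
    show z * u * z⁻¹ ∈ U'
    rw [← h u (hU'Y hu), mul_inv_cancel_right]; exact hu)
  set Cy := Y ⊓ centralizer ({z} : Set G) with hCy
  set Ca := Y ⊓ centralizer ({a} : Set G) with hCa
  -- fixed points
  letI : CommGroup Y := { (inferInstance : Group Y) with
    mul_comm := fun x w => Subtype.ext (hYc x x.2 w w.2) }
  let φ : Y →* Y := (MonoidHom.comp (MulAut.conj z).toMonoidHom Y.subtype).codRestrict Y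
    fun x => (mem_normalizer_iff.1 hzY x).1 x.2
  let cz : ℕ → Y → Y := fun i x => ⟨z ^ i * x * (z ^ i)⁻¹,
    (mem_normalizer_iff.1 (pow_mem hzY i) x).1 x.2⟩
  obtain ⟨m, hm⟩ := hpodd
  let nm : Y →* Y :=
    { toFun := fun x => ∏ i ∈ Finset.range p, cz i x
      map_one' := Finset.prod_eq_one fun i _ => Subtype.ext (by simp [cz])
      map_mul' := fun x w => by
        rw [← Finset.prod_mul_distrib]
        refine Finset.prod_congr rfl fun i _ => Subtype.ext ?_
        show z ^ i * (x * w : G) * (z ^ i)⁻¹ = (z ^ i * x * (z ^ i)⁻¹) * (z ^ i * w * (z ^ i)⁻¹)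
        group }
  have hcz0 : ∀ x, cz 0 x = x := fun x => Subtype.ext (by simp [cz])
  have hczp : ∀ x, cz p x = x := fun x => Subtype.ext (by
    show z ^ p * (x : G) * (z ^ p)⁻¹ = x
    rw [← hzpY x x.2, mul_inv_cancel_right])
  have hczadd : ∀ i j x, cz i (cz j x) = cz (i + j) x := fun i j x => Subtype.ext (by
    show z ^ i * (z ^ j * (x : G) * (z ^ j)⁻¹) * (z ^ i)⁻¹ = z ^ (i + j) * x * (z ^ (i + j))⁻¹
    rw [pow_add]; group)
  have hnmfix : ∀ x, cz 1 (nm x) = nm x := by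
    intro x
    have h1 : cz 1 (nm x) = ∏ i ∈ Finset.range p, cz (i + 1) x := by
      let c1 : Y →* Y :=
        { toFun := cz 1
          map_one' := Subtype.ext (by simp [cz])
          map_mul' := fun x w => Subtype.ext (by
            show z ^ 1 * ((x : G) * w) * (z ^ 1)⁻¹ =
              (z ^ 1 * x * (z ^ 1)⁻¹) * (z ^ 1 * w * (z ^ 1)⁻¹)
            group) }
      show c1 (∏ i ∈ Finset.range p, cz i x) = _
      rw [map_prod]
      exact Finset.prod_congr rfl fun i _ => by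
        show cz 1 (cz i x) = _
        rw [hczadd, add_comm]
    rw [h1]
    have h3 := Finset.prod_range_succ' (fun i => cz i x) p
    have h4 := Finset.prod_range_succ (fun i => cz i x) p
    rw [h4, hczp, hcz0] at h3
    exact (mul_right_cancel h3).symm
  have hnm_mem : ∀ x, ((nm x : Y) : G) ∈ Cy := fun x => ⟨(nm x).2, centralizer_singleton_iff.2 (by
    have := congrArg Subtype.val (hnmfix x)
    simpa [cz] using this)⟩
  have hpair : ∀ v ∈ Y, a * v * a⁻¹ = v → ∀ j : ℕ,
      z ^ j * v * (z ^ j)⁻¹ * ((z ^ j)⁻¹ * v * z ^ j) ∈ centralizer (A : Set G) := by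
    intro v hv hav j
    have hjv : z ^ j * v * (z ^ j)⁻¹ ∈ Y := (mem_normalizer_iff.1 (pow_mem hzY j) v).1 hv
    have h1 : a * (z ^ j * v * (z ^ j)⁻¹) * a⁻¹ = (z ^ j)⁻¹ * v * z ^ j := by
      calc a * (z ^ j * v * (z ^ j)⁻¹) * a⁻¹
          = (a * z ^ j * a⁻¹) * (a * v * a⁻¹) * (a * z ^ j * a⁻¹)⁻¹ := by group
        _ = _ := by rw [haz, hav, inv_inv]
    have hjv' : (z ^ j)⁻¹ * v * z ^ j ∈ Y :=
      (mem_normalizer_iff''.1 (pow_mem hzY j) v).1 hv
    rw [hYc _ hjv _ hjv', ← h1]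
    intro b hb
    have h2 := hquad _ (hYV hjv) a haA b hb
    rw [inv_eq_of_mul_eq_one_left (hY2 _ hjv)] at h2
    rw [mul_inv_eq_iff_eq_mul] at h2
    exact h2
  have hnmeq : ∀ x : Y, a * (x : G) * a⁻¹ = x →
      ∃ w ∈ centralizer (A : Set G), ((nm x : Y) : G) = (x : G) * w := by
    intro x hx
    refine ⟨((∏ i ∈ Finset.range m, (cz (i + 1) x * cz (2 * m - i) x) : Y) : G), ?_, ?_⟩
    · refine (Finset.prod_induction _ (fun w : Y => (w : G) ∈ centralizer (A : Set G))
        (fun u w hu hw => mul_mem hu hw) (one_mem _) fun i hi => ?_)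
      have hi' := Finset.mem_range.1 hi
      have h1 : (cz (2 * m - i) x : G) = (z ^ (i + 1))⁻¹ * x * z ^ (i + 1) := by
        have e : cz (i + 1) (cz (2 * m - i) x) = x := by
          rw [hczadd, show i + 1 + (2 * m - i) = p by omega, hczp]
        have e2 := congrArg Subtype.val e
        calc (cz (2 * m - i) x : G)
            = (z ^ (i + 1))⁻¹ * (z ^ (i + 1) * (cz (2 * m - i) x : G) * (z ^ (i + 1))⁻¹) *
                z ^ (i + 1) := by group
          _ = _ := by
            rw [show z ^ (i + 1) * (cz (2 * m - i) x : G) * (z ^ (i + 1))⁻¹ = (x : G) from e2]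
      show (cz (i + 1) x : G) * (cz (2 * m - i) x : G) ∈ _
      rw [h1]
      exact hpair x x.2 hx (i + 1)
    · have h : nm x = x * ∏ i ∈ Finset.range m, (cz (i + 1) x * cz (2 * m - i) x) := by
        show ∏ i ∈ Finset.range p, cz i x = _
        rw [Finset.prod_mul_distrib, hm, Finset.prod_range_succ', hcz0, mul_comm, two_mul,
          Finset.prod_range_add]
        congr 2
        rw [← Finset.prod_range_reflect]
        refine Finset.prod_congr rfl fun i hi => ?_
        have hi' := Finset.mem_range.1 hi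
        congr 1
        omega
      exact congrArg Subtype.val h
  have hCyA : Cy ≤ centralizer (A : Set G) := by
    intro w hw
    have hwfix : ∀ i, cz i ⟨w, hw.1⟩ = ⟨w, hw.1⟩ := fun i => Subtype.ext (by
      show z ^ i * w * (z ^ i)⁻¹ = w
      have : z ^ i ∈ centralizer ({w} : Set G) := pow_mem (by
        rintro _ rfl; exact (hw.2 z rfl).symm) i
      rw [← this w rfl, mul_inv_cancel_right])
    have h1 : nm ⟨w, hw.1⟩ = ⟨w, hw.1⟩ := by
      show ∏ i ∈ Finset.range p, cz i ⟨w, hw.1⟩ = _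
      simp only [hwfix, Finset.prod_const, Finset.card_range]
      refine Subtype.ext ?_
      show w ^ p = w
      rw [hm, pow_succ, pow_mul, pow_two, hY2 w hw.1, one_pow, one_mul]
    suffices ∀ x : Y, ((nm x : Y) : G) ∈ centralizer (A : Set G) by
      have := this ⟨w, hw.1⟩
      rwa [h1] at this
    let Z : Subgroup G := ((centralizer (A : Set G)).comap (Y.subtype.comp nm)).map Y.subtype
    suffices hle : Y ≤ Z by
      intro x
      obtain ⟨x', hx', he⟩ := hle x.2
      rw [← Subtype.ext (show (x' : G) = x from he)]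
      exact hx'
    refine hYgen Z fun i u hu =>
      ⟨(⟨z ^ i * u * (z ^ i)⁻¹, hYel i u hu⟩ : Y), ?_, rfl⟩
    show ((nm ⟨_, hYel i u hu⟩ : Y) : G) ∈ centralizer (A : Set G)
    have he : nm ⟨_, hYel i u hu⟩ = nm ⟨u, hU'Y hu⟩ := by
      have h2 : (⟨_, hYel i u hu⟩ : Y) = cz i ⟨u, hU'Y hu⟩ := rfl
      rw [h2]
      have h3 : ∀ j x, nm (cz j x) = nm x := by
        intro j
        induction j with
        | zero => intro x; rw [hcz0]
        | succ j ih =>
          intro x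
          rw [show cz (j + 1) x = cz j (cz 1 x) by rw [hczadd], ih]
          show ∏ i ∈ Finset.range p, cz i (cz 1 x) = ∏ i ∈ Finset.range p, cz i x
          simp only [hczadd]
          have h4 := Finset.prod_range_succ' (fun i => cz i x) p
          rw [Finset.prod_range_succ, hczp, hcz0] at h4
          exact (mul_right_cancel h4).symm
      exact h3 i _
    rw [he]
    obtain ⟨w', hw', e⟩ := hnmeq ⟨u, hU'Y hu⟩ (by rw [← hU'A haA u hu, mul_inv_cancel_right])
    rw [e]
    exact mul_mem (fun b hb => (hU'A hb u hu).symm) hw'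
  have hCaA : Ca ≤ centralizer (A : Set G) := by
    intro v hv
    obtain ⟨w, hw, e⟩ := hnmeq ⟨v, hv.1⟩ (centralizer_singleton_iff.1 hv.2)
    have h1 : ((nm ⟨v, hv.1⟩ : Y) : G) ∈ centralizer (A : Set G) := hCyA (hnm_mem _)
    rw [e] at h1
    simpa using mul_mem h1 (inv_mem hw)
  have hYA : Y ⊓ centralizer (A : Set G) = Ca := le_antisymm
    (inf_le_inf_left _ (centralizer_le (Set.singleton_subset_iff.2 haA))) (le_inf inf_le_left hCaA)
  have hfour : 4 * Nat.card Ca ≤ Nat.card Y := four_mul_le_of_inverted hfree hYc hY2 haY hzY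
    (by rw [ha2]; exact one_mem _) (by rw [hinv]; exact one_mem _) hzodd hzYC
  set kB := Nat.card ↥(B ⊓ centralizer (Y : Set G)) with hkB
  -- `B` is of index at most two in `A`
  have hAB : Nat.card A ≤ 2 * Nat.card B := by
    have hle : A ≤ B ⊔ zpowers a := fun x hx => by
      have h1 : q x ∈ (B ⊔ zpowers a).map q := by
        rw [Subgroup.map_sup, MonoidHom.map_zpowers, hBa]; exact ⟨x, hx, rfl⟩
      obtain ⟨v, hv, hvx⟩ := h1
      have hvA : v ∈ A := (sup_le hBA (zpowers_le.2 haA)) hv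
      have h2 : v⁻¹ * x ∈ Q := (QuotientGroup.eq_one_iff _).1 (by
        show q (v⁻¹ * x) = 1; rw [map_mul, map_inv, hvx, inv_mul_cancel])
      have h3 := mul_mem hv
        (mem_sup_left (T := zpowers a) (hAQB (mem_inf.2 ⟨mul_mem (inv_mem hvA) hx, h2⟩)))
      rwa [mul_inv_cancel_left] at h3
    exact (card_le_of_le hle).trans
      (card_sup_zpowers_le (fun b hb => elemAb_comm hA.2.1 (hBA hb) haA) ha2)
  have hb : Nat.card Y * kB ≤ 2 * Nat.card B * Nat.card Ca := by
    have h1 := maxElemIn_card_le hA hYab (hYV.trans (hVQ.trans hQT))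
    rw [hYA] at h1
    calc Nat.card Y * kB ≤ Nat.card Y * Nat.card ↥(A ⊓ centralizer (Y : Set G)) :=
          Nat.mul_le_mul_left _ (card_le_of_le (inf_le_inf_right _ hBA))
      _ ≤ Nat.card A * Nat.card Ca := h1
      _ ≤ _ := Nat.mul_le_mul_right _ hAB
  have hCyY : Cy ≤ Y := inf_le_left
  have hzCy : ∀ w ∈ Cy, z * w * z⁻¹ = w := fun w hw => centralizer_singleton_iff.1 hw.2
  -- the stabilizer of the chain `Y ≥ Cy`
  let Sg : Subgroup G :=
    { carrier := {x | x ∈ normalizer (Y : Set G) ∧ (∀ w ∈ Cy, x * w * x⁻¹ = w) ∧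
        ∀ v ∈ Y, x * v * x⁻¹ * v⁻¹ ∈ Cy}
      one_mem' := ⟨one_mem _, fun w _ => by simp, fun v _ => by simp⟩
      mul_mem' := fun {x w} hx hw => ⟨mul_mem hx.1 hw.1, fun c hc => by
          calc x * w * c * (x * w)⁻¹ = x * (w * c * w⁻¹) * x⁻¹ := by group
            _ = c := by rw [hw.2.1 c hc, hx.2.1 c hc],
        fun v hv => by
          have h1 := hw.2.2 v hv
          have h2 : x * w * v * (x * w)⁻¹ * v⁻¹ =
              x * (w * v * w⁻¹ * v⁻¹) * x⁻¹ * (x * v * x⁻¹ * v⁻¹) := by group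
          rw [h2, hx.2.1 _ h1]
          exact mul_mem h1 (hx.2.2 v hv)⟩
      inv_mem' := fun {x} hx => ⟨inv_mem hx.1, fun c hc => by
          conv_lhs => rw [← hx.2.1 c hc]
          group,
        fun v hv => by
          have hv' : x⁻¹ * v * x ∈ Y := (mem_normalizer_iff''.1 hx.1 v).1 hv
          have h1 := inv_mem (hx.2.2 _ hv')
          convert h1 using 1
          group⟩ }
  have hBSg : B ≤ Sg := by
    intro b hb
    have hbY : b ∈ normalizer (Y : Set G) := hQ₁Y (mem_sup_left hb)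
    refine ⟨hbY, fun w hw => by rw [hCyA hw b (hBA hb), mul_inv_cancel_right], ?_⟩
    let Zb : Subgroup G :=
      { carrier := {v | v ∈ Y ∧ b * v * b⁻¹ * v⁻¹ ∈ Cy}
        one_mem' := ⟨one_mem _, by simp⟩
        mul_mem' := fun {v w} hv hw => ⟨mul_mem hv.1 hw.1, by
          have h1 : b * (v * w) * b⁻¹ * (v * w)⁻¹ =
              (b * v * b⁻¹ * v⁻¹) * (v * (b * w * b⁻¹ * w⁻¹) * v⁻¹) := by group
          rw [h1, hYc v hv.1 _ hw.2.1, mul_inv_cancel_right]
          exact mul_mem hv.2 hw.2⟩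
        inv_mem' := fun {v} hv => by
          have hi : v⁻¹ = v := inv_eq_of_mul_eq_one_left (hY2 v hv.1)
          show v⁻¹ ∈ Y ∧ b * v⁻¹ * b⁻¹ * (v⁻¹)⁻¹ ∈ Cy
          rw [hi]
          exact hv }
    suffices h : Y ≤ Zb from fun v hv => (h hv).2
    refine hYgen _ fun i u hu => ⟨hYel i u hu, hYel i u hu |> fun hvY => ?_⟩
    set v := z ^ i * u * (z ^ i)⁻¹ with hv
    set w := b * v * b⁻¹ * v⁻¹ with hw
    have hwY : w ∈ Y := mul_mem ((mem_normalizer_iff.1 hbY v).1 hvY) (inv_mem hvY)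
    refine ⟨hwY, centralizer_singleton_iff.2 ?_⟩
    by_cases hpi : p ∣ i
    · obtain ⟨j, rfl⟩ := hpi
      have hvu : v = u := by
        have h1 : z ^ (p * j) ∈ centralizer (Y : Set G) := by
          rw [pow_mul]; exact pow_mem hzpY j
        rw [hv, ← h1 u (hU'Y hu), mul_inv_cancel_right]
      have hw1 : w = 1 := by
        rw [hw, hvu, ← hU'A (hBA hb) u hu, mul_inv_cancel_right, mul_inv_cancel]
      rw [hw1]; simp
    · have haw : a * w * a⁻¹ = w := hquad v (hYV hvY) b (hBA hb) a haA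
      obtain ⟨u', hu', he⟩ : ∃ u' ∈ U', z ^ i * u' * (z ^ i)⁻¹ = w := by
        have h1 : v ∈ cnj (z ^ i) U' := ⟨u, hu, rfl⟩
        have h2 : w ∈ cnj (z ^ i) U' := mul_mem
          ((mem_normalizer_iff.1 (hQ₁U' i (mem_sup_left hb)) v).1 h1) (inv_mem h1)
        obtain ⟨u', hu', he⟩ := h2
        exact ⟨u', hu', he⟩
      have h3 : z ^ i * u' * (z ^ i)⁻¹ = u' := hsq u' _ (hodd i) (by
        have h4 : (z ^ i)⁻¹ * u' * z ^ i = z ^ i * u' * (z ^ i)⁻¹ := by
          rw [← hau i u' hu', he, haw]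
        calc z ^ i * z ^ i * u' * (z ^ i * z ^ i)⁻¹
            = z ^ i * (z ^ i * u' * (z ^ i)⁻¹) * (z ^ i)⁻¹ := by group
          _ = z ^ i * ((z ^ i)⁻¹ * u' * z ^ i) * (z ^ i)⁻¹ := by rw [h4]
          _ = u' := by group)
      rw [he] at h3
      subst h3
      have hzw : z ∈ centralizer ({w} : Set G) := by
        have h5 : z ^ i ∈ centralizer ({w} : Set G) := by
          rintro _ rfl
          conv_lhs => rw [← he]
          group
        have h6 : z ^ p ∈ centralizer ({w} : Set G) :=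
          centralizer_le (Set.singleton_subset_iff.2 hwY) hzpY
        have hcop : Nat.gcd i p = 1 := Nat.Coprime.symm ((hp.coprime_iff_not_dvd).2 hpi)
        have h7 : z = (z ^ i) ^ Nat.gcdA i p * (z ^ p) ^ Nat.gcdB i p := by
          rw [← zpow_natCast z i, ← zpow_natCast z p, ← zpow_mul, ← zpow_mul, ← zpow_add,
            ← Nat.gcd_eq_gcd_ab, hcop, Nat.cast_one, zpow_one]
        rw [h7]
        exact mul_mem (zpow_mem h5 _) (zpow_mem h6 _)
      rw [← hzw w rfl, mul_inv_cancel_right]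
  set M := Q₁ ⊓ Sg with hM
  have hBM : B ≤ M := le_inf le_sup_left hBSg
  have hMY : M ≤ normalizer (Y : Set G) := fun x hx => hx.2.1
  have hzM : z ∈ normalizer (M : Set G) := by
    refine mem_normalizer_iff_map_conj_eq.2 (eq_of_le_of_card_ge ?_
      (card_map_of_injective (MulAut.conj z).injective).ge)
    rintro _ ⟨x, ⟨hxQ, hxY, hxC, hxv⟩, rfl⟩
    refine ⟨(mem_normalizer_iff.1 hzQ₁ x).1 hxQ,
      mul_mem (mul_mem hzY hxY) (inv_mem hzY), fun w hw => ?_, fun v hv => ?_⟩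
    · show z * x * z⁻¹ * w * (z * x * z⁻¹)⁻¹ = w
      calc z * x * z⁻¹ * w * (z * x * z⁻¹)⁻¹ = z * (x * (z⁻¹ * w * z) * x⁻¹) * z⁻¹ := by group
        _ = z * (x * w * x⁻¹) * z⁻¹ := by
          have e : z⁻¹ * w * z = w := by
            conv_lhs => rw [← hzCy w hw]
            group
          rw [e]
        _ = w := by rw [hxC w hw, hzCy w hw]
    · show z * x * z⁻¹ * v * (z * x * z⁻¹)⁻¹ * v⁻¹ ∈ Cy
      have hv' : z⁻¹ * v * z ∈ Y := (mem_normalizer_iff''.1 hzY v).1 hv
      have h1 : z * x * z⁻¹ * v * (z * x * z⁻¹)⁻¹ * v⁻¹ =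
          z * (x * (z⁻¹ * v * z) * x⁻¹ * (z⁻¹ * v * z)⁻¹) * z⁻¹ := by group
      rw [h1, hzCy _ (hxv _ hv')]
      exact hxv _ hv'
  have hCyM : Cy ≤ centralizer (M : Set G) := fun w hw x hx => by
    have h1 := hx.2.2.1 w hw
    rwa [mul_inv_eq_iff_eq_mul] at h1
  have hMel : ElemOn Y M := by
    have hform : ∀ x ∈ M, ∀ v ∈ Y, ∃ w ∈ Cy, x * v * x⁻¹ = w * v := fun x hx v hv =>
      ⟨_, hx.2.2.2 v hv, by rw [inv_mul_cancel_right]⟩
    refine ⟨fun x hx => ?_, fun x hx w hw => ?_⟩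
    · intro v hv
      obtain ⟨c₁, hc₁, e⟩ := hform x hx v hv
      have h1 : x * x * v * (x * x)⁻¹ = v := by
        calc x * x * v * (x * x)⁻¹ = x * (x * v * x⁻¹) * x⁻¹ := by group
          _ = x * (c₁ * v) * x⁻¹ := by rw [e]
          _ = (x * c₁ * x⁻¹) * (x * v * x⁻¹) := by group
          _ = c₁ * (c₁ * v) := by rw [hx.2.2.1 c₁ hc₁, e]
          _ = v := by rw [← mul_assoc, hY2 c₁ hc₁.1, one_mul]
      rw [mul_inv_eq_iff_eq_mul] at h1
      exact h1.symm
    · intro v hv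
      have h3 : ∀ v' ∈ Y, x * w * v' * (x * w)⁻¹ = w * x * v' * (w * x)⁻¹ := by
        intro v' hv'
        obtain ⟨c₁, hc₁, e⟩ := hform x hx v' hv'
        obtain ⟨c₂, hc₂, e₂⟩ := hform w hw v' hv'
        calc x * w * v' * (x * w)⁻¹ = x * (w * v' * w⁻¹) * x⁻¹ := by group
          _ = (x * c₂ * x⁻¹) * (x * v' * x⁻¹) := by rw [e₂]; group
          _ = c₂ * (c₁ * v') := by rw [hx.2.2.1 c₂ hc₂, e]
          _ = c₁ * (c₂ * v') := by rw [← mul_assoc, hYc c₂ hc₂.1 c₁ hc₁.1, mul_assoc]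
          _ = (w * c₁ * w⁻¹) * (w * v' * w⁻¹) := by rw [hw.2.2.1 c₁ hc₁, e₂]
          _ = w * (x * v' * x⁻¹) * w⁻¹ := by rw [e]; group
          _ = _ := by group
      have hv' : (w * x)⁻¹ * v * (w * x) ∈ Y :=
        (mem_normalizer_iff''.1 (mul_mem (hMY hw) (hMY hx)) v).1 hv
      have h4 : x * w * x⁻¹ * w⁻¹ * v * (x * w * x⁻¹ * w⁻¹)⁻¹ = v := by
        calc x * w * x⁻¹ * w⁻¹ * v * (x * w * x⁻¹ * w⁻¹)⁻¹
            = x * w * ((w * x)⁻¹ * v * (w * x)) * (x * w)⁻¹ := by group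
          _ = w * x * ((w * x)⁻¹ * v * (w * x)) * (w * x)⁻¹ := h3 _ hv'
          _ = v := by group
      rw [mul_inv_eq_iff_eq_mul] at h4
      exact h4.symm
  set kM := Nat.card ↥(M ⊓ centralizer (Y : Set G)) with hkM
  have hc' : Nat.card M * Nat.card Ca ≤ Nat.card Y * kM := by
    have hnY : Nice Y M := by
      refine nice_sSup ?_
      rintro _ ⟨i, rfl⟩ B' hB'
      have hi : Function.Injective (MulAut.conj (z ^ i * c)).toMonoidHom :=
        (MulAut.conj (z ^ i * c)).injective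
      show Nice (cnj (z ^ i) U') B'
      rw [hU', ← cnj_mul, ← cnj_cancel (z ^ i * c) B']
      refine (nice_map_iff hi _ _).2 (hnice _ ?_ ((elemOn_map_iff hi _ _).1 ?_))
      · intro x hx
        rw [mem_cnj, inv_inv] at hx
        have h1 : z ^ i * (c * x * c⁻¹) * (z ^ i)⁻¹ ∈ Q₁ := by
          have e : z ^ i * (c * x * c⁻¹) * (z ^ i)⁻¹ = z ^ i * c * x * (z ^ i * c)⁻¹ := by group
          rw [e]
          exact (hB' hx).1
        have h2 := (mem_normalizer_iff.1 (pow_mem hzQ₁ i) (c * x * c⁻¹)).2 h1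
        have h3 := hKcT c hc _ ((sup_le_sup_right hBA Q : Q₁ ≤ A ⊔ Q) h2)
        simpa [mul_assoc] using h3
      · show ElemOn (cnj (z ^ i * c) U) (cnj (z ^ i * c) (cnj (z ^ i * c)⁻¹ B'))
        rw [cnj_cancel]
        have hcle : centralizer (Y : Set G) ≤
            centralizer ((cnj (z ^ i * c) U : Subgroup G) : Set G) := by
          rw [cnj_mul, ← hU']
          exact centralizer_le (fun x hx => (le_sSup (⟨i, rfl⟩ :
            cnj (z ^ i) U' ∈ {W : Subgroup G | ∃ i : ℕ, cnj (z ^ i) U' = W}) :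
              cnj (z ^ i) U' ≤ Y) hx)
        exact ⟨fun x hx => hcle (hMel.1 x (hB' hx)),
          fun x hx w hw => hcle (hMel.2 x (hB' hx) w (hB' hw))⟩
    unfold Nice at hnY
    have h1 : Nat.card M ^ 2 * Nat.card Cy ≤ Nat.card Y * kM ^ 2 :=
      le_trans (Nat.mul_le_mul_left _ (card_le_of_le (le_inf hCyY hCyM))) hnY
    have h2 : Nat.card Ca * Nat.card Ca ≤ Nat.card Y * Nat.card Cy := by
      have hle : cnj z Ca ≤ Y := fun x hx => by
        obtain ⟨v, hv, rfl⟩ := hx
        exact (mem_normalizer_iff.1 hzY v).1 hv.1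
      calc Nat.card Ca * Nat.card Ca = Nat.card Ca * Nat.card ↥(cnj z Ca) := by
            rw [card_map_of_injective (MulAut.conj z).injective]
        _ ≤ _ := card_mul_le_card_sup_mul_inf Ca (cnj z Ca)
        _ ≤ _ := by
          refine Nat.mul_le_mul (card_le_of_le (sup_le inf_le_left hle)) (card_le_of_le ?_)
          rintro w ⟨⟨hwY, hwa⟩, hwz⟩
          refine ⟨hwY, centralizer_singleton_iff.2 ?_⟩
          have hwa' := centralizer_singleton_iff.1 hwa
          have hwz' := centralizer_singleton_iff.1 (mem_cnj.1 hwz).2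
          refine hsq w z hzodd ?_
          have e1 : (z⁻¹ : G) = a * z * a⁻¹ := (eq_inv_of_mul_eq_one_left hinv).symm
          have h5 : z⁻¹ * (z⁻¹ * w * z) * z = w := by
            calc z⁻¹ * (z⁻¹ * w * z) * z = z⁻¹ * (a * (z⁻¹ * w * z) * a⁻¹) * z := by rw [hwz']
              _ = z⁻¹ * ((a * z * a⁻¹)⁻¹ * (a * w * a⁻¹) * (a * z * a⁻¹)) * z := by group
              _ = w := by rw [hwa', ← e1]; group
          conv_lhs => rw [← h5]
          group
    refine (Nat.pow_le_pow_iff_left two_ne_zero).1 ?_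
    calc (Nat.card M * Nat.card Ca) ^ 2 = Nat.card M ^ 2 * (Nat.card Ca * Nat.card Ca) := by ring
      _ ≤ Nat.card M ^ 2 * (Nat.card Y * Nat.card Cy) := Nat.mul_le_mul_left _ h2
      _ = Nat.card Y * (Nat.card M ^ 2 * Nat.card Cy) := by ring
      _ ≤ Nat.card Y * (Nat.card Y * kM ^ 2) := Nat.mul_le_mul_left _ h1
      _ = _ := by ring
  set N₀ := M ⊓ centralizer (Ca : Set G) with hN₀
  have hKN : M ⊓ centralizer (Y : Set G) ≤ N₀ :=
    inf_le_inf_left _ (centralizer_le (fun x hx => hx.1))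
  have hYgen2 : Y ≤ Ca ⊔ cnj z Ca := by
    set E := Ca ⊔ cnj z Ca with hE
    have hzE : ∀ x ∈ E, z * x * z⁻¹ ∈ E := by
      have hle : cnj z E ≤ E := by
        rw [hE]
        show (Ca ⊔ cnj z Ca).map _ ≤ _
        rw [Subgroup.map_sup]
        refine sup_le le_sup_right ?_
        rintro _ ⟨_, ⟨v, hv, rfl⟩, rfl⟩
        show z * (z * v * z⁻¹) * z⁻¹ ∈ _
        set w := z * v * z⁻¹ * (z⁻¹ * v * z) with hw
        have hwCa : w ∈ Ca := by
          have h1 : w ∈ centralizer (A : Set G) := by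
            have := hpair v hv.1 (centralizer_singleton_iff.1 hv.2) 1
            rwa [pow_one] at this
          exact ⟨mul_mem ((mem_normalizer_iff.1 hzY v).1 hv.1)
            ((mem_normalizer_iff''.1 hzY v).1 hv.1), fun x hx => h1 x (by rw [hx]; exact haA)⟩
        have h1 : z * (z * v * z⁻¹) * z⁻¹ = z * w * z⁻¹ * v := by
          rw [hw]
          calc z * (z * v * z⁻¹) * z⁻¹ = z * (z * v * z⁻¹) * z⁻¹ * (v * v) := by
                rw [hY2 v hv.1, mul_one]
            _ = _ := by group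
        rw [h1]
        exact mul_mem (mem_sup_right (mem_cnj.2 (by simpa [mul_assoc] using hwCa)))
          (mem_sup_left hv)
      exact fun x hx => hle ⟨x, hx, rfl⟩
    refine hYgen _ fun i u hu => ?_
    induction i with
    | zero =>
      rw [pow_zero, one_mul, inv_one, mul_one]
      exact mem_sup_left ⟨hU'Y hu, centralizer_singleton_iff.2 (by
        rw [← hU'A haA u hu, mul_inv_cancel_right])⟩
    | succ i ih =>
      have := hzE _ ih
      convert this using 1
      rw [pow_succ']; group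
  have hN₀K : N₀ ⊓ cnj z N₀ ≤ M ⊓ centralizer (Y : Set G) := by
    rintro x ⟨hx, hx'⟩
    refine ⟨hx.1, le_centralizer_iff.1 (hYgen2.trans (sup_le ?_ ?_)) (mem_zpowers x)⟩
    · exact le_centralizer_iff.1 (zpowers_le.2 hx.2)
    · rintro _ ⟨v, hv, rfl⟩
      refine fun t ht => ?_
      have h1 : x ∈ centralizer ({z * v * z⁻¹} : Set G) := by
        rintro _ rfl
        have h2 := (mem_cnj.1 hx').2 v hv
        calc z * v * z⁻¹ * x = z * (v * (z⁻¹ * x * z)) * z⁻¹ := by group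
          _ = z * ((z⁻¹ * x * z) * v) * z⁻¹ := by rw [h2]
          _ = _ := by group
      have h3 : zpowers x ≤ centralizer ({z * v * z⁻¹} : Set G) := zpowers_le.2 h1
      exact ((h3 ht) _ rfl).symm
  have hN₀z : cnj z N₀ ≤ M := by
    rintro _ ⟨x, hx, rfl⟩
    exact (mem_normalizer_iff.1 hzM x).1 hx.1
  have hcardz : ∀ (t : G) (H : Subgroup G), Nat.card ↥(cnj t H) = Nat.card H :=
    fun t H => card_map_of_injective (MulAut.conj t).injective
  have hd1 : Nat.card N₀ * Nat.card N₀ ≤ Nat.card M * kM := by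
    calc Nat.card N₀ * Nat.card N₀ = Nat.card N₀ * Nat.card ↥(cnj z N₀) := by rw [hcardz]
      _ ≤ _ := card_mul_le_card_sup_mul_inf _ _
      _ ≤ _ := Nat.mul_le_mul (card_le_of_le (sup_le inf_le_left hN₀z)) (card_le_of_le hN₀K)
  have hd2 : Nat.card B * kM ≤ Nat.card N₀ * kB := by
    refine (card_mul_le_card_sup_mul_inf _ _).trans (Nat.mul_le_mul (card_le_of_le (sup_le
      (le_inf hBM (le_centralizer_iff.1 (hCaA.trans (centralizer_le hBA)))) hKN))
      (card_le_of_le (le_inf inf_le_left (inf_le_right.trans inf_le_right))))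
  have hkBp : 0 < kB := Nat.card_pos
  have hkMp : 0 < kM := Nat.card_pos
  have hCap : 0 < Nat.card Ca := Nat.card_pos
  have hYp : 0 < Nat.card Y := Nat.card_pos
  have hB2 : 2 * kB ≤ Nat.card B := by
    refine Nat.le_of_mul_le_mul_right ?_ (show 0 < 2 * Nat.card Ca by omega)
    calc 2 * kB * (2 * Nat.card Ca) = 4 * Nat.card Ca * kB := by ring
      _ ≤ Nat.card Y * kB := Nat.mul_le_mul_right _ hfour
      _ ≤ 2 * Nat.card B * Nat.card Ca := hb
      _ = _ := by ring
  have hN2 : 2 * kM ≤ Nat.card N₀ := by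
    refine Nat.le_of_mul_le_mul_right ?_ hkBp
    calc 2 * kM * kB = 2 * kB * kM := by ring
      _ ≤ Nat.card B * kM := Nat.mul_le_mul_right _ hB2
      _ ≤ _ := hd2
  have hM2 : Nat.card M ≤ 2 * Nat.card N₀ := by
    refine Nat.le_of_mul_le_mul_right ?_ (Nat.mul_pos hkBp (Nat.mul_pos hCap hYp))
    calc Nat.card M * (kB * (Nat.card Ca * Nat.card Y))
        = (Nat.card M * Nat.card Ca) * (Nat.card Y * kB) := by ring
      _ ≤ (Nat.card Y * kM) * (2 * Nat.card B * Nat.card Ca) := Nat.mul_le_mul hc' hb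
      _ = 2 * (Nat.card B * kM) * (Nat.card Y * Nat.card Ca) := by ring
      _ ≤ 2 * (Nat.card N₀ * kB) * (Nat.card Y * Nat.card Ca) :=
          Nat.mul_le_mul_right _ (Nat.mul_le_mul_left _ hd2)
      _ = _ := by ring
  have hN₀2 : Nat.card N₀ = 2 * kM := by
    refine le_antisymm (Nat.le_of_mul_le_mul_right ?_ (show 0 < Nat.card N₀ by omega)) hN2
    calc Nat.card N₀ * Nat.card N₀ ≤ Nat.card M * kM := hd1
      _ ≤ 2 * Nat.card N₀ * kM := Nat.mul_le_mul_right _ hM2
      _ = _ := by ring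
  have hM4 : Nat.card M = 4 * kM := by
    refine le_antisymm (by omega) (Nat.le_of_mul_le_mul_right ?_ hkMp)
    calc 4 * kM * kM = Nat.card N₀ * Nat.card N₀ := by rw [hN₀2]; ring
      _ ≤ _ := hd1
  -- four conjugates of `N₀` in a four group
  have hp5 : 5 ≤ p := by
    have h2 := hp.two_le
    omega
  set K := M ⊓ centralizer (Y : Set G) with hK
  have hzpN : z ^ p ∈ normalizer (N₀ : Set G) := by
    refine mem_normalizer_iff_map_conj_eq.2 (eq_of_le_of_card_ge ?_
      (card_map_of_injective (MulAut.conj (z ^ p)).injective).ge)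
    rintro _ ⟨x, hx, rfl⟩
    refine ⟨(mem_normalizer_iff.1 (pow_mem hzM p) x).1 hx.1, fun v hv => ?_⟩
    show v * (z ^ p * x * (z ^ p)⁻¹) = z ^ p * x * (z ^ p)⁻¹ * v
    have h1 : v * z ^ p = z ^ p * v := hzpY v hv.1
    have h2 : v * x = x * v := hx.2 v hv
    calc v * (z ^ p * x * (z ^ p)⁻¹) = z ^ p * (v * x) * (z ^ p)⁻¹ := by
          rw [← mul_assoc, ← mul_assoc, h1]; group
      _ = z ^ p * x * (v * (z ^ p)⁻¹) := by rw [h2]; group
      _ = z ^ p * x * ((z ^ p)⁻¹ * v) := by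
          congr 1
          exact ((show Commute v (z ^ p) from h1).inv_right).eq
      _ = _ := by group
  have hKz : ∀ i : ℕ, ∀ x ∈ K, x ∈ cnj (z ^ i) N₀ := fun i x hx => mem_cnj.2 <| hKN
    ⟨(mem_normalizer_iff''.1 (pow_mem hzM i) x).1 hx.1, fun v hv => by
      have hv' : z ^ i * v * (z ^ i)⁻¹ ∈ Y := (mem_normalizer_iff.1 (pow_mem hzY i) v).1 hv
      have h1 := hx.2 _ hv'
      calc v * ((z ^ i)⁻¹ * x * z ^ i) = (z ^ i)⁻¹ * (z ^ i * v * (z ^ i)⁻¹ * x) * z ^ i := by
            group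
        _ = (z ^ i)⁻¹ * (x * (z ^ i * v * (z ^ i)⁻¹)) * z ^ i := by rw [h1]
        _ = _ := by group⟩
  have hint : ∀ i j : ℕ, i < j → j < i + p →
      cnj (z ^ i) N₀ ⊓ cnj (z ^ j) N₀ ≤ K := by
    intro i j hij hjp
    set I := cnj (z ^ i) N₀ ⊓ cnj (z ^ j) N₀ with hI
    have hKI : K ≤ I := fun x hx => ⟨hKz i x hx, hKz j x hx⟩
    obtain ⟨t, ht⟩ := Subgroup.card_dvd_of_le hKI
    obtain ⟨r, hr⟩ : Nat.card I ∣ 2 * kM := by
      rw [← hN₀2, ← hcardz (z ^ i) N₀]; exact Subgroup.card_dvd_of_le inf_le_left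
    change Nat.card I = kM * t at ht
    rw [ht, mul_comm 2 kM, mul_assoc] at hr
    have hr' : 2 = t * r := mul_left_cancel₀ hkMp.ne' hr
    have htI : t ≠ 2 := fun e => by
      have heq : cnj (z ^ i) N₀ = cnj (z ^ j) N₀ :=
        (eq_of_le_of_card_ge (inf_le_left : I ≤ _) (by rw [hcardz, hN₀2, ht, e, mul_comm])).symm.trans
          (eq_of_le_of_card_ge (inf_le_right : I ≤ _) (by rw [hcardz, hN₀2, ht, e, mul_comm]))
      obtain ⟨k, hk⟩ := Nat.exists_eq_add_of_lt hij
      have h1 : z ^ (k + 1) ∈ normalizer (N₀ : Set G) := by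
        rw [← cnj_eq_iff]
        have h2 := congrArg (cnj (z ^ i)⁻¹) heq
        rw [← cnj_mul, ← cnj_mul, inv_mul_cancel, cnj_one, hk, add_assoc, pow_add,
          inv_mul_cancel_left] at h2
        exact h2.symm
      have hcop : Nat.gcd (k + 1) p = 1 := Nat.Coprime.symm ((hp.coprime_iff_not_dvd).2
        fun h => absurd (Nat.le_of_dvd (Nat.succ_pos _) h) (by omega))
      have h7 : z = (z ^ (k + 1)) ^ Nat.gcdA (k + 1) p * (z ^ p) ^ Nat.gcdB (k + 1) p := by
        rw [← zpow_natCast z (k + 1), ← zpow_natCast z p, ← zpow_mul, ← zpow_mul, ← zpow_add,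
          ← Nat.gcd_eq_gcd_ab, hcop, Nat.cast_one, zpow_one]
      have hzN : z ∈ normalizer (N₀ : Set G) := by
        rw [h7]; exact mul_mem (zpow_mem h1 _) (zpow_mem hzpN _)
      have h8 : N₀ ≤ K := by
        have := hN₀K
        rwa [cnj_eq_iff.2 hzN, inf_idem] at this
      have h9 := card_le_of_le h8
      rw [hN₀2] at h9
      change 2 * kM ≤ kM at h9
      omega
    have ht1 : t = 1 := by
      have : t ∣ 2 := ⟨r, hr'⟩
      exact (Nat.prime_two.eq_one_or_self_of_dvd t this).resolve_right htI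
    exact (eq_of_le_of_card_ge hKI (by rw [ht, ht1, mul_one])).ge
  have hpick : ∀ i : ℕ, ∃ x ∈ cnj (z ^ i) N₀, x ∉ K := fun i => by
    by_contra hcon
    push Not at hcon
    have h1 := card_le_of_le (H := cnj (z ^ i) N₀) (K := K) hcon
    rw [hcardz, hN₀2] at h1
    change 2 * kM ≤ kM at h1
    omega
  choose xs hxs hxsK using hpick
  have hxM : ∀ i, xs i ∈ M := fun i => by
    have := (mem_cnj.1 (hxs i)).1
    exact (mem_normalizer_iff''.1 (pow_mem hzM i) (xs i)).2 this
  let f : Option (Fin 4) → M ⧸ K.subgroupOf M := fun o => match o with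
    | none => ((1 : M) : M ⧸ K.subgroupOf M)
    | some i => ((⟨xs i, hxM i⟩ : M) : M ⧸ K.subgroupOf M)
  have hfinj : Function.Injective f := by
    have key : ∀ i j : Fin 4, i < j → f (some i) ≠ f (some j) := fun i j hij h => by
      have h' : ((⟨xs i, hxM i⟩ : M) : M ⧸ K.subgroupOf M) = ((⟨xs j, hxM j⟩ : M) :
        M ⧸ K.subgroupOf M) := h
      have h1 : (xs i)⁻¹ * xs j ∈ K := by
        simpa [mem_subgroupOf] using QuotientGroup.eq.1 h'
      refine hxsK j (hint i j hij (by omega) ⟨?_, hxs j⟩)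
      have h2 := mul_mem (hxs i) (hKz i _ h1)
      rwa [mul_inv_cancel_left] at h2
    have key0 : ∀ i : Fin 4, f none ≠ f (some i) := fun i h => by
      have h' : ((1 : M) : M ⧸ K.subgroupOf M) = ((⟨xs i, hxM i⟩ : M) :
        M ⧸ K.subgroupOf M) := h
      have h1 : xs i ∈ K := by simpa [mem_subgroupOf] using QuotientGroup.eq.1 h'
      exact hxsK i h1
    rintro (_ | i) (_ | j) h
    · rfl
    · exact absurd h (key0 j)
    · exact absurd h.symm (key0 i)
    · rcases lt_trichotomy i j with h' | h' | h'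
      · exact absurd h (key i j h')
      · rw [h']
      · exact absurd h.symm (key j i h')
  have h5 : Nat.card (Option (Fin 4)) ≤ Nat.card (M ⧸ K.subgroupOf M) :=
    Nat.card_le_card_of_injective f hfinj
  have h6 : Nat.card (M ⧸ K.subgroupOf M) * kM = Nat.card M := by
    rw [hkM, ← Nat.card_congr (Subgroup.subgroupOfEquivOfLe (inf_le_left : K ≤ M)).toEquiv]
    exact (Subgroup.card_eq_card_quotient_mul_card_subgroup (K.subgroupOf M)).symm
  rw [show Nat.card (Option (Fin 4)) = 5 by simp] at h5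
  have h7 := Nat.mul_le_mul_right kM h5
  rw [h6, hM4] at h7
  omega

end CfsgLib.ClassK.Nice
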