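import Cfsg.Agent.Lib.ClassK.NiceBasic
import Cfsg.Agent.Lib.BlockB.PSolvableCentralizer
import Cfsg.Agent.Lib.Coprime.Generation
import Cfsg.Agent.Lib.PLength.DerivedBound
import Cfsg.Agent.Lib.Solvable.PCore

/-!
# A far from offending normal subgroup of a Sylow `2`-subgroup lies in `O₂`

`G` solvable without a section `S₄`, `C(O₂(G)) ≤ O₂(G)`, `T` a Sylow `2`-subgroup and `U ≤ T` an
elementary abelian normal subgroup of `T` far from offending for all of `T`: then `U ≤ O₂(G)`.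
-/

set_option autoImplicit false
set_option linter.unusedSectionVars false
set_option linter.style.haveILetI false

namespace CfsgLib.ClassK.Nice

open Cfsg Subgroup CfsgLib.PLocal

universe u

variable {G : Type u} [Group G] [Finite G]

/-- In a solvable group the `2'`-core of a quotient with trivial `2`-core contains its centralizer. -/
theorem centralizer_pPrimeCore_quotient (hsolv : Group.IsSolvable G) (N : Subgroup G) [N.Normal]
    (h : pCore 2 (G ⧸ N) = ⊥) :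
    centralizer (pPrimeCore 2 (G ⧸ N) : Set (G ⧸ N)) ≤ pPrimeCore 2 (G ⧸ N) := by
  haveI : Fact (Nat.Prime 2) := ⟨Nat.prime_two⟩
  exact CfsgLib.BlockB.centralizer_pPrimeCore_le_of_isPSolvable
    (CfsgLib.PLength.isPSolvable_of_isSolvable (p := 2) (Nat.card (G ⧸ N)) (G ⧸ N) le_rfl
      (by haveI := hsolv
          exact Group.isSolvable_of_surjective (QuotientGroup.mk'_surjective N))).choose_spec.isPSolvable h

/-- If an elementary abelian image `Ā` acts coprimely on the odd normal `R` and `S₀` does not contain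
`R`, some `g` with image in `R` outside `S₀` centralizes a hyperplane of `Ā`. -/
theorem exists_hyperplane (N : Subgroup G) [N.Normal] {A : Subgroup G}
    (hA2 : ∀ a ∈ A, a * a ∈ N) (hAc : ∀ a ∈ A, ∀ b ∈ A, a * b * a⁻¹ * b⁻¹ ∈ N)
    {R : Subgroup (G ⧸ N)} [R.Normal] (hR : (Nat.card R).Coprime 2)
    {S₀ : Subgroup (G ⧸ N)} (hS₀ : ¬ R ≤ S₀) :
    ∃ (B : Subgroup G) (a g : G), B ≤ A ∧ a ∈ A ∧ A ⊓ N ≤ B ∧
      B.map (QuotientGroup.mk' N) ⊔ zpowers (QuotientGroup.mk' N a) = A.map (QuotientGroup.mk' N) ∧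
      QuotientGroup.mk' N g ∈ R ∧ QuotientGroup.mk' N g ∉ S₀ ∧
      ∀ b ∈ B, QuotientGroup.mk' N g * QuotientGroup.mk' N b =
        QuotientGroup.mk' N b * QuotientGroup.mk' N g := by
  haveI : Fact (Nat.Prime 2) := ⟨Nat.prime_two⟩
  set q := QuotientGroup.mk' N with hq
  set Ab := A.map q with hAb
  have hcomm : IsMulCommutative Ab := ⟨⟨by
    rintro ⟨_, a, ha, rfl⟩ ⟨_, b, hb, rfl⟩
    refine Subtype.ext ?_
    show q a * q b = q b * q a
    have h1 : q (a * b * a⁻¹ * b⁻¹) = 1 := (QuotientGroup.eq_one_iff _).2 (hAc a ha b hb)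
    simp only [map_mul, map_inv] at h1
    rw [mul_inv_eq_one, mul_inv_eq_iff_eq_mul] at h1
    exact h1⟩⟩
  have hA2' : IsPGroup 2 Ab := by
    rintro ⟨_, a, ha, rfl⟩
    refine ⟨1, Subtype.ext ?_⟩
    show (q a) ^ (2 ^ 1) = 1
    rw [pow_one, pow_two, ← map_mul]
    exact (QuotientGroup.eq_one_iff _).2 (hA2 a ha)
  have hcop : (Nat.card Ab).Coprime (Nat.card R) := by
    obtain ⟨k, hk⟩ := IsPGroup.iff_card.1 hA2'
    rw [hk]
    exact hR.symm.pow_left k
  obtain ⟨Bb, hBA, ⟨_, ⟨a, haA, rfl⟩, hBa⟩, hBc⟩ : ∃ Bb : Subgroup (G ⧸ N), Bb ≤ Ab ∧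
      (∃ z ∈ Ab, Bb ⊔ zpowers z = Ab) ∧ ¬ R ⊓ centralizer (Bb : Set (G ⧸ N)) ≤ S₀ := by
    by_contra hcon
    push Not at hcon
    refine hS₀ ?_
    rw [← CfsgLib.Coprime.cocyclicJoin_eq hcomm
      (le_trans le_top (by rw [normalizer_eq_top])) hcop]
    exact iSup₂_le fun B hB => hcon B hB.1 hB.2
  obtain ⟨z, ⟨hzR, hzB⟩, hzS⟩ := SetLike.not_le_iff_exists.1 hBc
  obtain ⟨g, rfl⟩ := QuotientGroup.mk'_surjective N z
  refine ⟨A ⊓ Bb.comap q, a, g, inf_le_left, haA, ?_, ?_, hzR, hzS, fun b hb => (hzB _ hb.2).symm⟩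
  · rintro x ⟨hxA, hxN⟩
    refine ⟨hxA, ?_⟩
    show q x ∈ Bb
    rw [show q x = 1 from (QuotientGroup.eq_one_iff x).2 hxN]
    exact one_mem _
  · convert hBa using 2
    refine le_antisymm (map_le_iff_le_comap.2 inf_le_right) fun w hw => ?_
    obtain ⟨b, hb, rfl⟩ := hBA hw
    exact ⟨b, ⟨hb, hw⟩, rfl⟩

/-- The swing: `y` of odd order inverted by `a` centralizes `Q₁` when `a` centralizes `X`, moves at
most a hyperplane of `X'`, and `y` centralizes `Q₁ / XX'` and `X ∩ X'`. -/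
theorem swing (hfree : ¬ Cfsg.Involves (Equiv.Perm (Fin 4)) G) {Q₁ X X' : Subgroup G}
    (hQ₁ : IsPGroup 2 Q₁) (hX : IsElementaryAbelian 2 X) (hX' : IsElementaryAbelian 2 X')
    (hXQ : X ≤ Q₁) (hX'Q : X' ≤ Q₁) (hQX : Q₁ ≤ normalizer (X : Set G))
    (hQX' : Q₁ ≤ normalizer (X' : Set G)) {a y : G} (ha2 : a * a = 1)
    (haX : a ∈ centralizer (X : Set G)) (hyQ : y ∈ normalizer (Q₁ : Set G))
    (hinv : a * y * a⁻¹ * y = 1) (hy : Odd (orderOf y))
    (haQ : ∀ x ∈ Q₁, a * x * a⁻¹ * x⁻¹ ∈ X)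
    (hyN : ∀ x ∈ Q₁, y * x * y⁻¹ * x⁻¹ ∈ X ⊔ X') (hyE : ∀ e ∈ X ⊓ X', y * e * y⁻¹ = e)
    (hcard : Nat.card X' ≤ 2 * Nat.card ↥(X' ⊓ centralizer ({a} : Set G))) :
    y ∈ centralizer (Q₁ : Set G) := by
  haveI : Fact (Nat.Prime 2) := ⟨Nat.prime_two⟩
  set E := X ⊓ X' with hE
  set N := X ⊔ X' with hN
  have hNQ : N ≤ Q₁ := sup_le hXQ hX'Q
  suffices key : ∀ x ∈ N, y * x * y⁻¹ * x⁻¹ ∈ E by
    have h1 : ∀ x ∈ N, y * x * y⁻¹ = x := fun x hx =>
      fixed_of_stabilizes ((hQ₁.to_le hNQ).to_le (inf_le_left.trans le_sup_left)) hy hyE (key x hx)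
    intro x hx
    have h2 := fixed_of_stabilizes (hQ₁.to_le hNQ) hy h1 (hyN x hx)
    calc x * y = y * x * y⁻¹ * y := by rw [h2]
      _ = y * x := by group
  set L := normalizer (E : Set G) with hL
  have hconjE : ∀ t : G, (∀ e ∈ E, t * e * t⁻¹ = e) → t ∈ L := fun t ht => by
    refine mem_normalizer_iff_map_conj_eq.2 (eq_of_le_of_card_ge ?_
      (card_map_of_injective (MulAut.conj t).injective).ge)
    rintro _ ⟨e, he, rfl⟩
    show t * e * t⁻¹ ∈ E
    rw [ht e he]; exact he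
  have hQL : Q₁ ≤ L := fun x hx => by
    refine mem_normalizer_iff.2 fun z => and_congr ?_ ?_
    · exact mem_normalizer_iff.1 (hQX hx) z
    · exact mem_normalizer_iff.1 (hQX' hx) z
  have haL : a ∈ L := hconjE a fun e he => by
    rw [← haX e he.1, mul_inv_cancel_right]
  have hyL : y ∈ L := hconjE y hyE
  haveI : (E.subgroupOf L).Normal := normal_in_normalizer
  let q := QuotientGroup.mk' (E.subgroupOf L)
  have hq1 : ∀ z : L, q z = 1 ↔ (z : G) ∈ E := fun z =>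
    (QuotientGroup.eq_one_iff z).trans mem_subgroupOf
  set W := (N.subgroupOf L).map q with hW
  have hyNn : ∀ x ∈ N, y * x * y⁻¹ ∈ N := fun x hx => by
    have := mul_mem (hyN x (hNQ hx)) hx
    rwa [inv_mul_cancel_right] at this
  have haNn : ∀ x ∈ N, a * x * a⁻¹ ∈ N := fun x hx => by
    have := mul_mem (le_sup_left (b := X') (haQ x (hNQ hx))) hx
    rwa [inv_mul_cancel_right] at this
  have hnorm : ∀ (t : G) (ht : t ∈ L), (∀ x ∈ N, t * x * t⁻¹ ∈ N) →
      q ⟨t, ht⟩ ∈ normalizer (W : Set (L ⧸ E.subgroupOf L)) := by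
    intro t ht h
    refine mem_normalizer_iff_map_conj_eq.2 (eq_of_le_of_card_ge ?_
      (card_map_of_injective (MulAut.conj (q ⟨t, ht⟩)).injective).ge)
    rintro _ ⟨_, ⟨w, hw, rfl⟩, rfl⟩
    exact ⟨⟨t, ht⟩ * w * ⟨t, ht⟩⁻¹, h _ hw, by simp⟩
  have hXE : ∀ x ∈ N, ∀ z ∈ N, x * z * x⁻¹ * z⁻¹ ∈ E := by
    have hEn : ∀ t ∈ N, ∀ e ∈ E, t * e * t⁻¹ ∈ E := fun t ht e he =>
      (mem_normalizer_iff.1 (hQL (hNQ ht)) e).1 he
    have hXX' : ∀ x ∈ X, ∀ z ∈ X', x * z * x⁻¹ * z⁻¹ ∈ E := fun x hx z hz => ⟨by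
      have h1 := (mem_normalizer_iff.1 (hQX (hX'Q hz)) x⁻¹).1 (inv_mem hx)
      simpa [mul_assoc] using X.mul_mem hx h1, by
      have h1 := (mem_normalizer_iff.1 (hQX' (hXQ hx)) z).1 hz
      exact X'.mul_mem h1 (inv_mem hz)⟩
    have hgen : ∀ x, (x ∈ X ∨ x ∈ X') → ∀ z, (z ∈ X ∨ z ∈ X') → x * z * x⁻¹ * z⁻¹ ∈ E := by
      rintro x (hx | hx) z (hz | hz)
      · rw [elemAb_comm hX hx hz]; simp
      · exact hXX' x hx z hz
      · have := inv_mem (hXX' z hz x hx)
        simpa [mul_assoc] using this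
      · rw [elemAb_comm hX' hx hz]; simp
    haveI hEN : (E.subgroupOf N).Normal :=
      ⟨fun e he t => hEn t t.2 e he⟩
    let qN := QuotientGroup.mk' (E.subgroupOf N)
    have hgen' : closure ((fun x : N => qN x) '' {x : N | (x : G) ∈ X ∨ (x : G) ∈ X'}) = ⊤ := by
      rw [← MonoidHom.map_closure]
      have : closure {x : N | (x : G) ∈ X ∨ (x : G) ∈ X'} = ⊤ := by
        refine map_injective N.subtype_injective ?_
        rw [MonoidHom.map_closure, ← MonoidHom.range_eq_map, range_subtype]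
        refine le_antisymm ((closure_le _).2 ?_) (sup_le ?_ ?_)
        · rintro _ ⟨x, -, rfl⟩; exact x.2
        · exact fun x hx => subset_closure ⟨⟨x, mem_sup_left hx⟩, Or.inl hx, rfl⟩
        · exact fun x hx => subset_closure ⟨⟨x, mem_sup_right hx⟩, Or.inr hx, rfl⟩
      rw [this, ← MonoidHom.range_eq_map]
      exact MonoidHom.range_eq_top.2 (QuotientGroup.mk'_surjective _)
    intro x hx z hz
    have hcen : ∀ u v : N ⧸ E.subgroupOf N, u * v = v * u := by
      intro u v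
      have hu : u ∈ closure ((fun x : N => qN x) '' {x : N | (x : G) ∈ X ∨ (x : G) ∈ X'}) :=
        hgen' ▸ mem_top _
      have hv : v ∈ closure ((fun x : N => qN x) '' {x : N | (x : G) ∈ X ∨ (x : G) ∈ X'}) :=
        hgen' ▸ mem_top _
      refine (closure_le (K := centralizer ({v} : Set (N ⧸ E.subgroupOf N)))).2 ?_ hu v rfl |>.symm
      rintro _ ⟨a', ha', rfl⟩ _ rfl
      refine (closure_le (K := centralizer ({qN a'} : Set (N ⧸ E.subgroupOf N)))).2 ?_ hv _ rfl |>.symm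
      rintro _ ⟨b', hb', rfl⟩ _ rfl
      have h1 : qN (a' * b' * a'⁻¹ * b'⁻¹) = 1 :=
        (QuotientGroup.eq_one_iff _).2 (hgen _ ha' _ hb')
      simp only [map_mul, map_inv] at h1
      rw [mul_inv_eq_one, mul_inv_eq_iff_eq_mul] at h1
      exact h1
    have h1 : qN (⟨x, hx⟩ * ⟨z, hz⟩ * ⟨x, hx⟩⁻¹ * ⟨z, hz⟩⁻¹) = 1 := by
      simp only [map_mul, map_inv, hcen (qN ⟨x, hx⟩) (qN ⟨z, hz⟩), mul_inv_cancel_right,
        mul_inv_cancel]
    exact mem_subgroupOf.1
      ((QuotientGroup.eq_one_iff (N := E.subgroupOf N) _).1 h1)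
  have hWc : ∀ u ∈ W, ∀ v ∈ W, u * v = v * u := by
    rintro _ ⟨u, hu, rfl⟩ _ ⟨v, hv, rfl⟩
    have h1 := (hq1 (u * v * u⁻¹ * v⁻¹)).2 (hXE _ hu _ hv)
    simp only [map_mul, map_inv] at h1
    rw [mul_inv_eq_one, mul_inv_eq_iff_eq_mul] at h1
    exact h1
  have hW2 : ∀ u ∈ W, u * u = 1 := by
    rintro _ ⟨u, hu, rfl⟩
    have hu' : (u : G) ∈ X ⊔ X' := hu
    have hS : X ⊔ X' ≤ closure ((X : Set G) ∪ X') := by rw [Subgroup.closure_union, closure_eq, closure_eq]
    rw [← map_mul, hq1]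
    show (u : G) * u ∈ E
    refine closure_induction (p := fun x _ => x * x ∈ E) ?_ (by simp) ?_ ?_ (hS hu')
    · rintro x (hx | hx)
      · rw [← pow_two, hX.2 x hx]; exact one_mem _
      · rw [← pow_two, hX'.2 x hx]; exact one_mem _
    · intro x z hxc hzc hx hz
      have hxN : x ∈ N := by rw [hN, ← closure_eq X, ← closure_eq X', ← Subgroup.closure_union]; exact hxc
      have hzN : z ∈ N := by rw [hN, ← closure_eq X, ← closure_eq X', ← Subgroup.closure_union]; exact hzc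
      have h3 : x * z * (x * z) =
          (x * (z * x * z⁻¹ * x⁻¹) * x⁻¹) * (x * x) * (z * z) := by group
      rw [h3]
      exact mul_mem (mul_mem ((mem_normalizer_iff.1 (hQL (hNQ hxN)) _).1 (hXE z hzN x hxN)) hx) hz
    · intro x _ hx
      rw [← mul_inv_rev]; exact inv_mem hx
  have haW := hnorm a haL haNn
  have hyW := hnorm y hyL hyNn
  intro x hx
  by_contra hxE
  have hyC : q ⟨y, hyL⟩ ∉ centralizer (W : Set (L ⧸ E.subgroupOf L)) := fun hc => by
    have h1 := hc _ ⟨⟨x, hQL (hNQ hx)⟩, hx, rfl⟩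
    have h2 : q (⟨y, hyL⟩ * ⟨x, hQL (hNQ hx)⟩ * ⟨y, hyL⟩⁻¹ * ⟨x, hQL (hNQ hx)⟩⁻¹) = 1 := by
      simp only [map_mul, map_inv, ← h1, mul_inv_cancel_right, mul_inv_cancel]
    exact hxE ((hq1 _).1 h2)
  have h4 := four_mul_le_of_inverted (W := W)
    (fun h => hfree (CfsgLib.Complement.involves_of_subgroup (L := L)
      (CfsgLib.Complement.involves_of_quotient h))) hWc hW2 (a := q ⟨a, haL⟩) (y := q ⟨y, hyL⟩)
    haW hyW ?_ ?_ ?_ hyC
  rotate_left
  · rw [← map_mul, show (⟨a, haL⟩ : L) * ⟨a, haL⟩ = 1 from Subtype.ext ha2, map_one]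
    exact one_mem _
  · rw [← map_mul, ← map_inv, ← map_mul, ← map_mul,
      show (⟨a, haL⟩ : L) * ⟨y, hyL⟩ * ⟨a, haL⟩⁻¹ * ⟨y, hyL⟩ = 1 from Subtype.ext hinv, map_one]
    exact one_mem _
  · refine Odd.of_dvd_nat hy ((orderOf_map_dvd q _).trans (dvd_of_eq ?_))
    exact (orderOf_injective L.subtype L.subtype_injective ⟨y, hyL⟩).symm
  set Xa := X' ⊓ centralizer ({a} : Set G) with hXa
  set M := X ⊔ Xa with hM
  have hMN : M ≤ N := sup_le_sup_left inf_le_left _
  have hMW : (M.subgroupOf L).map q ≤ W ⊓ centralizer ({q ⟨a, haL⟩} : Set (L ⧸ E.subgroupOf L)) := by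
    refine le_inf (map_mono fun z hz => hMN hz) ?_
    rintro _ ⟨z, hz, rfl⟩ _ rfl
    rw [← map_mul, ← map_mul]
    refine congrArg q (Subtype.ext ?_)
    have hXa' : X ≤ centralizer ({a} : Set G) := fun w hw => by
      rintro _ rfl
      exact (haX w hw).symm
    exact ((sup_le hXa' inf_le_right : M ≤ centralizer ({a} : Set G)) hz) a rfl
  have hqcard : ∀ H : Subgroup G, E ≤ H → H ≤ L →
      Nat.card ((H.subgroupOf L).map q) * Nat.card E = Nat.card H := fun H hEH hHL => by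
    have h1 := Subgroup.relIndex_ker (H.subgroupOf L) q
    rw [QuotientGroup.ker_mk', relIndex_subgroupOf hHL] at h1
    rw [← h1, mul_comm, ← relIndex_bot_left E, ← relIndex_bot_left H]
    exact relIndex_mul_relIndex ⊥ E H bot_le hEH
  have hEN : E ≤ N := inf_le_left.trans le_sup_left
  have hEM : E ≤ M := inf_le_left.trans le_sup_left
  have hNcard : Nat.card N ≤ 2 * Nat.card M := by
    have h1 := card_sup_mul_inf (K := X) (A := X') (hX'Q.trans hQX)
    have h2 := card_sup_mul_inf (K := X) (A := Xa) ((inf_le_left.trans hX'Q).trans hQX)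
    have h3 : Nat.card ↥(X ⊓ Xa) = Nat.card E := by
      rw [show X ⊓ Xa = E from le_antisymm (inf_le_inf_left _ inf_le_left) fun e he =>
        ⟨he.1, he.2, centralizer_singleton_iff.2 (by rw [← haX e he.1, mul_inv_cancel_right])⟩]
    rw [h3] at h2
    refine Nat.le_of_mul_le_mul_right ?_ (Nat.card_pos (α := E))
    calc Nat.card N * Nat.card E = Nat.card X' * Nat.card X := h1
      _ ≤ 2 * Nat.card Xa * Nat.card X := Nat.mul_le_mul_right _ hcard
      _ = 2 * (Nat.card M * Nat.card E) := by rw [mul_assoc]; exact congrArg (2 * ·) h2.symm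
      _ = _ := by ring
  have h5 : Nat.card W * Nat.card E ≤ 2 * (Nat.card ((M.subgroupOf L).map q) * Nat.card E) := by
    rw [hqcard N hEN (hNQ.trans hQL), hqcard M hEM ((hMN.trans hNQ).trans hQL)]
    exact hNcard
  have h6 := card_le_of_le hMW
  have h7 : 0 < Nat.card ((M.subgroupOf L).map q) := Nat.card_pos
  rw [← mul_assoc] at h5
  have h8 := Nat.le_of_mul_le_mul_right h5 Nat.card_pos
  omega

/-- `U ≤ O₂(G)` when `U` is far from offending. -/
theorem le_pCore_of_niceOn (hfree : ¬ Cfsg.Involves (Equiv.Perm (Fin 4)) G)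
    (hsolv : Group.IsSolvable G)
    (hchar : centralizer (pCore 2 G : Set G) ≤ pCore 2 G) (T : Sylow 2 G) {U : Subgroup G}
    (hU : IsElementaryAbelian 2 U) (hUT : U ≤ T) (hTU : (T : Subgroup G) ≤ normalizer (U : Set G))
    (hnice : NiceOn T U) : U ≤ pCore 2 G := by
  haveI : Fact (Nat.Prime 2) := ⟨Nat.prime_two⟩
  set Q := pCore 2 G with hQ
  haveI : Q.Normal := CfsgLib.Solvable.pCore_normal 2 G
  by_contra hUQ
  set q := QuotientGroup.mk' Q with hq
  set R := pPrimeCore 2 (G ⧸ Q) with hR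
  haveI : R.Normal := CfsgLib.Solvable.pPrimeCore_normal 2 _
  have hR2 : (Nat.card R).Coprime 2 := CfsgLib.Solvable.pPrimeCore_coprime 2
  have hU2 : ∀ u ∈ U, u * u = 1 := fun u hu => by rw [← pow_two]; exact hU.2 u hu
  have hS₀ : ¬ R ≤ centralizer ((U.map q : Subgroup (G ⧸ Q)) : Set (G ⧸ Q)) := fun hle => by
    refine hUQ fun u hu => ?_
    have h1 : q u ∈ R :=
      centralizer_pPrimeCore_quotient hsolv Q (CfsgLib.Solvable.pCore_quotient_eq_bot 2)
        (le_centralizer_iff.1 hle ⟨u, hu, rfl⟩)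
    refine (QuotientGroup.eq_one_iff u).1 (orderOf_eq_one_iff.1 ?_)
    exact Nat.eq_one_of_dvd_coprimes hR2.symm
      (orderOf_dvd_of_pow_eq_one (by
        show (q u) ^ 2 = 1
        rw [pow_two, ← map_mul, hU2 u hu, map_one]))
      (Subgroup.orderOf_dvd_natCard R h1)
  obtain ⟨B, a, g, hBU, haU, hUB, hBa, hgR, hgU, hgB⟩ := exists_hyperplane Q
    (fun u hu => by rw [hU2 u hu]; exact one_mem _)
    (fun u hu v hv => by rw [elemAb_comm hU hu hv]; simp) hR2 hS₀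
  have hga : q g * q a ≠ q a * q g := fun h => hgU fun z hz => by
    have hle : U.map q ≤ centralizer ({q g} : Set (G ⧸ Q)) := by
      rw [← hBa]
      refine sup_le ?_ (zpowers_le.2 ?_)
      · rintro _ ⟨b, hb, rfl⟩ _ rfl
        exact hgB b hb
      · rintro _ rfl; exact h
    exact ((hle hz) _ rfl).symm
  have ha2 : a * a = 1 := hU2 a haU
  set d := g⁻¹ * a * g * a⁻¹ with hd
  have hdR : q d ∈ R := by
    have : q d = (q g)⁻¹ * (q a * q g * (q a)⁻¹) := by simp [hd, mul_assoc]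
    rw [this]
    exact mul_mem (inv_mem hgR) (Normal.conj_mem inferInstance _ hgR _)
  obtain ⟨y, hyd, hyodd, hdy⟩ := exists_odd_part Q (d := d) <| Nat.coprime_two_right.1
    (hR2.coprime_dvd_left (Subgroup.orderOf_dvd_natCard R hdR))
  have hinv : a * y * a⁻¹ * y = 1 := mem_bot.1 <| inverts_zpowers ⊥
    (inverts_commutator ⊥ (by rw [ha2]; exact one_mem _)) hyd
  have hyQ : y ∉ Q := fun h => by
    have h2 : q d = 1 := (QuotientGroup.eq_one_iff d).2 ((sup_le (zpowers_le.2 h) le_rfl) hdy)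
    simp only [hd, map_mul, map_inv] at h2
    rw [mul_inv_eq_one, mul_assoc, inv_mul_eq_iff_eq_mul] at h2
    exact hga h2.symm
  have hyB : ∀ b ∈ B, q y * q b = q b * q y := fun b hb => by
    have hdb : d ∈ (centralizer ({q b} : Set (G ⧸ Q))).comap q := by
      show q d ∈ centralizer ({q b} : Set (G ⧸ Q))
      have hgb : q g ∈ centralizer ({q b} : Set (G ⧸ Q)) := by
        rintro _ rfl; exact (hgB b hb).symm
      have hab : q a ∈ centralizer ({q b} : Set (G ⧸ Q)) := by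
        rintro _ rfl; rw [← map_mul, ← map_mul, elemAb_comm hU (hBU hb) haU]
      simp only [hd, map_mul, map_inv]
      exact mul_mem (mul_mem (mul_mem (inv_mem hgb) hab) hgb) (inv_mem hab)
    exact ((zpowers_le.2 hdb hyd) _ rfl).symm
  set Q₁ := B ⊔ Q with hQ₁
  have hQT : Q ≤ (T : Subgroup G) := CfsgLib.Solvable.pCore_le_sylow T
  have hQ₁T : Q₁ ≤ (T : Subgroup G) := sup_le (hBU.trans hUT) hQT
  have hQ₁p : IsPGroup 2 Q₁ := T.isPGroup'.to_le hQ₁T
  have hnormQ₁ : ∀ t : G, (∀ b ∈ B, q t * q b = q b * q t) → t ∈ normalizer (Q₁ : Set G) := by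
    intro t ht
    refine mem_normalizer_iff_map_conj_eq.2 (eq_of_le_of_card_ge ?_
      (card_map_of_injective (MulAut.conj t).injective).ge)
    rw [hQ₁, Subgroup.map_sup]
    refine sup_le ?_ ?_
    · rintro _ ⟨b, hb, rfl⟩
      have h1 : t * b * t⁻¹ * b⁻¹ ∈ Q := (QuotientGroup.eq_one_iff _).1 (by
        show q (t * b * t⁻¹ * b⁻¹) = 1
        simp only [map_mul, map_inv, ht b hb, mul_inv_cancel_right, mul_inv_cancel])
      have h2 := mul_mem (mem_sup_right (S := B) h1) (mem_sup_left (T := Q) hb)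
      rwa [inv_mul_cancel_right] at h2
    · rintro _ ⟨x, hx, rfl⟩
      exact mem_sup_right (Normal.conj_mem inferInstance x hx t)
  have hyQ₁ := hnormQ₁ y hyB
  have haQ₁n := hnormQ₁ a fun b hb => by rw [← map_mul, ← map_mul, elemAb_comm hU haU (hBU hb)]
  set D := U ⊓ Q₁ with hD
  have hBD : B ≤ D := le_inf hBU le_sup_left
  have hUB2 : Nat.card U ≤ 2 * Nat.card D := by
    have hsub : U ≤ B ⊔ zpowers a := fun u hu => by
      have h1 : q u ∈ (B ⊔ zpowers a).map q := by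
        rw [Subgroup.map_sup, MonoidHom.map_zpowers, hBa]; exact ⟨u, hu, rfl⟩
      obtain ⟨v, hv, hvu⟩ := h1
      have hvU : v ∈ U := (sup_le hBU (zpowers_le.2 haU)) hv
      have hm : v⁻¹ * u ∈ U ⊓ Q := ⟨U.mul_mem (U.inv_mem hvU) hu, (QuotientGroup.eq_one_iff _).1
        (by show q (v⁻¹ * u) = 1; rw [map_mul, map_inv, hvu, inv_mul_cancel])⟩
      have := mul_mem hv (mem_sup_left (T := zpowers a) (hUB hm))
      rwa [mul_inv_cancel_left] at this
    exact ((card_le_of_le hsub).trans (card_sup_zpowers_le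
      (fun b hb => elemAb_comm hU (hBU hb) haU) ha2)).trans
      (Nat.mul_le_mul_left 2 (card_le_of_le hBD))
  set cy := (MulAut.conj y).toMonoidHom with hcy
  have hcyi : Function.Injective cy := (MulAut.conj y).injective
  set U' := U.map cy with hU'
  set D' := D.map cy with hD'
  have hcyQ₁ : Q₁.map cy = Q₁ := mem_normalizer_iff_map_conj_eq.1 hyQ₁
  have hD'Q : D' ≤ Q₁ := hcyQ₁ ▸ map_mono inf_le_right
  have hQ₁D : Q₁ ≤ normalizer (D : Set G) := fun x hx => by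
    refine mem_normalizer_iff.2 fun z => and_congr ?_ ?_
    · exact mem_normalizer_iff.1 (hTU (hQ₁T hx)) z
    · exact mem_normalizer_iff.1 (le_normalizer (H := Q₁) hx) z
  have hQ₁D' : Q₁ ≤ normalizer (D' : Set G) := fun x hx => by
    rw [← hcyQ₁] at hx
    exact le_normalizer_map cy ⟨_, hQ₁D (mem_map.1 hx).choose_spec.1, (mem_map.1 hx).choose_spec.2⟩
  have haQ : ∀ x ∈ Q₁, a * x * a⁻¹ * x⁻¹ ∈ D := fun x hx =>
    ⟨by
      have h1 := (mem_normalizer_iff.1 (hTU (hQ₁T hx)) a⁻¹).1 (inv_mem haU)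
      simpa [mul_assoc] using U.mul_mem haU h1,
    Q₁.mul_mem ((mem_normalizer_iff.1 haQ₁n x).1 hx) (Q₁.inv_mem hx)⟩
  set a' := y * a * y⁻¹ with ha'
  have ha'Q : ∀ x ∈ Q₁, a' * x * a'⁻¹ * x⁻¹ ∈ D' := fun x hx => by
    rw [← hcyQ₁] at hx
    obtain ⟨x₀, hx₀, rfl⟩ := hx
    refine ⟨_, haQ x₀ hx₀, ?_⟩
    simp [hcy, ha', mul_assoc]
  have hDab : IsElementaryAbelian 2 D := elemAb_mono hU inf_le_left
  have hD'ab : IsElementaryAbelian 2 D' := elemAb_map _ hDab
  have haD : a ∈ centralizer (D : Set G) := fun z hz => elemAb_comm hU hz.1 haU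
  have ha'D' : a' ∈ centralizer (D' : Set G) := by
    rintro _ ⟨z, hz, rfl⟩
    show cy z * cy a = cy a * cy z
    rw [← map_mul, ← map_mul, haD z hz]
  obtain ⟨n, hn⟩ := hyodd
  have hyy : y = (a' * a⁻¹) ^ (n + 1) := by
    have h1 : a * y⁻¹ * a⁻¹ = y := by
      rw [mul_eq_one_iff_eq_inv] at hinv
      calc a * y⁻¹ * a⁻¹ = (a * y * a⁻¹)⁻¹ := by group
        _ = y := by rw [hinv, inv_inv]
    have h2 : a' * a⁻¹ = y ^ 2 := by
      calc a' * a⁻¹ = y * (a * y⁻¹ * a⁻¹) := by rw [ha']; group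
        _ = y ^ 2 := by rw [h1, pow_two]
    rw [h2, ← pow_mul, show 2 * (n + 1) = 2 * n + 1 + 1 by omega, pow_succ, ← hn,
      pow_orderOf_eq_one, one_mul]
  have hyE : ∀ e ∈ D ⊓ D', y * e * y⁻¹ = e := by
    intro e he
    have h1 : a' * a⁻¹ ∈ centralizer ({e} : Set G) := by
      refine mul_mem ?_ (inv_mem ?_)
      · rintro _ rfl; exact ha'D' _ he.2
      · rintro _ rfl; exact haD _ he.1
    rw [← centralizer_singleton_iff]
    have h2 : y ∈ centralizer ({e} : Set G) := hyy ▸ pow_mem h1 _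
    intro z hz
    rw [Set.mem_singleton_iff] at hz
    subst hz
    exact ((h2 e rfl)).symm
  have hyN : ∀ x ∈ Q₁, y * x * y⁻¹ * x⁻¹ ∈ D ⊔ D' := by
    let S : Subgroup G := normalizer (Q₁ : Set G)
    have hclosed : ∀ k : ℕ, ∀ x ∈ Q₁, (a' * a⁻¹) ^ k * x * ((a' * a⁻¹) ^ k)⁻¹ * x⁻¹ ∈ D ⊔ D' := by
      intro k
      induction k with
      | zero => intro x _; simp
      | succ k ih =>
        intro x hx
        set x₁ := a⁻¹ * x * a with hx₁
        have hx₁Q : x₁ ∈ Q₁ := by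
          have := (mem_normalizer_iff.1 (inv_mem haQ₁n) x).1 hx
          rwa [inv_inv] at this
        have ha'n : a' ∈ S := mul_mem (mul_mem hyQ₁ haQ₁n) (inv_mem hyQ₁)
        set x₂ := a' * x₁ * a'⁻¹ with hx₂
        have hx₂Q : x₂ ∈ Q₁ := (mem_normalizer_iff.1 ha'n x₁).1 hx₁Q
        have e : (a' * a⁻¹) ^ (k + 1) * x * ((a' * a⁻¹) ^ (k + 1))⁻¹ * x⁻¹ =
            ((a' * a⁻¹) ^ k * x₂ * ((a' * a⁻¹) ^ k)⁻¹ * x₂⁻¹) * (a' * x₁ * a'⁻¹ * x₁⁻¹) *
              (a * x₁ * a⁻¹ * x₁⁻¹)⁻¹ := by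
          rw [hx₂, hx₁, pow_succ]; group
        rw [e]
        exact mul_mem (mul_mem (ih _ hx₂Q) (mem_sup_right (ha'Q _ hx₁Q)))
          (inv_mem (mem_sup_left (haQ _ hx₁Q)))
    intro x hx
    rw [hyy]; exact hclosed _ x hx
  have hfin : ¬ y ∈ centralizer (Q₁ : Set G) := fun h =>
    hyQ (hchar (centralizer_le (le_sup_right : Q ≤ Q₁) h))
  -- the two counting inequalities
  set δ := Nat.card D with hδ
  set c := Nat.card ↥(D' ⊓ centralizer (U : Set G)) with hc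
  set c' := Nat.card ↥(D ⊓ centralizer (U' : Set G)) with hc'
  have hD'card : Nat.card D' = δ := card_map_of_injective hcyi
  have h1 : δ * c' ≤ 2 * c ^ 2 := by
    have hn := hnice D' (hD'Q.trans hQ₁T) (elemOn_of_elemAb hD'ab)
    unfold Nice at hn
    rw [hD'card] at hn
    have hsub : c' ≤ Nat.card ↥(U ⊓ centralizer (D' : Set G)) :=
      card_le_of_le (le_inf (inf_le_left.trans inf_le_left)
        (inf_le_right.trans (centralizer_le (map_mono inf_le_left))))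
    refine Nat.le_of_mul_le_mul_left ?_ (Nat.card_pos (α := D))
    calc δ * (δ * c') = δ ^ 2 * c' := by ring
      _ ≤ δ ^ 2 * Nat.card ↥(U ⊓ centralizer (D' : Set G)) := Nat.mul_le_mul_left _ hsub
      _ ≤ Nat.card U * c ^ 2 := hn
      _ ≤ 2 * δ * c ^ 2 := Nat.mul_le_mul_right _ hUB2
      _ = _ := by ring
  have h2 : δ * c ≤ 2 * c' ^ 2 := by
    set D'' := Q₁ ⊓ D.comap cy with hD''
    have hmap : D''.map cy = D := by
      refine le_antisymm (map_le_iff_le_comap.2 inf_le_right) fun z hz => ?_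
      obtain ⟨w, hw, rfl⟩ : z ∈ Q₁.map cy := hcyQ₁.symm ▸ hz.2
      exact ⟨w, ⟨hw, hz⟩, rfl⟩
    have hel : IsElementaryAbelian 2 D'' := (elemAb_map_iff hcyi).1 (hmap.symm ▸ hDab)
    have hn := (nice_map_iff hcyi U D'').2
      (hnice D'' ((inf_le_left : D'' ≤ Q₁).trans hQ₁T) (elemOn_of_elemAb hel))
    rw [hmap] at hn
    unfold Nice at hn
    rw [card_map_of_injective hcyi] at hn
    have hsub : c ≤ Nat.card ↥(U' ⊓ centralizer (D : Set G)) :=
      card_le_of_le (le_inf (inf_le_left.trans (map_mono inf_le_left))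
        (inf_le_right.trans (centralizer_le inf_le_left)))
    refine Nat.le_of_mul_le_mul_left ?_ (Nat.card_pos (α := D))
    calc δ * (δ * c) = δ ^ 2 * c := by ring
      _ ≤ δ ^ 2 * Nat.card ↥(U' ⊓ centralizer (D : Set G)) := Nat.mul_le_mul_left _ hsub
      _ ≤ Nat.card U * c' ^ 2 := hn
      _ ≤ 2 * δ * c' ^ 2 := Nat.mul_le_mul_right _ hUB2
      _ = _ := by ring
  have hor : δ ≤ 2 * c ∨ δ ≤ 2 * c' := by
    by_contra hcon
    push Not at hcon
    have hcpos : 0 < c := Nat.card_pos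
    have hc'pos : 0 < c' := Nat.card_pos
    have h3 := Nat.mul_le_mul h1 h2
    have h4 : (2 * c) * (2 * c') < δ * δ := Nat.mul_lt_mul'' hcon.1 hcon.2
    have h5 : δ * δ * (c * c') ≤ (2 * c) * (2 * c') * (c * c') := by
      calc δ * δ * (c * c') = δ * c' * (δ * c) := by ring
        _ ≤ 2 * c ^ 2 * (2 * c' ^ 2) := h3
        _ = _ := by ring
    exact absurd (Nat.le_of_mul_le_mul_right h5 (Nat.mul_pos hcpos hc'pos)) (Nat.not_le.2 h4)
  rcases hor with h | h
  · refine hfin (swing hfree hQ₁p hDab hD'ab inf_le_right hD'Q hQ₁D hQ₁D' ha2 haD hyQ₁ hinv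
      ⟨n, hn⟩ haQ hyN hyE ?_)
    rw [hD'card]
    exact h.trans (Nat.mul_le_mul_left 2 (card_le_of_le (inf_le_inf_left _
      (centralizer_le (by simpa using haU)))))
  · refine hfin (swing hfree hQ₁p hD'ab hDab hD'Q inf_le_right hQ₁D' hQ₁D (a := a')
      (by calc a' * a' = y * (a * a) * y⁻¹ := by rw [ha']; group
            _ = 1 := by rw [ha2]; group)
      ha'D' hyQ₁ ?_ ⟨n, hn⟩ ha'Q (fun x hx => by rw [sup_comm]; exact hyN x hx)
      (fun e he => hyE e (by rwa [inf_comm] at he)) ?_)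
    · calc a' * y * a'⁻¹ * y = y * (a * y * a⁻¹ * y) * y⁻¹ := by rw [ha']; group
        _ = 1 := by rw [hinv]; group
    · exact h.trans (Nat.mul_le_mul_left 2 (card_le_of_le (inf_le_inf_left _
        (centralizer_le (Set.singleton_subset_iff.2 (⟨a, haU, rfl⟩ : a' ∈ U'))))))

end CfsgLib.ClassK.Nice
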