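import Cfsg.Agent.Lib.Transfer.PGroupNormal
import Cfsg.Agent.Lib.Transfer.PPrimeAut
import Cfsg.Agent.Lib.StructC.BurnsideBasis
import Cfsg.Agent.Lib.StructC.QuatPair

/-!
For `p` odd: a `p`-group with all elements of order `p` central has at most as many classes modulo
its Frattini subgroup as elements of exponent `p`.
-/

set_option autoImplicit false

namespace CfsgLib.ClassK.OmegaCentral

open Subgroup
open scoped commutatorElement

universe u

variable {p : ℕ} [hp : Fact p.Prime]

theorem choose_two_pow_eq_one (h2 : p ≠ 2) {K : Type u} [Group K] {c : K} (hc : c ^ p = 1) :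
    c ^ p.choose 2 = 1 := by
  obtain ⟨m, hm⟩ := hp.out.dvd_choose_self (k := 2) two_ne_zero
    (lt_of_le_of_ne hp.out.two_le (Ne.symm h2))
  rw [hm, pow_mul, hc, one_pow]

theorem quotient_pow_eq_one (h2 : p ≠ 2) (n : ℕ) : ∀ {K : Type u} [Group K] [Finite K],
    Nat.card K = n → IsPGroup p K → (∀ z : K, z ^ p = 1 → z ∈ center K) →
      ∀ x g : K, (x ^ p) ^ p = 1 → (x⁻¹ * (g * x * g⁻¹)) ^ p = 1 := by
  induction n using Nat.strong_induction_on with
  | _ n ih => ?_
  intro K _ _ hn hK hΩ x g hx
  set y := g * x * g⁻¹ with hy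
  set L := closure ({x, y} : Set K) with hL
  by_cases htop : L = ⊤
  · haveI := hK.isNilpotent
    have hz : zpowers x = ⊤ := by
      refine frattini_nongenerating (top_le_iff.mp (htop.symm.le.trans ?_))
      rw [hL, closure_le]
      rintro z (rfl | rfl)
      · exact mem_sup_left (mem_zpowers _)
      · have h1 := StructC.comm_mem_frattini hK g⁻¹ x⁻¹
        rw [inv_inv, inv_inv] at h1
        have h2' := mul_mem (mem_sup_right (S := zpowers x) h1) (mem_sup_left (mem_zpowers x))
        rwa [inv_mul_cancel_right] at h2'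
    obtain ⟨i, rfl⟩ := mem_zpowers_iff.mp (hz ▸ mem_top g)
    rw [hy, show x ^ i * x * (x ^ i)⁻¹ = x by group, inv_mul_cancel, one_pow]
  · have hlt : Nat.card L < n := hn ▸ lt_of_le_of_ne (card_le_card_group L)
      fun h => htop (eq_top_of_card_eq L h)
    have hxL : x ∈ L := subset_closure (Set.mem_insert _ _)
    have hyL : y ∈ L := subset_closure (Set.mem_insert_of_mem _ rfl)
    have hc' := ih _ hlt (K := L) rfl (hK.to_subgroup L) (fun z hz => by
        rw [mem_center_iff]
        intro w
        exact Subtype.ext (mem_center_iff.mp (hΩ z (by simpa using congrArg Subtype.val hz)) w))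
      ⟨x, hxL⟩ ⟨y, hyL⟩ (Subtype.ext (by simpa using hx))
    have hc0 : (x⁻¹ * (y * x * y⁻¹)) ^ p = 1 := by simpa using congrArg Subtype.val hc'
    have hc : ⁅y, x⁻¹⁆ ^ p = 1 := by
      rw [show ⁅y, x⁻¹⁆ = (x⁻¹ * (y * x * y⁻¹))⁻¹ by rw [commutatorElement_def]; group, inv_pow,
        hc0, inv_one]
    have hcc := mem_center_iff.mp (hΩ _ hc)
    rw [CfsgLib.Transfer.mul_pow_of_commute_commutator (hcc x⁻¹) (hcc y) p,
      choose_two_pow_eq_one h2 hc, mul_one]
    have hyp : y ^ p = x ^ p := by
      rw [hy, conj_pow, mem_center_iff.mp (hΩ _ hx) g, mul_inv_cancel_right]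
    rw [hyp, inv_pow, inv_mul_cancel]

/-- `p` odd, all elements of order `p` central: `|K/Φ(K)|` is at most their number. -/
theorem card_quotient_frattini_le (h2 : p ≠ 2) (n : ℕ) : ∀ {K : Type u} [Group K] [Finite K],
    Nat.card K = n → IsPGroup p K → (∀ z : K, z ^ p = 1 → z ∈ center K) →
      Nat.card (K ⧸ frattini K) ≤ Nat.card {x : K // x ^ p = 1} := by
  induction n using Nat.strong_induction_on with
  | _ n ih => ?_
  intro K _ _ hn hK hΩ
  have hcomm : ∀ a b : K, a ^ p = 1 → Commute b a := fun a b ha => mem_center_iff.mp (hΩ a ha) b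
  let E : Subgroup K :=
    { carrier := {x | x ^ p = 1}
      mul_mem' := fun {a b} (ha : a ^ p = 1) (hb : b ^ p = 1) => by
        show (a * b) ^ p = 1
        rw [(hcomm b a hb).mul_pow, ha, hb, one_mul]
      one_mem' := one_pow p
      inv_mem' := fun {a} (ha : a ^ p = 1) => by
        show a⁻¹ ^ p = 1
        rw [inv_pow, ha, inv_one] }
  show _ ≤ Nat.card E
  haveI hEn : E.Normal := ⟨fun a ha b => by
    rw [(hcomm a b ha).eq, mul_inv_cancel_right]; exact ha⟩
  haveI := hK.isNilpotent
  by_cases hEF : E ≤ frattini K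
  · by_cases hbot : E = ⊥
    · have hK1 : Nat.card K = 1 := by
        obtain ⟨k, hk⟩ := hK.exists_card_eq
        rcases k with _ | k
        · simpa using hk
        · obtain ⟨z, hz⟩ := exists_prime_orderOf_dvd_card' (G := K) p
            (hk ▸ dvd_pow_self p k.succ_ne_zero)
          have hzE : z ∈ E := by
            show z ^ p = 1
            rw [← hz, pow_orderOf_eq_one]
          rw [hbot, mem_bot] at hzE
          rw [hzE, orderOf_one] at hz
          exact absurd hz.symm hp.out.ne_one
      refine le_trans ?_ Nat.card_pos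
      exact (Nat.le_of_dvd Nat.card_pos (card_quotient_dvd_card _)).trans hK1.le
    · have hlt : Nat.card (K ⧸ E) < n := by
        rw [← hn, card_eq_card_quotient_mul_card_subgroup E]
        refine lt_mul_of_one_lt_right Nat.card_pos ?_
        exact lt_of_le_of_ne Nat.card_pos fun h => hbot (eq_bot_of_card_eq E h.symm)
      have hmem : ∀ x : K, (x : K ⧸ E) ^ p = 1 → (x ^ p) ^ p = 1 := fun x hx => by
        rw [← QuotientGroup.mk_pow, QuotientGroup.eq_one_iff] at hx
        exact hx
      have hΩQ : ∀ v : K ⧸ E, v ^ p = 1 → v ∈ center (K ⧸ E) := by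
        intro v hv
        obtain ⟨x, rfl⟩ := QuotientGroup.mk_surjective v
        rw [mem_center_iff]
        intro w
        obtain ⟨g, rfl⟩ := QuotientGroup.mk_surjective w
        rw [← QuotientGroup.mk_mul, ← QuotientGroup.mk_mul, eq_comm, QuotientGroup.eq]
        have h1 : (x⁻¹ * (g * x * g⁻¹)) ^ p = 1 :=
          quotient_pow_eq_one h2 _ rfl hK hΩ x g (hmem x hv)
        have h3 := hEn.conj_mem _ h1 g⁻¹
        rwa [show g⁻¹ * (x⁻¹ * (g * x * g⁻¹)) * g⁻¹⁻¹ = (x * g)⁻¹ * (g * x) by group] at h3
      have hIH := ih _ hlt (K := K ⧸ E) rfl (hK.to_quotient E) hΩQ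
      refine le_trans ?_ (hIH.trans ?_)
      · have hle : frattini (K ⧸ E) ≤ (frattini K).map (QuotientGroup.mk' E) := by
          haveI : ((frattini K).map (QuotientGroup.mk' E)).Normal :=
            (inferInstance : (frattini K).Normal).map _ (QuotientGroup.mk'_surjective E)
          refine CfsgLib.Transfer.frattini_le_of_elementary_quotient (p := p) _ (fun a b => ?_)
            (fun a => ?_)
          · obtain ⟨a, rfl⟩ := QuotientGroup.mk'_surjective E a
            obtain ⟨b, rfl⟩ := QuotientGroup.mk'_surjective E b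
            rw [← map_commutatorElement]
            refine mem_map_of_mem _ ?_
            have := StructC.comm_mem_frattini hK a⁻¹ b⁻¹
            rwa [inv_inv, inv_inv, ← commutatorElement_def] at this
          · obtain ⟨a, rfl⟩ := QuotientGroup.mk'_surjective E a
            rw [← map_pow]
            exact mem_map_of_mem _ (StructC.pow_mem_frattini hK a)
        rw [← index_eq_card, ← index_eq_card,
          ← index_map_eq (frattini K) (QuotientGroup.mk'_surjective E) (by rwa [QuotientGroup.ker_mk'])]
        exact Nat.le_of_dvd (Nat.pos_of_ne_zero index_ne_zero_of_finite) (index_dvd_of_le hle)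
      · let out : K ⧸ E → K := fun v => Quotient.out v
        have hout : ∀ v : K ⧸ E, ((out v : K) : K ⧸ E) = v := fun v => QuotientGroup.out_eq' v
        refine Nat.card_le_card_of_injective (fun v : {v : K ⧸ E // v ^ p = 1} =>
          (⟨out v.1 ^ p, hmem _ (by rw [hout]; exact v.2)⟩ : E)) fun v w hvw => Subtype.ext ?_
        have hvw' : out v.1 ^ p = out w.1 ^ p := congrArg Subtype.val hvw
        rw [← hout v.1, ← hout w.1, QuotientGroup.eq]
        set x := out v.1
        set y := out w.1
        have hc : ⁅y, x⁻¹⁆ ^ p = 1 := by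
          rw [show ⁅y, x⁻¹⁆ = (x⁻¹ * (y * x * y⁻¹))⁻¹ by rw [commutatorElement_def]; group, inv_pow,
            quotient_pow_eq_one h2 _ rfl hK hΩ x y (hmem x (by rw [hout]; exact v.2)), inv_one]
        show (x⁻¹ * y) ^ p = 1
        rw [CfsgLib.Transfer.mul_pow_of_commute_commutator (hcomm _ x⁻¹ hc) (hcomm _ y hc) p,
          choose_two_pow_eq_one h2 hc, mul_one, inv_pow, hvw', inv_mul_cancel]
  · obtain ⟨e, he, heF⟩ := SetLike.not_le_iff_exists.mp hEF
    obtain ⟨M, hM, heM⟩ : ∃ M : Subgroup K, IsCoatom M ∧ e ∉ M := by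
      by_contra h
      simp only [not_exists, not_and, not_not] at h
      exact heF (StructC.mem_frattini_of_forall_coatom h)
    obtain ⟨hMn, hMc⟩ := StructC.coatom_card_mul hK hM
    haveI := hMn
    have hMi : M.index = p :=
      Nat.eq_of_mul_eq_mul_left (Nat.card_pos (α := M)) (by rw [card_mul_index, hMc])
    have hlt : Nat.card M < n := by
      rw [← hn, ← hMc]
      exact lt_mul_of_one_lt_right Nat.card_pos hp.out.one_lt
    have hIH := ih _ hlt (K := M) rfl (hK.to_subgroup M) fun z hz => by
      rw [mem_center_iff]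
      intro w
      exact Subtype.ext (mem_center_iff.mp (hΩ z (by simpa using congrArg Subtype.val hz)) w)
    have hΦ : frattini M ≤ (frattini K).subgroupOf M := by
      haveI : ((frattini K).subgroupOf M).Normal := (inferInstance : (frattini K).Normal).subgroupOf M
      refine CfsgLib.Transfer.frattini_le_of_elementary_quotient (p := p) _ (fun a b => ?_)
        (fun a => mem_subgroupOf.mpr (by simpa using StructC.pow_mem_frattini hK (a : K)))
      have := StructC.comm_mem_frattini hK (a : K)⁻¹ (b : K)⁻¹
      rw [inv_inv, inv_inv, ← commutatorElement_def] at this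
      exact mem_subgroupOf.mpr (by simpa [commutatorElement_def] using this)
    have hΦc : Nat.card (frattini M) ≤ Nat.card (frattini K) := by
      refine (Nat.le_of_dvd Nat.card_pos (card_dvd_of_le hΦ)).trans ?_
      rw [← card_map_of_injective M.subtype_injective, subgroupOf_map_subtype]
      exact Nat.le_of_dvd Nat.card_pos (card_dvd_of_le inf_le_left)
    have h1 : Nat.card (K ⧸ frattini K) ≤ Nat.card (M ⧸ frattini M) * p := by
      refine Nat.le_of_mul_le_mul_right (c := Nat.card (frattini K)) ?_ Nat.card_pos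
      rw [← card_eq_card_quotient_mul_card_subgroup, ← hMc,
        card_eq_card_quotient_mul_card_subgroup (frattini M), mul_right_comm]
      exact Nat.mul_le_mul_left _ hΦc
    refine h1.trans ((Nat.mul_le_mul_right p hIH).trans ?_)
    have h3 : Nat.card {x : M // x ^ p = 1} ≤ Nat.card (E ⊓ M : Subgroup K) :=
      Nat.card_le_card_of_injective (fun x => ⟨(x.1 : K), mem_inf.mpr
        ⟨show ((x.1 : K)) ^ p = 1 by simpa using congrArg Subtype.val x.2, x.1.2⟩⟩)
        fun x y h => Subtype.ext (Subtype.ext (congrArg Subtype.val h :))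
    refine (Nat.mul_le_mul_right p h3).trans ?_
    have h4 := relIndex_mul_relIndex ⊥ (E ⊓ M) E bot_le inf_le_left
    rw [inf_relIndex_left, relIndex_bot_left, relIndex_bot_left] at h4
    rw [← h4]
    refine Nat.mul_le_mul_left _ ?_
    have hd : M.relIndex E ∣ p := hMi ▸ relIndex_dvd_index_of_normal M E
    rcases (Nat.dvd_prime hp.out).mp hd with h | h
    · exact absurd (relIndex_eq_one.mp h he) heM
    · exact h.ge

end CfsgLib.ClassK.OmegaCentral
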