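import Cfsg.Agent.Lib.ClassK.OrthClassBound
import Cfsg.Agent.Lib.ClassK.CompRec

/-!
The numerical bounds behind `k(Ω_2n+1(q)) ≤ 7.3 q ^ n`, `q` odd.
-/

set_option autoImplicit false

namespace CfsgLib.ClassK.OddBound

open Finset CfsgLib.KnownB.ClassNum CfsgLib.ClassK.IsoPoly CfsgLib.ClassK.IsoData CfsgLib.ClassK.CompRec

/-- Palindromic polynomials of degree `2 b` over a field of order three without roots `±1`. -/
def pn : ℕ → ℕ
  | 0 => 1
  | 1 => 1
  | b + 2 => 4 * 3 ^ b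

/-- The level-one count with both multiplicities at most one, field of order three. -/
def wr (a : ℕ) : ℕ :=
  if Even a then pn (a / 2) + (if a = 0 then 0 else 4 * pn (a / 2 - 1)) else 4 * pn (a / 2)

/-- The first weight for the field of order three. -/
def tThree (a : ℕ) : ℕ := wgt 3 (Odd 0) a + 3 * wr a

theorem wgt_succ_two (q : ℕ) (fl : Prop) [Decidable fl] {a : ℕ} (ha : 4 ≤ a) :
    wgt q fl (a + 2) = q * wgt q fl a := by
  rw [wgt, wgt, mul_sum]
  refine sum_congr rfl fun d _ => ?_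
  have h1 : dv d.1 + dv d.2 ≤ 4 := by
    have : ∀ x : Fin 4, dv x ≤ 2 := by decide
    have h1 := this d.1
    have h2 := this d.2
    omega
  set s := dv d.1 + dv d.2 with hs
  have e : a + 2 - dv d.1 - dv d.2 = a - dv d.1 - dv d.2 + 2 := by omega
  by_cases h : Even (a - dv d.1 - dv d.2) ∧ (fl → d = (0, 0))
  · rw [if_pos ⟨by omega, by rw [e]; exact h.1.add even_two, h.2⟩, if_pos ⟨by omega, h⟩, e,
      Nat.add_div_right _ (by norm_num), pow_succ, mul_comm]
  · rw [if_neg, if_neg, mul_zero]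
    · exact fun h' => h h'.2
    · rw [e]
      exact fun h' => h ⟨(Nat.even_add.1 h'.2.1).2 even_two, h'.2.2⟩

theorem wgt_zero (q : ℕ) (fl : Prop) [Decidable fl] : wgt q fl 0 = 1 := by
  rw [wgt, Fintype.sum_eq_single ((0, 0) : Fin 4 × Fin 4) fun d hd => if_neg fun h => ?_]
  · simp [dv]
  · have key : ∀ x : Fin 4, dv x ≤ 0 → x = 0 := by decide
    exact hd (Prod.ext (key _ (by omega)) (key _ (by omega)))

theorem tThree_succ_two {a : ℕ} (ha : 6 ≤ a) : tThree (a + 2) = 3 * tThree a := by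
  obtain ⟨b, hb⟩ : ∃ b, a / 2 = b + 3 := ⟨a / 2 - 3, by omega⟩
  rw [tThree, tThree, wgt_succ_two 3 _ (by omega), mul_add]
  congr 1
  simp only [wr, Nat.add_div_right _ (show 0 < 2 by norm_num), Nat.even_add, even_two, iff_true,
    if_neg (show ¬a + 2 = 0 by omega), if_neg (show ¬a = 0 by omega), hb, Nat.succ_eq_add_one,
    show b + 3 + 1 - 1 = b + 1 + 2 from by omega, show b + 3 + 1 = b + 2 + 2 from by omega,
    show b + 3 - 1 = b + 2 from by omega, show b + 3 = b + 1 + 2 from by omega]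
  split_ifs <;> simp only [pn, pow_succ] <;> ring

/-- A recursion of step two with ratio `q` keeps `f a * r ^ a` bounded. -/
theorem periodic_le (f : ℕ → ℕ) (q A : ℕ) {r K : ℝ} (hrq : r ^ 2 * q = 1) (hf : ∀ a, A ≤ a → f (a + 2) = q * f a)
    (L : ℕ) (hLA : L ≤ A) (hL : ∀ a, L ≤ a → a ≤ A + 1 → (f a : ℝ) * r ^ a ≤ K) : ∀ a, L ≤ a → (f a : ℝ) * r ^ a ≤ K := by
  intro a
  induction a using Nat.strong_induction_on with
  | _ a ih =>
    intro ha
    rcases le_or_gt a (A + 1) with h | h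
    · exact hL a ha h
    refine le_trans (le_of_eq ?_) (ih (a - 2) (by omega) (by omega))
    conv_lhs => rw [show a = a - 2 + 2 by omega, hf _ (by omega), Nat.cast_mul, pow_add]
    linear_combination (f (a - 2) : ℝ) * r ^ (a - 2) * hrq

/-- The factor of a level. -/
noncomputable def lvlG (x R : ℝ) (fl : Prop) [Decidable fl] (l : ℕ) : ℝ :=
  (if fl then 1 else (1 + R ^ (l + 1)) ^ 4) / (1 - x ^ l)

theorem sum_lvlG_le {x R r : ℝ} {q : ℕ} (hx1 : x < 1) (hr : 0 ≤ r) (hrR : r ≤ R) (hrx : r ^ 2 ≤ x)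
    (hrq : r ^ 2 * q = 1) (fl : Prop) [Decidable fl] {l : ℕ} (hl : 1 ≤ l) (A : ℕ) :
    ∑ a ∈ range (A + 1), (wgt q fl a : ℝ) * r ^ ((l + 1) * a) ≤ lvlG x R fl l := by
  have hR : 0 ≤ R := hr.trans hrR
  have hx0 : 0 ≤ x := (sq_nonneg r).trans hrx
  have hy : x ^ l < 1 := pow_lt_one₀ hx0 hx1 (by omega)
  have hgeo : ∀ B, ∑ b ∈ range (B + 1), (r ^ 2) ^ (l * b) ≤ 1 / (1 - x ^ l) := by
    intro B
    refine le_trans (sum_le_sum (g := fun b => (x ^ l) ^ b) fun b _ => by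
      rw [← pow_mul x]; exact pow_le_pow_left₀ (by positivity) hrx _) ?_
    rw [le_div_iff₀ (by linarith), geom_sum_mul_neg]
    have : 0 ≤ (x ^ l) ^ (B + 1) := by positivity
    linarith
  let g : Fin 4 × Fin 4 → ℝ := fun d => if fl ∧ d ≠ (0, 0) then 0 else (R ^ (l + 1)) ^ (dv d.1 + dv d.2)
  have key : ∀ d : Fin 4 × Fin 4,
      ∑ a ∈ range (A + 1), ((if dv d.1 + dv d.2 ≤ a ∧ Even (a - dv d.1 - dv d.2) ∧ (fl → d = (0, 0))
        then q ^ ((a - dv d.1 - dv d.2) / 2) else 0 : ℕ) : ℝ) * r ^ ((l + 1) * a) ≤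
        g d * (1 / (1 - x ^ l)) := by
    intro d
    by_cases hd : fl ∧ d ≠ (0, 0)
    · simp only [g, if_pos hd, zero_mul]
      exact le_of_eq (sum_eq_zero fun a _ => by rw [if_neg fun h => hd.2 (h.2.2 hd.1), Nat.cast_zero, zero_mul])
    simp only [g, if_neg hd]
    set s := dv d.1 + dv d.2 with hs
    calc _ = ∑ a ∈ (range (A + 1)).filter (fun a => s ≤ a ∧ Even (a - dv d.1 - dv d.2) ∧ (fl → d = (0, 0))),
          ((q : ℝ) ^ ((a - dv d.1 - dv d.2) / 2) * r ^ ((l + 1) * a)) := by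
          rw [sum_filter]
          refine sum_congr rfl fun a _ => ?_
          split_ifs <;> simp
      _ ≤ ∑ a ∈ (range (A + 1)).image (fun b => s + 2 * b),
          ((q : ℝ) ^ ((a - dv d.1 - dv d.2) / 2) * r ^ ((l + 1) * a)) := by
          refine sum_le_sum_of_subset_of_nonneg (fun a ha => ?_) fun a _ _ => by positivity
          rw [mem_filter, mem_range] at ha
          obtain ⟨b, hb⟩ := ha.2.2.1
          exact mem_image.2 ⟨b, mem_range.2 (by omega), by omega⟩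
      _ = ∑ b ∈ range (A + 1), (r ^ (l + 1)) ^ s * (r ^ 2) ^ (l * b) := by
          rw [sum_image (fun b _ b' _ e => by omega)]
          refine sum_congr rfl fun b _ => ?_
          rw [show (s + 2 * b - dv d.1 - dv d.2) / 2 = b by omega,
            show (l + 1) * (s + 2 * b) = (l + 1) * s + (2 * (l * b) + 2 * b) by ring, pow_add, pow_add,
            pow_mul r 2 b, pow_mul r 2 (l * b), pow_mul r (l + 1) s]
          calc (q : ℝ) ^ b * ((r ^ (l + 1)) ^ s * ((r ^ 2) ^ (l * b) * (r ^ 2) ^ b))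
              = (r ^ (l + 1)) ^ s * (r ^ 2) ^ (l * b) * (r ^ 2 * q) ^ b := by rw [mul_pow]; ring
            _ = _ := by rw [hrq, one_pow, mul_one]
      _ ≤ _ := by
          rw [← mul_sum]
          exact mul_le_mul (pow_le_pow_left₀ (by positivity) (pow_le_pow_left₀ hr hrR _) _) (hgeo A)
            (sum_nonneg fun b _ => by positivity) (by positivity)
  calc ∑ a ∈ range (A + 1), (wgt q fl a : ℝ) * r ^ ((l + 1) * a)
      = ∑ d : Fin 4 × Fin 4, ∑ a ∈ range (A + 1),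
          ((if dv d.1 + dv d.2 ≤ a ∧ Even (a - dv d.1 - dv d.2) ∧ (fl → d = (0, 0))
            then q ^ ((a - dv d.1 - dv d.2) / 2) else 0 : ℕ) : ℝ) * r ^ ((l + 1) * a) := by
        rw [sum_comm]
        refine sum_congr rfl fun a _ => ?_
        rw [wgt, Nat.cast_sum, sum_mul]
    _ ≤ ∑ d, g d * (1 / (1 - x ^ l)) := sum_le_sum fun d _ => key d
    _ = lvlG x R fl l := by
        rw [← sum_mul, lvlG, div_eq_mul_one_div (ite _ _ _)]
        congr 1
        generalize hyy : R ^ (l + 1) = y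
        by_cases h : fl
        · rw [if_pos h, Fintype.sum_eq_single ((0, 0) : Fin 4 × Fin 4) fun d hd => if_pos ⟨h, hd⟩]
          simp [g, dv]
        · rw [if_neg h]
          simp only [g, hyy, h, false_and, if_false, pow_add]
          rw [Fintype.sum_prod_type]
          simp only [Fin.sum_univ_four]
          simp [dv]
          ring

theorem one_le_lvlG {x R : ℝ} (hx0 : 0 ≤ x) (hx1 : x < 1) (hR : 0 ≤ R) (fl : Prop) [Decidable fl] {l : ℕ}
    (hl : 1 ≤ l) : 1 ≤ lvlG x R fl l := by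
  have hy : x ^ l < 1 := pow_lt_one₀ hx0 hx1 (by omega)
  have hy0 : 0 ≤ x ^ l := by positivity
  rw [lvlG, le_div_iff₀ (by linarith), one_mul]
  split_ifs
  · linarith
  · have : (1 : ℝ) ≤ (1 + R ^ (l + 1)) ^ 4 := one_le_pow₀ (le_add_of_nonneg_right (by positivity))
    linarith

/-- The signed product. -/
theorem prod_lvlG_le {x R K : ℝ} (hR0 : 0 ≤ R) (hR : R ≤ 5774 / 10000) (hx0 : 0 ≤ x) (hx : x ≤ R ^ 2)
    (hx3 : x ≤ 1 / 3) (hK : 0 ≤ K) {c : ℕ} (hc : 4 ≤ c)
    (h0 : ∏ j ∈ range (2 * c), lvlG x R (Odd (j + 1)) (j + 1) ≤ K * (1 - 2 * R ^ (2 * c))) : ∀ M : ℕ,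
    ∏ j ∈ range M, lvlG x R (Odd (j + 1)) (j + 1) ≤ K := by
  have main : ∀ m, ∏ j ∈ range (2 * (m + c)), lvlG x R (Odd (j + 1)) (j + 1) ≤ K * (1 - 2 * R ^ (2 * (m + c))) := by
    intro m
    induction m with
    | zero => rw [zero_add]; exact h0
    | succ m ih =>
      obtain ⟨k, hk⟩ : ∃ k, k = m + c := ⟨_, rfl⟩
      rw [← hk] at ih
      rw [show 2 * (m + 1 + c) = 2 * k + 1 + 1 by omega, prod_range_succ, prod_range_succ]
      obtain ⟨v, hv⟩ : ∃ v : ℝ, v = R ^ (2 * k) := ⟨_, rfl⟩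
      obtain ⟨w, hw⟩ : ∃ w : ℝ, w = x ^ (2 * k) := ⟨_, rfl⟩
      have hwv : w ≤ v * v := by
        rw [hw, hv, ← pow_add, show 2 * k + 2 * k = 2 * (2 * k) by ring, pow_mul R 2]
        exact pow_le_pow_left₀ hx0 hx _
      have hw0 : 0 ≤ w := by rw [hw]; positivity
      have hv0 : 0 ≤ v := by rw [hv]; positivity
      have hv1 : v ≤ 1 / 80 := by
        rw [hv]
        refine (pow_le_pow_left₀ hR0 hR _).trans ?_
        exact (pow_le_pow_of_le_one (by norm_num) (by norm_num) (show 8 ≤ 2 * k by omega)).trans (by norm_num)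
      have h1 : lvlG x R (Odd (2 * k + 1)) (2 * k + 1) = 1 / (1 - w * x) := by
        rw [lvlG, if_pos ⟨k, rfl⟩, pow_succ, ← hw]
      have h2 : lvlG x R (Odd (2 * k + 1 + 1)) (2 * k + 1 + 1) = (1 + R ^ 3 * v) ^ 4 / (1 - w * x ^ 2) := by
        rw [lvlG, if_neg (Nat.not_odd_iff_even.2 ⟨k + 1, by omega⟩), show 2 * k + 1 + 1 + 1 = 3 + 2 * k by ring,
          pow_add, ← hv, show 2 * k + 1 + 1 = 2 * k + 2 by ring, pow_add, ← hw]
      rw [h1, h2, show 2 * k + 1 + 1 = 2 * k + 2 from rfl, pow_add, ← hv]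
      rw [← hv] at ih
      have hw2 : w ≤ v / 80 := hwv.trans (by nlinarith)
      have a1 : w * x ≤ w / 3 := by nlinarith [mul_nonneg hw0 (sub_nonneg.2 hx3)]
      have a2 : w * x ^ 2 ≤ w / 9 := by nlinarith [mul_nonneg hw0 (sub_nonneg.2 hx3), mul_nonneg (mul_nonneg hw0 hx0) (sub_nonneg.2 hx3)]
      have d1 : 0 < 1 - w * x := by linarith
      have d2 : 0 < 1 - w * x ^ 2 := by linarith
      refine (mul_le_mul_of_nonneg_right (mul_le_mul_of_nonneg_right ih (by positivity)) (by positivity)).trans ?_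
      rw [mul_assoc, mul_assoc, div_mul_div_comm, one_mul]
      refine mul_le_mul_of_nonneg_left ?_ hK
      rw [← mul_div_assoc, div_le_iff₀ (by positivity)]
      have hR3 : R ^ 3 * v ≤ 1926 / 10000 * v :=
        mul_le_mul_of_nonneg_right ((pow_le_pow_left₀ hR0 hR 3).trans (by norm_num)) hv0
      have hR2 : v * R ^ 2 ≤ 3334 / 10000 * v := by
        rw [mul_comm]
        exact mul_le_mul_of_nonneg_right ((pow_le_pow_left₀ hR0 hR 2).trans (by norm_num)) hv0
      have hpow : (1 + R ^ 3 * v) ^ 4 ≤ 1 + 79 / 100 * v := by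
        refine (pow_le_pow_left₀ (by positivity) (by linarith : 1 + R ^ 3 * v ≤ 1 + 1926 / 10000 * v) 4).trans ?_
        nlinarith [mul_nonneg hv0 hv0, mul_nonneg (mul_nonneg hv0 hv0) hv0]
      refine (mul_le_mul_of_nonneg_left hpow (by linarith)).trans ?_
      have hprod : 1 - (w / 3 + w / 9) ≤ (1 - w * x) * (1 - w * x ^ 2) := by
        nlinarith [mul_nonneg (mul_nonneg hw0 hx0) (mul_nonneg hw0 (sq_nonneg x))]
      refine le_trans ?_ (mul_le_mul_of_nonneg_left hprod (by linarith))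
      nlinarith [mul_nonneg hv0 hw0, mul_nonneg hv0 hv0]
  intro M
  have hx1 : x < 1 := by linarith
  refine ((prod_le_prod_of_subset_of_one_le (range_subset_range.2 (show M ≤ 2 * (M + c) by omega))
    (fun j _ => le_trans zero_le_one (one_le_lvlG hx0 hx1 hR0 _ (by omega)))
    fun j _ _ => one_le_lvlG hx0 hx1 hR0 _ (by omega)).trans (main M)).trans (mul_le_of_le_one_right hK ?_)
  have : 0 ≤ R ^ (2 * (M + c)) := by positivity
  linarith

/-- The weight with first level one. -/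
def wRest (q : ℕ) (l a : ℕ) : ℕ := if l = 0 then (if a = 0 then 1 else 0) else wgt q (Odd l) a

theorem mass_rest_le {x R r K : ℝ} {q : ℕ} (hx1 : x < 1) (hr : 0 ≤ r) (hrR : r ≤ R) (hrx : r ^ 2 ≤ x)
    (hrq : r ^ 2 * q = 1) (hK : ∀ M, ∏ j ∈ range M, lvlG x R (Odd (j + 1)) (j + 1) ≤ K) {L : ℕ} (hL : 1 ≤ L)
    (X : ℕ) : ∑ M ∈ range (X + 1), (cs (wRest q) L M : ℝ) * r ^ M ≤ K := by
  refine (mass_le (wRest q) r (fun l => if l = 0 then 1 else lvlG x R (Odd l) l) hr X (fun l => ?_) L).trans ?_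
  · rcases l with _ | l
    · rw [sum_eq_single 0]
      · simp [wRest]
      · intro a _ ha; simp [wRest, ha]
      · simp
    · simp only [wRest, if_neg (Nat.succ_ne_zero l)]
      exact sum_lvlG_le hx1 hr hrR hrx hrq _ (by omega) X
  · obtain ⟨k, rfl⟩ : ∃ k, L = k + 1 := ⟨L - 1, by omega⟩
    rw [prod_range_succ', if_pos rfl, mul_one]
    simp only [Nat.succ_ne_zero, if_false]
    exact hK k

theorem exists_sqrt (q : ℕ) (hq : 0 < q) : ∃ r : ℝ, 0 ≤ r ∧ r ^ 2 * q = 1 ∧ r ^ 2 = 1 / q := by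
  refine ⟨Real.sqrt (1 / q), Real.sqrt_nonneg _, ?_, Real.sq_sqrt (by positivity)⟩
  rw [Real.sq_sqrt (by positivity)]
  have : (0 : ℝ) < q := by exact_mod_cast hq
  field_simp

theorem pow_odd (q n : ℕ) {r : ℝ} (hrq : r ^ 2 * q = 1) : (q : ℝ) ^ n * r ^ (2 * n + 1) = r := by
  rw [pow_succ, pow_mul, ← mul_assoc, ← mul_pow, mul_comm (q : ℝ), hrq, one_pow, one_mul]

theorem first_five_le {r : ℝ} (hr : 0 ≤ r) (hr2 : r ^ 2 = 1 / 5) (hrR : r ≤ 4473 / 10000)
    (hrq : r ^ 2 * ((5 : ℕ) : ℝ) = 1) (a : ℕ) : (wgt 5 (Odd 0) a : ℝ) * r ^ a ≤ 225 / 100 := by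
  refine periodic_le (fun a => wgt 5 (Odd 0) a) 5 4 hrq (fun a ha => wgt_succ_two 5 _ ha) 0 (by norm_num)
    (fun b _ hb => ?_) a (Nat.zero_le a)
  have e : ∀ c : Fin 6, wgt 5 (Odd 0) (c : ℕ) = ![1, 4, 11, 24, 56, 120] c := by decide +kernel
  have h := e ⟨b, by omega⟩
  have p3 : r ^ 3 = r / 5 := by rw [show r ^ 3 = r ^ 2 * r by ring, hr2]; ring
  have p4 : r ^ 4 = 1 / 25 := by rw [show r ^ 4 = r ^ 2 * r ^ 2 by ring, hr2]; norm_num
  have p5 : r ^ 5 = r / 25 := by rw [show r ^ 5 = r ^ 4 * r by ring, p4]; ring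
  simp only at h ⊢
  rw [h]
  interval_cases b <;> simp [hr2, p3, p4, p5] <;> linarith

theorem first_three_le {r : ℝ} (hr : 0 ≤ r) (hr2 : r ^ 2 = 1 / 3) (hrR : r ≤ 5774 / 10000)
    (hrq : r ^ 2 * ((3 : ℕ) : ℝ) = 1) (a : ℕ) (ha : 3 ≤ a) : (tThree a : ℝ) * r ^ a ≤ 62225 / 10000 := by
  refine periodic_le tThree 3 6 hrq (fun b hb => tThree_succ_two hb) 3 (by norm_num) (fun b hb1 hb2 => ?_) a ha
  have e : ∀ c : Fin 8, tThree (c : ℕ) = ![4, 16, 24, 28, 52, 96, 168, 288] c := by decide +kernel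
  have h := e ⟨b, by omega⟩
  have p3 : r ^ 3 = r / 3 := by rw [show r ^ 3 = r ^ 2 * r by ring, hr2]; ring
  have p4 : r ^ 4 = 1 / 9 := by rw [show r ^ 4 = r ^ 2 * r ^ 2 by ring, hr2]; norm_num
  have p5 : r ^ 5 = r / 9 := by rw [show r ^ 5 = r ^ 4 * r by ring, p4]; ring
  have p6 : r ^ 6 = 1 / 27 := by rw [show r ^ 6 = r ^ 4 * r ^ 2 by ring, hr2, p4]; norm_num
  have p7 : r ^ 7 = r / 27 := by rw [show r ^ 7 = r ^ 6 * r by ring, p6]; ring
  simp only at h
  rw [h]
  interval_cases b <;> simp [p3, p4, p5, p6, p7] <;> linarith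

theorem first_three_le' {r : ℝ} (hr : 0 ≤ r) (hr2 : r ^ 2 = 1 / 3) (hrR : r ≤ 5774 / 10000)
    (hrq : r ^ 2 * ((3 : ℕ) : ℝ) = 1) (a : ℕ) : (tThree a : ℝ) * r ^ a ≤ 924 / 100 := by
  rcases le_or_gt 3 a with h | h
  · linarith [first_three_le hr hr2 hrR hrq a h]
  · have e : ∀ c : Fin 3, tThree (c : ℕ) = ![4, 16, 24] c := by decide +kernel
    have h' := e ⟨a, h⟩
    simp only at h'
    rw [h']
    interval_cases a <;> simp [hr2] <;> linarith

set_option maxHeartbeats 800000 in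
/-- Five. -/
theorem sum_five_le (n : ℕ) :
    5 * cs (fun l a => wgt 5 (Odd l) a) (2 * n + 1) (2 * n + 1) ≤ 73 * 5 ^ n := by
  obtain ⟨r, hr, hrq, hr2⟩ := exists_sqrt 5 (by norm_num)
  norm_num at hr2
  have hrR : r ≤ 4473 / 10000 := by nlinarith
  have hrl : (447 / 1000 : ℝ) ≤ r := by nlinarith
  have hB : ∀ M, ∏ j ∈ range M, lvlG (1 / 5) (4473 / 10000) (Odd (j + 1)) (j + 1) ≤ 204 / 100 :=
    prod_lvlG_le (by norm_num) (by norm_num) (by norm_num) (by norm_num) (by norm_num) (by norm_num) le_rfl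
      (by norm_num [prod_range_succ, lvlG, Nat.odd_iff])
  set N := 2 * n + 1 with hN
  have hT := first_five_le hr hr2 hrR hrq
  have e : cs (fun l a => wgt 5 (Odd l) a) N N =
      ∑ a ∈ range (N + 1), wgt 5 (Odd 0) a * cs (wRest 5) N (N - a) := by
    refine Eq.trans ?_ (cs_first (fun l a => wgt 5 (Odd l) a) (fun a => wgt 5 (Odd 0) a) N N (by omega))
    congr 1
    funext l a
    split_ifs with h
    · subst h; rfl
    · rfl
  have hc : ((cs (fun l a => wgt 5 (Odd l) a) N N : ℕ) : ℝ) * r ^ N ≤ 225 / 100 * (204 / 100) := by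
    rw [e, Nat.cast_sum, sum_mul]
    calc ∑ a ∈ range (N + 1), ((wgt 5 (Odd 0) a * cs (wRest 5) N (N - a) : ℕ) : ℝ) * r ^ N
        ≤ ∑ a ∈ range (N + 1), 225 / 100 * ((cs (wRest 5) N (N - a) : ℝ) * r ^ (N - a)) := by
          refine sum_le_sum fun a ha => ?_
          rw [mem_range] at ha
          rw [Nat.cast_mul, show r ^ N = r ^ a * r ^ (N - a) by rw [← pow_add]; congr 1; omega, mul_mul_mul_comm]
          exact mul_le_mul_of_nonneg_right (hT a) (mul_nonneg (Nat.cast_nonneg _) (pow_nonneg hr _))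
      _ ≤ _ := by
          rw [← mul_sum]
          refine mul_le_mul_of_nonneg_left ?_ (by norm_num)
          have := sum_range_reflect (fun M => (cs (wRest 5) N M : ℝ) * r ^ M) (N + 1)
          simp only [Nat.add_sub_cancel] at this
          rw [this]
          exact mass_rest_le (x := 1 / 5) (by norm_num) hr hrR hr2.le hrq hB (by omega) N
  have hp : (5 : ℝ) ^ n * r ^ N = r := by simpa using pow_odd 5 n hrq
  refine (Nat.cast_le (α := ℝ)).1 ?_
  push_cast
  have hrN : 0 < r ^ N := by have : 0 < r := by linarith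
                             positivity
  refine le_of_mul_le_mul_right ?_ hrN
  rw [mul_assoc, mul_assoc, hp]
  refine (mul_le_mul_of_nonneg_left hc (by norm_num)).trans ?_
  linarith

set_option maxHeartbeats 1000000 in
/-- Three. -/
theorem sum_three_le (n : ℕ) (hn : 1 ≤ n) :
    10 * cs (fun l a => if l = 0 then tThree a else wgt 3 (Odd l) a) (2 * n + 1) (2 * n + 1) ≤ 584 * 3 ^ n := by
  set W := fun l a => if l = 0 then tThree a else wgt 3 (Odd l) a with hW
  have hW0 : ∀ l, 1 ≤ l → W l 0 = 1 := fun l hl => by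
    simp only [W, if_neg (show l ≠ 0 by omega), wgt_zero]
  rcases le_or_gt n 10 with hs | hs
  · have key : ∀ m : Fin 11, 10 * (tab W 21 21).getD (2 * (m : ℕ) + 1) 0 ≤ 584 * 3 ^ (m : ℕ) := by
      decide +kernel
    have := key ⟨n, by omega⟩
    simp only [(tab_spec W 21 21).2 (2 * n + 1) (by omega)] at this
    rwa [cs_stable W hW0 (show 1 ≤ 2 * n + 1 by omega) le_rfl (show 2 * n + 1 ≤ 21 by omega)] at this
  obtain ⟨r, hr, hrq, hr2⟩ := exists_sqrt 3 (by norm_num)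
  norm_num at hr2
  have hrR : r ≤ 5774 / 10000 := by nlinarith
  have hrl : (5773 / 10000 : ℝ) ≤ r := by nlinarith
  have hB : ∀ M, ∏ j ∈ range M, lvlG (1 / 3) (5774 / 10000) (Odd (j + 1)) (j + 1) ≤ 52654 / 10000 :=
    prod_lvlG_le (by norm_num) le_rfl (by norm_num) (by norm_num) le_rfl (by norm_num) (show 4 ≤ 6 by norm_num)
      (by norm_num [prod_range_succ, lvlG, Nat.odd_iff])
  set N := 2 * n + 1 with hN
  have hT3 := first_three_le hr hr2 hrR hrq
  have hT := first_three_le' hr hr2 hrR hrq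
  obtain ⟨f, hf⟩ : ∃ f : ℕ → ℝ, ∀ M, f M = (cs (wRest 3) N M : ℝ) * r ^ M := ⟨_, fun _ => rfl⟩
  have hf0 : ∀ M, 0 ≤ f M := fun M => by rw [hf]; positivity
  have hmass : ∑ M ∈ range (N + 1), f M ≤ 52654 / 10000 := by
    simp only [hf]
    exact mass_rest_le (x := 1 / 3) (by norm_num) hr hrR hr2.le hrq hB (by omega) N
  have hpart : (50 / 10 : ℝ) ≤ ∑ M ∈ range 21, f M := by
    have key : 50000 * 3 ^ 10 ≤ ∑ M ∈ range 21, (tab (wRest 3) 20 20).getD M 0 *
        (3 ^ (10 - M / 2) * if Odd M then 5773 else 10000) := by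
      decide +kernel
    have key' : (50000 * 3 ^ 10 : ℝ) ≤ ∑ M ∈ range 21, f M * (10000 * 3 ^ 10) := by
      refine le_trans (by exact_mod_cast key) (le_trans (le_of_eq (Nat.cast_sum _ _)) (sum_le_sum fun M hM => ?_))
      rw [mem_range] at hM
      have hst : cs (wRest 3) N M = (tab (wRest 3) 20 20).getD M 0 := by
        rw [(tab_spec (wRest 3) 20 20).2 M (by omega)]
        exact cs_stable (wRest 3) (fun l hl => by simp [wRest, show l ≠ 0 by omega, wgt_zero]) (show 1 ≤ 20 by norm_num)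
          (by omega) (by omega)
      rw [hf, hst, Nat.cast_mul, Nat.cast_mul, Nat.cast_pow, Nat.cast_ofNat, mul_assoc]
      refine mul_le_mul_of_nonneg_left ?_ (Nat.cast_nonneg _)
      obtain ⟨j, rfl | rfl⟩ := Nat.even_or_odd' M
      · rw [Nat.mul_div_cancel_left _ (by norm_num : 0 < 2), if_neg (by simp), pow_mul, hr2, Nat.cast_ofNat,
          show (3 : ℝ) ^ 10 = 3 ^ (10 - j) * 3 ^ j by rw [← pow_add]; congr 1; omega]
        refine le_of_eq ?_
        rw [show (1 / 3 : ℝ) ^ j * (10000 * (3 ^ (10 - j) * 3 ^ j)) = 10000 * 3 ^ (10 - j) * ((1 / 3 : ℝ) * 3) ^ j by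
          rw [mul_pow]; ring]
        norm_num; ring
      · rw [show (2 * j + 1) / 2 = j by omega, if_pos (by simp), pow_succ, pow_mul, hr2, Nat.cast_ofNat,
          show (3 : ℝ) ^ 10 = 3 ^ (10 - j) * 3 ^ j by rw [← pow_add]; congr 1; omega]
        rw [show (1 / 3 : ℝ) ^ j * r * (10000 * (3 ^ (10 - j) * 3 ^ j)) = 3 ^ (10 - j) * (r * 10000) * ((1 / 3 : ℝ) * 3) ^ j by
          rw [mul_pow]; ring]
        norm_num
        linarith
    rw [← sum_mul] at key'
    norm_num at key' ⊢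
    linarith
  have hc : ((cs W N N : ℕ) : ℝ) * r ^ N ≤ 336 / 10 := by
    rw [hW, cs_first (fun l a => wgt 3 (Odd l) a) tThree N N (by omega), Nat.cast_sum, sum_mul]
    calc ∑ a ∈ range (N + 1), ((tThree a * cs (wRest 3) N (N - a) : ℕ) : ℝ) * r ^ N
        ≤ ∑ a ∈ range (N + 1), (if a < 3 then 924 / 100 else 62225 / 10000) * f (N - a) := by
          refine sum_le_sum fun a ha => ?_
          rw [mem_range] at ha
          rw [Nat.cast_mul, show r ^ N = r ^ a * r ^ (N - a) by rw [← pow_add]; congr 1; omega, mul_mul_mul_comm, hf]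
          refine mul_le_mul_of_nonneg_right ?_ (by positivity)
          split_ifs with h
          · exact hT a
          · exact hT3 a (by omega)
      _ = ∑ M ∈ range (N + 1), (if N - M < 3 then 924 / 100 else 62225 / 10000) * f M := by
          rw [← sum_range_reflect (fun M => (if N - M < 3 then (924 / 100 : ℝ) else 62225 / 10000) * f M) (N + 1)]
          refine sum_congr rfl fun a ha => ?_
          rw [mem_range] at ha
          rw [Nat.add_sub_cancel, show N - (N - a) = a by omega]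
      _ ≤ ∑ M ∈ range (N + 1), (924 / 100 * f M - if M < 21 then (924 / 100 - 62225 / 10000) * f M else 0) := by
          refine sum_le_sum fun M hM => ?_
          rw [mem_range] at hM
          have := hf0 M
          by_cases h : M < 21
          · rw [if_neg (show ¬N - M < 3 by omega), if_pos h]; linarith
          · rw [if_neg h, sub_zero]
            split_ifs <;> linarith
      _ ≤ _ := by
          rw [sum_sub_distrib, ← mul_sum, ← sum_filter,
            show (range (N + 1)).filter (fun M => M < 21) = range 21 from Finset.ext fun M => by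
              simp only [mem_filter, mem_range]; omega, ← mul_sum]
          linarith
  have hp : (3 : ℝ) ^ n * r ^ N = r := by simpa using pow_odd 3 n hrq
  refine (Nat.cast_le (α := ℝ)).1 ?_
  push_cast
  have hrN : 0 < r ^ N := by have : 0 < r := by linarith
                             positivity
  refine le_of_mul_le_mul_right ?_ hrN
  rw [mul_assoc, mul_assoc, hp]
  refine (mul_le_mul_of_nonneg_left hc (by norm_num)).trans ?_
  linarith

theorem wgt_monotone {q : ℕ} (hq : 5 ≤ q) (fl : Prop) [Decidable fl] (a : ℕ) :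
    wgt q fl a * 5 ^ (a / 2) ≤ wgt 5 fl a * q ^ (a / 2) := by
  rw [wgt, wgt, sum_mul, sum_mul]
  refine sum_le_sum fun d _ => ?_
  split_ifs with h
  · obtain ⟨t, ht⟩ : ∃ t, a / 2 = (a - dv d.1 - dv d.2) / 2 + t :=
      ⟨a / 2 - (a - dv d.1 - dv d.2) / 2, by omega⟩
    rw [ht, pow_add, pow_add, ← mul_assoc, ← mul_assoc, mul_comm (5 ^ _) (q ^ _)]
    exact Nat.mul_le_mul_left _ (Nat.pow_le_pow_left hq t)
  · simp

/-- Monotonicity in `q`. -/
theorem sum_le_five {q : ℕ} (hq : 5 ≤ q) (N n : ℕ) (hN : N = 2 * n + 1) :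
    (∑ a ∈ comps 1 N N, ∏ l : Fin N, wgt q (Odd (l : ℕ)) (a l)) * 5 ^ n ≤
      (∑ a ∈ comps 1 N N, ∏ l : Fin N, wgt 5 (Odd (l : ℕ)) (a l)) * q ^ n := by
  rw [sum_mul, sum_mul]
  refine sum_le_sum fun a ha => ?_
  have hB : ∑ l : Fin N, a l / 2 ≤ n := by
    have h1 : ∑ l : Fin N, 2 * (a l / 2) ≤ ∑ l : Fin N, (1 + (l : ℕ)) * a l :=
      sum_le_sum fun l _ => (Nat.mul_div_le _ _).trans (Nat.le_mul_of_pos_left _ (by omega))
    rw [(mem_comps le_rfl).1 ha, ← mul_sum] at h1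
    omega
  obtain ⟨t, ht⟩ : ∃ t, n = ∑ l : Fin N, a l / 2 + t := ⟨n - ∑ l : Fin N, a l / 2, by omega⟩
  rw [ht, pow_add, pow_add, ← mul_assoc, ← mul_assoc, ← prod_pow_eq_pow_sum, ← prod_pow_eq_pow_sum,
    ← prod_mul_distrib, ← prod_mul_distrib]
  exact Nat.mul_le_mul (prod_le_prod' fun l _ => wgt_monotone hq _ _) (Nat.pow_le_pow_left hq t)

/-- `5 Σ ≤ 73 q ^ n` for `q ≥ 5`. -/
theorem sum_large_le {q : ℕ} (hq : 5 ≤ q) (n : ℕ) :
    5 * ∑ a ∈ comps 1 (2 * n + 1) (2 * n + 1), ∏ l : Fin (2 * n + 1), wgt q (Odd (l : ℕ)) (a l) ≤ 73 * q ^ n := by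
  have h1 := sum_le_five hq (2 * n + 1) n rfl
  have h2 := sum_five_le n
  rw [← sum_comps_eq (fun l a => wgt 5 (Odd l) a)] at h2
  refine Nat.le_of_mul_le_mul_right (c := 5 ^ n) ?_ (by positivity)
  calc 5 * (∑ a ∈ comps 1 (2 * n + 1) (2 * n + 1), ∏ l : Fin (2 * n + 1), wgt q (Odd (l : ℕ)) (a l)) * 5 ^ n
      ≤ 5 * ((∑ a ∈ comps 1 (2 * n + 1) (2 * n + 1), ∏ l : Fin (2 * n + 1), wgt 5 (Odd (l : ℕ)) (a l)) * q ^ n) := by
        rw [mul_assoc]; exact Nat.mul_le_mul_left 5 h1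
    _ ≤ 73 * 5 ^ n * q ^ n := by rw [← mul_assoc]; exact Nat.mul_le_mul_right _ h2
    _ = 73 * q ^ n * 5 ^ n := by ring

end CfsgLib.ClassK.OddBound
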