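import Cfsg.Agent.Lib.ClassK.IsoClassData
import Cfsg.Agent.Lib.Classical.SemiSympExists

/-!
Self-reciprocal polynomials as characteristic polynomials of orthogonal matrices of both types, and
the lower bound `q ^ n ≤ 2 k(O^±_2n(q))`.
-/

set_option autoImplicit false

namespace CfsgLib.ClassK.IsoData

open Matrix Polynomial Finset CfsgLib.Classical CfsgLib.ClassK.IsoPoly
open scoped Matrix

variable {F : Type*} [Field F] [Fintype F]

omit [Fintype F] in
theorem det_J_eq_one (m : ℕ) : (Matrix.J (Fin m) F).det = 1 := by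
  have h : Matrix.J (Fin m) F =
      fromBlocks 1 (-1) 0 1 * fromBlocks 1 0 1 1 * fromBlocks 1 (-1) 0 1 := by
    rw [Matrix.J, fromBlocks_multiply, fromBlocks_multiply]
    simp
  rw [h, det_mul, det_mul, det_fromBlocks_zero₂₁, det_fromBlocks_zero₁₂, det_one, one_mul, one_mul, one_mul]

/-- A self-reciprocal polynomial without roots `±1`. -/
theorem exists_orth_no_root {m : ℕ} {g : F[X]} (hg : g.Monic) (hr : g.reverse = g) (hd : g.natDegree = 2 * m)
    (h1 : g.eval 1 ≠ 0) (hm1 : g.eval (-1) ≠ 0) :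
    ∃ A J : Matrix (Fin m ⊕ Fin m) (Fin m ⊕ Fin m) F, Jᵀ = J ∧ J.det = g.eval 1 * g.eval (-1) ∧
      Aᵀ * J * A = J ∧ A.charpoly = g := by
  classical
  obtain ⟨p, _, e, hp, -⟩ := FiniteField.card' F
  haveI := Fact.mk hp
  obtain ⟨S, -, hS⟩ := SemiSympExists.exists_symp p g hg hr hd
  obtain ⟨A, hA⟩ : ∃ A, A = (S : Matrix (Fin m ⊕ Fin m) (Fin m ⊕ Fin m) F) := ⟨_, rfl⟩
  obtain ⟨B, hB⟩ : ∃ B, B = ((S⁻¹ : symplecticGroup (Fin m) F) : Matrix (Fin m ⊕ Fin m) (Fin m ⊕ Fin m) F) := ⟨_, rfl⟩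
  obtain ⟨Jm, hJm⟩ : ∃ Jm, Jm = Matrix.J (Fin m) F := ⟨_, rfl⟩
  have hAB : A * B = 1 := by rw [hA, hB, ← Submonoid.coe_mul, mul_inv_cancel, Submonoid.coe_one]
  have hBA : B * A = 1 := mul_eq_one_comm.1 hAB
  have hinv : Aᵀ * Jm * A = Jm := by rw [hA, hJm]; exact SymplecticGroup.mem_iff'.1 S.2
  have e1 : Aᵀ * Jm = Jm * B := by
    calc Aᵀ * Jm = Aᵀ * Jm * (A * B) := by rw [hAB, Matrix.mul_one]
      _ = Aᵀ * Jm * A * B := by simp only [Matrix.mul_assoc]
      _ = _ := by rw [hinv]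
  have e2 : Bᵀ * Jm = Jm * A := by
    calc Bᵀ * Jm = Bᵀ * (Aᵀ * Jm * A) := by rw [hinv]
      _ = (A * B)ᵀ * Jm * A := by rw [transpose_mul]; simp only [Matrix.mul_assoc]
      _ = _ := by rw [hAB, transpose_one, Matrix.one_mul]
  refine ⟨A, Jm * (B - A), ?_, ?_, ?_, hA ▸ hS⟩
  · rw [transpose_mul, transpose_sub, hJm, J_transpose, Matrix.sub_mul, Matrix.mul_neg, Matrix.mul_neg, ← hJm,
      e1, e2, Matrix.mul_sub]
    abel
  · have hBd : B.det = 1 := by rw [hB]; exact SymplecticGroup.det_eq_one (S⁻¹).2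
    have ev : ∀ c : F, g.eval c = (c • (1 : Matrix (Fin m ⊕ Fin m) (Fin m ⊕ Fin m) F) - A).det := fun c => by
      rw [← hS, ← hA, eval_charpoly, smul_one_eq_diagonal, ← Matrix.scalar_apply]
    have hneg : ((-1 : F) • (1 : Matrix (Fin m ⊕ Fin m) (Fin m ⊕ Fin m) F) - A).det = (1 + A).det := by
      rw [neg_one_smul, show -(1 : Matrix (Fin m ⊕ Fin m) (Fin m ⊕ Fin m) F) - A = -(1 + A) by abel, det_neg,
        Fintype.card_sum, Fintype.card_fin, ← two_mul, pow_mul, neg_one_sq, one_pow, one_mul]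
    rw [det_mul, hJm, det_J_eq_one, one_mul, ev, ev, hneg, one_smul, ← det_mul,
      show B - A = B * ((1 - A) * (1 + A)) by
        rw [Matrix.sub_mul, Matrix.one_mul, Matrix.mul_add A, Matrix.mul_one,
          show 1 + A - (A + A * A) = 1 - A * A by abel, Matrix.mul_sub, Matrix.mul_one, ← Matrix.mul_assoc, hBA,
          Matrix.one_mul], det_mul, hBd, one_mul]
  · calc Aᵀ * (Jm * (B - A)) * A = Aᵀ * Jm * ((B - A) * A) := by simp only [Matrix.mul_assoc]
      _ = Aᵀ * Jm * (A * (B - A)) := by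
          congr 1; rw [Matrix.sub_mul, Matrix.mul_sub, hBA, hAB]
      _ = Aᵀ * Jm * A * (B - A) := by simp only [Matrix.mul_assoc]
      _ = _ := by rw [hinv]

omit [Fintype F] in
theorem conj_charpoly {N : ℕ} (h : GL (Fin N) F) {M : Matrix (Fin N) (Fin N) F} (hM : IsUnit M) :
    ((h⁻¹ * hM.unit * h : GL (Fin N) F) : Matrix (Fin N) (Fin N) F).charpoly = M.charpoly := by
  rw [Units.val_mul, Units.val_mul, IsUnit.unit_spec, Matrix.coe_units_inv, Matrix.charpoly_units_conj']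

/-- Realisation in a given discriminant. -/
theorem exists_orth_charpoly (h2 : (2 : F) ≠ 0) {n : ℕ} {f : F[X]} (hf : f.Monic) (hr : f.reverse = f)
    (hd : f.natDegree = 2 * n) {J : Matrix (Fin (2 * n)) (Fin (2 * n)) F} (hJs : Jᵀ = J) (hJu : IsUnit J)
    (hcond : f.eval 1 * f.eval (-1) = 0 ∨ IsSquare (f.eval 1 * f.eval (-1) * J.det)) :
    ∃ A : ↥(isoGroup J), ((A : GL (Fin (2 * n)) F) : Matrix (Fin (2 * n)) (Fin (2 * n)) F).charpoly = f := by
  classical
  have h0 : f.coeff 0 = 1 := SemiPalin.coeff_zero_of_rev hr hf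
  have hrec : IsRecip f := ⟨hf, by rw [h0]; exact one_ne_zero, by
    rw [SemiPalin.tilde, SemiPalin.srev, Polynomial.map_id, RingHom.id_apply, h0, inv_one, C_1, one_mul, hr]⟩
  obtain ⟨g, i, j, hi, hj, hg, hge, hgr, hfg⟩ := recip_split h2 hrec
  have hdeg : f.natDegree = i + j + g.natDegree := by
    rw [hfg, (((monic_X_sub_C (1 : F)).pow _).mul ((monic_X_sub_C _).pow _)).natDegree_mul hg,
      ((monic_X_sub_C (1 : F)).pow _).natDegree_mul ((monic_X_sub_C _).pow _), natDegree_pow, natDegree_pow,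
      natDegree_X_sub_C, natDegree_X_sub_C, mul_one, mul_one]
  obtain ⟨m, hm⟩ := hge
  have hne : (1 : F) ≠ -1 := fun h => h2 (by linear_combination h)
  have hg1 : g.eval 1 ≠ 0 ∧ g.eval (-1) ≠ 0 := by
    have hf0 : f ≠ 0 := hf.ne_zero
    rw [hfg] at hf0
    constructor <;> intro h0' <;>
      have hgd := (Polynomial.rootMultiplicity_pos hg.ne_zero).2 h0'
    · have := congrArg (rootMultiplicity (1 : F)) hfg
      rw [rootMultiplicity_mul hf0, rootMultiplicity_mul (left_ne_zero_of_mul hf0),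
        rootMultiplicity_X_sub_C_pow, rootMultiplicity_eq_zero (p := (X - C (-1)) ^ j)
          (by simp [IsRoot, one_add_one_eq_two, h2])] at this
      omega
    · have := congrArg (rootMultiplicity (-1 : F)) hfg
      rw [rootMultiplicity_mul hf0, rootMultiplicity_mul (left_ne_zero_of_mul hf0),
        rootMultiplicity_X_sub_C_pow, rootMultiplicity_eq_zero (p := (X - C 1) ^ i)
          (by simp [IsRoot, sub_eq_zero, hne.symm])] at this
      omega
  obtain ⟨A', J', hJ's, hJ'd, hA', hA'c⟩ := exists_orth_no_root (m := m) hg hgr (by omega) hg1.1 hg1.2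
  -- the eigenvalues `±1` and their form
  let ev : Fin i ⊕ Fin j → F := Sum.elim (fun _ => 1) (fun _ => -1)
  obtain ⟨w, hw, hwsq⟩ : ∃ w : Fin i ⊕ Fin j → F, (∀ k, w k ≠ 0) ∧ IsSquare (J'.det * (∏ k, w k) * J.det) := by
    have hJd : J.det ≠ 0 := ((isUnit_iff_isUnit_det J).1 hJu).ne_zero
    have hJ'd0 : J'.det ≠ 0 := by rw [hJ'd]; exact mul_ne_zero hg1.1 hg1.2
    rcases isEmpty_or_nonempty (Fin i ⊕ Fin j) with he | ⟨⟨k₀⟩⟩
    · refine ⟨fun _ => 1, fun _ => one_ne_zero, ?_⟩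
      have hi : i = 0 := by
        by_contra hne; exact he.false (.inl ⟨0, by omega⟩)
      have hj : j = 0 := by
        by_contra hne; exact he.false (.inr ⟨0, by omega⟩)
      rw [hi, hj, pow_zero, pow_zero, one_mul, one_mul] at hfg
      rw [prod_eq_one (fun _ _ => rfl), mul_one, hJ'd, ← hfg]
      exact hcond.resolve_left (by rw [hfg]; exact mul_ne_zero hg1.1 hg1.2)
    · refine ⟨Function.update (fun _ => 1) k₀ (J'.det * J.det), fun k => ?_, ?_⟩
      · rcases eq_or_ne k k₀ with rfl | hk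
        · rw [Function.update_self]; exact mul_ne_zero hJ'd0 hJd
        · rw [Function.update_of_ne hk]; exact one_ne_zero
      · rw [Fintype.prod_eq_single k₀ fun k hk => Function.update_of_ne hk _ _, Function.update_self]
        exact ⟨J'.det * J.det, by ring⟩
  have hev : ∀ k, ev k * ev k = 1 := by rintro (k | k) <;> simp [ev]
  let A₀ : Matrix ((Fin m ⊕ Fin m) ⊕ (Fin i ⊕ Fin j)) ((Fin m ⊕ Fin m) ⊕ (Fin i ⊕ Fin j)) F :=
    fromBlocks A' 0 0 (diagonal ev)
  let J₀ : Matrix ((Fin m ⊕ Fin m) ⊕ (Fin i ⊕ Fin j)) ((Fin m ⊕ Fin m) ⊕ (Fin i ⊕ Fin j)) F :=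
    fromBlocks J' 0 0 (diagonal w)
  have hA₀ : A₀ᵀ * J₀ * A₀ = J₀ := by
    simp only [A₀, J₀, fromBlocks_transpose, fromBlocks_multiply, transpose_zero, diagonal_transpose,
      Matrix.mul_zero, Matrix.zero_mul, add_zero, zero_add, hA', diagonal_mul_diagonal]
    congr 2
    funext k
    linear_combination w k * hev k
  have hA₀c : A₀.charpoly = f := by
    simp only [A₀]
    rw [charpoly_fromBlocks_zero₂₁, hA'c, charpoly_diagonal, Fintype.prod_sum_type, hfg]
    simp only [ev, Sum.elim_inl, Sum.elim_inr, prod_const, Finset.card_univ, Fintype.card_fin]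
    ring
  obtain ⟨e⟩ : Nonempty (((Fin m ⊕ Fin m) ⊕ (Fin i ⊕ Fin j)) ≃ Fin (2 * n)) :=
    ⟨Fintype.equivFinOfCardEq (by simp only [Fintype.card_sum, Fintype.card_fin]; omega)⟩
  let R := Matrix.reindexAlgEquiv F F e
  have hRt : ∀ M, (R M)ᵀ = R Mᵀ := fun M => rfl
  have hR0s : (R J₀)ᵀ = R J₀ := by
    rw [hRt]; congr 1
    simp only [J₀, fromBlocks_transpose, transpose_zero, diagonal_transpose, hJ's]
  have hR0d : (R J₀).det = J'.det * ∏ k, w k := by
    rw [Matrix.det_reindexAlgEquiv]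
    simp only [J₀, det_fromBlocks_zero₂₁, det_diagonal]
  have hR0u : IsUnit (R J₀) := (isUnit_iff_isUnit_det _).2 (Ne.isUnit (by
    rw [hR0d, hJ'd]; exact mul_ne_zero (mul_ne_zero hg1.1 hg1.2) (prod_ne_zero_iff.2 fun k _ => hw k)))
  obtain ⟨h, hh⟩ := FormCongr.exists_congr_symm h2 hR0s hJs hR0u hJu (by rw [hR0d]; exact hwsq)
  have hRA : IsUnit (R A₀) := (isUnit_iff_isUnit_det _).2 (by
    have := congrArg Matrix.det hA₀
    rw [det_mul, det_mul, det_transpose] at this
    rw [Matrix.det_reindexAlgEquiv]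
    have hJ0 : J₀.det ≠ 0 := by
      simp only [J₀, det_fromBlocks_zero₂₁, det_diagonal, hJ'd]
      exact mul_ne_zero (mul_ne_zero hg1.1 hg1.2) (prod_ne_zero_iff.2 fun k _ => hw k)
    exact Ne.isUnit fun hz => hJ0 (by rw [← this, hz]; ring))
  have hRA' : (R A₀)ᵀ * R J₀ * R A₀ = R J₀ := by
    rw [hRt, ← map_mul, ← map_mul, hA₀]
  refine ⟨⟨h⁻¹ * hRA.unit * h, ?_⟩, ?_⟩
  · rw [mem_isoGroup, ← hh]
    calc ((h⁻¹ * hRA.unit * h : GL (Fin (2 * n)) F) : Matrix _ _ F)ᵀ * ((h : Matrix _ _ F)ᵀ * R J₀ * (h : Matrix _ _ F)) *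
          ((h⁻¹ * hRA.unit * h : GL (Fin (2 * n)) F) : Matrix _ _ F)
        = (h : Matrix _ _ F)ᵀ * ((R A₀)ᵀ * (((h : Matrix _ _ F) * ((h⁻¹ : GL (Fin (2 * n)) F) : Matrix _ _ F))ᵀ *
            R J₀ * ((h : Matrix _ _ F) * ((h⁻¹ : GL (Fin (2 * n)) F) : Matrix _ _ F))) * R A₀) * (h : Matrix _ _ F) := by
          simp only [Units.val_mul, transpose_mul, IsUnit.unit_spec, Matrix.mul_assoc]
      _ = _ := by
          rw [h.mul_inv, transpose_one, Matrix.one_mul, Matrix.mul_one, hRA']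
  · refine (conj_charpoly h hRA).trans ?_
    rw [← hA₀c]
    exact Matrix.charpoly_reindex e A₀

/-- `q ^ n ≤ 2 k(O^±_2n(q))`. -/
theorem pow_le_card_orth_classes (h2 : (2 : F) ≠ 0) {n : ℕ} (hn : 2 ≤ n)
    {J : Matrix (Fin (2 * n)) (Fin (2 * n)) F} (hJs : Jᵀ = J) (hJu : IsUnit J) :
    Fintype.card F ^ n ≤ 2 * Nat.card (ConjClasses ↥(isoGroup J)) := by
  classical
  let P := {f : F[X] // f.Monic ∧ f.reverse = f ∧ f.natDegree = 2 * n}
  have hP : Nat.card P = Fintype.card F ^ n := SemiSympExists.natCard_palindromic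
  haveI : Finite P := Nat.finite_of_card_ne_zero (by rw [hP]; exact pow_ne_zero _ Fintype.card_ne_zero)
  let good : P → Prop := fun f =>
    f.1.eval 1 * f.1.eval (-1) = 0 ∨ IsSquare (f.1.eval 1 * f.1.eval (-1) * J.det)
  have hG : ∀ f : {f : P // good f}, ∃ A : ↥(isoGroup J),
      ((A : GL (Fin (2 * n)) F) : Matrix (Fin (2 * n)) (Fin (2 * n)) F).charpoly = f.1.1 := fun f =>
    exists_orth_charpoly h2 f.1.2.1 f.1.2.2.1 f.1.2.2.2 hJs hJu f.2
  choose A hA using hG
  have hgood : Nat.card {f : P // good f} ≤ Nat.card (ConjClasses ↥(isoGroup J)) := by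
    refine Nat.card_le_card_of_injective (fun f => ConjClasses.mk (A f)) fun f f' e => ?_
    obtain ⟨c, hc⟩ := isConj_iff.1 (ConjClasses.mk_eq_mk_iff_isConj.1 e)
    refine Subtype.ext (Subtype.ext ?_)
    rw [← hA f, ← hA f', ← hc]
    rw [Subgroup.coe_mul, Subgroup.coe_mul, InvMemClass.coe_inv, Units.val_mul, Units.val_mul, Matrix.coe_units_inv,
      Matrix.charpoly_units_conj]
  obtain ⟨ν, hν⟩ : ∃ ν : F, ¬IsSquare ν := FiniteField.exists_nonsquare (fun hc => h2 (by
    have := ringChar.Nat.cast_ringChar (R := F)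
    rw [hc] at this
    exact_mod_cast this))
  -- moving the value at `-1`
  let a : P → F := fun f => (ν - 1) * f.1.eval (-1) * (-1) ^ n / 2
  let b : P → F := fun f => -(a f) / 2
  let mv : P → F[X] := fun f => f.1 + (C (a f) * X ^ n + C (b f) * (X ^ (n - 1) + X ^ (n + 1)))
  have hcoeff : ∀ f k, (mv f).coeff k = f.1.coeff k + ((if k = n then a f else 0) +
      b f * ((if k = n - 1 then 1 else 0) + (if k = n + 1 then 1 else 0))) := fun f k => by
    simp only [mv, coeff_add, coeff_C_mul, coeff_X_pow, mul_ite, mul_one, mul_zero]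
  have hmv : ∀ f, (mv f).Monic ∧ (mv f).reverse = mv f ∧ (mv f).natDegree = 2 * n := by
    intro f
    obtain ⟨hm, hr, hd⟩ := f.2
    have htop : (mv f).coeff (2 * n) = 1 := by
      rw [hcoeff, if_neg (by omega), if_neg (by omega), if_neg (by omega), add_zero, mul_zero, add_zero, add_zero]
      have := hm.coeff_natDegree
      rwa [hd] at this
    have hdeg : (mv f).natDegree = 2 * n := by
      refine natDegree_eq_of_le_of_coeff_ne_zero ((natDegree_le_iff_coeff_eq_zero).2 fun k hk => ?_) (by rw [htop]; exact one_ne_zero)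
      rw [hcoeff, if_neg (by omega), if_neg (by omega), if_neg (by omega), coeff_eq_zero_of_natDegree_lt (by omega)]
      ring
    refine ⟨by rw [Monic, leadingCoeff, hdeg, htop], Polynomial.ext fun k => ?_, hdeg⟩
    rw [coeff_reverse, hdeg]
    rcases le_or_gt k (2 * n) with hk | hk
    · rw [revAt_le hk, hcoeff, hcoeff]
      have := SemiPalin.coeff_rev hr (i := k) (by omega)
      rw [hd] at this
      rw [this]
      rcases eq_or_ne k n with rfl | h3
      · simp [show 2 * k - k = k by omega]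
      rcases eq_or_ne k (n - 1) with rfl | h4
      · simp [show 2 * n - (n - 1) = n + 1 by omega, show n - 1 ≠ n by omega, show n + 1 ≠ n - 1 by omega,
          show n - 1 ≠ n + 1 by omega, show n + 1 ≠ n by omega]
      rcases eq_or_ne k (n + 1) with rfl | h5
      · simp [show 2 * n - (n + 1) = n - 1 by omega, show n - 1 ≠ n by omega, show n + 1 ≠ n - 1 by omega,
          show n - 1 ≠ n + 1 by omega, show n + 1 ≠ n by omega]
      · rw [if_neg h3, if_neg h4, if_neg h5, if_neg (by omega), if_neg (by omega), if_neg (by omega)]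
    · rw [revAt_eq_self_of_lt hk]
  obtain ⟨k, hk⟩ : ∃ k, n = k + 1 := ⟨n - 1, by omega⟩
  have he1 : ∀ f, (mv f).eval 1 = f.1.eval 1 := fun f => by
    simp only [mv, eval_add, eval_mul, eval_C, eval_pow, eval_X, one_pow, mul_one]
    simp only [b]
    field_simp
    ring
  have hem1 : ∀ f, (mv f).eval (-1) = ν * f.1.eval (-1) := fun f => by
    simp only [mv, eval_add, eval_mul, eval_C, eval_pow, eval_X, b, a, hk, Nat.add_sub_cancel, pow_succ]
    have hp : ((-1 : F) ^ k) * ((-1) ^ k) = 1 := by rw [← mul_pow, neg_one_mul, neg_neg, one_pow]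
    field_simp
    linear_combination (2 * 2 * (ν - 1) * f.1.eval (-1)) * hp
  have hbad : Nat.card {f : P // ¬ good f} ≤ Nat.card {f : P // good f} := by
    refine Nat.card_le_card_of_injective (fun f => ⟨⟨mv f.1, hmv f.1⟩, Or.inr ?_⟩) fun f f' e => ?_
    · show IsSquare ((mv f.1).eval 1 * (mv f.1).eval (-1) * J.det)
      have hns := (not_or.1 f.2).2
      rw [he1, hem1, show f.1.1.eval 1 * (ν * f.1.1.eval (-1)) * J.det =
        ν * (f.1.1.eval 1 * f.1.1.eval (-1) * J.det) by ring]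
      exact isSquare_mul_of_not hν hns
    · have hval : mv f.1 = mv f'.1 := congrArg (fun z : {f : P // good f} => z.1.1) e
      have hν0 : ν ≠ 0 := fun h => hν (h ▸ IsSquare.zero)
      have h3 : f.1.1.eval (-1) = f'.1.1.eval (-1) := mul_left_cancel₀ hν0 (by rw [← hem1, ← hem1, hval])
      refine Subtype.ext (Subtype.ext ?_)
      simp only [mv, b, a, h3] at hval
      exact add_right_cancel hval
  have hsum : Nat.card P = Nat.card {f : P // good f} + Nat.card {f : P // ¬ good f} := by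
    rw [← Nat.card_sum, Nat.card_congr (Equiv.sumCompl good)]
  omega

end CfsgLib.ClassK.IsoData
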