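import Cfsg.Agent.Lib.ClassK.OrthClassOdd
import Cfsg.Agent.Lib.ClassK.OrthRealise
import Cfsg.Agent.Lib.ClassK.IndexTwoClasses
import Cfsg.Agent.Lib.Geom.OmegaIndex

/-!
`Ω` and `SO` in odd dimension, odd characteristic: index two, realisation of `q ^ n` classes, and the
split classes have each eigenvalue `±1` at most once in the first layer.
-/

set_option autoImplicit false

namespace CfsgLib.ClassK.OmegaOdd

open Matrix Polynomial Finset CfsgLib.KnownB.GLClass CfsgLib.ClassK.IsoData CfsgLib.ClassK.IsoPoly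
  CfsgLib.ClassK.FormLayers CfsgLib.ClassK.FormLevel CfsgLib.Geom
open scoped Matrix

variable {F : Type*} [Field F] [Fintype F]

/-- `(X - 1) f` is realised by isometries, in odd dimension. -/
theorem exists_orth_charpoly_odd (h2 : (2 : F) ≠ 0) {n : ℕ} (hn : 1 ≤ n) {f : F[X]} (hf : f.Monic)
    (hr : f.reverse = f) (hd : f.natDegree = 2 * n) {J : Matrix (Fin (2 * n + 1)) (Fin (2 * n + 1)) F}
    (hJs : Jᵀ = J) (hJu : IsUnit J) :
    ∃ A : ↥(isoGroup J),
      ((A : GL (Fin (2 * n + 1)) F) : Matrix (Fin (2 * n + 1)) (Fin (2 * n + 1)) F).charpoly = (X - C 1) * f := by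
  classical
  obtain ⟨d, hd0, hcond⟩ : ∃ d : F, d ≠ 0 ∧
      (f.eval 1 * f.eval (-1) = 0 ∨ IsSquare (f.eval 1 * f.eval (-1) * d)) := by
    by_cases h : f.eval 1 * f.eval (-1) = 0
    · exact ⟨1, one_ne_zero, Or.inl h⟩
    · exact ⟨_, h, Or.inr ⟨_, rfl⟩⟩
  let w : Fin (2 * n) → F := Function.update (fun _ => 1) ⟨0, by omega⟩ d
  have hwd : (diagonal w).det = d := by
    rw [det_diagonal, Fintype.prod_eq_single (⟨0, by omega⟩ : Fin (2 * n)) fun k hk => Function.update_of_ne hk _ _]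
    exact Function.update_self _ _ _
  obtain ⟨A', hA'⟩ := exists_orth_charpoly h2 hf hr hd (J := diagonal w) (diagonal_transpose w)
    ((isUnit_iff_isUnit_det _).2 (Ne.isUnit (by rwa [hwd]))) (by rwa [hwd])
  have hJd : J.det ≠ 0 := ((isUnit_iff_isUnit_det J).1 hJu).ne_zero
  let e : Fin (2 * n) ⊕ Fin 1 ≃ Fin (2 * n + 1) := finSumFinEquiv
  let R := Matrix.reindexAlgEquiv F F e
  let A₀ : Matrix (Fin (2 * n) ⊕ Fin 1) (Fin (2 * n) ⊕ Fin 1) F :=
    fromBlocks ((A' : GL (Fin (2 * n)) F) : Matrix (Fin (2 * n)) (Fin (2 * n)) F) 0 0 1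
  let J₀ : Matrix (Fin (2 * n) ⊕ Fin 1) (Fin (2 * n) ⊕ Fin 1) F :=
    fromBlocks (diagonal w) 0 0 ((d * J.det) • 1)
  have hA₀ : A₀ᵀ * J₀ * A₀ = J₀ := by
    simp only [A₀, J₀, fromBlocks_transpose, fromBlocks_multiply, transpose_zero, transpose_one,
      Matrix.mul_zero, Matrix.zero_mul, add_zero, zero_add, Matrix.mul_one, Matrix.one_mul, mem_isoGroup.1 A'.2]
  have hRt : ∀ M, (R M)ᵀ = R Mᵀ := fun M => rfl
  have hRs : (R J₀)ᵀ = R J₀ := by
    rw [hRt]; congr 1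
    simp only [J₀, fromBlocks_transpose, transpose_zero, diagonal_transpose, transpose_smul, transpose_one]
  have hRd : (R J₀).det = d * (d * J.det) := by
    rw [Matrix.det_reindexAlgEquiv]
    simp only [J₀, det_fromBlocks_zero₂₁, hwd, det_smul, det_one, Fintype.card_fin, pow_one, mul_one]
  have hRu : IsUnit (R J₀) := (isUnit_iff_isUnit_det _).2
    (Ne.isUnit (by rw [hRd]; exact mul_ne_zero hd0 (mul_ne_zero hd0 hJd)))
  obtain ⟨h, hh⟩ := FormCongr.exists_congr_symm h2 hRs hJs hRu hJu ⟨d * J.det, by rw [hRd]; ring⟩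
  have hA₀u : IsUnit A₀ := (isUnit_iff_isUnit_det _).2 (by
    simp only [A₀, det_fromBlocks_zero₂₁, det_one, mul_one]
    exact (isUnit_iff_isUnit_det _).1 (A' : GL (Fin (2 * n)) F).isUnit)
  have hRA : IsUnit (R A₀) := hA₀u.map R
  have hRA' : (R A₀)ᵀ * R J₀ * R A₀ = R J₀ := by rw [hRt, ← map_mul, ← map_mul, hA₀]
  refine ⟨⟨h⁻¹ * hRA.unit * h, ?_⟩, ?_⟩
  · rw [mem_isoGroup, ← hh]
    calc ((h⁻¹ * hRA.unit * h : GL (Fin (2 * n + 1)) F) : Matrix _ _ F)ᵀ * ((h : Matrix _ _ F)ᵀ * R J₀ * (h : Matrix _ _ F)) *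
          ((h⁻¹ * hRA.unit * h : GL (Fin (2 * n + 1)) F) : Matrix _ _ F)
        = (h : Matrix _ _ F)ᵀ * ((R A₀)ᵀ * (((h : Matrix _ _ F) * ((h⁻¹ : GL (Fin (2 * n + 1)) F) : Matrix _ _ F))ᵀ *
            R J₀ * ((h : Matrix _ _ F) * ((h⁻¹ : GL (Fin (2 * n + 1)) F) : Matrix _ _ F))) * R A₀) * (h : Matrix _ _ F) := by
          simp only [Units.val_mul, transpose_mul, IsUnit.unit_spec, Matrix.mul_assoc]
      _ = _ := by
          rw [h.mul_inv, transpose_one, Matrix.one_mul, Matrix.mul_one, hRA']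
  · refine (conj_charpoly h hRA).trans ?_
    refine (Matrix.charpoly_reindex e A₀).trans ?_
    simp only [A₀]
    rw [charpoly_fromBlocks_zero₂₁, hA', Matrix.charpoly_one, Fintype.card_fin, pow_one, mul_comm, C_1]

/-- A symmetric invertible matrix of size at least two represents every non-zero value. -/
theorem exists_val (h2 : (2 : F) ≠ 0) {κ : Type*} [Fintype κ] [DecidableEq κ] {G : Matrix κ κ F}
    (hs : Gᵀ = G) (hu : IsUnit G) (hc : 2 ≤ Fintype.card κ) {a : F} (ha : a ≠ 0) : ∃ d, d ⬝ᵥ G *ᵥ d = a := by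
  have h1 : ∀ z, G.toQuadraticForm' z = z ⬝ᵥ G *ᵥ z := fun z => by
    simp [Matrix.toQuadraticForm', Matrix.toLinearMap₂'_apply']
  have hsep : ∀ x, (∀ y, QuadraticMap.polar (⇑G.toQuadraticForm') x y = 0) → x = 0 := by
    intro x hx
    refine Matrix.mulVec_injective_of_isUnit hu ((funext fun i => ?_).trans (mulVec_zero _).symm)
    have h := hx (Pi.single i 1)
    have h3 : Pi.single i 1 ⬝ᵥ G *ᵥ x = x ⬝ᵥ G *ᵥ Pi.single i 1 := by
      rw [dotProduct_mulVec, ← mulVec_transpose, hs, dotProduct_comm]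
    rw [QuadraticMap.polar, h1, h1, h1, mulVec_add, add_dotProduct, dotProduct_add, dotProduct_add, ← h3] at h
    rw [single_one_dotProduct] at h
    exact (mul_eq_zero.1 (show (2 : F) * (G *ᵥ x) i = 0 by linear_combination h)).resolve_left h2
  obtain ⟨d, hd⟩ := CfsgLib.Geom.exists_value G.toQuadraticForm' h2 hsep
    (by rw [Module.finrank_fintype_fun_eq_card]; exact hc) a ha
  exact ⟨d, by rw [← h1, hd]⟩

/-- Two eigenvectors with given values in a first layer of multiplicity two. -/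
theorem exists_eigvec (h2 : (2 : F) ≠ 0) {N : ℕ} {A : GL (Fin N) F} {J : Matrix (Fin N) (Fin N) F}
    (h : IsInv 1 A J) {c : F} (hc : c * c = 1) (l0 : Fin N) (hl0 : (l0 : ℕ) = 0)
    (hm : 2 ≤ rootMultiplicity c (dataOf (A : Matrix (Fin N) (Fin N) F) l0)) {a : F} (ha : a ≠ 0) :
    ∃ u, (A : Matrix (Fin N) (Fin N) F) *ᵥ u = c • u ∧ u ⬝ᵥ J *ᵥ u = a := by
  classical
  rw [rootMult_dataOf, hl0] at hm
  have hs : (gram A J c 0)ᵀ = gram A J c 0 := by
    rw [gram_transpose h hc, pow_zero, one_mul, one_smul]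
  obtain ⟨d, hd⟩ := exists_val h2 hs (isUnit_gram h (one_mul 1) hc) hm ha
  refine ⟨∑ i, d i • gen A i.1, ?_, ?_⟩
  · rw [mulVec_sum, smul_sum]
    refine sum_congr rfl fun i _ => ?_
    have := gen_mem i
    rw [show Nm A c ^ (0 + 1) = Nm A c from pow_one _, Nm, sub_mulVec, smul_mulVec, one_mulVec, sub_eq_zero] at this
    rw [mulVec_smul, this, smul_comm]
  · rw [← hd]
    have hw : Nm A c ^ 0 *ᵥ (∑ i, d i • gen A i.1) = ∑ i, d i • (Nm A c ^ 0 *ᵥ gen A i.1) + Nm A c ^ (0 + 1) *ᵥ 0 := by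
      rw [mulVec_zero, add_zero, mulVec_sum]
      simp only [mulVec_smul]
    have hker : Nm A c ^ (0 + 1) *ᵥ (∑ i, d i • gen A i.1) = 0 := by
      rw [mulVec_sum]
      exact sum_eq_zero fun i _ => by rw [mulVec_smul, gen_mem, smul_zero]
    have := layer_eq h hc hker hw hw
    rw [pow_zero, one_mulVec, frm] at this
    exact this

variable {ι : Type} [Fintype ι] [DecidableEq ι]

omit [Fintype F] in
/-- A reflection in an eigenvector commutes. -/
theorem refl_comm (Q : QuadraticForm F (ι → F)) (g : Cfsg.isometryGroup F (⇑Q)) {u : ι → F} (hu : Q u ≠ 0) {c : F}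
    (hc : c * c = 1) (hg : ((g : GL ι F) : Matrix ι ι F) *ᵥ u = c • u) :
    Commute (orEquiv Q ⟨reflEquiv Q u hu, reflEquiv_mem Q u hu⟩) g := by
  refine Subtype.ext (Units.ext (Matrix.ext_iff_mulVec.2 fun x => ?_))
  show ((((orEquiv Q ⟨reflEquiv Q u hu, reflEquiv_mem Q u hu⟩ : Cfsg.isometryGroup F (⇑Q)) : GL ι F) : Matrix ι ι F) *
      ((g : GL ι F) : Matrix ι ι F)) *ᵥ x = (((g : GL ι F) : Matrix ι ι F) *
      (((orEquiv Q ⟨reflEquiv Q u hu, reflEquiv_mem Q u hu⟩ : Cfsg.isometryGroup F (⇑Q)) : GL ι F) : Matrix ι ι F)) *ᵥ x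
  rw [orEquiv_coe, glOfEquiv_reflEquiv, ← mulVec_mulVec, ← mulVec_mulVec, reflectionMatrix_mulVec,
    reflectionMatrix_mulVec, mulVec_sub, mulVec_smul, hg, smul_smul]
  have hiso : ∀ z, Q (((g : GL ι F) : Matrix ι ι F) *ᵥ z) = Q z := fun z => g.2 z z
  have hp : QuadraticMap.polar Q (((g : GL ι F) : Matrix ι ι F) *ᵥ u) (((g : GL ι F) : Matrix ι ι F) *ᵥ x) =
      QuadraticMap.polar Q u x := by
    simp only [QuadraticMap.polar, ← mulVec_add, hiso]
  rw [hg, QuadraticMap.polar_smul_left, smul_eq_mul] at hp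
  congr 2
  rw [← hp]
  linear_combination (-((Q u)⁻¹ * QuadraticMap.polar Q u (((g : GL ι F) : Matrix ι ι F) *ᵥ x))) * hc

omit [Fintype F] in
theorem det_refl (Q : QuadraticForm F (ι → F)) {u : ι → F} (hu : Q u ≠ 0) :
    (((orEquiv Q ⟨reflEquiv Q u hu, reflEquiv_mem Q u hu⟩ : Cfsg.isometryGroup F (⇑Q)) : GL ι F) : Matrix ι ι F).det = -1 := by
  rw [orEquiv_coe, glOfEquiv_reflEquiv, det_reflectionMatrix Q hu]

/-- An element with two commuting values commutes with something special outside `Ω`. -/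
theorem exists_witness (h2 : (2 : F) ≠ 0) (Q : QuadraticForm F (ι → F))
    (hQ : ∀ x, (∀ y, QuadraticMap.polar Q x y = 0) → x = 0) (g : Cfsg.isometryGroup F (⇑Q)) {c : F} (hc : c * c = 1)
    (hv : ∀ a : F, a ≠ 0 → ∃ u, ((g : GL ι F) : Matrix ι ι F) *ᵥ u = c • u ∧ Q u = a) :
    ∃ x : Cfsg.isometryGroup F (⇑Q), x ∈ Cfsg.specialIsometryGroup F (⇑Q) ∧ x ∉ Cfsg.Omega F (⇑Q) ∧ Commute x g := by
  obtain ⟨ν, hν⟩ : ∃ ν : F, ¬IsSquare ν := FiniteField.exists_nonsquare (fun hc' => h2 (by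
    have := ringChar.Nat.cast_ringChar (R := F)
    rw [hc'] at this
    exact_mod_cast this))
  obtain ⟨u, hu, hQu⟩ := hv 1 one_ne_zero
  obtain ⟨w, hw, hQw⟩ := hv ν fun h => hν (h ▸ IsSquare.zero)
  have hu0 : Q u ≠ 0 := by rw [hQu]; exact one_ne_zero
  have hw0 : Q w ≠ 0 := by rw [hQw]; exact fun h => hν (h ▸ IsSquare.zero)
  refine ⟨orEquiv Q ⟨reflEquiv Q u hu0, reflEquiv_mem Q u hu0⟩ * orEquiv Q ⟨reflEquiv Q w hw0, reflEquiv_mem Q w hw0⟩,
    ?_, fun hm => ?_, (refl_comm Q g hu0 hc hu).mul_left (refl_comm Q g hw0 hc hw)⟩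
  · refine Units.ext ?_
    show Matrix.det ((((orEquiv Q ⟨reflEquiv Q u hu0, reflEquiv_mem Q u hu0⟩ : Cfsg.isometryGroup F (⇑Q)) : GL ι F) : Matrix ι ι F) *
      (((orEquiv Q ⟨reflEquiv Q w hw0, reflEquiv_mem Q w hw0⟩ : Cfsg.isometryGroup F (⇑Q)) : GL ι F) : Matrix ι ι F)) = 1
    rw [det_mul, det_refl Q hu0, det_refl Q hw0]
    norm_num
  · rw [omega_eq_ker_spinorHom Q hQ (exGen_of_odd h2), MonoidHom.mem_ker, map_mul,
      spinorHom_refl Q hQ _ _ hu0 (by rw [orEquiv_coe, glOfEquiv_reflEquiv]),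
      spinorHom_refl Q hQ _ _ hw0 (by rw [orEquiv_coe, glOfEquiv_reflEquiv])] at hm
    have h3 := congrArg Prod.snd hm
    rw [Prod.snd_mul, Prod.snd_one, ← sqClass_mul hu0 hw0, sqClass_eq_one_iff] at h3
    rw [hQu, hQw, one_mul] at h3
    exact hν h3

omit [Fintype F] in
theorem neg_one_mem (Q : QuadraticForm F (ι → F)) : (-1 : GL ι F) ∈ Cfsg.isometryGroup F (⇑Q) := fun u _ => by
  show Q (((-1 : GL ι F) : Matrix ι ι F) *ᵥ u) = Q u
  rw [Units.val_neg, Units.val_one, neg_mulVec, one_mulVec, QuadraticMap.map_neg]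

omit [Fintype F] in
theorem special_index (h2 : (2 : F) ≠ 0) (Q : QuadraticForm F (ι → F)) (hodd : Odd (Fintype.card ι))
    (hd : ∀ g : Cfsg.isometryGroup F (⇑Q),
      ((g : GL ι F) : Matrix ι ι F).det = 1 ∨ ((g : GL ι F) : Matrix ι ι F).det = -1) :
    (Cfsg.specialIsometryGroup F (⇑Q)).index = 2 := by
  rw [Subgroup.index_eq_two_iff]
  refine ⟨⟨-1, neg_one_mem Q⟩, fun b => ?_⟩
  have hmem : ∀ x : Cfsg.isometryGroup F (⇑Q),
      x ∈ Cfsg.specialIsometryGroup F (⇑Q) ↔ ((x : GL ι F) : Matrix ι ι F).det = 1 := fun x =>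
    ⟨fun h => congrArg Units.val h, fun h => Units.ext h⟩
  rw [hmem, hmem]
  show Xor ((((b : GL ι F) : Matrix ι ι F) * ((-1 : GL ι F) : Matrix ι ι F)).det = 1) _
  rw [Units.val_neg, Units.val_one, Matrix.mul_neg, Matrix.mul_one, det_neg, hodd.neg_one_pow]
  have hne : (1 : F) ≠ -1 := fun h => h2 (by linear_combination h)
  rcases hd b with h | h <;> simp [h, Xor, hne.symm]

end CfsgLib.ClassK.OmegaOdd
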