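import Cfsg.Agent.Lib.ClassK.OrthClassData

/-!
The numerical bound behind `2 k(O^±_2n(q)) ≤ 19 q ^ n`, `q` odd.
-/

set_option autoImplicit false

namespace CfsgLib.ClassK.OrthBound

open Finset CfsgLib.KnownB.ClassNum CfsgLib.ClassK.IsoPoly CfsgLib.ClassK.IsoData

variable {q : ℕ}

/-- The exponential generating step: level one is determined by the others. -/
theorem sum_comps_le (m n : ℕ) (hmn : m + 1 = 2 * n) (W : ℕ → ℕ → ℕ) (r c₀ : ℝ) (b : ℕ → ℝ) (hr : 0 ≤ r)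
    (hc₀ : 0 ≤ c₀) (hrq : r ^ 2 * q = 1) (h0 : ∀ a, (W 0 a : ℝ) * r ^ a ≤ c₀)
    (hb : ∀ l, 1 ≤ l → ∑ a ∈ range (m + 2), (W l a : ℝ) * r ^ ((l + 1) * a) ≤ b l) :
    ((∑ a ∈ comps 1 (m + 1) (m + 1), ∏ l : Fin (m + 1), W (l : ℕ) (a l) : ℕ) : ℝ) ≤
      (q : ℝ) ^ n * (c₀ * ∏ j ∈ range m, b (j + 1)) := by
  set S := comps 1 (m + 1) (m + 1)
  have hstep : ∀ a ∈ S, ((∏ l : Fin (m + 1), W (l : ℕ) (a l) : ℕ) : ℝ) ≤
      (q : ℝ) ^ n * (c₀ * ∏ i : Fin m, (W ((i : ℕ) + 1) (a i.succ) : ℝ) * r ^ (((i : ℕ) + 1 + 1) * a i.succ)) := by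
    intro a ha
    have hsum : ∑ l : Fin (m + 1), ((l : ℕ) + 1) * a l = 2 * n := by
      rw [← hmn]
      conv_rhs => rw [← (mem_comps le_rfl).1 ha]
      exact sum_congr rfl fun l _ => by rw [add_comm 1]
    have e : ((∏ l : Fin (m + 1), W (l : ℕ) (a l) : ℕ) : ℝ) =
        (q : ℝ) ^ n * ∏ l : Fin (m + 1), (W (l : ℕ) (a l) : ℝ) * r ^ (((l : ℕ) + 1) * a l) := by
      rw [prod_mul_distrib, prod_pow_eq_pow_sum, hsum, Nat.cast_prod, pow_mul, mul_left_comm, ← mul_pow,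
        mul_comm (q : ℝ), hrq, one_pow, mul_one]
    rw [e, Fin.prod_univ_succ]
    refine mul_le_mul_of_nonneg_left ?_ (by positivity)
    simp only [Fin.val_succ, Fin.val_zero, zero_add, one_mul]
    exact mul_le_mul_of_nonneg_right (h0 _) (prod_nonneg fun i _ => by positivity)
  have hinj : Set.InjOn (fun (a : Fin (m + 1) → ℕ) (i : Fin m) => a i.succ) ↑S := by
    intro a ha b' hb' e
    have h1 := (mem_comps le_rfl).1 (mem_coe.1 ha)
    have h2 := (mem_comps le_rfl).1 (mem_coe.1 hb')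
    rw [Fin.sum_univ_succ] at h1 h2
    have e' : ∀ i : Fin m, a i.succ = b' i.succ := congrFun e
    simp only [e', Fin.val_zero, add_zero, one_mul] at h1 h2
    exact funext fun l => Fin.cases (show a 0 = b' 0 by omega) e' l
  rw [Nat.cast_sum]
  refine (sum_le_sum hstep).trans ?_
  rw [← mul_sum, ← mul_sum]
  refine mul_le_mul_of_nonneg_left (mul_le_mul_of_nonneg_left ?_ hc₀) (by positivity)
  rw [← sum_image (f := fun b' : Fin m → ℕ => ∏ i : Fin m, (W ((i : ℕ) + 1) (b' i) : ℝ) * r ^ (((i : ℕ) + 1 + 1) * b' i)) hinj]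
  refine (sum_le_sum_of_subset_of_nonneg (t := Fintype.piFinset fun _ => range (m + 2)) (fun b' hb' => ?_)
    fun b' _ _ => prod_nonneg fun i _ => by positivity).trans ?_
  · obtain ⟨a, ha, rfl⟩ := mem_image.1 hb'
    exact Fintype.mem_piFinset.2 fun i => Fintype.mem_piFinset.1 (mem_filter.1 ha).1 i.succ
  · rw [← prod_univ_sum (t := fun _ : Fin m => range (m + 2))
      (f := fun (i : Fin m) a => (W ((i : ℕ) + 1) a : ℝ) * r ^ (((i : ℕ) + 1 + 1) * a)),
      ← Fin.prod_univ_eq_prod_range (fun j => b (j + 1)) m]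
    exact prod_le_prod (fun i _ => sum_nonneg fun a _ => by positivity) fun i _ => hb _ (by omega)

/-- The factor of a level. -/
noncomputable def lvl (fl : Prop) [Decidable fl] (l : ℕ) : ℝ :=
  (if fl then 1 else (1 + (5774 / 10000 : ℝ) ^ (l + 1)) ^ 4) / (1 - (1 / 3 : ℝ) ^ l)

theorem sum_lvl_le {r : ℝ} (hr : 0 ≤ r) (hrR : r ≤ 5774 / 10000) (hr3 : r ^ 2 ≤ 1 / 3) (hrq : r ^ 2 * q = 1)
    (fl : Prop) [Decidable fl] {l : ℕ} (hl : 1 ≤ l) (A : ℕ) :
    ∑ a ∈ range (A + 1), (wgt q fl a : ℝ) * r ^ ((l + 1) * a) ≤ lvl fl l := by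
  have hy : (1 / 3 : ℝ) ^ l < 1 := pow_lt_one₀ (by norm_num) (by norm_num) (by omega)
  have hgeo : ∀ B, ∑ b ∈ range (B + 1), (r ^ 2) ^ (l * b) ≤ 1 / (1 - (1 / 3 : ℝ) ^ l) := by
    intro B
    refine le_trans (sum_le_sum (g := fun b => ((1 / 3 : ℝ) ^ l) ^ b) fun b _ => by
      rw [← pow_mul (1 / 3 : ℝ)]; exact pow_le_pow_left₀ (by positivity) hr3 _) ?_
    rw [le_div_iff₀ (by linarith), geom_sum_mul_neg]
    have : 0 ≤ ((1 / 3 : ℝ) ^ l) ^ (B + 1) := by positivity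
    linarith
  let g : Fin 4 × Fin 4 → ℝ := fun d =>
    if fl ∧ d ≠ (0, 0) then 0 else ((5774 / 10000 : ℝ) ^ (l + 1)) ^ (dv d.1 + dv d.2)
  have key : ∀ d : Fin 4 × Fin 4,
      ∑ a ∈ range (A + 1), ((if dv d.1 + dv d.2 ≤ a ∧ Even (a - dv d.1 - dv d.2) ∧ (fl → d = (0, 0))
        then q ^ ((a - dv d.1 - dv d.2) / 2) else 0 : ℕ) : ℝ) * r ^ ((l + 1) * a) ≤
        g d * (1 / (1 - (1 / 3 : ℝ) ^ l)) := by
    intro d
    by_cases hd : fl ∧ d ≠ (0, 0)
    · simp only [g, if_pos hd, zero_mul]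
      exact le_of_eq (sum_eq_zero fun a _ => by rw [if_neg fun h => hd.2 (h.2.2 hd.1), Nat.cast_zero, zero_mul])
    simp only [g, if_neg hd]
    set s := dv d.1 + dv d.2 with hs
    calc _ = ∑ a ∈ (range (A + 1)).filter (fun a => s ≤ a ∧ Even (a - dv d.1 - dv d.2) ∧ (fl → d = (0, 0))),
          ((q : ℝ) ^ ((a - dv d.1 - dv d.2) / 2) * r ^ ((l + 1) * a)) := by
          rw [sum_filter]
          refine sum_congr rfl fun a _ => ?_
          split_ifs <;> simp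
      _ ≤ ∑ a ∈ (range (A + 1)).image (fun b => s + 2 * b),
          ((q : ℝ) ^ ((a - dv d.1 - dv d.2) / 2) * r ^ ((l + 1) * a)) := by
          refine sum_le_sum_of_subset_of_nonneg (fun a ha => ?_) fun a _ _ => by positivity
          rw [mem_filter, mem_range] at ha
          obtain ⟨b, hb⟩ := ha.2.2.1
          exact mem_image.2 ⟨b, mem_range.2 (by omega), by omega⟩
      _ = ∑ b ∈ range (A + 1), (r ^ (l + 1)) ^ s * (r ^ 2) ^ (l * b) := by
          rw [sum_image (fun b _ b' _ e => by omega)]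
          refine sum_congr rfl fun b _ => ?_
          rw [show (s + 2 * b - dv d.1 - dv d.2) / 2 = b by omega,
            show (l + 1) * (s + 2 * b) = (l + 1) * s + (2 * (l * b) + 2 * b) by ring, pow_add, pow_add,
            pow_mul r 2 b, pow_mul r 2 (l * b), pow_mul r (l + 1) s]
          calc (q : ℝ) ^ b * ((r ^ (l + 1)) ^ s * ((r ^ 2) ^ (l * b) * (r ^ 2) ^ b))
              = (r ^ (l + 1)) ^ s * (r ^ 2) ^ (l * b) * (r ^ 2 * q) ^ b := by rw [mul_pow]; ring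
            _ = _ := by rw [hrq, one_pow, mul_one]
      _ ≤ _ := by
          rw [← mul_sum]
          exact mul_le_mul (pow_le_pow_left₀ (by positivity) (pow_le_pow_left₀ hr hrR _) _) (hgeo A)
            (sum_nonneg fun b _ => by positivity) (by positivity)
  calc ∑ a ∈ range (A + 1), (wgt q fl a : ℝ) * r ^ ((l + 1) * a)
      = ∑ d : Fin 4 × Fin 4, ∑ a ∈ range (A + 1),
          ((if dv d.1 + dv d.2 ≤ a ∧ Even (a - dv d.1 - dv d.2) ∧ (fl → d = (0, 0))
            then q ^ ((a - dv d.1 - dv d.2) / 2) else 0 : ℕ) : ℝ) * r ^ ((l + 1) * a) := by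
        rw [sum_comm]
        refine sum_congr rfl fun a _ => ?_
        rw [wgt, Nat.cast_sum, sum_mul]
    _ ≤ ∑ d, g d * (1 / (1 - (1 / 3 : ℝ) ^ l)) := sum_le_sum fun d _ => key d
    _ = lvl fl l := by
        rw [← sum_mul, lvl, div_eq_mul_one_div (ite _ _ _)]
        congr 1
        generalize hyy : (5774 / 10000 : ℝ) ^ (l + 1) = y
        by_cases h : fl
        · rw [if_pos h, Fintype.sum_eq_single ((0, 0) : Fin 4 × Fin 4) fun d hd => if_pos ⟨h, hd⟩]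
          simp [g, dv]
        · rw [if_neg h]
          simp only [g, hyy, h, false_and, if_false, pow_add]
          rw [Fintype.sum_prod_type]
          simp only [Fin.sum_univ_four]
          simp [dv]
          ring

/-- Level one. -/
theorem first_le {r : ℝ} (hr : 0 ≤ r) (hrR : r ≤ 5774 / 10000) (hr3 : r ^ 2 ≤ 1 / 3) (hrq : r ^ 2 * q = 1)
    (fl : Prop) [Decidable fl] (a : ℕ) :
    (wgt q fl a : ℝ) * r ^ a ≤ if fl then 1 else 28 / 9 := by
  have hstep : ∀ d : Fin 4 × Fin 4,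
      ((if dv d.1 + dv d.2 ≤ a ∧ Even (a - dv d.1 - dv d.2) ∧ (fl → d = (0, 0))
        then q ^ ((a - dv d.1 - dv d.2) / 2) else 0 : ℕ) : ℝ) * r ^ a ≤
      if (Even a ↔ Even (dv d.1 + dv d.2)) ∧ (fl → d = (0, 0)) then r ^ (dv d.1 + dv d.2) else 0 := by
    intro d
    set s := dv d.1 + dv d.2 with hs
    by_cases h : s ≤ a ∧ Even (a - dv d.1 - dv d.2) ∧ (fl → d = (0, 0))
    · obtain ⟨h1, ⟨b, hb⟩, h3⟩ := h
      obtain rfl : a = s + 2 * b := by omega
      have hev : Even (s + 2 * b) ↔ Even s := by simp [Nat.even_add]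
      rw [if_pos ⟨h1, ⟨b, hb⟩, h3⟩, if_pos ⟨hev, h3⟩, show (s + 2 * b - dv d.1 - dv d.2) / 2 = b by omega,
        Nat.cast_pow, pow_add, pow_mul]
      refine le_of_eq ?_
      calc (q : ℝ) ^ b * (r ^ s * (r ^ 2) ^ b) = r ^ s * (r ^ 2 * q) ^ b := by rw [mul_pow]; ring
        _ = r ^ s := by rw [hrq, one_pow, mul_one]
    · rw [if_neg h, Nat.cast_zero, zero_mul]
      split_ifs <;> positivity
  rw [wgt, Nat.cast_sum, sum_mul]
  refine (sum_le_sum fun d _ => hstep d).trans ?_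
  by_cases h : fl
  · rw [if_pos h, Fintype.sum_eq_single ((0, 0) : Fin 4 × Fin 4) fun d hd => if_neg fun e => hd (e.2 h)]
    simp [dv]
    split_ifs <;> norm_num
  · rw [if_neg h, Fintype.sum_prod_type]
    simp only [Fin.sum_univ_four]
    by_cases ha : Even a
    · simp [h, ha, dv, Nat.even_iff]
      nlinarith [sq_nonneg r]
    · simp [h, ha, dv, Nat.even_iff]
      nlinarith [mul_le_mul_of_nonneg_left hr3 hr]

/-- The signed product. -/
theorem prod_sign_le (m : ℕ) :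
    ∏ j ∈ range (2 * (m + 4)), lvl (Odd (j + 1)) (j + 1) ≤
      27 / 5 * (1 - 2 * (5774 / 10000 : ℝ) ^ (2 * (m + 4))) := by
  induction m with
  | zero => norm_num [prod_range_succ, lvl, Nat.odd_iff]
  | succ m ih =>
    set k := m + 4 with hk
    rw [show 2 * (m + 1 + 4) = 2 * k + 1 + 1 by omega, prod_range_succ, prod_range_succ]
    obtain ⟨v, hv⟩ : ∃ v : ℝ, v = (5774 / 10000) ^ (2 * k) := ⟨_, rfl⟩
    obtain ⟨w, hw⟩ : ∃ w : ℝ, w = (1 / 3) ^ (2 * k) := ⟨_, rfl⟩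
    have hwv : w ≤ v * v := by
      rw [hw, hv, ← pow_add, show 2 * k + 2 * k = 2 * (2 * k) by ring, pow_mul (5774 / 10000 : ℝ) 2]
      exact pow_le_pow_left₀ (by norm_num) (by norm_num) _
    have hw0 : 0 ≤ w := by rw [hw]; positivity
    have hv0 : 0 ≤ v := by rw [hv]; positivity
    have hv1 : v ≤ 1 / 80 := by
      rw [hv]
      exact (pow_le_pow_of_le_one (by norm_num) (by norm_num) (show 8 ≤ 2 * k by omega)).trans (by norm_num)
    have h1 : lvl (Odd (2 * k + 1)) (2 * k + 1) = 1 / (1 - w / 3) := by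
      rw [lvl, if_pos ⟨k, rfl⟩, pow_succ, ← hw]; ring
    have h2 : lvl (Odd (2 * k + 1 + 1)) (2 * k + 1 + 1) =
        (1 + (5774 / 10000) ^ 3 * v) ^ 4 / (1 - w / 9) := by
      rw [lvl, if_neg (Nat.not_odd_iff_even.2 ⟨k + 1, by omega⟩), show 2 * k + 1 + 1 + 1 = 3 + 2 * k by ring,
        pow_add, ← hv, show 2 * k + 1 + 1 = 2 * k + 2 by ring, pow_add, ← hw]
      ring
    rw [h1, h2, show 2 * k + 1 + 1 = 2 * k + 2 from rfl, pow_add, ← hv]
    rw [← hv] at ih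
    have d1 : 0 < 1 - w / 3 := by nlinarith
    have d2 : 0 < 1 - w / 9 := by nlinarith
    refine (mul_le_mul_of_nonneg_right (mul_le_mul_of_nonneg_right ih (by positivity)) (by positivity)).trans ?_
    rw [mul_assoc, mul_assoc, div_mul_div_comm, one_mul]
    refine mul_le_mul_of_nonneg_left ?_ (by norm_num)
    rw [← mul_div_assoc, div_le_iff₀ (by positivity)]
    have hpow : (1 + (5774 / 10000 : ℝ) ^ 3 * v) ^ 4 ≤ 1 + 79 / 100 * v := by
      nlinarith [mul_nonneg hv0 hv0, mul_nonneg (mul_nonneg hv0 hv0) hv0]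
    refine (mul_le_mul_of_nonneg_left hpow (by linarith)).trans ?_
    have hprod : 1 - (w / 3 + w / 9) ≤ (1 - w / 3) * (1 - w / 9) := by nlinarith
    refine le_trans ?_ (mul_le_mul_of_nonneg_left hprod (by norm_num; linarith))
    norm_num
    nlinarith [mul_nonneg hv0 hw0, mul_nonneg hv0 hv0]

/-- The unsigned product. -/
theorem prod_plain_le (m : ℕ) :
    ∏ j ∈ range (2 * (m + 6)), lvl True (j + 1) ≤ 9 / 5 * (1 - (1 / 3 : ℝ) ^ (m + 6)) := by
  induction m with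
  | zero => norm_num [prod_range_succ, lvl]
  | succ m ih =>
    set k := m + 6 with hk
    rw [show 2 * (m + 1 + 6) = 2 * k + 1 + 1 by omega, prod_range_succ, prod_range_succ,
      show m + 1 + 6 = k + 1 by omega]
    obtain ⟨z, hz⟩ : ∃ z : ℝ, z = (1 / 3) ^ k := ⟨_, rfl⟩
    have hz0 : 0 ≤ z := by rw [hz]; positivity
    have hz1 : z ≤ 1 / 700 := by
      rw [hz]
      exact (pow_le_pow_of_le_one (by norm_num) (by norm_num) (show 6 ≤ k by omega)).trans (by norm_num)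
    have e2 : (1 / 3 : ℝ) ^ (2 * k + 1) = z * z / 3 := by
      rw [pow_succ, hz, two_mul, pow_add]; ring
    have e3 : (1 / 3 : ℝ) ^ (2 * k + 1 + 1) = z * z / 9 := by rw [pow_succ, e2]; ring
    simp only [lvl, if_true, e2, e3, pow_succ (1 / 3 : ℝ) k, ← hz] at ih ⊢
    have d1 : 0 < 1 - z * z / 3 := by nlinarith
    have d2 : 0 < 1 - z * z / 9 := by nlinarith
    refine (mul_le_mul_of_nonneg_right (mul_le_mul_of_nonneg_right ih (by positivity)) (by positivity)).trans ?_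
    rw [mul_assoc, mul_assoc, mul_one_div, div_div]
    refine mul_le_mul_of_nonneg_left ?_ (by norm_num)
    rw [mul_one_div, div_le_iff₀ (by positivity)]
    nlinarith [mul_nonneg hz0 hz0, mul_nonneg (mul_nonneg hz0 hz0) hz0]

theorem one_le_lvl (fl : Prop) [Decidable fl] {l : ℕ} (hl : 1 ≤ l) : 1 ≤ lvl fl l := by
  have hy : (1 / 3 : ℝ) ^ l < 1 := pow_lt_one₀ (by norm_num) (by norm_num) (by omega)
  have hy0 : 0 ≤ (1 / 3 : ℝ) ^ l := by positivity
  rw [lvl, le_div_iff₀ (by linarith), one_mul]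
  split_ifs
  · linarith
  · have : (1 : ℝ) ≤ (1 + (5774 / 10000 : ℝ) ^ (l + 1)) ^ 4 := one_le_pow₀ (le_add_of_nonneg_right (by positivity))
    linarith

theorem prod_le_const (M c : ℕ) (fl : ℕ → Prop) [DecidablePred fl] {K : ℝ}
    (h : ∏ j ∈ range (2 * (M + c)), lvl (fl (j + 1)) (j + 1) ≤ K) :
    ∏ j ∈ range M, lvl (fl (j + 1)) (j + 1) ≤ K :=
  (prod_le_prod_of_subset_of_one_le (range_subset_range.2 (by omega))
    (fun j _ => le_trans zero_le_one (one_le_lvl _ (by omega))) fun j _ _ => one_le_lvl _ (by omega)).trans h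

/-- `Σ_a Π_l wgt + Σ_a Π_l wgt' ≤ 19 q ^ n`. -/
theorem sum_wgt_le (hq : 3 ≤ q) (n N : ℕ) (hn : 1 ≤ n) (hN : N = 2 * n) :
    ∑ a ∈ comps 1 N N, ∏ l : Fin N, wgt q (Odd (l : ℕ)) (a l) +
      ∑ a ∈ comps 1 N N, ∏ l : Fin N, wgt q True (a l) ≤ 19 * q ^ n := by
  classical
  obtain ⟨m, rfl⟩ : ∃ m, N = m + 1 := ⟨N - 1, by omega⟩
  have hq3 : (3 : ℝ) ≤ q := by exact_mod_cast hq
  obtain ⟨r, hr, hr2⟩ : ∃ r : ℝ, 0 ≤ r ∧ r ^ 2 = 1 / q := ⟨Real.sqrt (1 / q), Real.sqrt_nonneg _, Real.sq_sqrt (by positivity)⟩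
  have hrq : r ^ 2 * q = 1 := by rw [hr2]; field_simp
  have hr3 : r ^ 2 ≤ 1 / 3 := by rw [hr2]; exact one_div_le_one_div_of_le (by norm_num) hq3
  have hrR : r ≤ 5774 / 10000 := by nlinarith
  have h1 := sum_comps_le m n hN (fun l a => wgt q (Odd l) a) r (28 / 9) (fun l => lvl (Odd l) l) hr (by norm_num) hrq
    (fun a => (first_le hr hrR hr3 hrq (Odd 0) a).trans (le_of_eq (if_neg (by decide))))
    fun l hl => sum_lvl_le hr hrR hr3 hrq (Odd l) hl (m + 1)
  have h2 := sum_comps_le m n hN (fun _ a => wgt q True a) r 1 (fun l => lvl True l) hr zero_le_one hrq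
    (fun a => (first_le hr hrR hr3 hrq True a).trans (le_of_eq (if_pos trivial)))
    fun l hl => sum_lvl_le hr hrR hr3 hrq True hl (m + 1)
  have hp1 : ∏ j ∈ range m, lvl (Odd (j + 1)) (j + 1) ≤ 27 / 5 :=
    prod_le_const m 4 (fun l => Odd l) ((prod_sign_le m).trans (mul_le_of_le_one_right (by norm_num) (by
      have : (0 : ℝ) ≤ (5774 / 10000) ^ (2 * (m + 4)) := by positivity
      linarith)))
  have hp2 : ∏ j ∈ range m, lvl True (j + 1) ≤ 9 / 5 :=
    prod_le_const m 6 (fun _ => True) ((prod_plain_le m).trans (mul_le_of_le_one_right (by norm_num) (by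
      have : (0 : ℝ) ≤ (1 / 3 : ℝ) ^ (m + 6) := by positivity
      linarith)))
  have hqn : (0 : ℝ) ≤ (q : ℝ) ^ n := by positivity
  have e1 := h1.trans (mul_le_mul_of_nonneg_left (mul_le_mul_of_nonneg_left hp1 (by norm_num)) hqn)
  have e2 := h2.trans (mul_le_mul_of_nonneg_left (mul_le_mul_of_nonneg_left hp2 zero_le_one) hqn)
  refine (Nat.cast_le (α := ℝ)).1 ?_
  rw [Nat.cast_add, Nat.cast_mul, Nat.cast_pow, show ((19 : ℕ) : ℝ) = 19 from Nat.cast_ofNat]
  linarith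

end CfsgLib.ClassK.OrthBound
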