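import Cfsg.Agent.Lib.ClassK.OrthTwist

/-!
Classes of the isometry group of a symmetric form (odd characteristic): twice their number is bounded
by the signed count plus the count of tuples without signs, as the discriminant determines one sign.
-/

set_option autoImplicit false

namespace CfsgLib.ClassK.IsoData

open Matrix Polynomial Finset CfsgLib.Classical CfsgLib.KnownB.GLClass CfsgLib.KnownB.ClassNum
  CfsgLib.ClassK.FormLayers CfsgLib.ClassK.FormLevel CfsgLib.ClassK.IsoPoly
open scoped Matrix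

variable {F : Type*} [Field F] {n : ℕ}

local notation "Mn" => Matrix (Fin n) (Fin n) F

/-- A class, from its transported form. -/
theorem eq_of_congr {J : Matrix (Fin n) (Fin n) F} {C C' : ConjClasses ↥(isoGroup J)}
    {A₀ T T' g : GL (Fin n) F}
    (e1 : T * A₀ = ((Quotient.out C : ↥(isoGroup J)) : GL (Fin n) F) * T)
    (e2 : T' * A₀ = ((Quotient.out C' : ↥(isoGroup J)) : GL (Fin n) F) * T')
    (hgA : Commute (g : Mn) (A₀ : Mn))
    (hg : (g : Mn)ᵀ * ((T : Mn)ᵀ * J * (T : Mn)) * (g : Mn) = (T' : Mn)ᵀ * J * (T' : Mn)) : C = C' := by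
  let X : GL (Fin n) F := T * g * T'⁻¹
  have hX : X ∈ isoGroup J := by
    show (X : Mn)ᵀ * J * (X : Mn) = J
    calc (X : Mn)ᵀ * J * (X : Mn)
        = ((T'⁻¹ : GL (Fin n) F) : Mn)ᵀ * ((g : Mn)ᵀ * ((T : Mn)ᵀ * J * (T : Mn)) * (g : Mn)) *
            ((T'⁻¹ : GL (Fin n) F) : Mn) := by
          simp only [X, Units.val_mul, transpose_mul, Matrix.mul_assoc]
      _ = ((T' : Mn) * ((T'⁻¹ : GL (Fin n) F) : Mn))ᵀ * J * ((T' : Mn) * ((T'⁻¹ : GL (Fin n) F) : Mn)) := by
          rw [hg]; simp only [transpose_mul, Matrix.mul_assoc]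
      _ = J := by simp
  have e3 : g * A₀ = A₀ * g := Units.ext hgA.eq
  rw [← Quotient.out_eq C, ← Quotient.out_eq C']
  refine (Quotient.sound (isConj_iff.2 ⟨⟨X, hX⟩, Subtype.ext ?_⟩) : _).symm
  show X * ((Quotient.out C' : ↥(isoGroup J)) : GL (Fin n) F) * X⁻¹ = ((Quotient.out C : ↥(isoGroup J)) : GL (Fin n) F)
  rw [mul_inv_eq_iff_eq_mul, show ((Quotient.out C' : ↥(isoGroup J)) : GL (Fin n) F) = T' * A₀ * T'⁻¹ by
    rw [e2, mul_inv_cancel_right]]
  calc X * (T' * A₀ * T'⁻¹) = T * (g * A₀) * T'⁻¹ := by simp only [X, mul_assoc, inv_mul_cancel_left]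
    _ = ((Quotient.out C : ↥(isoGroup J)) : GL (Fin n) F) * X := by
      rw [e3, ← mul_assoc T, e1]; simp only [X, mul_assoc]

variable [Fintype F] {J : Matrix (Fin n) (Fin n) F}

/-- The code space. -/
abbrev CodeSpace (F : Type*) [Field F] (n : ℕ) (fl : Fin n → Prop) : Type _ :=
  Σ a : (comps 1 n n : Finset (Fin n → ℕ)), ∀ l : Fin n, Code F (fl l) (a.1 l)

/-- The codes of the classes. -/
theorem exists_class_code (hJs : Jᵀ = J) (hJu : IsUnit J) (h2 : (2 : F) ≠ 0) :
    ∃ Φ : ConjClasses ↥(isoGroup J) × Bool →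
        CodeSpace F n (fun l => Odd (l : ℕ)) ⊕ CodeSpace F n (fun _ => True),
      Function.Injective Φ ∧ ∀ x z, Φ x = .inl z → ∀ l : Fin n, ∃ s : Bool × Bool,
        (z.2 l).1 = (code (rootMultiplicity 1 (dataOf ((((Quotient.out x.1 : ↥(isoGroup J)) : GL (Fin n) F)) : Mn) l)) s.1,
          code (rootMultiplicity (-1) (dataOf ((((Quotient.out x.1 : ↥(isoGroup J)) : GL (Fin n) F)) : Mn) l)) s.2) ∧
        dataOf ((((Quotient.out x.1 : ↥(isoGroup J)) : GL (Fin n) F)) : Mn) l =
          (X - C 1) ^ dv (z.2 l).1.1 * (X - C (-1)) ^ dv (z.2 l).1.2 * (z.2 l).2.1 := by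
  classical
  have hε : (1 : F) * 1 = 1 := one_mul 1
  have hJs' : Jᵀ = (1 : F) • J := by rw [one_smul, hJs]
  have hfl : ∀ l : ℕ, (1 : F) * (-1) ^ l = if Odd l then -1 else 1 := fun l => by
    rcases Nat.even_or_odd l with h | h
    · rw [if_neg (Nat.not_odd_iff_even.2 h), h.neg_one_pow, one_mul]
    · rw [if_pos h, h.neg_one_pow, one_mul]
  let rep : ConjClasses ↥(isoGroup J) → GL (Fin n) F := fun C =>
    ((Quotient.out C : ↥(isoGroup J)) : GL (Fin n) F)
  have hrep : ∀ C, IsInv 1 (rep C) J := fun C => isInv_mem hJs' hJu _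
  let dat : ConjClasses ↥(isoGroup J) → Fin n → F[X] := fun C => dataOf (rep C : Mn)
  let base : (Fin n → F[X]) → GL (Fin n) F := fun h => if hh : ∃ C, dat C = h then rep hh.choose else 1
  have hbase : ∀ C, ∃ T : GL (Fin n) F, (T : Mn) * (base (dat C) : Mn) = (rep C : Mn) * (T : Mn) := by
    intro C
    have hh : ∃ C', dat C' = dat C := ⟨C, rfl⟩
    simp only [base, dif_pos hh]
    exact exists_conj_of_dataOf hh.choose_spec
  choose T hT using hbase
  let Jc : ConjClasses ↥(isoGroup J) → Mn := fun C => (T C : Mn)ᵀ * J * (T C : Mn)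
  have hJc : ∀ C, IsInv 1 (base (dat C)) (Jc C) := fun C => by
    refine ⟨?_, ?_, ?_⟩
    · simp only [Jc, transpose_mul, transpose_transpose, hJs, one_smul, Matrix.mul_assoc]
    · refine ((isUnit_iff_isUnit_det _).2 ?_)
      simp only [Jc, det_mul, det_transpose]
      have hTd := (isUnit_iff_isUnit_det _).1 (T C).isUnit
      exact (hTd.mul ((isUnit_iff_isUnit_det _).1 hJu)).mul hTd
    · calc (base (dat C) : Mn)ᵀ * Jc C * (base (dat C) : Mn)
          = ((T C : Mn) * (base (dat C) : Mn))ᵀ * J * ((T C : Mn) * (base (dat C) : Mn)) := by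
            simp only [Jc, transpose_mul, Matrix.mul_assoc]
        _ = (T C : Mn)ᵀ * ((rep C : Mn)ᵀ * J * (rep C : Mn)) * (T C : Mn) := by
            rw [hT, transpose_mul]; simp only [Matrix.mul_assoc]
        _ = _ := by rw [(hrep C).inv]
  let cs : Bool → F := fun b => if b then 1 else -1
  have hcs : ∀ b, cs b * cs b = 1 := fun b => by cases b <;> simp [cs]
  let sgn : ConjClasses ↥(isoGroup J) → Bool → Fin n → Bool := fun C b l =>
    if Odd (l : ℕ) ∨ rootMultiplicity (cs b) (dat C l) = 0 then false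
    else decide (IsSquare (FormLevel.gram (base (dat C)) (Jc C) (cs b) (l : ℕ)).det)
  -- the signed positions and the chosen one
  let Pos : (Fin n → F[X]) → Bool → Fin n → Prop := fun h b l =>
    ¬ Odd (l : ℕ) ∧ rootMultiplicity (cs b) (h l) ≠ 0
  let l0 : (Fin n → F[X]) → Option (Bool × Fin n) := fun h =>
    if hh : ∃ x : Bool × Fin n, Pos h x.1 x.2 then some hh.choose else none
  have hl0 : ∀ h x, l0 h = some x → Pos h x.1 x.2 := by
    intro h x e
    by_cases hh : ∃ x : Bool × Fin n, Pos h x.1 x.2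
    · simp only [l0, dif_pos hh, Option.some.injEq] at e
      rw [← e]; exact hh.choose_spec
    · simp only [l0, dif_neg hh] at e
      exact absurd e (by simp)
  have hnone : ∀ h, l0 h = none → ∀ b l, ¬ Pos h b l := by
    intro h e b l hp
    have hh : ∃ x : Bool × Fin n, Pos h x.1 x.2 := ⟨(b, l), hp⟩
    simp only [l0, dif_pos hh] at e
    exact absurd e (by simp)
  -- the invariants off the chosen position determine the class
  have hinj : ∀ C C', dat C = dat C' →
      (∀ b l, some (b, l) ≠ l0 (dat C) → sgn C b l = sgn C' b l) → C = C' := by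
    intro C C' hd hs
    obtain ⟨A₀, hA₀⟩ : ∃ A₀, base (dat C) = A₀ := ⟨_, rfl⟩
    have hA₀' : base (dat C') = A₀ := by rw [← hd]; exact hA₀
    have i1 : IsInv 1 A₀ (Jc C) := hA₀ ▸ hJc C
    have i2 : IsInv 1 A₀ (Jc C') := hA₀' ▸ hJc C'
    have hpos : ∀ c k, c * c = 1 → ¬ Odd k → Nonempty (Lvl A₀ c k) →
        ∃ b, ∃ hkn : k < n, cs b = c ∧ Pos (dat C) b ⟨k, hkn⟩ := by
      intro c k hc hk hne
      obtain ⟨⟨i, hi⟩⟩ := hne
      have hkn : k < n := by
        have := (block_e_le (A₀ : Mn) i).2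
        rw [hi.2] at this
        omega
      obtain ⟨b, hb⟩ : ∃ b, cs b = c := by
        rcases mul_self_eq_one_iff.1 hc with rfl | rfl
        · exact ⟨true, rfl⟩
        · exact ⟨false, rfl⟩
      refine ⟨b, hkn, hb, hk, ?_⟩
      have hh : ∃ C', dat C' = dat C := ⟨C, rfl⟩
      have hdA : dataOf (A₀ : Mn) = dat C := by
        rw [← hA₀]; simp only [base, dif_pos hh]; exact hh.choose_spec
      rw [← hdA, hb, rootMult_dataOf]
      exact (Fintype.card_pos_iff.2 ⟨⟨i, hi⟩⟩).ne'
    -- off the chosen position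
    have hoff : ∀ b (l : Fin n), Pos (dat C) b l → some (b, l) ≠ l0 (dat C) →
        IsSquare ((FormLevel.gram A₀ (Jc C) (cs b) (l : ℕ)).det * (FormLevel.gram A₀ (Jc C') (cs b) (l : ℕ)).det) := by
      intro b l hp hne
      have e := hs b l hne
      simp only [sgn] at e
      rw [if_neg (not_or.2 hp), if_neg (not_or.2 ⟨hp.1, hd ▸ hp.2⟩)] at e
      subst hA₀
      rw [hA₀'] at e
      simp only [decide_eq_decide] at e
      by_cases hsq : IsSquare (FormLevel.gram (base (dat C)) (Jc C) (cs b) (l : ℕ)).det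
      · exact hsq.mul (e.1 hsq)
      · exact isSquare_mul_of_not hsq fun h' => hsq (e.2 h')
    -- at the chosen position
    have hat : ∀ x : Bool × Fin n, l0 (dat C) = some x →
        IsSquare ((FormLevel.gram A₀ (Jc C) (cs x.1) (x.2 : ℕ)).det * (FormLevel.gram A₀ (Jc C') (cs x.1) (x.2 : ℕ)).det) := by
      intro x hx
      by_contra hns
      set d₁ := (FormLevel.gram A₀ (Jc C) (cs x.1) (x.2 : ℕ)).det with hd₁
      set d₂ := (FormLevel.gram A₀ (Jc C') (cs x.1) (x.2 : ℕ)).det with hd₂
      obtain ⟨ν, hν⟩ : ∃ ν, ν = d₁ * d₂ := ⟨_, rfl⟩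
      have hν0 : ν ≠ 0 := fun h0 => hns (by rw [← hν, h0]; exact IsSquare.zero)
      have hp := hl0 _ _ hx
      have hk : Even (x.2 : ℕ) := Nat.not_odd_iff_even.1 hp.1
      have hne : Nonempty (Lvl A₀ (cs x.1) (x.2 : ℕ)) := by
        rw [← Fintype.card_pos_iff, Nat.pos_iff_ne_zero, ← rootMult_dataOf A₀ (cs x.1) x.2]
        have hh : ∃ C', dat C' = dat C := ⟨C, rfl⟩
        have hdA : dataOf (A₀ : Mn) = dat C := by
          rw [← hA₀]; simp only [base, dif_pos hh]; exact hh.choose_spec
        rw [hdA]; exact hp.2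
      obtain ⟨J', i1', hsame, htw, hdet⟩ := exists_twist h2 i1 (hcs x.1) hk hne hν0
      obtain ⟨g, hgA, hg⟩ := exists_congr_of_sq hε h2 (fun l => Odd l) hfl i1' i2 fun c k hc hk' hne' => by
        obtain ⟨b, hkn, hb, hp'⟩ := hpos c k hc hk' hne'
        subst hb
        by_cases hxx : cs b = cs x.1 ∧ k = (x.2 : ℕ)
        · obtain ⟨e1, rfl⟩ := hxx
          rw [e1, htw, ← hd₁, ← hd₂, hν]
          exact ⟨d₁ * d₂, by ring⟩
        · rw [hsame _ _ hc hxx]
          refine hoff b ⟨k, hkn⟩ hp' fun e => hxx ?_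
          rw [hx, Option.some.injEq] at e
          exact ⟨by rw [← e], by rw [← e]⟩
      have hgd := congrArg Matrix.det hg
      simp only [det_mul, det_transpose, hdet, Jc] at hgd
      refine hns ?_
      rw [← hν]
      obtain ⟨j, hj⟩ := hk
      rw [hj] at hgd
      have hJd : J.det ≠ 0 := ((isUnit_iff_isUnit_det J).1 hJu).ne_zero
      have hTd : (T C : Mn).det ≠ 0 := ((isUnit_iff_isUnit_det _).1 (T C).isUnit).ne_zero
      have hgd0 : (g : Mn).det ≠ 0 := ((isUnit_iff_isUnit_det _).1 g.isUnit).ne_zero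
      refine ⟨(T C' : Mn).det / ((g : Mn).det * (T C : Mn).det * ν ^ j), ?_⟩
      rw [pow_succ, pow_add] at hgd
      have hνj : ν ^ j ≠ 0 := pow_ne_zero _ hν0
      field_simp
      linear_combination (exp := 1) (1 / J.det) * hgd - ((g : Mn).det * (g : Mn).det * (T C : Mn).det * (T C : Mn).det * ν ^ j * ν ^ j * ν - (T C' : Mn).det * (T C' : Mn).det) * (div_self hJd)
    obtain ⟨g, hgA, hg⟩ := exists_congr_of_sq hε h2 (fun l => Odd l) hfl i1 i2 fun c k hc hk hne => by
      obtain ⟨b, hkn, hb, hp⟩ := hpos c k hc hk hne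
      subst hb
      by_cases e : some (b, (⟨k, hkn⟩ : Fin n)) = l0 (dat C)
      · exact hat (b, ⟨k, hkn⟩) e.symm
      · exact hoff b ⟨k, hkn⟩ hp e
    exact eq_of_congr (Units.ext (hA₀ ▸ hT C)) (Units.ext (hA₀' ▸ hT C')) hgA hg
  -- the codes
  have hrec : ∀ C l, IsRecip (dat C l) := fun C l => dataOf_recip (hrep C) l
  let sg : ConjClasses ↥(isoGroup J) → Bool → Bool → Fin n → Bool := fun C s b l =>
    if l0 (dat C) = some (b, l) then s else sgn C b l
  have hdeg : ∀ C, (fun l => (dat C l).natDegree) ∈ comps 1 n n := fun C =>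
    isData_deg_mem (isData_dataOf ((isUnit_iff_isUnit_det _).1 (rep C).isUnit).ne_zero)
  have hcodeE : ∀ m, Even m → code m false = 0 := fun m hm => by
    unfold code; rw [if_pos hm]; simp
  have hzero : ∀ C s (l : Fin n), Odd (l : ℕ) →
      (code (rootMultiplicity 1 (dat C l)) (sg C s true l),
        code (rootMultiplicity (-1) (dat C l)) (sg C s false l)) = (0, 0) := by
    intro C s l hl
    have hs : ∀ b, sg C s b l = false := fun b => by
      simp only [sg]
      rw [if_neg fun e => (hl0 _ _ e).1 hl]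
      simp only [sgn, hl, true_or, if_true]
    rw [hs, hs, hcodeE _ (even_mult h2 hε (hrep C) (one_mul 1) l (by rw [hfl, if_pos hl])),
      hcodeE _ (even_mult h2 hε (hrep C) (by norm_num) l (by rw [hfl, if_pos hl]))]
  have hall : ∀ C, l0 (dat C) = none → ∀ l, True →
      (code (rootMultiplicity 1 (dat C l)) (sg C false true l),
        code (rootMultiplicity (-1) (dat C l)) (sg C false false l)) = (0, 0) := by
    intro C hn l _
    by_cases hl : Odd (l : ℕ)
    · exact hzero C false l hl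
    · have hm : ∀ b, rootMultiplicity (cs b) (dat C l) = 0 := fun b =>
        by_contra fun hne => hnone _ hn b l ⟨hl, hne⟩
      have h1 := hm true
      have h2' := hm false
      simp only [cs, if_true, Bool.false_eq_true, if_false] at h1 h2'
      rw [h1, h2']
      simp [code]
  choose P hP1 hP2 hP3 using fun C s l => exists_code h2 (hrec C l) (sg C s true l, sg C s false l)
  haveI : ∀ (fl : Prop) (a : ℕ), Finite (Code F fl a) := fun fl a => (card_code_le fl a).1
  let S : (Fin n → Prop) → Type _ := fun fl =>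
    Σ a : (comps 1 n n : Finset (Fin n → ℕ)), ∀ l : Fin n, Code F (fl l) (a.1 l)
  let mk : ∀ (C : ConjClasses ↥(isoGroup J)) (s : Bool) (fl : Fin n → Prop),
      (∀ l, fl l → (code (rootMultiplicity 1 (dat C l)) (sg C s true l),
        code (rootMultiplicity (-1) (dat C l)) (sg C s false l)) = (0, 0)) → S fl := fun C s fl h =>
    ⟨⟨_, hdeg C⟩, fun l => ⟨(code (rootMultiplicity 1 (dat C l)) (sg C s true l),
      code (rootMultiplicity (-1) (dat C l)) (sg C s false l)), P C s l, hP1 C s l, hP2 C s l, h l⟩⟩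
  let Φ : ConjClasses ↥(isoGroup J) × Bool → S (fun l => Odd (l : ℕ)) ⊕ S (fun _ => True) := fun x =>
    if hn : l0 (dat x.1) = none then
      (if x.2 then .inr (mk x.1 false _ (hall x.1 hn)) else .inl (mk x.1 false _ (hzero x.1 false)))
    else .inl (mk x.1 x.2 _ (hzero x.1 x.2))
  have hmk : ∀ C C' s s' fl h h', mk C s fl h = mk C' s' fl h' →
      dat C = dat C' ∧ ∀ b l, rootMultiplicity (cs b) (dat C l) ≠ 0 → sg C s b l = sg C' s' b l := by
    intro C C' s s' fl h h' e
    have hcode : ∀ l, (code (rootMultiplicity 1 (dat C l)) (sg C s true l),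
        code (rootMultiplicity (-1) (dat C l)) (sg C s false l), P C s l) =
        (code (rootMultiplicity 1 (dat C' l)) (sg C' s' true l),
          code (rootMultiplicity (-1) (dat C' l)) (sg C' s' false l), P C' s' l) := fun l => by
      have := congrArg (fun z : S fl => ((z.2 l).1.1, (z.2 l).1.2, (z.2 l).2.1)) e
      exact this
    have hd : dat C = dat C' := funext fun l => by
      have := hcode l
      simp only [Prod.mk.injEq] at this
      rw [hP3 C s l, hP3 C' s' l, this.1, this.2.1, this.2.2]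
    refine ⟨hd, fun b l hm => ?_⟩
    have := hcode l
    rw [← hd] at this
    simp only [Prod.mk.injEq] at this
    cases b
    · exact code_inj hm this.2.1
    · exact code_inj hm this.1
  have hΦ : Function.Injective Φ := by
    rintro ⟨C, s⟩ ⟨C', s'⟩ e
    have hCC : ∀ t t' fl h h', mk C t fl h = mk C' t' fl h' → C = C' := by
      intro t t' fl h h' e'
      obtain ⟨hd, hs⟩ := hmk C C' t t' fl h h' e'
      refine hinj C C' hd fun b l hne => ?_
      by_cases hm : rootMultiplicity (cs b) (dat C l) = 0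
      · simp only [sgn]
        rw [if_pos (Or.inr hm), if_pos (Or.inr (hd ▸ hm))]
      · have := hs b l hm
        simp only [sg] at this
        rwa [if_neg (Ne.symm hne), if_neg (hd ▸ Ne.symm hne)] at this
    simp only [Φ] at e
    by_cases hn : l0 (dat C) = none
    · rw [dif_pos hn] at e
      by_cases hn' : l0 (dat C') = none
      · rw [dif_pos hn'] at e
        cases s <;> cases s' <;> simp only [if_true, if_false, Bool.false_eq_true] at e
        · obtain rfl := hCC false false _ (hzero C false) (hzero C' false) (Sum.inl.inj e); rfl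
        · exact absurd e Sum.inl_ne_inr
        · exact absurd e Sum.inr_ne_inl
        · obtain rfl := hCC false false _ (hall C hn) (hall C' hn') (Sum.inr.inj e); rfl
      · rw [dif_neg hn'] at e
        cases s <;> simp only [if_true, if_false, Bool.false_eq_true] at e
        · have hh := hmk C C' false s' _ (hzero C false) (hzero C' s') (Sum.inl.inj e)
          exact absurd (hh.1 ▸ hn) hn'
        · exact absurd e Sum.inr_ne_inl
    · rw [dif_neg hn] at e
      by_cases hn' : l0 (dat C') = none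
      · rw [dif_pos hn'] at e
        cases s' <;> simp only [if_true, if_false, Bool.false_eq_true] at e
        · have hh := hmk C C' s false _ (hzero C s) (hzero C' false) (Sum.inl.inj e)
          exact absurd (hh.1.symm ▸ hn') hn
        · exact absurd e Sum.inl_ne_inr
      · rw [dif_neg hn', Sum.inl.injEq] at e
        obtain rfl := hCC s s' _ (hzero C s) (hzero C' s') e
        obtain ⟨x, hx⟩ := Option.ne_none_iff_exists'.1 hn
        have := (hmk C C s s' _ (hzero C s) (hzero C s') e).2 x.1 x.2 (hl0 _ _ hx).2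
        simp only [sg] at this
        rw [if_pos hx, if_pos hx] at this
        rw [this]
  refine ⟨Φ, hΦ, fun x z hz l => ?_⟩
  have key : ∀ t fl h, mk x.1 t fl h = mk x.1 t fl h ∧ ∃ s : Bool × Bool,
      ((mk x.1 t fl h).2 l).1 = (code (rootMultiplicity 1 (dat x.1 l)) s.1, code (rootMultiplicity (-1) (dat x.1 l)) s.2) ∧
      dat x.1 l = (X - C 1) ^ dv ((mk x.1 t fl h).2 l).1.1 * (X - C (-1)) ^ dv ((mk x.1 t fl h).2 l).1.2 *
        ((mk x.1 t fl h).2 l).2.1 :=
    fun t fl h => ⟨rfl, (sg x.1 t true l, sg x.1 t false l), rfl, hP3 x.1 t l⟩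
  simp only [Φ] at hz
  split_ifs at hz
  · obtain rfl := Sum.inl.inj hz
    exact (key false _ (hzero x.1 false)).2
  · obtain rfl := Sum.inl.inj hz
    exact (key x.2 _ (hzero x.1 x.2)).2

theorem card_codeSpace_le (fl : ℕ → Prop) [DecidablePred fl] :
    Finite (CodeSpace F n fun l => fl (l : ℕ)) ∧ Nat.card (CodeSpace F n fun l => fl (l : ℕ)) ≤
      ∑ a ∈ comps 1 n n, ∏ l : Fin n, wgt (Fintype.card F) (fl (l : ℕ)) (a l) := by
  classical
  haveI : ∀ (fl : Prop) [Decidable fl] (a : ℕ), Finite (Code F fl a) := fun fl _ a => (card_code_le fl a).1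
  refine ⟨inferInstance, ?_⟩
  rw [Nat.card_sigma, ← sum_coe_sort (comps 1 n n)]
  exact sum_le_sum fun a _ => (Nat.card_pi).trans_le (prod_le_prod' fun l _ => (card_code_le _ _).2)

/-- Twice the number of classes of an orthogonal group. -/
theorem card_orth_classes_le (hJs : Jᵀ = J) (hJu : IsUnit J) (h2 : (2 : F) ≠ 0) :
    2 * Nat.card (ConjClasses ↥(isoGroup J)) ≤
      ∑ a ∈ comps 1 n n, ∏ l : Fin n, wgt (Fintype.card F) (Odd (l : ℕ)) (a l) +
      ∑ a ∈ comps 1 n n, ∏ l : Fin n, wgt (Fintype.card F) True (a l) := by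
  classical
  obtain ⟨Φ, hΦ, -⟩ := exists_class_code hJs hJu h2
  obtain ⟨f1, h1⟩ := card_codeSpace_le (F := F) (n := n) (fun l => Odd l)
  obtain ⟨f2, h2'⟩ := card_codeSpace_le (F := F) (n := n) (fun _ => True)
  have := Nat.card_le_card_of_injective Φ hΦ
  rw [Nat.card_prod, Nat.card_sum, Nat.card_eq_fintype_card (α := Bool), Fintype.card_bool, mul_comm] at this
  exact this.trans (add_le_add h1 h2')

end CfsgLib.ClassK.IsoData
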