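import Cfsg.Agent.Lib.ClassK.OrthClassData
import Cfsg.Agent.Lib.ClassK.OmegaOddBound

/-!
Classes of orthogonal groups of odd dimension: all counted with signs, and those whose first layer has
each of the eigenvalues `±1` at most once, over a field of order three.
-/

set_option autoImplicit false

namespace CfsgLib.ClassK.IsoData

open Matrix Polynomial Finset CfsgLib.Classical CfsgLib.KnownB.GLClass CfsgLib.KnownB.ClassNum
  CfsgLib.ClassK.IsoPoly CfsgLib.ClassK.OddBound CfsgLib.ClassK.CompRec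
open scoped Matrix

variable {F : Type*} [Field F]

theorem isEmpty_codeSpace {N : ℕ} (hN : Odd N) : IsEmpty (CodeSpace F N fun _ => True) := by
  refine ⟨fun z => ?_⟩
  have h2 : Even (∑ l : Fin N, (1 + (l : ℕ)) * z.1.1 l) :=
    Finset.sum_induction _ Even (fun a b => Even.add) Even.zero fun l _ => by
      obtain ⟨d, P, -, hP, hd⟩ := z.2 l
      have hd0 := hd trivial
      subst hd0
      have h := hP.2.2.1
      simp only [dv, Matrix.cons_val_zero, Nat.sub_zero] at h
      exact h.mul_left _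
  rw [(mem_comps le_rfl).1 z.1.2] at h2
  exact Nat.not_even_iff_odd.2 hN h2

variable [Fintype F]

theorem card_orth_odd_le {N : ℕ} (hN : Odd N) {J : Matrix (Fin N) (Fin N) F} (hJs : Jᵀ = J) (hJu : IsUnit J)
    (h2 : (2 : F) ≠ 0) :
    2 * Nat.card (ConjClasses ↥(isoGroup J)) ≤
      ∑ a ∈ comps 1 N N, ∏ l : Fin N, wgt (Fintype.card F) (Odd (l : ℕ)) (a l) := by
  classical
  obtain ⟨Φ, hΦ, -⟩ := exists_class_code hJs hJu h2
  obtain ⟨f1, h1⟩ := card_codeSpace_le (F := F) (n := N) (fun l => Odd l)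
  haveI := isEmpty_codeSpace (F := F) hN
  have := Nat.card_le_card_of_injective Φ hΦ
  rw [Nat.card_prod, Nat.card_sum, Nat.card_eq_fintype_card (α := Bool), Fintype.card_bool, mul_comm,
    Nat.card_of_isEmpty (α := CodeSpace F N fun _ => True), add_zero] at this
  exact this.trans h1

/-- Palindromic polynomials without roots `±1`. -/
theorem card_palin_good_le (h2 : (2 : F) ≠ 0) (hq : Fintype.card F = 3) (b : ℕ) :
    Nat.card {P : F[X] // IsPalin (2 * b) P ∧ P.eval 1 ≠ 0 ∧ P.eval (-1) ≠ 0} ≤ pn b := by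
  classical
  haveI := (card_palin_le (F := F) (2 * b)).1
  have hall : Nat.card {P : F[X] // IsPalin (2 * b) P ∧ P.eval 1 ≠ 0 ∧ P.eval (-1) ≠ 0} ≤
      Nat.card {P : F[X] // IsPalin (2 * b) P} :=
    Nat.card_le_card_of_injective (fun P => ⟨P.1, P.2.1⟩) fun P P' e => Subtype.ext (congrArg Subtype.val e :)
  rcases b with _ | _ | k
  · refine hall.trans ((card_palin_le _).2.trans ?_)
    simp [pn]
  · -- degree two
    have h3 : ∀ P : F[X], IsPalin 2 P → P = X ^ 2 + C (P.coeff 1) * X + 1 := by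
      intro P hP
      obtain ⟨hm, hd, -, hr⟩ := hP
      refine Polynomial.ext fun i => ?_
      rcases i with _ | _ | _ | i
      · simp [SemiPalin.coeff_zero_of_rev hr hm]
      · simp [coeff_one]
      · have := hm.coeff_natDegree
        rw [hd] at this
        simp [this, coeff_one, coeff_X]
      · rw [coeff_eq_zero_of_natDegree_lt (by omega)]
        simp [coeff_one, coeff_X]
    show _ ≤ 1
    haveI : Finite {P : F[X] // IsPalin (2 * (0 + 1)) P ∧ P.eval 1 ≠ 0 ∧ P.eval (-1) ≠ 0} :=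
      Finite.of_injective (fun P => (⟨P.1, P.2.1⟩ : {P : F[X] // IsPalin (2 * (0 + 1)) P}))
        fun P P' e => Subtype.ext (congrArg Subtype.val e :)
    refine Finite.card_le_one_iff_subsingleton.2 ?_
    constructor
    intro P P'
    apply Subtype.ext
    have hcase : ∀ Q : {P : F[X] // IsPalin (2 * (0 + 1)) P ∧ P.eval 1 ≠ 0 ∧ P.eval (-1) ≠ 0}, Q.1.coeff 1 = 0 := by
      intro Q
      by_contra hc
      have hcard : Fintype.card Fˣ = 2 := by rw [Fintype.card_units, hq]
      have h1 : (2 : F) ≠ -2 := fun h => mul_ne_zero h2 h2 (by linear_combination h)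
      have hu : Units.mk0 (Q.1.coeff 1) hc = Units.mk0 2 h2 ∨ Units.mk0 (Q.1.coeff 1) hc = Units.mk0 (-2) (neg_ne_zero.2 h2) := by
        by_contra hne
        rw [not_or] at hne
        have := Fintype.card_le_of_injective (α := Fin 3)
          ![Units.mk0 (Q.1.coeff 1) hc, Units.mk0 2 h2, Units.mk0 (-2) (neg_ne_zero.2 h2)] fun i j hij => by
            fin_cases i <;> fin_cases j <;> simp_all [Units.ext_iff]
        simp [hcard] at this
      have e := h3 Q.1 Q.2.1
      rcases hu with hu | hu <;> rw [Units.ext_iff] at hu <;> simp only [Units.val_mk0] at hu <;> rw [hu] at e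
      · exact Q.2.2.2 (by rw [e]; simp; ring)
      · exact Q.2.2.1 (by rw [e]; simp; ring)
    rw [h3 P.1 P.2.1, h3 P'.1 P'.2.1, hcase P, hcase P']
  · -- the lowest coefficients and the two values
    let f : {P : F[X] // IsPalin (2 * (k + 2)) P ∧ P.eval 1 ≠ 0 ∧ P.eval (-1) ≠ 0} → (Fin k → F) × Fˣ × Fˣ := fun P =>
      (fun i => P.1.coeff ((i : ℕ) + 1), Units.mk0 _ P.2.2.1, Units.mk0 _ P.2.2.2)
    refine (Nat.card_le_card_of_injective f fun P P' e => ?_).trans ?_
    · simp only [f, Prod.mk.injEq, Units.ext_iff, Units.val_mk0] at e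
      obtain ⟨ec, e1, e2⟩ := e
      obtain ⟨hm, hd, -, hr⟩ := P.2.1
      obtain ⟨hm', hd', -, hr'⟩ := P'.2.1
      set D : F[X] := P.1 - P'.1 with hD
      have hsym : ∀ i, i ≤ 2 * (k + 2) → D.coeff (2 * (k + 2) - i) = D.coeff i := fun i hi => by
        have a1 := SemiPalin.coeff_rev hr (i := i) (by omega)
        have a2 := SemiPalin.coeff_rev hr' (i := i) (by omega)
        rw [hd] at a1
        rw [hd'] at a2
        rw [hD, coeff_sub, coeff_sub, a1, a2]
      have hlow : ∀ i, i ≤ k → D.coeff i = 0 := fun i hi => by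
        rcases i with _ | i
        · rw [hD, coeff_sub, SemiPalin.coeff_zero_of_rev hr hm, SemiPalin.coeff_zero_of_rev hr' hm', sub_self]
        · rw [hD, coeff_sub]
          exact sub_eq_zero.2 (congrFun ec ⟨i, by omega⟩)
      have hDeq : D = C (D.coeff (k + 1)) * (X ^ (k + 1) + X ^ (k + 3)) + C (D.coeff (k + 2)) * X ^ (k + 2) := by
        refine Polynomial.ext fun i => ?_
        simp only [coeff_add, coeff_C_mul, coeff_X_pow]
        rcases eq_or_ne i (k + 1) with rfl | h1
        · simp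
        rcases eq_or_ne i (k + 2) with rfl | h2'
        · simp
        rcases eq_or_ne i (k + 3) with rfl | h3
        · have := hsym (k + 1) (by omega)
          rw [show 2 * (k + 2) - (k + 1) = k + 3 by omega] at this
          simp [this]
        simp only [h1, h2', h3, if_false, mul_zero, add_zero]
        rcases le_or_gt i k with h4 | h4
        · exact hlow i h4
        rcases le_or_gt i (2 * (k + 2)) with h5 | h5
        · rw [← hsym i h5]; exact hlow _ (by omega)
        · rw [hD, coeff_sub, coeff_eq_zero_of_natDegree_lt (by omega), coeff_eq_zero_of_natDegree_lt (by omega), sub_self]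
      obtain ⟨c, hc⟩ : ∃ c, c = D.coeff (k + 1) := ⟨_, rfl⟩
      obtain ⟨m, hm0⟩ : ∃ m, m = D.coeff (k + 2) := ⟨_, rfl⟩
      rw [← hc, ← hm0] at hDeq
      have v1 : D.eval 1 = 0 := by rw [hD, eval_sub, e1, sub_self]
      have v2 : D.eval (-1) = 0 := by rw [hD, eval_sub, e2, sub_self]
      rw [hDeq] at v1 v2
      simp only [eval_add, eval_mul, eval_C, eval_pow, eval_X, one_pow, mul_one, pow_succ] at v1 v2
      have hp : ((-1 : F) ^ k) * (-1) ^ k = 1 := by rw [← mul_pow, neg_one_mul, neg_neg, one_pow]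
      have hm00 : m = 0 := mul_left_cancel₀ h2 (by linear_combination v1 + (-1 : F) ^ k * v2 + (2 * c - m) * hp)
      have hc0 : c = 0 := mul_left_cancel₀ h2 (by linear_combination v1 - hm00)
      rw [hc0, hm00, C_0, zero_mul, zero_mul, add_zero] at hDeq
      exact Subtype.ext (sub_eq_zero.1 hDeq)
    · rw [Nat.card_prod, Nat.card_prod, Nat.card_fun, Nat.card_units, Nat.card_eq_fintype_card, hq,
        Nat.card_eq_fintype_card, Fintype.card_fin]
      simp [pn]
      omega

/-- A restricted code. -/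
def GoodCode {fl : Prop} {a : ℕ} (c : Code F fl a) : Prop :=
  c.1.1 ≠ 3 ∧ c.1.2 ≠ 3 ∧ c.2.1.eval 1 ≠ 0 ∧ c.2.1.eval (-1) ≠ 0

theorem card_good_le (h2 : (2 : F) ≠ 0) (hq : Fintype.card F = 3) (fl : Prop) (hfl : ¬fl) (a : ℕ) :
    Nat.card {c : Code F fl a // GoodCode c} ≤ wr a := by
  classical
  haveI := (card_code_le (F := F) fl a).1
  let T : Fin 4 × Fin 4 → Type _ := fun d =>
    {P : F[X] // (dv d.1 + dv d.2 ≤ a ∧ IsPalin (a - dv d.1 - dv d.2) P ∧ (fl → d = (0, 0))) ∧
      (d.1 ≠ 3 ∧ d.2 ≠ 3) ∧ P.eval 1 ≠ 0 ∧ P.eval (-1) ≠ 0}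
  haveI : ∀ d, Finite (T d) := fun d =>
    haveI := (card_palin_le (F := F) (a - dv d.1 - dv d.2)).1
    Finite.of_injective (fun P : T d => (⟨P.1, P.2.1.2.1⟩ : {P : F[X] // IsPalin (a - dv d.1 - dv d.2) P}))
      fun P P' e => Subtype.ext (congrArg Subtype.val e :)
  have e : Nat.card {c : Code F fl a // GoodCode c} ≤ Nat.card (Σ d, T d) :=
    Nat.card_le_card_of_injective (fun c => ⟨c.1.1, c.1.2.1, c.1.2.2, ⟨c.2.1, c.2.2.1⟩, c.2.2.2⟩)
      fun c c' h => by
        obtain ⟨⟨d, P⟩, hc⟩ := c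
        obtain ⟨⟨d', P'⟩, hc'⟩ := c'
        simp only [Sigma.mk.injEq] at h
        obtain ⟨rfl, h⟩ := h
        have h' := congrArg Subtype.val (eq_of_heq h)
        exact Subtype.ext (Sigma.ext rfl (heq_of_eq (Subtype.ext h')))
  refine e.trans ?_
  rw [Nat.card_sigma]
  have key : ∀ d, Nat.card (T d) ≤ if dv d.1 + dv d.2 ≤ a ∧ Even (a - dv d.1 - dv d.2) ∧ d.1 ≠ 3 ∧ d.2 ≠ 3
      then pn ((a - dv d.1 - dv d.2) / 2) else 0 := by
    intro d
    by_cases h : dv d.1 + dv d.2 ≤ a ∧ Even (a - dv d.1 - dv d.2) ∧ d.1 ≠ 3 ∧ d.2 ≠ 3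
    · rw [if_pos h]
      obtain ⟨b, hb⟩ := h.2.1
      rw [hb, ← two_mul, Nat.mul_div_cancel_left _ (by norm_num : 0 < 2)]
      haveI := (card_palin_le (F := F) (2 * b)).1
      haveI : Finite {P : F[X] // IsPalin (2 * b) P ∧ P.eval 1 ≠ 0 ∧ P.eval (-1) ≠ 0} :=
        Finite.of_injective (fun P => (⟨P.1, P.2.1⟩ : {P : F[X] // IsPalin (2 * b) P}))
          fun P P' e => Subtype.ext (congrArg Subtype.val e :)
      refine (Nat.card_le_card_of_injective (fun P : T d => (⟨P.1, ?_, P.2.2.2⟩ :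
        {P : F[X] // IsPalin (2 * b) P ∧ P.eval 1 ≠ 0 ∧ P.eval (-1) ≠ 0}))
        fun P P' e => Subtype.ext (congrArg Subtype.val e :)).trans (card_palin_good_le h2 hq b)
      exact Eq.subst (motive := fun m => IsPalin m P.1) (hb.trans (two_mul b).symm) P.2.1.2.1
    · rw [if_neg h]
      haveI : IsEmpty (T d) := ⟨fun P => h ⟨P.2.1.1, P.2.1.2.1.2.2.1, P.2.2.1⟩⟩
      simp
  refine (Finset.sum_le_sum fun d _ => key d).trans (le_of_eq ?_)
  rw [Fintype.sum_prod_type]
  simp only [Fin.sum_univ_four]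
  rcases a with _ | _ | a
  · simp [dv, wr, pn, Nat.even_iff]
  · simp [dv, wr, pn, Nat.even_iff]
  · simp only [wr, dv, Matrix.cons_val_zero, Matrix.cons_val_one, Matrix.cons_val_two, Matrix.cons_val_three,
      Matrix.head_cons, Matrix.tail_cons, Nat.even_iff, Matrix.cons_val]
    simp only [Fin.isValue, ne_eq, not_true, not_false_iff, and_true, and_false, if_false, add_zero,
      show ((0 : Fin 4) = 3) = False by simp, show ((1 : Fin 4) = 3) = False by simp,
      show ((2 : Fin 4) = 3) = False by simp]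
    rcases Nat.mod_two_eq_zero_or_one a with h | h
    · simp [show (a + 2) % 2 = 0 by omega, show (a + 1) % 2 = 1 by omega, show a % 2 = 0 by omega,
        show (a + 2) / 2 = a / 2 + 1 by omega]
      ring
    · simp [show (a + 2) % 2 = 1 by omega, show (a + 1) % 2 = 0 by omega, show a % 2 = 1 by omega,
        show (a + 2) / 2 = (a + 1) / 2 by omega]
      ring

/-- The first weight of the restricted count. -/
def wGood (l a : ℕ) : ℕ := if l = 0 then wr a else wgt 3 (Odd l) a

/-- The classes with the first layer multiplicities at most one. -/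
theorem card_orth_odd_good_le (hq : Fintype.card F = 3) {N : ℕ} (hN : Odd N) (l0 : Fin N) (hl0 : (l0 : ℕ) = 0)
    {J : Matrix (Fin N) (Fin N) F} (hJs : Jᵀ = J) (hJu : IsUnit J) (h2 : (2 : F) ≠ 0) :
    2 * Nat.card {C : ConjClasses ↥(isoGroup J) // ∀ e : F, e * e = 1 →
      rootMultiplicity e (dataOf ((((Quotient.out C : ↥(isoGroup J)) : GL (Fin N) F)) : Matrix (Fin N) (Fin N) F) l0) ≤ 1} ≤
      cs wGood N N := by
  classical
  obtain ⟨Φ, hΦ, hdat⟩ := exists_class_code hJs hJu h2
  haveI : ∀ (fl : Prop) (a : ℕ), Finite (Code F fl a) := fun fl a => (card_code_le fl a).1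
  haveI := isEmpty_codeSpace (F := F) hN
  let Z : Type _ := Σ a : (comps 1 N N : Finset (Fin N → ℕ)),
    ∀ l : Fin N, {c : Code F (Odd (l : ℕ)) (a.1 l) // (l : ℕ) = 0 → GoodCode c}
  set ok := fun C : ConjClasses ↥(isoGroup J) => ∀ e : F, e * e = 1 →
      rootMultiplicity e (dataOf ((((Quotient.out C : ↥(isoGroup J)) : GL (Fin N) F)) : Matrix (Fin N) (Fin N) F) l0) ≤ 1
  have hgood : ∀ (x : {C // ok C} × Bool) z, Φ (x.1.1, x.2) = .inl z → GoodCode (z.2 l0) := by
    intro x z hz
    obtain ⟨s, hs, hf⟩ := hdat _ z hz l0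
    have m1 := x.1.2 1 (one_mul 1)
    have m2 := x.1.2 (-1) (by norm_num)
    simp only at hs hf
    generalize dataOf ((((Quotient.out x.1.1 : ↥(isoGroup J)) : GL (Fin N) F)) : Matrix (Fin N) (Fin N) F) l0 = f
      at hs hf m1 m2
    have hcode : ∀ m (t : Bool), m ≤ 1 → code m t ≠ 3 ∧ dv (code m t) = m := by
      intro m t hm
      obtain rfl | rfl : m = 0 ∨ m = 1 := by omega
      · simp [code, dv]
      · cases t <;> simp [code, dv]
    obtain ⟨a1, b1⟩ := hcode _ s.1 m1
    obtain ⟨a2, b2⟩ := hcode _ s.2 m2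
    have hP := (z.2 l0).2.2.2.1.1
    unfold GoodCode
    have e1 := congrArg Prod.fst hs
    have e2 := congrArg Prod.snd hs
    simp only at e1 e2
    have b1' : dv (z.2 l0).1.1 = rootMultiplicity 1 f := by rw [e1]; exact b1
    have b2' : dv (z.2 l0).1.2 = rootMultiplicity (-1) f := by rw [e2]; exact b2
    simp only [b1', b2'] at hf
    refine ⟨e1 ▸ a1, e2 ▸ a2, ?_⟩
    have hf0 : (X - C (1 : F)) ^ rootMultiplicity 1 f * (X - C (-1)) ^ rootMultiplicity (-1) f * (z.2 l0).2.1 ≠ 0 :=
      mul_ne_zero (mul_ne_zero (pow_ne_zero _ (X_sub_C_ne_zero _)) (pow_ne_zero _ (X_sub_C_ne_zero _))) hP.ne_zero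
    have hne : (1 : F) ≠ -1 := fun h => h2 (by linear_combination h)
    constructor <;> intro h0 <;> have hgd := (Polynomial.rootMultiplicity_pos hP.ne_zero).2 h0
    · have := congrArg (rootMultiplicity (1 : F)) hf
      rw [rootMultiplicity_mul hf0, rootMultiplicity_mul (left_ne_zero_of_mul hf0),
        rootMultiplicity_X_sub_C_pow, rootMultiplicity_eq_zero (p := (X - C (-1)) ^ rootMultiplicity (-1) f)
          (by simp [IsRoot, one_add_one_eq_two, h2])] at this
      omega
    · have := congrArg (rootMultiplicity (-1 : F)) hf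
      rw [rootMultiplicity_mul hf0, rootMultiplicity_mul (left_ne_zero_of_mul hf0),
        rootMultiplicity_X_sub_C_pow, rootMultiplicity_eq_zero (p := (X - C 1) ^ rootMultiplicity 1 f)
          (by simp [IsRoot, sub_eq_zero, hne.symm])] at this
      omega
  let val : Z → CodeSpace F N (fun l => Odd (l : ℕ)) := fun w => ⟨w.1, fun l => (w.2 l).1⟩
  have hex : ∀ x : {C // ok C} × Bool, ∃ w : Z, Φ (x.1.1, x.2) = .inl (val w) := by
    intro x
    rcases h : Φ (x.1.1, x.2) with z | z
    · exact ⟨⟨z.1, fun l => ⟨z.2 l, fun hl => (Fin.ext (hl.trans hl0.symm)) ▸ hgood x z h⟩⟩, rfl⟩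
    · exact isEmptyElim z
  choose w hw using hex
  have hinj : Function.Injective w := fun x y e => by
    have := hΦ ((hw x).trans ((congrArg (fun u => Sum.inl (val u)) e).trans (hw y).symm))
    simp only [Prod.mk.injEq] at this
    exact Prod.ext (Subtype.ext this.1) this.2
  have := Nat.card_le_card_of_injective w hinj
  rw [Nat.card_prod, Nat.card_eq_fintype_card (α := Bool), Fintype.card_bool, mul_comm] at this
  refine this.trans ?_
  rw [← sum_comps_eq, Nat.card_sigma, ← sum_coe_sort (comps 1 N N)]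
  refine sum_le_sum fun a _ => (Nat.card_pi).trans_le (prod_le_prod' fun l _ => ?_)
  by_cases hl : (l : ℕ) = 0
  · rw [wGood, if_pos hl]
    refine (Nat.card_le_card_of_injective (fun c : {c : Code F (Odd (l : ℕ)) (a.1 l) // (l : ℕ) = 0 → GoodCode c} =>
      (⟨c.1, c.2 hl⟩ : {c : Code F (Odd (l : ℕ)) (a.1 l) // GoodCode c}))
      fun c c' e => Subtype.ext (congrArg Subtype.val e :)).trans (card_good_le h2 hq _ (by rw [hl]; decide) _)
  · rw [wGood, if_neg hl, ← hq]
    exact (Nat.card_le_card_of_injective _ Subtype.val_injective).trans (card_code_le _ _).2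

end CfsgLib.ClassK.IsoData
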