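import Cfsg.Agent.Lib.ClassK.IsoClassData

/-!
Changing the discriminant of one layer of an invariant symmetric form: the form is multiplied by `ν`
on a non-degenerate cyclic submodule of type `(X - c) ^ (k + 1)`, `k` even.
-/

set_option autoImplicit false

namespace CfsgLib.ClassK.IsoData

open Matrix Polynomial Finset CfsgLib.ClassK.FormLayers CfsgLib.ClassK.FormLevel
open scoped Matrix

variable {F : Type*} [Field F] {n : ℕ}

local notation "Mn" => Matrix (Fin n) (Fin n) F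

theorem exists_anisotropic {ι : Type*} [Fintype ι] [DecidableEq ι] [Nonempty ι] (h2 : (2 : F) ≠ 0)
    {M : Matrix ι ι F} (hs : Mᵀ = M) (hu : IsUnit M) : ∃ d : ι → F, d ⬝ᵥ M *ᵥ d ≠ 0 := by
  by_contra hne
  push Not at hne
  have hb : ∀ x y : ι → F, x ⬝ᵥ M *ᵥ y = 0 := by
    intro x y
    have h := hne (x + y)
    have h3 : y ⬝ᵥ M *ᵥ x = x ⬝ᵥ M *ᵥ y := by
      rw [dotProduct_mulVec, ← mulVec_transpose, hs, dotProduct_comm]
    rw [mulVec_add, add_dotProduct, dotProduct_add, dotProduct_add, hne x, hne y, h3] at h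
    exact (mul_eq_zero.1 (show (2 : F) * (x ⬝ᵥ M *ᵥ y) = 0 by linear_combination h)).resolve_left h2
  obtain ⟨i⟩ := ‹Nonempty ι›
  have h0 : (Pi.single i 1 : ι → F) = 0 := by
    refine Matrix.mulVec_injective_of_isUnit hu ((dotProduct_eq_zero (M *ᵥ (Pi.single i 1 : ι → F)) fun x => ?_).trans (mulVec_zero _).symm)
    rw [dotProduct_comm]; exact hb x _
  simpa using congrFun h0 i

variable {A : GL (Fin n) F} {J : Matrix (Fin n) (Fin n) F}

/-- Twisting one layer. -/
theorem exists_twist [Finite F] (h2 : (2 : F) ≠ 0) (h : IsInv 1 A J) {c₀ : F} (hc₀ : c₀ * c₀ = 1) {k₀ : ℕ}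
    (hk : Even k₀) (hne : Nonempty (Lvl A c₀ k₀)) {ν : F} (hν : ν ≠ 0) :
    ∃ J' : Mn, IsInv 1 A J' ∧
      (∀ c k, c * c = 1 → ¬ (c = c₀ ∧ k = k₀) → FormLevel.gram A J' c k = FormLevel.gram A J c k) ∧
      (FormLevel.gram A J' c₀ k₀).det = ν * (FormLevel.gram A J c₀ k₀).det ∧
      J'.det = J.det * ν ^ (k₀ + 1) := by
  classical
  set M := FormLevel.gram A J c₀ k₀ with hM
  have hMs : Mᵀ = M := by rw [hM, gram_transpose h hc₀, hk.neg_one_pow, one_mul, one_smul]
  obtain ⟨d, hd⟩ := exists_anisotropic h2 hMs (isUnit_gram h (one_mul 1) hc₀)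
  obtain ⟨N, hN⟩ : ∃ N, N = Nm A c₀ := ⟨_, rfl⟩
  obtain ⟨u, hu⟩ : ∃ u : Fin n → F, u = ∑ i, d i • gen A i.1 := ⟨_, rfl⟩
  have hu0 : N ^ (k₀ + 1) *ᵥ u = 0 := by
    rw [hN, hu, mulVec_sum]
    exact sum_eq_zero fun i _ => by rw [mulVec_smul, gen_mem, smul_zero]
  have huc : N ^ k₀ *ᵥ u = ∑ i, d i • (Nm A c₀ ^ k₀ *ᵥ gen A i.1) + Nm A c₀ ^ (k₀ + 1) *ᵥ 0 := by
    rw [hN, hu, mulVec_sum, mulVec_zero, add_zero]
    exact sum_congr rfl fun i _ => mulVec_smul _ _ _
  have hb : frm J u (N ^ k₀ *ᵥ u) ≠ 0 := by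
    rw [hN, layer_eq h hc₀ (hN ▸ hu0) (hN ▸ huc) (hN ▸ huc)]
    exact hd
  set b := frm J u (N ^ k₀ *ᵥ u) with hbdef
  have hz : ∀ m, k₀ + 1 ≤ m → N ^ m *ᵥ u = 0 := fun m hm => by
    rw [show m = (m - (k₀ + 1)) + (k₀ + 1) by omega, pow_add, ← mulVec_mulVec, hu0, mulVec_zero]
  -- the cyclic module
  obtain ⟨U, hU⟩ : ∃ U : Matrix (Fin n) (Fin (k₀ + 1)) F, U = Matrix.of fun (r : Fin n) (i : Fin (k₀ + 1)) => (N ^ (i : ℕ) *ᵥ u) r := ⟨_, rfl⟩
  have hUc : ∀ v, U *ᵥ v = ∑ i, v i • (N ^ (i : ℕ) *ᵥ u) := fun v => by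
    ext r
    rw [hU, mulVec, dotProduct, Finset.sum_apply]
    exact sum_congr rfl fun i _ => mul_comm _ _
  have hTu : ∀ v, N ^ k₀ *ᵥ (U *ᵥ v) = v 0 • (N ^ k₀ *ᵥ u) := fun v => by
    rw [hUc, mulVec_sum, Fintype.sum_eq_single 0 fun i hi => by
      rw [mulVec_smul, mulVec_mulVec, ← pow_add, hz _ (by
        have : (i : ℕ) ≠ 0 := fun e => hi (Fin.ext e)
        omega), smul_zero], mulVec_smul, Fin.val_zero, pow_zero, one_mulVec]
  have hkill : ∀ m z, k₀ + 1 ≤ m → N ^ m *ᵥ (U *ᵥ z) = 0 := fun m z hm => by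
    rw [hUc, mulVec_sum]
    exact sum_eq_zero fun i _ => by rw [mulVec_smul, mulVec_mulVec, ← pow_add, hz _ (by omega), smul_zero]
  obtain ⟨G, hG⟩ : ∃ G, G = Uᵀ * J * U := ⟨_, rfl⟩
  have hGu : IsUnit G := by
    rw [← Matrix.mulVec_injective_iff_isUnit]
    refine (injective_iff_map_eq_zero G.mulVecLin).2 fun v hv => ?_
    by_contra hv0
    have hv' : ∀ x, frm J (U *ᵥ x) (U *ᵥ v) = 0 := fun x => by
      rw [frm, ← vecMul_transpose, ← dotProduct_mulVec, mulVec_mulVec, mulVec_mulVec,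
        ← hG, show G *ᵥ v = 0 from hv, dotProduct_zero]
    obtain ⟨i, hi, hmin⟩ : ∃ i, v i ≠ 0 ∧ ∀ j, v j ≠ 0 → (i : ℕ) ≤ (j : ℕ) := by
      obtain ⟨i, hi, hmin⟩ := exists_min_image (univ.filter fun i => v i ≠ 0) (fun i => (i : ℕ))
        (by
          obtain ⟨j, hj⟩ := Function.ne_iff.1 hv0
          exact ⟨j, by simpa using hj⟩)
      exact ⟨i, (mem_filter.1 hi).2, fun j hj => hmin j (mem_filter.2 ⟨mem_univ _, hj⟩)⟩
    set j : Fin (k₀ + 1) := ⟨k₀ - i, by omega⟩
    have h1 := hv' (Pi.single j 1)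
    rw [hUc, Fintype.sum_eq_single j fun l hl => by rw [Pi.single_eq_of_ne hl, zero_smul],
      Pi.single_eq_same, one_smul, hN, frm_move h hc₀, ← hN, mul_eq_zero] at h1
    have h1 := h1.resolve_left (pow_ne_zero _ (neg_ne_zero.2 (left_ne_zero_of_mul_eq_one hc₀)))
    have h3 : N ^ (j : ℕ) *ᵥ (U *ᵥ v) = v i • (N ^ k₀ *ᵥ u) := by
      rw [hUc, mulVec_sum, Fintype.sum_eq_single i fun l hl => by
        by_cases hl0 : v l = 0
        · rw [hl0, zero_smul, mulVec_zero]
        · rw [mulVec_smul, mulVec_mulVec, ← pow_add, hz _ (by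
            have := hmin l hl0
            have : (l : ℕ) ≠ (i : ℕ) := fun e => hl (Fin.ext e)
            show k₀ + 1 ≤ k₀ - (i : ℕ) + (l : ℕ)
            omega), smul_zero],
        mulVec_smul, mulVec_mulVec, ← pow_add, show (j : ℕ) + (i : ℕ) = k₀ by
          show k₀ - (i : ℕ) + (i : ℕ) = k₀; omega]
    rw [h3, mulVec_smul, inv_pow_fixed hc₀ (by rw [← hN, mulVec_mulVec, ← pow_succ', hu0]), frm,
      mulVec_smul, mulVec_smul, dotProduct_smul, dotProduct_smul, smul_eq_mul, smul_eq_mul] at h1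
    exact (mul_ne_zero hi (mul_ne_zero (pow_ne_zero _ (left_ne_zero_of_mul_eq_one hc₀)) hb)) h1
  have hGd := (isUnit_iff_isUnit_det G).1 hGu
  have hJs : Jᵀ = J := by rw [h.symm, one_smul]
  have hJd := (isUnit_iff_isUnit_det J).1 h.unit
  have hGs : Gᵀ = G := by rw [hG, transpose_mul, transpose_mul, transpose_transpose, hJs, Matrix.mul_assoc]
  -- the projection
  obtain ⟨P, hP⟩ : ∃ P : Mn, P = U * G⁻¹ * Uᵀ * J := ⟨_, rfl⟩
  have hPU : P * U = U := by
    rw [hP, show U * G⁻¹ * Uᵀ * J * U = U * (G⁻¹ * (Uᵀ * J * U)) by simp only [Matrix.mul_assoc], ← hG,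
      nonsing_inv_mul _ hGd, Matrix.mul_one]
  have hJP : (J * P)ᵀ = J * P := by
    rw [hP]
    simp only [transpose_mul, transpose_transpose, hJs, transpose_nonsing_inv, hGs, Matrix.mul_assoc]
  have hUim : ∀ x, ∃ v, P *ᵥ x = U *ᵥ v := fun x =>
    ⟨(G⁻¹ * Uᵀ * J) *ᵥ x, by rw [mulVec_mulVec, hP]; simp only [Matrix.mul_assoc]⟩
  obtain ⟨Z, hZ⟩ : ∃ Z : Matrix (Fin (k₀ + 1)) (Fin (k₀ + 1)) F, (A : Mn) * U = U * Z := by
    obtain ⟨S, hS⟩ : ∃ S : Matrix (Fin (k₀ + 1)) (Fin (k₀ + 1)) F,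
        S = Matrix.of fun (r i : Fin (k₀ + 1)) => if (r : ℕ) = (i : ℕ) + 1 then 1 else 0 := ⟨_, rfl⟩
    refine ⟨c₀ • 1 + S, Matrix.ext_of_mulVec_single fun i => ?_⟩
    have hUs : ∀ l, U *ᵥ Pi.single l 1 = N ^ (l : ℕ) *ᵥ u := fun l => by
      rw [hUc, Fintype.sum_eq_single l fun m hm => by rw [Pi.single_eq_of_ne hm, zero_smul],
        Pi.single_eq_same, one_smul]
    have hA : (A : Mn) = c₀ • 1 + N := by rw [hN, Nm]; abel
    rw [← mulVec_mulVec, hUs, ← mulVec_mulVec, add_mulVec, mulVec_add, smul_mulVec, one_mulVec, mulVec_smul, hUs,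
      hA, add_mulVec, smul_mulVec, one_mulVec, mulVec_mulVec (v := u), ← pow_succ', hUc]
    congr 1
    by_cases hi : (i : ℕ) + 1 < k₀ + 1
    · rw [Fintype.sum_eq_single ⟨(i : ℕ) + 1, hi⟩ fun m hm => by
        rw [mulVec_single_one, hS]
        show (if (m : ℕ) = (i : ℕ) + 1 then (1 : F) else 0) • _ = 0
        rw [if_neg fun e => hm (Fin.ext e), zero_smul], mulVec_single_one, hS]
      show _ = (if (i : ℕ) + 1 = (i : ℕ) + 1 then (1 : F) else 0) • _
      rw [if_pos rfl, one_smul]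
    · rw [hz _ (by omega), eq_comm]
      refine sum_eq_zero fun m _ => ?_
      rw [mulVec_single_one, hS]
      show (if (m : ℕ) = (i : ℕ) + 1 then (1 : F) else 0) • _ = 0
      rw [if_neg (by omega), zero_smul]
  have hfix : ∀ X : Mn, (∃ Y : Matrix (Fin (k₀ + 1)) (Fin (k₀ + 1)) F, X * U = U * Y) → P * X * P = X * P := by
    rintro X ⟨Y, hY⟩
    calc P * X * P = P * (X * U) * G⁻¹ * Uᵀ * J := by rw [hP]; simp only [Matrix.mul_assoc]
      _ = (P * U) * Y * G⁻¹ * Uᵀ * J := by rw [hY]; simp only [Matrix.mul_assoc]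
      _ = (X * U) * G⁻¹ * Uᵀ * J := by rw [hPU, ← hY]
      _ = X * P := by rw [hP]; simp only [Matrix.mul_assoc]
  obtain ⟨m, hm⟩ : ∃ m, ((A⁻¹ : GL (Fin n) F) : Mn) = (A : Mn) ^ m :=
    ⟨orderOf A - 1, by
      haveI : Finite (GL (Fin n) F) := by
        haveI : Finite Mn := inferInstanceAs (Finite (Fin n → Fin n → F))
        exact Finite.of_injective _ Units.val_injective
      rw [← Units.val_pow_eq_pow_val]
      refine congrArg Units.val (inv_eq_of_mul_eq_one_right ?_)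
      rw [← pow_succ', Nat.sub_add_cancel (orderOf_pos A), pow_orderOf_eq_one]⟩
  have hAiU : ∀ m : ℕ, (A : Mn) ^ m * U = U * Z ^ m := fun m => by
    induction m with
    | zero => rw [pow_zero, pow_zero, Matrix.one_mul, Matrix.mul_one]
    | succ m ih => rw [pow_succ, Matrix.mul_assoc, hZ, ← Matrix.mul_assoc, ih, Matrix.mul_assoc, ← pow_succ]
  have hadjP : adj J P = P := by
    rw [adj, Matrix.mul_assoc]
    have : Pᵀ * J = J * P := by rw [← hJP, transpose_mul, hJs]
    rw [this, nonsing_inv_mul_cancel_left _ _ hJd]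
  have hadj_mul : ∀ X Y : Mn, adj J (X * Y) = adj J Y * adj J X := fun X Y => by
    rw [adj, adj, adj, transpose_mul]
    simp only [Matrix.mul_assoc, mul_nonsing_inv_cancel_left _ _ hJd]
  have hPA : Commute P (A : Mn) := by
    have e1 := hfix (A : Mn) ⟨Z, hZ⟩
    have e2 := hfix ((A⁻¹ : GL (Fin n) F) : Mn) ⟨Z ^ m, by rw [hm]; exact hAiU m⟩
    have hAi : adj J ((A⁻¹ : GL (Fin n) F) : Mn) = (A : Mn) := by
      rw [← adj_self h, adj, adj, transpose_mul, transpose_mul, transpose_transpose, transpose_nonsing_inv, hJs]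
      simp only [Matrix.mul_assoc, nonsing_inv_mul _ hJd, Matrix.mul_one]
      rw [← Matrix.mul_assoc, nonsing_inv_mul _ hJd, Matrix.one_mul]
    have e3 := congrArg (adj J) e2
    simp only [hadj_mul, hadjP, hAi] at e3
    rw [← Matrix.mul_assoc] at e3
    exact e3.symm.trans e1
  obtain ⟨J', hJ'⟩ : ∃ J' : Mn, J' = J * (1 + (ν - 1) • P) := ⟨_, rfl⟩
  have hJ'det : J'.det = J.det * ν ^ (k₀ + 1) := by
    rw [hJ', det_mul]
    congr 1
    rw [show (ν - 1) • P = ((ν - 1) • U) * (G⁻¹ * Uᵀ * J) by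
      rw [hP, Matrix.smul_mul]; simp only [Matrix.mul_assoc], det_one_add_mul_comm,
      show (G⁻¹ * Uᵀ * J) * ((ν - 1) • U) = (ν - 1) • (1 : Matrix (Fin (k₀ + 1)) (Fin (k₀ + 1)) F) by
        rw [Matrix.mul_smul, show G⁻¹ * Uᵀ * J * U = G⁻¹ * G by rw [hG]; simp only [Matrix.mul_assoc],
          nonsing_inv_mul _ hGd],
      show (1 : Matrix (Fin (k₀ + 1)) (Fin (k₀ + 1)) F) + (ν - 1) • 1 = ν • 1 by
        rw [sub_smul, one_smul, add_sub_cancel],
      det_smul, det_one, mul_one, Fintype.card_fin]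
  have hfrm : ∀ x y, frm J' x y = frm J x y + (ν - 1) * frm J x (P *ᵥ y) := fun x y => by
    rw [hJ', frm, frm, frm, ← mulVec_mulVec, add_mulVec, one_mulVec, smul_mulVec, mulVec_add, mulVec_smul,
      dotProduct_add, dotProduct_smul, smul_eq_mul]
  refine ⟨J', ⟨?_, ?_, ?_⟩, ?_, ?_, hJ'det⟩
  · rw [one_smul, hJ', Matrix.mul_add, Matrix.mul_one, mul_smul_comm, transpose_add, transpose_smul, hJP, hJs]
  · rw [isUnit_iff_isUnit_det, hJ'det]
    exact hJd.mul ((Ne.isUnit hν).pow _)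
  · rw [hJ']
    have hc : Commute (1 + (ν - 1) • P) (A : Mn) := (Commute.one_left _).add_left (hPA.smul_left _)
    calc (A : Mn)ᵀ * (J * (1 + (ν - 1) • P)) * (A : Mn) = (A : Mn)ᵀ * J * (A : Mn) * (1 + (ν - 1) • P) := by
          simp only [Matrix.mul_assoc, hc.eq]
      _ = _ := by rw [h.inv]
  · intro c k hc hck
    ext i j
    rw [FormLevel.gram, FormLevel.gram, Matrix.of_apply, Matrix.of_apply, hfrm]
    suffices hs : frm J (gen A i.1) (P *ᵥ (Nm A c ^ k *ᵥ gen A j.1)) = 0 by rw [hs, mul_zero, add_zero]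
    have hPN : Commute P (Nm A c) := hPA.sub_right ((Commute.one_right _).smul_right c)
    rw [mulVec_mulVec (gen A j.1) P, (hPN.pow_right k).eq, ← mulVec_mulVec]
    obtain ⟨v, hv⟩ := hUim (gen A j.1)
    have hk1 : Nm A c ^ (k + 1) *ᵥ (U *ᵥ v) = 0 := by
      rw [← hv, mulVec_mulVec, ← (hPN.pow_right _).eq, ← mulVec_mulVec, gen_mem, mulVec_zero]
    rw [hv]
    by_cases hcc : c = c₀
    · subst hcc
      rw [← hN] at hk1 ⊢
      have hne' : k ≠ k₀ := fun e => hck ⟨rfl, e⟩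
      rcases Nat.lt_or_gt_of_ne hne' with hlt | hgt
      · -- the image lies in `N ^ (k + 1)` of the whole space
        have hlow : ∀ l : Fin (k₀ + 1), (l : ℕ) < k₀ - k → v l = 0 := by
          intro l
          induction' hl : (l : ℕ) using Nat.strong_induction_on with t ih generalizing l
          intro hlt'
          by_contra hv0
          have e : N ^ (k₀ - t) *ᵥ (U *ᵥ v) = v l • (N ^ k₀ *ᵥ u) := by
            rw [hUc, mulVec_sum, Fintype.sum_eq_single l fun l' hl' => by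
              rcases Nat.lt_or_ge (l' : ℕ) t with h' | h'
              · rw [ih _ h' l' rfl (by omega), zero_smul, mulVec_zero]
              · rw [mulVec_smul, mulVec_mulVec, ← pow_add, hz _ (by
                  have : (l' : ℕ) ≠ t := fun e => hl' (Fin.ext (e.trans hl.symm))
                  omega), smul_zero],
              mulVec_smul, mulVec_mulVec, ← pow_add, show k₀ - t + (l : ℕ) = k₀ by omega]
          have e2 : N ^ (k₀ - t) *ᵥ (U *ᵥ v) = 0 := by
            rw [show k₀ - t = (k₀ - t - (k + 1)) + (k + 1) by omega, pow_add, ← mulVec_mulVec, hk1, mulVec_zero]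
          have hne0 : N ^ k₀ *ᵥ u ≠ 0 := fun h0 => hb (by rw [hbdef, h0, frm, mulVec_zero, dotProduct_zero])
          exact hv0 ((smul_eq_zero.1 (e.symm.trans e2)).resolve_right hne0)
        rw [hUc, mulVec_sum, frm, mulVec_sum, dotProduct_sum]
        refine sum_eq_zero fun l _ => ?_
        by_cases hl : (l : ℕ) < k₀ - k
        · rw [hlow l hl, zero_smul, mulVec_zero, mulVec_zero, dotProduct_zero]
        · rw [mulVec_smul, mulVec_smul, dotProduct_smul, mulVec_mulVec (v := u) (M := N ^ k), ← pow_add]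
          refine smul_eq_zero_of_right _ ?_
          rw [show k + (l : ℕ) = (k + 1) + (k + (l : ℕ) - (k + 1)) by omega, pow_add, ← mulVec_mulVec, hN]
          exact frm_kill h hc (gen_mem i) _
      · rw [hkill k v hgt, frm, mulVec_zero, dotProduct_zero]
    · have hcne : c₀ - c ≠ 0 := sub_ne_zero.2 (Ne.symm hcc)
      have hsplit : Nm A c = (c₀ - c) • (1 : Mn) + Nm A c₀ := by
        simp only [Nm, sub_smul]; abel
      have hu2 : IsUnit ((c₀ - c) • (1 : Mn)) := by
        rw [← Algebra.algebraMap_eq_smul_one]; exact (Ne.isUnit hcne).map _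
      have hU0 : U *ᵥ v = 0 := by
        -- `Nm A c` is invertible modulo `N`
        have : ∀ s, N ^ (k₀ + 1 - s) *ᵥ (U *ᵥ v) = 0 := by
          intro s
          induction s with
          | zero => exact hkill _ v (by omega)
          | succ s ih =>
            rcases Nat.eq_zero_or_pos (k₀ + 1 - s) with h0 | hpos
            · rwa [show k₀ + 1 - (s + 1) = k₀ + 1 - s by omega]
            set w := N ^ (k₀ + 1 - (s + 1)) *ᵥ (U *ᵥ v) with hw
            have hNw : N *ᵥ w = 0 := by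
              rw [hw, mulVec_mulVec, ← pow_succ', show k₀ + 1 - (s + 1) + 1 = k₀ + 1 - s by omega, ih]
            have hNc : ∀ r, Nm A c ^ r *ᵥ w = (c₀ - c) ^ r • w := fun r => by
              induction r with
              | zero => rw [pow_zero, pow_zero, one_mulVec, one_smul]
              | succ r ihr =>
                rw [pow_succ', ← mulVec_mulVec, ihr, mulVec_smul, hsplit, add_mulVec, ← hN, hNw, add_zero,
                  smul_mulVec, one_mulVec, smul_smul, ← pow_succ]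
            have hw0 : Nm A c ^ (k + 1) *ᵥ w = 0 := by
              have hcm : Commute (Nm A c) N := by
                rw [hsplit, hN]
                exact ((Commute.one_left _).smul_left _).add_left (Commute.refl _)
              rw [hw, mulVec_mulVec, (hcm.pow_pow _ _).eq, ← mulVec_mulVec, hk1, mulVec_zero]
            exact (smul_eq_zero.1 ((hNc _).symm.trans hw0)).resolve_left (pow_ne_zero _ hcne)
        have h0 := this (k₀ + 1)
        rwa [Nat.sub_self, pow_zero, one_mulVec] at h0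
      rw [hU0, mulVec_zero, frm, mulVec_zero, dotProduct_zero]
  · have hPN : Commute P N := hN ▸ hPA.sub_right ((Commute.one_right _).smul_right c₀)
    obtain ⟨w, hw⟩ : ∃ w, w = M *ᵥ d := ⟨_, rfl⟩
    have hgu : ∀ i : Lvl A c₀ k₀, frm J u (N ^ k₀ *ᵥ gen A i.1) = w i ∧
        frm J (gen A i.1) (N ^ k₀ *ᵥ u) = w i := by
      intro i
      have e2 : frm J (gen A i.1) (N ^ k₀ *ᵥ u) = w i := by
        rw [hN, hu, mulVec_sum]
        simp only [mulVec_smul, frm_sum_right, hw, hM, mulVec, dotProduct, FormLevel.gram, Matrix.of_apply]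
        exact sum_congr rfl fun l _ => mul_comm _ _
      refine ⟨?_, e2⟩
      rw [hN, frm_layer_comm h hc₀ (gen_mem i), one_mul, hk.neg_one_pow, one_mul, ← hN, e2]
    have hgram : FormLevel.gram A J' c₀ k₀ = M + Matrix.replicateCol Unit (((ν - 1) / b) • w) *
        Matrix.replicateRow Unit w := by
      ext i j
      rw [FormLevel.gram, Matrix.of_apply, hfrm, Matrix.add_apply, hM, FormLevel.gram, Matrix.of_apply]
      congr 1
      obtain ⟨v, hv⟩ := hUim (gen A j.1)
      have e0 : P *ᵥ (N ^ k₀ *ᵥ gen A j.1) = v 0 • (N ^ k₀ *ᵥ u) := by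
        rw [mulVec_mulVec, (hPN.pow_right k₀).eq, ← mulVec_mulVec, hv, hTu]
      have hPu : P *ᵥ u = u := by
        have : U *ᵥ Pi.single 0 1 = u := by
          rw [hUc, Fintype.sum_eq_single 0 fun l hl => by rw [Pi.single_eq_of_ne hl, zero_smul],
            Pi.single_eq_same, one_smul, Fin.val_zero, pow_zero, one_mulVec]
        rw [← this, mulVec_mulVec, hPU]
      have e1 : v 0 * b = w j := by
        rw [← (hgu j).1, hbdef]
        have := frm_mulVec J P u (N ^ k₀ *ᵥ gen A j.1) h.unit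
        rw [hPu, hadjP, e0] at this
        rw [this, frm, frm, mulVec_smul, dotProduct_smul, smul_eq_mul]
      rw [← hN, e0, frm, mulVec_smul, dotProduct_smul, smul_eq_mul, ← frm, (hgu i).2, Matrix.mul_apply]
      simp only [Finset.univ_unique, sum_singleton, replicateCol_apply, replicateRow_apply, Pi.smul_apply,
        smul_eq_mul]
      rw [← e1]
      field_simp
    rw [hgram, Matrix.det_add_replicateCol_mul_replicateRow ((isUnit_iff_isUnit_det _).1 (isUnit_gram h (one_mul 1) hc₀))]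
    have hval : replicateRow Unit w * M⁻¹ * replicateCol Unit (((ν - 1) / b) • w) =
        Matrix.of fun _ _ => ((ν - 1) / b) * (d ⬝ᵥ w) := by
      ext p r
      have hMd : M⁻¹ *ᵥ w = d := by
        rw [hw, mulVec_mulVec, nonsing_inv_mul _ ((isUnit_iff_isUnit_det _).1 (isUnit_gram h (one_mul 1) hc₀)), one_mulVec]
      rw [Matrix.mul_assoc, Matrix.of_apply]
      show w ⬝ᵥ (M⁻¹ *ᵥ (((ν - 1) / b) • w)) = _
      rw [mulVec_smul, hMd, dotProduct_smul, smul_eq_mul, dotProduct_comm]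
    have hbd : d ⬝ᵥ w = b := by
      rw [hw, hM, hbdef, hN, layer_eq h hc₀ (hN ▸ hu0) (hN ▸ huc) (hN ▸ huc)]
    rw [hval, hbd, div_mul_cancel₀ _ hb, Matrix.det_unique (n := Unit), Matrix.add_apply, Matrix.one_apply_eq, Matrix.of_apply]
    ring

end CfsgLib.ClassK.IsoData
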