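import Mathlib
import Cfsg.Agent.Lib.KnownA.RecipOrder.Bound

/-!
Numerical lemmas for the largest element order of `PGU_d(q)`.
-/

set_option autoImplicit false

namespace CfsgLib.ClassK.PGUOrder

open CfsgLib.KnownA.RecipOrder (ppow ppow_le_one ppow_le_mul ppow_le_pred le_ppow)

/-- Admissible projective weight `l` of a squarefree part of degree `K`. -/
def Good (q K l : ℕ) : Prop :=
  (K = 1 ∧ l = 1) ∨ (2 ≤ K ∧ (l ≤ q ^ (K - 1) - 1 ∨ (Even K ∧ l ≤ q ^ (K - 1) + 1)))

theorem Good.le_succ {q K l : ℕ} (hq : 2 ≤ q) (h : Good q K l) : l ≤ q ^ K + 1 := by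
  have h1 : q ^ (K - 1) ≤ q ^ K := Nat.pow_le_pow_right (by omega) (Nat.sub_le _ _)
  rcases h with ⟨-, rfl⟩ | ⟨-, h | ⟨-, h⟩⟩ <;> omega

theorem single_good {q k w l : ℕ} (hq : 2 ≤ q) (hk : 1 ≤ k) (hw : w = (q + 1) * l)
    (hodd : Odd k → w = q ^ k + 1) (heven : Even k → w + 1 = q ^ k) : Good q k l := by
  rcases Nat.lt_or_ge k 2 with hk2 | hk2
  · obtain rfl : k = 1 := by omega
    have h1 := hodd odd_one
    rw [pow_one, hw] at h1
    exact Or.inl ⟨rfl, Nat.eq_of_mul_eq_mul_left (by omega : 0 < q + 1) (by rw [h1, mul_one])⟩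
  refine Or.inr ⟨hk2, Or.inl ?_⟩
  obtain ⟨j, rfl⟩ : ∃ j, k = j + 2 := ⟨k - 2, by omega⟩
  have hjs : j + 2 - 1 = j + 1 := rfl
  rw [hjs]
  have h1 : q ≤ q ^ (j + 1) := Nat.le_self_pow (by omega) q
  have hexp : q ^ (j + 2) = q * q ^ (j + 1) := by rw [pow_succ']
  rcases Nat.even_or_odd (j + 2) with he | ho
  · have h2 := heven he
    rw [hw, hexp] at h2
    by_contra hcon
    have h3 : q ^ (j + 1) ≤ l := by omega
    have := Nat.mul_le_mul_left (q + 1) h3
    nlinarith
  · obtain ⟨i, rfl⟩ : ∃ i, j = i + 1 := ⟨j - 1, by obtain ⟨t, ht⟩ := ho; omega⟩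
    have h2 := hodd ho
    rw [hw, hexp] at h2
    have h4 : q * q ≤ q ^ (i + 1 + 1) := by rw [← sq]; exact Nat.pow_le_pow_right (by omega) (by omega)
    by_contra hcon
    have h3 : q ^ (i + 1 + 1) ≤ l := by omega
    have := Nat.mul_le_mul_left (q + 1) h3
    nlinarith

theorem merge_key {q x y : ℕ} (hq : 2 ≤ q) (hx : q * q ≤ x) (hy : q * q ≤ y)
    (h2 : q = 2 → 8 ≤ x ∧ 8 ≤ y) : q * (x + y + q + 2) ≤ x * y := by
  rcases Nat.lt_or_ge q 3 with h | h
  · obtain rfl : q = 2 := by omega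
    obtain ⟨hx8, hy8⟩ := h2 rfl
    nlinarith [Nat.mul_le_mul hx8 hy8]
  · nlinarith [Nat.mul_le_mul hx hy, Nat.mul_le_mul h hx, Nat.mul_le_mul h hy, Nat.mul_le_mul h h]

/-- Adding a coprime piece. -/
theorem merge_good {q a b w l L : ℕ} (hq : 2 ≤ q) (ha : 1 ≤ a) (hb : 1 ≤ b) (hw : w = (q + 1) * l)
    (hodd : Odd a → w = q ^ a + 1) (heven : Even a → w + 1 = q ^ a) (hL : L ≤ q ^ b + 1)
    (hLd : q + 1 ∣ L) (hL1 : 1 ≤ L) (h1 : b = 1 → L = q + 1)
    (hS : 2 ≤ b → (Even b → L + 1 ≤ q ^ b) ∨ Good q b L) :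
    Good q (a + b) (L * l) := by
  refine Or.inr ⟨by omega, ?_⟩
  have hw' : w ≤ q ^ a + 1 := by
    rcases Nat.even_or_odd a with h | h
    · have := heven h; omega
    · exact (hodd h).le
  rcases Nat.lt_or_ge b 2 with hb2 | hb2
  · -- the old part has degree one
    obtain rfl : b = 1 := by omega
    rw [h1 rfl, ← hw, show a + 1 - 1 = a from rfl]
    rcases Nat.even_or_odd a with h | h
    · left; have := heven h; omega
    · exact Or.inr ⟨h.add_one, hw'⟩
  rcases Nat.lt_or_ge a 2 with ha2 | ha2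
  · -- the new piece has degree one
    obtain rfl : a = 1 := by omega
    have hl : l = 1 := by
      have := hodd odd_one
      rw [pow_one, hw] at this
      exact Nat.eq_of_mul_eq_mul_left (by omega : 0 < q + 1) (by rw [this, mul_one])
    rw [hl, mul_one, show 1 + b - 1 = b by omega]
    rcases Nat.even_or_odd b with he | ho
    · left
      rcases hS hb2 with h | h
      · have := h he; omega
      · rcases h with ⟨h, -⟩ | ⟨-, h | ⟨-, h⟩⟩
        · omega
        · have : q ^ (b - 1) ≤ q ^ b := Nat.pow_le_pow_right (by omega) (Nat.sub_le _ _)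
          omega
        · obtain ⟨c, rfl⟩ : ∃ c, b = c + 2 := ⟨b - 2, by omega⟩
          have h3 : 2 ≤ q ^ (c + 2 - 1) :=
            hq.trans (Nat.le_self_pow (by omega) q)
          have h4 : q ^ (c + 2) = q * q ^ (c + 2 - 1) := by rw [← pow_succ']; rfl
          have h5 := Nat.mul_le_mul_right (q ^ (c + 2 - 1)) hq
          omega
    · exact Or.inr ⟨by rw [add_comm]; exact ho.add_one, hL⟩
  left
  obtain ⟨a, rfl⟩ : ∃ c, a = c + 2 := ⟨a - 2, by omega⟩
  obtain ⟨b, rfl⟩ : ∃ c, b = c + 2 := ⟨b - 2, by omega⟩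
  have hP : q ^ (a + 2 + (b + 2)) = q * q ^ (a + 2 + (b + 2) - 1) := by rw [← pow_succ']; rfl
  set P := q ^ (a + 2 + (b + 2) - 1) with hPdef
  by_cases hsmall : q = 2 ∧ (a = 0 ∨ b = 0)
  · obtain ⟨rfl, hab⟩ := hsmall
    rcases hab with rfl | rfl
    · have h3 := heven (by decide)
      have hl : l = 1 := by omega
      rw [hl, mul_one]
      have : 2 * (2 : ℕ) ^ (b + 2) ≤ P := by
        rw [← pow_succ', hPdef]; exact Nat.pow_le_pow_right (by omega) (by omega)
      have : 4 ≤ (2 : ℕ) ^ (b + 2) := by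
        calc 4 = 2 ^ 2 := rfl
          _ ≤ _ := Nat.pow_le_pow_right (by omega) (by omega)
      omega
    · obtain ⟨t, ht⟩ := hLd
      have hL3 : L = 3 := by
        norm_num at hL
        omega
      rw [hL3, ← show w = 3 * l from hw]
      have : 2 * (2 : ℕ) ^ (a + 2) ≤ P := by
        rw [← pow_succ', hPdef]; exact Nat.pow_le_pow_right (by omega) (by omega)
      have : 4 ≤ (2 : ℕ) ^ (a + 2) := by
        calc 4 = 2 ^ 2 := rfl
          _ ≤ _ := Nat.pow_le_pow_right (by omega) (by omega)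
      omega
  have hq2 : ∀ c, q * q ≤ q ^ (c + 2) := fun c => by
    rw [← sq]; exact Nat.pow_le_pow_right (by omega) (by omega)
  have h8 : q = 2 → 8 ≤ q ^ (a + 2) ∧ 8 ≤ q ^ (b + 2) := by
    rintro rfl
    have h' : ∀ c, c ≠ 0 → 8 ≤ (2 : ℕ) ^ (c + 2) := fun c hc =>
      le_trans (by norm_num) (Nat.pow_le_pow_right (show 2 > 0 by omega) (show 3 ≤ c + 2 by omega))
    exact ⟨h' a fun h => hsmall ⟨rfl, Or.inl h⟩, h' b fun h => hsmall ⟨rfl, Or.inr h⟩⟩
  have key := merge_key hq (hq2 a) (hq2 b) h8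
  rw [← pow_add, hP] at key
  have key' := Nat.le_of_mul_le_mul_left key (by omega)
  have hmul : (q + 1) * (L * l) ≤ (q ^ (b + 2) + 1) * (q ^ (a + 2) + 1) := by
    rw [show (q + 1) * (L * l) = L * w by rw [hw]; ring]
    exact Nat.mul_le_mul hL hw'
  have hexp : (q ^ (b + 2) + 1) * (q ^ (a + 2) + 1) =
      q * P + q ^ (b + 2) + q ^ (a + 2) + 1 := by
    rw [← hP, pow_add q (a + 2) (b + 2)]; ring
  by_contra hcon
  have h3 : P ≤ L * l := by omega
  have := Nat.mul_le_mul_left (q + 1) h3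
  nlinarith

/-- The final estimate. -/
theorem final_bound {p f q d K M l B : ℕ} (hp : p.Prime) (hf : 1 ≤ f) (hq : q = p ^ f)
    (hd : 3 ≤ d) (hM : 1 ≤ M) (hK : K + (M - 1) ≤ d) (hG : Good q K l)
    (hB1 : Odd d → 2 ≤ f → q ^ (d - 1) - 1 ≤ B) (hB2 : Odd d → f = 1 → (p ^ (d - 2) + 1) * p ≤ B)
    (hB3 : Even d → 2 < q → q ^ (d - 1) + 1 ≤ B)
    (hB4 : Even d → q = 2 → 4 * (2 ^ (d - 3) + 1) ≤ B) :
    l * ppow p M ≤ B := by
  have hp2 := hp.two_le
  have hpq : p ≤ q := hq ▸ Nat.le_self_pow (by omega) p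
  have hq2 : 2 ≤ q := hp2.trans hpq
  have hBlow : q ^ (d - 1) - 1 ≤ B ∧ (Even d → q ^ (d - 1) + 1 ≤ B) := by
    rcases Nat.even_or_odd d with he | ho
    · have hB : q ^ (d - 1) + 1 ≤ B := by
        rcases Nat.lt_or_ge 2 q with h | h
        · exact hB3 he h
        · obtain rfl : q = 2 := by omega
          have := hB4 he rfl
          have h4 : 2 ^ (d - 1) = 4 * 2 ^ (d - 3) := by
            rw [show d - 1 = 2 + (d - 3) by omega, pow_add]; rfl
          omega
      exact ⟨by omega, fun _ => hB⟩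
    · refine ⟨?_, fun he => absurd he (Nat.not_even_iff_odd.2 ho)⟩
      rcases Nat.lt_or_ge f 2 with h | h
      · obtain rfl : f = 1 := by omega
        rw [pow_one] at hq
        have := hB2 ho rfl
        have h4 : p ^ (d - 1) = p ^ (d - 2) * p := by
          rw [← pow_succ, show d - 2 + 1 = d - 1 by omega]
        rw [hq, h4]
        rw [add_mul] at this
        omega
      · exact hB1 ho h
  have hppM := ppow_le_pred (M := M) hp2 hpq
  rcases hG with ⟨rfl, rfl⟩ | ⟨hK2, hl⟩
  · -- one root class of degree one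
    rw [one_mul]
    rcases Nat.lt_or_ge M 2 with hM2 | hM2
    · rw [ppow_le_one (by omega)]
      have : 1 ≤ q ^ (d - 1) - 1 := by
        have : 2 ^ 2 ≤ q ^ (d - 1) :=
          (Nat.pow_le_pow_left hq2 2).trans (Nat.pow_le_pow_right (by omega) (by omega))
        omega
      omega
    have h1 := ppow_le_mul (N := M) hp2 hM2
    have h2 : p * (M - 1) ≤ q ^ (d - 1) - 1 ∨ (p = 2 ∧ q = 2 ∧ d = 3) := by
      by_cases hex : p = 2 ∧ q = 2 ∧ d = 3
      · exact Or.inr hex
      left
      refine le_trans (Nat.mul_le_mul le_rfl (show M - 1 ≤ d - 1 by omega)) ?_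
      rcases Nat.lt_or_ge d 4 with hd4 | hd4
      · obtain rfl : d = 3 := by omega
        show p * 2 ≤ q ^ 2 - 1
        have : 3 ≤ q := by
          by_contra h
          exact hex ⟨by omega, by omega, rfl⟩
        have := Nat.mul_le_mul this this
        have := Nat.mul_le_mul_left q (show 3 ≤ q by omega)
        rw [sq]; omega
      · obtain ⟨c, rfl⟩ : ∃ c, d = c + 4 := ⟨d - 4, by omega⟩
        show p * (c + 3) ≤ q ^ (c + 3) - 1
        have h3 : ∀ c : ℕ, c + 4 ≤ 2 ^ (c + 2) := fun c => by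
          induction c with
          | zero => norm_num
          | succ c ih =>
            rw [show c + 1 + 2 = c + 2 + 1 by ring, pow_succ]
            omega
        have h4 : p * (c + 4) ≤ q ^ (c + 3) := by
          rw [show c + 3 = c + 2 + 1 by ring, pow_succ']
          exact Nat.mul_le_mul hpq ((h3 c).trans (Nat.pow_le_pow_left hq2 _))
        rw [mul_add] at h4 ⊢
        omega
    rcases h2 with h2 | ⟨rfl, rfl, rfl⟩
    · omega
    · have hf1 : f = 1 := (Nat.pow_right_injective (le_refl 2) (hq.symm.trans (pow_one 2).symm))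
      have := hB2 (by decide) hf1
      have : M ≤ 3 := by omega
      have h5 : 2 * (M - 1) ≤ 4 := by omega
      norm_num at *
      omega
  rcases Nat.lt_or_ge M 2 with hM2 | hM2
  · rw [ppow_le_one (by omega), mul_one]
    have hmono : q ^ (K - 1) ≤ q ^ (d - 1) := Nat.pow_le_pow_right (by omega) (by omega)
    rcases hl with hl | ⟨he, hl⟩
    · omega
    · rcases Nat.lt_or_ge K d with hKd | hKd
      · have h2 : 2 * q ^ (K - 1) ≤ q ^ (d - 1) :=
          (Nat.mul_le_mul_right _ hq2).trans (by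
            rw [← pow_succ']; exact Nat.pow_le_pow_right (by omega) (by omega))
        have : 2 ≤ q ^ (K - 1) := hq2.trans (Nat.le_self_pow (by omega) q)
        omega
      · obtain rfl : K = d := by omega
        have := hBlow.2 he
        omega
  have hl' : l ≤ q ^ (K - 1) + 1 := by omega
  obtain ⟨N, rfl⟩ : ∃ N, M = N + 2 := ⟨M - 2, by omega⟩
  obtain ⟨J, rfl⟩ : ∃ J, K = J + 2 := ⟨K - 2, by omega⟩
  have hJ : J + 2 - 1 = J + 1 := rfl
  rw [hJ] at hl hl'
  have hQ : q ^ (J + 1) * q ^ N * q ≤ q ^ (d - 1) := by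
    rw [← pow_add, ← pow_succ]; exact Nat.pow_le_pow_right (by omega) (by omega)
  have hqJ : q ≤ q ^ (J + 1) := Nat.le_self_pow (by omega) q
  have hqN : 1 ≤ q ^ N := Nat.one_le_pow _ _ (by omega)
  -- a crude bound gaining a factor `p`
  have crude : p * ppow p (N + 2) ≤ q ^ (N + 2 - 1) → l * ppow p (N + 2) ≤ B := by
    intro hc
    rw [show N + 2 - 1 = N + 1 from rfl, pow_succ] at hc
    have h2 : p * (l * ppow p (N + 2)) ≤ (q ^ (J + 1) + 1) * (q ^ N * q) := by
      rw [← mul_assoc, mul_comm p l, mul_assoc]; exact Nat.mul_le_mul hl' hc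
    have h3 : (q ^ (J + 1) + 1) * (q ^ N * q) ≤ q ^ (d - 1) + q ^ N * q := by
      rw [add_mul, one_mul, ← mul_assoc]; omega
    have h4 : q * (q ^ N * q) ≤ q ^ (d - 1) := by
      refine le_trans ?_ hQ
      rw [mul_assoc]; exact Nat.mul_le_mul hqJ le_rfl
    have h5 : 2 * (q ^ N * q) ≤ q ^ (d - 1) := (Nat.mul_le_mul_right _ hq2).trans h4
    have h6 : 2 * (l * ppow p (N + 2)) ≤ p * (l * ppow p (N + 2)) := Nat.mul_le_mul_right _ hp2
    have : 4 ≤ q ^ (d - 1) :=
      le_trans (Nat.pow_le_pow_left hq2 2) (Nat.pow_le_pow_right (by omega) (by omega))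
    omega
  rcases Nat.lt_or_ge f 2 with hf2 | hf2
  swap
  · refine crude ?_
    obtain ⟨f', rfl⟩ : ∃ f', f = f' + 2 := ⟨f - 2, by omega⟩
    have hpp : p * p ≤ q := by
      rw [hq, ← sq]; exact Nat.pow_le_pow_right (by omega) (by omega)
    calc p * ppow p (N + 2) ≤ p * (p * (N + 2 - 1)) := Nat.mul_le_mul le_rfl (ppow_le_mul hp2 (by omega))
      _ = p * p * (N + 1) := by rw [← mul_assoc]; rfl
      _ ≤ q * q ^ N := Nat.mul_le_mul hpp
          ((CfsgLib.KnownA.RecipOrder.succ_le_two_pow N).trans (Nat.pow_le_pow_left hq2 _))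
      _ = q ^ (N + 2 - 1) := by rw [← pow_succ']; rfl
  obtain rfl : f = 1 := by omega
  rw [pow_one] at hq
  subst hq
  by_cases hN : N = 0
  · subst hN
    have hpp : ppow q (0 + 2) ≤ q := by
      have := ppow_le_mul (p := q) (N := 2) hp2 le_rfl
      simpa using this
    refine le_trans (Nat.mul_le_mul le_rfl hpp) ?_
    rcases hl with hl | ⟨he, hl⟩
    · refine le_trans ?_ hBlow.1
      calc l * q ≤ (q ^ (J + 1) - 1) * q := Nat.mul_le_mul_right q hl
        _ ≤ q ^ (d - 1) - 1 := by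
            rw [Nat.sub_mul, one_mul]
            simp only [pow_zero, mul_one] at hQ
            omega
    · rcases Nat.lt_or_ge (J + 3) d with hJd | hJd
      · refine le_trans ?_ hBlow.1
        have h2 : q ^ (J + 1) * q * q ≤ q ^ (d - 1) := by
          rw [← pow_succ, ← pow_succ]; exact Nat.pow_le_pow_right (by omega) (by omega)
        have h3 : l * q ≤ q ^ (J + 1) * q + q := by
          have := Nat.mul_le_mul_right q hl
          rwa [add_mul, one_mul] at this
        have h4 : 2 * (q ^ (J + 1) * q) ≤ q ^ (J + 1) * q * q := by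
          rw [mul_comm 2]; exact Nat.mul_le_mul le_rfl hq2
        have h5 : 2 * q ≤ q ^ (J + 1) * q := Nat.mul_le_mul_right q (hq2.trans hqJ)
        omega
      · obtain rfl : d = J + 3 := by omega
        have ho : Odd (J + 3) := by
          obtain ⟨c, hc⟩ := he; exact ⟨c, by omega⟩
        refine le_trans ?_ (hB2 ho rfl)
        exact Nat.mul_le_mul_right q hl
  by_cases h22 : q = 2 ∧ N = 1
  · obtain ⟨rfl, rfl⟩ := h22
    have hpp : ppow 2 (1 + 2) ≤ 4 := by
      have := ppow_le_mul (p := 2) (N := 3) le_rfl (by omega)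
      simpa using this
    refine le_trans (Nat.mul_le_mul le_rfl hpp) ?_
    rcases hl with hl | ⟨he, hl⟩
    · refine le_trans ?_ hBlow.1
      simp only [pow_one] at hQ
      omega
    · rcases Nat.lt_or_ge (J + 4) d with hJd | hJd
      · refine le_trans ?_ hBlow.1
        have h2 : 2 ^ (J + 1) * 8 ≤ 2 ^ (d - 1) := by
          rw [show (8 : ℕ) = 2 ^ 3 from rfl, ← pow_add]
          exact Nat.pow_le_pow_right (by omega) (by omega)
        omega
      · obtain rfl : d = J + 4 := by omega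
        have hev : Even (J + 4) := by
          obtain ⟨c, hc⟩ := he; exact ⟨c + 1, by omega⟩
        refine le_trans ?_ (hB4 hev rfl)
        show l * 4 ≤ 4 * (2 ^ (J + 1) + 1)
        omega
  refine crude ?_
  rw [ppow, ← pow_succ']
  refine Nat.pow_le_pow_right (by omega) ?_
  have hcl : Nat.clog q (N + 2) ≤ N := Nat.clog_le_of_le_pow (by
    rcases Nat.lt_or_ge q 3 with h | h
    · obtain rfl : q = 2 := by omega
      obtain ⟨c, rfl⟩ : ∃ c, N = c + 2 := ⟨N - 2, by omega⟩
      have := CfsgLib.KnownA.RecipOrder.succ_le_two_pow c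
      rw [pow_add]; omega
    · obtain ⟨c, rfl⟩ : ∃ c, N = c + 1 := ⟨N - 1, by omega⟩
      have := (CfsgLib.KnownA.RecipOrder.succ_le_two_pow c).trans
        (Nat.pow_le_pow_left (show 2 ≤ q by omega) c)
      have := Nat.mul_le_mul_left q this
      rw [pow_succ']
      have := Nat.mul_le_mul_right (c + 1) h
      omega)
  omega

end CfsgLib.ClassK.PGUOrder
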