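import Cfsg.Prelude.Def_Classical
import Cfsg.Agent.Lib.ClassK.PGUOrderArith
import Cfsg.Agent.Lib.KnownA.RecipOrder.Herm
import Cfsg.Agent.Lib.KnownC.UnitarySpectrum

/-!
Every element of `PGU_d(q)` has small order.
-/

set_option autoImplicit false

namespace CfsgLib.ClassK.PGUOrder

open Polynomial CfsgLib.Classical CfsgLib.Classical.SemiPalin CfsgLib.KnownA.RecipOrder
open CfsgLib.KnownC.UnitarySpectrum (tilde_binomial)

variable {F : Type*} [Field F] [Fintype F] {q : ℕ} (hF : Fintype.card F = q ^ 2)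

omit [Field F] in
include hF in
theorem two_le_q [Nontrivial F] : 2 ≤ q := by
  by_contra h
  have := Fintype.one_lt_card (α := F)
  rw [hF] at this
  interval_cases q <;> norm_num at this

include hF in
theorem exists_root_unity : ∃ ζ : F, IsPrimitiveRoot ζ (q + 1) := by
  obtain ⟨g, hg⟩ := IsCyclic.exists_ofOrder_eq_natCard (α := Fˣ)
  rw [Nat.card_units, Nat.card_eq_fintype_card, hF] at hg
  have hd : q + 1 ∣ orderOf g := ⟨q - 1, by rw [hg, ← Nat.sq_sub_sq q 1, one_pow]⟩
  have ho := orderOf_pow_orderOf_div (orderOf_pos g).ne' hd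
  exact ⟨((g ^ (orderOf g / (q + 1)) : Fˣ) : F),
    ((ho ▸ IsPrimitiveRoot.orderOf (g ^ (orderOf g / (q + 1)))).map_of_injective
      (f := Units.coeHom F) Units.val_injective)⟩

include hF in
/-- An irreducible factor of `X ^ ((q+1) l) - 1` divides some `X ^ l - c` with `c` of norm one. -/
theorem exists_scalar {P : F[X]} (hP : Irreducible P) {l : ℕ} (h : P ∣ X ^ ((q + 1) * l) - 1) :
    ∃ c : F, c * qFrob hF c = 1 ∧ P ∣ X ^ l - C c := by
  have := Fact.mk hP
  obtain ⟨ζ, hζ⟩ := exists_root_unity hF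
  have h0 : (AdjoinRoot.root P ^ l) ^ (q + 1) = 1 := by
    obtain ⟨t, ht⟩ := h
    have h1 := congrArg (AdjoinRoot.mk P) ht
    rw [map_mul, AdjoinRoot.mk_self, zero_mul, map_sub, map_pow, AdjoinRoot.mk_X, map_one, sub_eq_zero]
      at h1
    rw [← pow_mul, mul_comm, h1]
  obtain ⟨i, -, hi⟩ :=
    (hζ.map_of_injective (f := algebraMap F (AdjoinRoot P)) (algebraMap F _).injective).eq_pow_of_pow_eq_one h0
  refine ⟨ζ ^ i, ?_, CfsgLib.KnownC.SympSpectrum.dvd_of_root_pow (by rw [← hi, map_pow])⟩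
  rw [qFrob_apply, ← pow_succ', ← pow_mul, mul_comm, pow_mul, hζ.pow_eq_one, one_pow]

/-- The induction invariant: a squarefree part `R` of `f` and its weights. -/
structure Data (f R : F[X]) (M L l : ℕ) : Prop where
  monic : R.Monic
  inv : tilde (qFrob hF) R = R
  pos : 1 ≤ R.natDegree
  dvd : f ∣ R ^ M
  deg : R.natDegree + (M - 1) ≤ f.natDegree
  hM : 1 ≤ M
  expo : R ∣ X ^ L - 1
  small : L ≤ q ^ R.natDegree + 1
  base : q + 1 ∣ L
  lpos : 1 ≤ L
  one : R.natDegree = 1 → L = q + 1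
  strong : 2 ≤ R.natDegree → (Even R.natDegree → L + 1 ≤ q ^ R.natDegree) ∨ Good q R.natDegree L
  proj : ∃ c : F, R ∣ X ^ l - C c
  ppos : 1 ≤ l
  good : Good q R.natDegree l

variable {p r : ℕ} [hp : Fact p.Prime] [CharP F p]

theorem exists_data (hr : q = p ^ r) (f : F[X]) (hf : f.Monic) (h0 : f.coeff 0 ≠ 0)
    (ht : tilde (qFrob hF) f = f) (hd : 1 ≤ f.natDegree) : ∃ R M L l, Data hF f R M L l := by
  have hq2 : 2 ≤ q := two_le_q hF
  set σ := qFrob hF with hσdef
  have hσ : ∀ x, σ x = x ^ q := qFrob_apply hF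
  have hσσ : ∀ x, σ (σ x) = x := qFrob_qFrob hF
  induction hn : f.natDegree using Nat.strong_induction_on generalizing f with
  | _ n ih =>
    obtain ⟨a, b, ham, hbm, rfl, had, hat, hbt, hcase⟩ := exists_piece σ hσσ hf h0 ht (by omega)
    rw [mul_coeff_zero, mul_ne_zero_iff] at h0
    set k := a.natDegree with hk
    obtain ⟨w, l, hwl, hl1, hodd, heven, haw, ⟨c, hac⟩, hdich⟩ : ∃ w l, w = (q + 1) * l ∧ 1 ≤ l ∧
        (Odd k → w = q ^ k + 1) ∧ (Even k → w + 1 = q ^ k) ∧ a ∣ X ^ w - 1 ∧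
        (∃ c : F, a ∣ X ^ l - C c) ∧ ∀ R : F[X], tilde σ R = R → a ∣ R ∨ IsCoprime a R := by
      rcases hcase with hirr | ⟨P, hP, hPm, hP0, hne, hPa⟩
      · obtain ⟨ho, hdv⟩ := herm_case hr hF σ hσ hirr h0.1 hat
        obtain ⟨l, hl⟩ : q + 1 ∣ q ^ k + 1 := by
          have := ho.nat_add_dvd_pow_add_pow q 1
          rwa [one_pow] at this
        refine ⟨q ^ k + 1, l, hl, ?_, fun _ => rfl,
          fun he => absurd he (Nat.not_even_iff_odd.2 ho), hdv, ?_, fun R _ => ?_⟩
        · rcases Nat.eq_zero_or_pos l with rfl | h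
          · rw [mul_zero] at hl; omega
          · exact h
        · obtain ⟨c, -, hc⟩ := exists_scalar hF hirr (l := l) (by rw [← hl]; exact hdv)
          exact ⟨c, hc⟩
        · exact (em _).imp id fun h => hirr.coprime_iff_not_dvd.2 h
      · obtain ⟨hQm, hQd, hQc⟩ := tilde_facts σ hPm hP0
        have hQ := tilde_irreducible σ hσσ hPm hP0 hP
        have hcop : IsCoprime P (tilde σ P) := hP.coprime_iff_not_dvd.2 fun h =>
          hne (eq_of_monic_of_associated hPm hQm (hP.associated_of_dvd hQ h)).symm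
        have hdeg : k = 2 * P.natDegree := by
          rw [hk, hPa, hPm.natDegree_mul hQm, hQd]; ring
        have h1 := dvd_pow_sub_one hP hP0
        have h2 := dvd_pow_sub_one hQ (by rw [hQc]; exact inv_ne_zero ((map_ne_zero σ).2 hP0))
        rw [hQd] at h2
        set w := Fintype.card F ^ P.natDegree - 1 with hw
        have hw1 : w + 1 = q ^ k := by
          rw [hdeg, pow_mul, ← hF, hw]
          exact Nat.sub_add_cancel (Nat.one_le_pow _ _ Fintype.card_pos)
        obtain ⟨l, hl⟩ : q + 1 ∣ w := by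
          have hb : q + 1 ∣ q ^ 2 - 1 := ⟨q - 1, by rw [← Nat.sq_sub_sq q 1, one_pow]⟩
          rw [hw, hF]
          refine hb.trans ?_
          simpa using Nat.sub_dvd_pow_sub_pow (q ^ 2) 1 P.natDegree
        have hl1 : 1 ≤ l := by
          rcases Nat.eq_zero_or_pos l with rfl | h
          · exfalso
            rw [mul_zero] at hl
            have : 2 ≤ q ^ k := hq2.trans (Nat.le_self_pow (by omega) q)
            omega
          · exact h
        refine ⟨w, l, hl, hl1, fun ho => absurd (show Even k from ⟨P.natDegree, by omega⟩)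
          (Nat.not_even_iff_odd.2 ho), fun _ => hw1, hPa ▸ hcop.mul_dvd h1 h2, ?_, fun R hR => ?_⟩
        · obtain ⟨c, hc, T, hT⟩ := exists_scalar hF hP (l := l) (by rw [← hl]; exact h1)
          refine ⟨c, hPa ▸ hcop.mul_dvd ⟨T, hT⟩ ⟨tilde σ T, ?_⟩⟩
          rw [← tilde_mul, ← hT, tilde_binomial hF hl1 hc]
        · by_cases hd : P ∣ R
          · left
            obtain ⟨T, hT⟩ := hd
            rw [hPa]
            exact hcop.mul_dvd ⟨T, hT⟩ ⟨tilde σ T, by rw [← tilde_mul, ← hT, hR]⟩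
          · right
            rw [hPa]
            refine (hP.coprime_iff_not_dvd.2 hd).mul_left (hQ.coprime_iff_not_dvd.2 fun ⟨T, hT⟩ => hd ?_)
            exact ⟨tilde σ T, by rw [← hR, hT, tilde_mul, tilde_tilde σ hσσ hPm hP0]⟩
    have hdegab : (a * b).natDegree = k + b.natDegree := ham.natDegree_mul hbm
    have hw1 : 1 ≤ w := by rw [hwl]; exact Nat.mul_pos (Nat.succ_pos q) hl1
    rcases Nat.eq_zero_or_pos b.natDegree with hb0 | hbpos
    · have hb1 : b = 1 := hbm.natDegree_eq_zero.1 hb0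
      refine ⟨a, 1, w, l, ham, hat, had, by rw [hb1, mul_one, pow_one], by rw [hdegab]; omega, le_rfl,
        haw, ?_, ⟨l, hwl⟩, hw1, fun h1 => ?_, fun _ => Or.inl fun he => (heven he).le, ⟨c, hac⟩, hl1,
        single_good hq2 had hwl hodd heven⟩
      · rcases Nat.even_or_odd k with h | h
        · rw [← hk]; have := heven h; omega
        · rw [← hk, hodd h]
      · rw [hodd (by rw [hk, h1]; exact odd_one), hk, h1, pow_one]
    obtain ⟨R, M, L, l', hR⟩ := ih b.natDegree (by rw [← hn, hdegab]; omega) b hbm h0.2 hbpos hbt rfl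
    have hdR := hR.deg
    rcases hdich R hR.inv with hdvd | hcop
    · refine ⟨R, M + 1, L, l', hR.monic, hR.inv, hR.pos, ?_, ?_, by omega, hR.expo, hR.small, hR.base,
        hR.lpos, hR.one, hR.strong, hR.proj, hR.ppos, hR.good⟩
      · rw [pow_succ']; exact mul_dvd_mul hdvd hR.dvd
      · rw [hdegab]; have := hR.hM; omega
    · have hRd := ham.natDegree_mul hR.monic
      rw [← hk] at hRd
      have hG : Good q (k + R.natDegree) (L * l) :=
        merge_good hq2 had hR.pos hwl hodd heven hR.small hR.base hR.lpos hR.one hR.strong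
      have hdvd : a * R ∣ X ^ (L * l) - 1 := by
        obtain ⟨s, hs⟩ := hR.base
        refine hcop.mul_dvd (haw.trans ?_) (hR.expo.trans ?_)
        · rw [show L * l = w * s by rw [hs, hwl]; ring, pow_mul]
          exact sub_one_dvd_pow_sub_one _ _
        · rw [pow_mul]; exact sub_one_dvd_pow_sub_one _ _
      refine ⟨a * R, M, L * l, L * l, ham.mul hR.monic, by rw [tilde_mul, hat, hR.inv], ?_, ?_, ?_, hR.hM,
        hdvd, ?_, hR.base.mul_right l, Nat.mul_pos hR.lpos hl1, fun h1 => ?_, fun _ => Or.inr ?_,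
        ⟨1, by rwa [map_one]⟩, Nat.mul_pos hR.lpos hl1, ?_⟩
      · rw [hRd]; omega
      · rw [mul_pow]
        exact mul_dvd_mul (dvd_pow_self a (by have := hR.hM; omega)) hR.dvd
      · rw [hRd, hdegab]; omega
      · rw [hRd]; exact hG.le_succ hq2
      · rw [hRd] at h1; have := hR.pos; omega
      · rwa [hRd]
      · rwa [hRd]

include hF in
/-- Some power at most `B` of a unitary matrix is scalar. -/
theorem exists_exponent_le {d f : ℕ} (hd : 3 ≤ d) (hf : 1 ≤ f) (hq : q = p ^ f) {B : ℕ}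
    (hB1 : Odd d → 2 ≤ f → q ^ (d - 1) - 1 ≤ B) (hB2 : Odd d → f = 1 → (p ^ (d - 2) + 1) * p ≤ B)
    (hB3 : Even d → 2 < q → q ^ (d - 1) + 1 ≤ B)
    (hB4 : Even d → q = 2 → 4 * (2 ^ (d - 3) + 1) ≤ B)
    (g : ↥(Cfsg.GU d F q) ⧸ Subgroup.center ↥(Cfsg.GU d F q)) : orderOf g ≤ B := by
  obtain ⟨A, rfl⟩ := QuotientGroup.mk'_surjective _ g
  set χ := ((A : GL (Fin d) F) : Matrix (Fin d) (Fin d) F).charpoly with hχ
  have hdeg : χ.natDegree = d := by
    rw [hχ, Matrix.charpoly_natDegree_eq_dim, Fintype.card_fin]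
  obtain ⟨R, M, L, l, hR⟩ := exists_data hF hq χ (Matrix.charpoly_monic _)
    (SemiUnitaryExists.coeff_zero_ne_zero (A : GL (Fin d) F))
    (SemiUnitaryExists.tilde_charpoly hF A.2) (by omega)
  obtain ⟨c, hc⟩ := hR.proj
  set E := l * ppow p M with hE
  have hdiv : χ ∣ X ^ E - C (c ^ p ^ Nat.clog p M) := by
    refine hR.dvd.trans ((pow_dvd_pow R (le_ppow hp.out.two_le M)).trans ?_)
    rw [hE, C_pow, pow_mul, ppow, ← sub_pow_char_pow]
    exact pow_dvd_pow_of_dvd hc _
  have hE0 : 0 < E := Nat.mul_pos hR.ppos (pow_pos hp.out.pos _)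
  have h1 := pow_eq_smul hdiv
  refine le_trans (Nat.le_of_dvd hE0 (orderOf_dvd_of_pow_eq_one ?_))
    (final_bound hp.out hf hq hd hR.hM (hdeg ▸ hR.deg) hR.good hB1 hB2 hB3 hB4)
  rw [← map_pow, QuotientGroup.mk'_apply, QuotientGroup.eq_one_iff, Subgroup.mem_center_iff]
  intro x
  refine Subtype.ext (Units.ext ?_)
  simp only [Subgroup.coe_mul, SubmonoidClass.coe_pow, Units.val_mul, Units.val_pow_eq_pow_val, h1,
    Matrix.mul_smul, Matrix.smul_mul, mul_one, one_mul]

end CfsgLib.ClassK.PGUOrder
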