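import Cfsg.Agent.Lib.ClassK.PGUOrderUpper

/-!
Elements of `PGU_d(q)` of large order.
-/

set_option autoImplicit false

namespace CfsgLib.ClassK.PGUOrder

open Polynomial CfsgLib.Classical CfsgLib.Classical.SemiPalin
open scoped Matrix
open CfsgLib.KnownC.UnitarySpectrum (root_of_root_tilde root_tilde_of_root aeval_pow_card det_leftMul
  tilde_pow exists_gu_unipotent)

variable {F : Type*} [Field F] [Fintype F] {q : ℕ} (hF : Fintype.card F = q ^ 2) {p f : ℕ}
  [hp : Fact p.Prime] [CharP F p]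

include hF in
/-- Central elements of `GU_d` are scalar. -/
theorem scalar_of_central {d : ℕ} (hd : 2 ≤ d) (x : ↥(Cfsg.GU d F q))
    (hx : x ∈ Subgroup.center ↥(Cfsg.GU d F q)) :
    ∃ c : F, c ≠ 0 ∧ ((x : GL (Fin d) F) : Matrix (Fin d) (Fin d) F) = c • 1 := by
  classical
  set X : Matrix (Fin d) (Fin d) F := ((x : GL (Fin d) F) : Matrix (Fin d) (Fin d) F) with hX
  have comm : ∀ Y : GL (Fin d) F, Y ∈ Cfsg.GU d F q →
      (Y : Matrix (Fin d) (Fin d) F) * X = X * (Y : Matrix (Fin d) (Fin d) F) := fun Y hY => by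
    have h := congrArg (fun z : ↥(Cfsg.GU d F q) => ((z : GL (Fin d) F) : Matrix (Fin d) (Fin d) F))
      (Subgroup.mem_center_iff.1 hx ⟨Y, hY⟩)
    simpa using h
  obtain ⟨ζ, hζ⟩ := exists_root_unity hF
  have hq2 := two_le_q hF
  have hζ1 : ζ ≠ 1 := hζ.ne_one (by omega)
  have hζn : ζ * qFrob hF ζ = 1 := by rw [qFrob_apply, ← pow_succ', hζ.pow_eq_one]
  -- diagonal
  have hdiag : ∀ i j, i ≠ j → X i j = 0 := by
    intro i j hij
    let w : Fin d → F := fun k => if k = i then ζ else 1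
    have hw : Matrix.diagonal w * (Matrix.diagonal w).map (qFrob hF) = 1 := by
      rw [Matrix.diagonal_map (map_zero _), Matrix.diagonal_mul_diagonal, ← Matrix.diagonal_one]
      congr 1; funext k
      simp only [Function.comp_apply, w]
      split_ifs <;> simp [hζn]
    let Y : GL (Fin d) F := ⟨Matrix.diagonal w, (Matrix.diagonal w).map (qFrob hF), hw,
      mul_eq_one_comm.1 hw⟩
    have hY : Y ∈ Cfsg.GU d F q := by
      rw [SemiUnitary.mem_gu_iff hF]
      show (Matrix.diagonal w)ᵀ * (Matrix.diagonal w).map (qFrob hF) = 1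
      rw [Matrix.diagonal_transpose, hw]
    have h := congrFun (congrFun (comm Y hY) i) j
    simp only [show (Y : Matrix (Fin d) (Fin d) F) = Matrix.diagonal w from rfl, Matrix.diagonal_mul,
      Matrix.mul_diagonal, w, if_pos, if_neg (Ne.symm hij), mul_one] at h
    have h2 : (ζ - 1) * X i j = 0 := by linear_combination h
    exact (mul_eq_zero.1 h2).resolve_left (sub_ne_zero.2 hζ1)
  -- constant
  have hconst : ∀ i j, X i i = X j j := by
    intro i j
    let σ : Equiv.Perm (Fin d) := Equiv.swap i j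
    let S : Matrix (Fin d) (Fin d) F := σ.permMatrix F
    have hS : S * S = 1 := by
      rw [← Matrix.permMatrix_mul, Equiv.swap_mul_self, Matrix.permMatrix_one]
    let Y : GL (Fin d) F := ⟨S, S, hS, hS⟩
    have hSm : S.map (qFrob hF) = S := by
      ext a b; simp [S, Matrix.map_apply, PEquiv.toMatrix_apply, apply_ite (qFrob hF)]
    have hY : Y ∈ Cfsg.GU d F q := by
      rw [SemiUnitary.mem_gu_iff hF]
      show Sᵀ * S.map (qFrob hF) = 1
      rw [hSm, Matrix.transpose_permMatrix, ← Matrix.permMatrix_mul]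
      simp
    have h := congrFun (congrFun (comm Y hY) i) j
    simp only [show (Y : Matrix (Fin d) (Fin d) F) = σ.permMatrix F from rfl, Equiv.Perm.permMatrix,
      PEquiv.toMatrix_toPEquiv_mul, PEquiv.mul_toMatrix_toPEquiv, Matrix.submatrix_apply, id] at h
    simpa [σ] using h.symm
  obtain ⟨i₀⟩ : Nonempty (Fin d) := ⟨⟨0, by omega⟩⟩
  have hX' : X = X i₀ i₀ • 1 := Matrix.ext fun i j => by
    rcases eq_or_ne i j with rfl | h
    · simpa using hconst i i₀
    · simp [hdiag i j h, Matrix.one_apply_ne h]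
  refine ⟨X i₀ i₀, fun h0 => ?_, hX'⟩
  have hu : X * ((x : GL (Fin d) F)⁻¹ : GL (Fin d) F) = (1 : Matrix (Fin d) (Fin d) F) := Units.mul_inv _
  rw [hX', h0, zero_smul, zero_mul] at hu
  exact one_ne_zero (α := F) (by simpa using (congrFun (congrFun hu i₀) i₀).symm)

include hp in
theorem exists_order (m : ℕ) [NeZero m] {N : ℕ} (hN : N ∣ Fintype.card F ^ m - 1) :
    ∃ x : FiniteField.Extension F p m, x ≠ 0 ∧ orderOf x = N := by
  let L := FiniteField.Extension F p m
  have : Module.Finite F L := inferInstance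
  have : Finite L := Module.finite_of_finite F
  letI : Fintype L := Fintype.ofFinite L
  have hc : Fintype.card L = Fintype.card F ^ m := by
    rw [Module.card_eq_pow_finrank (K := F), FiniteField.finrank_extension]
  obtain ⟨g, hg⟩ := IsCyclic.exists_ofOrder_eq_natCard (α := Lˣ)
  rw [Nat.card_units, Nat.card_eq_fintype_card, hc] at hg
  have hne : Fintype.card F ^ m - 1 ≠ 0 := by
    rw [← hg]; exact (orderOf_pos g).ne'
  refine ⟨((g ^ (orderOf g / N) : Lˣ) : L), Units.ne_zero _, ?_⟩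
  rw [orderOf_units, orderOf_pow_orderOf_div (orderOf_pos g).ne' (hg ▸ hN)]

include hF hp in
/-- A semisimple element of `GU_k` with an eigenvalue of order `q ^ k + 1`, `k` odd. -/
theorem exists_torus_odd (hq : q = p ^ f) {k : ℕ} (hk : Odd k) :
    ∃ T : GL (Fin k) F, T ∈ Cfsg.GU k F q ∧
      ∀ e : ℕ, (T : Matrix (Fin k) (Fin k) F) ^ e = 1 → q ^ k + 1 ∣ e := by
  have hq2 : 2 ≤ q := two_le_q hF
  have : NeZero k := ⟨by rintro rfl; simp at hk⟩
  let L := FiniteField.Extension F p k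
  obtain ⟨x, hx0, hxo⟩ := exists_order (F := F) (p := p) k (N := q ^ k + 1)
    ⟨q ^ k - 1, by rw [hF, ← pow_mul, mul_comm 2 k, pow_mul, ← Nat.sq_sub_sq (q ^ k) 1, one_pow]⟩
  let b : Module.Basis (Fin k) F L :=
    (Module.finBasis F L).reindex (finCongr (FiniteField.finrank_extension F p k))
  set P := minpoly F x with hPdef
  have hint := Algebra.IsIntegral.isIntegral (R := F) x
  have hP : Irreducible P := minpoly.irreducible hint
  have hPm : P.Monic := minpoly.monic hint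
  have hPx : aeval x P = 0 := minpoly.aeval F x
  have hP0 : P.coeff 0 ≠ 0 := minpoly.coeff_zero_ne_zero hint hx0
  obtain ⟨hQm, -, -⟩ := tilde_facts (qFrob hF) hPm hP0
  have hxq : (x ^ q)⁻¹ = x ^ Fintype.card F ^ ((k + 1) / 2) := by
    have h1 : x ^ q ^ k * x = 1 := by rw [← pow_succ, ← hxo, pow_orderOf_eq_one]
    obtain ⟨i, rfl⟩ := hk
    rw [hF, ← pow_mul, show 2 * ((2 * i + 1 + 1) / 2) = 2 * i + 1 + 1 by omega, pow_succ q, pow_mul,
      eq_inv_of_mul_eq_one_left h1, inv_pow]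
  have hQx : aeval (x ^ Fintype.card F ^ ((k + 1) / 2)) (tilde (qFrob hF) P) = 0 := by
    rw [← hxq]; exact (inv_pow x q) ▸ root_tilde_of_root hF hq (inv_ne_zero hx0) (by rwa [inv_inv])
  have htP : tilde (qFrob hF) P = P := by
    have h1 := minpoly.eq_of_irreducible_of_monic hP (aeval_pow_card P hPx ((k + 1) / 2)) hPm
    have h2 := minpoly.eq_of_irreducible_of_monic
      (tilde_irreducible _ (qFrob_qFrob hF) hPm hP0 hP) hQx hQm
    rw [h2, h1]
  obtain ⟨j, -, hj, -⟩ := det_leftMul b hP hPm hPx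
  obtain ⟨T, hT, -, hTc⟩ := SemiUnitaryExists.exists_gu (n := k) hF p (f := P ^ j) (hPm.pow j)
    (by rw [natDegree_pow, hj]) (by rw [CfsgLib.KnownC.UnitarySpectrum.coeff_zero_pow]; exact pow_ne_zero _ hP0)
    (by rw [tilde_pow, htP])
  refine ⟨T, hT, fun e he => ?_⟩
  have hj0 : j ≠ 0 := by rintro rfl; simp only [zero_mul] at hj; exact NeZero.ne k hj
  have hdv : P ∣ X ^ e - 1 :=
    (CfsgLib.KnownC.irreducible_dvd_minpoly_of_dvd_charpoly _ hP (hTc ▸ dvd_pow_self P hj0)).trans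
      (minpoly.dvd F _ (by rw [map_sub, map_pow, aeval_X, map_one, he, sub_self]))
  rw [← hxo]
  refine orderOf_dvd_of_pow_eq_one ?_
  obtain ⟨t, ht⟩ := hdv
  have h := congrArg (aeval x) ht
  rwa [map_mul, hPx, zero_mul, map_sub, map_pow, aeval_X, map_one, sub_eq_zero] at h

include hF hp in
/-- A semisimple element of `GU_k` with an eigenvalue of order `q ^ k - 1`, `k = 2 j`. -/
theorem exists_torus_even {j : ℕ} [NeZero j] :
    ∃ T : GL (Fin (2 * j)) F, T ∈ Cfsg.GU (2 * j) F q ∧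
      ∀ e : ℕ, (T : Matrix (Fin (2 * j)) (Fin (2 * j)) F) ^ e = 1 → q ^ (2 * j) - 1 ∣ e := by
  let L := FiniteField.Extension F p j
  obtain ⟨x, hx0, hxo⟩ := exists_order (F := F) (p := p) j (N := q ^ (2 * j) - 1)
    (by rw [hF, ← pow_mul])
  let b : Module.Basis (Fin j) F L :=
    (Module.finBasis F L).reindex (finCongr (FiniteField.finrank_extension F p j))
  set h := (Algebra.leftMulMatrix b x).charpoly with hh
  have hhm : h.Monic := Matrix.charpoly_monic _
  have hint := Algebra.IsIntegral.isIntegral (R := F) x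
  obtain ⟨i, hi, hji, -⟩ := det_leftMul b (minpoly.irreducible hint) (minpoly.monic hint) (minpoly.aeval F x)
  have hh0 : h.coeff 0 ≠ 0 := by
    rw [hh, hi, CfsgLib.KnownC.UnitarySpectrum.coeff_zero_pow]
    exact pow_ne_zero _ (minpoly.coeff_zero_ne_zero hint hx0)
  obtain ⟨hQm, hQd, hQ0⟩ := tilde_facts (qFrob hF) hhm hh0
  have hhd : h.natDegree = j := by rw [hh, Matrix.charpoly_natDegree_eq_dim, Fintype.card_fin]
  obtain ⟨T, hT, -, hTc⟩ := SemiUnitaryExists.exists_gu (n := 2 * j) hF p (f := h * tilde (qFrob hF) h)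
    (hhm.mul hQm) (by rw [hhm.natDegree_mul hQm, hQd, hhd]; ring)
    (by rw [mul_coeff_zero, hQ0]; exact mul_ne_zero hh0 (inv_ne_zero ((_root_.map_ne_zero _).2 hh0)))
    (by rw [tilde_mul, tilde_tilde _ (qFrob_qFrob hF) hhm hh0, mul_comm])
  refine ⟨T, hT, fun e he => ?_⟩
  have hi0 : i ≠ 0 := by rintro rfl; simp only [zero_mul] at hji; exact NeZero.ne j hji
  have hdv : minpoly F x ∣ X ^ e - 1 :=
    (CfsgLib.KnownC.irreducible_dvd_minpoly_of_dvd_charpoly _ (minpoly.irreducible hint)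
      (by rw [hTc]; exact ((dvd_pow_self _ hi0).trans (dvd_of_eq hi.symm)).trans (dvd_mul_right h _))).trans
      (minpoly.dvd F _ (by rw [map_sub, map_pow, aeval_X, map_one, he, sub_self]))
  rw [← hxo]
  refine orderOf_dvd_of_pow_eq_one ?_
  obtain ⟨t, ht⟩ := hdv
  have h' := congrArg (aeval x) ht
  rwa [map_mul, minpoly.aeval, zero_mul, map_sub, map_pow, aeval_X, map_one, sub_eq_zero] at h'

omit [Fintype F] hp [CharP F p] in
theorem blk_pow {k m d : ℕ} (e : Fin k ⊕ Fin m ≃ Fin d) (X : Matrix (Fin k) (Fin k) F)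
    (Y : Matrix (Fin m) (Fin m) F) (n : ℕ) :
    SemiUnitaryClasses.blk e X Y ^ n = SemiUnitaryClasses.blk e (X ^ n) (Y ^ n) := by
  induction n with
  | zero => rw [pow_zero, pow_zero, pow_zero, SemiUnitaryClasses.blk_one]
  | succ n ih => rw [pow_succ, ih, SemiUnitaryClasses.blk_mul, ← pow_succ, ← pow_succ]

include hF hp in
/-- The order of a block element in `PGU_d`. -/
theorem exists_block {k m d N s : ℕ} (hkm : k + m = d) (hk : 1 ≤ k) (hm : 1 ≤ m)
    {T : GL (Fin k) F} (hT : T ∈ Cfsg.GU k F q)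
    (hTN : ∀ e : ℕ, (T : Matrix (Fin k) (Fin k) F) ^ e = 1 → N ∣ e)
    {U : GL (Fin m) F} (hU : U ∈ Cfsg.GU m F q) (hUo : orderOf U = p ^ s) (hcop : N.Coprime (p ^ s)) :
    ∃ g : ↥(Cfsg.GU d F q) ⧸ Subgroup.center ↥(Cfsg.GU d F q), N * p ^ s ∣ orderOf g := by
  classical
  let ee : Fin k ⊕ Fin m ≃ Fin d := finSumFinEquiv.trans (finCongr hkm)
  let A : ↥(Cfsg.GU d F q) :=
    ⟨SemiUnitaryClasses.blkHom ee (T, U), SemiUnitaryClasses.blkHom_mem hF ee hT hU⟩
  refine ⟨QuotientGroup.mk' _ A, ?_⟩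
  set e := orderOf (QuotientGroup.mk' (Subgroup.center ↥(Cfsg.GU d F q)) A)
  have he : A ^ e ∈ Subgroup.center ↥(Cfsg.GU d F q) :=
    (QuotientGroup.eq_one_iff (A ^ e)).1 (by
      show (QuotientGroup.mk' (Subgroup.center ↥(Cfsg.GU d F q))) (A ^ e) = 1
      rw [map_pow, pow_orderOf_eq_one])
  have hAm : ((A : GL (Fin d) F) : Matrix (Fin d) (Fin d) F) =
      SemiUnitaryClasses.blk ee (T : Matrix (Fin k) (Fin k) F) (U : Matrix (Fin m) (Fin m) F) := rfl
  obtain ⟨c, -, hc⟩ := scalar_of_central hF (show 2 ≤ d by omega) _ he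
  rw [SubmonoidClass.coe_pow, Units.val_pow_eq_pow_val, hAm, blk_pow] at hc
  have hb : ∀ a b, Matrix.fromBlocks ((T : Matrix (Fin k) (Fin k) F) ^ e) 0 0
      ((U : Matrix (Fin m) (Fin m) F) ^ e) a b = (c • (1 : Matrix (Fin d) (Fin d) F)) (ee a) (ee b) :=
    fun a b => by rw [← hc]; simp [SemiUnitaryClasses.blk]
  have hUc : (U : Matrix (Fin m) (Fin m) F) ^ e = c • 1 := Matrix.ext fun i j => by
    simpa [Matrix.one_apply, ee.injective.eq_iff] using hb (Sum.inr i) (Sum.inr j)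
  have hTc : (T : Matrix (Fin k) (Fin k) F) ^ e = c • 1 := Matrix.ext fun i j => by
    simpa [Matrix.one_apply, ee.injective.eq_iff] using hb (Sum.inl i) (Sum.inl j)
  have : Nonempty (Fin m) := ⟨⟨0, hm⟩⟩
  have hc1 : c = 1 := by
    have h1 : ((c • (1 : Matrix (Fin m) (Fin m) F))) ^ p ^ s = 1 := by
      rw [← hUc, ← pow_mul, mul_comm, pow_mul, ← hUo, ← Units.val_pow_eq_pow_val U, pow_orderOf_eq_one,
        Units.val_one, one_pow]
    have h2 : c ^ p ^ s = 1 := by
      rw [_root_.smul_pow, one_pow] at h1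
      simpa using congrFun (congrFun h1 ⟨0, hm⟩) ⟨0, hm⟩
    refine sub_eq_zero.1 (eq_zero_of_pow_eq_zero (n := p ^ s) ?_)
    rw [sub_pow_char_pow, h2, one_pow, sub_self]
  rw [hc1, one_smul] at hUc hTc
  refine hcop.mul_dvd_of_dvd_of_dvd (hTN e hTc) ?_
  rw [← hUo]
  exact orderOf_dvd_of_pow_eq_one (Units.ext (by rw [Units.val_pow_eq_pow_val, hUc, Units.val_one]))

end CfsgLib.ClassK.PGUOrder
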