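import Cfsg.Prelude.Def_Local
import Cfsg.Agent.Lib.Comp.Quasisimple
import Mathlib.GroupTheory.NoncommPiCoprod
import Mathlib.GroupTheory.PGroup
import Mathlib.LinearAlgebra.Quotient.Basic
import Mathlib.Algebra.Module.ZMod

/-!
Tools for the `P(G,V)`-theorem: invariant sections of a module, perfect subgroups, commuting
`p`-groups, diagonal subgroups in a product of commuting conjugates.
-/

set_option autoImplicit false
set_option linter.style.haveILetI false
set_option linter.unusedSectionVars false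

namespace CfsgLib.ClassK.PGV

open Subgroup
open scoped commutatorElement

universe u v

variable {p : ℕ} [Fact p.Prime] {H : Type u} [Group H] {W : Type v} [AddCommGroup W]
  [Module (ZMod p) W]

/-- No invariant subspace but the trivial ones. -/
def Irr (σ : H →* Module.End (ZMod p) W) : Prop :=
  ∀ U : Submodule (ZMod p) W, (∀ h, ∀ u ∈ U, σ h u ∈ U) → U = ⊥ ∨ U = ⊤

/-- The action on an invariant subspace. -/
def subRep (σ : H →* Module.End (ZMod p) W) (U : Submodule (ZMod p) W)
    (hU : ∀ h, ∀ u ∈ U, σ h u ∈ U) : H →* Module.End (ZMod p) U where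
  toFun h := (σ h).restrict (hU h)
  map_one' := by ext u; simp
  map_mul' g h := by ext u; simp

/-- The action on an invariant quotient. -/
def quotRep (σ : H →* Module.End (ZMod p) W) (U : Submodule (ZMod p) W)
    (hU : ∀ h, ∀ u ∈ U, σ h u ∈ U) : H →* Module.End (ZMod p) (W ⧸ U) where
  toFun h := U.mapQ U (σ h) (fun u hu => hU h u hu)
  map_one' := by ext u; simp
  map_mul' g h := by ext u; simp

@[simp] theorem subRep_apply (σ : H →* Module.End (ZMod p) W) (U : Submodule (ZMod p) W)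
    (hU : ∀ h, ∀ u ∈ U, σ h u ∈ U) (h : H) (u : U) : (subRep σ U hU h u : W) = σ h u := rfl

@[simp] theorem quotRep_mk (σ : H →* Module.End (ZMod p) W) (U : Submodule (ZMod p) W)
    (hU : ∀ h, ∀ u ∈ U, σ h u ∈ U) (h : H) (w : W) :
    quotRep σ U hU h (Submodule.Quotient.mk w) = Submodule.Quotient.mk (σ h w) := rfl

theorem apply_inv_apply (σ : H →* Module.End (ZMod p) W) (h : H) (w : W) : σ h⁻¹ (σ h w) = w := by
  rw [← Module.End.mul_apply, ← map_mul, inv_mul_cancel, map_one, Module.End.one_apply]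

theorem apply_apply_inv (σ : H →* Module.End (ZMod p) W) (h : H) (w : W) : σ h (σ h⁻¹ w) = w := by
  rw [← Module.End.mul_apply, ← map_mul, mul_inv_cancel, map_one, Module.End.one_apply]

theorem map_inv_mul (σ : H →* Module.End (ZMod p) W) (h : H) : σ h⁻¹ * σ h = 1 := by
  rw [← map_mul, inv_mul_cancel, map_one]

theorem map_mul_inv (σ : H →* Module.End (ZMod p) W) (h : H) : σ h * σ h⁻¹ = 1 := by
  rw [← map_mul, mul_inv_cancel, map_one]

/-- The elements of a subgroup acting as one on `W` if it is perfect with commutative image. -/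
theorem eq_one_of_comm {M : Type*} [Monoid M] (σ : H →* M) {K : Subgroup H} (hK : ⁅K, K⁆ = K)
    (hc : ∀ k ∈ K, ∀ l ∈ K, σ k * σ l = σ l * σ k) : ∀ k ∈ K, σ k = 1 := by
  suffices h : ⁅K, K⁆ ≤ σ.ker by exact fun k hk => h (hK.symm ▸ hk)
  refine commutator_le.2 fun k hk l hl => ?_
  show σ ⁅k, l⁆ = 1
  rw [commutatorElement_def, map_mul, map_mul, map_mul, hc k hk l hl, mul_assoc (σ l),
    ← map_mul σ k, mul_inv_cancel, map_one, mul_one, ← map_mul, mul_inv_cancel, map_one]

/-- A perfect group trivial on an invariant subspace and on the quotient is trivial. -/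
theorem eq_one_of_chain (σ : H →* Module.End (ZMod p) W) {K : Subgroup H} (hK : ⁅K, K⁆ = K)
    (U : Submodule (ZMod p) W) (h1 : ∀ k ∈ K, ∀ u ∈ U, σ k u = u)
    (h2 : ∀ k ∈ K, ∀ w, σ k w - w ∈ U) : ∀ k ∈ K, σ k = 1 := by
  refine eq_one_of_comm σ hK fun k hk l hl => LinearMap.ext fun w => ?_
  have e1 : σ k (σ l w - w) = σ l w - w := h1 k hk _ (h2 l hl w)
  have e2 : σ l (σ k w - w) = σ k w - w := h1 l hl _ (h2 k hk w)
  rw [map_sub, sub_eq_iff_eq_add] at e1 e2
  simp only [Module.End.mul_apply, e1, e2]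
  abel

/-- Induction over the irreducible sections. -/
theorem sections_induction {K : Subgroup H} (hK : ⁅K, K⁆ = K)
    (P : ∀ (X : Type v) [AddCommGroup X] [Module (ZMod p) X], (H →* Module.End (ZMod p) X) → Prop)
    (hsub : ∀ (X : Type v) [AddCommGroup X] [Module (ZMod p) X] [Finite X]
      (σ : H →* Module.End (ZMod p) X), P X σ → ∀ (U : Submodule (ZMod p) X)
        (hU : ∀ h, ∀ u ∈ U, σ h u ∈ U), P U (subRep σ U hU))
    (hquot : ∀ (X : Type v) [AddCommGroup X] [Module (ZMod p) X] [Finite X]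
      (σ : H →* Module.End (ZMod p) X), P X σ → ∀ (U : Submodule (ZMod p) X)
        (hU : ∀ h, ∀ u ∈ U, σ h u ∈ U), P (X ⧸ U) (quotRep σ U hU))
    (hirr : ∀ (X : Type v) [AddCommGroup X] [Module (ZMod p) X] [Finite X]
      (σ : H →* Module.End (ZMod p) X), P X σ → Irr σ → ∀ k ∈ K, σ k = 1)
    (X : Type v) [AddCommGroup X] [Module (ZMod p) X] [Finite X]
    (σ : H →* Module.End (ZMod p) X) (hP : P X σ) : ∀ k ∈ K, σ k = 1 := by
  suffices key : ∀ (n : ℕ) (X : Type v) [AddCommGroup X] [Module (ZMod p) X] [Finite X]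
      (σ : H →* Module.End (ZMod p) X), Nat.card X ≤ n → P X σ → ∀ k ∈ K, σ k = 1 from
    key _ X σ le_rfl hP
  intro n
  induction n with
  | zero => intro X _ _ _ σ hX; exact absurd hX (not_le.2 Nat.card_pos)
  | succ n ih =>
    intro X _ _ _ σ hX hP
    by_cases hi : Irr σ
    · exact hirr X σ hP hi
    simp only [Irr, not_forall, not_or] at hi
    obtain ⟨U, hU, hne, hne'⟩ := hi
    have hcard : Nat.card X = Nat.card U * Nat.card (X ⧸ U) := U.card_eq_card_quotient_mul_card
    haveI : Finite (X ⧸ U) := Finite.of_surjective _ (Submodule.Quotient.mk_surjective U)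
    have h1 : 1 < Nat.card U := by
      haveI := Submodule.nontrivial_iff_ne_bot.2 hne
      exact Finite.one_lt_card
    have h2 : 1 < Nat.card (X ⧸ U) := by
      haveI := Submodule.Quotient.nontrivial_iff.2 hne'
      exact Finite.one_lt_card
    have hUn : Nat.card U ≤ n := by nlinarith
    have hQn : Nat.card (X ⧸ U) ≤ n := by nlinarith
    have e1 := ih U (subRep σ U hU) hUn (hsub X σ hP U hU)
    have e2 := ih (X ⧸ U) (quotRep σ U hU) hQn (hquot X σ hP U hU)
    refine eq_one_of_chain σ hK U (fun k hk u hu => ?_) (fun k hk w => ?_)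
    · simpa using congrArg Subtype.val (LinearMap.congr_fun (e1 k hk) ⟨u, hu⟩)
    · exact (Submodule.Quotient.eq U).1 (by
        simpa using LinearMap.congr_fun (e2 k hk) (Submodule.Quotient.mk w))

theorem commutator_fix {w : W} (σ : H →* Module.End (ZMod p) W) {K : Subgroup H}
    (hK : ⁅K, K⁆ = K) (hw : ∀ k ∈ K, ∀ l ∈ K, σ k (σ l w - w) = σ l w - w) :
    ∀ k ∈ K, σ k w = w := by
  let S : Subgroup H :=
    { carrier := {h | σ h w = w}
      one_mem' := by simp
      mul_mem' := fun {a b} (ha : σ a w = w) (hb : σ b w = w) => show σ (a * b) w = w by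
        rw [map_mul, Module.End.mul_apply, hb, ha]
      inv_mem' := fun {a} (ha : σ a w = w) => show σ a⁻¹ w = w by
        conv_lhs => rw [← ha]
        exact apply_inv_apply σ a w }
  suffices h : ⁅K, K⁆ ≤ S by exact fun k hk => h (hK.symm ▸ hk)
  refine commutator_le.2 fun k hk l hl => ?_
  show σ ⁅k, l⁆ w = w
  have hadd : ∀ a ∈ K, ∀ b ∈ K, σ (a * b) w = σ a w + σ b w - w := fun a ha b hb => by
    have h' := hw a ha b hb
    rw [map_sub, sub_eq_iff_eq_add] at h'
    rw [map_mul, Module.End.mul_apply, h']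
    abel
  have hinv : ∀ a ∈ K, σ a⁻¹ w = w + w - σ a w := fun a ha => by
    have h' := hadd a⁻¹ (inv_mem ha) a ha
    rw [inv_mul_cancel, map_one, Module.End.one_apply, eq_sub_iff_add_eq] at h'
    rw [h']; abel
  rw [commutatorElement_def, hadd _ (mul_mem (mul_mem hk hl) (inv_mem hk)) _ (inv_mem hl),
    hadd _ (mul_mem hk hl) _ (inv_mem hk), hadd _ hk _ hl, hinv _ hk, hinv _ hl]
  abel

/-- A perfect group commuting with a `p`-group is trivial if trivial on its fixed points. -/
theorem eq_one_of_fixed [Finite W] (σ : H →* Module.End (ZMod p) W) {K T : Subgroup H}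
    (hK : ⁅K, K⁆ = K) (hT : IsPGroup p T) (hcomm : ∀ k ∈ K, ∀ t ∈ T, σ k * σ t = σ t * σ k)
    (hfix : ∀ w, (∀ t ∈ T, σ t w = w) → ∀ k ∈ K, σ k w = w) : ∀ k ∈ K, σ k = 1 := by
  classical
  let Good : Submodule (ZMod p) W :=
    { carrier := {w | ∀ k ∈ K, σ k w = w}
      add_mem' := fun {a b} ha hb k hk => by rw [map_add, ha k hk, hb k hk]
      zero_mem' := fun k _ => map_zero _
      smul_mem' := fun c w hw k hk => by rw [map_smul, hw k hk] }
  suffices hall : Good = ⊤ from fun k hk => LinearMap.ext fun w =>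
    (show w ∈ Good by rw [hall]; trivial) k hk
  have hGT : ∀ t ∈ T, ∀ w ∈ Good, σ t w ∈ Good := fun t ht w hw k hk => by
    rw [← Module.End.mul_apply, hcomm k hk t ht, Module.End.mul_apply, hw k hk]
  by_contra hne
  haveI : Nontrivial (W ⧸ Good) := Submodule.Quotient.nontrivial_iff.2 hne
  let τ := quotRep (σ.comp T.subtype) Good fun t w hw => hGT t t.2 w hw
  letI : MulAction T (W ⧸ Good) :=
    { smul := fun t x => τ t x
      one_smul := fun x => by show τ 1 x = x; rw [map_one]; rfl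
      mul_smul := fun t s x => by show τ (t * s) x = τ t (τ s x); rw [map_mul]; rfl }
  haveI : Finite (W ⧸ Good) := Finite.of_surjective _ (Submodule.Quotient.mk_surjective Good)
  obtain ⟨x, hx, hne0⟩ := hT.exists_fixed_point_of_prime_dvd_card_of_fixed_point (W ⧸ Good) (by
      obtain ⟨x, hx⟩ := exists_ne (0 : W ⧸ Good)
      have hp : addOrderOf x = p := addOrderOf_eq_prime (by
        rw [← Nat.cast_smul_eq_nsmul (ZMod p), ZMod.natCast_self, zero_smul]) hx
      exact (dvd_of_eq hp.symm).trans (addOrderOf_dvd_natCard x)) (a := (0 : W ⧸ Good)) (fun t => map_zero (τ t))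
  obtain ⟨w, rfl⟩ := Submodule.Quotient.mk_surjective Good x
  have hdiff : ∀ t ∈ T, σ t w - w ∈ Good := fun t ht =>
    (Submodule.Quotient.eq Good).1 (hx ⟨t, ht⟩)
  refine hne0.symm ((Submodule.Quotient.mk_eq_zero Good).2 (commutator_fix σ hK fun k hk l hl =>
    hfix _ (fun t ht => ?_) k hk))
  have h1 := hdiff t ht l hl
  rw [map_sub, ← Module.End.mul_apply, hcomm l hl t ht, Module.End.mul_apply] at h1
  rw [map_sub]
  rw [sub_eq_iff_eq_add] at h1
  rw [h1]
  abel

section Diag

variable {K T : Subgroup H} [Fintype T]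
  (h : ∀ t ∈ T, t ≠ 1 → ∀ k ∈ K, ∀ l ∈ K, Commute k (t * l * t⁻¹))
include h

theorem diag_pairwise (t s : T) (hts : t ≠ s) (k l : H) (hk : k ∈ K) (hl : l ∈ K) :
    Commute ((t : H) * k * (t : H)⁻¹) ((s : H) * l * (s : H)⁻¹) := by
  have hne : (t : H)⁻¹ * s ≠ 1 := fun e => hts (Subtype.ext (inv_mul_eq_one.1 e))
  have h1 := (h _ (mul_mem (inv_mem t.2) s.2) hne k hk l hl).map (MulAut.conj (t : H)).toMonoidHom
  simpa [mul_assoc] using h1

theorem diag_pw (k : ↥K) : ((Finset.univ : Finset T) : Set T).Pairwise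
    (Function.onFun Commute fun t : T => (t : H) * k * (t : H)⁻¹) :=
  fun t _ s _ hts => diag_pairwise h t s hts k k k.2 k.2

/-- Product of the conjugates of `K` under a finite group `T` permuting them regularly. -/
noncomputable def diag : ↥K →* H :=
  MonoidHom.mk' (fun k => Finset.univ.noncommProd (fun t : T => (t : H) * k * (t : H)⁻¹) (diag_pw h k))
    fun k l => by
      have hgf : ((Finset.univ : Finset T) : Set T).Pairwise fun t s : T =>
          Commute ((t : H) * l * (t : H)⁻¹) ((s : H) * k * (s : H)⁻¹) :=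
        fun t _ s _ hts => diag_pairwise h t s hts l k l.2 k.2
      rw [← Finset.noncommProd_mul_distrib _ _ (diag_pw h k) (diag_pw h l) hgf]
      exact Finset.noncommProd_congr rfl (fun t _ => by simp [mul_assoc]) _

theorem diag_apply (k : ↥K) : diag h k = Finset.univ.noncommProd (fun t : T => (t : H) * k * (t : H)⁻¹)
    (diag_pw h k) := rfl

theorem diag_conj {g : H} (hg : ∀ t ∈ T, g * t = t * g) (k k' : ↥K)
    (hk : (k' : H) = g * k * g⁻¹) : diag h k' = g * diag h k * g⁻¹ := by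
  show _ = (MulAut.conj g).toMonoidHom (diag h k)
  rw [diag_apply, diag_apply, Finset.map_noncommProd]
  refine Finset.noncommProd_congr rfl (fun t _ => ?_) _
  show (t : H) * k' * (t : H)⁻¹ = g * ((t : H) * k * (t : H)⁻¹) * g⁻¹
  rw [hk, show (t : H) * (g * k * g⁻¹) * (t : H)⁻¹ = ((t : H) * g) * k * ((t : H) * g)⁻¹ by group,
    ← hg t t.2]
  group

/-- `diag` is `k` times an element commuting with `K`. -/
theorem diag_eq (k : ↥K) : ∃ R : H, diag h k = (k : H) * R ∧ ∀ l ∈ K, Commute l R := by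
  classical
  refine ⟨(Finset.univ.erase (1 : T)).noncommProd (fun t : T => (t : H) * k * (t : H)⁻¹)
    ((diag_pw h k).mono (Finset.coe_subset.2 (Finset.erase_subset _ _))), ?_, ?_⟩
  · exact (Finset.noncommProd_congr (Finset.insert_erase (Finset.mem_univ (1 : T))).symm
      (fun _ _ => rfl) (diag_pw h k)).trans
      ((Finset.noncommProd_insert_of_notMem _ _ _ _ (Finset.notMem_erase _ _)).trans (by simp))
  · intro l hl
    refine Finset.noncommProd_commute _ _ _ _ fun t ht => ?_
    exact h t t.2 (fun e => (Finset.mem_erase.1 ht).1 (Subtype.ext e)) l hl k k.2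

theorem diag_commute {s : H} (hs : s ∈ T) (k : ↥K) : s * diag h k = diag h k * s := by
  rw [← mul_inv_eq_iff_eq_mul]
  show (MulAut.conj s).toMonoidHom (diag h k) = _
  rw [diag_apply, Finset.map_noncommProd]
  simp only [Finset.noncommProd]
  congr 1
  have e : ((Finset.univ : Finset T).1.map fun t : T => (⟨s, hs⟩ : T) * t) = (Finset.univ : Finset T).1 :=
    congrArg Finset.val (Finset.map_univ_equiv (Equiv.mulLeft (⟨s, hs⟩ : T)))
  conv_rhs => rw [← e, Multiset.map_map]
  refine Multiset.map_congr rfl fun t _ => ?_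
  simp [mul_assoc]

/-- `diag` acts on `K` like the element. -/
theorem diag_conj_apply (k : ↥K) {l : H} (hl : l ∈ K) :
    diag h k * l * (diag h k)⁻¹ = k * l * (k : H)⁻¹ := by
  obtain ⟨R, e, hR⟩ := diag_eq h k
  rw [e, mul_inv_rev]
  calc (k : H) * R * l * (R⁻¹ * (k : H)⁻¹) = k * (R * l) * R⁻¹ * (k : H)⁻¹ := by group
    _ = _ := by rw [← (hR l hl).eq]; group

theorem diag_range_perfect (hK : ⁅K, K⁆ = K) : ⁅(diag h).range, (diag h).range⁆ = (diag h).range := by
  rw [MonoidHom.range_eq_map, ← map_commutator]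
  congr 1
  apply map_injective K.subtype_injective
  rw [map_commutator, ← MonoidHom.range_eq_map, range_subtype]
  exact hK

end Diag

/-- The elements `k⁻¹ b k b⁻¹` generate a perfect group unless `b` centralises it. -/
theorem closure_comm_eq {K : Subgroup H} (hK : Cfsg.IsQuasisimple K) {b : H}
    (hb : ∀ k ∈ K, b * k * b⁻¹ ∈ K) (hne : ∃ k ∈ K, b * k ≠ k * b) :
    closure {x : H | ∃ k ∈ K, x = k⁻¹ * (b * k * b⁻¹)} = K := by
  haveI := hK.1
  set N := closure {x : H | ∃ k ∈ K, x = k⁻¹ * (b * k * b⁻¹)}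
  have hle : N ≤ K := (closure_le _).2 (by
    rintro _ ⟨k, hk, rfl⟩; exact mul_mem (inv_mem hk) (hb k hk))
  haveI : (N.subgroupOf K).Normal := ⟨fun x hx g => by
    simp only [mem_subgroupOf, Subgroup.coe_mul, InvMemClass.coe_inv] at hx ⊢
    suffices N ≤ N.comap (MulAut.conj (g : H)).toMonoidHom from this hx
    refine (closure_le _).2 ?_
    rintro _ ⟨k, hk, rfl⟩
    show (g : H) * (k⁻¹ * (b * k * b⁻¹)) * (g : H)⁻¹ ∈ N
    rw [show (g : H) * (k⁻¹ * (b * k * b⁻¹)) * (g : H)⁻¹ = ((k * (g : H)⁻¹)⁻¹ * (b * (k * (g : H)⁻¹) * b⁻¹)) *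
      (((g : H)⁻¹)⁻¹ * (b * (g : H)⁻¹ * b⁻¹))⁻¹ by group]
    exact mul_mem (subset_closure ⟨_, mul_mem hk (inv_mem g.2), rfl⟩)
      (inv_mem (subset_closure ⟨_, inv_mem g.2, rfl⟩))⟩
  rcases CfsgLib.Comp.normal_eq_top_or_le_center hK (N.subgroupOf K) with h1 | h1
  · exact le_antisymm hle (subgroupOf_eq_top.1 h1)
  exfalso
  let f : K →* center K :=
    MonoidHom.mk' (fun k => ⟨k⁻¹ * ⟨b * k * b⁻¹, hb k k.2⟩, h1 (mem_subgroupOf.2
      (subset_closure ⟨k, k.2, rfl⟩))⟩) fun k l => by
      refine Subtype.ext ?_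
      have hc := mem_center_iff.1 (h1 (mem_subgroupOf.2
        (subset_closure ⟨k, k.2, rfl⟩)) : (k⁻¹ * ⟨b * k * b⁻¹, hb k k.2⟩ : K) ∈ center K) l⁻¹
      show (k * l)⁻¹ * (⟨b * (k * l : K) * b⁻¹, hb _ (k * l).2⟩ : K) =
        (k⁻¹ * ⟨b * k * b⁻¹, hb k k.2⟩) * (l⁻¹ * ⟨b * l * b⁻¹, hb l l.2⟩)
      rw [← mul_assoc _ l⁻¹, ← hc]
      refine Subtype.ext ?_
      simp [mul_assoc]
  have hf : commutator K ≤ f.ker := by
    rw [_root_.commutator_def, commutator_le]
    intro x _ y _
    rw [MonoidHom.mem_ker, map_commutatorElement, commutatorElement_eq_one_iff_mul_comm]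
    exact Subtype.ext ((mem_center_iff.1 (f x).2 _).symm)
  rw [Group.IsPerfect.commutator_eq_top] at hf
  obtain ⟨k, hk, hne⟩ := hne
  refine hne ?_
  have h2 : ((f ⟨k, hk⟩ : center K) : K) = 1 := congrArg Subtype.val (hf (mem_top _))
  have h3 : k⁻¹ * (b * k * b⁻¹) = 1 := congrArg Subtype.val h2
  rw [inv_mul_eq_one] at h3
  exact (eq_mul_inv_iff_mul_eq.1 h3).symm

end CfsgLib.ClassK.PGV
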