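import Cfsg.Agent.Lib.ClassK.PGVBasic
import Cfsg.Agent.Lib.PLocal.Basic
import Cfsg.Agent.Lib.PLocal.Replace
import Cfsg.Agent.Lib.Coprime.MaschkeAbelian

/-!
Tools for the `P(G,V)`-theorem: fixed spaces, complements, Timmesfeld replacement for a linear action,
diagonal elements fixing `[W, a]`.
-/

set_option autoImplicit false
set_option linter.style.haveILetI false
set_option linter.unusedSectionVars false

namespace CfsgLib.ClassK.PGV

open Subgroup
open scoped commutatorElement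

universe u v

variable {p : ℕ} [Fact p.Prime] {H : Type u} [Group H] {W : Type v} [AddCommGroup W]
  [Module (ZMod p) W]

/-- The fixed space of a set of group elements. -/
def fix (σ : H →* Module.End (ZMod p) W) (S : Set H) : Submodule (ZMod p) W where
  carrier := {w | ∀ b ∈ S, σ b w = w}
  add_mem' {x y} hx hy b hb := by rw [map_add, hx b hb, hy b hb]
  zero_mem' b _ := map_zero _
  smul_mem' c w hw b hb := by rw [map_smul, hw b hb]

theorem mem_fix {σ : H →* Module.End (ZMod p) W} {S : Set H} {w : W} :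
    w ∈ fix σ S ↔ ∀ b ∈ S, σ b w = w := Iff.rfl

theorem card_fix (σ : H →* Module.End (ZMod p) W) (B : Subgroup H) :
    Nat.card ↥(fix σ (B : Set H)) = Nat.card {w : W // ∀ b ∈ B, σ b w = w} := rfl

theorem exists_compl {A X : Subgroup H} [Finite H] (hA : Cfsg.IsElementaryAbelian p A) (hX : X ≤ A) :
    ∃ Y ≤ A, Y ⊓ X = ⊥ ∧ X ⊔ Y = A ∧ Nat.card X * Nat.card Y = Nat.card A := by
  haveI := hA.1
  letI : CommGroup A := { (inferInstance : Group A) with mul_comm := mul_comm' }
  obtain ⟨Y, -, hYX, hsup⟩ := CfsgLib.Coprime.exists_compl_of_exponent (V := A) (p := p) Fact.out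
    (T := ⊤) (W := X.subgroupOf A) (fun t _ => Subtype.ext (by simpa using hA.2 t t.2)) le_top
  have hc : Subgroup.IsComplement' (X.subgroupOf A) Y := by
    refine isComplement'_of_disjoint_and_mul_eq_univ (disjoint_iff.2 (inf_comm Y _ ▸ hYX)) ?_
    rw [← normal_mul, hsup]
    rfl
  refine ⟨Y.map A.subtype, map_subtype_le Y, ?_, ?_, ?_⟩
  · have := congrArg (Subgroup.map A.subtype) hYX
    rwa [map_inf _ _ _ A.subtype_injective, subgroupOf_map_subtype, inf_eq_left.2 hX, Subgroup.map_bot] at this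
  · have := congrArg (Subgroup.map A.subtype) hsup
    rwa [Subgroup.map_sup, subgroupOf_map_subtype, inf_eq_left.2 hX, ← MonoidHom.range_eq_map, range_subtype] at this
  · rw [card_map_of_injective A.subtype_injective,
      ← Nat.card_congr (subgroupOfEquivOfLe hX).toEquiv]
    exact hc.card_mul_card

/-- Timmesfeld replacement for a best offender on a module: a quadratically acting one. -/
theorem timmesfeld_linear [Finite H] [Finite W] (σ : H →* Module.End (ZMod p) W) {A : Subgroup H}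
    (hA : Cfsg.IsElementaryAbelian p A) (hA1 : A ≠ ⊥) (hf : ∀ a ∈ A, σ a = 1 → a = 1)
    (hP : ∀ B : Subgroup H, B ≤ A → Nat.card B * Nat.card ↥(fix σ (B : Set H)) ≤
      Nat.card A * Nat.card ↥(fix σ (A : Set H))) :
    ∃ B ≤ A, B ≠ ⊥ ∧ (∀ b ∈ B, ∀ c ∈ A, σ b * (σ c - 1) = σ c - 1) ∧
      Nat.card W ≤ Nat.card A * Nat.card ↥(fix σ (A : Set H)) ∧
      Nat.card A * Nat.card ↥(fix σ (A : Set H)) ≤ Nat.card B * Nat.card ↥(fix σ (B : Set H)) := by
  classical
  have hW : Nat.card W ≤ Nat.card A * Nat.card ↥(fix σ (A : Set H)) := by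
    have h0 := hP ⊥ bot_le
    rw [Subgroup.card_bot, one_mul] at h0
    refine le_trans (le_of_eq ?_) h0
    refine (Nat.card_congr (Equiv.subtypeUnivEquiv fun w => ?_)).symm
    intro b hb
    rw [mem_bot.1 hb, map_one, Module.End.one_apply]
  let φ : A →* MulAut (Multiplicative W) := MonoidHom.mk' (fun a =>
    { toFun := fun w => Multiplicative.ofAdd (σ a (Multiplicative.toAdd w))
      invFun := fun w => Multiplicative.ofAdd (σ (a : H)⁻¹ (Multiplicative.toAdd w))
      left_inv := fun w => by simp [apply_inv_apply]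
      right_inv := fun w => by simp [apply_apply_inv]
      map_mul' := fun w w' => by simp [toAdd_mul, map_add, ofAdd_add] })
    fun a b => MulEquiv.ext fun w => by simp [Module.End.mul_apply]
  haveI : Finite (Multiplicative W ⋊[φ] A) := Finite.of_equiv _ SemidirectProduct.equivProd.symm
  set ι : Multiplicative W →* Multiplicative W ⋊[φ] A := SemidirectProduct.inl with hι
  set κ : A →* Multiplicative W ⋊[φ] A := SemidirectProduct.inr with hκ
  have hιi : Function.Injective ι := SemidirectProduct.inl_injective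
  have hκi : Function.Injective κ := SemidirectProduct.inr_injective
  set V := ι.range with hVd
  set A' := κ.range with hA'd
  have hconj : ∀ (a : A) (w : W), κ a * ι (Multiplicative.ofAdd w) * (κ a)⁻¹ =
      ι (Multiplicative.ofAdd (σ a w)) := fun a w => by
    rw [hι, hκ, ← map_inv, ← SemidirectProduct.inl_aut]; rfl
  have hV : V ≤ centralizer (V : Set (Multiplicative W ⋊[φ] A)) := by
    rintro _ ⟨x, rfl⟩ _ ⟨y, rfl⟩
    rw [← map_mul, ← map_mul, mul_comm]
  have hAV : A' ≤ normalizer (V : Set (Multiplicative W ⋊[φ] A)) := by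
    haveI : V.Normal := by
      rw [hVd, hι, SemidirectProduct.range_inl_eq_ker_rightHom]; infer_instance
    rw [normalizer_eq_top]
    exact le_top
  have hab : ⁅A', A'⁆ ≤ centralizer (V : Set (Multiplicative W ⋊[φ] A)) := by
    rw [commutator_le]
    rintro _ ⟨x, rfl⟩ _ ⟨y, rfl⟩
    rw [← map_commutatorElement, show ⁅x, y⁆ = 1 from commutatorElement_eq_one_iff_mul_comm.2
      (Subtype.ext (PLocal.elemAb_comm hA x.2 y.2)), map_one]
    exact one_mem _
  have hcard : ∀ B : Subgroup A,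
      Nat.card ↥(V ⊓ centralizer ((B.map κ : Subgroup _) : Set (Multiplicative W ⋊[φ] A))) =
        Nat.card ↥(fix σ ((B.map A.subtype : Subgroup H) : Set H)) := by
    intro B
    have hmem : ∀ w : ↥(fix σ ((B.map A.subtype : Subgroup H) : Set H)),
        ι (Multiplicative.ofAdd (w : W)) ∈
          V ⊓ centralizer ((B.map κ : Subgroup _) : Set (Multiplicative W ⋊[φ] A)) := by
      intro w
      refine ⟨⟨_, rfl⟩, ?_⟩
      rintro _ ⟨a, ha, rfl⟩
      rw [← mul_inv_eq_iff_eq_mul, hconj,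
        show σ (a : H) (w : W) = w from w.2 _ (mem_map_of_mem A.subtype ha)]
    refine (Nat.card_eq_of_bijective (fun w => (⟨_, hmem w⟩ :
      ↥(V ⊓ centralizer ((B.map κ : Subgroup _) : Set (Multiplicative W ⋊[φ] A))))) ⟨?_, ?_⟩).symm
    · intro w w' e
      exact Subtype.ext (Multiplicative.ofAdd.injective (hιi (congrArg Subtype.val e)))
    · rintro ⟨x, ⟨w, rfl⟩, hx⟩
      obtain ⟨w, rfl⟩ := Multiplicative.ofAdd.surjective w
      refine ⟨⟨w, ?_⟩, rfl⟩
      intro b hb
      obtain ⟨a, ha, rfl⟩ := hb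
      have h3 : κ a * ι (Multiplicative.ofAdd w) * (κ a)⁻¹ = ι (Multiplicative.ofAdd w) := by
        rw [mul_inv_eq_iff_eq_mul]; exact hx _ (mem_map_of_mem κ ha)
      rw [hconj] at h3
      exact Multiplicative.ofAdd.injective (hιi h3)
  have hmapA : ∀ B : Subgroup A, Nat.card ↥(B.map κ) = Nat.card ↥(B.map A.subtype) := fun B => by
    rw [card_map_of_injective hκi, card_map_of_injective A.subtype_injective]
  have hA'top : A' = (⊤ : Subgroup A).map κ := MonoidHom.range_eq_map κ
  have hAtop : (⊤ : Subgroup A).map A.subtype = A := by rw [← MonoidHom.range_eq_map, range_subtype]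
  have hmax : ∀ B : Subgroup (Multiplicative W ⋊[φ] A), B ≤ A' →
      Nat.card B * Nat.card ↥(V ⊓ centralizer (B : Set (Multiplicative W ⋊[φ] A))) ≤
        Nat.card A' * Nat.card ↥(V ⊓ centralizer (A' : Set (Multiplicative W ⋊[φ] A))) := by
    intro B hB
    rw [← map_comap_eq_self hB, hA'top, hcard, hcard, hmapA, hmapA, hAtop]
    exact hP _ (map_subtype_le _)
  set X := ⁅V, A'⁆ with hX
  set B₀ := A' ⊓ centralizer (X : Set (Multiplicative W ⋊[φ] A))
  have hT := PLocal.timmesfeld_ineq hV hAV hab hmax (le_refl V)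
  have hXV : X ≤ V := PLocal.commutator_le_of_normalizes hAV le_rfl
  have hle : X ⊔ (V ⊓ centralizer (A' : Set (Multiplicative W ⋊[φ] A))) ≤
      V ⊓ centralizer (B₀ : Set (Multiplicative W ⋊[φ] A)) :=
    sup_le (le_inf hXV (le_centralizer_iff.1 inf_le_right))
      (le_inf inf_le_left (le_trans inf_le_right (centralizer_le inf_le_left)))
  have hT2 := hT.trans (Nat.mul_le_mul_left _ (Subgroup.card_le_of_le hle))
  have hB0 : (B₀.comap κ).map κ = B₀ := map_comap_eq_self inf_le_left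
  have hB0map : Nat.card A * Nat.card ↥(fix σ (A : Set H)) ≤
      Nat.card ↥((B₀.comap κ).map A.subtype) *
        Nat.card ↥(fix σ (((B₀.comap κ).map A.subtype : Subgroup H) : Set H)) := by
    have h2 := hT2
    rw [← hcard, ← hmapA, hB0]
    refine le_trans (le_of_eq ?_) h2
    rw [hA'top, hcard, hmapA, hAtop]
  refine ⟨(B₀.comap κ).map A.subtype, map_subtype_le _, ?_, ?_, hW, hB0map⟩
  · intro e
    have hbot : B₀ = ⊥ := by
      rw [← hB0, (map_eq_bot_iff_of_injective _ A.subtype_injective).1 e, Subgroup.map_bot]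
    have hVW : Nat.card V = Nat.card W := by
      rw [hVd, ← Nat.card_congr (MonoidHom.ofInjective hιi).toEquiv]
      exact Nat.card_congr Multiplicative.toAdd
    have h1 : Nat.card V ≤ Nat.card ↥(X ⊔ (V ⊓ centralizer (A' : Set (Multiplicative W ⋊[φ] A)))) := by
      have h2 := hT
      rw [show A' ⊓ centralizer (X : Set (Multiplicative W ⋊[φ] A)) = ⊥ from hbot, Subgroup.card_bot,
        one_mul] at h2
      refine le_trans ?_ h2
      rw [hVW, hA'top, hcard, hmapA, hAtop]
      exact hW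
    have hVle : V ≤ X ⊔ (V ⊓ centralizer (A' : Set (Multiplicative W ⋊[φ] A))) :=
      (eq_of_le_of_card_ge (sup_le hXV inf_le_left) h1).ge
    have hVp : IsPGroup p V := by
      rintro ⟨_, w, rfl⟩
      refine ⟨1, Subtype.ext ?_⟩
      rw [pow_one, SubmonoidClass.coe_pow, OneMemClass.coe_one, ← map_pow]
      have : w ^ p = 1 := Multiplicative.toAdd.injective (by
        rw [toAdd_pow, toAdd_one, ← Nat.cast_smul_eq_nsmul (ZMod p), ZMod.natCast_self, zero_smul])
      rw [this, map_one]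
    have h0 := PLocal.commutator_eq_bot_of_le_sup hV hVp hAV (fun a ha => by
      obtain ⟨a, rfl⟩ := ha
      rw [← map_pow, show a ^ p = 1 from Subtype.ext (by simpa using hA.2 a a.2), map_one]
      exact one_mem _) hVle
    obtain ⟨⟨a, ha⟩, hne⟩ := ne_bot_iff_exists_ne_one.1 hA1
    refine hne (Subtype.ext (hf a ha (LinearMap.ext fun w => ?_)))
    have h3 : κ ⟨a, ha⟩ * ι (Multiplicative.ofAdd w) * (κ ⟨a, ha⟩)⁻¹ = ι (Multiplicative.ofAdd w) := by
      rw [mul_inv_eq_iff_eq_mul]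
      exact ((commutator_eq_bot_iff_le_centralizer.1 h0 ⟨_, rfl⟩) _ ⟨_, rfl⟩)
    rw [hconj] at h3
    simpa [hι] using hιi h3
  · rintro _ ⟨b, hb, rfl⟩ c hc
    refine LinearMap.ext fun w => ?_
    rw [Module.End.mul_apply]
    have hcom : κ ⟨c, hc⟩ * ι (Multiplicative.ofAdd w) * (κ ⟨c, hc⟩)⁻¹ * (ι (Multiplicative.ofAdd w))⁻¹ ∈ X := by
      rw [hX, commutator_comm]
      exact commutator_mem_commutator ⟨_, rfl⟩ ⟨_, rfl⟩
    rw [hconj, ← map_inv, ← map_mul, ← ofAdd_neg, ← ofAdd_add, ← sub_eq_add_neg] at hcom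
    have h3 : κ b * ι (Multiplicative.ofAdd (σ c w - w)) * (κ b)⁻¹ =
        ι (Multiplicative.ofAdd (σ c w - w)) := by
      rw [mul_inv_eq_iff_eq_mul]
      exact ((mem_comap.1 hb).2 _ hcom).symm
    rw [hconj] at h3
    exact Multiplicative.ofAdd.injective (hιi h3)

theorem noncommProd_two {M : Type*} [Monoid M] {T : Type*} [DecidableEq T] [Fintype T] {x y : T}
    (hxy : x ≠ y) (hu : ∀ t, t = x ∨ t = y) (f : T → M)
    (hc : ((Finset.univ : Finset T) : Set T).Pairwise (Function.onFun Commute f)) :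
    Finset.univ.noncommProd f hc = f x * f y := by
  have e : (Finset.univ : Finset T) = insert x {y} := by
    ext t; simpa using hu t
  exact (Finset.noncommProd_congr e (fun _ _ => rfl) hc).trans
    ((Finset.noncommProd_insert_of_notMem _ _ _ _ (by simpa using hxy)).trans
      (by rw [Finset.noncommProd_singleton]))

theorem diag_two {K : Subgroup H} {a : H} [Fintype (zpowers a)] (ha : a * a = 1) (ha1 : a ≠ 1)
    (h : ∀ t ∈ zpowers a, t ≠ 1 → ∀ k ∈ K, ∀ l ∈ K, Commute k (t * l * t⁻¹)) (k : ↥K) :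
    diag h k = (k : H) * (a * k * a⁻¹) := by
  classical
  rw [diag_apply, noncommProd_two (x := (1 : zpowers a)) (y := ⟨a, mem_zpowers a⟩)
    (fun e => ha1 (congrArg Subtype.val e).symm) (fun t => ?_)]
  · simp
  · obtain ⟨_, i, rfl⟩ := t
    have ha2 : a ^ (2 : ℤ) = 1 := by rw [zpow_two, ha]
    rcases Int.even_or_odd i with ⟨j, rfl⟩ | ⟨j, rfl⟩
    · left; refine Subtype.ext ?_
      show a ^ (j + j) = 1
      rw [← two_mul, zpow_mul, ha2, one_zpow]
    · right; refine Subtype.ext ?_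
      show a ^ (2 * j + 1) = a
      rw [zpow_add, zpow_mul, ha2, one_zpow, one_mul, zpow_one]

/-- The diagonal subgroup over `⟨a⟩` is trivial on `[W, a]` if some element moving `K` and fixing
`[W, a]` normalises `K`. -/
theorem diag_fixes (σ : H →* Module.End (ZMod p) W) {K : Subgroup H} {a b : H} [Fintype (zpowers a)]
    (h : ∀ t ∈ zpowers a, t ≠ 1 → ∀ k ∈ K, ∀ l ∈ K, Commute k (t * l * t⁻¹))
    (hab : a * b = b * a) (hb : ∀ k ∈ K, b * k * b⁻¹ ∈ K)
    (hgen : closure {x : H | ∃ k ∈ K, x = k⁻¹ * (b * k * b⁻¹)} = K)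
    (hfix : σ b * (σ a - 1) = σ a - 1) (k : ↥K) :
    σ (diag h k) * (σ a - 1) = σ a - 1 ∧ (σ a - 1) * σ (diag h k) = σ a - 1 := by
  set n := σ a - 1 with hn
  have hnd : ∀ g, a * g = g * a → n * σ g = σ g * n := fun g hg => by
    rw [hn, sub_mul, mul_sub, one_mul, mul_one, ← map_mul, hg, map_mul]
  have hd : ∀ k, n * σ (diag h k) = σ (diag h k) * n := fun k =>
    hnd _ (diag_commute h (mem_zpowers a) k)
  suffices hall : σ (diag h k) * n = n from ⟨hall, (hd k).trans hall⟩
  let S : Subgroup H :=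
    { carrier := {x | ∃ hx : x ∈ K, σ (diag h ⟨x, hx⟩) * n = n}
      one_mem' := ⟨one_mem K, by rw [show (⟨1, one_mem K⟩ : K) = 1 from rfl, map_one, map_one, one_mul]⟩
      mul_mem' := fun {x y} ⟨hx, ex⟩ ⟨hy, ey⟩ => ⟨mul_mem hx hy, by
        rw [show (⟨x * y, mul_mem hx hy⟩ : K) = ⟨x, hx⟩ * ⟨y, hy⟩ from rfl, map_mul, map_mul, mul_assoc,
          ey, ex]⟩
      inv_mem' := fun {x} ⟨hx, ex⟩ => ⟨inv_mem hx, by
        rw [show (⟨x⁻¹, inv_mem hx⟩ : K) = ⟨x, hx⟩⁻¹ from rfl, map_inv]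
        conv_lhs => rw [← ex, ← mul_assoc, map_inv_mul, one_mul]⟩ }
  suffices hKS : K ≤ S by exact (hKS k.2).elim fun _ e => e
  rw [← hgen, closure_le]
  rintro _ ⟨x, hx, rfl⟩
  refine ⟨mul_mem (inv_mem hx) (hb x hx), ?_⟩
  have hTb : ∀ t ∈ zpowers a, b * t = t * b := by
    rintro _ ⟨i, rfl⟩
    exact ((show Commute a b from hab).symm.zpow_right i).eq
  rw [show (⟨x⁻¹ * (b * x * b⁻¹), mul_mem (inv_mem hx) (hb x hx)⟩ : K) =
    ⟨x, hx⟩⁻¹ * ⟨b * x * b⁻¹, hb x hx⟩ from rfl, map_mul, map_inv,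
    diag_conj h hTb ⟨x, hx⟩ ⟨b * x * b⁻¹, hb x hx⟩ rfl]
  set d := diag h ⟨x, hx⟩
  have hb' : σ b⁻¹ * n = n := by
    conv_lhs => rw [← hfix, ← mul_assoc, map_inv_mul, one_mul]
  calc σ (d⁻¹ * (b * d * b⁻¹)) * n = σ d⁻¹ * (σ b * (σ d * (σ b⁻¹ * n))) := by
        simp only [map_mul, mul_assoc]
    _ = σ d⁻¹ * (σ b * n * σ d) := by rw [hb', ← hd, mul_assoc]
    _ = n := by rw [hfix, hd, ← mul_assoc, map_inv_mul, one_mul]

end CfsgLib.ClassK.PGV
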