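import Cfsg.Agent.Lib.ClassK.PGVTwo
import Cfsg.Agent.Lib.Comp.Components

/-!
The `P(G,V)`-theorem: a best offender normalises every component.
-/

set_option autoImplicit false
set_option linter.style.haveILetI false
set_option linter.unusedSectionVars false
set_option maxHeartbeats 1000000

namespace CfsgLib.ClassK.PGV

open Subgroup
open scoped commutatorElement

universe u v

section Aux

variable {p : ℕ} [Fact p.Prime] {H : Type u} [Group H] {W : Type v} [AddCommGroup W]
  [Module (ZMod p) W]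

theorem mem_normalizer_of_conj [Finite H] {K : Subgroup H} {a : H} (h : ∀ k ∈ K, a * k * a⁻¹ ∈ K) :
    a ∈ normalizer (K : Set H) := by
  have e : K.map (MulAut.conj a).toMonoidHom = K := by
    refine eq_of_le_of_card_ge ?_ ?_
    · rintro _ ⟨k, hk, rfl⟩; exact h k hk
    · rw [card_map_of_injective (MulAut.conj a).injective]
  rw [mem_normalizer_iff]
  intro k
  refine ⟨h k, fun hk => ?_⟩
  rw [← e] at hk
  obtain ⟨k', hk', e'⟩ := hk
  have : k' = k := (MulAut.conj a).injective e'
  exact this ▸ hk'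

theorem conj_mem_of_normalizer {K : Subgroup H} {a : H} (h : a ∈ normalizer (K : Set H)) :
    ∀ k ∈ K, a * k * a⁻¹ ∈ K := fun k hk => (mem_normalizer_iff.1 h k).1 hk

/-- The elements fixing every vector of a subspace. -/
def pointStab (σ : H →* Module.End (ZMod p) W) (U : Submodule (ZMod p) W) : Subgroup H where
  carrier := {g | ∀ w ∈ U, σ g w = w}
  one_mem' w _ := by simp
  mul_mem' {a b} ha hb w hw := by rw [map_mul, Module.End.mul_apply, hb w hw, ha w hw]
  inv_mem' {a} ha w hw := by
    conv_lhs => rw [← ha w hw]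
    exact apply_inv_apply σ a w

theorem apply_eq_of_range_small [Finite W] {J : Type u} [Group J] (μ : J →* Module.End (ZMod p) W)
    (hJ : ⁅(⊤ : Subgroup J), (⊤ : Subgroup J)⁆ = (⊤ : Subgroup J)) (R : Submodule (ZMod p) W)
    (hR : Nat.card R ≤ p) (hinv : ∀ j, ∀ u ∈ R, μ j u ∈ R) : ∀ j, ∀ u ∈ R, μ j u = u := by
  intro j u hu
  by_cases hu0 : u = 0
  · rw [hu0, map_zero]
  have hspan : ∀ x ∈ R, ∃ c : ZMod p, c • u = x := by
    have hb : Function.Bijective (fun c : ZMod p => (⟨c • u, R.smul_mem c hu⟩ : R)) := by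
      haveI : NeZero p := ⟨Nat.Prime.ne_zero Fact.out⟩
      have hi : Function.Injective (fun c : ZMod p => (⟨c • u, R.smul_mem c hu⟩ : R)) := fun c d e =>
        smul_left_injective (ZMod p) hu0 (congrArg Subtype.val e)
      exact hi.bijective_of_nat_card_le (by rw [Nat.card_zmod]; exact hR)
    intro x hx
    obtain ⟨c, hc⟩ := hb.2 ⟨x, hx⟩
    exact ⟨c, congrArg Subtype.val hc⟩
  have h1 := eq_one_of_comm (subRep μ R hinv) hJ (fun k _ l _ => LinearMap.ext fun x => Subtype.ext (by
    obtain ⟨c, hc⟩ := hspan _ (hinv k u hu)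
    obtain ⟨d, hd⟩ := hspan _ (hinv l u hu)
    obtain ⟨e, he⟩ := hspan _ x.2
    simp only [Module.End.mul_apply, subRep_apply, ← he, map_smul, ← hc, ← hd, smul_smul]
    rw [mul_right_comm])) j (mem_top _)
  simpa using congrArg Subtype.val (LinearMap.congr_fun h1 ⟨u, hu⟩)

theorem perfect_of_quasisimple {K : Subgroup H} (hK : Cfsg.IsQuasisimple K) : ⁅K, K⁆ = K := by
  haveI := hK.1
  conv_rhs => rw [← range_subtype K, MonoidHom.range_eq_map, ← Group.IsPerfect.commutator_eq_top (G := K)]
  rw [_root_.commutator_def, map_commutator, ← MonoidHom.range_eq_map, range_subtype]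

theorem eq_one_of_conj_comm (σ : H →* Module.End (ZMod p) W) {K : Subgroup H} (hK : ⁅K, K⁆ = K) {a : H}
    (hN : ∀ k ∈ K, a⁻¹ * k * a ∈ K) (hc : ∀ k ∈ K, ∀ l ∈ K, Commute k (a * l * a⁻¹)) :
    ∀ k ∈ K, σ k = 1 := by
  refine eq_one_of_comm σ hK fun k hk l hl => ?_
  have := hc k hk _ (hN l hl)
  rw [show a * (a⁻¹ * l * a) * a⁻¹ = l by group] at this
  rw [← map_mul, ← map_mul, this.eq]

end Aux

variable {p : ℕ} [Fact p.Prime]

theorem main (n : ℕ) : ∀ (H : Type u) [Group H] [Finite H] (W : Type v) [AddCommGroup W]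
    [Module (ZMod p) W] [Finite W] (σ : H →* Module.End (ZMod p) W) (A K : Subgroup H),
    Nat.card A ≤ n → Cfsg.IsElementaryAbelian p A → Cfsg.IsQuasisimple K →
    (∀ a ∈ A, a ∈ normalizer (K : Set H) ∨ ∀ k ∈ K, ∀ l ∈ K, Commute k (a * l * a⁻¹)) →
    (∀ a ∈ A, σ a = 1 → a = 1) → (∃ k ∈ K, σ k ≠ 1) →
    (∀ B : Subgroup H, B ≤ A → Nat.card B * Nat.card ↥(fix σ (B : Set H)) ≤
      Nat.card A * Nat.card ↥(fix σ (A : Set H))) →
    A ≤ normalizer (K : Set H) := by
  induction n with
  | zero => intro H _ _ W _ _ _ σ A K hn; exact absurd hn (not_le.2 Nat.card_pos)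
  | succ n ih =>
    intro H _ _ W _ _ _ σ A K hn hA hKq hconj hf hK1 hP
    classical
    have hKp := perfect_of_quasisimple hKq
    by_cases hA1 : A = ⊥
    · rw [hA1]; exact bot_le
    have hcomm : ∀ {x y}, x ∈ A → y ∈ A → x * y = y * x := fun hx hy => PLocal.elemAb_comm hA hx hy
    have hexcl : ∀ a, a ∈ normalizer (K : Set H) → ¬∀ k ∈ K, ∀ l ∈ K, Commute k (a * l * a⁻¹) := by
      intro a ha hc
      obtain ⟨k, hk, hk1⟩ := hK1
      refine hk1 (eq_one_of_conj_comm σ hKp (fun l hl => ?_) hc k hk)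
      simpa using conj_mem_of_normalizer (inv_mem ha) l hl
    by_cases hT : A ⊓ centralizer (K : Set H) ≠ ⊥
    · -- descend to the fixed points of `C_A(K)`
      set T := A ⊓ centralizer (K : Set H)
      set H' := centralizer (T : Set H)
      have hAH : A ≤ H' := fun a ha t ht => hcomm ht.1 ha
      have hKH : K ≤ H' := fun k hk t ht => (ht.2 k hk).symm
      set U := fix σ (T : Set H)
      have hU : ∀ h : H', ∀ u ∈ U, (σ.comp H'.subtype) h u ∈ U := fun h u hu t ht => by
        show σ t (σ (h : H) u) = σ (h : H) u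
        rw [← Module.End.mul_apply, ← map_mul, h.2 t ht, map_mul, Module.End.mul_apply, hu t ht]
      let σ' := subRep (σ.comp H'.subtype) U hU
      have hne : ∃ k ∈ K, ∃ w ∈ U, σ k w ≠ w := by
        by_contra hcon
        obtain ⟨k₀, hk₀, hk₁⟩ := hK1
        refine hk₁ (eq_one_of_fixed (T := T) σ hKp ((PLocal.elemAb_isPGroup hA).to_le inf_le_left)
          (fun k hk t ht => ?_) (fun w hw k hk => ?_) k₀ hk₀)
        · rw [← map_mul, ← map_mul, ht.2 k hk]
        · by_contra h1; exact hcon ⟨k, hk, w, hw, h1⟩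
      set A0 := A ⊓ pointStab σ U
      have hTA0 : T ≤ A0 := le_inf inf_le_left fun t ht w hw => hw t ht
      have hA0N : A0 ≤ normalizer (K : Set H) := by
        intro a ha
        refine (hconj a ha.1).resolve_right fun hc => ?_
        obtain ⟨k, hk, w, hw, hkw⟩ := hne
        refine hkw ?_
        have h1 := eq_one_of_comm σ' (perfect_subgroupOf hKp hKH) (fun x hx y hy => ?_) ⟨k, hKH hk⟩ hk
        · exact congrArg Subtype.val (LinearMap.congr_fun h1 ⟨w, hw⟩)
        refine LinearMap.ext fun u => Subtype.ext ?_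
        have e : ∀ v ∈ U, σ (a * (y : H) * a⁻¹) v = σ (y : H) v := fun v hv => by
          rw [map_mul, map_mul, Module.End.mul_apply, Module.End.mul_apply,
            (inv_mem ha.2 : a⁻¹ ∈ pointStab σ U) v hv]
          exact (ha.2 : a ∈ pointStab σ U) _ (hU y v hv)
        show σ (x : H) (σ (y : H) u) = σ (y : H) (σ (x : H) u)
        have e2 := e (σ (x : H) (u : W)) (hU x u u.2)
        rw [← e2, ← e u u.2, ← Module.End.mul_apply, ← map_mul, (hc x hx y hy).eq, map_mul]
        rfl
      obtain ⟨A', hA'A, hA'0, hsup, hcardA⟩ := exists_compl hA (inf_le_left : A0 ≤ A)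
      suffices hA'N : A' ≤ normalizer (K : Set H) by rw [← hsup]; exact sup_le hA0N hA'N
      have hA'H := hA'A.trans hAH
      have hsmall : Nat.card A' ≤ n := by
        have h2 : 1 < Nat.card A0 := by
          haveI : Nontrivial A0 := (nontrivial_iff_ne_bot _).2 fun e => hT (le_bot_iff.1 (e ▸ hTA0))
          exact Finite.one_lt_card
        have h3 : 0 < Nat.card A' := Nat.card_pos
        nlinarith
      have hrec := ih H' U σ' (A'.subgroupOf H') (K.subgroupOf H')
        (by rw [Nat.card_congr (subgroupOfEquivOfLe hA'H).toEquiv]; exact hsmall)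
        (PLocal.elemAb_comap_of_injective H'.subtype_injective (PLocal.elemAb_mono hA hA'A))
        (Comp.isQuasisimple_congr (subgroupOfEquivOfLe hKH).symm hKq) (fun a ha => ?_) (fun a ha e => ?_)
        ?_ (fun B hB => ?_)
      · intro a ha
        have h1 : (⟨a, hA'H ha⟩ : H') ∈ normalizer ((K.subgroupOf H' : Subgroup H') : Set H') := hrec ha
        refine mem_normalizer_of_conj fun k hk => ?_
        exact conj_mem_of_normalizer h1 ⟨k, hKH hk⟩ hk
      · rcases hconj a (hA'A ha) with h1 | h1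
        · exact Or.inl (mem_normalizer_of_conj fun k hk => conj_mem_of_normalizer h1 k hk)
        · exact Or.inr fun k hk l hl => Subtype.ext (h1 k hk l hl).eq
      · refine Subtype.ext (mem_bot.1 (hA'0 ▸ ⟨ha, hA'A ha, fun w hw => ?_⟩))
        exact congrArg Subtype.val (LinearMap.congr_fun e ⟨w, hw⟩)
      · obtain ⟨k, hk, w, hw, hkw⟩ := hne
        exact ⟨⟨k, hKH hk⟩, hk, fun e => hkw (congrArg Subtype.val (LinearMap.congr_fun e ⟨w, hw⟩))⟩
      set Bh := B.map H'.subtype
      have hBh : Bh ≤ A' := by rintro _ ⟨b, hb, rfl⟩; exact hB hb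
      have hBh0 : Bh ⊓ A0 = ⊥ := le_bot_iff.1 (hA'0 ▸ inf_le_inf_right A0 hBh)
      have h1 := hP (Bh ⊔ A0) (sup_le (hBh.trans hA'A) inf_le_left)
      have h2 := PLocal.card_mul_le_card_sup_mul_inf Bh A0
      rw [hBh0, Subgroup.card_bot, mul_one] at h2
      have h3 : Nat.card ↥(fix σ' (B : Set H')) ≤ Nat.card ↥(fix σ ((Bh ⊔ A0 : Subgroup H) : Set H)) := by
        refine Nat.card_le_card_of_injective (fun w => ⟨(w.1 : W), ?_⟩) fun w w' e =>
          Subtype.ext (Subtype.ext (congrArg (fun z => (z.1 : W)) e))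
        intro g hg
        have : Bh ⊔ A0 ≤ pointStab σ (Submodule.span (ZMod p) {(w.1 : W)}) := by
          refine sup_le ?_ ?_
          · rintro _ ⟨b, hb, rfl⟩ v hv
            obtain ⟨c, rfl⟩ := Submodule.mem_span_singleton.1 hv
            rw [map_smul]
            exact congrArg (c • ·) (congrArg Subtype.val (w.2 b hb))
          · intro g hg v hv
            obtain ⟨c, rfl⟩ := Submodule.mem_span_singleton.1 hv
            rw [map_smul, (hg.2 : g ∈ pointStab σ U) _ w.1.2]
        exact this hg _ (Submodule.mem_span_singleton_self _)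
      have h4 : Nat.card ↥(fix σ (A : Set H)) ≤
          Nat.card ↥(fix σ' ((A'.subgroupOf H' : Subgroup H') : Set H')) := by
        refine Nat.card_le_card_of_injective (fun w => ⟨⟨(w : W), fun t ht => w.2 t ht.1⟩,
          fun b hb => Subtype.ext (w.2 _ (hA'A hb))⟩) fun w w' e =>
          Subtype.ext (congrArg (fun z => ((z.1 : U) : W)) e)
      rw [Nat.card_congr (subgroupOfEquivOfLe hA'H).toEquiv,
        ← card_map_of_injective (K := B) H'.subtype_injective]
      refine Nat.le_of_mul_le_mul_right ?_ (Nat.card_pos (α := A0))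
      calc Nat.card Bh * Nat.card ↥(fix σ' (B : Set H')) * Nat.card A0
          = Nat.card Bh * Nat.card A0 * Nat.card ↥(fix σ' (B : Set H')) := by ring
        _ ≤ Nat.card ↥(Bh ⊔ A0) * Nat.card ↥(fix σ ((Bh ⊔ A0 : Subgroup H) : Set H)) := Nat.mul_le_mul h2 h3
        _ ≤ Nat.card A * Nat.card ↥(fix σ (A : Set H)) := h1
        _ ≤ Nat.card A0 * Nat.card A' * Nat.card ↥(fix σ' ((A'.subgroupOf H' : Subgroup H') : Set H')) := by
          rw [hcardA]; exact Nat.mul_le_mul_left _ h4
        _ = _ := by ring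
    -- every element of `A` moves `K`
    rw [not_not] at hT
    have hmoves : ∀ b ∈ A, b ≠ 1 → ∃ k ∈ K, b * k ≠ k * b := by
      intro b hb hb1
      by_contra hcon
      simp only [not_exists, not_and, not_not] at hcon
      exact hb1 (mem_bot.1 (hT ▸ ⟨hb, fun k hk => (hcon k hk).symm⟩))
    obtain ⟨B, hBA, hB1, hBq, hWA, hAB⟩ := timmesfeld_linear σ hA hA1 hf hP
    have hBrec : B ≠ A → B ≤ normalizer (K : Set H) := by
      intro hne
      refine ih H W σ B K ?_ (PLocal.elemAb_mono hA hBA) hKq (fun a ha => hconj a (hBA ha))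
        (fun a ha => hf a (hBA ha)) hK1 fun B' hB' => (hP B' (hB'.trans hBA)).trans hAB
      have : Nat.card B < Nat.card A := lt_of_not_ge fun h => hne (eq_of_le_of_card_ge hBA h)
      omega
    intro a haA
    by_contra haN
    have hdef : ∀ x ∈ A, x ∉ normalizer (K : Set H) → ∀ k ∈ K, ∀ l ∈ K, Commute k (x * l * x⁻¹) :=
      fun x hx hxN => (hconj x hx).resolve_left hxN
    have hord : ∀ x ∈ A, x ≠ 1 → orderOf x = p := fun x hx hx1 => orderOf_eq_prime (hA.2 x hx) hx1
    have hne1 : ∀ x, x ∉ normalizer (K : Set H) → x ≠ 1 := fun x hx e => hx (e ▸ one_mem _)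
    have hpair : ∀ x ∈ A, x ∉ normalizer (K : Set H) →
        ∀ t ∈ zpowers x, t ≠ 1 → ∀ k ∈ K, ∀ l ∈ K, Commute k (t * l * t⁻¹) := by
      intro x hx hxN t ht ht1
      refine hdef t (zpowers_le.2 hx ht) fun htN => hxN ?_
      have he : zpowers t = zpowers x := eq_of_le_of_card_ge (zpowers_le.2 ht) (by
        rw [Nat.card_zpowers, Nat.card_zpowers, hord x hx (hne1 x hxN),
          hord t (zpowers_le.2 hx ht) ht1])
      exact (zpowers_le.2 htN) (he ▸ mem_zpowers x)
    have ha1 := hne1 a haN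
    have hcA := hpair a haA haN
    obtain ⟨k₀, hk₀, hk₀1⟩ := hK1
    set B1 := B ⊓ normalizer (K : Set H)
    by_cases hB11 : B1 = ⊥
    · -- no element of `A` normalises `K`
      have hBA' : B = A := by
        by_contra hne
        exact hB1 (le_bot_iff.1 (hB11 ▸ le_inf le_rfl (hBrec hne)))
      subst hBA'
      obtain ⟨Y, hYA, hYd, hYsup, hcardY⟩ := exists_compl hA (zpowers_le.2 haA)
      have hAdiag : ∀ t ∈ B, t ≠ 1 → ∀ k ∈ K, ∀ l ∈ K, Commute k (t * l * t⁻¹) := fun t ht ht1 =>
        hdef t ht fun hN => ht1 (mem_bot.1 (hB11 ▸ ⟨ht, hN⟩))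
      haveI : Fintype Y := Fintype.ofFinite _
      haveI : Fintype B := Fintype.ofFinite _
      have hYdiag : ∀ t ∈ Y, t ≠ 1 → ∀ k ∈ K, ∀ l ∈ K, Commute k (t * l * t⁻¹) :=
        fun t ht => hAdiag t (hYA ht)
      set K' := (diag hYdiag).range
      have hK'p : ⁅K', K'⁆ = K' := diag_range_perfect hYdiag hKp
      set H' := centralizer (Y : Set H)
      have hK'H : K' ≤ H' := by
        rintro _ ⟨k, rfl⟩ y hy
        exact diag_commute hYdiag hy k
      have haH : a ∈ H' := fun y hy => hcomm (hYA hy) haA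
      set U := fix σ (Y : Set H)
      have hU : ∀ h : H', ∀ u ∈ U, (σ.comp H'.subtype) h u ∈ U := fun h u hu t ht => by
        show σ t (σ (h : H) u) = σ (h : H) u
        rw [← Module.End.mul_apply, ← map_mul, h.2 t ht, map_mul, Module.End.mul_apply, hu t ht]
      let σ' := subRep (σ.comp H'.subtype) U hU
      set a' : H' := ⟨a, haH⟩
      haveI : Fintype (zpowers a') := Fintype.ofFinite _
      have hK'pp : ⁅K'.subgroupOf H', K'.subgroupOf H'⁆ = K'.subgroupOf H' := perfect_subgroupOf hK'p hK'H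
      have hU' : Nat.card U ≤ p * Nat.card ↥(fix σ' {a'}) := by
        have h1 := hP Y hYA
        have h2 : Nat.card ↥(fix σ (B : Set H)) ≤ Nat.card ↥(fix σ' {a'}) := by
          refine Nat.card_le_card_of_injective (fun w => ⟨⟨(w : W), fun t ht => w.2 t (hYA ht)⟩,
            fun b hb => by rw [Set.mem_singleton_iff.1 hb]; exact Subtype.ext (w.2 _ haA)⟩) fun w w' e =>
            Subtype.ext (congrArg (fun z => ((z.1 : U) : W)) e)
        rw [← hcardY, Nat.card_zpowers, hord a haA ha1] at h1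
        refine Nat.le_of_mul_le_mul_left (le_trans h1 ?_) (Nat.card_pos (α := Y))
        calc p * Nat.card Y * Nat.card ↥(fix σ (B : Set H)) ≤ p * Nat.card Y * Nat.card ↥(fix σ' {a'}) :=
              Nat.mul_le_mul_left _ h2
          _ = _ := by ring
      have hK'c : ∀ t ∈ zpowers a', t ≠ 1 → ∀ k ∈ K'.subgroupOf H', ∀ l ∈ K'.subgroupOf H',
          Commute k (t * l * t⁻¹) := by
        rintro t ht ht1 k ⟨k₁, hk₁⟩ l ⟨l₁, hl₁⟩
        refine Subtype.ext (show Commute (k : H) ((t : H) * l * (t : H)⁻¹) from ?_).eq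
        have htA : (t : H) ∈ zpowers a := by
          obtain ⟨i, rfl⟩ := ht; exact ⟨i, by simp [a']⟩
        change diag hYdiag k₁ = (k : H) at hk₁
        change diag hYdiag l₁ = (l : H) at hl₁
        rw [← hk₁, ← hl₁, show (t : H) * diag hYdiag l₁ * (t : H)⁻¹ =
          (MulAut.conj (t : H)).toMonoidHom (diag hYdiag l₁) from rfl, diag_apply, diag_apply,
          Finset.map_noncommProd]
        refine Finset.noncommProd_commute _ _ _ _ fun y hy => (Commute.symm ?_)
        refine Finset.noncommProd_commute _ _ _ _ fun y' hy' => ?_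
        show Commute ((MulAut.conj (t : H)) ((y : H) * l₁ * (y : H)⁻¹)) ((y' : H) * k₁ * (y' : H)⁻¹)
        have htB : (t : H) ∈ B := zpowers_le.2 haA htA
        have hne : (⟨(t : H) * y, mul_mem htB (hYA y.2)⟩ : B) ≠ ⟨y', hYA y'.2⟩ := by
          intro e
          have e' : (t : H) * y = y' := congrArg Subtype.val e
          refine ht1 (Subtype.ext (mem_bot.1 (hYd ▸ ⟨show (t : H) ∈ Y from ?_, htA⟩)))
          rw [show (t : H) = (y' : H) * (y : H)⁻¹ by rw [← e']; group]
          exact mul_mem y'.2 (inv_mem y.2)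
        simpa [mul_assoc] using diag_pairwise (T := B) hAdiag _ _ hne l₁ k₁ l₁.2 k₁.2
      have hn' : ∀ k : ↥(K'.subgroupOf H'),
          σ' (diag hK'c k) * (σ' a' - 1) = σ' a' - 1 := by
        intro k
        set nn := σ' a' - 1 with hnn
        have hcn : ∀ j, σ' (diag hK'c j) * nn = nn * σ' (diag hK'c j) := fun j => by
          rw [hnn, sub_mul, mul_sub, one_mul, mul_one, ← map_mul, ← map_mul,
            diag_commute hK'c (mem_zpowers a')]
        have hR : Nat.card ↥(LinearMap.range nn) ≤ p := by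
          have h1 : Nat.card U = Nat.card ↥(LinearMap.ker nn) * Nat.card ↥(LinearMap.range nn) := by
            rw [Submodule.card_eq_card_quotient_mul_card (LinearMap.ker nn),
              Nat.card_congr nn.quotKerEquivRange.toEquiv]
          have h2 : Nat.card ↥(LinearMap.ker nn) = Nat.card ↥(fix σ' {a'}) :=
            Nat.card_congr (Equiv.subtypeEquivRight fun w => by
              simp [mem_fix, hnn, LinearMap.mem_ker, sub_eq_zero])
          rw [h2] at h1
          rw [h1, mul_comm p] at hU'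
          exact Nat.le_of_mul_le_mul_left hU' Nat.card_pos
        refine LinearMap.ext fun w => ?_
        rw [Module.End.mul_apply]
        exact apply_eq_of_range_small (σ'.comp (diag hK'c)) (by
            apply map_injective (K'.subgroupOf H').subtype_injective
            rw [map_commutator, ← MonoidHom.range_eq_map, range_subtype]
            exact hK'pp)
          (LinearMap.range nn) hR (fun j u ⟨x, hx⟩ => ⟨σ' (diag hK'c j) x, by
            rw [← hx, ← Module.End.mul_apply, ← hcn, Module.End.mul_apply]; rfl⟩) k _ ⟨w, rfl⟩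
      have hK'0 : ∀ k ∈ K'.subgroupOf H', σ' k = 1 := by
        by_cases hp2 : p = 2
        · subst hp2
          have haa : a' * a' = 1 := Subtype.ext (by simpa [sq] using hA.2 a haA)
          have ha'1 : a' ≠ 1 := fun e => ha1 (congrArg Subtype.val e)
          refine two_small σ' (B := ⊥) hK'pp haa (fun k hk l hl => hK'c a' (mem_zpowers a') ha'1 k hk l hl)
            (fun b hb => by simp [mem_bot.1 hb]) (fun b hb k hk => by simpa [mem_bot.1 hb] using hk)
            (fun b hb hb1 => absurd (mem_bot.1 hb) hb1) (fun k hk => ?_)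
            (fun b hb => by simp [mem_bot.1 hb]) (fun b hb c hc => by simp [mem_bot.1 hb]) (Or.inl ?_)
          · have h1 := hn' ⟨k, hk⟩
            rw [diag_two haa ha'1 hK'c, map_mul] at h1
            refine ⟨h1, ?_⟩
            conv_rhs => rw [← h1]
            rw [mul_sub, sub_mul, mul_one, one_mul, ← map_mul, ← map_mul, ← map_mul, ← diag_two haa ha'1 hK'c
              ⟨k, hk⟩, diag_commute hK'c (mem_zpowers a')]
          · have := Nat.card_pos (α := ↥(fix σ' {a'}))
            omega
        · exact odd_trivial hp2 σ' hK'pp (by rw [Subgroup.orderOf_mk]; exact hord a haA ha1) hK'c hn'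
      have hK'W := eq_one_of_fixed σ hK'p ((PLocal.elemAb_isPGroup hA).to_le hYA) (fun k hk t ht => by
          rw [← map_mul, ← map_mul]; exact (congrArg σ (hK'H hk t ht)).symm) (fun w hw k hk =>
          congrArg Subtype.val (LinearMap.congr_fun (hK'0 ⟨k, hK'H hk⟩ hk) (⟨w, hw⟩ : U)))
      refine hk₀1 (eq_one_of_comm σ hKp (fun k hk l hl => ?_) k₀ hk₀)
      obtain ⟨R, hR, hcm⟩ := diag_eq hYdiag ⟨k, hk⟩
      have h1 : σ k * σ R = 1 := by
        rw [← map_mul]
        exact hR ▸ hK'W _ ⟨_, rfl⟩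
      have e : σ k = σ R⁻¹ := by
        calc σ k = σ k * (σ R * σ R⁻¹) := by rw [map_mul_inv, mul_one]
          _ = _ := by rw [← mul_assoc, h1, one_mul]
      rw [e, ← map_mul, ← map_mul, ((hcm l hl).inv_right).eq]
    -- some element of `B` normalises `K`
    obtain ⟨⟨b, hbB1⟩, hb1⟩ := ne_bot_iff_exists_ne_one.1 hB11
    have hb1' : b ≠ 1 := fun e => hb1 (Subtype.ext e)
    have hbA : b ∈ A := hBA hbB1.1
    have hgen : ∀ c ∈ B1, c ≠ 1 → closure {x : H | ∃ k ∈ K, x = k⁻¹ * (c * k * c⁻¹)} = K :=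
      fun c hc hc1 => closure_comm_eq hKq (conj_mem_of_normalizer hc.2) (hmoves c (hBA hc.1) hc1)
    have hfixb : ∀ c ∈ B, ∀ x ∈ A, σ c * (σ x - 1) = σ x - 1 ∧ (σ x - 1) * σ c = σ x - 1 := by
      intro c hc x hx
      refine ⟨hBq c hc x hx, ?_⟩
      rw [sub_mul, one_mul, ← map_mul, hcomm hx (hBA hc), map_mul]
      conv_lhs => arg 2; rw [← mul_one (σ c)]
      rw [← mul_sub]
      exact hBq c hc x hx
    have hdf : ∀ x ∈ A, ∀ (hxN : x ∉ normalizer (K : Set H)) (hx : x ∈ A) [Fintype (zpowers x)],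
        ∀ k : ↥K, σ (diag (hpair x hx hxN) k) * (σ x - 1) = σ x - 1 ∧
          (σ x - 1) * σ (diag (hpair x hx hxN) k) = σ x - 1 := fun x _ hxN hx _ k =>
      diag_fixes σ (hpair x hx hxN) (hcomm hx hbA) (conj_mem_of_normalizer hbB1.2)
        (hgen b hbB1 hb1') (hfixb b hbB1.1 x hx).1 k
    haveI : Fintype (zpowers a) := Fintype.ofFinite _
    by_cases hp2 : p = 2
    swap
    · exact hk₀1 (odd_trivial hp2 σ hKp (hord a haA ha1) hcA (fun k => (hdf a haA haN haA k).1) k₀ hk₀)
    subst hp2
    have hsq : ∀ x ∈ A, x * x = 1 := fun x hx => by rw [← sq]; exact hA.2 x hx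
    have hd2 : ∀ x ∈ A, x ∉ normalizer (K : Set H) → ∀ k ∈ K,
        σ (k * (x * k * x⁻¹)) * (σ x - 1) = σ x - 1 ∧ (σ x - 1) * σ (k * (x * k * x⁻¹)) = σ x - 1 := by
      intro x hx hxN k hk
      haveI : Fintype (zpowers x) := Fintype.ofFinite _
      have := hdf x hx hxN hx ⟨k, hk⟩
      rwa [diag_two (hsq x hx) (hne1 x hxN)] at this
    by_cases he : ∃ e ∈ A, e ∉ normalizer (K : Set H) ∧ a * e ∉ normalizer (K : Set H)
    · obtain ⟨e, heA, heN, haeN⟩ := he
      exact hk₀1 (two_moving σ hKp (hsq a haA) (hsq e heA) (hcomm haA heA) (hdef a haA haN)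
        (hdef e heA heN) (hdef _ (mul_mem haA heA) haeN) (fun k hk => (hd2 e heA heN k hk).1)
        (fun k hk => (hd2 a haA haN k hk).2) k₀ hk₀)
    simp only [not_exists, not_and, not_not] at he
    have hB2 : Nat.card B ≤ 2 * Nat.card B1 := by
      by_cases hne : B = A
      · have hg : ∀ e : B, (e : H) ∉ normalizer (K : Set H) → a * e ∈ B1 := fun e heN =>
          ⟨mul_mem (hne.ge haA) e.2, he e (hBA e.2) heN⟩
        let g : B → Bool × B1 := fun e =>
          if h : (e : H) ∈ normalizer (K : Set H) then (true, ⟨e, e.2, h⟩) else (false, ⟨a * e, hg e h⟩)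
        have hgi : Function.Injective g := by
          intro x y e
          simp only [g] at e
          refine Subtype.ext ?_
          split_ifs at e with h1 h2 h2
          · exact congrArg (fun z : Bool × B1 => (z.2 : H)) e
          · exact absurd (congrArg Prod.fst e) (by simp)
          · exact absurd (congrArg Prod.fst e) (by simp)
          · exact mul_left_cancel (congrArg (fun z : Bool × B1 => (z.2 : H)) e)
        have := Nat.card_le_card_of_injective g hgi
        simpa [Nat.card_prod] using this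
      · have : B1 = B := inf_eq_left.2 (hBrec hne)
        rw [this]; omega
    have hquad : ∀ c ∈ B1, ∀ d ∈ B1, (σ c - 1) * (σ d - 1) = 0 := fun c hc d hd => by
      rw [sub_mul, one_mul, hBq c hc.1 d (hBA hd.1), sub_self]
    refine hk₀1 (two_small σ hKp (hsq a haA) (hdef a haA haN) (fun c (hc : c ∈ B1) => hcomm haA (hBA hc.1))
      (fun c (hc : c ∈ B1) => conj_mem_of_normalizer hc.2) hgen (fun k hk => ?_) (fun c hc => hfixb c hc.1 a haA) hquad
      (Or.inr ⟨hB11, ?_⟩) k₀ hk₀)
    · rw [← map_mul]; exact hd2 a haA haN k hk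
    · have h1 : Nat.card ↥(fix σ (B : Set H)) ≤ Nat.card ↥(fix σ (B1 : Set H)) :=
        Nat.card_le_card_of_injective (fun w => ⟨w.1, fun g hg => w.2 g hg.1⟩) fun w w' e =>
          Subtype.ext (congrArg (fun z => (z.1 : W)) e)
      calc Nat.card W ≤ Nat.card B * Nat.card ↥(fix σ (B : Set H)) := hWA.trans hAB
        _ ≤ 2 * Nat.card B1 * Nat.card ↥(fix σ (B1 : Set H)) := Nat.mul_le_mul hB2 h1
        _ < _ := by
          have := Nat.mul_pos (Nat.card_pos (α := B1)) (Nat.card_pos (α := ↥(fix σ (B1 : Set H))))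
          rw [mul_assoc, mul_assoc]; omega

end CfsgLib.ClassK.PGV
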