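import Cfsg.Agent.Lib.ClassK.PGVFix
import Mathlib.Algebra.CharP.Lemmas
import Mathlib.Algebra.Polynomial.AlgebraMap

/-!
Odd `p`: if the diagonal subgroup over `⟨a⟩` of `K` fixes `[W, a]`, then `K` is trivial.
-/

set_option autoImplicit false
set_option linter.style.haveILetI false
set_option linter.unusedSectionVars false

namespace CfsgLib.ClassK.PGV

open Subgroup
open scoped commutatorElement

universe u v

variable {p : ℕ} [Fact p.Prime] {H : Type u} [Group H] {W : Type v} [AddCommGroup W]
  [Module (ZMod p) W]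

theorem invariant_of_gens [Finite W] (σ : H →* Module.End (ZMod p) W) {S : Set H} (hS : closure S = ⊤)
    {U : Submodule (ZMod p) W} (h : ∀ s ∈ S, ∀ u ∈ U, σ s u ∈ U) : ∀ g, ∀ u ∈ U, σ g u ∈ U := by
  intro g
  induction (show g ∈ closure S by rw [hS]; trivial) using closure_induction with
  | mem x hx => exact h x hx
  | one => intro u hu; simpa using hu
  | mul x y _ _ hx hy => intro u hu; rw [map_mul, Module.End.mul_apply]; exact hx _ (hy u hu)
  | inv x _ hx =>
    intro u hu
    have hbij : Function.Surjective (fun w : U => (⟨σ x w, hx w w.2⟩ : U)) :=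
      Finite.surjective_of_injective fun w w' e => Subtype.ext (by
        have := congrArg (fun z : U => σ x⁻¹ z) e
        simpa [apply_inv_apply] using this)
    obtain ⟨w, hw⟩ := hbij ⟨u, hu⟩
    have hw' : σ x w = u := congrArg Subtype.val hw
    rw [← hw', apply_inv_apply]; exact w.2

/-- A perfect group whose commutators in the endomorphism ring commute is trivial, `p` odd. -/
theorem eq_one_of_comm_commutators (hp2 : p ≠ 2) {J : Type u} [Group J] {V : Type v} [AddCommGroup V]
    [Module (ZMod p) V] [Finite V] (τ : J →* Module.End (ZMod p) V)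
    (hJ : ⁅(⊤ : Subgroup J), (⊤ : Subgroup J)⁆ = (⊤ : Subgroup J))
    (hc : ∀ k l k' l' : J, Commute (τ (k * l) - τ (l * k)) (τ (k' * l') - τ (l' * k'))) :
    ∀ k, τ k = 1 := by
  intro g
  refine sections_induction (p := p) hJ
    (fun X _ _ μ => ∀ k l k' l' : J, Commute (μ (k * l) - μ (l * k)) (μ (k' * l') - μ (l' * k')))
    ?_ ?_ ?_ V τ hc g (mem_top g)
  · intro X _ _ _ μ h U hU k l k' l'
    refine LinearMap.ext fun u => Subtype.ext ?_
    have := LinearMap.congr_fun (h k l k' l').eq (u : X)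
    simpa using this
  · intro X _ _ _ μ h U hU k l k' l'
    refine LinearMap.ext fun u => ?_
    obtain ⟨x, rfl⟩ := Submodule.Quotient.mk_surjective U u
    have := congrArg (Submodule.Quotient.mk (p := U)) (LinearMap.congr_fun (h k l k' l').eq x)
    simpa using this
  intro X _ _ _ μ h hirr
  refine eq_one_of_comm μ hJ fun k _ l _ => sub_eq_zero.1 ?_
  rw [← map_mul, ← map_mul]
  -- every commutator is central
  have hcen : ∀ k l g : J, (μ (k * l) - μ (l * k)) * μ g = μ g * (μ (k * l) - μ (l * k)) := by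
    intro k l g
    set c := μ (k * l) - μ (l * k) with hcd
    let D : J → Module.End (ZMod p) X := fun g => c * μ g - μ g * c
    have hD : ∀ g, D g = (μ (k * l * g) - μ (g * (k * l))) - (μ (l * k * g) - μ (g * (l * k))) := by
      intro g
      show c * μ g - μ g * c = _
      simp only [hcd, sub_mul, mul_sub, map_mul, mul_assoc]
      abel
    have hcD : ∀ g, c * D g = D g * c := fun g => by
      rw [hD]
      exact ((h k l (k * l) g).sub_right (h k l (l * k) g)).eq
    have hder : ∀ g g', D (g * g') = D g * μ g' + μ g * D g' := fun g g' => by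
      show c * μ (g * g') - μ (g * g') * c = (c * μ g - μ g * c) * μ g' + μ g * (c * μ g' - μ g' * c)
      simp only [map_mul, sub_mul, mul_sub, mul_assoc]
      abel
    have hDD : ∀ g g', D g * D g' = 0 := by
      intro g g'
      have e := hcD (g * g')
      rw [hder, mul_add, add_mul, ← mul_assoc c (D g), hcD g, mul_assoc (μ g) (D g') c, ← hcD g',
        mul_assoc (D g), ← mul_assoc c (μ g)] at e
      have e2 : c * μ g = D g + μ g * c := by show _ = c * μ g - μ g * c + μ g * c; abel
      have e3 : c * μ g' = D g' + μ g' * c := by show _ = c * μ g' - μ g' * c + μ g' * c; abel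
      rw [e2, e3, mul_add, add_mul, mul_assoc (D g) (μ g') c, mul_assoc (μ g) c] at e
      have e4 : D g * D g' + D g * D g' = 0 := by
        have := sub_eq_zero.2 e
        rw [← this]; abel
      rw [← two_nsmul, ← Nat.cast_smul_eq_nsmul (ZMod p)] at e4
      refine (smul_eq_zero.1 e4).resolve_left fun e5 => hp2 ?_
      rw [ZMod.natCast_eq_zero_iff] at e5 <;> exact (Nat.prime_dvd_prime_iff_eq Fact.out Nat.prime_two).1 e5
    have hDyD : ∀ g y g', D g * μ y * D g' = 0 := fun g y g' => by
      have e := hDD g (y * g')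
      rw [hder, mul_add, ← mul_assoc, hDD, zero_mul, zero_add, ← mul_assoc] at e
      exact e
    show c * μ g = μ g * c
    rw [← sub_eq_zero]
    show D g = 0
    by_contra hne
    let Y : Submodule (ZMod p) X :=
      { carrier := {v | ∀ y, D g (μ y v) = 0}
        add_mem' := fun {x y} hx hy z => by rw [map_add, map_add, hx z, hy z, add_zero]
        zero_mem' := fun z => by rw [map_zero, map_zero]
        smul_mem' := fun t v hv z => by rw [map_smul, map_smul, hv z, smul_zero] }
    rcases hirr Y (fun j v hv z => by rw [← Module.End.mul_apply (μ z), ← map_mul]; exact hv _) with e | e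
    · refine hne (LinearMap.ext fun v => ?_)
      have hm : D g v ∈ Y := fun z => by
        have := LinearMap.congr_fun (hDyD g z g) v
        simpa using this
      rw [e, Submodule.mem_bot] at hm
      simpa using hm
    · refine hne (LinearMap.ext fun v => ?_)
      have hm : v ∈ Y := by rw [e]; trivial
      simpa using hm 1
  have hsq : (μ (k * l) - μ (l * k)) * (μ (k * l) - μ (l * k)) = 0 := by
    set c := μ (k * l) - μ (l * k) with hcd
    have e := hcen k (k * l) l
    have ek : μ (k * (k * l)) - μ (k * l * k) = μ k * c := by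
      simp only [hcd, mul_sub, map_mul, mul_assoc]
    rw [ek, mul_assoc, hcen k l l, ← mul_assoc, ← mul_assoc, ← map_mul, ← map_mul] at e
    calc c * c = (μ (k * l) - μ (l * k)) * c := rfl
      _ = μ (k * l) * c - μ (l * k) * c := sub_mul _ _ _
      _ = 0 := by rw [e, sub_self]
  by_contra hne
  rcases hirr (LinearMap.ker (μ (k * l) - μ (l * k))) (fun j v hv => by
    rw [LinearMap.mem_ker] at hv ⊢
    rw [← Module.End.mul_apply, hcen, Module.End.mul_apply, hv, map_zero]) with e | e
  · refine hne (LinearMap.ext fun v => ?_)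
    have hm : (μ (k * l) - μ (l * k)) v ∈ LinearMap.ker (μ (k * l) - μ (l * k)) := by
      rw [LinearMap.mem_ker, ← Module.End.mul_apply, hsq, LinearMap.zero_apply]
    rw [e, Submodule.mem_bot] at hm
    rw [hm, LinearMap.zero_apply]
  · exact hne (LinearMap.ker_eq_top.1 e)

theorem odd_core (hp2 : p ≠ 2) {K : Subgroup H} {a : H} (hK : ⁅K, K⁆ = K) (ha : orderOf a = p)
    (hgen : closure ((K : Set H) ∪ {a}) = ⊤)
    (hcomm : ∀ t ∈ zpowers a, t ≠ 1 → ∀ k ∈ K, ∀ l ∈ K, Commute k (t * l * t⁻¹))
    (X : Type v) [AddCommGroup X] [Module (ZMod p) X] [Finite X] (μ : H →* Module.End (ZMod p) X)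
    (hd : ∀ k ∈ K, ∃ M : H, (∀ l ∈ K, μ l * μ M = μ M * μ l) ∧ μ k * μ M * (μ a - 1) = μ a - 1 ∧
      (μ a - 1) * (μ k * μ M) = μ a - 1) :
    ∀ k ∈ K, μ k = 1 := by
  refine sections_induction (p := p) hK
    (fun X _ _ μ => ∀ k ∈ K, ∃ M : H, (∀ l ∈ K, μ l * μ M = μ M * μ l) ∧
      μ k * μ M * (μ a - 1) = μ a - 1 ∧ (μ a - 1) * (μ k * μ M) = μ a - 1) ?_ ?_ ?_ X μ hd
  · intro X _ _ _ μ h U hU k hk
    obtain ⟨M, h0, h1, h2⟩ := h k hk
    refine ⟨M, fun l hl => ?_, ?_, ?_⟩ <;> refine LinearMap.ext fun u => Subtype.ext ?_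
    · simpa using LinearMap.congr_fun (h0 l hl) (u : X)
    · simpa using LinearMap.congr_fun h1 (u : X)
    · simpa using LinearMap.congr_fun h2 (u : X)
  · intro X _ _ _ μ h U hU k hk
    obtain ⟨M, h0, h1, h2⟩ := h k hk
    refine ⟨M, fun l hl => ?_, ?_, ?_⟩ <;> refine LinearMap.ext fun u => ?_ <;>
      obtain ⟨x, rfl⟩ := Submodule.Quotient.mk_surjective U u
    · simpa using congrArg (Submodule.Quotient.mk (p := U)) (LinearMap.congr_fun (h0 l hl) x)
    · simpa using congrArg (Submodule.Quotient.mk (p := U)) (LinearMap.congr_fun h1 x)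
    · simpa using congrArg (Submodule.Quotient.mk (p := U)) (LinearMap.congr_fun h2 x)
  intro X _ _ _ μ h hirr
  obtain ⟨n, hn⟩ : ∃ n, n = μ a - 1 := ⟨_, rfl⟩
  rw [← hn] at h
  have hp3 : 2 < p := lt_of_le_of_ne (Nat.Prime.two_le Fact.out) (Ne.symm hp2)
  have ha1 : a ≠ 1 := fun e => by rw [e, orderOf_one] at ha; omega
  by_cases hn0 : n = 0
  · refine eq_one_of_comm μ hK fun k hk l hl => ?_
    have e : μ a = 1 := sub_eq_zero.1 (hn ▸ hn0)
    have e1 : μ (a * l * a⁻¹) = μ l := by
      have : μ a⁻¹ = 1 := by have := map_inv_mul μ a; rwa [e, mul_one] at this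
      rw [map_mul, map_mul, e, this, one_mul, mul_one]
    have := congrArg μ (hcomm a (mem_zpowers a) ha1 k hk l hl).eq
    rwa [map_mul μ k, map_mul μ (a * l * a⁻¹) k, e1] at this
  -- a vector in the image of `n` fixed by `a`
  have hnp : n ^ p = 0 := by
    have := congrArg (Polynomial.aeval (μ a)) (sub_pow_char (p := p) (Polynomial.X : Polynomial (ZMod p)) 1)
    simp only [map_pow, map_sub, Polynomial.aeval_X, map_one, one_pow] at this
    have hap : a ^ p = 1 := orderOf_dvd_iff_pow_eq_one.1 (dvd_of_eq ha)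
    rw [hn, this, ← map_pow, hap, map_one, sub_self]
  obtain ⟨j, hj, hj1⟩ : ∃ j, n ^ (j + 1) ≠ 0 ∧ n ^ (j + 1 + 1) = 0 := by
    by_contra hcon
    simp only [not_exists, not_and] at hcon
    have : ∀ j, n ^ (j + 1) ≠ 0 := by
      intro j
      induction j with
      | zero => simpa using hn0
      | succ j ih => exact hcon j ih
    exact this (p - 1) (by rw [show p - 1 + 1 = p by omega]; exact hnp)
  obtain ⟨x₀, hx₀⟩ : ∃ x, (n ^ (j + 1)) x ≠ 0 := by
    by_contra hcon; simp only [not_exists, not_not] at hcon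
    exact hj (LinearMap.ext fun x => by simp [hcon])
  set p₀ := (n ^ (j + 1)) x₀ with hp₀
  have hn₀ : n p₀ = 0 := by
    rw [hp₀, ← Module.End.mul_apply, ← pow_succ', hj1, LinearMap.zero_apply]
  have hfix : ∀ w, n w = 0 → ∀ t ∈ zpowers a, μ t w = w := by
    intro w hw
    have ha' : μ a w = w := by
      rw [hn, LinearMap.sub_apply, Module.End.one_apply, sub_eq_zero] at hw; exact hw
    let S : Subgroup H :=
      { carrier := {h | μ h w = w}
        one_mem' := by simp
        mul_mem' := fun {s t} (hs : μ s w = w) (ht : μ t w = w) => show μ (s * t) w = w by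
          rw [map_mul, Module.End.mul_apply, ht, hs]
        inv_mem' := fun {s} (hs : μ s w = w) => show μ s⁻¹ w = w by
          conv_lhs => rw [← hs]
          exact apply_inv_apply μ s w }
    exact fun t ht => (zpowers_le.2 (show a ∈ S from ha')) ht
  -- commutators fix the fixed points
  have hM : ∀ m ∈ K, ∀ g ∈ K, n * μ (m * g * m⁻¹) * n = n * μ g * n := by
    intro m hm g hg
    obtain ⟨M, h0, h1, h2⟩ := h m hm
    have e1 : μ m⁻¹ * n = μ M * n := by
      conv_lhs => rw [← h1, ← mul_assoc, ← mul_assoc, map_inv_mul, one_mul]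
    have e2 : n * μ m = n * μ M⁻¹ := by
      conv_rhs => rw [← h2, mul_assoc, mul_assoc, map_mul_inv, mul_one]
    rw [map_mul, map_mul, ← mul_assoc n, ← mul_assoc n, mul_assoc (n * μ m * μ g), e1, e2]
    calc n * μ M⁻¹ * μ g * (μ M * n) = n * μ M⁻¹ * (μ g * μ M) * n := by simp only [mul_assoc]
      _ = n * μ M⁻¹ * (μ M * μ g) * n := by rw [h0 g hg]
      _ = _ := by rw [← mul_assoc, mul_assoc n, map_inv_mul, mul_one]
  have hncn : ∀ k ∈ K, ∀ l ∈ K, n * (μ (k * l) - μ (l * k)) * n = 0 := by
    intro k hk l hl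
    rw [mul_sub, sub_mul, ← hM k hk (l * k) (mul_mem hl hk), show k * (l * k) * k⁻¹ = k * l by group,
      sub_self]
  set C : H → H → H → Module.End (ZMod p) X :=
    fun t k l => μ (t * (k * l) * t⁻¹) - μ (t * (l * k) * t⁻¹) with hC
  have hC1 : ∀ k l, C 1 k l = μ (k * l) - μ (l * k) := fun k l => by
    simp only [hC, inv_one, one_mul, mul_one]
  have hCt : ∀ t k l, C t k l = μ t * C 1 k l * μ t⁻¹ := fun t k l => by
    rw [hC1]
    simp only [hC, mul_sub, sub_mul, map_mul]
  have hcp : ∀ k ∈ K, ∀ l ∈ K, ∀ t ∈ zpowers a, μ t (C 1 k l p₀) = C 1 k l p₀ := fun k hk l hl =>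
    hfix _ (by
      rw [hC1, hp₀, pow_succ', Module.End.mul_apply, ← Module.End.mul_apply, ← Module.End.mul_apply,
        hncn k hk l hl, LinearMap.zero_apply])
  have hCp : ∀ k ∈ K, ∀ l ∈ K, ∀ t ∈ zpowers a, C t k l p₀ = C 1 k l p₀ := fun k hk l hl t ht => by
    rw [hCt, Module.End.mul_apply, Module.End.mul_apply, hfix _ hn₀ _ (inv_mem ht), hcp k hk l hl t ht]
  have hpair : ∀ t ∈ zpowers a, ∀ s ∈ zpowers a, t ≠ s → ∀ k ∈ K, ∀ l ∈ K, ∀ k' ∈ K, ∀ l' ∈ K,
      Commute (C t k l) (C s k' l') := by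
    intro t ht s hs hts k hk l hl k' hk' l' hl'
    have hg : ∀ g ∈ K, ∀ g' ∈ K, Commute (μ (t * g * t⁻¹)) (μ (s * g' * s⁻¹)) := fun g hg g' hg' => by
      refine Commute.map ?_ μ
      have h1 := (hcomm _ (mul_mem (inv_mem ht) hs) (fun e => hts (inv_mul_eq_one.1 e)) g hg g' hg').map
        (MulAut.conj t).toMonoidHom
      simpa [mul_assoc] using h1
    exact ((hg _ (mul_mem hk hl) _ (mul_mem hk' hl')).sub_right (hg _ (mul_mem hk hl) _ (mul_mem hl' hk'))).sub_left
      ((hg _ (mul_mem hl hk) _ (mul_mem hk' hl')).sub_right (hg _ (mul_mem hl hk) _ (mul_mem hl' hk')))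
  have hswap : ∀ k ∈ K, ∀ l ∈ K, ∀ k' ∈ K, ∀ l' ∈ K,
      C 1 k l (C 1 k' l' p₀) = C 1 k' l' (C 1 k l p₀) := by
    intro k hk l hl k' hk' l' hl'
    have m1 := mem_zpowers a
    have m2 : a ^ 2 ∈ zpowers a := pow_mem m1 2
    have n1 : (1 : H) ≠ a := ha1.symm
    have n2 : (1 : H) ≠ a ^ 2 := fun e => by
      have := orderOf_dvd_of_pow_eq_one e.symm
      rw [ha] at this
      have := Nat.le_of_dvd (by norm_num) this
      omega
    have n3 : a ≠ a ^ 2 := fun e => ha1 (by rw [sq, left_eq_mul] at e; exact e)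
    calc C 1 k l (C 1 k' l' p₀) = C 1 k l (C a k' l' p₀) := by rw [hCp k' hk' l' hl' a m1]
      _ = C a k' l' (C 1 k l p₀) := by
        rw [← Module.End.mul_apply, (hpair 1 (one_mem _) a m1 n1 k hk l hl k' hk' l' hl').eq,
          Module.End.mul_apply]
      _ = C a k' l' (C (a ^ 2) k l p₀) := by rw [hCp k hk l hl _ m2]
      _ = C (a ^ 2) k l (C a k' l' p₀) := by
        rw [← Module.End.mul_apply, (hpair a m1 _ m2 n3 k' hk' l' hl' k hk l hl).eq, Module.End.mul_apply]
      _ = C (a ^ 2) k l (C 1 k' l' p₀) := by rw [hCp k' hk' l' hl' a m1]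
      _ = C 1 k' l' (C (a ^ 2) k l p₀) := by
        rw [← Module.End.mul_apply, ← (hpair 1 (one_mem _) _ m2 n2 k' hk' l' hl' k hk l hl).eq,
          Module.End.mul_apply]
      _ = _ := by rw [hCp k hk l hl _ m2]
  let Y : Submodule (ZMod p) X :=
    { carrier := {v | ∀ t ∈ zpowers a, ∀ k ∈ K, ∀ l ∈ K, ∀ k' ∈ K, ∀ l' ∈ K,
        C t k l (C t k' l' v) = C t k' l' (C t k l v)}
      add_mem' := fun {x y} hx hy t ht k hk l hl k' hk' l' hl' => by
        simp only [map_add, hx t ht k hk l hl k' hk' l' hl', hy t ht k hk l hl k' hk' l' hl']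
      zero_mem' := fun t _ k _ l _ k' _ l' _ => by simp only [map_zero]
      smul_mem' := fun c v hv t ht k hk l hl k' hk' l' hl' => by
        simp only [map_smul, hv t ht k hk l hl k' hk' l' hl'] }
  have hY : Y = ⊤ := by
    refine (hirr Y (invariant_of_gens μ hgen ?_)).resolve_left fun e => ?_
    · rintro s (hs | hs) u hu t ht k hk l hl k' hk' l' hl'
      · by_cases ht1 : t = 1
        · subst ht1
          have key : ∀ k l, ∀ x, C 1 k l (μ s x) = μ s (C 1 (s⁻¹ * k * s) (s⁻¹ * l * s) x) := fun k l x => by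
            rw [← Module.End.mul_apply, ← Module.End.mul_apply]
            congr 1
            simp only [hC1, sub_mul, mul_sub, ← map_mul]
            congr 2 <;> group
          have hm : ∀ g ∈ K, s⁻¹ * g * s ∈ K := fun g hg => mul_mem (mul_mem (inv_mem hs) hg) hs
          rw [key, key, key, key, hu 1 ht _ (hm k hk) _ (hm l hl) _ (hm k' hk') _ (hm l' hl')]
        · have key : ∀ k ∈ K, ∀ l ∈ K, ∀ x, C t k l (μ s x) = μ s (C t k l x) := fun k hk l hl x => by
            rw [← Module.End.mul_apply, ← Module.End.mul_apply]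
            congr 1
            exact (((hcomm t ht ht1 s hs _ (mul_mem hk hl)).map μ).sub_right
              ((hcomm t ht ht1 s hs _ (mul_mem hl hk)).map μ)).eq.symm
          rw [key k' hk' l' hl', key k hk l hl, key k hk l hl, key k' hk' l' hl',
            hu t ht k hk l hl k' hk' l' hl']
      · rw [Set.mem_singleton_iff.1 hs]
        have key : ∀ k l, ∀ x, C t k l (μ a x) = μ a (C (a⁻¹ * t) k l x) := fun k l x => by
          rw [← Module.End.mul_apply, ← Module.End.mul_apply]
          congr 1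
          simp only [hC, sub_mul, mul_sub, ← map_mul]
          congr 2 <;> group
        rw [key, key, key, key,
          hu _ (mul_mem (inv_mem (mem_zpowers a)) ht) k hk l hl k' hk' l' hl']
    · have hm : p₀ ∈ Y := by
        intro t ht k hk l hl k' hk' l' hl'
        rw [hCp k' hk' l' hl' t ht, hCp k hk l hl t ht, hCt, hCt t k' l', Module.End.mul_apply,
          Module.End.mul_apply, Module.End.mul_apply, Module.End.mul_apply,
          hcp k' hk' l' hl' _ (inv_mem ht), hcp k hk l hl _ (inv_mem ht), hswap k hk l hl k' hk' l' hl']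
      rw [e, Submodule.mem_bot] at hm
      exact hx₀ hm
  have hfin := eq_one_of_comm_commutators hp2 (μ.comp K.subtype) (by
      apply map_injective K.subtype_injective
      rw [map_commutator, ← MonoidHom.range_eq_map, range_subtype]
      exact hK)
    (fun k l k' l' => LinearMap.ext fun v => by
      have := (show v ∈ Y by rw [hY]; trivial) 1 (one_mem _) k k.2 l l.2 k' k'.2 l' l'.2
      simpa [hC1] using this)
  exact fun k hk => hfin ⟨k, hk⟩

end CfsgLib.ClassK.PGV
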