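import Cfsg.Agent.Lib.ClassK.PGVBasic
import Cfsg.Agent.Lib.Char.Burnside
import Mathlib.GroupTheory.Solvable

/-!
`p = 2`: an involution `a` with a diagonal subgroup of `K × K^a` trivial on `[W, a]` makes the algebra
of `K` a quaternion algebra over a field with at least four elements.
-/

set_option autoImplicit false
set_option linter.style.haveILetI false
set_option linter.unusedSectionVars false
set_option maxHeartbeats 1000000

namespace CfsgLib.ClassK.PGV

open Subgroup
open scoped commutatorElement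

universe u v

variable {H : Type u} [Group H] {W : Type v} [AddCommGroup W] [Module (ZMod 2) W]

/-- The situation of an involution exchanging two commuting perfect groups. -/
structure Two (σ : H →* Module.End (ZMod 2) W) (K B : Subgroup H) (a : H) : Prop where
  perfect : ⁅K, K⁆ = K
  invol : a * a = 1
  comm : ∀ k ∈ K, ∀ l ∈ K, Commute k (a * l * a⁻¹)
  gen : closure ((K : Set H) ∪ {a} ∪ B) = ⊤
  aB : ∀ b ∈ B, a * b = b * a
  normK : ∀ b ∈ B, ∀ k ∈ K, b * k * b⁻¹ ∈ K
  moves : ∀ b ∈ B, b ≠ 1 → closure {x : H | ∃ k ∈ K, x = k⁻¹ * (b * k * b⁻¹)} = K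
  fixd : ∀ k ∈ K, σ k * σ (a * k * a⁻¹) * (σ a - 1) = σ a - 1 ∧
    (σ a - 1) * (σ k * σ (a * k * a⁻¹)) = σ a - 1
  fixb : ∀ b ∈ B, σ b * (σ a - 1) = σ a - 1 ∧ (σ a - 1) * σ b = σ a - 1
  quad : ∀ b ∈ B, ∀ c ∈ B, (σ b - 1) * (σ c - 1) = 0

variable {σ : H →* Module.End (ZMod 2) W} {K B : Subgroup H} {a : H}

theorem invariant_of_gen (h : Two σ K B a) {U : Submodule (ZMod 2) W} [Finite W]
    (hK : ∀ k ∈ K, ∀ u ∈ U, σ k u ∈ U) (ha : ∀ u ∈ U, σ a u ∈ U) (hB : ∀ b ∈ B, ∀ u ∈ U, σ b u ∈ U) :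
    ∀ g, ∀ u ∈ U, σ g u ∈ U := by
  intro g
  induction (show g ∈ closure ((K : Set H) ∪ {a} ∪ B) by rw [h.gen]; trivial) using closure_induction with
  | mem x hx =>
    rcases hx with (hx | hx) | hx
    · exact hK x hx
    · rw [Set.mem_singleton_iff.1 hx]; exact ha
    · exact hB x hx
  | one => intro u hu; simpa using hu
  | mul x y _ _ hx hy => intro u hu; rw [map_mul, Module.End.mul_apply]; exact hx _ (hy u hu)
  | inv x _ hx =>
    intro u hu
    have hbij : Function.Surjective (fun w : U => (⟨σ x w, hx w w.2⟩ : U)) :=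
      Finite.surjective_of_injective fun w w' e => Subtype.ext (by
        have := congrArg (fun z : U => σ x⁻¹ z) e
        simpa [apply_inv_apply] using this)
    obtain ⟨w, hw⟩ := hbij ⟨u, hu⟩
    have hw' : σ x w = u := congrArg Subtype.val hw
    rw [← hw', apply_inv_apply]; exact w.2

theorem add_add_cancel_left' (x y : Module.End (ZMod 2) W) : x + (x + y) = y := by
  rw [← add_assoc, ZModModule.add_self, zero_add]

theorem zmod_two_cases (c : ZMod 2) : c = 0 ∨ c = 1 := by revert c; decide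

theorem sub_one_eq (x : Module.End (ZMod 2) W) : x - 1 = x + 1 := ZModModule.sub_eq_add _ _

theorem Two.core [Finite W] (h : Two σ K B a) (hirr : Irr σ) (hne : ∃ k ∈ K, σ k ≠ 1) :
    4 * Nat.card {w : W // σ a w = w} ≤ Nat.card W ∧
      (B ≠ ⊥ → 4 * Nat.card B * Nat.card {w : W // ∀ b ∈ B, σ b w = w} ≤ Nat.card W) := by
  classical
  set n := σ a - 1 with hn
  have hn1 : σ a = 1 + n := by rw [hn]; abel
  have hnn : n * n = 0 := by
    have : σ a * σ a = 1 := by rw [← map_mul, h.invol, map_one]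
    rw [hn1] at this
    simp only [add_mul, mul_add, one_mul, mul_one] at this
    rw [show (1 : Module.End (ZMod 2) W) + n + (n + n * n) = 1 + n * n by
      rw [add_assoc, add_add_cancel_left']] at this
    simpa using this
  have ha' : a⁻¹ = a := inv_eq_of_mul_eq_one_right h.invol
  -- the two fixing relations
  have hKa : ∀ k ∈ K, σ (a * k * a⁻¹) * n = σ k⁻¹ * n ∧ n * σ (a * k * a⁻¹) = n * σ k⁻¹ := by
    intro k hk
    obtain ⟨h1, h2⟩ := h.fixd k hk
    rw [← hn] at h1 h2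
    refine ⟨?_, ?_⟩
    · conv_rhs => rw [← h1]
      rw [← mul_assoc, ← mul_assoc, map_inv_mul, one_mul]
    · conv_rhs => rw [← h2]
      rw [← map_mul σ k, show k * (a * k * a⁻¹) = a * k * a⁻¹ * k from (h.comm k hk k hk).eq,
        map_mul σ (a * k * a⁻¹) k, mul_assoc n, mul_assoc (σ (a * k * a⁻¹)),
        map_mul_inv, mul_one]
  set t : H → Module.End (ZMod 2) W := fun k => σ k + σ k⁻¹ with ht
  have hnkn : ∀ k ∈ K, n * σ k * n = t k * n ∧ n * σ k * n = n * t k := by
    intro k hk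
    obtain ⟨h1, h2⟩ := hKa k hk
    have e1 : σ a * σ k = σ (a * k * a⁻¹) * σ a := by rw [← map_mul, ← map_mul]; congr 1; group
    have e2 : σ k * σ a = σ a * σ (a * k * a⁻¹) := by
      rw [← map_mul, ← map_mul]; congr 1
      rw [ha', show a * (a * k * a) = (a * a) * k * a by group, h.invol, one_mul]
    refine ⟨?_, ?_⟩
    · calc n * σ k * n = σ (a * k * a⁻¹) * σ a * n + σ k * n := by
            rw [show n = σ a + 1 from sub_one_eq _, add_mul (σ a), e1, one_mul, add_mul]
        _ = σ (a * k * a⁻¹) * n + σ k * n := by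
            rw [mul_assoc, show σ a * n = n by rw [hn1, add_mul, one_mul, hnn, add_zero]]
        _ = _ := by rw [h1, ht, add_mul, add_comm]
    · calc n * σ k * n = n * (σ a * σ (a * k * a⁻¹)) + n * σ k := by
            rw [show n * σ k * n = n * σ k * (σ a + 1) by rw [← sub_one_eq], mul_add, mul_one,
              mul_assoc, e2]
        _ = n * σ (a * k * a⁻¹) + n * σ k := by
            rw [← mul_assoc, show n * σ a = n by rw [hn1, mul_add, mul_one, hnn, add_zero]]
        _ = _ := by rw [h2, ht, mul_add, add_comm]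
  have hn0 : n ≠ 0 := by
    intro e
    obtain ⟨k₀, hk₀, hk₀1⟩ := hne
    refine hk₀1 (eq_one_of_comm σ h.perfect (fun k hk l hl => ?_) k₀ hk₀)
    have e1 : σ (a * l * a⁻¹) = σ l := by
      rw [map_mul, map_mul, hn1, e, add_zero, one_mul, ha', hn1, e, add_zero, mul_one]
    have := congrArg σ (h.comm k hk l hl).eq
    rwa [map_mul σ k, map_mul σ (a * l * a⁻¹) k, e1] at this
  obtain ⟨x₀, hx₀⟩ : ∃ x, n x ≠ 0 := by
    by_contra hcon; simp only [not_exists, not_not] at hcon
    exact hn0 (LinearMap.ext fun x => by simp [hcon])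
  set w₀ := n x₀ with hw₀
  have haw : σ a w₀ = w₀ := by
    rw [hn1, hw₀, LinearMap.add_apply, Module.End.one_apply, ← Module.End.mul_apply, hnn,
      LinearMap.zero_apply, add_zero]
  have hbw : ∀ b ∈ B, σ b w₀ = w₀ := fun b hb => by
    rw [hw₀, ← Module.End.mul_apply, (h.fixb b hb).1]
  have hkw : ∀ k ∈ K, σ (a * k * a⁻¹) w₀ = σ k⁻¹ w₀ := fun k hk => by
    rw [hw₀, ← Module.End.mul_apply, (hKa k hk).1, Module.End.mul_apply]
  -- the algebra of `K`
  set R := Submodule.span (ZMod 2) (σ '' (K : Set H)) with hR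
  have hσR : ∀ k ∈ K, σ k ∈ R := fun k hk => Submodule.subset_span ⟨k, hk, rfl⟩
  have hR1 : (1 : Module.End (ZMod 2) W) ∈ R := map_one σ ▸ hσR 1 (one_mem K)
  have hRm : ∀ r ∈ R, ∀ s ∈ R, r * s ∈ R := by
    intro r hr s hs
    induction hr using Submodule.span_induction with
    | mem x hx =>
      obtain ⟨k, hk, rfl⟩ := hx
      induction hs using Submodule.span_induction with
      | mem y hy => obtain ⟨l, hl, rfl⟩ := hy; rw [← map_mul]; exact hσR _ (mul_mem hk hl)
      | zero => simp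
      | add y z _ _ hy hz => rw [mul_add]; exact add_mem hy hz
      | smul c y _ hy => rw [mul_smul_comm]; exact Submodule.smul_mem _ _ hy
    | zero => simp
    | add y z _ _ hy hz => rw [add_mul]; exact add_mem hy hz
    | smul c y _ hy => rw [smul_mul_assoc]; exact Submodule.smul_mem _ _ hy
  have hRcomm : ∀ r ∈ R, ∀ l ∈ K, r * σ (a * l * a⁻¹) = σ (a * l * a⁻¹) * r := by
    intro r hr l hl
    induction hr using Submodule.span_induction with
    | mem x hx => obtain ⟨k, hk, rfl⟩ := hx; rw [← map_mul, ← map_mul, (h.comm k hk l hl).eq]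
    | zero => simp
    | add y z _ _ hy hz => rw [add_mul, mul_add, hy, hz]
    | smul c y _ hy => rw [smul_mul_assoc, mul_smul_comm, hy]
  have hRb : ∀ b ∈ B, ∀ r ∈ R, σ b * r * σ b⁻¹ ∈ R := by
    intro b hb r hr
    induction hr using Submodule.span_induction with
    | mem x hx => obtain ⟨k, hk, rfl⟩ := hx; rw [← map_mul, ← map_mul]; exact hσR _ (h.normK b hb k hk)
    | zero => simp
    | add y z _ _ hy hz => rw [mul_add, add_mul]; exact add_mem hy hz
    | smul c y _ hy => rw [mul_smul_comm, smul_mul_assoc]; exact Submodule.smul_mem _ _ hy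
  -- intertwiners
  let Z : Set (Module.End (ZMod 2) W) := {z | z ∈ R ∧ ∀ g, z * σ g = σ g * z}
  have hZ0 : (0 : Module.End (ZMod 2) W) ∈ Z := ⟨zero_mem R, fun g => by simp⟩
  have hZ1 : (1 : Module.End (ZMod 2) W) ∈ Z := ⟨hR1, fun g => by simp⟩
  have hZadd : ∀ z ∈ Z, ∀ y ∈ Z, z + y ∈ Z := fun z hz y hy =>
    ⟨add_mem hz.1 hy.1, fun g => by rw [add_mul, mul_add, hz.2, hy.2]⟩
  have hZmul : ∀ z ∈ Z, ∀ y ∈ Z, z * y ∈ Z := fun z hz y hy =>
    ⟨hRm _ hz.1 _ hy.1, fun g => by rw [mul_assoc, hy.2, ← mul_assoc, hz.2, mul_assoc]⟩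
  have hZn : ∀ z ∈ Z, z * n = n * z := fun z hz => by
    rw [hn, mul_sub, sub_mul, hz.2, mul_one, one_mul]
  have hZR : ∀ z ∈ Z, ∀ r ∈ R, z * r = r * z := by
    intro z hz r hr
    induction hr using Submodule.span_induction with
    | mem x hx => obtain ⟨k, -, rfl⟩ := hx; exact hz.2 k
    | zero => simp
    | add y y' _ _ hy hy' => rw [mul_add, add_mul, hy, hy']
    | smul c y _ hy => rw [mul_smul_comm, smul_mul_assoc, hy]
  have hZinj : ∀ z ∈ Z, z ≠ 0 → Function.Injective z := by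
    intro z hz hz0
    rw [← LinearMap.ker_eq_bot]
    refine (hirr _ fun g u hu => ?_).resolve_right fun e => hz0 (LinearMap.ker_eq_top.1 e)
    rw [LinearMap.mem_ker] at hu ⊢
    rw [← Module.End.mul_apply, hz.2, Module.End.mul_apply, hu, map_zero]
  have hcancel : ∀ z ∈ Z, z * n = 0 → z = 0 := fun z hz e => by
    by_contra hz0
    refine hn0 (LinearMap.ext fun x => hZinj z hz hz0 ?_)
    rw [← Module.End.mul_apply, e]; simp
  have hmulcancel : ∀ z ∈ Z, z ≠ 0 → ∀ y : Module.End (ZMod 2) W, z * y = 0 → y = 0 :=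
    fun z hz hz0 y e => LinearMap.ext fun x => hZinj z hz hz0 (by
      rw [← Module.End.mul_apply, e]; simp)
  have hZinv : ∀ z ∈ Z, z ≠ 0 → ∃ y ∈ Z, y * z = 1 := by
    intro z hz hz0
    haveI : Finite (Module.End (ZMod 2) W) := Finite.of_injective (fun f => (f : W → W))
      DFunLike.coe_injective
    have hs : Function.Surjective (fun y : Z => (⟨y.1 * z, hZmul _ y.2 _ hz⟩ : Z)) :=
      Finite.surjective_of_injective fun y y' e => Subtype.ext (by
        have e' : z * (y.1 + y'.1) = 0 := by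
          rw [mul_add, show z * y.1 = y.1 * z from hZR z hz _ y.2.1,
            show z * y'.1 = y'.1 * z from hZR z hz _ y'.2.1,
            show y.1 * z = y'.1 * z from congrArg Subtype.val e, ZModModule.add_self]
        have := hmulcancel z hz hz0 _ e'
        rwa [← ZModModule.sub_eq_add, sub_eq_zero] at this)
    obtain ⟨y, hy⟩ := hs ⟨1, hZ1⟩
    exact ⟨y.1, y.2, congrArg Subtype.val hy⟩
  have htR : ∀ k ∈ K, t k ∈ R := fun k hk => add_mem (hσR k hk) (hσR _ (inv_mem hk))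
  have htZ : ∀ k ∈ K, t k ∈ Z := by
    have hta : ∀ k ∈ K, σ a * t k = t k * σ a := fun k hk => by
      rw [hn1, add_mul (1 : Module.End (ZMod 2) W) n (t k), mul_add (t k) 1 n, one_mul (t k),
        mul_one (t k), ← (hnkn k hk).2, (hnkn k hk).1]
    have htKa : ∀ k ∈ K, ∀ l ∈ K, t k * σ l = σ l * t k := by
      intro k hk l hl
      have e := hRcomm _ (htR k hk) l hl
      rw [map_mul, map_mul] at e
      have e2 : t k * σ a⁻¹ = σ a⁻¹ * t k := by rw [ha', hta k hk]
      calc t k * σ l = t k * (σ a⁻¹ * (σ a * σ l * σ a⁻¹) * σ a) := by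
            rw [← map_mul, ← map_mul, ← map_mul, ← map_mul]; congr 2; group
        _ = σ a⁻¹ * (t k * (σ a * σ l * σ a⁻¹)) * σ a := by simp only [← mul_assoc, e2]
        _ = σ a⁻¹ * (σ a * σ l * σ a⁻¹) * (t k * σ a) := by rw [e]; simp only [mul_assoc]
        _ = σ a⁻¹ * (σ a * σ l * σ a⁻¹) * σ a * t k := by rw [← hta k hk]; simp only [mul_assoc]
        _ = _ := by rw [← map_mul, ← map_mul, ← map_mul, ← map_mul]; congr 2; group
    have htb : ∀ b ∈ B, ∀ k ∈ K, t (b * k * b⁻¹) = σ b * t k * σ b⁻¹ := fun b _ k _ => by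
      simp only [ht, mul_add, add_mul, ← map_mul]; congr 2; group
    -- the common kernel
    let X : Submodule (ZMod 2) W :=
      { carrier := {u | ∀ b ∈ B, ∀ k ∈ K, t (b * k * b⁻¹) u = t k u}
        add_mem' := fun {x y} hx hy b hb k hk => by rw [map_add, map_add, hx b hb k hk, hy b hb k hk]
        zero_mem' := fun b _ k _ => by rw [map_zero, map_zero]
        smul_mem' := fun c u hu b hb k hk => by rw [map_smul, map_smul, hu b hb k hk] }
    have hX : X = ⊤ := by
      refine (hirr X (invariant_of_gen h (fun l hl u hu b hb k hk => ?_) (fun u hu b hb k hk => ?_)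
        fun c hc u hu b hb k hk => ?_)).resolve_left fun e => hx₀ ?_
      · simp only [← Module.End.mul_apply, htKa _ (h.normK b hb k hk) l hl, htKa k hk l hl]
        rw [Module.End.mul_apply, Module.End.mul_apply, hu b hb k hk]
      · simp only [← Module.End.mul_apply, ← hta _ (h.normK b hb k hk), ← hta k hk]
        rw [Module.End.mul_apply, Module.End.mul_apply, hu b hb k hk]
      · have hc' : c⁻¹ * b ∈ B := mul_mem (inv_mem hc) hb
        have e1 := hu _ hc' k hk
        have e2 := hu _ (inv_mem hc) k hk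
        rw [htb _ hc' k hk] at e1
        rw [htb _ (inv_mem hc) k hk, inv_inv] at e2
        rw [htb b hb k hk]
        have e3 : σ c⁻¹ ((σ b * t k * σ b⁻¹) (σ c u)) = t k u := by
          rw [← e1, ← Module.End.mul_apply (σ b * t k * σ b⁻¹), ← Module.End.mul_apply]
          congr 1
          simp only [mul_inv_rev, inv_inv, map_mul, mul_assoc]
        have e4 : σ c⁻¹ (t k (σ c u)) = t k u := by
          rw [← e2]; simp only [Module.End.mul_apply]
        have := congrArg (σ c) (e3.trans e4.symm)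
        rwa [apply_apply_inv, apply_apply_inv] at this
      · have : w₀ ∈ X := fun b hb k hk => by
          rw [hw₀, ← Module.End.mul_apply, ← Module.End.mul_apply, ← (hnkn _ (h.normK b hb k hk)).1,
            ← (hnkn k hk).1]
          congr 1
          rw [map_mul, map_mul, ← mul_assoc n, ← mul_assoc n, (h.fixb b hb).2, mul_assoc (n * σ k),
            (h.fixb b⁻¹ (inv_mem hb)).1]
        rwa [e, Submodule.mem_bot] at this
    intro k hk
    refine ⟨htR k hk, fun g => ?_⟩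
    induction (show g ∈ closure ((K : Set H) ∪ {a} ∪ B) by rw [h.gen]; trivial) using closure_induction with
    | mem x hx =>
      rcases hx with (hx | hx) | hx
      · exact htKa k hk x hx
      · rw [Set.mem_singleton_iff.1 hx, hta k hk]
      · have e : σ x * t k * σ x⁻¹ = t k := by
          rw [← htb x hx k hk]
          exact LinearMap.ext fun u => (show u ∈ X by rw [hX]; trivial) x hx k hk
        conv_lhs => rw [← e]
        rw [mul_assoc, map_inv_mul, mul_one]
    | one => simp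
    | mul x y _ _ hx hy => rw [map_mul, ← mul_assoc, hx, mul_assoc, hy, ← mul_assoc]
    | inv x _ hx =>
      calc t k * σ x⁻¹ = σ x⁻¹ * σ x * t k * σ x⁻¹ := by rw [map_inv_mul, one_mul]
        _ = σ x⁻¹ * (t k * σ x) * σ x⁻¹ := by rw [mul_assoc (σ x⁻¹), hx]
        _ = _ := by rw [mul_assoc, mul_assoc (t k), map_mul_inv, mul_one]
  -- the trace
  have hτex : ∀ r ∈ R, ∃ z ∈ Z, n * r * n = z * n := by
    intro r hr
    induction hr using Submodule.span_induction with
    | mem x hx => obtain ⟨k, hk, rfl⟩ := hx; exact ⟨t k, htZ k hk, (hnkn k hk).1⟩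
    | zero => exact ⟨0, hZ0, by simp⟩
    | add y y' _ _ hy hy' =>
      obtain ⟨z, hz, e⟩ := hy; obtain ⟨z', hz', e'⟩ := hy'
      exact ⟨z + z', hZadd z hz z' hz', by rw [mul_add, add_mul, e, e', add_mul]⟩
    | smul c y _ hy =>
      obtain ⟨z, hz, e⟩ := hy
      refine ⟨c • z, ⟨Submodule.smul_mem _ _ hz.1, fun g => ?_⟩, ?_⟩
      · rw [smul_mul_assoc, mul_smul_comm, hz.2]
      · rw [mul_smul_comm, smul_mul_assoc, e, smul_mul_assoc]
  choose! τ hτZ hτ using hτex
  have huniq : ∀ r ∈ R, ∀ z ∈ Z, n * r * n = z * n → τ r = z := fun r hr z hz e => by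
    have := hcancel _ (hZadd _ (hτZ r hr) z hz) (by rw [add_mul, ← hτ r hr, e, ZModModule.add_self])
    rwa [← ZModModule.sub_eq_add, sub_eq_zero] at this
  have hτadd : ∀ r ∈ R, ∀ s ∈ R, τ (r + s) = τ r + τ s := fun r hr s hs =>
    huniq _ (add_mem hr hs) _ (hZadd _ (hτZ r hr) _ (hτZ s hs))
      (by rw [mul_add, add_mul, hτ r hr, hτ s hs, add_mul])
  have hτz : ∀ z ∈ Z, ∀ r ∈ R, τ (z * r) = z * τ r := fun z hz r hr =>
    huniq _ (hRm _ hz.1 _ hr) _ (hZmul _ hz _ (hτZ r hr))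
      (by rw [← mul_assoc, ← hZn z hz, mul_assoc z, mul_assoc z, hτ r hr, mul_assoc])
  have hτ1 : ∀ z ∈ Z, τ z = 0 := fun z hz =>
    huniq _ hz.1 _ hZ0 (by rw [← hZn z hz, mul_assoc, hnn, mul_zero, zero_mul])
  -- coordinates
  have hact : ∀ r ∈ R, σ a (r w₀) = (r + τ r) w₀ := fun r hr => by
    rw [hn1, LinearMap.add_apply, Module.End.one_apply, LinearMap.add_apply]
    congr 1
    rw [hw₀, ← Module.End.mul_apply, ← Module.End.mul_apply, hτ r hr, Module.End.mul_apply]
  have hsurj : ∀ w, ∃ r ∈ R, r w₀ = w := by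
    let X : Submodule (ZMod 2) W :=
      { carrier := {w | ∃ r ∈ R, r w₀ = w}
        add_mem' := fun {x y} ⟨r, hr, hx⟩ ⟨s, hs, hy⟩ => ⟨r + s, add_mem hr hs, by
          rw [LinearMap.add_apply, hx, hy]⟩
        zero_mem' := ⟨0, zero_mem R, rfl⟩
        smul_mem' := fun c w ⟨r, hr, hw⟩ => ⟨c • r, Submodule.smul_mem _ _ hr, by
          rw [LinearMap.smul_apply, hw]⟩ }
    intro w
    refine (show w ∈ X from ?_)
    rw [(hirr X (invariant_of_gen h ?_ ?_ ?_)).resolve_left ?_]
    · trivial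
    · rintro k hk u ⟨r, hr, rfl⟩
      exact ⟨σ k * r, hRm _ (hσR k hk) _ hr, rfl⟩
    · rintro u ⟨r, hr, rfl⟩
      exact ⟨r + τ r, add_mem hr (hτZ r hr).1, (hact r hr).symm⟩
    · rintro b hb u ⟨r, hr, rfl⟩
      exact ⟨σ b * r * σ b⁻¹, hRb b hb r hr, by
        rw [Module.End.mul_apply, hbw _ (inv_mem hb), Module.End.mul_apply]⟩
    · intro e
      have : w₀ ∈ X := ⟨1, hR1, rfl⟩
      rw [e, Submodule.mem_bot] at this
      exact hx₀ this
  have hswap : ∀ r ∈ R, ∀ k ∈ K, r (σ k w₀) = σ (a * k⁻¹ * a⁻¹) (r w₀) := fun r hr k hk => by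
    have e : σ k w₀ = σ (a * k⁻¹ * a⁻¹) w₀ := by rw [hkw _ (inv_mem hk), inv_inv]
    rw [e, ← Module.End.mul_apply, hRcomm r hr _ (inv_mem hk), Module.End.mul_apply]
  have hinj : ∀ r ∈ R, r w₀ = 0 → r = 0 := fun r hr e => by
    refine LinearMap.ext fun w => ?_
    obtain ⟨s, hs, rfl⟩ := hsurj w
    induction hs using Submodule.span_induction with
    | mem x hx => obtain ⟨k, hk, rfl⟩ := hx; rw [hswap r hr k hk, e]; simp
    | zero => simp
    | add y z _ _ hy hz => rw [LinearMap.add_apply, map_add, hy, hz]; simp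
    | smul c y _ hy => rw [LinearMap.smul_apply, map_smul, hy]; simp
  have heq : ∀ r ∈ R, ∀ s ∈ R, r w₀ = s w₀ → r = s := fun r hr s hs e =>
    sub_eq_zero.1 (hinj _ (sub_mem hr hs) (by rw [LinearMap.sub_apply, e, sub_self]))
  have hbar : ∀ r ∈ R, ∀ s ∈ R, r * s + τ (r * s) = (s + τ s) * (r + τ r) := by
    intro r hr s hs
    refine heq _ (add_mem (hRm _ hr _ hs) (hτZ _ (hRm _ hr _ hs)).1) _
      (hRm _ (add_mem hs (hτZ s hs).1) _ (add_mem hr (hτZ r hr).1)) ?_
    rw [← hact _ (hRm _ hr _ hs)]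
    have key : ∀ r ∈ R, ∀ w, σ a (r w) = (σ a * r * σ a⁻¹) (σ a w) := fun r _ w => by
      simp only [Module.End.mul_apply, apply_inv_apply]
    have hcm : ∀ q ∈ R, (σ a * r * σ a⁻¹) * q = q * (σ a * r * σ a⁻¹) := by
      intro q hq
      clear hs
      induction hr using Submodule.span_induction with
      | mem x hx =>
        obtain ⟨k, hk, rfl⟩ := hx
        rw [← map_mul σ a k, ← map_mul]; exact (hRcomm q hq k hk).symm
      | zero => simp
      | add y z _ _ hy hz => simp only [mul_add, add_mul, hy, hz]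
      | smul c y _ hy => simp only [mul_smul_comm, smul_mul_assoc, hy]
    rw [Module.End.mul_apply, key r hr, hact s hs, ← Module.End.mul_apply,
      hcm _ (add_mem hs (hτZ s hs).1), Module.End.mul_apply, Module.End.mul_apply (s + τ s)]
    congr 1
    rw [← hact r hr, key r hr, haw]
  have hτcomm : ∀ r ∈ R, ∀ s ∈ R, τ (r * s) = τ (s * r) := fun r hr s hs => by
    have e := congrArg τ (hbar r hr s hs)
    have hz := hτZ r hr; have hz' := hτZ s hs
    rw [hτadd _ (hRm _ hr _ hs) _ (hτZ _ (hRm _ hr _ hs)).1, hτ1 _ (hτZ _ (hRm _ hr _ hs)), add_zero,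
      add_mul, mul_add, mul_add, hτadd _ (add_mem (hRm _ hs _ hr) (hRm _ hs _ hz.1)) _
        (add_mem (hRm _ hz'.1 _ hr) (hRm _ hz'.1 _ hz.1)),
      hτadd _ (hRm _ hs _ hr) _ (hRm _ hs _ hz.1), hτadd _ (hRm _ hz'.1 _ hr) _ (hRm _ hz'.1 _ hz.1),
      ← hZR _ hz s hs, hτz _ hz s hs, hτz _ hz' r hr, hτz _ hz' _ hz.1, hτ1 _ hz, mul_zero, add_zero,
      hZR _ hz _ hz'.1, add_assoc, ZModModule.add_self, add_zero] at e
    exact e
  have hQ : ∀ r ∈ R, r * r + τ r * r ∈ Z := by
    have hid : ∀ r ∈ R, ∀ s ∈ R, r * s + s * r + (τ r * s + τ s * r) ∈ Z := fun r hr s hs => by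
      have e := hbar r hr s hs
      rw [add_mul, mul_add, mul_add, ← hZR _ (hτZ r hr) s hs] at e
      have : r * s + s * r + (τ r * s + τ s * r) = τ (r * s) + τ s * τ r := by
        have e' : r * s = s * r + τ r * s + (τ s * r + τ s * τ r) + τ (r * s) := by
          rw [← e, add_assoc, ZModModule.add_self, add_zero]
        conv_lhs => rw [e']
        rw [show s * r + τ r * s + (τ s * r + τ s * τ r) + τ (r * s) + s * r + (τ r * s + τ s * r) =
          (s * r + s * r) + (τ r * s + τ r * s) + (τ s * r + τ s * r) + (τ (r * s) + τ s * τ r) by abel,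
          ZModModule.add_self, ZModModule.add_self, zero_add, ZModModule.add_self, zero_add, zero_add]
      rw [this]
      exact hZadd _ (hτZ _ (hRm _ hr _ hs)) _ (hZmul _ (hτZ s hs) _ (hτZ r hr))
    intro r hr
    induction hr using Submodule.span_induction with
    | mem x hx =>
      obtain ⟨k, hk, rfl⟩ := hx
      rw [huniq _ (hσR k hk) _ (htZ k hk) (hnkn k hk).1]
      show σ k * σ k + (σ k + σ k⁻¹) * σ k ∈ Z
      rw [add_mul, map_inv_mul, add_add_cancel_left']
      exact hZ1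
    | zero => rw [mul_zero, mul_zero, add_zero]; exact hZ0
    | add y z hy hz iy iz =>
      have := hZadd _ (hZadd _ iy _ iz) _ (hid y hy z hz)
      convert this using 1
      rw [hτadd y hy z hz]
      simp only [mul_add, add_mul]
      abel
    | smul c y hy iy =>
      obtain rfl | rfl := zmod_two_cases c
      · rw [zero_smul, mul_zero, mul_zero, add_zero]; exact hZ0
      · rw [one_smul]; exact iy
  -- nondegeneracy
  have hnondeg : ∀ u ∈ R, (∀ r ∈ R, τ (u * r) = 0) → u = 0 := by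
    let X : Submodule (ZMod 2) W :=
      { carrier := {w | ∃ u ∈ R, (∀ r ∈ R, τ (u * r) = 0) ∧ u w₀ = w}
        add_mem' := fun {x y} ⟨u, hu, hu0, hx⟩ ⟨v, hv, hv0, hy⟩ => ⟨u + v, add_mem hu hv, fun r hr => by
          rw [add_mul, hτadd _ (hRm _ hu _ hr) _ (hRm _ hv _ hr), hu0 r hr, hv0 r hr, add_zero], by
          rw [LinearMap.add_apply, hx, hy]⟩
        zero_mem' := ⟨0, zero_mem R, fun r _ => by rw [zero_mul]; exact hτ1 _ hZ0, rfl⟩
        smul_mem' := fun c w ⟨u, hu, hu0, hw⟩ => by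
          obtain rfl | rfl := zmod_two_cases c
          · exact ⟨0, zero_mem R, fun r _ => by rw [zero_mul]; exact hτ1 _ hZ0, by simp⟩
          · exact ⟨u, hu, hu0, by rw [one_smul, hw]⟩ }
    have hτb : ∀ b ∈ B, ∀ r ∈ R, τ (σ b * r * σ b⁻¹) = τ r := fun b hb r hr =>
      huniq _ (hRb b hb r hr) _ (hτZ r hr) (by
        rw [← mul_assoc n, ← mul_assoc n, (h.fixb b hb).2, mul_assoc (n * r),
          (h.fixb _ (inv_mem hb)).1, hτ r hr])
    have hinv : ∀ g, ∀ w ∈ X, σ g w ∈ X := by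
      refine invariant_of_gen h ?_ ?_ ?_
      · rintro k hk w ⟨u, hu, hu0, hw⟩
        refine ⟨σ k * u, hRm _ (hσR k hk) _ hu, fun r hr => ?_, by rw [Module.End.mul_apply, hw]⟩
        rw [mul_assoc, hτcomm _ (hσR k hk) _ (hRm _ hu _ hr), mul_assoc]
        exact hu0 _ (hRm _ hr _ (hσR k hk))
      · rintro w ⟨u, hu, hu0, hw⟩
        refine ⟨u, hu, hu0, ?_⟩
        rw [← hw, hact u hu, show τ u = 0 by simpa using hu0 1 hR1, add_zero]
      · rintro b hb w ⟨u, hu, hu0, hw⟩
        refine ⟨σ b * u * σ b⁻¹, hRb b hb u hu, fun r hr => ?_, ?_⟩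
        · have e2 : σ b * u * σ b⁻¹ * r = σ b * (u * (σ b⁻¹ * r * σ b⁻¹⁻¹)) * σ b⁻¹ := by
            rw [inv_inv]; simp only [mul_assoc, map_mul_inv, mul_one]
          have hr' : σ b⁻¹ * r * σ b⁻¹⁻¹ ∈ R := hRb _ (inv_mem hb) r hr
          rw [e2, hτb b hb _ (hRm _ hu _ hr'), hu0 _ hr']
        · rw [Module.End.mul_apply, hbw _ (inv_mem hb), Module.End.mul_apply, hw]
    rcases hirr X hinv with e | e
    · intro u hu hu0
      have : u w₀ ∈ X := ⟨u, hu, hu0, rfl⟩
      rw [e, Submodule.mem_bot] at this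
      exact hinj u hu this
    · exfalso
      obtain ⟨u, hu, hu0, hw⟩ : w₀ ∈ X := by rw [e]; trivial
      obtain rfl := heq u hu 1 hR1 hw
      obtain ⟨k₀, hk₀, hk₀1⟩ := hne
      refine hk₀1 (eq_one_of_comm σ h.perfect (fun k hk l hl => ?_) k₀ hk₀)
      have e1 := hbar _ (hσR k hk) _ (hσR l hl)
      have hz : ∀ r ∈ R, τ r = 0 := fun r hr => by simpa using hu0 r hr
      rwa [hz _ (hσR k hk), hz _ (hσR l hl), hz _ (hRm _ (hσR k hk) _ (hσR l hl)), add_zero, add_zero,
        add_zero] at e1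
  -- trace one
  obtain ⟨r₁, hr₁, hτr₁⟩ : ∃ r ∈ R, τ r = 1 := by
    by_contra hcon
    have hz : ∀ r ∈ R, τ r = 0 := fun r hr => by
      by_contra h0
      obtain ⟨y, hy, hy1⟩ := hZinv _ (hτZ r hr) h0
      exact hcon ⟨y * r, hRm _ hy.1 _ hr, by rw [hτz y hy r hr, hy1]⟩
    have h0 := hnondeg 1 hR1 fun r hr => by rw [one_mul]; exact hz r hr
    exact hn0 (by rw [← mul_one n, h0, mul_zero])
  have hone : (1 : Module.End (ZMod 2) W) ≠ 0 := fun e => hn0 (by rw [← mul_one n, e, mul_zero])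
  -- at least four intertwiners
  haveI : Finite (Module.End (ZMod 2) W) := Finite.of_injective (fun f => (f : W → W))
    DFunLike.coe_injective
  have hZ4 : 4 ≤ Nat.card Z := by
    by_cases hz : ∃ z ∈ Z, z ≠ 0 ∧ z ≠ 1
    · obtain ⟨z, hz, hz0, hz1⟩ := hz
      have hne' : z + 1 ≠ 0 ∧ z + 1 ≠ 1 ∧ z + 1 ≠ z := by
        refine ⟨fun e => hz1 ?_, fun e => hz0 (by simpa using e), fun e => hone (by simpa using e)⟩
        rwa [← ZModModule.sub_eq_add, sub_eq_zero] at e
      let g : Fin 4 → Z := ![⟨0, hZ0⟩, ⟨1, hZ1⟩, ⟨z, hz⟩, ⟨z + 1, hZadd z hz 1 hZ1⟩]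
      have hg : Function.Injective g := by
        intro i j e
        fin_cases i <;> fin_cases j <;>
          simp [g, Subtype.ext_iff, hz0, hz1, hne'.1, hne'.2.1, hne'.2.2, hne'.1.symm, hne'.2.1.symm,
            hne'.2.2.symm, hz0.symm, hz1.symm, hone, hone.symm] at e ⊢
      simpa using Nat.card_le_card_of_injective g hg
    exfalso
    simp only [not_exists, not_and, not_not] at hz
    obtain ⟨k₀, hk₀, hk₀1⟩ := hne
    let φ : ↥K →* (Module.End (ZMod 2) W)ˣ := (σ.comp K.subtype).toHomUnits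
    have hsolv : Group.IsSolvable φ.range := by
      have hpr : ∀ r, r.Prime → r ∣ Nat.card φ.range → r = 2 ∨ r = 3 := by
        intro r hr hd
        haveI := Fact.mk hr
        obtain ⟨⟨_, ⟨k, hk⟩, rfl⟩, ho⟩ := exists_prime_orderOf_dvd_card' r hd
        rw [← Subgroup.orderOf_coe] at ho
        have hq := hQ _ (hσR k hk)
        rw [huniq _ (hσR k hk) _ (htZ k hk) (hnkn k hk).1] at hq
        by_cases h1 : t k = 0
        · have e : σ k⁻¹ = σ k := by
            have : σ k + σ k⁻¹ = 0 := h1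
            rw [← ZModModule.sub_eq_add, sub_eq_zero] at this; exact this.symm
          have h2 : φ ⟨k, hk⟩ ^ 2 = 1 := Units.ext (by
            show σ k ^ 2 = 1
            rw [sq]; nth_rewrite 2 [← e]
            exact map_mul_inv σ k)
          exact Or.inl ((Nat.prime_dvd_prime_iff_eq hr Nat.prime_two).1
            (ho ▸ orderOf_dvd_of_pow_eq_one h2))
        · have ht1 : σ k + σ k⁻¹ = 1 := hz _ (htZ k hk) h1
          have e : σ k * σ k = σ k + 1 := by
            have := congrArg (σ k * ·) ht1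
            simp only [mul_add, map_mul_inv, mul_one] at this
            calc σ k * σ k = σ k * σ k + 1 + 1 := by rw [add_assoc, ZModModule.add_self, add_zero]
              _ = _ := by rw [this]
          have h3 : φ ⟨k, hk⟩ ^ 3 = 1 := Units.ext (by
            show σ k ^ 3 = 1
            rw [pow_succ, sq, e, add_mul, one_mul, e, add_comm, add_add_cancel_left'])
          exact Or.inr ((Nat.prime_dvd_prime_iff_eq hr Nat.prime_three).1
            (ho ▸ orderOf_dvd_of_pow_eq_one h3))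
      refine CfsgLib.Char.burnside_pq 2 3 Nat.prime_two Nat.prime_three
        ((Nat.card φ.range).factorization 2) ((Nat.card φ.range).factorization 3) φ.range ?_
      conv_lhs => rw [← Nat.prod_factorization_pow_eq_self (n := Nat.card φ.range) Nat.card_pos.ne']
      rw [Finsupp.prod, ← Finset.prod_pair (f := fun r => r ^ (Nat.card φ.range).factorization r)
        (show (2 : ℕ) ≠ 3 by norm_num)]
      refine Finset.prod_subset ?_ fun r _ hr => ?_
      · intro r hr
        rw [Nat.support_factorization] at hr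
        simpa using hpr r (Nat.prime_of_mem_primeFactors hr) (Nat.dvd_of_mem_primeFactors hr)
      · rw [Finsupp.notMem_support_iff.1 hr, pow_zero]
    refine hk₀1 ?_
    have hperf : Group.IsPerfect ↥K := ⟨by
      rw [_root_.commutator_def]
      apply map_injective K.subtype_injective
      rw [map_commutator, ← MonoidHom.range_eq_map, range_subtype]
      exact h.perfect⟩
    haveI : Group.IsPerfect φ.range := Group.IsPerfect.ofSurjective (f := φ.rangeRestrict)
      φ.rangeRestrict_surjective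
    rcases subsingleton_or_nontrivial φ.range with hs | hs
    · exact congrArg Units.val (congrArg Subtype.val
        (Subsingleton.elim (⟨φ ⟨k₀, hk₀⟩, _, rfl⟩ : φ.range) 1))
    · exact absurd hsolv (Group.IsPerfect.not_isSolvable φ.range)
  refine ⟨?_, ?_⟩
  · let g : {w : W // σ a w = w} × Z → W := fun x => x.1.1 + (x.2.1 * r₁) w₀
    have hg : Function.Injective g := by
      rintro ⟨⟨c, hc⟩, ⟨z, hz⟩⟩ ⟨⟨c', hc'⟩, ⟨z', hz'⟩⟩ e
      change c + (z * r₁) w₀ = c' + (z' * r₁) w₀ at e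
      have hzz := hZadd z hz z' hz'
      have hd : ((z + z') * r₁) w₀ = c + c' := by
        rw [add_mul, LinearMap.add_apply]
        have h1 : (z * r₁) w₀ = c + (c' + (z' * r₁) w₀) := by
          rw [← e, ← add_assoc, ZModModule.add_self, zero_add]
        rw [h1, add_assoc, add_assoc, ZModModule.add_self, add_zero]
      have h2 := hact _ (hRm _ hzz.1 _ hr₁)
      rw [LinearMap.add_apply, hd, map_add, hc, hc', hτz _ hzz r₁ hr₁, hτr₁, mul_one,
        left_eq_add] at h2
      have h3 : z + z' = 0 := hinj _ hzz.1 h2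
      rw [← ZModModule.sub_eq_add, sub_eq_zero] at h3
      subst h3
      have : c = c' := add_right_cancel e
      subst this
      rfl
    have h5 := Nat.card_le_card_of_injective g hg
    rw [Nat.card_prod] at h5
    nlinarith
  intro hB
  -- squares of trace zero elements
  have hsq : ∀ u ∈ R, τ u = 0 → u * u ∈ Z := fun u hu e => by simpa [e] using hQ u hu
  have hanti : ∀ u ∈ R, ∀ v ∈ R, τ u = 0 → τ v = 0 → u * v + v * u = τ (u * v) := by
    intro u hu v hv e1 e2
    have h1 := hbar u hu v hv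
    rw [e1, e2, add_zero, add_zero] at h1
    rw [← h1, ← add_assoc, ZModModule.add_self, zero_add]
  have hsqrt : ∀ z ∈ Z, ∃ y ∈ Z, y * y = z := by
    intro z hz
    have hs : Function.Surjective (fun y : Z => (⟨y.1 * y.1, hZmul _ y.2 _ y.2⟩ : Z)) :=
      Finite.surjective_of_injective fun y y' e => Subtype.ext (by
        have e' : y.1 * y.1 = y'.1 * y'.1 := congrArg Subtype.val e
        by_contra hne'
        have hs0 : (y.1 + y'.1) ≠ 0 := fun e0 => hne' (by
          rwa [← ZModModule.sub_eq_add, sub_eq_zero] at e0)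
        refine hs0 (hmulcancel _ (hZadd _ y.2 _ y'.2) hs0 _ ?_)
        rw [add_mul, mul_add, mul_add, show y'.1 * y.1 = y.1 * y'.1 from hZR _ y'.2 _ y.2.1, e']
        rw [show y'.1 * y'.1 + y.1 * y'.1 + (y.1 * y'.1 + y'.1 * y'.1) =
          (y'.1 * y'.1 + y'.1 * y'.1) + (y.1 * y'.1 + y.1 * y'.1) by abel,
          ZModModule.add_self, ZModModule.add_self, add_zero])
    obtain ⟨y, hy⟩ := hs ⟨z, hz⟩
    exact ⟨y.1, y.2, congrArg Subtype.val hy⟩
  -- trace zero elements orthogonal to all of them are intertwiners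
  have hrad : ∀ w ∈ R, τ w = 0 → (∀ t ∈ R, τ t = 0 → τ (w * t) = 0) → w ∈ Z := by
    intro w hw hw0 hwo
    obtain ⟨y, hy, hyy⟩ := hsqrt _ (hsq w hw hw0)
    set u := w + y with hu
    have huR : u ∈ R := add_mem hw hy.1
    have huu : u * u = 0 := by
      rw [hu, add_mul, mul_add, mul_add, hyy, hZR y hy w hw,
        show w * w + w * y + (w * y + w * w) = (w * w + w * w) + (w * y + w * y) by abel,
        ZModModule.add_self, ZModModule.add_self, add_zero]
    have huo : ∀ t ∈ R, τ t = 0 → τ (u * t) = 0 := fun t ht ht0 => by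
      rw [hu, add_mul, hτadd _ (hRm _ hw _ ht) _ (hRm _ hy.1 _ ht), hwo t ht ht0, hτz y hy t ht, ht0,
        mul_zero, add_zero]
    set c := τ (u * r₁) with hc
    have hcZ := hτZ _ (hRm _ huR _ hr₁)
    have hu1 : u * r₁ + c * r₁ ∈ R := add_mem (hRm _ huR _ hr₁) (hRm _ hcZ.1 _ hr₁)
    have h0 : τ (u * r₁ + c * r₁) = 0 := by
      rw [hτadd _ (hRm _ huR _ hr₁) _ (hRm _ hcZ.1 _ hr₁), hτz _ hcZ r₁ hr₁, hτr₁, mul_one,
        ZModModule.add_self]
    have h1 := huo _ hu1 h0
    rw [mul_add, ← mul_assoc, huu, zero_mul, zero_add, ← mul_assoc, ← hZR _ hcZ u huR, mul_assoc,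
      hτz _ hcZ _ (hRm _ huR _ hr₁), ← hc] at h1
    have hc0 : c = 0 := by_contra fun hne0 => hne0 (hmulcancel c hcZ hne0 _ h1)
    have : u = 0 := hnondeg u huR fun r hr => by
      have hr0 : r + τ r * r₁ ∈ R ∧ τ (r + τ r * r₁) = 0 :=
        ⟨add_mem hr (hRm _ (hτZ r hr).1 _ hr₁), by
          rw [hτadd _ hr _ (hRm _ (hτZ r hr).1 _ hr₁), hτz _ (hτZ r hr) r₁ hr₁, hτr₁, mul_one,
            ZModModule.add_self]⟩
      have h2 := huo _ hr0.1 hr0.2
      rw [mul_add, hτadd _ (hRm _ huR _ hr) _ (hRm _ huR _ (hRm _ (hτZ r hr).1 _ hr₁)), ← mul_assoc,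
        ← hZR _ (hτZ r hr) u huR, mul_assoc, hτz _ (hτZ r hr) _ (hRm _ huR _ hr₁), ← hc, hc0, mul_zero,
        add_zero] at h2
      exact h2
    rw [hu, ← ZModModule.sub_eq_add, sub_eq_zero] at this
    exact this ▸ hy
  -- the action of `B`
  have hτb : ∀ b ∈ B, ∀ r ∈ R, τ (σ b * r * σ b⁻¹) = τ r := fun b hb r hr =>
    huniq _ (hRb b hb r hr) _ (hτZ r hr) (by
      rw [← mul_assoc n, ← mul_assoc n, (h.fixb b hb).2, mul_assoc (n * r),
        (h.fixb _ (inv_mem hb)).1, hτ r hr])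
  set δ : H → Module.End (ZMod 2) W → Module.End (ZMod 2) W := fun b r => σ b * r * σ b⁻¹ + r with hδ
  have hδR : ∀ b ∈ B, ∀ r ∈ R, δ b r ∈ R := fun b hb r hr => add_mem (hRb b hb r hr) hr
  have hδ0 : ∀ b ∈ B, ∀ r ∈ R, τ (δ b r) = 0 := fun b hb r hr => by
    rw [hδ, hτadd _ (hRb b hb r hr) _ hr, hτb b hb r hr, ZModModule.add_self]
  have hδw : ∀ b ∈ B, ∀ r ∈ R, δ b r w₀ = (σ b - 1) (r w₀) := fun b hb r _ => by
    simp only [hδ, sub_one_eq, LinearMap.add_apply, Module.End.mul_apply, hbw _ (inv_mem hb),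
      Module.End.one_apply]
  have hfixed : ∀ b ∈ B, ∀ c ∈ B, ∀ r ∈ R, δ c (δ b r) = 0 := fun b hb c hc r hr => by
    refine hinj _ (hδR c hc _ (hδR b hb r hr)) ?_
    rw [hδw c hc _ (hδR b hb r hr), hδw b hb r hr, ← Module.End.mul_apply, h.quad c hc b hb,
      LinearMap.zero_apply]
  have hfix' : ∀ b, ∀ r, δ b r = 0 → σ b * r * σ b⁻¹ = r := fun b r e => by
    simp only [hδ] at e
    rwa [← ZModModule.sub_eq_add, sub_eq_zero] at e
  have hbinj : ∀ b ∈ B, σ b = 1 → b = 1 := by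
    intro b hb e
    by_contra hb1
    obtain ⟨k₀, hk₀, hk₀1⟩ := hne
    have hle : closure {x : H | ∃ k ∈ K, x = k⁻¹ * (b * k * b⁻¹)} ≤ σ.ker := (closure_le _).2 (by
      rintro _ ⟨k, hk, rfl⟩
      have e' : σ b⁻¹ = 1 := by have := map_inv_mul σ b; rwa [e, mul_one] at this
      show σ (k⁻¹ * (b * k * b⁻¹)) = 1
      rw [map_mul, map_mul, map_mul, e, e', one_mul, mul_one, map_inv_mul])
    rw [h.moves b hb hb1] at hle
    exact hk₀1 (hle hk₀)
  have hbfix : ∀ b ∈ B, (∀ r ∈ R, δ b r = 0) → b = 1 := fun b hb e => hbinj b hb (LinearMap.ext fun w => by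
    obtain ⟨r, hr, rfl⟩ := hsurj w
    conv_rhs => rw [Module.End.one_apply, ← hfix' b r (e r hr)]
    rw [Module.End.mul_apply, Module.End.mul_apply, hbw _ (inv_mem hb)])
  -- a fixed trace zero element
  obtain ⟨f, hfR, hf0, hff, hfZ, hfB⟩ :
      ∃ f ∈ R, τ f = 0 ∧ f * f = 0 ∧ f ∉ Z ∧ ∀ b ∈ B, δ b f = 0 := by
    obtain ⟨g, hgR, hg0, hgZ, hgB⟩ : ∃ g ∈ R, τ g = 0 ∧ g ∉ Z ∧ ∀ b ∈ B, δ b g = 0 := by
      by_contra hcon
      obtain ⟨⟨b, hb⟩, hb1⟩ := ne_bot_iff_exists_ne_one.1 hB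
      have hall : ∀ c ∈ B, ∀ r ∈ R, δ c r ∈ Z := fun c hc r hr => by_contra fun hz =>
        hcon ⟨_, hδR c hc r hr, hδ0 c hc r hr, hz, fun d hd => hfixed c hc d hd r hr⟩
      have hT0 : ∀ r ∈ R, τ r = 0 → δ b r = 0 := by
        intro r hr hr0
        have hz := hall b hb r hr
        obtain ⟨z, hze⟩ : ∃ z, z = δ b r := ⟨_, rfl⟩
        rw [← hze] at hz ⊢
        have e : σ b * r * σ b⁻¹ = r + z := by
          simp only [hze, hδ]; rw [add_comm r, add_assoc, ZModModule.add_self, add_zero]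
        have e2 : (σ b * r * σ b⁻¹) * (σ b * r * σ b⁻¹) = r * r := by
          calc _ = σ b * (r * (σ b⁻¹ * σ b) * r) * σ b⁻¹ := by simp only [mul_assoc]
            _ = σ b * (r * r) * σ b⁻¹ := by rw [map_inv_mul, mul_one]
            _ = _ := by rw [← (hsq r hr hr0).2, mul_assoc, map_mul_inv, mul_one]
        rw [e, add_mul, mul_add, mul_add, hZR z hz r hr,
          show r * r + r * z + (r * z + z * z) = r * r + (r * z + r * z) + z * z by abel,
          ZModModule.add_self, add_zero, add_eq_left] at e2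
        by_contra hz0
        exact hz0 (hmulcancel z hz hz0 z e2)
      obtain ⟨u, huR, hu0, huo⟩ : ∃ u ∈ R, τ u = 0 ∧ ∃ t ∈ R, τ t = 0 ∧ τ (u * t) ≠ 0 := by
        by_contra hcon2
        obtain ⟨k₀, hk₀, hk₀1⟩ := hne
        refine hk₀1 (eq_one_of_comm σ h.perfect (fun k hk l hl => ?_) k₀ hk₀)
        have hdec : ∀ r ∈ R, ∃ z ∈ Z, ∃ y ∈ Z, r = z + y * r₁ := fun r hr => by
          have hr' : r + τ r * r₁ ∈ R := add_mem hr (hRm _ (hτZ r hr).1 _ hr₁)
          have h0 : τ (r + τ r * r₁) = 0 := by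
            rw [hτadd _ hr _ (hRm _ (hτZ r hr).1 _ hr₁), hτz _ (hτZ r hr) r₁ hr₁, hτr₁, mul_one,
              ZModModule.add_self]
          refine ⟨_, hrad _ hr' h0 fun t ht ht0 => by_contra fun hne0 =>
            hcon2 ⟨_, hr', h0, t, ht, ht0, hne0⟩, τ r, hτZ r hr, ?_⟩
          rw [add_assoc, ZModModule.add_self, add_zero]
        obtain ⟨z, hz, y, hy, e1⟩ := hdec _ (hσR k hk)
        obtain ⟨z', hz', y', hy', e2⟩ := hdec _ (hσR l hl)
        rw [e1, e2]
        have c1 : Commute z (z' + y' * r₁) := hZR z hz _ (add_mem hz'.1 (hRm _ hy'.1 _ hr₁))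
        have c2 : Commute (y * r₁) z' := (hZR z' hz' _ (hRm _ hy.1 _ hr₁)).symm
        have c3 : Commute (y * r₁) (y' * r₁) :=
          (show Commute y (y' * r₁) from hZR y hy _ (hRm _ hy'.1 _ hr₁)).mul_left
            ((show Commute r₁ y' from (hZR y' hy' r₁ hr₁).symm).mul_right (Commute.refl r₁))
        exact (c1.add_left (c2.add_right c3)).eq
      obtain ⟨t, htR', ht0, htu⟩ := huo
      refine hb1 (Subtype.ext (hbfix b hb fun r hr => ?_))
      obtain ⟨y, hy, hy1⟩ := hZinv _ (hτZ _ (hRm _ huR _ htR')) htu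
      set v := y * t
      have hvR : v ∈ R := hRm _ hy.1 _ htR'
      have hv0 : τ v = 0 := by rw [hτz y hy t htR', ht0, mul_zero]
      have huv : τ (u * v) = 1 := by
        rw [← mul_assoc, ← hZR y hy u huR, mul_assoc, hτz y hy _ (hRm _ huR _ htR'), hy1]
      have hr' : r + τ r * (u * v) ∈ R := add_mem hr (hRm _ (hτZ r hr).1 _ (hRm _ huR _ hvR))
      have h0 : τ (r + τ r * (u * v)) = 0 := by
        rw [hτadd _ hr _ (hRm _ (hτZ r hr).1 _ (hRm _ huR _ hvR)),
          hτz _ (hτZ r hr) _ (hRm _ huR _ hvR), huv, mul_one, ZModModule.add_self]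
      have e1 := hfix' b _ (hT0 _ hr' h0)
      have e2 : σ b * (u * v) * σ b⁻¹ = u * v := by
        calc σ b * (u * v) * σ b⁻¹ = σ b * (u * (σ b⁻¹ * σ b) * v) * σ b⁻¹ := by
              rw [map_inv_mul, mul_one]
          _ = (σ b * u * σ b⁻¹) * (σ b * v * σ b⁻¹) := by simp only [mul_assoc]
          _ = _ := by rw [hfix' b u (hT0 u huR hu0), hfix' b v (hT0 v hvR hv0)]
      rw [mul_add, add_mul, ← mul_assoc (σ b) (τ r), ← (hτZ r hr).2, mul_assoc (τ r), mul_assoc (τ r),
        e2, add_left_inj] at e1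
      rw [hδ]; simp only [e1, ZModModule.add_self]
    obtain ⟨y, hy, hyy⟩ := hsqrt _ (hsq g hgR hg0)
    refine ⟨g + y, add_mem hgR hy.1, ?_, ?_, fun hz => hgZ ?_, fun b hb => ?_⟩
    · rw [hτadd g hgR y hy.1, hg0, hτ1 y hy, add_zero]
    · rw [add_mul, mul_add, mul_add, hyy, hZR y hy g hgR,
        show g * g + g * y + (g * y + g * g) = (g * g + g * g) + (g * y + g * y) by abel,
        ZModModule.add_self, ZModModule.add_self, add_zero]
    · simpa [add_assoc, ZModModule.add_self] using hZadd _ hz y hy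
    · have e := hgB b hb
      simp only [hδ, mul_add, add_mul, ← hy.2, mul_assoc y, map_mul_inv, mul_one] at e ⊢
      rw [show σ b * g * σ b⁻¹ + y + (g + y) = σ b * g * σ b⁻¹ + g + (y + y) by abel, e,
        ZModModule.add_self, add_zero]
  obtain ⟨v, hvR, hv0, hfv⟩ : ∃ v ∈ R, τ v = 0 ∧ τ (f * v) = 1 := by
    obtain ⟨t', ht', ht0, hne0⟩ : ∃ t ∈ R, τ t = 0 ∧ τ (f * t) ≠ 0 := by
      by_contra hcon
      exact hfZ (hrad f hfR hf0 fun t ht ht0 => by_contra fun h0 => hcon ⟨t, ht, ht0, h0⟩)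
    obtain ⟨y, hy, hy1⟩ := hZinv _ (hτZ _ (hRm _ hfR _ ht')) hne0
    refine ⟨y * t', hRm _ hy.1 _ ht', by rw [hτz y hy t' ht', ht0, mul_zero], ?_⟩
    rw [← mul_assoc, ← hZR y hy f hfR, mul_assoc, hτz y hy _ (hRm _ hfR _ ht'), hy1]
  have hfvR := hRm _ hfR _ hvR
  have hacom : f * v + v * f = 1 := (hanti f hfR v hvR hf0 hv0).trans hfv
  have hvf : τ (v * f) = 1 := by rw [hτcomm v hvR f hfR, hfv]
  have hzfv : ∀ z ∈ Z, τ (z * f * v) = z := fun z hz => by
    rw [mul_assoc, hτz z hz _ hfvR, hfv, mul_one]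
  -- orthogonal complement
  have horth : ∀ w ∈ R, τ w = 0 → τ (w * f) = 0 → τ (w * v) = 0 → w ∈ Z := by
    have hS : ∀ w ∈ R, τ w = 0 → τ (w * f) = 0 → τ (w * v) = 0 →
        ∀ w' ∈ R, τ w' = 0 → τ (w' * f) = 0 → τ (w' * v) = 0 → τ (w * w') = 0 := by
      intro w hw hw0 hwf hwv w₁ hw₁ hw₁0 hw₁f hw₁v
      by_contra hne0
      obtain ⟨y, hy, hy1⟩ := hZinv _ (hτZ _ (hRm _ hw _ hw₁)) hne0
      obtain ⟨w', hw'e⟩ : ∃ w', w' = y * w₁ := ⟨_, rfl⟩
      have hw'R : w' ∈ R := hw'e ▸ hRm _ hy.1 _ hw₁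
      have hw'0 : τ w' = 0 := by rw [hw'e, hτz y hy w₁ hw₁, hw₁0, mul_zero]
      have hcom : ∀ x ∈ R, τ x = 0 → ∀ q ∈ R, τ q = 0 → τ (x * q) = 0 → x * q = q * x :=
        fun x hx hx0 q hq hq0 e => by
          have := hanti x hx q hq hx0 hq0
          rwa [e, ← ZModModule.sub_eq_add, sub_eq_zero] at this
      have cwf : w * f = f * w := hcom w hw hw0 f hfR hf0 hwf
      have cwv : w * v = v * w := hcom w hw hw0 v hvR hv0 hwv
      have cw'f : w' * f = f * w' := hcom w' hw'R hw'0 f hfR hf0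
        (by rw [hw'e, mul_assoc, hτz y hy _ (hRm _ hw₁ _ hfR), hw₁f, mul_zero])
      have cw'v : w' * v = v * w' := hcom w' hw'R hw'0 v hvR hv0
        (by rw [hw'e, mul_assoc, hτz y hy _ (hRm _ hw₁ _ hvR), hw₁v, mul_zero])
      have hww' : w * w' + w' * w = 1 := by
        rw [hanti w hw w' hw'R hw0 hw'0, hw'e, ← mul_assoc, ← hZR y hy w hw, mul_assoc,
          hτz y hy _ (hRm _ hw _ hw₁), hy1]
      obtain ⟨x, hx⟩ : ∃ x, x = w * f + w' * v := ⟨_, rfl⟩
      have hxR : x ∈ R := hx ▸ add_mem (hRm _ hw _ hfR) (hRm _ hw'R _ hvR)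
      have hq := hZR _ (hQ x hxR) f hfR
      have h1 : f * x + x * f = w' := by
        calc f * x + x * f = (f * w * f + w * f * f) + (f * w' * v + w' * v * f) := by
              rw [hx]; simp only [mul_add, add_mul, mul_assoc]; abel
          _ = (w * f * f + w * f * f) + w' * (f * v + v * f) := by
              rw [← cwf, ← cw'f]; simp only [mul_add, mul_assoc]
          _ = _ := by rw [hacom, mul_one, ZModModule.add_self, zero_add]
      have h2 : f * (x * x) + x * x * f = f := by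
        calc f * (x * x) + x * x * f = (f * x + x * f) * x + x * (f * x + x * f) := by
              simp only [add_mul, mul_add, mul_assoc]
              rw [show f * (x * x) + x * (f * x) + (x * (f * x) + x * (x * f)) =
                f * (x * x) + x * (x * f) + (x * (f * x) + x * (f * x)) by abel, ZModModule.add_self,
                add_zero]
          _ = w' * x + x * w' := by rw [h1]
          _ = (w' * w * f + w * (f * w')) + (w' * w' * v + w' * (v * w')) := by
              rw [hx]; simp only [mul_add, add_mul, mul_assoc]; abel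
          _ = (w * w' + w' * w) * f + (w' * w' * v + w' * w' * v) := by
              rw [← cw'f, ← cw'v]; simp only [add_mul, mul_assoc]; abel
          _ = f := by rw [hww', one_mul, ZModModule.add_self, add_zero]
      have h3 : f + τ x * w' = 0 := by
        have e0 : f * (x * x + τ x * x) + (x * x + τ x * x) * f = 0 := by
          rw [hq, ZModModule.add_self]
        rw [mul_add, add_mul, ← mul_assoc f (τ x), ← hZR _ (hτZ x hxR) f hfR, mul_assoc (τ x),
          mul_assoc (τ x), show f * (x * x) + τ x * (f * x) + (x * x * f + τ x * (x * f)) =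
            (f * (x * x) + x * x * f) + (τ x * (f * x) + τ x * (x * f)) by abel, h2, ← mul_add, h1] at e0
        exact e0
      have h4 : f = τ x * w' := by rwa [← ZModModule.sub_eq_add, sub_eq_zero] at h3
      have h5 : τ (f * v) = 0 := by
        rw [h4, mul_assoc, hτz _ (hτZ x hxR) _ (hRm _ hw'R _ hvR), hw'e, mul_assoc y,
          hτz y hy _ (hRm _ hw₁ _ hvR), hw₁v, mul_zero, mul_zero]
      exact hone (hfv ▸ h5)
    intro w hw hw0 hwf hwv
    refine hrad w hw hw0 fun t' ht' ht0 => ?_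
    set p1 := τ (t' * v)
    set p2 := τ (t' * f)
    have hp1 := hτZ _ (hRm _ ht' _ hvR)
    have hp2 := hτZ _ (hRm _ ht' _ hfR)
    set t2 := t' + (p1 * f + p2 * v)
    have m1 := hRm _ hp1.1 _ hfR
    have m2 := hRm _ hp2.1 _ hvR
    have ht2 : t2 ∈ R := add_mem ht' (add_mem m1 m2)
    have e0 : τ t2 = 0 := by
      rw [hτadd _ ht' _ (add_mem m1 m2), hτadd _ m1 _ m2, ht0, hτz _ hp1 f hfR, hτz _ hp2 v hvR, hf0,
        hv0, mul_zero, mul_zero, add_zero, add_zero]
    have ef : τ (t2 * f) = 0 := by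
      rw [add_mul, add_mul, mul_assoc p1, hff, mul_zero, zero_add, mul_assoc p2,
        hτadd _ (hRm _ ht' _ hfR) _ (hRm _ hp2.1 _ (hRm _ hvR _ hfR)),
        hτz _ hp2 _ (hRm _ hvR _ hfR), hvf, mul_one, ZModModule.add_self]
    have ev : τ (t2 * v) = 0 := by
      rw [add_mul, add_mul, hτadd _ (hRm _ ht' _ hvR) _ (add_mem (hRm _ m1 _ hvR) (hRm _ m2 _ hvR)),
        hτadd _ (hRm _ m1 _ hvR) _ (hRm _ m2 _ hvR), hzfv _ hp1, mul_assoc p2,
        hτz _ hp2 _ (hRm _ hvR _ hvR), hτ1 _ (hsq v hvR hv0), mul_zero, add_zero, ZModModule.add_self]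
    have h1 := hS w hw hw0 hwf hwv t2 ht2 e0 ef ev
    rw [mul_add, mul_add, hτadd _ (hRm _ hw _ ht') _ (add_mem (hRm _ hw _ m1) (hRm _ hw _ m2)),
      hτadd _ (hRm _ hw _ m1) _ (hRm _ hw _ m2), ← mul_assoc w, ← hZR p1 hp1 w hw, mul_assoc p1,
      hτz _ hp1 _ (hRm _ hw _ hfR), hwf, ← mul_assoc w, ← hZR p2 hp2 w hw, mul_assoc p2,
      hτz _ hp2 _ (hRm _ hw _ hvR), hwv, mul_zero, mul_zero, add_zero, add_zero] at h1
    exact h1
  -- decomposition
  have hdec : ∀ r ∈ R, ∃ z ∈ Z, ∃ x ∈ Z, ∃ y ∈ Z, ∃ q ∈ Z, r = z + x * f + y * v + q * (f * v) := by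
    intro r hr
    have hq := hτZ r hr
    have m0 := hRm _ hq.1 _ hfvR
    obtain ⟨t', ht'e⟩ : ∃ t, t = r + τ r * (f * v) := ⟨_, rfl⟩
    have ht' : t' ∈ R := ht'e ▸ add_mem hr m0
    have ht0 : τ t' = 0 := by
      rw [ht'e, hτadd _ hr _ m0, hτz _ hq _ hfvR, hfv, mul_one, ZModModule.add_self]
    have hp1 := hτZ _ (hRm _ ht' _ hvR)
    have hp2 := hτZ _ (hRm _ ht' _ hfR)
    have m1 := hRm _ hp1.1 _ hfR
    have m2 := hRm _ hp2.1 _ hvR
    set z := t' + (τ (t' * v) * f + τ (t' * f) * v)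
    have hz : z ∈ Z := by
      refine horth z (add_mem ht' (add_mem m1 m2)) ?_ ?_ ?_
      · rw [hτadd _ ht' _ (add_mem m1 m2), hτadd _ m1 _ m2, ht0, hτz _ hp1 f hfR, hτz _ hp2 v hvR, hf0,
          hv0, mul_zero, mul_zero, add_zero, add_zero]
      · rw [add_mul, add_mul, mul_assoc _ f f, hff, mul_zero, zero_add, mul_assoc _ v f,
          hτadd _ (hRm _ ht' _ hfR) _ (hRm _ hp2.1 _ (hRm _ hvR _ hfR)),
          hτz _ hp2 _ (hRm _ hvR _ hfR), hvf, mul_one, ZModModule.add_self]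
      · rw [add_mul, add_mul, hτadd _ (hRm _ ht' _ hvR) _ (add_mem (hRm _ m1 _ hvR) (hRm _ m2 _ hvR)),
          hτadd _ (hRm _ m1 _ hvR) _ (hRm _ m2 _ hvR), hzfv _ hp1, mul_assoc _ v v,
          hτz _ hp2 _ (hRm _ hvR _ hvR), hτ1 _ (hsq v hvR hv0), mul_zero, add_zero, ZModModule.add_self]
    refine ⟨z, hz, _, hp1, _, hp2, τ r, hq, ?_⟩
    show r = t' + (τ (t' * v) * f + τ (t' * f) * v) + τ (t' * v) * f + τ (t' * f) * v + τ r * (f * v)
    generalize τ (t' * v) * f = P
    generalize τ (t' * f) * v = Q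
    rw [ht'e]
    generalize τ r * (f * v) = S
    rw [show r + S + (P + Q) + P + Q + S = r + ((S + S) + (P + P) + (Q + Q)) by abel,
      ]
    simp only [ZModModule.add_self, add_zero]
  have hfree : ∀ x ∈ Z, ∀ y ∈ Z, x * f + y = 0 → x = 0 ∧ y = 0 := by
    intro x hx y hy e
    by_cases hx0 : x = 0
    · subst hx0; exact ⟨rfl, by simpa using e⟩
    obtain ⟨x', hx', hxx⟩ := hZinv x hx hx0
    refine absurd ?_ hfZ
    have := congrArg (x' * ·) e
    simp only [mul_add, mul_zero, ← mul_assoc, hxx, one_mul] at this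
    rw [← ZModModule.sub_eq_add, sub_eq_zero] at this
    exact this ▸ hZmul _ hx' _ hy
  -- the translation attached to an element of `B`
  have hconjmul : ∀ b, ∀ x y : Module.End (ZMod 2) W,
      σ b * (x * y) * σ b⁻¹ = (σ b * x * σ b⁻¹) * (σ b * y * σ b⁻¹) := fun b x y => by
    calc σ b * (x * y) * σ b⁻¹ = σ b * (x * (σ b⁻¹ * σ b) * y) * σ b⁻¹ := by rw [map_inv_mul, mul_one]
      _ = _ := by simp only [mul_assoc]
  have hconjZ : ∀ b, ∀ z ∈ Z, σ b * z * σ b⁻¹ = z := fun b z hz => by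
    rw [← hz.2, mul_assoc, map_mul_inv, mul_one]
  set μ : H → Module.End (ZMod 2) W := fun b => τ (δ b v * v) with hμ
  have hδv : ∀ b ∈ B, ∃ α ∈ Z, α * α = μ b ∧ δ b v = α + μ b * f := by
    intro b hb
    have hd := hδR b hb v hvR
    have hd0 := hδ0 b hb v hvR
    have hm : μ b ∈ Z := hτZ _ (hRm _ hd _ hvR)
    have m1 := hRm _ hm.1 _ hfR
    have hdf : τ (δ b v * f) = 0 := by
      show τ ((σ b * v * σ b⁻¹ + v) * f) = 0
      nth_rewrite 1 [← hfix' b f (hfB b hb)]
      rw [add_mul, ← hconjmul, hτadd _ (hRb b hb _ (hRm _ hvR _ hfR)) _ (hRm _ hvR _ (hRb b hb f hfR)),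
        hτb b hb _ (hRm _ hvR _ hfR), hfix' b f (hfB b hb), ZModModule.add_self]
    have hα : δ b v + μ b * f ∈ Z := by
      refine horth _ (add_mem hd m1) ?_ ?_ ?_
      · rw [hτadd _ hd _ m1, hτz _ hm f hfR, hd0, hf0, mul_zero, add_zero]
      · rw [add_mul, mul_assoc, hff, mul_zero, add_zero, hdf]
      · rw [add_mul, hτadd _ (hRm _ hd _ hvR) _ (hRm _ m1 _ hvR), hzfv _ hm]
        simp only [hμ]
        exact ZModModule.add_self _
    refine ⟨_, hα, ?_, by rw [add_assoc, ZModModule.add_self, add_zero]⟩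
    set α := δ b v + μ b * f
    have e1 : σ b * v * σ b⁻¹ = v + (α + μ b * f) := by
      simp only [α, hδ]
      rw [add_assoc _ (μ b * f), ZModModule.add_self, add_zero, add_comm v, add_assoc, ZModModule.add_self,
        add_zero]
    have e2 := hconjmul b v v
    rw [hconjZ b _ (hsq v hvR hv0), e1] at e2
    have e3 : (v + (α + μ b * f)) * (v + (α + μ b * f)) =
        v * v + (α * α + μ b) := by
      have c1 : v * α = α * v := (hZR α hα v hvR).symm
      have c2 : v * (μ b * f) = μ b * (v * f) := by rw [← mul_assoc, ← hZR _ hm v hvR, mul_assoc]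
      have c3 : μ b * f * (μ b * f) = 0 := by
        rw [mul_assoc, ← mul_assoc f, ← hZR _ hm f hfR, mul_assoc (μ b) f, hff, mul_zero, mul_zero]
      have c4 : α * (μ b * f) = μ b * f * α := hZR α hα _ m1
      simp only [mul_add, add_mul, c1, c2, c3, c4, add_zero]
      rw [show v * v + (α * v + μ b * f * v) +
          (α * v + (α * α + μ b * f * α) + (μ b * (v * f) + μ b * f * α)) =
        v * v + α * α + ((α * v + α * v) + (μ b * f * α + μ b * f * α)) +
          (μ b * f * v + μ b * (v * f)) by abel, ZModModule.add_self, ZModModule.add_self, add_zero,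
        add_zero, mul_assoc (μ b), ← mul_add, hacom, mul_one, add_assoc]
    rw [e3, left_eq_add, ← ZModModule.sub_eq_add, sub_eq_zero] at e2
    exact e2
  have hdet : ∀ b ∈ B, δ b v = 0 → b = 1 := by
    intro b hb e
    refine hbfix b hb fun r hr => ?_
    obtain ⟨z, hz, x, hx, y, hy, q, hq, rfl⟩ := hdec r hr
    rw [hδ]
    simp only [mul_add, add_mul, hconjmul b, hconjZ b z hz, hconjZ b x hx, hconjZ b y hy, hconjZ b q hq,
      hfix' b f (hfB b hb), hfix' b v e, ZModModule.add_self]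
  have hμinj : ∀ b ∈ B, ∀ c ∈ B, μ b = μ c → b = c := by
    intro b hb c hc e
    obtain ⟨α, hα, hαμ, hbv⟩ := hδv b hb
    obtain ⟨β, hβ, hβμ, hcv⟩ := hδv c hc
    have hαβ : α = β := by
      by_contra hne0
      have hs : α + β ≠ 0 := fun e0 => hne0 (by rwa [← ZModModule.sub_eq_add, sub_eq_zero] at e0)
      refine hs (hmulcancel _ (hZadd α hα β hβ) hs _ ?_)
      rw [add_mul, mul_add, mul_add, hαμ, hβμ, ← e, hZR β hβ α hα.1,
        show μ b + α * β + (α * β + μ b) = (μ b + μ b) + (α * β + α * β) by abel,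
        ZModModule.add_self, ZModModule.add_self, add_zero]
    have e' : δ b v = δ c v := by rw [hbv, hcv, hαβ, e]
    have e1 : σ b * v * σ b⁻¹ = σ c * v * σ c⁻¹ := add_right_cancel e'
    have hcb : c⁻¹ * b ∈ B := mul_mem (inv_mem hc) hb
    have := hdet _ hcb (by
      show σ (c⁻¹ * b) * v * σ (c⁻¹ * b)⁻¹ + v = 0
      rw [mul_inv_rev, inv_inv, map_mul, map_mul]
      calc σ c⁻¹ * σ b * v * (σ b⁻¹ * σ c) + v = σ c⁻¹ * (σ b * v * σ b⁻¹) * σ c + v := by
            simp only [mul_assoc]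
        _ = σ c⁻¹ * σ c * v * (σ c⁻¹ * σ c) + v := by rw [e1]; simp only [mul_assoc]
        _ = 0 := by rw [map_inv_mul, one_mul, mul_one, ZModModule.add_self])
    exact (inv_mul_eq_one.1 this).symm
  have hBZ : Nat.card B ≤ Nat.card Z := Nat.card_le_card_of_injective
    (fun b : B => (⟨μ b, hτZ _ (hRm _ (hδR b b.2 v hvR) _ hvR)⟩ : Z))
    fun b c e => Subtype.ext (hμinj b b.2 c c.2 (congrArg Subtype.val e))
  obtain ⟨⟨b₁, hb₁⟩, hb₁1⟩ := ne_bot_iff_exists_ne_one.1 hB
  obtain ⟨α, hα, hαμ, hbv⟩ := hδv b₁ hb₁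
  have hμ0 : μ b₁ ≠ 0 := fun e => hb₁1 (Subtype.ext (hdet b₁ hb₁ (by
    rw [hbv, e, zero_mul, add_zero]
    by_contra hne0
    exact hne0 (hmulcancel α hα hne0 α (hαμ.trans e)))))
  have hα0 : α ≠ 0 := fun e => hμ0 (by rw [← hαμ, e, mul_zero])
  let g : {w : W // ∀ b ∈ B, σ b w = w} × (Z × Z) → W :=
    fun x => x.1.1 + (x.2.1.1 * v + x.2.2.1 * (f * v)) w₀
  have hg : Function.Injective g := by
    rintro ⟨⟨c, hc⟩, ⟨y, hy⟩, ⟨q, hq⟩⟩ ⟨⟨c', hc'⟩, ⟨y', hy'⟩, ⟨q', hq'⟩⟩ e
    change c + (y * v + q * (f * v)) w₀ = c' + (y' * v + q' * (f * v)) w₀ at e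
    have hyy := hZadd y hy y' hy'
    have hqq := hZadd q hq q' hq'
    set r := (y + y') * v + (q + q') * (f * v)
    have hrR : r ∈ R := add_mem (hRm _ hyy.1 _ hvR) (hRm _ hqq.1 _ hfvR)
    have hr : r w₀ = c + c' := by
      have h1 : (y * v + q * (f * v)) w₀ = c + (c' + (y' * v + q' * (f * v)) w₀) := by
        rw [← e, ← add_assoc, ZModModule.add_self, zero_add]
      rw [show r = (y * v + q * (f * v)) + (y' * v + q' * (f * v)) by simp only [r, add_mul]; abel,
        LinearMap.add_apply, h1, add_assoc, add_assoc, ZModModule.add_self, add_zero]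
    have hfx : δ b₁ r = 0 := hinj _ (hδR b₁ hb₁ r hrR) (by
      rw [hδw b₁ hb₁ r hrR, hr, sub_one_eq, LinearMap.add_apply, Module.End.one_apply, map_add,
        hc b₁ hb₁, hc' b₁ hb₁, ZModModule.add_self])
    have hd : δ b₁ r = (y + y') * δ b₁ v + (q + q') * (f * δ b₁ v) := by
      simp only [r, hδ, mul_add, add_mul, hconjmul b₁, hconjZ b₁ y hy, hconjZ b₁ y' hy',
        hconjZ b₁ q hq, hconjZ b₁ q' hq', hfix' b₁ f (hfB b₁ hb₁)]
      abel
    rw [hd, hbv, mul_add, mul_add f, ← hZR α hα f hfR, ← mul_assoc f (μ b₁), ← hZR _ (hτZ _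
      (hRm _ (hδR b₁ hb₁ v hvR) _ hvR)) f hfR, mul_assoc (μ b₁), hff, mul_zero, add_zero, ← mul_assoc,
      ← mul_assoc (q + q'), show (y + y') * α + (y + y') * μ b₁ * f + (q + q') * α * f =
        ((y + y') * μ b₁ + (q + q') * α) * f + (y + y') * α by
          rw [add_mul ((y + y') * μ b₁)]; abel] at hfx
    obtain ⟨h1, h2⟩ := hfree _ (hZadd _ (hZmul _ hyy _ (hτZ _ (hRm _ (hδR b₁ hb₁ v hvR) _ hvR))) _
      (hZmul _ hqq _ hα)) _ (hZmul _ hyy _ hα) hfx
    have hy0 : y + y' = 0 := by_contra fun h0 => hα0 (hmulcancel _ hyy h0 _ h2)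
    rw [hy0, zero_mul, zero_add] at h1
    have hq0 : q + q' = 0 := by_contra fun h0 => hα0 (hmulcancel _ hqq h0 _ h1)
    rw [← ZModModule.sub_eq_add, sub_eq_zero] at hy0 hq0
    subst hy0; subst hq0
    have : c = c' := add_right_cancel e
    subst this; rfl
  have h5 := Nat.card_le_card_of_injective g hg
  rw [Nat.card_prod, Nat.card_prod] at h5
  calc 4 * Nat.card B * Nat.card {w : W // ∀ b ∈ B, σ b w = w}
      ≤ Nat.card Z * Nat.card Z * Nat.card {w : W // ∀ b ∈ B, σ b w = w} := by gcongr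
    _ ≤ _ := by rw [mul_comm]; exact h5

end CfsgLib.ClassK.PGV
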