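import Cfsg.Agent.Lib.ClassK.PGVQuad
import Cfsg.Agent.Lib.ClassK.PGVOdd

/-!
The three ways of killing `K`: odd `p`; `p = 2` with two independent involutions moving `K`;
`p = 2` with a small commutator space.
-/

set_option autoImplicit false
set_option linter.style.haveILetI false
set_option linter.unusedSectionVars false

namespace CfsgLib.ClassK.PGV

open Subgroup
open scoped commutatorElement

universe u v

theorem perfect_subgroupOf {H : Type u} [Group H] {K L : Subgroup H} (hK : ⁅K, K⁆ = K) (hKL : K ≤ L) :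
    ⁅K.subgroupOf L, K.subgroupOf L⁆ = K.subgroupOf L := by
  apply map_injective L.subtype_injective
  rw [map_commutator, subgroupOf_map_subtype, inf_eq_left.2 hKL]
  exact hK

theorem gen_subgroupOf {H : Type u} [Group H] (S : Set H) :
    closure (((↑) : ↥(closure S) → H) ⁻¹' S) = ⊤ :=
  closure_closure_coe_preimage

section Odd

variable {p : ℕ} [Fact p.Prime] {H : Type u} [Group H] {W : Type v} [AddCommGroup W]
  [Module (ZMod p) W]

theorem odd_trivial [Finite W] (hp2 : p ≠ 2) (σ : H →* Module.End (ZMod p) W) {K : Subgroup H} {a : H}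
    [Fintype (zpowers a)] (hK : ⁅K, K⁆ = K) (ha : orderOf a = p)
    (h : ∀ t ∈ zpowers a, t ≠ 1 → ∀ k ∈ K, ∀ l ∈ K, Commute k (t * l * t⁻¹))
    (hd : ∀ k : ↥K, σ (diag h k) * (σ a - 1) = σ a - 1) : ∀ k ∈ K, σ k = 1 := by
  set S : Set H := (K : Set H) ∪ {a} with hS
  set L := closure S
  have haL : a ∈ L := subset_closure (Or.inr rfl)
  have hKL : K ≤ L := fun k hk => subset_closure (Or.inl hk)
  have hzL : zpowers a ≤ L := zpowers_le.2 haL
  intro k hk
  refine odd_core hp2 (K := K.subgroupOf L) (a := (⟨a, haL⟩ : L)) (perfect_subgroupOf hK hKL)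
    (by rw [Subgroup.orderOf_mk]; exact ha) ?_ ?_ W (σ.comp L.subtype) ?_ ⟨k, hKL hk⟩ hk
  · rw [← gen_subgroupOf S]
    congr 1
    ext x
    simp [hS, mem_subgroupOf, Subtype.ext_iff]
  · rintro t ht ht1 k hk l hl
    have ht' : (t : H) ∈ zpowers a := by
      obtain ⟨i, rfl⟩ := ht
      exact ⟨i, by simp⟩
    exact Subtype.ext (h _ ht' (fun e => ht1 (Subtype.ext e)) k hk l hl).eq
  · intro x hx
    obtain ⟨R, hR, hcm⟩ := diag_eq h ⟨x, hx⟩
    have hdL : diag h ⟨x, hx⟩ ∈ L := by
      rw [diag_apply]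
      exact noncommProd_mem _ _ fun t _ =>
        mul_mem (mul_mem (hzL t.2) (hKL hx)) (inv_mem (hzL t.2))
    have hRL : R ∈ L := by
      rw [show R = (x : L).1⁻¹ * diag h ⟨x, hx⟩ by rw [hR]; group]
      exact mul_mem (inv_mem x.2) hdL
    refine ⟨⟨R, hRL⟩, fun l hl => ?_, ?_, ?_⟩
    · show σ l * σ R = σ R * σ l
      rw [← map_mul, ← map_mul, (hcm l hl).eq]
    · show σ x * σ R * (σ a - 1) = σ a - 1
      rw [← map_mul, ← hR, hd]
    · show (σ a - 1) * (σ x * σ R) = σ a - 1
      rw [← map_mul, ← hR, sub_mul, one_mul, ← map_mul, diag_commute h (mem_zpowers a), map_mul]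
      conv_lhs => arg 2; rw [← mul_one (σ (diag h ⟨x, hx⟩))]
      rw [← mul_sub, hd]

end Odd

section Two

variable {H : Type u} [Group H] {W : Type v} [AddCommGroup W] [Module (ZMod 2) W]

theorem two_moving (σ : H →* Module.End (ZMod 2) W) {K : Subgroup H} {a e : H} (hK : ⁅K, K⁆ = K)
    (ha : a * a = 1) (he : e * e = 1) (hae : a * e = e * a)
    (hca : ∀ k ∈ K, ∀ l ∈ K, Commute k (a * l * a⁻¹)) (hce : ∀ k ∈ K, ∀ l ∈ K, Commute k (e * l * e⁻¹))
    (hcae : ∀ k ∈ K, ∀ l ∈ K, Commute k (a * e * l * (a * e)⁻¹))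
    (hde : ∀ k ∈ K, σ (k * (e * k * e⁻¹)) * (σ e - 1) = σ e - 1)
    (hda : ∀ k ∈ K, (σ a - 1) * σ (k * (a * k * a⁻¹)) = σ a - 1) : ∀ k ∈ K, σ k = 1 := by
  have hei : e⁻¹ = e := inv_eq_of_mul_eq_one_right he
  have hai : a⁻¹ = a := inv_eq_of_mul_eq_one_right ha
  -- fixed by `K` implies fixed by `eKe⁻¹`
  have hC : ∀ v, (∀ k ∈ K, σ k v = v) → ∀ k ∈ K, σ (e * k * e⁻¹) v = v := by
    intro v hv
    have hev : ∀ k ∈ K, σ (e * k * e⁻¹) (σ e v) = σ e v := fun k hk => by
      rw [← Module.End.mul_apply, ← map_mul, inv_mul_cancel_right, map_mul, Module.End.mul_apply, hv k hk]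
    have key : ∀ k ∈ K, σ k (σ e v) + σ (e * k * e⁻¹) v = σ e v + v := by
      intro k hk
      have h1 := LinearMap.congr_fun (hde k hk) v
      simp only [Module.End.mul_apply, LinearMap.sub_apply, Module.End.one_apply, map_sub] at h1
      simp only [ZModModule.sub_eq_add] at h1
      rw [map_mul σ k, Module.End.mul_apply, Module.End.mul_apply, hev k hk,
        ← Module.End.mul_apply (σ k) (σ (e * k * e⁻¹)) v, ← map_mul, (hce k hk k hk).eq, map_mul,
        Module.End.mul_apply, hv k hk] at h1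
      exact h1
    have hev' : ∀ k ∈ K, σ k (σ e v) = σ e v := by
      refine commutator_fix σ hK fun k hk l hl => ?_
      have hl' : σ l (σ e v) - σ e v = σ (e * l * e⁻¹) v - v := by
        rw [ZModModule.sub_eq_add, ZModModule.sub_eq_add,
          show σ l (σ e v) = σ l (σ e v) + σ (e * l * e⁻¹) v + σ (e * l * e⁻¹) v by
            rw [add_assoc, ZModModule.add_self, add_zero], key l hl]
        rw [show σ e v + v + σ (e * l * e⁻¹) v + σ e v = (σ e v + σ e v) + (σ (e * l * e⁻¹) v + v) by abel,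
          ZModModule.add_self, zero_add]
      rw [hl', map_sub, hv k hk, ← Module.End.mul_apply, ← map_mul, (hce k hk l hl).eq, map_mul,
        Module.End.mul_apply, hv k hk]
    intro k hk
    have := congrArg (σ e) (hev' k hk)
    rw [← Module.End.mul_apply (σ e), ← Module.End.mul_apply (σ e * σ k), ← Module.End.mul_apply (σ e),
      ← map_mul, ← map_mul, ← map_mul, he, map_one, Module.End.one_apply] at this
    rw [hei]
    exact this
  set n := σ a - 1 with hn
  -- `x m` is the diagonal element of `eKe⁻¹` over `⟨a⟩`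
  set x : H → Module.End (ZMod 2) W := fun m => σ (e * (m * (a * m * a⁻¹)) * e⁻¹) with hx
  have hcEK : ∀ m ∈ K, ∀ k ∈ K, x m * σ k = σ k * x m ∧
      x m * σ (a * k * a⁻¹) = σ (a * k * a⁻¹) * x m := by
    intro m hm k hk
    have e1 : e * (m * (a * m * a⁻¹)) * e⁻¹ = (e * m * e⁻¹) * (a * e * m * (a * e)⁻¹) := by
      rw [hae]; group
    have c1 : Commute k (e * m * e⁻¹) := hce k hk m hm
    have c2 : Commute k (a * e * m * (a * e)⁻¹) := hcae k hk m hm
    have c3 : Commute (a * k * a⁻¹) (a * e * m * (a * e)⁻¹) := by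
      have := (hce k hk m hm).map (MulAut.conj a).toMonoidHom
      simpa [mul_assoc] using this
    have c4 : Commute (a * k * a⁻¹) (e * m * e⁻¹) := by
      have h5 := (hcae k hk m hm).map (MulAut.conj a).toMonoidHom
      have e2 : (MulAut.conj a).toMonoidHom (a * e * m * (a * e)⁻¹) = e * m * e⁻¹ := by
        show a * (a * e * m * (a * e)⁻¹) * a⁻¹ = _
        rw [show a * (a * e * m * (a * e)⁻¹) * a⁻¹ = (a * a) * (e * m * e⁻¹) * (a * a)⁻¹ by group, ha]
        group
      rw [e2] at h5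
      exact h5
    show σ _ * σ k = σ k * σ _ ∧ σ _ * σ (a * k * a⁻¹) = σ (a * k * a⁻¹) * σ _
    rw [← map_mul, ← map_mul, ← map_mul, ← map_mul, e1, (c1.mul_right c2).eq, (c4.mul_right c3).eq]
    exact ⟨rfl, rfl⟩
  have hnx : ∀ m ∈ K, n * (x m - 1) = 0 := by
    intro m hm
    have hne : n * σ e = σ e * n := by rw [hn, sub_mul, mul_sub, one_mul, mul_one, ← map_mul, hae, map_mul]
    rw [mul_sub, mul_one, sub_eq_zero]
    show n * σ (e * (m * (a * m * a⁻¹)) * e⁻¹) = n
    rw [map_mul σ _ e⁻¹, map_mul σ e, ← mul_assoc, ← mul_assoc, hne, mul_assoc (σ e), hda m hm, ← hne,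
      mul_assoc, map_mul_inv, mul_one]
  have hkx : ∀ m ∈ K, ∀ k ∈ K, σ k * (x m - 1) = σ (a * k * a⁻¹) * (x m - 1) := by
    intro m hm k hk
    have h1 : σ a * (x m - 1) = x m - 1 := by
      have := hnx m hm
      rw [hn, sub_mul, one_mul, sub_eq_zero] at this
      exact this
    obtain ⟨c1, c2⟩ := hcEK m hm k hk
    calc σ k * (x m - 1) = σ k * σ a * (x m - 1) := by rw [mul_assoc, h1]
      _ = σ a * (σ (a * k * a⁻¹) * (x m - 1)) := by
        rw [← mul_assoc, ← map_mul, ← map_mul, hai, show a * (a * k * a) = (a * a) * k * a by group, ha,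
          one_mul]
      _ = σ a * ((x m - 1) * σ (a * k * a⁻¹)) := by rw [mul_sub, sub_mul, mul_one, one_mul, c2]
      _ = σ (a * k * a⁻¹) * (x m - 1) := by
        rw [← mul_assoc, h1, mul_sub, sub_mul, mul_one, one_mul, c2]
  have hfix1 : ∀ m ∈ K, ∀ k ∈ K, σ k * (x m - 1) = x m - 1 := by
    intro m hm
    let S : Subgroup H :=
      { carrier := {g | σ g * (x m - 1) = x m - 1}
        one_mem' := by simp
        mul_mem' := fun {s t} (hs : σ s * _ = _) (ht : σ t * _ = _) => show σ (s * t) * (x m - 1) = x m - 1 by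
          rw [map_mul, mul_assoc, ht, hs]
        inv_mem' := fun {s} (hs : σ s * _ = _) => show σ s⁻¹ * (x m - 1) = x m - 1 by
          conv_lhs => rw [← hs, ← mul_assoc, map_inv_mul, one_mul] }
    suffices hle : ⁅K, K⁆ ≤ S from fun k hk => hle (hK.symm ▸ hk)
    refine commutator_le.2 fun k hk l hl => ?_
    show σ ⁅k, l⁆ * (x m - 1) = x m - 1
    have hcm : ∀ g ∈ K, σ g * (x m - 1) = (x m - 1) * σ g := fun g hg => by
      rw [mul_sub, sub_mul, mul_one, one_mul, (hcEK m hm g hg).1]
    have h2 : σ (k * l) * (x m - 1) = σ (l * k) * (x m - 1) := by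
      rw [map_mul, mul_assoc, hkx m hm l hl, ← mul_assoc, ← map_mul, (hca k hk l hl).eq, map_mul,
        mul_assoc, hcm k hk, ← mul_assoc, ← hkx m hm l hl, mul_assoc, ← hcm k hk, ← mul_assoc, ← map_mul]
    rw [commutatorElement_def, mul_assoc (k * l), map_mul, mul_assoc,
      hcm _ (mul_mem (inv_mem hk) (inv_mem hl)), ← mul_assoc, h2, mul_assoc,
      ← hcm _ (mul_mem (inv_mem hk) (inv_mem hl)), ← mul_assoc, ← map_mul,
      show l * k * (k⁻¹ * l⁻¹) = 1 by group, map_one, one_mul]
  have hfix2 : ∀ k ∈ K, ∀ m ∈ K, σ (e * m * e⁻¹) * (σ k - 1) = σ k - 1 := by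
    intro k hk
    set E : H → Module.End (ZMod 2) W := fun m => σ (e * m * e⁻¹)
    set F : H → Module.End (ZMod 2) W := fun m => σ (a * e * m * (a * e)⁻¹)
    have hE : ∀ m ∈ K, E m * (σ k - 1) = F m⁻¹ * (σ k - 1) := by
      intro m hm
      have hx1 : x m = F m * E m := by
        show σ _ = σ _ * σ _
        rw [← map_mul]; congr 1
        have c : Commute (e * m * e⁻¹) (a * e * m * (a * e)⁻¹) := by
          have := (hca m hm m hm).map (MulAut.conj e).toMonoidHom
          have e2 : (MulAut.conj e).toMonoidHom (a * m * a⁻¹) = a * e * m * (a * e)⁻¹ := by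
            show e * (a * m * a⁻¹) * e⁻¹ = _
            rw [hae]; group
          rw [e2] at this
          exact this
        rw [← c.eq, hae]; group
      have h1 : (x m - 1) * (σ k - 1) = 0 := by
        rw [mul_sub, mul_one, sub_mul, one_mul, (hcEK m hm k hk).1]
        have := hfix1 m hm k hk
        rw [mul_sub, mul_one] at this
        rw [this, sub_self]
      rw [sub_mul, one_mul, sub_eq_zero, hx1, mul_assoc] at h1
      calc E m * (σ k - 1) = F m⁻¹ * (F m * (E m * (σ k - 1))) := by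
            rw [← mul_assoc (F m⁻¹), show F m⁻¹ * F m = 1 by
              show σ _ * σ _ = 1
              rw [← map_mul, show a * e * m⁻¹ * (a * e)⁻¹ * (a * e * m * (a * e)⁻¹) = 1 by group, map_one],
              one_mul]
        _ = _ := by rw [h1]
    have hEk : ∀ m ∈ K, E m * (σ k - 1) = (σ k - 1) * E m := fun m hm => by
      show σ _ * _ = _ * σ _
      rw [mul_sub, sub_mul, mul_one, one_mul, ← map_mul, ← map_mul, (hce k hk m hm).eq]
    have hEF : ∀ l ∈ K, ∀ m ∈ K, E l * F m = F m * E l := fun l hl m hm => by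
      show σ _ * σ _ = σ _ * σ _
      rw [← map_mul, ← map_mul]
      congr 1
      have := (hca l hl m hm).map (MulAut.conj e).toMonoidHom
      have e2 : (MulAut.conj e).toMonoidHom (a * m * a⁻¹) = a * e * m * (a * e)⁻¹ := by
        show e * (a * m * a⁻¹) * e⁻¹ = _
        rw [hae]; group
      rw [e2] at this
      exact this
    have hcom : ∀ l ∈ K, ∀ m ∈ K, E (l * m) * (σ k - 1) = E (m * l) * (σ k - 1) := by
      have hEm : ∀ l m, E (l * m) = E l * E m := fun l m => by
        show σ _ = σ _ * σ _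
        rw [← map_mul]; congr 1; group
      intro l hl m hm
      calc E (l * m) * (σ k - 1) = E l * (E m * (σ k - 1)) := by rw [hEm, mul_assoc]
        _ = F m⁻¹ * (E l * (σ k - 1)) := by
          rw [hE m hm, ← mul_assoc, hEF l hl _ (inv_mem hm), mul_assoc]
        _ = F m⁻¹ * (σ k - 1) * E l := by rw [hEk l hl, mul_assoc]
        _ = E m * (σ k - 1) * E l := by rw [hE m hm]
        _ = _ := by rw [mul_assoc, ← hEk l hl, ← mul_assoc, hEm]
    let S : Subgroup H :=
      { carrier := {g | E g * (σ k - 1) = σ k - 1}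
        one_mem' := by simp [E, map_mul_inv σ e]
        mul_mem' := fun {s t} (hs : E s * _ = _) (ht : E t * _ = _) =>
          show E (s * t) * (σ k - 1) = σ k - 1 by
            rw [show E (s * t) = E s * E t by show σ _ = σ _ * σ _; rw [← map_mul]; congr 1; group,
              mul_assoc, ht, hs]
        inv_mem' := fun {s} (hs : E s * _ = _) => show E s⁻¹ * (σ k - 1) = σ k - 1 by
          conv_lhs => rw [← hs, ← mul_assoc]
          rw [show E s⁻¹ * E s = 1 by
            show σ _ * σ _ = 1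
            rw [← map_mul, show e * s⁻¹ * e⁻¹ * (e * s * e⁻¹) = 1 by group, map_one], one_mul] }
    suffices hle : ⁅K, K⁆ ≤ S from fun m hm => hle (hK.symm ▸ hm)
    refine commutator_le.2 fun l hl m hm => ?_
    show E ⁅l, m⁆ * (σ k - 1) = σ k - 1
    have hEm : ∀ l m, E (l * m) = E l * E m := fun l m => by
      show σ _ = σ _ * σ _
      rw [← map_mul]; congr 1; group
    have hlm := mul_mem (inv_mem hl) (inv_mem hm)
    rw [commutatorElement_def, mul_assoc (l * m), hEm, mul_assoc, hEk _ hlm, ← mul_assoc, hcom l hl m hm,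
      mul_assoc, ← hEk _ hlm, ← mul_assoc, ← hEm, show m * l * (l⁻¹ * m⁻¹) = 1 by group]
    simp [E, map_mul_inv σ e]
  refine fun k hk => LinearMap.ext fun w => commutator_fix σ hK (fun i hi j hj => ?_) k hk
  -- fixed by `eKe⁻¹` implies fixed by `K`
  have h1 : ∀ g ∈ K, σ g (σ e (σ j w - w)) = σ e (σ j w - w) := fun g hg => by
    have h2 := LinearMap.congr_fun (hfix2 j hj g hg) w
    simp only [Module.End.mul_apply, LinearMap.sub_apply, Module.End.one_apply] at h2
    conv_rhs => rw [← h2]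
    rw [← Module.End.mul_apply, ← Module.End.mul_apply (σ e), ← map_mul, ← map_mul,
      show e * (e * g * e⁻¹) = (e * e) * g * e⁻¹ by group, he, one_mul, hei]
  have h3 := hC _ h1 i hi
  rw [← Module.End.mul_apply, ← map_mul, inv_mul_cancel_right, map_mul, Module.End.mul_apply] at h3
  have := congrArg (σ e) h3
  rwa [← Module.End.mul_apply (σ e) (σ e), ← map_mul, he, map_one, Module.End.one_apply,
    ← Module.End.mul_apply (σ e) (σ e), ← map_mul, he, map_one, Module.End.one_apply] at this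

theorem card_le_ker_mul_range {X Y : Type*} [AddCommGroup X] [Module (ZMod 2) X] [AddCommGroup Y]
    [Module (ZMod 2) Y] [Finite X] (f : X →ₗ[ZMod 2] Y) :
    Nat.card X = Nat.card ↥(LinearMap.ker f) * Nat.card ↥(LinearMap.range f) := by
  rw [Submodule.card_eq_card_quotient_mul_card (LinearMap.ker f),
    Nat.card_congr f.quotKerEquivRange.toEquiv]

theorem small_hereditary {X : Type v} [AddCommGroup X] [Module (ZMod 2) X] [Finite X]
    (μ : H →* Module.End (ZMod 2) X) (U : Submodule (ZMod 2) X) (hU : ∀ h, ∀ u ∈ U, μ h u ∈ U)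
    (S : Set H) (c : ℕ) (h : Nat.card X < c * Nat.card ↥(fix μ S)) :
    Nat.card U < c * Nat.card ↥(fix (subRep μ U hU) S) ∧
      Nat.card (X ⧸ U) < c * Nat.card ↥(fix (quotRep μ U hU) S) := by
  haveI : Finite (X ⧸ U) := Finite.of_surjective _ (Submodule.Quotient.mk_surjective U)
  have hX : Nat.card X = Nat.card U * Nat.card (X ⧸ U) := U.card_eq_card_quotient_mul_card
  set f := U.mkQ.comp (fix μ S).subtype
  have hf := card_le_ker_mul_range f
  constructor
  · have h1 : Nat.card ↥(LinearMap.ker f) ≤ Nat.card ↥(fix (subRep μ U hU) S) := by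
      refine Nat.card_le_card_of_injective (fun x => ⟨⟨(x.1 : X),
        (Submodule.Quotient.mk_eq_zero U).1 (LinearMap.mem_ker.1 x.2)⟩,
        fun b hb => Subtype.ext (x.1.2 b hb)⟩) fun x y e => ?_
      exact Subtype.ext (Subtype.ext (congrArg (fun z => ((z.1 : U) : X)) e))
    have h2 : Nat.card ↥(LinearMap.range f) ≤ Nat.card (X ⧸ U) :=
      Nat.card_le_card_of_injective _ Subtype.val_injective
    have h3 : Nat.card U * Nat.card (X ⧸ U) <
        c * Nat.card ↥(fix (subRep μ U hU) S) * Nat.card (X ⧸ U) :=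
      calc _ = Nat.card X := hX.symm
        _ < _ := h
        _ ≤ _ := by rw [hf, mul_assoc]; exact Nat.mul_le_mul_left c (Nat.mul_le_mul h1 h2)
    exact lt_of_mul_lt_mul_right h3 (Nat.zero_le _)
  · have h1 : Nat.card ↥(LinearMap.ker f) ≤ Nat.card U := by
      refine Nat.card_le_card_of_injective (fun x => (⟨(x.1 : X),
        (Submodule.Quotient.mk_eq_zero U).1 (LinearMap.mem_ker.1 x.2)⟩ : U)) fun x y e => ?_
      exact Subtype.ext (Subtype.ext (congrArg (fun z : U => (z : X)) e))
    have h2 : Nat.card ↥(LinearMap.range f) ≤ Nat.card ↥(fix (quotRep μ U hU) S) := by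
      refine Nat.card_le_card_of_injective (fun y => ⟨y.1, ?_⟩) fun y z e =>
        Subtype.ext (congrArg (fun t => (t.1 : X ⧸ U)) e)
      obtain ⟨x, hx⟩ := y.2
      intro b hb
      rw [← hx]
      show Submodule.Quotient.mk (μ b (x : X)) = Submodule.Quotient.mk (x : X)
      rw [x.2 b hb]
    have h3 : Nat.card U * Nat.card (X ⧸ U) <
        Nat.card U * (c * Nat.card ↥(fix (quotRep μ U hU) S)) :=
      calc _ = Nat.card X := hX.symm
        _ < _ := h
        _ ≤ _ := by
          rw [hf, show Nat.card U * (c * Nat.card ↥(fix (quotRep μ U hU) S)) =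
            c * (Nat.card U * Nat.card ↥(fix (quotRep μ U hU) S)) by ring]
          exact Nat.mul_le_mul_left c (Nat.mul_le_mul h1 h2)
    exact lt_of_mul_lt_mul_left h3 (Nat.zero_le _)

theorem two_small_gen [Finite W] {σ : H →* Module.End (ZMod 2) W} {K B : Subgroup H} {a : H}
    (h : Two σ K B a) (hsmall : Nat.card W < 4 * Nat.card ↥(fix σ {a}) ∨
      (B ≠ ⊥ ∧ Nat.card W < 4 * Nat.card B * Nat.card ↥(fix σ (B : Set H)))) : ∀ k ∈ K, σ k = 1 := by
  refine sections_induction (p := 2) h.perfect (fun X _ _ μ => Two μ K B a ∧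
    (Nat.card X < 4 * Nat.card ↥(fix μ {a}) ∨
      (B ≠ ⊥ ∧ Nat.card X < 4 * Nat.card B * Nat.card ↥(fix μ (B : Set H))))) ?_ ?_ ?_ W σ ⟨h, hsmall⟩
  · intro X _ _ _ μ ⟨hT, hs⟩ U hU
    refine ⟨{ hT with fixd := ?_, fixb := ?_, quad := ?_ },
      hs.imp (fun e => (small_hereditary μ U hU _ _ e).1) (And.imp id fun e => (small_hereditary μ U hU _ _ e).1)⟩
    · intro k hk; constructor <;> refine LinearMap.ext fun u => Subtype.ext ?_
      · simpa using LinearMap.congr_fun (hT.fixd k hk).1 (u : X)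
      · simpa using LinearMap.congr_fun (hT.fixd k hk).2 (u : X)
    · intro k hk; constructor <;> refine LinearMap.ext fun u => Subtype.ext ?_
      · simpa using LinearMap.congr_fun (hT.fixb k hk).1 (u : X)
      · simpa using LinearMap.congr_fun (hT.fixb k hk).2 (u : X)
    · intro b hb c hc
      refine LinearMap.ext fun u => Subtype.ext ?_
      simpa using LinearMap.congr_fun (hT.quad b hb c hc) (u : X)
  · intro X _ _ _ μ ⟨hT, hs⟩ U hU
    refine ⟨{ hT with fixd := ?_, fixb := ?_, quad := ?_ },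
      hs.imp (fun e => (small_hereditary μ U hU _ _ e).2) (And.imp id fun e => (small_hereditary μ U hU _ _ e).2)⟩
    · intro k hk
      constructor <;> refine LinearMap.ext fun u => ?_ <;>
        obtain ⟨x, rfl⟩ := Submodule.Quotient.mk_surjective U u
      · simpa using congrArg (Submodule.Quotient.mk (p := U)) (LinearMap.congr_fun (hT.fixd k hk).1 x)
      · simpa using congrArg (Submodule.Quotient.mk (p := U)) (LinearMap.congr_fun (hT.fixd k hk).2 x)
    · intro k hk
      constructor <;> refine LinearMap.ext fun u => ?_ <;>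
        obtain ⟨x, rfl⟩ := Submodule.Quotient.mk_surjective U u
      · simpa using congrArg (Submodule.Quotient.mk (p := U)) (LinearMap.congr_fun (hT.fixb k hk).1 x)
      · simpa using congrArg (Submodule.Quotient.mk (p := U)) (LinearMap.congr_fun (hT.fixb k hk).2 x)
    · intro b hb c hc
      refine LinearMap.ext fun u => ?_
      obtain ⟨x, rfl⟩ := Submodule.Quotient.mk_surjective U u
      simpa using congrArg (Submodule.Quotient.mk (p := U)) (LinearMap.congr_fun (hT.quad b hb c hc) x)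
  rintro X _ _ _ μ ⟨hT, hs⟩ hirr k hk
  by_contra hne
  obtain ⟨h1, h2⟩ := hT.core hirr ⟨k, hk, hne⟩
  rcases hs with hs | ⟨hB, hs⟩
  · have : Nat.card ↥(fix μ {a}) = Nat.card {w : X // μ a w = w} :=
      Nat.card_congr (Equiv.subtypeEquivRight fun w => by simp [mem_fix])
    rw [this] at hs
    exact absurd hs (not_lt.2 h1)
  · exact absurd hs (not_lt.2 (h2 hB))

theorem two_small [Finite W] (σ : H →* Module.End (ZMod 2) W) {K B : Subgroup H} {a : H}
    (hK : ⁅K, K⁆ = K) (ha : a * a = 1) (hca : ∀ k ∈ K, ∀ l ∈ K, Commute k (a * l * a⁻¹))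
    (haB : ∀ b ∈ B, a * b = b * a) (hBK : ∀ b ∈ B, ∀ k ∈ K, b * k * b⁻¹ ∈ K)
    (hmv : ∀ b ∈ B, b ≠ 1 → closure {x : H | ∃ k ∈ K, x = k⁻¹ * (b * k * b⁻¹)} = K)
    (hd : ∀ k ∈ K, σ k * σ (a * k * a⁻¹) * (σ a - 1) = σ a - 1 ∧
      (σ a - 1) * (σ k * σ (a * k * a⁻¹)) = σ a - 1)
    (hfb : ∀ b ∈ B, σ b * (σ a - 1) = σ a - 1 ∧ (σ a - 1) * σ b = σ a - 1)
    (hq : ∀ b ∈ B, ∀ c ∈ B, (σ b - 1) * (σ c - 1) = 0)
    (hsmall : Nat.card W < 4 * Nat.card ↥(fix σ {a}) ∨
      (B ≠ ⊥ ∧ Nat.card W < 4 * Nat.card B * Nat.card ↥(fix σ (B : Set H)))) : ∀ k ∈ K, σ k = 1 := by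
  set S : Set H := (K : Set H) ∪ {a} ∪ B with hS
  set L := closure S
  have hKL : K ≤ L := fun k hk => subset_closure (Or.inl (Or.inl hk))
  have haL : a ∈ L := subset_closure (Or.inl (Or.inr rfl))
  have hBL : B ≤ L := fun k hk => subset_closure (Or.inr hk)
  have hT : Two (σ.comp L.subtype) (K.subgroupOf L) (B.subgroupOf L) ⟨a, haL⟩ :=
    { perfect := perfect_subgroupOf hK hKL
      invol := Subtype.ext ha
      comm := fun k hk l hl => Subtype.ext (hca k hk l hl).eq
      gen := by
        rw [← gen_subgroupOf S]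
        congr 1
        ext x
        simp [hS, mem_subgroupOf, Subtype.ext_iff]
      aB := fun b hb => Subtype.ext (haB b hb)
      normK := fun b hb k hk => hBK b hb k hk
      moves := fun b hb hb1 => by
        apply map_injective L.subtype_injective
        rw [MonoidHom.map_closure, subgroupOf_map_subtype, inf_eq_left.2 hKL]
        refine Eq.trans ?_ (hmv b hb fun e => hb1 (Subtype.ext e))
        congr 1
        ext x
        constructor
        · rintro ⟨_, ⟨k, hk, rfl⟩, rfl⟩; exact ⟨k, hk, rfl⟩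
        · rintro ⟨k, hk, rfl⟩; exact ⟨_, ⟨⟨k, hKL hk⟩, hk, rfl⟩, rfl⟩
      fixd := fun k hk => hd k hk
      fixb := fun b hb => hfb b hb
      quad := fun b hb c hc => hq b hb c hc }
  intro k hk
  refine two_small_gen hT ?_ ⟨k, hKL hk⟩ hk
  rcases hsmall with hs | ⟨hB, hs⟩
  · refine Or.inl (lt_of_lt_of_le hs (Nat.mul_le_mul_left _ ?_))
    exact Nat.card_le_card_of_injective (fun w => ⟨w.1, fun b hb => by
      rw [Set.mem_singleton_iff.1 hb]; exact w.2 a rfl⟩) fun w w' e => Subtype.ext (congrArg (fun z => (z.1 : W)) e)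
  · refine Or.inr ⟨fun e => hB ?_, lt_of_lt_of_le hs ?_⟩
    · rw [subgroupOf_eq_bot] at e
      exact disjoint_self.1 (e.mono_right hBL)
    · rw [Nat.card_congr (subgroupOfEquivOfLe hBL).toEquiv]
      refine Nat.mul_le_mul_left _ ?_
      exact Nat.card_le_card_of_injective (fun w => ⟨w.1, fun b hb => w.2 (b : H) hb⟩)
        fun w w' e => Subtype.ext (congrArg (fun z => (z.1 : W)) e)

end Two

end CfsgLib.ClassK.PGV
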