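import Cfsg.Agent.Lib.Comp.Local
import Cfsg.Agent.Lib.Solvable.Nilpotent
import Cfsg.Prelude.Def_Quasithin

/-!
Perfect subnormal subgroups and normal 2-subgroups; commuting actions on an abelian p-group.
-/

set_option autoImplicit false
set_option linter.style.haveILetI false

namespace CfsgLib.ClassK

open Subgroup
open scoped commutatorElement

variable {G : Type*} [Group G] [Finite G]

omit [Finite G] in
/-- A subnormal subgroup of 2-power index contains every element of odd order. -/
theorem odd_mem_of_isSubnormal {H : Subgroup G} (hH : H.IsSubnormal) {k : ℕ}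
    (hi : H.index ∣ 2 ^ k) {x : G} (hx : Odd (orderOf x)) : x ∈ H := by
  induction hH with
  | top => trivial
  | step H K hle hK hN ih =>
    have hxK : x ∈ K := ih ((index_dvd_of_le hle).trans hi)
    haveI := hN
    have h1 : (⟨x, hxK⟩ : K) ^ (H.subgroupOf K).index ∈ H.subgroupOf K := pow_index_mem _ _
    have h2 : (H.relIndex K).Coprime (orderOf x) :=
      (Nat.Coprime.pow_left k (Nat.coprime_two_left.2 hx)).coprime_dvd_left
        ((relIndex_dvd_index_of_le hle).trans hi)
    obtain ⟨m, hm⟩ := exists_pow_eq_self_of_coprime h2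
    rw [← hm]
    exact pow_mem (mem_subgroupOf.1 h1) m

omit [Finite G] in
theorem oddGenerated_le (K : Subgroup G) : Cfsg.oddGenerated K ≤ K :=
  (closure_le _).2 fun _ hx => hx.1

/-- A perfect subgroup is generated by its elements of odd order. -/
theorem oddGenerated_eq_of_perfect {K : Subgroup G} (hK : ⁅K, K⁆ = K) :
    Cfsg.oddGenerated K = K := by
  classical
  refine le_antisymm (oddGenerated_le K) ?_
  set N := Cfsg.oddGenerated K with hN
  have hn : K ≤ normalizer (N : Set G) := by
    intro g hg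
    have key : ∀ g ∈ K, ∀ x ∈ N, g * x * g⁻¹ ∈ N := by
      intro g hg x hx
      induction hx using Subgroup.closure_induction with
      | mem x hx =>
        refine subset_closure ⟨mul_mem (mul_mem hg hx.1) (inv_mem hg), ?_⟩
        have := (MulAut.conj g).orderOf_eq x
        rw [MulAut.conj_apply] at this
        rw [this]; exact hx.2
      | one => simp
      | mul a b _ _ ha hb => simpa [mul_assoc] using mul_mem ha hb
      | inv a _ ha => simpa [mul_assoc] using inv_mem ha
    rw [mem_normalizer_iff]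
    refine fun x => ⟨key g hg x, fun hx => ?_⟩
    simpa [mul_assoc] using key g⁻¹ (inv_mem hg) _ hx
  haveI : (N.subgroupOf K).Normal :=
    normal_subgroupOf_of_le_normalizer hn
  have hp : IsPGroup 2 (K ⧸ N.subgroupOf K) := by
    intro q
    obtain ⟨g, rfl⟩ := QuotientGroup.mk'_surjective _ q
    refine ⟨(orderOf g).factorization 2, ?_⟩
    rw [← map_pow, QuotientGroup.mk'_apply, QuotientGroup.eq_one_iff, mem_subgroupOf]
    refine subset_closure ⟨SetLike.coe_mem _, ?_⟩
    rw [Subgroup.orderOf_coe, orderOf_pow_of_dvd (by positivity) (Nat.ordProj_dvd _ _)]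
    exact Nat.coprime_two_left.1
      (Nat.coprime_ordCompl Nat.prime_two (orderOf_pos g).ne')
  haveI : Fact (Nat.Prime 2) := ⟨Nat.prime_two⟩
  haveI := hp.isNilpotent
  by_contra hne
  haveI : Nontrivial (K ⧸ N.subgroupOf K) :=
    QuotientGroup.nontrivial_iff.2 (fun e => hne (subgroupOf_eq_top.1 e))
  have hlt := Group.IsSolvable.commutator_lt_top_of_nontrivial (K ⧸ N.subgroupOf K)
  have hKK : _root_.commutator ↥K = ⊤ := by
    apply map_injective K.subtype_injective
    rw [map_subtype_commutator, hK, ← MonoidHom.range_eq_map, range_subtype]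
  apply hlt.ne
  rw [_root_.commutator_def, ← map_top_of_surjective _ (QuotientGroup.mk'_surjective (N.subgroupOf K)),
    ← Subgroup.map_commutator, ← _root_.commutator_def, hKK]

/-- A normal 2-subgroup normalizes every subnormal subgroup generated by its elements of odd
order. -/
theorem le_normalizer_of_isSubnormal {K Q : Subgroup G} (hK : K.IsSubnormal)
    (hKo : Cfsg.oddGenerated K = K) [Q.Normal] (hQ : IsPGroup 2 Q) :
    Q ≤ normalizer (K : Set G) := by
  haveI : Fact (Nat.Prime 2) := ⟨Nat.prime_two⟩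
  obtain ⟨k, hk⟩ := IsPGroup.iff_card.1 hQ
  have hsn : (K.subgroupOf (K ⊔ Q)).IsSubnormal := CfsgLib.Solvable.isSubnormal_of_le hK
  have hi : (K.subgroupOf (K ⊔ Q)).index ∣ 2 ^ k := by
    have h1 := CfsgLib.Comp.card_sup_dvd_mul (CfsgLib.Comp.le_normalizer_of_normal' Q K)
    rw [sup_comm, ← card_mul_index (K.subgroupOf (K ⊔ Q)),
      Nat.card_congr (subgroupOfEquivOfLe le_sup_left).toEquiv, hk, mul_comm (2 ^ k)] at h1
    exact Nat.dvd_of_mul_dvd_mul_left Nat.card_pos h1
  have key : ∀ q ∈ Q, ∀ x ∈ K, q * x * q⁻¹ ∈ K := by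
    intro q hq x hx
    rw [← hKo] at hx
    induction hx using Subgroup.closure_induction with
    | mem x hx =>
      have hmem : q * x * q⁻¹ ∈ K ⊔ Q :=
        mul_mem (mul_mem (le_sup_right (a := K) hq) (le_sup_left (b := Q) hx.1))
          (inv_mem (le_sup_right (a := K) hq))
      have hodd : Odd (orderOf (⟨_, hmem⟩ : ↥(K ⊔ Q))) := by
        rw [← Subgroup.orderOf_coe]
        have := (MulAut.conj q).orderOf_eq x
        rw [MulAut.conj_apply] at this
        show Odd (orderOf (q * x * q⁻¹))
        rw [this]; exact hx.2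
      exact mem_subgroupOf.1 (odd_mem_of_isSubnormal hsn hi hodd)
    | one => simp
    | mul a b _ _ ha hb => simpa [mul_assoc] using mul_mem ha hb
    | inv a _ ha => simpa [mul_assoc] using inv_mem ha
  intro q hq
  rw [mem_normalizer_iff]
  refine fun x => ⟨key q hq x, fun hx => ?_⟩
  simpa [mul_assoc] using key q⁻¹ (inv_mem hq) _ hx

variable {p : ℕ} [Fact p.Prime]

/-- P × Q for an abelian `p`-group `Z`: a `p'`-element commuting with the `p`-group `R` in the action
on `Z` and centralizing the fixed points of `R` centralizes `Z`. -/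
theorem mem_centralizer_of_commuting_action {Z R : Subgroup G} {x : G} (hZp : IsPGroup p Z)
    (hZ : Z ≤ centralizer (Z : Set G)) (hRp : IsPGroup p R) (hRZ : R ≤ normalizer (Z : Set G))
    (hxZ : x ∈ normalizer (Z : Set G)) (hx : (orderOf x).Coprime p)
    (hcomm : ∀ r ∈ R, x⁻¹ * r * x * r⁻¹ ∈ centralizer (Z : Set G))
    (hfix : x ∈ centralizer ((Z ⊓ centralizer (R : Set G) : Subgroup G) : Set G)) :
    x ∈ centralizer (Z : Set G) := by
  have hK : IsPGroup p ↥(Z ⊔ R) := hZp.to_sup_of_normal_left' hRp hRZ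
  haveI : Group.IsNilpotent ↥(Z ⊔ R) := hK.isNilpotent
  obtain ⟨n, hn⟩ := (isNilpotent_iff_lowerCentralSeries (Z ⊔ R)).1 ‹_›
  have key : ∀ j i, n ≤ i + j → ∀ v ∈ Z, v ∈ (Z ⊔ R).lowerCentralSeries i → x * v = v * x := by
    intro j
    induction j with
    | zero =>
      intro i hi v _ hv
      have := (Subgroup.lowerCentralSeries_antitone (Z ⊔ R)) (show n ≤ i by omega) hv
      rw [hn, mem_bot] at this
      subst this; simp
    | succ j ih =>
      intro i hi v hvZ hv
      have hc : ∀ r ∈ R, x * ⁅r, v⁆ = ⁅r, v⁆ * x := by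
        intro r hr
        refine ih (i + 1) (by omega) _ ?_ ?_
        · rw [commutatorElement_def]
          exact mul_mem ((mem_normalizer_iff.1 (hRZ hr) v).1 hvZ) (inv_mem hvZ)
        · rw [← commutatorElement_inv]
          exact inv_mem (commutator_mem_commutator hv (le_sup_right (a := Z) hr))
      have hwZ : ⁅x, v⁆ ∈ Z := by
        rw [commutatorElement_def]
        exact mul_mem ((mem_normalizer_iff.1 hxZ v).1 hvZ) (inv_mem hvZ)
      have hwC : ⁅x, v⁆ ∈ Z ⊓ centralizer (R : Set G) := by
        refine ⟨hwZ, mem_centralizer_iff.2 fun r hr => ?_⟩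
        have hr' : r ∈ R := hr
        set c := ⁅r, v⁆ with hcdef
        have hcZ : c ∈ Z := by
          rw [hcdef, commutatorElement_def]
          exact mul_mem ((mem_normalizer_iff.1 (hRZ hr') v).1 hvZ) (inv_mem hvZ)
        have hxc : x * c * x⁻¹ = c := by rw [hc r hr', mul_inv_cancel_right]
        have hrv : r * v * r⁻¹ = c * v := by
          rw [hcdef, commutatorElement_def]; group
        set k := x⁻¹ * r * x * r⁻¹ with hk
        have hkr : r * x = x * (k * r) := by rw [hk]; group
        have hxv : x * v * x⁻¹ = ⁅x, v⁆ * v := by rw [commutatorElement_def]; group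
        have hrxv : r * (x * v * x⁻¹) * r⁻¹ = c * (x * v * x⁻¹) := by
          have h1 : r * (x * v * x⁻¹) * r⁻¹ = (r * x) * v * (r * x)⁻¹ := by group
          rw [h1, hkr]
          have h2 : k * (r * v * r⁻¹) * k⁻¹ = r * v * r⁻¹ := by
            rw [← (mem_centralizer_iff.1 (hcomm r hr')) _ ((mem_normalizer_iff.1 (hRZ hr') v).1 hvZ),
              mul_inv_cancel_right]
          calc x * (k * r) * v * (x * (k * r))⁻¹ = x * (k * (r * v * r⁻¹) * k⁻¹) * x⁻¹ := by group
            _ = x * (r * v * r⁻¹) * x⁻¹ := by rw [h2]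
            _ = (x * c * x⁻¹) * (x * v * x⁻¹) := by rw [hrv]; group
            _ = c * (x * v * x⁻¹) := by rw [hxc]
        set w := ⁅x, v⁆
        have hcw : c * w = w * c := (mem_centralizer_iff.1 (hZ hwZ) c hcZ)
        have h3 : r * w * r⁻¹ = w := by
          have : r * w * r⁻¹ = (r * (x * v * x⁻¹) * r⁻¹) * (r * v * r⁻¹)⁻¹ := by rw [hxv]; group
          rw [this, hrxv, hrv, hxv]
          calc c * (w * v) * (c * v)⁻¹ = (c * w) * c⁻¹ := by group
            _ = w := by rw [hcw, mul_inv_cancel_right]
        exact mul_inv_eq_iff_eq_mul.1 h3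
      have hxw : Commute x ⁅x, v⁆ := (mem_centralizer_iff.1 hfix _ hwC).symm
      have hpow : ∀ m : ℕ, x ^ m * v * (x ^ m)⁻¹ = ⁅x, v⁆ ^ m * v := by
        intro m
        induction m with
        | zero => simp
        | succ m ihm =>
          calc x ^ (m + 1) * v * (x ^ (m + 1))⁻¹ = x * (x ^ m * v * (x ^ m)⁻¹) * x⁻¹ := by
                rw [pow_succ']; group
            _ = (x * ⁅x, v⁆ ^ m * x⁻¹) * (x * v * x⁻¹) := by rw [ihm]; group
            _ = ⁅x, v⁆ ^ m * (⁅x, v⁆ * v) := by
                rw [(hxw.pow_right m).eq, mul_inv_cancel_right, commutatorElement_def]; group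
            _ = ⁅x, v⁆ ^ (m + 1) * v := by rw [pow_succ, mul_assoc]
      have hord := hpow (orderOf x)
      rw [pow_orderOf_eq_one, one_mul, inv_one, mul_one] at hord
      have h1 : ⁅x, v⁆ ^ orderOf x = 1 := right_eq_mul.1 hord
      have h2 : ⁅x, v⁆ = 1 := by
        obtain ⟨a, ha⟩ := IsPGroup.iff_card.1 hZp
        refine orderOf_eq_one_iff.1 (Nat.eq_one_of_dvd_coprimes (hx.pow_right a)
          (orderOf_dvd_of_pow_eq_one h1) ?_)
        exact ha ▸ Subgroup.orderOf_dvd_natCard Z hwZ
      exact commutatorElement_eq_one_iff_mul_comm.1 h2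
  exact mem_centralizer_iff.2 fun v hv =>
    (key n 0 (by omega) v hv (le_sup_left (b := R) hv)).symm

end CfsgLib.ClassK
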