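import Cfsg.Agent.Lib.Coprime.Sylow
import Mathlib.GroupTheory.SchurZassenhaus

/-!
Groups whose `π`-elements form a subgroup, and `π'`-homogeneous groups.
-/

set_option autoImplicit false

namespace CfsgLib.ClassK.PiClosed

open Subgroup

universe u

/-- The order of `x` only involves primes of `π`. -/
def IsPiElt {G : Type u} [Group G] (π : Set ℕ) (x : G) : Prop :=
  ∀ p : ℕ, p.Prime → p ∣ orderOf x → p ∈ π

/-- The `π`-elements form a subgroup. -/
def Closed (π : Set ℕ) (G : Type u) [Group G] : Prop :=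
  ∃ K : Subgroup G, ∀ x : G, x ∈ K ↔ ∀ p : ℕ, p.Prime → p ∣ orderOf x → p ∈ π

/-- `N(H)/C(H)` is a `π'`-group for every nontrivial `π'`-subgroup `H`. -/
def Homog (π : Set ℕ) (G : Type u) [Group G] : Prop :=
  ∀ H : Subgroup G, H ≠ ⊥ → (∀ p : ℕ, p.Prime → p ∣ Nat.card H → p ∉ π) →
    ∀ p : ℕ, p.Prime →
      p ∣ (centralizer (H : Set G)).relIndex (normalizer (H : Set G)) → p ∉ π

variable {G : Type u} [Group G] {π : Set ℕ}

theorem isPiElt_map_iff {G' : Type*} [Group G'] (f : G →* G') (hf : Function.Injective f) (x : G) :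
    (∀ p : ℕ, p.Prime → p ∣ orderOf (f x) → p ∈ π) ↔
      ∀ p : ℕ, p.Prime → p ∣ orderOf x → p ∈ π := by
  rw [orderOf_injective f hf]

theorem isPiElt_of_card {U : Subgroup G} (h : ∀ p : ℕ, p.Prime → p ∣ Nat.card U → p ∈ π) {x : G}
    (hx : x ∈ U) : IsPiElt π x :=
  fun p hp hd => h p hp (hd.trans (orderOf_dvd_natCard U hx))

/-- The subgroup of `π`-elements is normal. -/
theorem normal_of_mem_iff {K : Subgroup G} (hK : ∀ x : G, x ∈ K ↔ IsPiElt π x) : K.Normal :=
  ⟨fun x hx g => (hK _).mpr fun p hp hd => (hK x).mp hx p hp (by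
    rwa [← MulAut.conj_apply, MulEquiv.orderOf_eq] at hd)⟩

variable [Finite G]

/-- If `A K = G` with `K` normal, the index of `A` divides `|K|`. -/
theorem index_dvd_card_of_sup {A K : Subgroup G} [K.Normal] (h : A ⊔ K = ⊤) :
    A.index ∣ Nat.card K := by
  refine ⟨Nat.card (A ⊓ K : Subgroup G), ?_⟩
  have e1 := relIndex_mul_relIndex ⊥ (A ⊓ K) A bot_le inf_le_left
  rw [inf_relIndex_left, relIndex_bot_left, relIndex_bot_left] at e1
  have e2 : K.index = K.relIndex A := by
    rw [← relIndex_top_right, ← h, relIndex_sup_right]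
  refine Nat.eq_of_mul_eq_mul_left
    (Nat.pos_of_ne_zero (index_ne_zero_of_finite : K.relIndex A ≠ 0)) ?_
  calc K.relIndex A * Nat.card K = Nat.card K * K.index := by rw [e2, mul_comm]
    _ = Nat.card A * A.index := by rw [card_mul_index, card_mul_index]
    _ = K.relIndex A * (A.index * Nat.card (A ⊓ K : Subgroup G)) := by rw [← e1]; ring

theorem card_of_mem_iff {K : Subgroup G} (hK : ∀ x : G, x ∈ K ↔ IsPiElt π x) {p : ℕ}
    (hp : p.Prime) (hd : p ∣ Nat.card K) : p ∈ π := by
  haveI : Fact p.Prime := ⟨hp⟩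
  obtain ⟨x, hx⟩ := exists_prime_orderOf_dvd_card' p hd
  exact (hK x).mp x.2 p hp (by rw [orderOf_coe, hx])

theorem index_of_mem_iff {K : Subgroup G} (hK : ∀ x : G, x ∈ K ↔ IsPiElt π x) {p : ℕ}
    (hp : p.Prime) (hd : p ∣ K.index) : p ∉ π := by
  intro hpπ
  haveI : Fact p.Prime := ⟨hp⟩
  obtain ⟨P⟩ : Nonempty (Sylow p G) := inferInstance
  refine P.not_dvd_index (hd.trans (index_dvd_of_le fun x hx => (hK x).mpr fun q hq hqd => ?_))
  obtain ⟨k, hk⟩ := (IsPGroup.iff_orderOf.mp P.isPGroup') ⟨x, hx⟩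
  rw [Subgroup.orderOf_mk] at hk
  rw [(Nat.prime_dvd_prime_iff_eq hq hp).mp (hq.dvd_of_dvd_pow (hk ▸ hqd))]
  exact hpπ

omit [Finite G] in
theorem homog_subgroup (h : Homog π G) (X : Subgroup G) : Homog π X := by
  intro H hH hHπ p hp hd
  have hH' : H.map X.subtype ≠ ⊥ := fun e =>
    hH ((map_eq_bot_iff_of_injective _ X.subtype_injective).mp e)
  have hcard : Nat.card (H.map X.subtype) = Nat.card H :=
    card_map_of_injective X.subtype_injective
  refine h _ hH' (fun q hq hqd => hHπ q hq (hcard ▸ hqd)) p hp (hd.trans ?_)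
  set C := centralizer ((H.map X.subtype : Subgroup G) : Set G)
  set N := normalizer ((H.map X.subtype : Subgroup G) : Set G)
  have hC : centralizer (H : Set X) = C.subgroupOf X := by
    ext x
    simp only [mem_subgroupOf, C, mem_centralizer_iff, coe_map, Set.forall_mem_image,
      coe_subtype, SetLike.mem_coe]
    exact forall₂_congr fun y _ => ⟨fun e => congrArg Subtype.val e, fun e => Subtype.ext e⟩
  have hN : normalizer (H : Set X) = N.subgroupOf X := by
    conv_lhs => rw [show H = (H.map X.subtype).subgroupOf X from (comap_map_eq_self_of_injective X.subtype_injective H).symm]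
    exact (subgroupOf_normalizer_eq (map_subtype_le H)).symm
  haveI : (C.subgroupOf N).Normal := by
    refine Coprime.normal_subgroupOf_of_le_normalizer fun g hg => ?_
    rw [mem_normalizer_iff]
    intro x
    simp only [C, mem_centralizer_iff, SetLike.mem_coe]
    constructor
    · intro hx y hy
      have := hx _ ((mem_normalizer_iff''.mp hg y).mp hy)
      calc y * (g * x * g⁻¹) = g * (g⁻¹ * y * g * x) * g⁻¹ := by group
        _ = g * (x * (g⁻¹ * y * g)) * g⁻¹ := by rw [this]
        _ = g * x * g⁻¹ * y := by group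
    · intro hx y hy
      have := hx _ ((mem_normalizer_iff.mp hg y).mp hy)
      calc y * x = g⁻¹ * (g * y * g⁻¹ * (g * x * g⁻¹)) * g := by group
        _ = g⁻¹ * (g * x * g⁻¹ * (g * y * g⁻¹)) * g := by rw [this]
        _ = x * y := by group
  rw [hC, hN]
  have h1 : (C.subgroupOf X).relIndex (N.subgroupOf X) = C.relIndex (N ⊓ X) := by
    rw [← relIndex_subgroupOf (inf_le_right : N ⊓ X ≤ X), inf_subgroupOf_right]
  rw [h1, ← relIndex_subgroupOf (inf_le_left : N ⊓ X ≤ N)]
  exact relIndex_dvd_index_of_normal _ _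

/-- A `π`-closed normal subgroup with `π`-quotient in a homogeneous group: the group is closed. -/
theorem closed_of_pi_quotient (hhom : Homog π G) (K : Subgroup G) [K.Normal] (hK : Closed π K)
    (hKi : ∀ q : ℕ, q.Prime → q ∣ K.index → q ∈ π) : Closed π G := by
  obtain ⟨L₀, hL₀⟩ := hK
  set L := L₀.map K.subtype with hLdef
  have hLK : L ≤ K := map_subtype_le _
  have hLmem : ∀ x : G, x ∈ L ↔ x ∈ K ∧ IsPiElt π x := by
    intro x
    constructor
    · rintro ⟨y, hy, rfl⟩
      exact ⟨y.2, (isPiElt_map_iff K.subtype K.subtype_injective y).mpr ((hL₀ y).mp hy)⟩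
    · rintro ⟨h1, h2⟩
      exact ⟨⟨x, h1⟩, (hL₀ _).mpr ((isPiElt_map_iff K.subtype K.subtype_injective _).mp h2), rfl⟩
  haveI hLn : L.Normal := ⟨fun x hx g => by
    rw [hLmem] at hx ⊢
    refine ⟨(inferInstance : K.Normal).conj_mem x hx.1 g, fun p hp hd => hx.2 p hp ?_⟩
    rwa [← MulAut.conj_apply, MulEquiv.orderOf_eq] at hd⟩
  have hLπ : ∀ q : ℕ, q.Prime → q ∣ Nat.card L → q ∈ π := fun q hq hd =>
    card_of_mem_iff hL₀ hq (by rwa [hLdef, card_map_of_injective K.subtype_injective] at hd)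
  let f := QuotientGroup.mk' L
  have hfs : Function.Surjective f := QuotientGroup.mk'_surjective L
  set Kb := K.map f with hKb
  haveI : Kb.Normal := (inferInstance : K.Normal).map f hfs
  have hKbi : Kb.index = K.index := index_map_eq K hfs (by rwa [QuotientGroup.ker_mk'])
  -- the image of `K` is a `π'`-group
  have hKbcard : ∀ q : ℕ, q.Prime → q ∣ Nat.card Kb → q ∉ π := by
    intro q hq hd
    refine index_of_mem_iff hL₀ hq ?_
    have h1 : Nat.card L * Nat.card Kb = Nat.card K := by
      have e1 := card_mul_index (L.subgroupOf K)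
      rw [Coprime.card_subgroupOf hLK] at e1
      rw [← e1]
      congr 1
      show Nat.card Kb = L.relIndex K
      rw [← relIndex_bot_left, show (⊥ : Subgroup (G ⧸ L)) = L.map f from
        (QuotientGroup.map_mk'_self L).symm, hKb, ← relIndex_comap,
        comap_map_eq_self (by rw [QuotientGroup.ker_mk'])]
    have h2 : L₀.index * Nat.card L₀ = Nat.card K := by rw [mul_comm, card_mul_index]
    rw [← h2, mul_comm L₀.index, show Nat.card L = Nat.card L₀ from
      card_map_of_injective K.subtype_injective] at h1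
    exact Nat.eq_of_mul_eq_mul_left Nat.card_pos h1 ▸ hd
  -- every Sylow `q`-subgroup of the quotient centralises it, `q ∈ π`
  have key : ∀ q : ℕ, q.Prime → q ∈ π → ∀ Q : Sylow q (G ⧸ L),
      Kb ≤ centralizer ((Q : Subgroup (G ⧸ L)) : Set (G ⧸ L)) := by
    intro q hq hqπ Q
    haveI : Fact q.Prime := ⟨hq⟩
    set Z := Kb ⊓ centralizer ((Q : Subgroup (G ⧸ L)) : Set (G ⧸ L)) with hZ
    suffices h : Nat.card Kb ∣ Nat.card Z from inf_eq_left.mp
      (eq_of_le_of_card_ge inf_le_left (Nat.le_of_dvd Nat.card_pos h))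
    rw [← Nat.factorization_prime_le_iff_dvd Nat.card_pos.ne' Nat.card_pos.ne']
    intro r hr
    haveI : Fact r.Prime := ⟨hr⟩
    by_cases hrd : r ∣ Nat.card Kb
    swap
    · rw [Nat.factorization_eq_zero_of_not_dvd hrd]; exact Nat.zero_le _
    have hrπ : r ∉ π := hKbcard r hr hrd
    have hcop : (Nat.card (Q : Subgroup (G ⧸ L))).Coprime (Nat.card Kb) := by
      obtain ⟨k, hk⟩ := Q.isPGroup'.exists_card_eq
      rw [hk]
      exact Nat.Coprime.pow_left _ (hq.coprime_iff_not_dvd.mpr fun h => hKbcard q hq h hqπ)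
    have hQK : (Q : Subgroup (G ⧸ L)) ≤ normalizer (Kb : Set (G ⧸ L)) :=
      normalizer_eq_top (H := Kb) ▸ le_top
    obtain ⟨R, hR⟩ := Coprime.exists_invariant_sylow hQK hcop
      (Or.inl (by haveI := Q.isPGroup'.isNilpotent; infer_instance)) r
    set R' := (R : Subgroup Kb).map Kb.subtype with hR'
    have hR'c : Nat.card R' = r ^ (Nat.card Kb).factorization r := by
      rw [hR', card_map_of_injective Kb.subtype_injective, R.card_eq_multiplicity]
    refine (hr.pow_dvd_iff_le_factorization Nat.card_pos.ne').mp ?_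
    rw [← hR'c]
    refine card_dvd_of_le (le_inf (map_subtype_le _) ?_)
    rw [le_centralizer_iff]
    -- a Sylow subgroup of `K` and its normaliser
    obtain ⟨R₀⟩ : Nonempty (Sylow r K) := inferInstance
    set R₁ := (R₀ : Subgroup K).map K.subtype with hR₁
    have hR₁ne : R₁ ≠ ⊥ := by
      intro e
      refine R₀.ne_bot_of_dvd_card (hrd.trans ?_)
        ((map_eq_bot_iff_of_injective _ K.subtype_injective).mp e)
      exact Subgroup.card_map_dvd K f
    set N := normalizer (R₁ : Set G)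
    obtain ⟨Q₁⟩ : Nonempty (Sylow q N) := inferInstance
    set Q₂ := (Q₁ : Subgroup N).map N.subtype with hQ₂
    have hQ₂C : Q₂ ≤ centralizer (R₁ : Set G) := by
      have h1 := hhom R₁ hR₁ne (fun s hs hsd => ?_) q hq
      · rintro _ ⟨x, hx, rfl⟩
        haveI : ((centralizer (R₁ : Set G)).subgroupOf N).Normal := by
          rw [← normalizerMonoidHom_ker]
          infer_instance
        have h2 : ((centralizer (R₁ : Set G)).subgroupOf N).relIndex (Q₁ : Subgroup N) = 1 := by
          obtain ⟨k, hk⟩ := Q₁.isPGroup'.exists_card_eq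
          refine Nat.eq_one_of_dvd_coprimes ?_ (relIndex_dvd_card _ _)
            (relIndex_dvd_index_of_normal _ _)
          rw [hk]
          exact Nat.Coprime.pow_left _ (hq.coprime_iff_not_dvd.mpr fun h => h1 h hqπ)
        exact mem_subgroupOf.mp (relIndex_eq_one.mp h2 hx :)
      · obtain ⟨k, hk⟩ := R₀.isPGroup'.exists_card_eq
        rw [hR₁, card_map_of_injective K.subtype_injective, hk] at hsd
        rwa [(Nat.prime_dvd_prime_iff_eq hs hr).mp (hs.dvd_of_dvd_pow hsd)]
    -- its image is a Sylow subgroup of the quotient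
    have hQ₂i : ¬ q ∣ (Q₂.map f).index := by
      intro h
      have hsup : N ⊔ K = ⊤ := Sylow.normalizer_sup_eq_top R₀
      have h1 : (Q₂.map f).relIndex (N.map f) * (N.map f).index = (Q₂.map f).index :=
        relIndex_mul_index (map_mono (map_subtype_le _))
      rcases hq.dvd_mul.mp (h1.symm ▸ h) with h2 | h2
      · refine Q₁.not_dvd_index (h2.trans ?_)
        rw [← relIndex_comap]
        refine (relIndex_dvd_of_le_left N (le_comap_map f Q₂)).trans (dvd_of_eq ?_)
        show (Q₂.subgroupOf N).index = _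
        rw [show Q₂.subgroupOf N = (Q₁ : Subgroup N) from
          comap_map_eq_self_of_injective N.subtype_injective _]
      · refine hKbcard q hq (h2.trans (index_dvd_card_of_sup ?_)) hqπ
        rw [hKb, ← Subgroup.map_sup, hsup, ← MonoidHom.range_eq_map,
          MonoidHom.range_eq_top.mpr hfs]
    let S₂ : Sylow q (G ⧸ L) :=
      ((Q₁.isPGroup'.map N.subtype).map f).toSylow hQ₂i
    have hS₂ : Q₂.map f ≤ centralizer ((R₁.map f : Subgroup (G ⧸ L)) : Set (G ⧸ L)) := by
      rintro _ ⟨x, hx, rfl⟩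
      refine mem_centralizer_iff.mpr ?_
      rintro _ ⟨y, hy, rfl⟩
      rw [← map_mul, ← map_mul, mem_centralizer_iff.mp (hQ₂C hx) y hy]
    -- move it into position
    let R₂ : Sylow r Kb := R₀.mapSurjective (f := f.subgroupMap K) (f.subgroupMap_surjective K)
    have hR₂ : (R₂ : Subgroup Kb).map Kb.subtype = R₁.map f := by
      rw [hR₁, Subgroup.map_map]
      show ((R₀ : Subgroup K).map (f.subgroupMap K)).map Kb.subtype = _
      rw [Subgroup.map_map]
      rfl
    obtain ⟨k, hk⟩ := MulAction.exists_smul_eq Kb R₂ R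
    have hRk : R' = (R₁.map f).map (MulAut.conj (k : G ⧸ L)).toMonoidHom := by
      rw [hR', ← hk, ← hR₂]
      exact Coprime.map_conj_subtype k _
    have hS₃ : (Q₂.map f).map (MulAut.conj (k : G ⧸ L)).toMonoidHom ≤
        centralizer (R' : Set (G ⧸ L)) := by
      rintro _ ⟨x, hx, rfl⟩
      refine mem_centralizer_iff.mpr fun y hy => ?_
      rw [hRk] at hy
      obtain ⟨z, hz, rfl⟩ := hy
      rw [← map_mul, ← map_mul, mem_centralizer_iff.mp (hS₂ hx) z hz]
    set W := normalizer (R' : Set (G ⧸ L))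
    have hQW : (Q : Subgroup (G ⧸ L)) ≤ W := hR
    have hS₃W : (((k : G ⧸ L) • S₂ : Sylow q (G ⧸ L)) : Subgroup (G ⧸ L)) ≤ W :=
      hS₃.trans (Subgroup.centralizer_le_normalizer _)
    obtain ⟨n, hn⟩ := MulAction.exists_smul_eq W (((k : G ⧸ L) • S₂).subtype hS₃W) (Q.subtype hQW)
    intro x hx
    have h1 : (⟨x, hQW hx⟩ : W) ∈ (n • ((k : G ⧸ L) • S₂).subtype hS₃W : Sylow q W).toSubgroup := by
      rw [hn]; exact mem_subgroupOf.mpr hx
    obtain ⟨w, hw, hwx⟩ := h1
    have hwx' : (n : G ⧸ L) * (w : W) * (n : G ⧸ L)⁻¹ = x := congrArg Subtype.val hwx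
    have hwC : (w : G ⧸ L) ∈ centralizer (R' : Set (G ⧸ L)) := hS₃ (mem_subgroupOf.mp hw)
    refine mem_centralizer_iff.mpr fun y hy => ?_
    have h2 := mem_centralizer_iff.mp hwC _ ((mem_normalizer_iff''.mp n.2 y).mp hy)
    rw [← hwx']
    calc y * ((n : G ⧸ L) * w * (n : G ⧸ L)⁻¹)
        = n * ((n : G ⧸ L)⁻¹ * y * n * w) * (n : G ⧸ L)⁻¹ := by group
      _ = n * (w * ((n : G ⧸ L)⁻¹ * y * n)) * (n : G ⧸ L)⁻¹ := by rw [h2]
      _ = n * w * (n : G ⧸ L)⁻¹ * y := by group
  -- the centraliser of the image of `K` and a complement in it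
  set J := centralizer (Kb : Set (G ⧸ L))
  haveI hJn : J.Normal := by infer_instance
  have hJi : ∀ q : ℕ, q.Prime → q ∣ J.index → q ∉ π := by
    intro q hq hd hqπ
    haveI : Fact q.Prime := ⟨hq⟩
    obtain ⟨Q⟩ : Nonempty (Sylow q (G ⧸ L)) := inferInstance
    exact Q.not_dvd_index (hd.trans (index_dvd_of_le (le_centralizer_iff.mp (key q hq hqπ Q))))
  set Z := Kb.subgroupOf J with hZdef
  have hZi : ∀ q : ℕ, q.Prime → q ∣ Z.index → q ∈ π := fun q hq hd =>
    hKi q hq (hKbi ▸ hd.trans (show Kb.relIndex J ∣ Kb.index from relIndex_dvd_index_of_normal _ _))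
  have hZc : ∀ q : ℕ, q.Prime → q ∣ Nat.card Z → q ∉ π := fun q hq hd => hKbcard q hq
    (hd.trans (by
      rw [← card_map_of_injective J.subtype_injective, hZdef, subgroupOf_map_subtype]
      exact card_dvd_of_le inf_le_left))
  obtain ⟨E, hE⟩ := exists_right_complement'_of_coprime (N := Z)
    (Nat.coprime_of_dvd fun q hq h1 h2 => hZc q hq h1 (hZi q hq h2))
  have hEπ : ∀ q : ℕ, q.Prime → q ∣ Nat.card E → q ∈ π := fun q hq hd =>
    hZi q hq (hE.symm.index_eq_card ▸ hd)
  set E' := E.map J.subtype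
  have hE' : ∀ v : G ⧸ L, v ∈ E' ↔ IsPiElt π v := by
    intro v
    constructor
    · intro hv
      exact isPiElt_of_card (fun q hq hd => hEπ q hq
        (by rwa [card_map_of_injective J.subtype_injective] at hd)) hv
    · intro hv
      have hvJ : v ∈ J := by
        rw [← QuotientGroup.eq_one_iff, ← orderOf_eq_one_iff,
          Nat.eq_one_iff_not_exists_prime_dvd]
        intro q hq hd
        refine hJi q hq ?_ (hv q hq (hd.trans (orderOf_map_dvd (QuotientGroup.mk' J) v)))
        rw [index_eq_card]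
        exact hd.trans (orderOf_dvd_natCard _)
      obtain ⟨⟨⟨z, hz⟩, ⟨e, he⟩⟩, hze⟩ := hE.2 ⟨v, hvJ⟩
      have hcomm : Commute z e := Subtype.ext
        (mem_centralizer_iff.mp e.2 _ (mem_subgroupOf.mp hz))
      have hz1 : z = 1 := by
        refine orderOf_eq_one_iff.mp (Nat.eq_one_iff_not_exists_prime_dvd.mpr fun q hq hd => ?_)
        refine hZc q hq (hd.trans (orderOf_dvd_natCard Z hz)) ?_
        have h2 : orderOf z ∣ orderOf v * orderOf e := by
          rw [show orderOf v = orderOf (z * e) by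
            rw [← orderOf_coe (z * e), show ((z * e : J) : G ⧸ L) = v from congrArg Subtype.val hze]]
          refine orderOf_dvd_of_pow_eq_one ?_
          have h3 : (z * e) ^ (orderOf (z * e) * orderOf e) = 1 := by
            rw [pow_mul, pow_orderOf_eq_one, one_pow]
          rwa [hcomm.mul_pow, mul_comm (orderOf (z * e)) (orderOf e), pow_mul e,
            pow_orderOf_eq_one, one_pow, mul_one, mul_comm] at h3
        rcases hq.dvd_mul.mp (hd.trans h2) with h | h
        · exact hv q hq h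
        · exact hEπ q hq (h.trans (orderOf_dvd_natCard E he))
      refine ⟨e, he, ?_⟩
      have := congrArg Subtype.val hze
      simpa [hz1] using this
  refine ⟨E'.comap f, fun x => ?_⟩
  rw [mem_comap, hE']
  refine ⟨fun hx p hp hd => ?_, fun hx p hp hd => hx p hp (hd.trans (orderOf_map_dvd f x))⟩
  have h1 : orderOf x ∣ orderOf (f x) * Nat.card L := by
    refine orderOf_dvd_of_pow_eq_one ?_
    rw [pow_mul]
    have h2 : x ^ orderOf (f x) ∈ L := by
      rw [← QuotientGroup.eq_one_iff]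
      show f (x ^ orderOf (f x)) = 1
      rw [map_pow, pow_orderOf_eq_one]
    exact congrArg Subtype.val (pow_card_eq_one' (x := (⟨_, h2⟩ : L)))
  rcases hp.dvd_mul.mp (hd.trans h1) with h | h
  · exact hx p hp h
  · exact hLπ p hp h

omit [Finite G] in
theorem closed_of_equiv {G' : Type*} [Group G'] (e : G ≃* G') (h : Closed π G) : Closed π G' := by
  obtain ⟨K, hK⟩ := h
  refine ⟨K.map e.toMonoidHom, fun x => ?_⟩
  obtain ⟨y, rfl⟩ := e.surjective x
  rw [e.orderOf_eq, ← hK y]
  exact mem_map_iff_mem e.injective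

/-- Extension by a `π`-quotient inside a homogeneous group. -/
theorem closed_step_pi (hhom : Homog π G) {K X : Subgroup G} (hKX : K ≤ X) [K.Normal]
    (hK : Closed π K) (hi : ∀ q : ℕ, q.Prime → q ∣ K.relIndex X → q ∈ π) : Closed π X := by
  haveI : (K.subgroupOf X).Normal := (inferInstance : K.Normal).subgroupOf X
  exact closed_of_pi_quotient (homog_subgroup hhom X) (K.subgroupOf X)
    (closed_of_equiv (subgroupOfEquivOfLe hKX).symm hK) hi

/-- Extension by a `π'`-quotient. -/
theorem closed_step_compl {K X : Subgroup G} (hKX : K ≤ X) [K.Normal]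
    (hK : Closed π K) (hi : ∀ q : ℕ, q.Prime → q ∣ K.relIndex X → q ∉ π) : Closed π X := by
  haveI : (K.subgroupOf X).Normal := (inferInstance : K.Normal).subgroupOf X
  obtain ⟨L, hL⟩ := closed_of_equiv (subgroupOfEquivOfLe hKX).symm hK
  refine ⟨L.map (K.subgroupOf X).subtype, fun x => ⟨?_, fun hx => ?_⟩⟩
  · rintro ⟨y, hy, rfl⟩
    exact (isPiElt_map_iff (K.subgroupOf X).subtype (subtype_injective _) y).mpr ((hL y).mp hy)
  · have hxK : x ∈ K.subgroupOf X := by
      rw [← QuotientGroup.eq_one_iff, ← orderOf_eq_one_iff, Nat.eq_one_iff_not_exists_prime_dvd]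
      intro q hq hd
      refine hi q hq ?_ (hx q hq (hd.trans (orderOf_map_dvd (QuotientGroup.mk' (K.subgroupOf X)) x)))
      show q ∣ (K.subgroupOf X).index
      rw [index_eq_card]
      exact hd.trans (orderOf_dvd_natCard _)
    exact ⟨⟨x, hxK⟩, (hL _).mpr fun q hq hd => hx q hq (by
      rwa [← Subgroup.orderOf_mk (a := x) (ha := hxK)]), rfl⟩

end CfsgLib.ClassK.PiClosed
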