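import Cfsg.Agent.Lib.ClassK.GLTwoSylowNorm
import Cfsg.Agent.Lib.Coprime.Sylow
import Cfsg.Agent.Lib.Invol.PronormalOvergroups
import Cfsg.Agent.S3820

/-!
Overgroups of a Sylow 2-subgroup of `PSL_2(q)`, `q ≡ ±3 (mod 8)`, are pronormal.
-/

set_option autoImplicit false
set_option linter.unusedSectionVars false
set_option linter.style.haveILetI false
set_option maxHeartbeats 1000000

namespace CfsgLib.ClassK.PSLTwoPronormal

open Subgroup CfsgLib.Invol

section Small

variable {G : Type*} [Group G] [Finite G]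

/-- A four group is generated by any two of its involutions. -/
theorem four_elements {P : Subgroup G} (hP : Nat.card P = 4) (he : ∀ x ∈ P, x * x = 1) {a b : G}
    (ha : a ∈ P) (hb : b ∈ P) (ha1 : a ≠ 1) (hb1 : b ≠ 1) (hab : a ≠ b) {x : G} (hx : x ∈ P) :
    x = 1 ∨ x = a ∨ x = b ∨ x = a * b := by
  classical
  by_contra h
  push Not at h
  have h3 : a * b ≠ 1 := fun e => hab (by
    rw [← mul_left_inj b, e, he b hb])
  have h4 : a * b ≠ a := fun e => hb1 (by simpa using e)
  have h5 : a * b ≠ b := fun e => ha1 (by simpa using e)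
  let f : Fin 5 → P := ![1, ⟨a, ha⟩, ⟨b, hb⟩, ⟨a * b, mul_mem ha hb⟩, ⟨x, hx⟩]
  have hf : Function.Injective f := by
    intro i j hij
    have := congrArg Subtype.val hij
    revert this
    fin_cases i <;> fin_cases j <;>
      simp [f, ha1, hb1, hab, h3, h4, h5, h.1, h.2.1, h.2.2.1, h.2.2.2, ha1.symm, hb1.symm,
        hab.symm, h3.symm, h4.symm, h5.symm, h.1.symm, h.2.1.symm, h.2.2.1.symm, h.2.2.2.symm]
  have := Nat.card_le_card_of_injective f hf
  rw [hP, Nat.card_fin] at this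
  omega

/-- Pronormality for a self-centralizing Sylow four group with index-three automizer, when centralizers
of elements of odd order lie inside centralizers of the commuting involutions. -/
theorem isPronormal_of_four (P : Sylow 2 G) (hc4 : Nat.card (P : Subgroup G) = 4)
    (hN : Nat.card (normalizer ((P : Subgroup G) : Set G)) = 12)
    (hC : centralizer ((P : Subgroup G) : Set G) ≤ (P : Subgroup G))
    (hlift : ∀ c v x : G, Odd (orderOf c) → c ≠ 1 → Commute c v → Commute x c → Commute x v)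
    {H : Subgroup G} (hPH : (P : Subgroup G) ≤ H) : Cfsg.IsPronormal H := by
  classical
  haveI := Fact.mk Nat.prime_two
  set P' := (P : Subgroup G) with hP'
  refine (Cfsg.Agent.S3820.result P' H hPH ?_).2 fun g hg => ?_
  · intro g
    obtain ⟨x, hx⟩ := MulAction.exists_smul_eq (P' ⊔ cjSub g P' : Subgroup G)
      (P.subtype (show (P : Subgroup G) ≤ P' ⊔ cjSub g P' from le_sup_left))
      ((g • P).subtype (show ((g • P : Sylow 2 G) : Subgroup G) ≤ P' ⊔ cjSub g P' from
        le_sup_right))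
    rw [Sylow.smul_subtype] at hx
    refine ⟨x, x.2, ?_⟩
    have h1 : (x : G) • P = g • P := Sylow.subtype_injective hx
    exact (congrArg (fun Q : Sylow 2 G => (Q : Subgroup G)) h1).symm
  show ∃ w ∈ H ⊔ cjSub g H, cjSub g H = cjSub w H
  by_cases hgJ : g ∈ H ⊔ cjSub g H
  · exact ⟨g, hgJ, rfl⟩
  have hgP : g ∉ P' := fun h => hgJ (mem_sup_left (hPH h))
  have hcomm : ∀ x ∈ P', ∀ y ∈ P', x * y = y * x := fun x hx y hy => by
    have := IsPGroup.commutative_of_card_eq_prime_sq (G := P') (p := 2) (by rw [hc4]; norm_num)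
    exact congrArg Subtype.val (this ⟨x, hx⟩ ⟨y, hy⟩)
  have hgn : ∀ x ∈ P', g * x * g⁻¹ ∈ P' := fun x hx => (mem_normalizer_iff.1 hg x).1 hx
  have hg3 : g ^ 3 ∈ P' := by
    refine GLTwoNorm.mem_sylow_of_normalizer P (pow_mem hg 3) (k := 2) ?_
    rw [← pow_mul]
    have h1 : (⟨g, hg⟩ : normalizer (P' : Set G)) ^ 12 = 1 := by rw [← hN]; exact pow_card_eq_one'
    simpa using congrArg Subtype.val h1
  -- `g` fixing an element `x` of `P` twice
  have hfix : ∀ x ∈ P', g * (g * x * g⁻¹) * g⁻¹ = x → g * x * g⁻¹ = x := fun x hx h => by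
    have h2 : g ^ 3 * x * (g ^ 3)⁻¹ = x := by
      rw [hcomm _ hg3 x hx, mul_inv_cancel_right]
    calc g * x * g⁻¹ = g * (g * (g * x * g⁻¹) * g⁻¹) * g⁻¹ := by rw [h]
      _ = g ^ 3 * x * (g ^ 3)⁻¹ := by simp [pow_succ, mul_assoc]
      _ = x := h2
  have hnotcent : ¬ ∀ x ∈ P', g * x * g⁻¹ = x := fun h => hgP (hC (mem_centralizer_iff.2 fun x hx => by
    exact (mul_inv_eq_iff_eq_mul.1 (h x hx)).symm))
  have hexp : ∀ x ∈ P', x * x = 1 := by
    intro x hx
    by_contra h
    apply hnotcent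
    have hord : orderOf x = 4 := by
      have h1 : orderOf x ∣ 2 ^ 2 := by
        have := orderOf_dvd_natCard (⟨x, hx⟩ : P')
        rwa [Subgroup.orderOf_mk, hc4] at this
      obtain ⟨i, hi, hi'⟩ := (Nat.dvd_prime_pow Nat.prime_two).1 h1
      interval_cases i
      · exact absurd (by rw [orderOf_eq_one_iff.1 hi', mul_one]) h
      · exact absurd (by rw [← pow_two, show 2 = orderOf x by rw [hi']; norm_num, pow_orderOf_eq_one]) h
      · exact hi'
    have hzp : ∀ y ∈ P', y ∈ zpowers x := by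
      have : zpowers x = P' := eq_of_le_of_card_ge (zpowers_le.2 hx) (by rw [hc4, Nat.card_zpowers, hord])
      exact fun y hy => this ▸ hy
    obtain ⟨k, hk⟩ := mem_zpowers_iff.1 (hzp _ (hgn x hx))
    have hmod : x ^ k = x ^ (k % 4) := by
      conv_lhs => rw [← Int.emod_add_mul_ediv k 4]
      rw [zpow_add, zpow_mul, show x ^ (4 : ℤ) = 1 by
        rw [show (4 : ℤ) = ((orderOf x : ℕ) : ℤ) by rw [hord]; rfl, zpow_natCast, pow_orderOf_eq_one],
        one_zpow, mul_one]
    have hxx : g * x * g⁻¹ = x ∨ g * x * g⁻¹ = x⁻¹ := by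
      rcases (show k % 4 = 0 ∨ k % 4 = 1 ∨ k % 4 = 2 ∨ k % 4 = 3 by omega) with e | e | e | e <;>
        rw [hmod, e] at hk
      · have := congrArg orderOf hk
        rw [orderOf_conj_eq, zpow_zero, orderOf_one, hord] at this
        omega
      · exact Or.inl (by rw [← hk, zpow_one])
      · have := congrArg orderOf hk
        rw [orderOf_conj_eq, show x ^ (2 : ℤ) = x ^ 2 from zpow_natCast x 2,
          orderOf_pow' x two_ne_zero, hord] at this
        norm_num at this
      · refine Or.inr ?_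
        rw [← hk, eq_inv_iff_mul_eq_one, ← zpow_add_one, show (3 : ℤ) + 1 = ((orderOf x : ℕ) : ℤ) by
          rw [hord]; rfl, zpow_natCast, pow_orderOf_eq_one]
    have h1 : g * x * g⁻¹ = x := by
      rcases hxx with e | e
      · exact e
      · refine hfix x hx ?_
        rw [e, ← inv_inj, mul_inv_rev, mul_inv_rev, inv_inv, inv_inv, ← mul_assoc, e]
    intro y hy
    obtain ⟨i, rfl⟩ := hzp y hy
    rw [← conj_zpow, h1]
  -- `g` fixes no involution of `P`
  have hfree : ∀ v ∈ P', v ≠ 1 → g * v * g⁻¹ ≠ v := by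
    intro v hv hv1 hgv
    obtain ⟨u, hu, hu'⟩ : ∃ u ∈ P', g * u * g⁻¹ ≠ u := by
      by_contra h
      push Not at h
      exact hnotcent h
    have hu1 : u ≠ 1 := fun e => hu' (by simp [e])
    have huv : u ≠ v := fun e => hu' (e ▸ hgv)
    refine hu' (hfix u hu ?_)
    rcases four_elements hc4 hexp hv hu hv1 hu1 huv.symm (hgn u hu) with e | e | e | e
    · exact absurd (by simpa using e) hu1
    · exact absurd (mul_left_cancel (mul_right_cancel (e.trans hgv.symm))) huv
    · exact absurd e hu'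
    · rw [e, show g * (v * u) * g⁻¹ = (g * v * g⁻¹) * (g * u * g⁻¹) by group, hgv, e, ← mul_assoc,
        hexp v hv, one_mul]
  set J := H ⊔ cjSub g H with hJ
  have hPJ : P' ≤ J := hPH.trans le_sup_left
  -- the normalizer in `J` is `P`
  have hNJ : ∀ y ∈ J, y ∈ normalizer (P' : Set G) → y ∈ P' := by
    intro y hyJ hyN
    by_contra hy
    apply hgJ
    have h1 : P' < J ⊓ normalizer (P' : Set G) :=
      lt_of_le_of_ne (le_inf hPJ le_normalizer) (fun e => hy (e ▸ ⟨hyJ, hyN⟩))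
    have hd1 : Nat.card P' ∣ Nat.card (J ⊓ normalizer (P' : Set G) : Subgroup G) :=
      Subgroup.card_dvd_of_le h1.le
    have hd2 : Nat.card (J ⊓ normalizer (P' : Set G) : Subgroup G) ∣ 12 := by
      have := Subgroup.card_dvd_of_le (inf_le_right : J ⊓ normalizer (P' : Set G) ≤ _)
      rwa [hN] at this
    have hlt : Nat.card P' < Nat.card (J ⊓ normalizer (P' : Set G) : Subgroup G) := by
      rcases (Subgroup.card_le_of_le h1.le).lt_or_eq with h | h
      · exact h
      · exact absurd (eq_of_le_of_card_ge h1.le h.ge) h1.ne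
    rw [hc4] at hd1 hlt
    have h12 : Nat.card (J ⊓ normalizer (P' : Set G) : Subgroup G) = 12 := by
      obtain ⟨c, hc⟩ := hd1
      rw [hc] at hd2 hlt ⊢
      have : c ∣ 3 := Nat.dvd_of_mul_dvd_mul_left (by norm_num) (by simpa using hd2 : 4 * c ∣ 4 * 3)
      rcases (Nat.dvd_prime Nat.prime_three).1 this with rfl | rfl <;> omega
    have h2 : J ⊓ normalizer (P' : Set G) = normalizer (P' : Set G) :=
      eq_of_le_of_card_ge inf_le_right (by rw [h12, hN])
    exact (h2.ge hg).1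
  -- Burnside
  let PJ : Sylow 2 J := P.subtype hPJ
  haveI : (PJ : Subgroup J).FiniteIndex := ⟨Subgroup.index_ne_zero_of_finite⟩
  have hB : normalizer ((PJ : Subgroup J) : Set J) ≤ centralizer ((PJ : Subgroup J) : Set J) := by
    intro y hy
    have hyN : (y : G) ∈ normalizer (P' : Set G) := by
      rw [mem_normalizer_iff_map_conj_eq]
      refine eq_of_le_of_card_ge ?_
        (card_map_of_injective (MulAut.conj (y : G)).injective).ge
      rintro _ ⟨w, hw, rfl⟩
      exact (mem_normalizer_iff.1 hy ⟨w, hPJ hw⟩).1 hw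
    rw [mem_centralizer_iff]
    intro w hw
    exact Subtype.ext (hcomm _ hw _ (hNJ _ y.2 hyN))
  obtain ⟨φ, hcompl⟩ : ∃ φ : J →* (PJ : Subgroup J), φ.ker.IsComplement' (PJ : Subgroup J) :=
    ⟨_, MonoidHom.ker_transferSylow_isComplement' PJ hB⟩
  set K := φ.ker.map J.subtype with hK
  have hKodd : Odd (Nat.card K) := by
    rw [hK, card_map_of_injective J.subtype_injective]
    have h1 : ¬ 2 ∣ (PJ : Subgroup J).index := PJ.not_dvd_index
    rw [hcompl.index_eq_card] at h1
    exact Nat.not_even_iff_odd.1 fun h => h1 h.two_dvd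
  have hoddK : ∀ y ∈ J, Odd (orderOf y) → y ∈ K := by
    intro y hy hyo
    refine ⟨⟨y, hy⟩, ?_, rfl⟩
    rw [SetLike.mem_coe, MonoidHom.mem_ker]
    obtain ⟨k, hk⟩ := PJ.2 (φ ⟨y, hy⟩)
    rw [← orderOf_eq_one_iff]
    refine Nat.eq_one_of_dvd_coprimes ((Nat.coprime_two_left.2 hyo).pow_left k)
      (orderOf_dvd_of_pow_eq_one hk) ?_
    exact (orderOf_map_dvd φ (⟨y, hy⟩ : J)).trans (Subgroup.orderOf_mk y hy).dvd
  have hKP : P' ≤ normalizer (K : Set G) := by
    intro v hv
    rw [mem_normalizer_iff_map_conj_eq]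
    refine eq_of_le_of_card_ge ?_ (card_map_of_injective (MulAut.conj v).injective).ge
    rintro _ ⟨_, ⟨w, hw, rfl⟩, rfl⟩
    refine ⟨⟨v, hPJ hv⟩ * w * ⟨v, hPJ hv⟩⁻¹, (MonoidHom.normal_ker φ).conj_mem w hw _, ?_⟩
    simp
  set H₁ := H ⊓ K with hH₁
  by_cases hbot : H₁ = ⊥
  · -- then `H = P`
    refine ⟨1, one_mem _, ?_⟩
    have hHP : H = P' := by
      refine (eq_of_le_of_card_ge hPH ?_).symm
      let ι : H →* (PJ : Subgroup J) := φ.comp (inclusion le_sup_left)
      have hι : Function.Injective ι := (injective_iff_map_eq_one ι).2 fun h hh => by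
        have h1 : (h : G) ∈ H₁ := ⟨h.2, ⟨inclusion le_sup_left h, hh, rfl⟩⟩
        rw [hbot, mem_bot] at h1
        exact Subtype.ext h1
      refine (Nat.card_le_card_of_injective ι hι).trans (le_of_eq ?_)
      exact Nat.card_congr (Subgroup.subgroupOfEquivOfLe hPJ).toEquiv
    rw [cjSub_one, hHP, cjSub_eq_self_iff]
    exact hg
  exfalso
  obtain ⟨r, hr, hrd⟩ := Nat.exists_prime_and_dvd
    (n := Nat.card H₁) (fun h => hbot (Subgroup.eq_bot_of_card_eq _ h))
  haveI := Fact.mk hr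
  have hr2 : r ≠ 2 := by
    rintro rfl
    exact hKodd.not_two_dvd_nat (hrd.trans (Subgroup.card_dvd_of_le inf_le_right))
  have hs : Group.IsSolvable P' :=
    isSolvable_of_comm fun a b => Subtype.ext (hcomm _ a.2 _ b.2)
  have hcop : ∀ L : Subgroup G, L ≤ K → (Nat.card P').Coprime (Nat.card L) := fun L hL => by
    rw [hc4, show 4 = 2 ^ 2 from rfl]
    exact (Nat.coprime_two_left.2 (Odd.of_dvd_nat hKodd (Subgroup.card_dvd_of_le hL))).pow_left 2
  have hH₁P : P' ≤ normalizer (H₁ : Set G) := fun v hv => by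
    rw [mem_normalizer_iff]
    exact fun w => and_congr ((mem_normalizer_iff.1 (le_normalizer (hPH hv))) w)
      (mem_normalizer_iff.1 (hKP hv) w)
  obtain ⟨Q₀, hQ₀⟩ := Coprime.exists_invariant_sylow hH₁P (hcop _ inf_le_right) (Or.inl hs) r
  set R₀ := (Q₀ : Subgroup H₁).map H₁.subtype with hR₀
  have hR₀H : R₀ ≤ H₁ := map_subtype_le _
  have hR₀p : IsPGroup r R₀ := Q₀.2.map _
  set R₁ := cjSub g R₀ with hR₁
  have hR₁K : R₁ ≤ K := by
    intro y hy
    refine hoddK y (mem_sup_right (cjSub_mono (hR₀H.trans inf_le_left) hy)) ?_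
    obtain ⟨w, hw, rfl⟩ := hy
    rw [MulEquiv.coe_toMonoidHom, MulEquiv.orderOf_eq]
    exact Odd.of_dvd_nat hKodd ((Subgroup.orderOf_mk w (hR₀H hw).2).symm.dvd.trans
      (orderOf_dvd_natCard (⟨w, (hR₀H hw).2⟩ : K)))
  have hR₁P : P' ≤ normalizer (R₁ : Set G) := fun v hv => by
    rw [← cjSub_eq_self_iff, hR₁, ← cjSub_mul, show v * g = g * (g⁻¹ * v * g) by group, cjSub_mul,
      cjSub_eq_self_iff.2 (hQ₀ ?_)]
    exact (mem_normalizer_iff''.1 hg v).1 hv
  obtain ⟨Qa, ha1, ha2⟩ := Coprime.exists_invariant_sylow_ge hKP (hcop _ le_rfl) (Or.inl hs)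
    hR₀p (hR₀H.trans inf_le_right) hQ₀
  obtain ⟨Qb, hb1, hb2⟩ := Coprime.exists_invariant_sylow_ge hKP (hcop _ le_rfl) (Or.inl hs)
    (hR₀p.map _) hR₁K hR₁P
  obtain ⟨c, hc, hce⟩ := Coprime.exists_conj_invariant_sylow hKP (hcop _ le_rfl) (Or.inl hs) Qb Qa
    hb2 ha2
  have hc1 : c = 1 := by
    obtain ⟨k, hk⟩ := P.2 ⟨c, hC hc.2⟩
    rw [← orderOf_eq_one_iff]
    exact Nat.eq_one_of_dvd_coprimes ((Nat.coprime_two_left.2 (Odd.of_dvd_nat hKodd
      ((dvd_of_eq (Subgroup.orderOf_mk c hc.1).symm).trans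
        (orderOf_dvd_natCard (⟨c, hc.1⟩ : K))))).pow_left k)
      (orderOf_dvd_of_pow_eq_one (by simpa using congrArg Subtype.val hk)) dvd_rfl
  set R := (Qa : Subgroup K).map K.subtype with hR
  have hR₁R : R₁ ≤ R := by
    rw [← hce, hc1, show ((Qb : Subgroup K).map K.subtype).map (MulAut.conj (1 : G)).toMonoidHom =
      (Qb : Subgroup K).map K.subtype from cjSub_one _]
    exact hb1
  obtain ⟨r₀, hr₀, hr₀1⟩ : ∃ x ∈ R₀, x ≠ (1 : G) := by
    refine R₀.ne_bot_iff_exists_ne_one.1 (fun e => ?_) |>.elim fun x hx =>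
      ⟨x, x.2, fun e' => hx (Subtype.ext e')⟩
    refine Q₀.ne_bot_of_dvd_card hrd ?_
    exact (map_eq_bot_iff_of_injective _ H₁.subtype_injective).1 e
  -- a central element of `R` centralised by an involution
  have hRne : Nontrivial R := ⟨⟨⟨r₀, ha1 hr₀⟩, 1, fun e => hr₀1 (congrArg Subtype.val e)⟩⟩
  have hRp : IsPGroup r R := Qa.2.map _
  haveI := hRne
  obtain ⟨z, hz, hz1⟩ : ∃ z ∈ R, z ≠ 1 ∧ ∀ x ∈ R, Commute x z := by
    haveI := hRp.center_nontrivial
    obtain ⟨⟨⟨z, hzR⟩, hzc⟩, hz⟩ := exists_ne (1 : Subgroup.center R)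
    exact ⟨z, hzR, fun e => hz (Subtype.ext (Subtype.ext e)),
      fun x hx => congrArg Subtype.val (mem_center_iff.1 hzc ⟨x, hx⟩)⟩
  have hinv : ∀ v ∈ P', ∀ y : G, y ∈ R ∧ (∀ x ∈ R, Commute x y) →
      v * y * v⁻¹ ∈ R ∧ ∀ x ∈ R, Commute x (v * y * v⁻¹) := fun v hv y hy => by
    refine ⟨(mem_normalizer_iff.1 (ha2 hv) y).1 hy.1, fun x hx => ?_⟩
    have h1 := (MulAut.conj v).toMonoidHom.map_mul
    have hx' : v⁻¹ * x * v ∈ R := (mem_normalizer_iff''.1 (ha2 hv) x).1 hx
    calc x * (v * y * v⁻¹) = v * ((v⁻¹ * x * v) * y) * v⁻¹ := by group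
      _ = v * (y * (v⁻¹ * x * v)) * v⁻¹ := by rw [(hy.2 _ hx').eq]
      _ = v * y * v⁻¹ * x := by group
  obtain ⟨v₀, hv₀, hv₀1, c₀, hc₀R, hc₀1, hc₀c, hc₀v⟩ : ∃ v ∈ P', v ≠ 1 ∧ ∃ y ∈ R, y ≠ 1 ∧
      (∀ x ∈ R, Commute x y) ∧ Commute y v := by
    obtain ⟨u, hu, hu1⟩ : ∃ u ∈ P', u ≠ 1 := by
      by_contra h
      push Not at h
      exact hnotcent fun x hx => by simp [h x hx]
    have huu : g * u * g⁻¹ ≠ u := hfree u hu hu1
    have hw1 : g * u * g⁻¹ ≠ 1 := fun e => hu1 (by simpa using e)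
    have key : ∀ v ∈ P', v ≠ 1 → (∃ v ∈ P', v ≠ 1 ∧ ∃ y ∈ R, y ≠ 1 ∧
        (∀ x ∈ R, Commute x y) ∧ Commute y v) ∨ v * z * v⁻¹ = z⁻¹ := by
      intro v hv hv1
      obtain ⟨h1, h2⟩ := hinv v hv z ⟨hz, hz1.2⟩
      by_cases he : z * (v * z * v⁻¹) = 1
      · exact Or.inr (eq_inv_of_mul_eq_one_right he)
      refine Or.inl ⟨v, hv, hv1, _, mul_mem hz h1, he, fun x hx => (hz1.2 x hx).mul_right (h2 x hx), ?_⟩
      have hvv : v⁻¹ = v := inv_eq_of_mul_eq_one_right (hexp v hv)
      show z * (v * z * v⁻¹) * v = v * (z * (v * z * v⁻¹))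
      have hcz : z * (v * z * v⁻¹) = (v * z * v⁻¹) * z := (h2 z hz).eq
      rw [hcz]
      conv_rhs => rw [← hcz]
      calc v * z * v⁻¹ * z * v = v * z * (v⁻¹ * z * v) := by group
        _ = v * (z * (v * z * v⁻¹)) := by
          rw [show v⁻¹ * z * v = v * z * v⁻¹ by rw [hvv]]; group
    rcases key u hu hu1 with h | h
    · exact h
    rcases key _ (hgn u hu) hw1 with h' | h'
    · exact h'
    refine ⟨u * (g * u * g⁻¹), mul_mem hu (hgn u hu), fun e => huu ?_, z, hz, hz1.1, hz1.2, ?_⟩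
    · rw [← inv_eq_of_mul_eq_one_right e]; exact inv_eq_of_mul_eq_one_right (hexp u hu)
    · have h3 : (u * (g * u * g⁻¹)) * z * (u * (g * u * g⁻¹))⁻¹ = z := by
        rw [show (u * (g * u * g⁻¹)) * z * (u * (g * u * g⁻¹))⁻¹ =
          u * ((g * u * g⁻¹) * z * (g * u * g⁻¹)⁻¹) * u⁻¹ by group, h', ← inv_inj]
        rw [mul_inv_rev, mul_inv_rev, inv_inv, inv_inv, ← mul_assoc, h]
      exact (mul_inv_eq_iff_eq_mul.1 h3).symm
  have hc₀o : Odd (orderOf c₀) := Odd.of_dvd_nat hKodd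
    ((dvd_of_eq (Subgroup.orderOf_mk c₀ (map_subtype_le _ hc₀R)).symm).trans
      (orderOf_dvd_natCard (⟨c₀, map_subtype_le _ hc₀R⟩ : K)))
  have hRv : ∀ x ∈ R, Commute x v₀ := fun x hx => hlift c₀ v₀ x hc₀o hc₀1 hc₀v (hc₀c x hx)
  have h₁ : Commute r₀ v₀ := hRv _ (ha1 hr₀)
  have h₂ : Commute r₀ (g⁻¹ * v₀ * g) := by
    have h := hRv _ (hR₁R ⟨r₀, hr₀, rfl⟩)
    show r₀ * (g⁻¹ * v₀ * g) = g⁻¹ * v₀ * g * r₀
    have h' : g * r₀ * g⁻¹ * v₀ = v₀ * (g * r₀ * g⁻¹) := h
    calc r₀ * (g⁻¹ * v₀ * g) = g⁻¹ * (g * r₀ * g⁻¹ * v₀) * g := by group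
      _ = g⁻¹ * v₀ * g * r₀ := by rw [h']; group
  have hv' : g⁻¹ * v₀ * g ∈ P' := (mem_normalizer_iff''.1 hg v₀).1 hv₀
  have hne : v₀ ≠ g⁻¹ * v₀ * g := fun e => hfree v₀ hv₀ hv₀1 (by
    conv_lhs => rw [e]
    group)
  have hv'1 : g⁻¹ * v₀ * g ≠ 1 := fun e => hv₀1 (by
    rw [show v₀ = g * (g⁻¹ * v₀ * g) * g⁻¹ by group, e, mul_one, mul_inv_cancel])
  have hr₀C : r₀ ∈ P' := hC <| mem_centralizer_iff.2 fun x hx => by
    rcases four_elements hc4 hexp hv₀ hv' hv₀1 hv'1 hne hx with rfl | rfl | rfl | rfl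
    · simp
    · exact h₁.eq.symm
    · exact h₂.eq.symm
    · exact (h₁.mul_right h₂).eq.symm
  apply hr₀1
  have h4 : Nat.Coprime 4 (orderOf r₀) := by
    have := hcop _ (le_refl K)
    rw [hc4] at this
    exact this.coprime_dvd_right ((dvd_of_eq (Subgroup.orderOf_mk r₀ (hR₀H hr₀).2).symm).trans
      (orderOf_dvd_natCard (⟨r₀, (hR₀H hr₀).2⟩ : K)))
  rw [← orderOf_eq_one_iff]
  refine Nat.eq_one_of_dvd_coprimes h4 ?_ dvd_rfl
  rw [← hc4]
  exact (dvd_of_eq (Subgroup.orderOf_mk r₀ hr₀C).symm).trans (orderOf_dvd_natCard (⟨r₀, hr₀C⟩ : P'))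

end Small

section PSL

open Matrix

variable {F : Type*} [Field F] [Fintype F]

local notation "S2" => Matrix.SpecialLinearGroup (Fin 2) F

theorem center_sq {z : S2} (hz : z ∈ Subgroup.center S2) : z * z = 1 := by
  obtain ⟨r, hr, e⟩ := Matrix.SpecialLinearGroup.mem_center_iff.1 hz
  rw [Fintype.card_fin, pow_two] at hr
  refine Subtype.ext ?_
  rw [Matrix.SpecialLinearGroup.coe_mul, ← e, ← map_mul, hr, map_one]
  rfl

theorem card_center (hodd : Odd (Fintype.card F)) : Nat.card (Subgroup.center S2) = 2 := by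
  classical
  refine le_antisymm ?_ ?_
  · rw [Nat.card_eq_fintype_card]
    refine (Fintype.card_le_of_injective (β := rootsOfUnity 2 F)
      (Matrix.SpecialLinearGroup.center_equiv_rootsOfUnity (n := Fin 2) (R := F))
      (MulEquiv.injective _)).trans ?_
    exact Nat.card_eq_fintype_card (α := rootsOfUnity 2 F) ▸ card_rootsOfUnity F 2
  · have h : (-1 : S2) ∈ Subgroup.center S2 := Subgroup.mem_center_iff.2 fun x => by simp
    have hne : (⟨-1, h⟩ : Subgroup.center S2) ≠ 1 := fun e => GLTwoNorm.two_ne hodd (by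
      have h1 := congrArg (fun x : Subgroup.center S2 => ((x : S2) : Matrix (Fin 2) (Fin 2) F) 0 0) e
      simp at h1
      linear_combination -h1)
    haveI : Nontrivial (Subgroup.center S2) := ⟨⟨_, _, hne⟩⟩
    exact Finite.one_lt_card

theorem commute_lift {c v x : Matrix.ProjectiveSpecialLinearGroup (Fin 2) F}
    (hco : Odd (orderOf c)) (hc1 : c ≠ 1) (hcv : Commute c v) (hxc : Commute x c) :
    Commute x v := by
  set π := QuotientGroup.mk' (Subgroup.center S2)
  obtain ⟨c', hc'⟩ := QuotientGroup.mk'_surjective (Subgroup.center S2) c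
  obtain ⟨v', rfl⟩ := QuotientGroup.mk'_surjective (Subgroup.center S2) v
  obtain ⟨x', rfl⟩ := QuotientGroup.mk'_surjective (Subgroup.center S2) x
  set n := orderOf c
  set d := c' ^ (n + 1) with hd
  have hdc : π d = c := by rw [map_pow, hc', pow_succ, pow_orderOf_eq_one, one_mul]
  have hdn : d ^ n = 1 := by
    have h1 : c' ^ n ∈ Subgroup.center S2 := by
      rw [← QuotientGroup.eq_one_iff]
      show π (c' ^ n) = 1
      rw [map_pow, hc', pow_orderOf_eq_one]
    obtain ⟨k, hk⟩ := hco.add_one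
    rw [hd, ← pow_mul, mul_comm, pow_mul, hk, ← two_mul, pow_mul, pow_two, center_sq h1, one_pow]
  -- lifts commute with `d`
  have lift : ∀ y : S2, Commute (π y) c → Commute y d := by
    intro y hy
    set ε := d * y * d⁻¹ * y⁻¹ with hε
    have hεc : ε ∈ Subgroup.center S2 := by
      rw [← QuotientGroup.eq_one_iff]
      show π ε = 1
      rw [hε, map_mul, map_mul, map_mul, map_inv, map_inv, hdc, hy.eq.symm]
      group
    have hpow : ∀ k : ℕ, d ^ k * y * (d ^ k)⁻¹ = ε ^ k * y := by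
      intro k
      induction k with
      | zero => simp
      | succ k ih =>
        calc d ^ (k + 1) * y * (d ^ (k + 1))⁻¹ = d * (d ^ k * y * (d ^ k)⁻¹) * d⁻¹ := by group
          _ = d * (ε ^ k * y) * d⁻¹ := by rw [ih]
          _ = ε ^ k * (d * y * d⁻¹) := by
            rw [← mul_assoc d, Subgroup.mem_center_iff.1 (pow_mem hεc k) d]; simp [mul_assoc]
          _ = ε ^ k * (ε * y) := by rw [hε]; group
          _ = ε ^ (k + 1) * y := by rw [← mul_assoc, ← pow_succ]
    have h1 : ε ^ n = 1 := by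
      have := hpow n
      rw [hdn, one_mul, inv_one, mul_one] at this
      exact mul_eq_right.1 this.symm
    obtain ⟨k, hk⟩ := hco
    rw [hk, pow_succ, pow_mul, pow_two, center_sq hεc, one_pow, one_mul] at h1
    rw [hε, mul_inv_eq_one, mul_inv_eq_iff_eq_mul] at h1
    exact h1.symm
  have hd1 : d ∉ Subgroup.center S2 := fun h => hc1 (by
    rw [← hdc]
    exact (QuotientGroup.eq_one_iff d).2 h)
  have hsc : (d : Matrix (Fin 2) (Fin 2) F) 0 1 ≠ 0 ∨ (d : Matrix (Fin 2) (Fin 2) F) 1 0 ≠ 0 ∨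
      (d : Matrix (Fin 2) (Fin 2) F) 0 0 ≠ (d : Matrix (Fin 2) (Fin 2) F) 1 1 := by
    by_contra h
    push Not at h
    refine hd1 (Subgroup.mem_center_iff.2 fun w => Subtype.ext ?_)
    ext i j
    fin_cases i <;> fin_cases j <;>
      simp [Matrix.mul_apply, Fin.sum_univ_two, h.1, h.2.1, h.2.2, mul_comm]
  have hxv : Commute x' v' := Subtype.ext (GLTwoNorm.mul_comm_of_nonscalar hsc
    (congrArg Subtype.val (lift x' hxc).eq) (congrArg Subtype.val (lift v' hcv.symm).eq))
  exact hxv.map π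

/-- Overgroups of Sylow 2-subgroups of a simple `PSL_2(q)`, `q ≡ ±3 (mod 8)`, are pronormal. -/
theorem pronormalAbove (hodd : Odd (Fintype.card F))
    (h8 : Fintype.card F % 8 = 3 ∨ Fintype.card F % 8 = 5)
    [IsSimpleGroup (Matrix.ProjectiveSpecialLinearGroup (Fin 2) F)] :
    PronormalAbove 2 (Matrix.ProjectiveSpecialLinearGroup (Fin 2) F) := by
  classical
  haveI := Fact.mk Nat.prime_two
  rintro H ⟨P, hPH⟩
  set π := QuotientGroup.mk' (Subgroup.center S2) with hπ
  have hsurj : Function.Surjective π := QuotientGroup.mk'_surjective _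
  have hker : Nat.card π.ker = 2 := by rw [QuotientGroup.ker_mk', card_center hodd]
  have hcomap : ∀ L : Subgroup (Matrix.ProjectiveSpecialLinearGroup (Fin 2) F),
      Nat.card (L.comap π) = Nat.card L * 2 := by
    intro L
    have h1 := (L.comap π).card_mul_index
    rw [Subgroup.index_comap_of_surjective L hsurj] at h1
    have h2 := L.card_mul_index
    have h3 := Subgroup.card_eq_card_quotient_mul_card_subgroup (Subgroup.center S2)
    rw [card_center hodd] at h3
    have hi : L.index ≠ 0 := Subgroup.index_ne_zero_of_finite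
    refine Nat.eq_of_mul_eq_mul_right (Nat.pos_of_ne_zero hi) ?_
    rw [h1, h3, mul_right_comm, h2]
  have hS : IsPGroup 2 ((P : Subgroup (Matrix.ProjectiveSpecialLinearGroup (Fin 2) F)).comap π) := P.2.comap_of_ker_isPGroup π
    (IsPGroup.of_card (n := 1) (by rw [hker, pow_one]))
  let S : Sylow 2 S2 := hS.toSylow (by
    rw [Subgroup.index_comap_of_surjective _ hsurj]
    exact P.not_dvd_index)
  have hv : padicValNat 2 (Fintype.card F ^ 2 - 1) = 3 := by
    refine le_antisymm ?_ (GLTwoNorm.three_le_val hodd)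
    by_contra h
    have hq : 1 < Fintype.card F := Fintype.one_lt_card
    have h16 : 2 ^ 4 ∣ Fintype.card F ^ 2 - 1 :=
      (padicValNat_dvd_iff_le (Nat.sub_pos_of_lt (Nat.one_lt_pow two_ne_zero hq)).ne').2 (by omega)
    have hm : Fintype.card F % 16 = 3 ∨ Fintype.card F % 16 = 5 ∨ Fintype.card F % 16 = 11 ∨
        Fintype.card F % 16 = 13 := by omega
    have h9 : Fintype.card F ^ 2 % 16 = 9 := by
      rw [Nat.pow_mod]
      rcases hm with e | e | e | e <;> rw [e] <;> rfl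
    obtain ⟨k, hk⟩ := h16
    have : 1 ≤ Fintype.card F ^ 2 := Nat.one_le_pow _ _ (by omega)
    omega
  have hcS : Nat.card (S : Subgroup S2) = 8 := by
    have h1 : (Nat.card S2).factorization 2 + padicValNat 2 (Fintype.card F - 1) =
        (Nat.card (GL (Fin 2) F)).factorization 2 := BlockA.SylowSquares.val_card_sl 1
    rw [BlockA.SylowSquares.val_card_gl hodd, show 2 / 2 = 1 from rfl, show 2 - 1 = 1 from rfl,
      Nat.factorial_one, padicValNat_one_right, hv] at h1
    rw [S.card_eq_multiplicity, show (Nat.card S2).factorization 2 = 3 by omega]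
    norm_num
  have hc4 : Nat.card (P : Subgroup (Matrix.ProjectiveSpecialLinearGroup (Fin 2) F)) = 4 := by
    have : Nat.card ((P : Subgroup (Matrix.ProjectiveSpecialLinearGroup (Fin 2) F)).comap π) = 8 := hcS
    rw [hcomap] at this
    omega
  have hN : Nat.card (normalizer ((P : Subgroup (Matrix.ProjectiveSpecialLinearGroup (Fin 2) F)) :
      Set (Matrix.ProjectiveSpecialLinearGroup (Fin 2) F))) = 12 := by
    have h1 := hcomap (normalizer ((P : Subgroup (Matrix.ProjectiveSpecialLinearGroup (Fin 2) F)) :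
      Set (Matrix.ProjectiveSpecialLinearGroup (Fin 2) F)))
    rw [Subgroup.comap_normalizer_eq_of_surjective _ hsurj] at h1
    have h2 := (KnownB.SL2.sylow_two_facts hodd S).2.2 h8
    rw [hcS] at h2
    change Nat.card (normalizer (((P : Subgroup (Matrix.ProjectiveSpecialLinearGroup (Fin 2) F)).comap π : Subgroup S2) : Set S2)) = _ at h2
    omega
  have hcomm : ∀ x ∈ (P : Subgroup _), ∀ y ∈ (P : Subgroup (Matrix.ProjectiveSpecialLinearGroup
      (Fin 2) F)), x * y = y * x := fun x hx y hy => by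
    have := IsPGroup.commutative_of_card_eq_prime_sq
      (G := (P : Subgroup (Matrix.ProjectiveSpecialLinearGroup (Fin 2) F))) (p := 2)
      (by rw [hc4]; norm_num)
    exact congrArg Subtype.val (this ⟨x, hx⟩ ⟨y, hy⟩)
  set P' := (P : Subgroup (Matrix.ProjectiveSpecialLinearGroup (Fin 2) F)) with hP'
  have hC : centralizer (P' : Set (Matrix.ProjectiveSpecialLinearGroup (Fin 2) F)) ≤ P' := by
    have hPC : P' ≤ centralizer (P' : Set (Matrix.ProjectiveSpecialLinearGroup (Fin 2) F)) :=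
      fun x hx => mem_centralizer_iff.2 fun y hy => hcomm y hy x hx
    have hCN := centralizer_le_normalizer
      (P' : Set (Matrix.ProjectiveSpecialLinearGroup (Fin 2) F))
    intro x hx
    by_contra hxP
    obtain ⟨c, hc⟩ := Subgroup.card_dvd_of_le hPC
    have hd := Subgroup.card_dvd_of_le hCN
    rw [hc, hc4, hN] at hd
    have hne : P' ≠ centralizer (P' : Set (Matrix.ProjectiveSpecialLinearGroup (Fin 2) F)) :=
      fun e => hxP (e ▸ hx)
    have hlt : Nat.card P' < Nat.card (centralizer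
        (P' : Set (Matrix.ProjectiveSpecialLinearGroup (Fin 2) F))) := by
      rcases (Subgroup.card_le_of_le hPC).lt_or_eq with h | h
      · exact h
      · exact absurd (eq_of_le_of_card_ge hPC h.ge) hne
    rw [hc, hc4] at hlt
    have : c = 3 := by
      have : c ∣ 3 := Nat.dvd_of_mul_dvd_mul_left (by norm_num) (by simpa using hd : 4 * c ∣ 4 * 3)
      rcases (Nat.dvd_prime Nat.prime_three).1 this with rfl | rfl
      · omega
      · rfl
    subst this
    have heq := eq_of_le_of_card_ge hCN (by rw [hc, hc4, hN])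
    haveI : P'.FiniteIndex := ⟨Subgroup.index_ne_zero_of_finite⟩
    have hcompl := MonoidHom.ker_transferSylow_isComplement' P heq.ge
    have hprod := hcompl.card_mul
    rcases (MonoidHom.normal_ker (MonoidHom.transferSylow P heq.ge)).eq_bot_or_eq_top with e | e
    · rw [e, Subgroup.card_bot, one_mul] at hprod
      have h5 := Subgroup.card_le_card_group
        (normalizer (P' : Set (Matrix.ProjectiveSpecialLinearGroup (Fin 2) F)))
      rw [hN, ← hprod] at h5
      change 12 ≤ Nat.card P' at h5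
      omega
    · rw [e, Subgroup.card_top] at hprod
      have : Nat.card P' = 1 := by
        refine Nat.eq_of_mul_eq_mul_left (Nat.card_pos
          (α := Matrix.ProjectiveSpecialLinearGroup (Fin 2) F)) ?_
        rw [mul_one]
        exact hprod
      omega
  exact isPronormal_of_four P hc4 hN hC (fun c v x h1 h2 h3 h4 => commute_lift h1 h2 h3 h4) hPH

end PSL

end CfsgLib.ClassK.PSLTwoPronormal
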