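import Cfsg.Agent.Lib.ClassK.MonomialBlocks
import Cfsg.Agent.Lib.Fusion.AlternatingTwo

/-!
Sylow 2-subgroups of `SL_{2^w}(q)`, `q` odd, `w ≥ 2`, are self-normalizing.
-/

set_option autoImplicit false
set_option linter.unusedSectionVars false
set_option linter.unusedSimpArgs false

namespace CfsgLib.ClassK.SLSylowNorm

open Matrix CfsgLib.BlockA CfsgLib.BlockA.SqComm CfsgLib.BlockA.SylowSquares MonBlocks

universe u

variable {F : Type u} [Field F] [Fintype F]

local notation "G2" => GL (Fin 2) F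
local notation "sgl" => CfsgLib.BlockA.SqComm.single

theorem neg_one_center : (-1 : G2) ∈ Subgroup.center G2 :=
  Subgroup.mem_center_iff.2 fun w => by simp

theorem det_neg_one : GeneralLinearGroup.det (-1 : G2) = 1 := by
  refine Units.ext ?_
  rw [GeneralLinearGroup.val_det_apply, Units.val_neg, Units.val_one, Matrix.det_neg]
  simp

theorem central_sq_one {x : G2} (hx : x ∈ Subgroup.center G2) (h : x * x = 1) : x = 1 ∨ x = -1 := by
  have e := GLTwoNorm.center_entries hx
  have h1 := congrArg (fun w : G2 => (w : Matrix (Fin 2) (Fin 2) F) 0 0) h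
  rw [Units.val_mul, e] at h1
  simp at h1
  rcases mul_self_eq_one_iff.1 h1 with h2 | h2
  · exact Or.inl (Units.ext (by rw [e, h2, one_smul]; rfl))
  · exact Or.inr (Units.ext (by rw [e, h2, neg_one_smul]; rfl))

theorem neg_one_ne_one (h2 : (2 : F) ≠ 0) : (-1 : G2) ≠ 1 := fun h => h2 (by
  have h1 := congrArg (fun w : G2 => (w : Matrix (Fin 2) (Fin 2) F) 0 0) h
  simp at h1
  linear_combination -h1)

variable {m : ℕ}

local notation "W" => Wr m (GL (Fin 2) F)
local notation "Blk" => Matrix (Fin 2 × Fin m) (Fin 2 × Fin m) F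

theorem neg_entry (k : Fin m) (r c : Fin 2 × Fin m) :
    ((monHom (sgl k (-1 : G2) : W) : GL (Fin 2 × Fin m) F) : Blk) r c =
      Matrix.diagonal (fun r : Fin 2 × Fin m => if r.2 = k then (-1 : F) else 1) r c := by
  rw [monHom_entry, single_right, single_left, Matrix.diagonal_apply, Equiv.Perm.coe_one, id]
  obtain ⟨i, a⟩ := r
  obtain ⟨j, b⟩ := c
  rcases eq_or_ne a b with rfl | hab
  · rcases eq_or_ne a k with rfl | hak
    · rcases eq_or_ne i j with rfl | hij
      · simp [Pi.mulSingle_eq_same]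
      · simp [Pi.mulSingle_eq_same, hij]
    · rcases eq_or_ne i j with rfl | hij
      · simp [Pi.mulSingle_eq_of_ne hak, hak]
      · simp [Pi.mulSingle_eq_of_ne hak, hak, hij]
  · simp [hab]

theorem rank_neg_le (k : Fin m) :
    (((monHom (sgl k (-1 : G2) : W) : GL (Fin 2 × Fin m) F) : Blk) - 1).rank ≤ 2 := by
  classical
  have e : (((monHom (sgl k (-1 : G2) : W) : GL (Fin 2 × Fin m) F) : Blk) - 1) =
      Matrix.diagonal (fun r : Fin 2 × Fin m => (if r.2 = k then (-1 : F) else 1) - 1) := by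
    ext r c
    rw [Matrix.sub_apply, neg_entry, Matrix.one_apply, Matrix.diagonal_apply, Matrix.diagonal_apply]
    split_ifs <;> simp
  rw [e, Matrix.rank_diagonal]
  refine le_trans (Fintype.card_le_of_injective (β := Fin 2) (fun i => i.1.1) ?_) (by simp)
  rintro ⟨⟨i, a⟩, ha⟩ ⟨⟨j, b⟩, hb⟩ (rfl : i = j)
  have key : ∀ a : Fin m, (if a = k then (-1 : F) else 1) - 1 ≠ 0 → a = k := fun a h => by
    by_contra hne
    simp [hne] at h
  obtain rfl := key a ha
  obtain rfl := key b hb
  rfl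

/-- Conjugating a central single. -/
theorem conj_single_center (x : W) (k : Fin m) {z : G2} (hz : z ∈ Subgroup.center G2) :
    x * sgl k z * x⁻¹ = sgl (x.right k) z := by
  rw [conj_single_eq, Subgroup.mem_center_iff.1 hz, mul_inv_cancel_right]

/-- A monomial 2-subgroup of the determinant-one group is its own normalizer inside any group whose
blocks have small normalizer. -/
theorem mem_of_normalizes_of (h2 : (2 : F) ≠ 0) (D : Subgroup G2) (hDp : IsPGroup 2 D)
    (hneg1 : (-1 : G2) ∈ D) {h : G2}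
    (hh : h ∈ D)
    (himg : ∀ e ∈ D,
      GeneralLinearGroup.det e ∈ Subgroup.zpowers (GeneralLinearGroup.det h))
    {a b : G2} (ha : a ∈ D ⊓ GeneralLinearGroup.det.ker)
    (hb : b ∈ D ⊓ GeneralLinearGroup.det.ker) (hab : ¬ Commute a b)
    (R : Sylow 2 (Equiv.Perm (Fin m)))
    (htr : ∀ i k : Fin m, ∃ σ ∈ (R : Subgroup (Equiv.Perm (Fin m))), σ i = k)
    {j : ℕ} (hm : m = 2 ^ j) (hj : 1 ≤ j) {g : GL (Fin 2 × Fin m) F}
    (hdetg : GeneralLinearGroup.det g = 1)
    (hg : g ∈ Subgroup.normalizer ((((sub (R : Subgroup (Equiv.Perm (Fin m))) D) ⊓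
      (detW (F := F) (m := m)).ker).map monHom : Subgroup (GL (Fin 2 × Fin m) F)) :
        Set (GL (Fin 2 × Fin m) F)))
    (hblock : ∀ x : W, monHom x = g → ∀ i, x.left i ∈ Subgroup.normalizer (D : Set G2) →
      ∃ e ∈ D, ∃ v : G2, v ∈ Subgroup.center G2 ∧ Odd (orderOf v) ∧ x.left i = e * v) :
    g ∈ ((sub (R : Subgroup (Equiv.Perm (Fin m))) D) ⊓
      (detW (F := F) (m := m)).ker).map monHom := by
  classical
  haveI := Fact.mk Nat.prime_two
  have hnl : Nontrivial (Fin m) :=
    Fin.nontrivial_iff_two_le.2 (by rw [hm]; exact Nat.le_self_pow (by omega) 2)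
  set Dg := D with hDg
  set Q := Dg ⊓ GeneralLinearGroup.det.ker with hQ
  set S := sub (R : Subgroup (Equiv.Perm (Fin m))) Dg ⊓ (detW (F := F) (m := m)).ker with hS
  have hE : ∀ e ∈ Dg, ∀ q ∈ Q, e * q * e⁻¹ ∈ Q := fun e he q hq =>
    Subgroup.mem_inf.2 ⟨mul_mem (mul_mem he hq.1) (inv_mem he), by
      show GeneralLinearGroup.det (e * q * e⁻¹) = 1
      rw [map_mul, map_mul, map_inv, MonoidHom.mem_ker.1 hq.2, mul_one, mul_inv_cancel]⟩
  have hneg : (-1 : G2) ∈ Q := by
    exact ⟨hneg1, det_neg_one⟩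
  have hsS : ∀ (d : Fin m), ∀ q ∈ Q, (sgl d q : W) ∈ S := fun d q hq => by
    refine ⟨⟨(R : Subgroup (Equiv.Perm (Fin m))).one_mem, fun i => ?_⟩, ?_⟩
    · rw [single_left, Pi.mulSingle_apply]
      split_ifs
      · exact hq.1
      · exact one_mem _
    · show detW (SemidirectProduct.inl (Pi.mulSingle d q)) = 1
      rw [detW_inl, Fintype.prod_eq_single d fun i hi => by
        rw [Pi.mulSingle_eq_of_ne hi, map_one], Pi.mulSingle_eq_same]
      exact hq.2
  have hrS : ∀ σ ∈ (R : Subgroup (Equiv.Perm (Fin m))), (SemidirectProduct.inr σ : W) ∈ S :=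
    fun σ hσ => ⟨⟨hσ, fun _ => Dg.one_mem⟩, detW_inr σ⟩
  have hconj : ∀ {k : GL (Fin 2 × Fin m) F}, k ∈ Subgroup.normalizer
      ((S.map monHom : Subgroup (GL (Fin 2 × Fin m) F)) : Set (GL (Fin 2 × Fin m) F)) →
      ∀ x ∈ S, ∃ y ∈ S, monHom y = k * monHom x * k⁻¹ := fun hk x hx =>
    (Subgroup.mem_normalizer_iff.1 hk _).1 (Subgroup.mem_map_of_mem _ hx)
  choose Y hYS hY using fun k : Fin m => hconj hg _ (hsS k _ hneg)
  have hclosed : ∀ x ∈ S, ∀ y ∈ Finset.univ.image Y, x * y * x⁻¹ ∈ Finset.univ.image Y := by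
    intro x hx y hy
    obtain ⟨k, -, rfl⟩ := Finset.mem_image.1 hy
    obtain ⟨x', hx', ex⟩ := hconj (inv_mem hg) x hx
    rw [inv_inv] at ex
    refine Finset.mem_image.2 ⟨x'.right k, Finset.mem_univ _, monHom_injective ?_⟩
    rw [hY, ← conj_single_center x' k neg_one_center, map_mul, map_mul, map_inv, map_mul, map_mul,
      map_inv, hY, ex]
    group
  have hrank : ∀ y ∈ Finset.univ.image Y,
      (((monHom y : GL (Fin 2 × Fin m) F) : Blk) - 1).rank ≤ 2 := by
    intro y hy
    obtain ⟨k, -, rfl⟩ := Finset.mem_image.1 hy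
    set z := (monHom (sgl k (-1 : G2) : W) : GL (Fin 2 × Fin m) F)
    have e : ((g * z * g⁻¹ : GL (Fin 2 × Fin m) F) : Blk) - 1 =
        (g : Blk) * ((z : Blk) - 1) * ((g⁻¹ : GL (Fin 2 × Fin m) F) : Blk) := by
      rw [Units.val_mul, Units.val_mul, Matrix.mul_sub, Matrix.mul_one, Matrix.sub_mul,
        Units.mul_inv]
    rw [hY, e]
    exact (Matrix.rank_mul_le_left _ _).trans ((Matrix.rank_mul_le_right _ _).trans (rank_neg_le k))
  have hsupp : ∀ k, supp Q (Y k) = ∅ := fun k =>
    supp_eq_empty hE inf_le_left ha hb hab ((R : Subgroup (Equiv.Perm (Fin m))) : Set _) htr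
      (Finset.univ.image Y) (Finset.card_image_le.trans (by simp)) hrank
      (fun σ hσ y hy => hclosed _ (hrS σ hσ) y hy)
      (fun d q hq y hy => hclosed _ (hsS d q hq) y hy)
      (Finset.mem_image_of_mem _ (Finset.mem_univ k))
  -- the image of each central involution
  have hY1 : ∀ k, ∃ l, Y k = sgl l (-1 : G2) := by
    intro k
    have hdata : ∀ c, (Y k).right c = c ∧ (Y k).left c ∈ Subgroup.center G2 := fun c =>
      of_notMem_supp (by rw [hsupp k]; exact Finset.notMem_empty c) ha hb hab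
    have hr1 : (Y k).right = 1 := Equiv.ext fun c => (hdata c).1
    have hsq : Y k * Y k = 1 := by
      refine monHom_injective ?_
      have hz : (sgl k (-1 : G2) : W) * sgl k (-1 : G2) = 1 := by
        rw [← map_mul, neg_mul_neg, one_mul, map_one]
      rw [map_mul, hY, map_one, show ∀ z : GL (Fin 2 × Fin m) F,
        g * z * g⁻¹ * (g * z * g⁻¹) = g * (z * z) * g⁻¹ from fun z => by group, ← map_mul, hz,
        map_one]
      group
    have hpm : ∀ c, (Y k).left c = 1 ∨ (Y k).left c = -1 := fun c => by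
      refine central_sq_one (hdata c).2 ?_
      have := congrArg (fun w : W => w.left c) hsq
      simpa [MonBlocks.mul_left_apply, hr1, Equiv.Perm.one_symm] using this
    have hne : Y k ≠ 1 := by
      intro h1
      have h3 := hY k
      rw [h1, map_one] at h3
      have h4 : monHom (sgl k (-1 : G2) : W) = 1 := by
        calc monHom (sgl k (-1 : G2) : W)
            = g⁻¹ * (g * monHom (sgl k (-1 : G2) : W) * g⁻¹) * g := by group
          _ = 1 := by rw [← h3]; group
      have h5 : (sgl k (-1 : G2) : W).left k = (1 : W).left k := by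
        rw [monHom_injective (h4.trans (map_one _).symm)]
      rw [single_left, Pi.mulSingle_eq_same] at h5
      exact neg_one_ne_one h2 h5
    obtain ⟨l, hl⟩ : ∃ l, (Y k).left l = -1 := by
      by_contra h'
      push Not at h'
      exact hne (SemidirectProduct.ext (funext fun c => (hpm c).resolve_right (h' c)) hr1)
    refine ⟨l, SemidirectProduct.ext (funext fun c => ?_) hr1⟩
    rw [single_left]
    rcases eq_or_ne c l with rfl | hcl
    · rw [Pi.mulSingle_eq_same, hl]
    · rw [Pi.mulSingle_eq_of_ne hcl]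
      refine (hpm c).resolve_right fun hc => hcl ?_
      exact neg_one_unique _ hr1 h2 (hrank _ (Finset.mem_image_of_mem _ (Finset.mem_univ k))) hc hl
  choose π hπ using hY1
  have hπinj : Function.Injective π := by
    intro k l hkl
    have h3 : monHom (sgl k (-1 : G2) : W) = monHom (sgl l (-1 : G2) : W) := by
      have h4 := hY k
      rw [hπ, hkl, ← hπ l, hY l] at h4
      exact (mul_left_cancel (mul_right_cancel h4)).symm
    have h5 := congrArg (fun w : W => w.left k) (monHom_injective h3)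
    simp only [single_left, Pi.mulSingle_eq_same] at h5
    by_contra hkl'
    rw [Pi.mulSingle_eq_of_ne hkl'] at h5
    exact neg_one_ne_one h2 h5
  let πe : Equiv.Perm (Fin m) := Equiv.ofBijective π (Finite.injective_iff_bijective.1 hπinj)
  have hmono : ∀ r c : Fin 2 × Fin m, r.2 ≠ π c.2 → (g : Blk) r c = 0 := by
    intro r c hrc
    have e : g * monHom (sgl c.2 (-1 : G2) : W) = monHom (sgl (π c.2) (-1 : G2) : W) * g := by
      rw [← hπ, hY, inv_mul_cancel_right]
    have h3 := congrArg (fun w : GL (Fin 2 × Fin m) F => (w : Blk) r c) e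
    have hdiag : ∀ k, ((monHom (sgl k (-1 : G2) : W) : GL (Fin 2 × Fin m) F) : Blk) =
        Matrix.diagonal fun r : Fin 2 × Fin m => if r.2 = k then (-1 : F) else 1 := fun k => by
      ext r c; exact neg_entry k r c
    rw [Units.val_mul, Units.val_mul, hdiag, hdiag, Matrix.mul_diagonal, Matrix.diagonal_mul,
      if_pos rfl, if_neg hrc] at h3
    have h4 : (g : Blk) r c * 2 = 0 := by linear_combination -h3
    simpa [h2] using h4
  -- `g` is monomial
  let M : Fin m → Matrix (Fin 2) (Fin 2) F := fun r => Matrix.of fun i k => (g : Blk) (i, r) (k, πe.symm r)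
  have hgeq : (g : Blk) = Matrix.blockDiagonal M * pmat πe := by
    ext r c
    rw [mul_pmat_apply, Matrix.blockDiagonal_apply]
    show (g : Blk) r c = if r.2 = πe c.2 then M r.2 r.1 c.1 else 0
    split_ifs with hrc
    · obtain ⟨i, a'⟩ := r
      obtain ⟨k, b'⟩ := c
      obtain rfl : a' = πe b' := hrc
      show (g : Blk) (i, πe b') (k, b') = (g : Blk) (i, πe b') (k, πe.symm (πe b'))
      rw [Equiv.symm_apply_apply]
    · exact hmono r c hrc
  have hMdet : ∀ r, (M r).det ≠ 0 := fun r h0 => by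
    have h3 := (GeneralLinearGroup.det g).ne_zero
    rw [GeneralLinearGroup.val_det_apply, hgeq, Matrix.det_mul, Matrix.det_blockDiagonal] at h3
    exact h3 (by rw [Finset.prod_eq_zero (Finset.mem_univ r) h0, zero_mul])
  let x : W := ⟨fun r => GeneralLinearGroup.mkOfDetNeZero (M r) (hMdet r), πe⟩
  have hx : monHom x = g := Units.ext (by
    rw [monHom_apply, Units.val_mul, coe_diagHom, coe_permHom, hgeq]; rfl)
  have hxnorm : ∀ y ∈ S, x * y * x⁻¹ ∈ S := fun y hy => by
    obtain ⟨y', hy', ey⟩ := hconj hg y hy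
    rwa [show x * y * x⁻¹ = y' from monHom_injective (by rw [ey, map_mul, map_mul, map_inv, hx])]
  refine ⟨x, ?_, hx⟩
  have hπR : x.right ∈ (R : Subgroup (Equiv.Perm (Fin m))) := by
    refine Fusion.AltModel.normalizer_sylow_perm_two m R ?_
    rw [Subgroup.mem_normalizer_iff_map_conj_eq]
    refine Subgroup.eq_of_le_of_card_ge ?_
      (Subgroup.card_map_of_injective (MulAut.conj _).injective).ge
    rintro _ ⟨σ, hσ, rfl⟩
    exact (hxnorm _ (hrS σ hσ)).1.1
  set x' := x * (SemidirectProduct.inr x.right : W)⁻¹ with hx'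
  have hd1 : x'.right = 1 := by simp [hx']
  have hx'norm : ∀ y ∈ S, x' * y * x'⁻¹ ∈ S := fun y hy => by
    have h3 := hxnorm _ (mul_mem (mul_mem (inv_mem (hrS _ hπR)) hy) (hrS _ hπR))
    convert h3 using 1
    rw [hx']
    group
  have hx'det : detW x' = 1 := by
    rw [hx', map_mul, map_inv, detW_inr, inv_one, mul_one, detW, MonoidHom.comp_apply, hx, hdetg]
  suffices hd : ∀ i, x'.left i ∈ Dg by
    have h3 : x' ∈ S := ⟨⟨hd1 ▸ one_mem _, hd⟩, hx'det⟩
    have h4 := mul_mem h3 (hrS _ hπR)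
    rwa [hx', inv_mul_cancel_right] at h4
  set d := x'.left with hd
  have hxinl : x' = SemidirectProduct.inl d := SemidirectProduct.ext rfl hd1
  have hcs : ∀ (i : Fin m) (q : G2) (y : W), y ∈ S → y.left i = q → y.right = 1 →
      d i * q * (d i)⁻¹ ∈ Dg := by
    intro i q y hy hyq hy1
    have h3 := (hx'norm y hy).1.2 i
    rw [hxinl] at h3
    simpa [MonBlocks.mul_left_apply, hyq, hy1, Equiv.Perm.one_symm] using h3
  have hnorm : ∀ i, d i ∈ Subgroup.normalizer (Dg : Set G2) := by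
    intro i
    obtain ⟨k, hk⟩ := exists_ne i
    have hhy : (sgl i h : W) * sgl k h⁻¹ ∈ S := by
      have hmem : ∀ (c : Fin m), ∀ e ∈ Dg, (sgl c e : W) ∈ sub (R : Subgroup (Equiv.Perm (Fin m))) Dg :=
        fun c e he => ⟨(R : Subgroup (Equiv.Perm (Fin m))).one_mem, fun l => by
          rw [single_left, Pi.mulSingle_apply]
          split_ifs
          · exact he
          · exact one_mem _⟩
      refine ⟨mul_mem (hmem i h hh) (hmem k _ (inv_mem hh)), ?_⟩
      have hds : ∀ (c : Fin m) (e : G2), detW (sgl c e : W) = GeneralLinearGroup.det e := fun c e => by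
        show detW (SemidirectProduct.inl (Pi.mulSingle c e)) = _
        rw [detW_inl, Fintype.prod_eq_single c fun l hl => by
          rw [Pi.mulSingle_eq_of_ne hl, map_one], Pi.mulSingle_eq_same]
      show detW ((sgl i h : W) * sgl k h⁻¹) = 1
      rw [map_mul, hds, hds, map_inv, mul_inv_cancel]
    have hh' : d i * h * (d i)⁻¹ ∈ Dg := hcs i h _ hhy (by
      simp [MonBlocks.mul_left_apply, single_left, single_right, Pi.mulSingle_eq_same,
        Pi.mulSingle_eq_of_ne hk.symm, Equiv.Perm.one_symm]) (by simp [single_right])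
    rw [Subgroup.mem_normalizer_iff_map_conj_eq]
    refine Subgroup.eq_of_le_of_card_ge ?_
      (Subgroup.card_map_of_injective (MulAut.conj _).injective).ge
    rintro _ ⟨e, he, rfl⟩
    obtain ⟨l, hl⟩ := Subgroup.mem_zpowers_iff.1 (himg e he)
    have hq : e * (h ^ l)⁻¹ ∈ Q := Subgroup.mem_inf.2 ⟨mul_mem he (inv_mem (zpow_mem hh l)), by
      show GeneralLinearGroup.det (e * (h ^ l)⁻¹) = 1
      rw [map_mul, map_inv, map_zpow, hl, mul_inv_cancel]⟩
    show MulAut.conj (d i) e ∈ Dg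
    rw [show e = e * (h ^ l)⁻¹ * h ^ l by group, map_mul, map_zpow]
    refine mul_mem ?_ (zpow_mem hh' l)
    exact hcs i _ _ (hsS i _ hq) (by rw [single_left, Pi.mulSingle_eq_same]) rfl
  have hdx : ∀ i, d i = x.left i := fun i => by
    simp [hd, hx', MonBlocks.mul_left_apply]
  choose e he v hvc hvo hev using fun i => show ∃ e ∈ Dg, ∃ v : G2, v ∈ Subgroup.center G2 ∧
      Odd (orderOf v) ∧ d i = e * v from hdx i ▸ hblock x hx i (hdx i ▸ hnorm i)
  obtain ⟨N, hN⟩ := hDp.exists_card_eq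
  have hD2 : ∀ y ∈ Dg, y ^ 2 ^ N = 1 := fun y hy => by
    have h3 : (⟨y, hy⟩ : Dg) ^ Nat.card Dg = 1 := pow_card_eq_one'
    rw [hN] at h3
    simpa using congrArg Subtype.val h3
  have hodd1 : ∀ {y : G2}, Odd (orderOf y) → ∀ {k : ℕ}, y ^ 2 ^ k = 1 → y = 1 := by
    intro y hy k hk
    rw [← orderOf_eq_one_iff]
    exact Nat.eq_one_of_dvd_coprimes ((Nat.coprime_two_left.2 hy).pow_left k)
      (orderOf_dvd_of_pow_eq_one hk) dvd_rfl
  obtain ⟨i₀⟩ : Nonempty (Fin m) := inferInstance
  have hveq : ∀ k, v k = v i₀ := by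
    intro k
    obtain ⟨σ, hσ, hσk⟩ := htr i₀ k
    have h3 := (hx'norm _ (hrS σ hσ)).1.2 k
    rw [hxinl] at h3
    have h4 : d k * (d i₀)⁻¹ ∈ Dg := by
      have : σ.symm k = i₀ := by rw [← hσk, Equiv.symm_apply_apply]
      simpa [MonBlocks.mul_left_apply, this] using h3
    rw [hev k, hev i₀] at h4
    have h5 : v k * (v i₀)⁻¹ ∈ Dg := by
      have h6 := mul_mem (mul_mem (inv_mem (he k)) h4) (he i₀)
      rw [_root_.mul_inv_rev] at h6
      convert h6 using 1
      rw [show (e k)⁻¹ * (e k * v k * ((v i₀)⁻¹ * (e i₀)⁻¹)) * e i₀ =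
        v k * ((v i₀)⁻¹ * (e i₀)⁻¹ * e i₀) by group]
      group
    refine mul_inv_eq_one.1 (hodd1 ?_ (hD2 _ h5))
    have hc : Commute (v k) (v i₀)⁻¹ :=
      (Subgroup.mem_center_iff.1 (inv_mem (hvc i₀)) (v k))
    exact Odd.of_dvd_nat ((hvo k).mul (orderOf_inv (v i₀) ▸ hvo i₀))
      (hc.orderOf_mul_dvd_mul_orderOf)
  have hv1 : v i₀ = 1 := by
    refine hodd1 (hvo i₀) (k := j + N + 1) ?_
    have h3 : GeneralLinearGroup.det (v i₀) ^ (2 ^ j * 2 ^ N) = 1 := by
      rw [hxinl, detW_inl] at hx'det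
      have h4 := congrArg (· ^ 2 ^ N) hx'det
      simp only [one_pow, hev, map_mul, Finset.prod_mul_distrib, mul_pow, ← Finset.prod_pow] at h4
      rw [Finset.prod_eq_one fun i _ => by rw [← map_pow, hD2 _ (he i), map_one], one_mul,
        Finset.prod_congr rfl fun i _ => by rw [hveq i], Finset.prod_const, Finset.card_univ,
        Fintype.card_fin, hm, ← pow_mul, mul_comm] at h4
      exact h4
    have e0 := GLTwoNorm.center_entries (hvc i₀)
    set c := ((v i₀ : G2) : Matrix (Fin 2) (Fin 2) F) 0 0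
    have hdetv : ((GeneralLinearGroup.det (v i₀) : Fˣ) : F) = c ^ 2 := by
      rw [GeneralLinearGroup.val_det_apply, e0, Matrix.det_smul, Matrix.det_one, mul_one,
        Fintype.card_fin]
    have h5 : c ^ (2 * (2 ^ j * 2 ^ N)) = 1 := by
      rw [pow_mul, ← hdetv, ← Units.val_pow_eq_pow_val, h3, Units.val_one]
    refine Units.ext ?_
    rw [Units.val_pow_eq_pow_val, e0, smul_pow, one_pow,
      show 2 ^ (j + N + 1) = 2 * (2 ^ j * 2 ^ N) by rw [pow_succ, pow_add]; ring, h5, one_smul]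
    rfl
  intro i
  rw [hev i, hveq i, hv1, mul_one]
  exact he i

/-- The monomial Sylow subgroup of the determinant-one group is self-normalizing. -/
theorem mem_of_normalizes (hodd : Odd (Fintype.card F)) (D : Sylow 2 G2) {h : G2}
    (hh : h ∈ (D : Subgroup G2))
    (himg : ∀ e ∈ (D : Subgroup G2),
      GeneralLinearGroup.det e ∈ Subgroup.zpowers (GeneralLinearGroup.det h))
    {a b : G2} (ha : a ∈ (D : Subgroup G2) ⊓ GeneralLinearGroup.det.ker)
    (hb : b ∈ (D : Subgroup G2) ⊓ GeneralLinearGroup.det.ker) (hab : ¬ Commute a b)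
    (R : Sylow 2 (Equiv.Perm (Fin m)))
    (htr : ∀ i k : Fin m, ∃ σ ∈ (R : Subgroup (Equiv.Perm (Fin m))), σ i = k)
    {j : ℕ} (hm : m = 2 ^ j) (hj : 1 ≤ j) {g : GL (Fin 2 × Fin m) F}
    (hdetg : GeneralLinearGroup.det g = 1)
    (hg : g ∈ Subgroup.normalizer ((((sub (R : Subgroup (Equiv.Perm (Fin m))) (D : Subgroup G2)) ⊓
      (detW (F := F) (m := m)).ker).map monHom : Subgroup (GL (Fin 2 × Fin m) F)) :
        Set (GL (Fin 2 × Fin m) F))) :
    g ∈ ((sub (R : Subgroup (Equiv.Perm (Fin m))) (D : Subgroup G2)) ⊓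
      (detW (F := F) (m := m)).ker).map monHom :=
  mem_of_normalizes_of (GLTwoNorm.two_ne hodd) (D : Subgroup G2) D.2
    (GLTwoNorm.mem_sylow_of_normalizer D (k := 1) (by
      rw [Subgroup.mem_normalizer_iff]
      intro y
      rw [← Subgroup.mem_center_iff.1 neg_one_center y, mul_inv_cancel_right]) (by simp))
    hh himg ha hb hab R htr hm hj hdetg hg
    fun _ _ i hi => GLTwoNorm.normalizer_sylow hodd D ha.1 hb.1 hab hi

/-- A transitive Sylow 2-subgroup of `Sym (2 ^ j)`. -/
theorem exists_transitive_sylow (j : ℕ) : ∃ R : Sylow 2 (Equiv.Perm (Fin (2 ^ j))),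
    ∀ i k : Fin (2 ^ j), ∃ σ ∈ (R : Subgroup (Equiv.Perm (Fin (2 ^ j)))), σ i = k := by
  obtain ⟨R, i₀, hR⟩ := exists_sylow_swaps j
  have key : ∀ i, ∃ σ ∈ (R : Subgroup (Equiv.Perm (Fin (2 ^ j)))), σ i = i₀ := fun i => by
    rcases eq_or_ne i i₀ with rfl | h
    · exact ⟨1, one_mem _, rfl⟩
    · obtain ⟨σ, hσ, h1, -⟩ := hR i h
      exact ⟨σ, hσ, h1⟩
  refine ⟨R, fun i k => ?_⟩
  obtain ⟨σ, hσ, h1⟩ := key i
  obtain ⟨τ, hτ, h2⟩ := key k
  exact ⟨τ⁻¹ * σ, mul_mem (inv_mem hτ) hσ, by rw [Equiv.Perm.mul_apply, h1, ← h2]; simp⟩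

/-- Sylow 2-subgroups of `SL_{2m}(q)` are self-normalizing, `q` odd, `m = 2 ^ j ≥ 2`. -/
theorem normalizer_sylow_two_mul (hodd : Odd (Fintype.card F)) {j : ℕ} (hj : 1 ≤ j)
    (hm : m = 2 ^ j) (P : Sylow 2 (Matrix.SpecialLinearGroup (Fin (2 * m)) F)) :
    Subgroup.normalizer ((P : Subgroup (Matrix.SpecialLinearGroup (Fin (2 * m)) F)) : Set _) =
      (P : Subgroup (Matrix.SpecialLinearGroup (Fin (2 * m)) F)) := by
  classical
  haveI := Fact.mk Nat.prime_two
  obtain ⟨D₀, h, z, hhD, hdet, hz, -, himg, hDc, -, hQc⟩ := exists_local (F := F) hodd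
  obtain ⟨a, ha, b, hb, hab⟩ := GLTwoNorm.exists_not_commute hodd hQc
  let D : Sylow 2 G2 := Sylow.ofCard D₀ (by rw [hDc, val_card_gl hodd]; simp)
  obtain ⟨R, htr⟩ : ∃ R : Sylow 2 (Equiv.Perm (Fin m)),
      ∀ i k : Fin m, ∃ σ ∈ (R : Subgroup (Equiv.Perm (Fin m))), σ i = k :=
    hm ▸ exists_transitive_sylow j
  have hm0 : 0 < m := hm ▸ pow_pos two_pos j
  set U := sub (R : Subgroup (Equiv.Perm (Fin m))) D₀ with hU
  set S := U ⊓ (detW (F := F) (m := m)).ker with hS
  have hScard : Nat.card S * 2 ^ padicValNat 2 (Fintype.card F - 1) = Nat.card U := by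
    let f := (detW (F := F) (m := m)).comp U.subtype
    let i₀ : Fin m := ⟨0, hm0⟩
    have hf : f.range = Subgroup.zpowers (GeneralLinearGroup.det h) := by
      refine le_antisymm ?_ (Subgroup.zpowers_le.2 ⟨⟨sgl i₀ h, ?_⟩, ?_⟩)
      · rintro _ ⟨x, rfl⟩
        show detW (x : W) ∈ _
        rw [← SemidirectProduct.inl_left_mul_inr_right (x : W), map_mul, detW_inl, detW_inr,
          mul_one]
        exact Subgroup.prod_mem _ fun i _ => himg _ (x.2.2 i)
      · refine ⟨(R : Subgroup (Equiv.Perm (Fin m))).one_mem, fun i => ?_⟩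
        show (Pi.mulSingle i₀ h : Fin m → G2) i ∈ D₀
        rw [Pi.mulSingle_apply]
        split_ifs
        · exact hhD
        · exact one_mem _
      · show detW (SemidirectProduct.inl (Pi.mulSingle i₀ h)) = _
        rw [detW_inl, Fintype.prod_eq_single i₀ fun i hi => by
          rw [Pi.mulSingle_eq_of_ne hi, map_one], Pi.mulSingle_eq_same]
    have h1 := f.ker.index_mul_card
    rw [Subgroup.index_ker, hf, Nat.card_zpowers, hdet, hz, mul_comm] at h1
    rw [← h1]
    congr 1
    exact Nat.card_congr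
      { toFun := fun x => ⟨⟨(x : W), x.2.1⟩, x.2.2⟩
        invFun := fun x => ⟨(x.1 : W), x.1.2, x.2⟩
        left_inv := fun x => rfl
        right_inv := fun x => rfl }
  let E : GL (Fin 2 × Fin m) F →* GL (Fin (2 * m)) F :=
    Units.map (Matrix.reindexAlgEquiv F F finProdFinEquiv).toMonoidHom
  have hEinj : Function.Injective E := fun a b hab =>
    Units.ext ((Matrix.reindexAlgEquiv F F finProdFinEquiv).injective (congrArg Units.val hab))
  have hEsurj : Function.Surjective E := fun y => by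
    obtain ⟨x, rfl⟩ := (Units.mapEquiv
      (Matrix.reindexAlgEquiv F F (finProdFinEquiv (m := 2) (n := m))).toMulEquiv).surjective y
    exact ⟨x, rfl⟩
  have hEdet : ∀ y, GeneralLinearGroup.det (E y) = GeneralLinearGroup.det y := fun y => Units.ext (by
    show (Matrix.reindexAlgEquiv F F finProdFinEquiv _).det = _
    rw [Matrix.det_reindexAlgEquiv]; rfl)
  have hinj := Matrix.SpecialLinearGroup.toGL_injective (n := Fin (2 * m)) (R := F)
  have hrange : (S.map monHom).map E ≤ (Matrix.SpecialLinearGroup.toGL :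
      Matrix.SpecialLinearGroup (Fin (2 * m)) F →* GL (Fin (2 * m)) F).range := by
    rintro _ ⟨_, ⟨x, hx, rfl⟩, rfl⟩
    refine ⟨⟨(E (monHom x) : Matrix (Fin (2 * m)) (Fin (2 * m)) F), ?_⟩, Units.ext rfl⟩
    rw [← GeneralLinearGroup.val_det_apply, hEdet]
    exact congrArg Units.val hx.2
  let P₀ : Sylow 2 (Matrix.SpecialLinearGroup (Fin (2 * m)) F) :=
    Sylow.ofCard (((S.map monHom).map E).comap Matrix.SpecialLinearGroup.toGL) (by
      rw [card_comap hinj hrange,
        Subgroup.card_map_of_injective hEinj, Subgroup.card_map_of_injective monHom_injective]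
      refine Nat.eq_of_mul_eq_mul_right (pow_pos two_pos (padicValNat 2 (Fintype.card F - 1))) ?_
      rw [hScard, hU, card_sub, hDc, card_sylow_perm, ← pow_mul, ← pow_add, ← pow_add]
      obtain ⟨k, hk⟩ : ∃ k, 2 * m = k + 1 := ⟨2 * m - 1, by omega⟩
      have h1 := val_card_sl (F := F) k
      rw [← hk, val_card_gl hodd, show 2 * m / 2 = m by omega,
        show 2 * m - m = m by omega] at h1
      rw [h1]
      ring_nf)
  have key : Subgroup.normalizer ((P₀ : Subgroup (Matrix.SpecialLinearGroup (Fin (2 * m)) F)) : Set _)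
      ≤ (P₀ : Subgroup (Matrix.SpecialLinearGroup (Fin (2 * m)) F)) := by
    intro x hx
    obtain ⟨g, hg⟩ := hEsurj (Matrix.SpecialLinearGroup.toGL x)
    have hdg : GeneralLinearGroup.det g = 1 := by
      rw [← hEdet, hg]
      exact Units.ext x.2
    have hgn : g ∈ Subgroup.normalizer ((S.map monHom : Subgroup (GL (Fin 2 × Fin m) F)) : Set _) := by
      rw [Subgroup.mem_normalizer_iff_map_conj_eq]
      refine Subgroup.eq_of_le_of_card_ge ?_
        (Subgroup.card_map_of_injective (MulAut.conj _).injective).ge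
      rintro _ ⟨y, hy, rfl⟩
      obtain ⟨y', hy'⟩ := hrange ⟨y, hy, rfl⟩
      have h1 : x * y' * x⁻¹ ∈ ((S.map monHom).map E).comap Matrix.SpecialLinearGroup.toGL :=
        (Subgroup.mem_normalizer_iff.1 hx y').1
          (show y' ∈ ((S.map monHom).map E).comap Matrix.SpecialLinearGroup.toGL from by
            rw [Subgroup.mem_comap, hy']; exact ⟨y, hy, rfl⟩)
      rw [Subgroup.mem_comap, map_mul, map_mul, map_inv, hy', ← hg, ← map_inv, ← map_mul,
        ← map_mul, Subgroup.mem_map_iff_mem hEinj] at h1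
      exact h1
    show Matrix.SpecialLinearGroup.toGL x ∈ (S.map monHom).map E
    rw [← hg]
    exact Subgroup.mem_map_of_mem E (mem_of_normalizes hodd D hhD himg ha hb hab R htr hm hj hdg hgn)
  obtain ⟨g, rfl⟩ := MulAction.exists_smul_eq (Matrix.SpecialLinearGroup (Fin (2 * m)) F) P₀ P
  show Subgroup.normalizer (((P₀ : Subgroup (Matrix.SpecialLinearGroup (Fin (2 * m)) F)).map
    (MulAut.conj g).toMonoidHom : Subgroup (Matrix.SpecialLinearGroup (Fin (2 * m)) F)) :
      Set (Matrix.SpecialLinearGroup (Fin (2 * m)) F)) = _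
  rw [← Subgroup.map_equiv_normalizer_eq _ (MulAut.conj g)]
  exact congrArg (Subgroup.map (MulAut.conj g).toMonoidHom) (le_antisymm key Subgroup.le_normalizer)

/-- Sylow 2-subgroups of `SL_{2^w}(q)` are self-normalizing for `q` odd, `w ≥ 2`. -/
theorem normalizer_sylow_eq (hodd : Odd (Fintype.card F)) {w : ℕ} (hw : 2 ≤ w) {n : ℕ}
    (hn : n = 2 ^ w) (P : Sylow 2 (Matrix.SpecialLinearGroup (Fin n) F)) :
    Subgroup.normalizer ((P : Subgroup (Matrix.SpecialLinearGroup (Fin n) F)) : Set _) =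
      (P : Subgroup (Matrix.SpecialLinearGroup (Fin n) F)) := by
  obtain ⟨j, rfl⟩ : ∃ j, w = j + 1 := ⟨w - 1, by omega⟩
  obtain rfl : n = 2 * 2 ^ j := by rw [hn, pow_succ']
  exact normalizer_sylow_two_mul hodd (by omega) rfl P

end CfsgLib.ClassK.SLSylowNorm
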