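import Cfsg.Agent.Lib.ClassK.BorelOvergroup
import Cfsg.Agent.Lib.ClassK.SylowSLNormalizer
import Cfsg.Agent.Lib.ClassK.PronormalPSLTwo

/-!
Subgroups of odd index in `PSL_{2^w}(q)` are pronormal.
-/

set_option autoImplicit false
set_option linter.unusedSectionVars false

namespace CfsgLib.ClassK.PronormalSL

open Subgroup CfsgLib.Invol

variable {G : Type*} [Group G] [Finite G] {p : ℕ} [Fact p.Prime]

/-- Sylow subgroups are pronormal. -/
theorem isPronormal_sylow (P : Sylow p G) : Cfsg.IsPronormal (P : Subgroup G) := by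
  intro g
  obtain ⟨x, hx⟩ := MulAction.exists_smul_eq ((P : Subgroup G) ⊔ cjSub g (P : Subgroup G) : Subgroup G)
    (P.subtype (show (P : Subgroup G) ≤ (P : Subgroup G) ⊔ cjSub g (P : Subgroup G) from le_sup_left))
    ((g • P).subtype (show ((g • P : Sylow p G) : Subgroup G) ≤
      (P : Subgroup G) ⊔ cjSub g (P : Subgroup G) from le_sup_right))
  rw [Sylow.smul_subtype] at hx
  refine ⟨x, x.2, ?_⟩
  have h1 : (x : G) • P = g • P := Sylow.subtype_injective hx
  exact (congrArg (fun Q : Sylow p G => (Q : Subgroup G)) h1).symm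

/-- Overgroups are pronormal once they are normalised by the normalizer of one Sylow subgroup. -/
theorem pronormalAbove_of_normalizer (P₀ : Sylow p G)
    (h : ∀ H : Subgroup G, (P₀ : Subgroup G) ≤ H →
      normalizer ((P₀ : Subgroup G) : Set G) ≤ normalizer (H : Set G)) :
    PronormalAbove p G := by
  rintro H ⟨R, hR⟩
  obtain ⟨t, ht⟩ := MulAction.exists_smul_eq G R P₀
  have h1 : (P₀ : Subgroup G) ≤ cjSub t H := by
    rw [← ht]
    exact cjSub_mono hR
  have hkey : Cfsg.IsPronormal (cjSub t H) :=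
    (Cfsg.Agent.S3820.result (P₀ : Subgroup G) (cjSub t H) h1 (isPronormal_sylow P₀)).2
      fun g hg => ⟨1, one_mem _, (cjSub_eq_self_iff.2 (h _ h1 hg)).trans (cjSub_one _).symm⟩
  have h2 := isPronormal_cjSub hkey t⁻¹
  rwa [← cjSub_mul, inv_mul_cancel, cjSub_one] at h2

/-- Pronormality of overgroups passes to quotients. -/
theorem pronormalAbove_quotient (N : Subgroup G) [N.Normal] (h : PronormalAbove p G) :
    PronormalAbove p (G ⧸ N) := by
  rintro H ⟨R, hR⟩
  have hs := QuotientGroup.mk'_surjective N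
  obtain ⟨P⟩ : Nonempty (Sylow p G) := inferInstance
  obtain ⟨t, ht⟩ := MulAction.exists_smul_eq (G ⧸ N) R (P.mapSurjective hs)
  obtain ⟨t, rfl⟩ := hs t
  have h1 : (t⁻¹ • P : Sylow p G) ≤ H.comap (QuotientGroup.mk' N) := by
    intro x hx
    refine hR ?_
    have e : R = (QuotientGroup.mk' N t)⁻¹ • P.mapSurjective hs := by rw [← ht, inv_smul_smul]
    rw [e]
    obtain ⟨y, hy, rfl⟩ := hx
    refine ⟨QuotientGroup.mk' N y, mem_map_of_mem _ hy, ?_⟩
    simp
  have h2 := isPronormal_map hs (h _ ⟨t⁻¹ • P, h1⟩)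
  rwa [map_comap_eq_self_of_surjective hs] at h2

/-- Subgroups of index prime to `p` contain a Sylow `p`-subgroup. -/
theorem exists_sylow_le {H : Subgroup G} (h : ¬ p ∣ H.index) :
    ∃ P : Sylow p G, (P : Subgroup G) ≤ H := by
  obtain ⟨Q⟩ : Nonempty (Sylow p H) := inferInstance
  refine ⟨(Q.2.map H.subtype).toSylow ?_, map_subtype_le _⟩
  rw [Subgroup.index_map_subtype]
  exact (Fact.out : p.Prime).not_dvd_mul Q.not_dvd_index h

section SL

variable {F : Type*} [Field F] [Fintype F]

theorem pronormalAbove_sl_even (hq : Even (Fintype.card F)) {n : ℕ} (hn : 0 < n) :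
    PronormalAbove 2 (Matrix.SpecialLinearGroup (Fin n) F) := by
  classical
  haveI := Fact.mk Nat.prime_two
  haveI : CharP F 2 := ringChar.of_eq (FiniteField.even_card_iff_char_two.2 (Nat.even_iff.1 hq))
  let P : Sylow 2 (Matrix.SpecialLinearGroup (Fin n) F) :=
    (Fusion.SLUni.isPGroup_U (K := F) (p := 2) hn).toSylow
      (Fusion.not_dvd_index_of_pElements (Fusion.SLUni.isPGroup_U hn)
        fun g hg k hk => Fusion.SLUni.pElement_mem hg k hk)
  exact pronormalAbove_of_normalizer P fun H hH => BorelOver.normalizer_uni_le 2 hn hH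

theorem pronormalAbove_of_selfNormalizing {G : Type*} [Group G] [Finite G]
    (h : ∀ P : Sylow 2 G, normalizer ((P : Subgroup G) : Set G) = P) : PronormalAbove 2 G :=
  haveI := Fact.mk Nat.prime_two
  fun _ hH => (selfNormalizing_overgroups h hH).2

theorem pronormalAbove_psl {w : ℕ} (hw : 1 ≤ w) {n : ℕ} (hn : n = 2 ^ w)
    (hs : IsSimpleGroup (Matrix.ProjectiveSpecialLinearGroup (Fin n) F)) :
    PronormalAbove 2 (Matrix.ProjectiveSpecialLinearGroup (Fin n) F) := by
  classical
  haveI := Fact.mk Nat.prime_two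
  rcases Nat.even_or_odd (Fintype.card F) with hq | hq
  · exact pronormalAbove_quotient _ (pronormalAbove_sl_even hq (hn ▸ pow_pos two_pos w))
  rcases hw.lt_or_eq with h2 | rfl
  · exact pronormalAbove_quotient _ (pronormalAbove_of_selfNormalizing
      fun P => SLSylowNorm.normalizer_sylow_eq hq h2 hn P)
  obtain rfl : n = 2 := hn
  by_cases h8 : Fintype.card F % 8 = 3 ∨ Fintype.card F % 8 = 5
  · exact PSLTwoPronormal.pronormalAbove hq h8
  · refine pronormalAbove_quotient _ (pronormalAbove_of_selfNormalizing fun P =>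
      (KnownB.SL2.sylow_two_facts hq P).2.1 ?_)
    rw [Nat.odd_iff] at hq
    omega

end SL

end CfsgLib.ClassK.PronormalSL
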