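import Cfsg.Agent.Lib.ClassK.SylowSLNormalizer
import Cfsg.Agent.Lib.ClassK.GUTwoSylowNorm
import Cfsg.Agent.Lib.Classical.SUCenter

/-!
Sylow 2-subgroups of `SU_{2^w}(q)`, `q` odd, `w ≥ 2`, are self-normalizing.
-/

set_option autoImplicit false
set_option linter.unusedSectionVars false
set_option linter.unusedSimpArgs false
set_option linter.style.haveILetI false

namespace CfsgLib.ClassK.SUSylowNorm

open Matrix CfsgLib.BlockA CfsgLib.BlockA.SqComm CfsgLib.BlockA.SylowSquares CfsgLib.Classical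
  SLSylowNorm MonBlocks

universe u

variable {F : Type u} [Field F] [Fintype F] {q : ℕ}

local notation "G2" => GL (Fin 2) F
local notation "sgl" => CfsgLib.BlockA.SqComm.single

section Arith

theorem val_pow_sub_one (hq1 : 1 < q) (hq : Odd q) {i : ℕ} (hi : i ≠ 0) :
    padicValNat 2 (q ^ (2 * i) - 1) = padicValNat 2 (q ^ 2 - 1) + padicValNat 2 i := by
  haveI := Fact.mk Nat.prime_two
  have h1 := padicValNat.pow_two_sub_one hq1 hq.not_two_dvd_nat (n := 2 * i) (by omega)
    (even_two_mul i)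
  have h2 := padicValNat.pow_two_sub_one hq1 hq.not_two_dvd_nat (n := 2) two_ne_zero even_two
  rw [padicValNat.mul two_ne_zero hi] at h1
  omega

theorem val_odd_sub_one (hq1 : 1 < q) (hq : Odd q) (j : ℕ) :
    padicValNat 2 (q ^ (2 * j + 1) - 1) = padicValNat 2 (q - 1) := by
  rw [← geom_sum_mul_of_one_le (by omega : 1 ≤ q) (2 * j + 1)]
  have ho : Odd (∑ i ∈ Finset.range (2 * j + 1), q ^ i) := by
    rw [Finset.odd_sum_iff_odd_card_odd, Finset.filter_true_of_mem fun i _ => hq.pow,
      Finset.card_range]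
    exact odd_two_mul_add_one j
  haveI := Fact.mk Nat.prime_two
  rw [padicValNat.mul ho.pos.ne' (by omega), padicValNat.eq_zero_of_not_dvd ho.not_two_dvd_nat,
    zero_add]

theorem val_odd_add_one (hq1 : 1 < q) (hq : Odd q) (j : ℕ) :
    padicValNat 2 (q ^ (2 * j + 1) + 1) = padicValNat 2 (q + 1) := by
  haveI := Fact.mk Nat.prime_two
  have h := val_pow_sub_one hq1 hq (i := 2 * j + 1) (by omega)
  rw [padicValNat.eq_zero_of_not_dvd (show ¬ 2 ∣ 2 * j + 1 by omega), add_zero] at h
  have hpos : 0 < q ^ (2 * j + 1) - 1 := Nat.sub_pos_of_lt (Nat.one_lt_pow (by omega) hq1)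
  rw [show q ^ (2 * (2 * j + 1)) - 1 = (q ^ (2 * j + 1) + 1) * (q ^ (2 * j + 1) - 1) by
      rw [← Nat.sq_sub_sq, ← pow_mul, mul_comm, one_pow],
    padicValNat.mul (by omega) hpos.ne', val_odd_sub_one hq1 hq,
    show q ^ 2 - 1 = (q + 1) * (q - 1) by rw [← Nat.sq_sub_sq, one_pow],
    padicValNat.mul (by omega) (by omega)] at h
  omega

theorem val_card_gu (hF : Fintype.card F = q ^ 2) (hq : Odd q) (m : ℕ) :
    (Nat.card (Cfsg.GU (2 * m) F q)).factorization 2 =
      m * padicValNat 2 (q + 1) + (m * padicValNat 2 (q ^ 2 - 1) + padicValNat 2 m.factorial) := by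
  haveI := Fact.mk Nat.prime_two
  have hq1 : 1 < q := GUTwoNorm.one_lt hF
  have hne : ∀ i, (if Even i then q ^ (i + 1) + 1 else q ^ (i + 1) - 1) ≠ 0 := fun i => by
    have := Nat.one_lt_pow (n := i + 1) (by omega) hq1
    split <;> omega
  rw [card_gu hF, Nat.factorization_def _ Nat.prime_two,
    padicValNat.mul (pow_ne_zero _ (by omega)) (Finset.prod_ne_zero_iff.2 fun i _ => hne i),
    padicValNat.eq_zero_of_not_dvd
      (fun h => hq.not_two_dvd_nat (Nat.prime_two.dvd_of_dvd_pow h)), zero_add]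
  induction m with
  | zero => simp
  | succ m ih =>
    rw [show 2 * (m + 1) = 2 * m + 1 + 1 by ring, Finset.prod_range_succ, Finset.prod_range_succ,
      padicValNat.mul (mul_ne_zero (Finset.prod_ne_zero_iff.2 fun i _ => hne i) (hne _)) (hne _),
      padicValNat.mul (Finset.prod_ne_zero_iff.2 fun i _ => hne i) (hne _), ih,
      if_pos (even_two_mul m), if_neg (Nat.not_even_iff_odd.2 (odd_two_mul_add_one m)),
      val_odd_add_one hq1 hq, show 2 * m + 1 + 1 = 2 * (m + 1) by ring,
      val_pow_sub_one hq1 hq (Nat.succ_ne_zero m), Nat.factorial_succ,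
      padicValNat.mul (Nat.succ_ne_zero m) m.factorial_ne_zero]
    ring

theorem val_card_su (hF : Fintype.card F = q ^ 2) {n : ℕ} (hn : 1 ≤ n) :
    (Nat.card (Cfsg.SU n F q)).factorization 2 + padicValNat 2 (q + 1) =
      (Nat.card (Cfsg.GU n F q)).factorization 2 := by
  rw [← card_su_mul hF hn, Nat.factorization_mul (by omega) Nat.card_pos.ne', Finsupp.add_apply,
    Nat.factorization_def (q + 1) Nat.prime_two, add_comm]

end Arith

variable {m : ℕ}

local notation "W" => Wr m (GL (Fin 2) F)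
local notation "Blk" => Matrix (Fin 2 × Fin m) (Fin 2 × Fin m) F

theorem pmat_transpose (σ : Equiv.Perm (Fin m)) : (pmat σ : Blk)ᵀ = pmat σ⁻¹ := by
  ext r c
  simp only [transpose_apply, pmat, Matrix.of_apply]
  refine if_congr ?_ rfl rfl
  simp only [Prod.ext_iff, Equiv.Perm.inv_def]
  constructor
  · rintro ⟨h1, h2⟩
    exact ⟨h1.symm, by rw [h2, Equiv.symm_apply_apply]⟩
  · rintro ⟨h1, h2⟩
    exact ⟨h1.symm, by rw [h2, Equiv.apply_symm_apply]⟩

/-- A monomial element is unitary exactly when its blocks are. -/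
theorem unitary_iff (hF : Fintype.card F = q ^ 2) (x : W) :
    ((monHom x : GL (Fin 2 × Fin m) F) : Blk)ᵀ *
        ((monHom x : GL (Fin 2 × Fin m) F) : Blk).map (qFrob hF) = 1 ↔
      ∀ i, x.left i ∈ Cfsg.GU 2 F q := by
  set d : Blk := Matrix.blockDiagonal fun i => ((x.left i : G2) : Matrix (Fin 2) (Fin 2) F) with hd
  have hx : ((monHom x : GL (Fin 2 × Fin m) F) : Blk) = d * pmat x.right := by
    rw [monHom_apply, Units.val_mul, coe_diagHom, coe_permHom]
  have hp : ((pmat x.right : Blk)).map (qFrob hF) = pmat x.right := by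
    ext r c
    simp only [map_apply, pmat, Matrix.of_apply]
    split_ifs <;> simp
  have hdd : dᵀ * d.map (qFrob hF) = Matrix.blockDiagonal fun i =>
      ((x.left i : G2) : Matrix (Fin 2) (Fin 2) F)ᵀ *
        ((x.left i : G2) : Matrix (Fin 2) (Fin 2) F).map (qFrob hF) := by
    rw [hd, blockDiagonal_transpose, blockDiagonal_map _ _ (map_zero _), ← blockDiagonal_mul]
  rw [hx, transpose_mul, Matrix.map_mul, hp, pmat_transpose,
    show (pmat x.right⁻¹ : Blk) * dᵀ * (d.map (qFrob hF) * pmat x.right) =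
      pmat x.right⁻¹ * (dᵀ * d.map (qFrob hF)) * pmat x.right by simp only [mul_assoc]]
  constructor
  · intro h i
    have h1 := congrArg (fun M => (pmat x.right : Blk) * M * pmat x.right⁻¹) h
    simp only [← mul_assoc, pmat_mul, mul_inv_cancel, pmat_one, one_mul] at h1
    simp only [mul_assoc, pmat_mul, mul_inv_cancel, pmat_one, mul_one] at h1
    rw [hdd, ← blockDiagonal_one] at h1
    exact (mem_gu_iff hF _).2 (congrFun (blockDiagonal_injective h1) i)
  · intro h
    rw [hdd, show (fun i => ((x.left i : G2) : Matrix (Fin 2) (Fin 2) F)ᵀ *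
      ((x.left i : G2) : Matrix (Fin 2) (Fin 2) F).map (qFrob hF)) = 1 from
      funext fun i => (mem_gu_iff hF _).1 (h i), blockDiagonal_one, mul_one, pmat_mul,
      inv_mul_cancel, pmat_one]

/-- Sylow 2-subgroups of `SU_{2m}(q)` are self-normalizing, `q` odd, `m = 2 ^ j ≥ 2`. -/
theorem normalizer_sylow_two_mul (hF : Fintype.card F = q ^ 2) (hq : Odd q) {j : ℕ} (hj : 1 ≤ j)
    (hm : m = 2 ^ j) (P : Sylow 2 (Cfsg.SU (2 * m) F q)) :
    Subgroup.normalizer ((P : Subgroup (Cfsg.SU (2 * m) F q)) : Set _) =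
      (P : Subgroup (Cfsg.SU (2 * m) F q)) := by
  classical
  haveI := Fact.mk Nat.prime_two
  obtain ⟨D₀, h, hD₀, hDp, hneg, hhD, hdet, himg, hDc, ⟨a, ha, b, hb, hab⟩, hnorm⟩ :=
    GUTwoNorm.exists_local hF hq
  obtain ⟨R, htr⟩ : ∃ R : Sylow 2 (Equiv.Perm (Fin m)),
      ∀ i k : Fin m, ∃ σ ∈ (R : Subgroup (Equiv.Perm (Fin m))), σ i = k :=
    hm ▸ exists_transitive_sylow j
  have hm0 : 0 < m := hm ▸ pow_pos two_pos j
  set U := sub (R : Subgroup (Equiv.Perm (Fin m))) D₀ with hU
  set S := U ⊓ (detW (F := F) (m := m)).ker with hS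
  have hScard : Nat.card S * 2 ^ (q + 1).factorization 2 = Nat.card U := by
    let f := (detW (F := F) (m := m)).comp U.subtype
    let i₀ : Fin m := ⟨0, hm0⟩
    have hf : f.range = Subgroup.zpowers (GeneralLinearGroup.det h) := by
      refine le_antisymm ?_ (Subgroup.zpowers_le.2 ⟨⟨sgl i₀ h, ?_⟩, ?_⟩)
      · rintro _ ⟨x, rfl⟩
        show detW (x : W) ∈ _
        rw [← SemidirectProduct.inl_left_mul_inr_right (x : W), map_mul, detW_inl, detW_inr,
          mul_one]
        exact Subgroup.prod_mem _ fun i _ => himg _ (x.2.2 i)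
      · refine ⟨(R : Subgroup (Equiv.Perm (Fin m))).one_mem, fun i => ?_⟩
        show (Pi.mulSingle i₀ h : Fin m → G2) i ∈ D₀
        rw [Pi.mulSingle_apply]
        split_ifs
        · exact hhD
        · exact one_mem _
      · show detW (SemidirectProduct.inl (Pi.mulSingle i₀ h)) = _
        rw [detW_inl, Fintype.prod_eq_single i₀ fun i hi => by
          rw [Pi.mulSingle_eq_of_ne hi, map_one], Pi.mulSingle_eq_same]
    have h1 := f.ker.index_mul_card
    rw [Subgroup.index_ker, hf, Nat.card_zpowers, hdet, mul_comm] at h1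
    rw [← h1]
    congr 1
    exact Nat.card_congr
      { toFun := fun x => ⟨⟨(x : W), x.2.1⟩, x.2.2⟩
        invFun := fun x => ⟨(x.1 : W), x.1.2, x.2⟩
        left_inv := fun x => rfl
        right_inv := fun x => rfl }
  let e := finProdFinEquiv (m := 2) (n := m)
  let E : GL (Fin 2 × Fin m) F →* GL (Fin (2 * m)) F :=
    Units.map (Matrix.reindexAlgEquiv F F e).toMonoidHom
  have hEinj : Function.Injective E := fun a b hab =>
    Units.ext ((Matrix.reindexAlgEquiv F F e).injective (congrArg Units.val hab))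
  have hEsurj : Function.Surjective E := fun y => by
    obtain ⟨x, rfl⟩ := (Units.mapEquiv
      (Matrix.reindexAlgEquiv F F e).toMulEquiv).surjective y
    exact ⟨x, rfl⟩
  have hEdet : ∀ y, GeneralLinearGroup.det (E y) = GeneralLinearGroup.det y := fun y => Units.ext (by
    show (Matrix.reindexAlgEquiv F F e _).det = _
    rw [Matrix.det_reindexAlgEquiv]; rfl)
  have hEuni : ∀ y : GL (Fin 2 × Fin m) F, E y ∈ Cfsg.GU (2 * m) F q ↔
      (y : Blk)ᵀ * (y : Blk).map (qFrob hF) = 1 := fun y => by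
    rw [mem_gu_iff hF]
    show (Matrix.reindexAlgEquiv F F e (y : Blk))ᵀ *
      (Matrix.reindexAlgEquiv F F e (y : Blk)).map (qFrob hF) = 1 ↔ _
    rw [show (Matrix.reindexAlgEquiv F F e (y : Blk))ᵀ = Matrix.reindexAlgEquiv F F e (y : Blk)ᵀ from
        rfl,
      show (Matrix.reindexAlgEquiv F F e (y : Blk)).map (qFrob hF) =
        Matrix.reindexAlgEquiv F F e ((y : Blk).map (qFrob hF)) from rfl, ← map_mul,
      EmbeddingLike.map_eq_one_iff]
  let ι : Cfsg.SU (2 * m) F q →* GL (Fin (2 * m)) F :=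
    Matrix.SpecialLinearGroup.toGL.comp (Cfsg.SU (2 * m) F q).subtype
  have hinj : Function.Injective ι :=
    Matrix.SpecialLinearGroup.toGL_injective.comp Subtype.val_injective
  have hιmem : ∀ x, ι x ∈ Cfsg.GU (2 * m) F q := fun x =>
    (mem_gu_iff hF _).2 ((mem_su_iff hF x.1).1 x.2)
  have hrange : (S.map monHom).map E ≤ ι.range := by
    rintro _ ⟨_, ⟨x, hx, rfl⟩, rfl⟩
    have hd : ((E (monHom x) : GL (Fin (2 * m)) F) : Matrix (Fin (2 * m)) (Fin (2 * m)) F).det = 1 := by
      rw [← GeneralLinearGroup.val_det_apply, hEdet]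
      exact congrArg Units.val hx.2
    refine ⟨⟨⟨_, hd⟩, (mem_su_iff hF _).2 ((mem_gu_iff hF (E (monHom x))).1 ((hEuni _).2
      ((unitary_iff hF x).2 fun i => hD₀ (hx.1.2 i))))⟩, Units.ext rfl⟩
  let P₀ : Sylow 2 (Cfsg.SU (2 * m) F q) :=
    Sylow.ofCard (((S.map monHom).map E).comap ι) (by
      rw [card_comap hinj hrange,
        Subgroup.card_map_of_injective hEinj, Subgroup.card_map_of_injective monHom_injective]
      refine Nat.eq_of_mul_eq_mul_right (pow_pos two_pos ((q + 1).factorization 2)) ?_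
      rw [hScard, hU, card_sub, hDc, card_sylow_perm, ← pow_mul, ← pow_add, ← pow_add]
      have h1 := val_card_su hF (n := 2 * m) (by omega)
      rw [val_card_gu hF hq] at h1
      have hq1 : 1 < q := GUTwoNorm.one_lt hF
      rw [show q ^ 2 - 1 = (q + 1) * (q - 1) by rw [← Nat.sq_sub_sq, one_pow],
        padicValNat.mul (by omega) (by omega)] at h1
      simp only [Nat.factorization_def _ Nat.prime_two] at h1 ⊢
      rw [h1]
      ring_nf)
  have key : Subgroup.normalizer ((P₀ : Subgroup (Cfsg.SU (2 * m) F q)) : Set _)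
      ≤ (P₀ : Subgroup (Cfsg.SU (2 * m) F q)) := by
    intro x hx
    obtain ⟨g, hg⟩ := hEsurj (ι x)
    have hdg : GeneralLinearGroup.det g = 1 := by
      rw [← hEdet, hg]
      exact Units.ext x.1.2
    have hgu : (g : Blk)ᵀ * (g : Blk).map (qFrob hF) = 1 := (hEuni g).1 (hg ▸ hιmem x)
    have hgn : g ∈ Subgroup.normalizer ((S.map monHom : Subgroup (GL (Fin 2 × Fin m) F)) : Set _) := by
      rw [Subgroup.mem_normalizer_iff_map_conj_eq]
      refine Subgroup.eq_of_le_of_card_ge ?_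
        (Subgroup.card_map_of_injective (MulAut.conj _).injective).ge
      rintro _ ⟨y, hy, rfl⟩
      obtain ⟨y', hy'⟩ := hrange ⟨y, hy, rfl⟩
      have h1 : x * y' * x⁻¹ ∈ ((S.map monHom).map E).comap ι :=
        (Subgroup.mem_normalizer_iff.1 hx y').1
          (show y' ∈ ((S.map monHom).map E).comap ι from by
            rw [Subgroup.mem_comap, hy']; exact ⟨y, hy, rfl⟩)
      rw [Subgroup.mem_comap, map_mul, map_mul, map_inv, hy', ← hg, ← map_inv, ← map_mul,
        ← map_mul, Subgroup.mem_map_iff_mem hEinj] at h1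
      exact h1
    show ι x ∈ (S.map monHom).map E
    rw [← hg]
    refine Subgroup.mem_map_of_mem E (mem_of_normalizes_of (GLTwoNorm.two_ne (GUTwoNorm.card_odd hF hq))
      D₀ hDp hneg hhD himg ha hb hab R htr hm hj hdg hgn fun y hy i hi => hnorm _ ?_ hi)
    exact (unitary_iff hF y).1 (hy ▸ hgu) i
  obtain ⟨g, rfl⟩ := MulAction.exists_smul_eq (Cfsg.SU (2 * m) F q) P₀ P
  show Subgroup.normalizer (((P₀ : Subgroup (Cfsg.SU (2 * m) F q)).map
    (MulAut.conj g).toMonoidHom : Subgroup (Cfsg.SU (2 * m) F q)) :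
      Set (Cfsg.SU (2 * m) F q)) = _
  rw [← Subgroup.map_equiv_normalizer_eq _ (MulAut.conj g)]
  exact congrArg (Subgroup.map (MulAut.conj g).toMonoidHom) (le_antisymm key Subgroup.le_normalizer)

/-- Sylow 2-subgroups of `SU_{2^w}(q)` are self-normalizing for `q` odd, `w ≥ 2`. -/
theorem normalizer_sylow_eq (hF : Fintype.card F = q ^ 2) (hq : Odd q) {w : ℕ} (hw : 2 ≤ w)
    {n : ℕ} (hn : n = 2 ^ w) (P : Sylow 2 (Cfsg.SU n F q)) :
    Subgroup.normalizer ((P : Subgroup (Cfsg.SU n F q)) : Set _) =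
      (P : Subgroup (Cfsg.SU n F q)) := by
  obtain ⟨j, rfl⟩ : ∃ j, w = j + 1 := ⟨w - 1, by omega⟩
  obtain rfl : n = 2 * 2 ^ j := by rw [hn, pow_succ']
  exact normalizer_sylow_two_mul hF hq (by omega) rfl P

end CfsgLib.ClassK.SUSylowNorm
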