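import Cfsg.Agent.Lib.ClassK.FormBruhat
import Cfsg.Agent.Lib.ClassK.SylowSUNormalizer
import Cfsg.Agent.Lib.ClassK.PronormalSL
import Cfsg.Agent.Lib.Fusion.PSpPSUChar

/-!
Subgroups of odd index in `PSU_{2^w}(q)`, `w ≥ 2`, are pronormal.
-/

set_option autoImplicit false
set_option linter.unusedSectionVars false
set_option linter.unusedSimpArgs false

namespace CfsgLib.ClassK.PronormalSU

open Matrix CfsgLib.Invol CfsgLib.Fusion.FormGroup

/-- Pronormality of overgroups passes along surjections. -/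
theorem pronormalAbove_of_surjective {G G' : Type*} [Group G] [Finite G] [Group G'] [Finite G']
    {p : ℕ} [Fact p.Prime] {f : G →* G'} (hs : Function.Surjective f) (h : PronormalAbove p G) :
    PronormalAbove p G' := by
  rintro H ⟨R, hR⟩
  obtain ⟨P⟩ : Nonempty (Sylow p G) := inferInstance
  obtain ⟨t, ht⟩ := MulAction.exists_smul_eq G' R (P.mapSurjective hs)
  obtain ⟨t, rfl⟩ := hs t
  have h1 : (t⁻¹ • P : Sylow p G) ≤ H.comap f := by
    intro x hx
    refine hR ?_
    have e : R = (f t)⁻¹ • P.mapSurjective hs := by rw [← ht, inv_smul_smul]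
    rw [e]
    obtain ⟨y, hy, rfl⟩ := hx
    refine ⟨f y, Subgroup.mem_map_of_mem _ hy, ?_⟩
    simp
  have h2 := isPronormal_map hs (h _ ⟨t⁻¹ • P, h1⟩)
  rwa [Subgroup.map_comap_eq_self_of_surjective hs] at h2

variable {K : Type*} [Field K] [Fintype K] {n q : ℕ}

/-- `SU_n(q)` is the isometry group of the antidiagonal hermitian form. -/
theorem exists_equiv (hK : Fintype.card K = q ^ 2) (hn : 3 ≤ n) :
    ∃ D : Dat K n, D.Good ∧ Nonempty (Cfsg.SU n K q ≃* D.group) := by
  obtain ⟨σ, hσq, hσ⟩ := CfsgLib.Classical.SemiUnitary.exists_qFrobEquiv hK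
  have hD := suGood hσ (hn)
  set D := suDat σ n with hDd
  have hJJ : D.J * D.J = 1 := by
    rw [hD.J_mul_J]
    exact one_smul K _
  obtain ⟨h, hh⟩ := CfsgLib.KnownC.exists_congr_one σ hσ ⟨D.J, D.J, hJJ, hJJ⟩ (suJ_map σ n)
  set P : Matrix (Fin n) (Fin n) K := (h : Matrix (Fin n) (Fin n) K)ᵀ with hP
  set Q : Matrix (Fin n) (Fin n) K := ((h⁻¹ : GL (Fin n) K) : Matrix (Fin n) (Fin n) K)ᵀ with hQ
  have hPQ : P * Q = 1 := by rw [hP, hQ, ← transpose_mul, Units.inv_mul, transpose_one]
  have hQP : Q * P = 1 := by rw [hP, hQ, ← transpose_mul, Units.mul_inv, transpose_one]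
  have hJ : D.J = Pᵀ * P.map σ := by
    rw [hP, transpose_transpose]
    exact hh.trans (by rw [Matrix.transpose_map])
  have hQ' : Qᵀ * D.J * Q.map σ = 1 := by
    rw [hJ, ← mul_assoc, ← transpose_mul, hPQ, transpose_one, one_mul, ← Matrix.map_mul, hPQ,
      Matrix.map_one _ (map_zero σ) (map_one σ)]
  have hdet : ∀ A : Matrix (Fin n) (Fin n) K, (Q * A * P).det = A.det := fun A => by
    rw [det_mul, det_mul, mul_right_comm, ← det_mul, hQP, det_one, one_mul]
  have hmap : ∀ X : Matrix (Fin n) (Fin n) K,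
      X.map σ = X.map (CfsgLib.Classical.qFrob hK) := fun X => by ext i j; exact hσq _
  have hiso : ∀ s : Cfsg.SU n K q, D.IsIsom (Q * s.1.1 * P) := fun s => by
    show (Q * s.1.1 * P)ᵀ * D.J * (Q * s.1.1 * P).map σ = D.J
    have hs := (CfsgLib.Classical.mem_su_iff hK s.1).1 s.2
    rw [← hmap] at hs
    rw [transpose_mul, transpose_mul, Matrix.map_mul, Matrix.map_mul]
    calc Pᵀ * (s.1.1ᵀ * Qᵀ) * D.J * (Q.map σ * s.1.1.map σ * P.map σ)
        = Pᵀ * (s.1.1ᵀ * (Qᵀ * D.J * Q.map σ) * s.1.1.map σ) * P.map σ := by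
          simp only [mul_assoc]
      _ = _ := by rw [hQ', mul_one, hs, mul_one, hJ]
  let φ : Cfsg.SU n K q →* D.group :=
    { toFun := fun s => ⟨Matrix.GeneralLinearGroup.mkOfDetNeZero (Q * s.1.1 * P)
          (by rw [hdet, s.1.2]; exact one_ne_zero),
        hiso s, by
          show (Q * s.1.1 * P).det = 1
          rw [hdet, s.1.2]⟩
      map_one' := Subtype.ext (Units.ext (by
        show Q * 1 * P = 1
        rw [mul_one, hQP]))
      map_mul' := fun s t => Subtype.ext (Units.ext (by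
        show Q * (s.1.1 * t.1.1) * P = Q * s.1.1 * P * (Q * t.1.1 * P)
        calc Q * (s.1.1 * t.1.1) * P = Q * s.1.1 * 1 * t.1.1 * P := by
              simp only [mul_one, mul_assoc]
          _ = _ := by rw [← hPQ]; simp only [mul_assoc])) }
  have hbij : Function.Bijective φ := by
    refine ⟨fun s t hst => ?_, fun g => ?_⟩
    · have h1 : Q * s.1.1 * P = Q * t.1.1 * P := congrArg (fun g : D.group => mat g) hst
      have h2 := congrArg (fun X => P * X * Q) h1
      simp only [← mul_assoc, hPQ, one_mul] at h2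
      simp only [mul_assoc, hPQ, mul_one] at h2
      exact Subtype.ext (Subtype.ext h2)
    · have hd : (P * mat g * Q).det = 1 := by
        rw [det_mul, det_mul, mul_right_comm, ← det_mul, hPQ, det_one, one_mul, mat_det]
      refine ⟨⟨⟨P * mat g * Q, hd⟩, (CfsgLib.Classical.mem_su_iff hK _).2 ?_⟩,
        Subtype.ext (Units.ext ?_)⟩
      · show (P * mat g * Q)ᵀ * (P * mat g * Q).map (CfsgLib.Classical.qFrob hK) = 1
        rw [← hmap, transpose_mul, transpose_mul, Matrix.map_mul, Matrix.map_mul]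
        calc Qᵀ * ((mat g)ᵀ * Pᵀ) * (P.map σ * (mat g).map σ * Q.map σ)
            = Qᵀ * ((mat g)ᵀ * (Pᵀ * P.map σ) * (mat g).map σ) * Q.map σ := by
              simp only [mul_assoc]
          _ = _ := by rw [← hJ, show (mat g)ᵀ * D.J * (mat g).map σ = D.J from mat_isom g, hQ']
      · show Q * (P * mat g * Q) * P = mat g
        rw [← mul_assoc, ← mul_assoc, hQP, one_mul, mul_assoc, hQP, mul_one]
  exact ⟨D, hD, ⟨MulEquiv.ofBijective φ hbij⟩⟩

theorem pronormalAbove_su_even (hK : Fintype.card K = q ^ 2) (hq : Even q) (hn : 3 ≤ n) :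
    PronormalAbove 2 (Cfsg.SU n K q) := by
  classical
  haveI := Fact.mk Nat.prime_two
  haveI : CharP K 2 := ringChar.of_eq (FiniteField.even_card_iff_char_two.2
    (Nat.even_iff.1 (hK ▸ (Nat.even_pow.2 ⟨hq, two_ne_zero⟩))))
  obtain ⟨D, hD, ⟨e⟩⟩ := exists_equiv hK hn
  have hpU : IsPGroup 2 (U D) := isPGroup_U hD
  let P : Sylow 2 D.group := hpU.toSylow
    (CfsgLib.Fusion.not_dvd_index_of_pElements hpU fun g hg k hk => pElement_mem hD hg k hk)
  exact pronormalAbove_of_surjective (f := e.symm.toMonoidHom) e.symm.surjective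
    (PronormalSL.pronormalAbove_of_normalizer P fun H hH => FormBruhat.normalizer_uni_le 2 hD hH)

/-- Subgroups of odd index in `PSU_{2^w}(q)` are pronormal. -/
theorem isPronormal_of_odd_index (hK : Fintype.card K = q ^ 2) {w : ℕ} (hw : 2 ≤ w)
    (hn : n = 2 ^ w) (H : Subgroup (Cfsg.PSU n K q)) (hH : Odd H.index) :
    Cfsg.IsPronormal H := by
  classical
  haveI := Fact.mk Nat.prime_two
  have h4 : 2 ^ 2 ≤ 2 ^ w := Nat.pow_le_pow_right two_pos hw
  have hA : PronormalAbove 2 (Cfsg.SU n K q) := by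
    rcases Nat.even_or_odd q with hq | hq
    · exact pronormalAbove_su_even hK hq (by omega)
    · exact PronormalSL.pronormalAbove_of_selfNormalizing
        fun P => SUSylowNorm.normalizer_sylow_eq hK hq hw hn P
  exact PronormalSL.pronormalAbove_quotient _ hA H (PronormalSL.exists_sylow_le hH.not_two_dvd_nat)

end CfsgLib.ClassK.PronormalSU
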