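import Cfsg.Agent.Lib.ClassK.PushPSL
import Cfsg.Agent.Lib.ClassK.Zsigmondy
import Cfsg.Agent.Lib.ClassK.SmallSimple
import Cfsg.Agent.Lib.Amalgam.PCore
import Cfsg.Agent.Lib.PLocal.Sylow
import Cfsg.Agent.Lib.Comp.Normalize
import Cfsg.Agent.Lib.Transfer.Basic

/-!
The basic pushing-up situation over `PSL₂(p^n)`: `O_p = S ⊓ K`, and lower bounds for the
codimension of fixed points on elementary abelian normal subgroups.
-/

set_option autoImplicit false
set_option linter.style.haveILetI false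
set_option linter.unusedSectionVars false

namespace CfsgLib.ClassK.Push

open Subgroup
open scoped MatrixGroups Pointwise

variable {G : Type*} [Group G] [Finite G] {p n : ℕ} [Fact p.Prime] {F : Type*} [Field F] [Fintype F]

local notation "PS" => Matrix.ProjectiveSpecialLinearGroup (Fin 2) F

/-- The Sylow subgroup lies in the unique maximal subgroup `M`, and `φ` maps the group onto
`PSL₂(p^n)`. -/
structure Pre (S : Sylow p G) (M : Subgroup G) (φ : G →* PS) (n : ℕ) : Prop where
  coatom : IsCoatom M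
  le : (S : Subgroup G) ≤ M
  unique : ∀ N : Subgroup G, IsCoatom N → (S : Subgroup G) ≤ N → N = M
  surj : Function.Surjective φ
  card : Fintype.card F = p ^ n

/-- Moreover `C(O_p) ≤ O_p`. -/
structure Sit (S : Sylow p G) (M : Subgroup G) (φ : G →* PS) (n : ℕ) : Prop
    extends Pre S M φ n where
  charP : centralizer (Cfsg.pCore p G : Set G) ≤ Cfsg.pCore p G

theorem exists_sit (S : Sylow p G)
    (hE₁ : centralizer (Cfsg.pCore p G : Set G) ≤ Cfsg.pCore p G)
    (hE₂ : ∃! M : Subgroup G, IsCoatom M ∧ (S : Subgroup G) ≤ M) (K : Subgroup G) [K.Normal]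
    (hF : Fintype.card F = p ^ n) (e : G ⧸ K ≃* PS) :
    ∃ (M : Subgroup G) (φ : G →* PS), Sit S M φ n := by
  obtain ⟨M, ⟨hM, hSM⟩, hu⟩ := hE₂
  exact ⟨M, e.toMonoidHom.comp (QuotientGroup.mk' K), ⟨hM, hSM, fun N h1 h2 => hu N ⟨h1, h2⟩,
    e.surjective.comp (QuotientGroup.mk'_surjective K), hF⟩, hE₁⟩

theorem relIndex_pos' (H K : Subgroup G) : 0 < H.relIndex K :=
  Nat.pos_of_ne_zero (index_ne_zero_of_finite (H := H.subgroupOf K))

theorem pow_eq_one_of_pGroup_psl (hF : Fintype.card F = p ^ n) {a : PS}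
    (ha : ∃ k : ℕ, a ^ p ^ k = 1) : a ^ p = 1 := by
  haveI := charP_of_card (F := F) hF
  obtain ⟨P₀, hP₀, -⟩ := exists_sylow_psl (F := F) hF
  obtain ⟨k, hk⟩ := ha
  have hpa : IsPGroup p (zpowers a) := by
    rintro ⟨y, hy⟩
    obtain ⟨i, rfl⟩ := mem_zpowers_iff.1 hy
    refine ⟨k, Subtype.ext ?_⟩
    show (a ^ i) ^ p ^ k = 1
    rw [← zpow_natCast, zpow_comm, zpow_natCast, hk, one_zpow]
  obtain ⟨P, hP⟩ := hpa.exists_le_sylow
  obtain ⟨v, rfl⟩ := MulAction.exists_smul_eq PS P₀ P
  have hav := hP (mem_zpowers a)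
  rw [Sylow.coe_subgroup_smul, Subgroup.mem_pointwise_smul_iff_inv_smul_mem, hP₀] at hav
  obtain ⟨_, ⟨t, rfl⟩, hta⟩ := hav
  have key : ∀ m : ℕ, CfsgLib.Classical.uElt t ^ m = CfsgLib.Classical.uElt ((m : F) * t) := by
    intro m
    induction m with
    | zero => simp [show CfsgLib.Classical.uElt (0 : F) = 1 from
        Matrix.SpecialLinearGroup.transvection_coeff_zero _]
    | succ m ih =>
      rw [pow_succ, ih, ← CfsgLib.Classical.uElt_add]; push_cast; ring_nf
  have h1 : (v⁻¹ * a * v) ^ p = 1 := by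
    have : QuotientGroup.mk' _ (CfsgLib.Classical.uElt t) = v⁻¹ * a * v := by
      rw [hta]; simp [MulAut.smul_def]
    rw [← this, ← map_pow, key, CharP.cast_eq_zero, zero_mul,
      show CfsgLib.Classical.uElt (0 : F) = 1 from Matrix.SpecialLinearGroup.transvection_coeff_zero _,
      map_one]
  have h2 : (v⁻¹ * a * v) ^ p = v⁻¹ * a ^ p * v := by
    have := conj_pow (i := p) (a := v⁻¹) (b := a)
    rwa [inv_inv] at this
  rw [h2] at h1
  calc a ^ p = v * (v⁻¹ * a ^ p * v) * v⁻¹ := by group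
    _ = 1 := by rw [h1]; group

/-- A `p`-element normalizing a subgroup of index at most `p` acts trivially on the quotient. -/
theorem commutator_mem_of_relIndex_le {W C : Subgroup G} (hCW : C ≤ W) (hW : ∀ w ∈ W, w ^ p = 1)
    (hWab : W ≤ centralizer (W : Set G)) (hidx : C.relIndex W ≤ p) {a : G} {k : ℕ}
    (ha : a ^ p ^ k = 1) (haW : a ∈ normalizer (W : Set G)) (haC : a ∈ normalizer (C : Set G)) :
    ∀ w ∈ W, a * w * a⁻¹ * w⁻¹ ∈ C := by
  intro w hw
  by_cases hwC : w ∈ C
  · exact mul_mem ((mem_normalizer_iff.1 haC w).1 hwC) (inv_mem hwC)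
  have hab : ∀ x ∈ W, ∀ y ∈ W, x * y = y * x := fun x hx y hy =>
    mem_centralizer_iff.1 (hWab hy) x hx
  -- `W = C ⟨w⟩`
  have hsup : C ⊔ zpowers w = W := by
    have hle : C ⊔ zpowers w ≤ W := sup_le hCW (zpowers_le.2 hw)
    have hne : C.relIndex (C ⊔ zpowers w) ≠ 1 := fun h =>
      hwC (relIndex_eq_one.1 h (le_sup_right (a := C) (mem_zpowers w)))
    have hmul := relIndex_mul_relIndex C (C ⊔ zpowers w) W le_sup_left hle
    have hp : p.Prime := Fact.out
    obtain ⟨i, -, hi⟩ : ∃ i, i ≤ (Nat.card W).factorization p ∧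
        C.relIndex (C ⊔ zpowers w) = p ^ i := by
      have hWp : IsPGroup p W := fun x => ⟨1, Subtype.ext (by simpa using hW x x.2)⟩
      obtain ⟨c, hc⟩ := IsPGroup.iff_card.1 (hWp.to_le hle)
      obtain ⟨i, hi, h⟩ := (Nat.dvd_prime_pow hp).1 (hc ▸ relIndex_dvd_card C (C ⊔ zpowers w))
      refine ⟨i, hi.trans ?_, h⟩
      obtain ⟨c', hc'⟩ := IsPGroup.iff_card.1 hWp
      rw [hc', hp.factorization_pow, Finsupp.single_eq_same]
      exact (Nat.pow_dvd_pow_iff_le_right hp.one_lt).1 (hc ▸ hc' ▸ card_dvd_of_le hle)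
    have hge : p ≤ C.relIndex (C ⊔ zpowers w) := by
      rcases i with _ | i
      · exact absurd (by rw [hi, pow_zero]) hne
      · rw [hi]; exact Nat.le_self_pow (by omega) p
    have h1 : (C ⊔ zpowers w).relIndex W = 1 := by
      have h0 := relIndex_pos' (C ⊔ zpowers w) W
      by_contra h
      have : p * 2 ≤ C.relIndex W := by
        rw [← hmul]; exact Nat.mul_le_mul hge (by omega)
      have := hp.two_le
      omega
    exact le_antisymm hle (relIndex_eq_one.1 h1)
  have hmem : a * w * a⁻¹ ∈ C ⊔ zpowers w := by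
    rw [hsup]; exact (mem_normalizer_iff.1 haW w).1 hw
  obtain ⟨c, hc, _, ⟨i, rfl⟩, hci⟩ := CfsgLib.Comp.exists_mul_of_mem_sup
    (show zpowers w ≤ normalizer (C : Set G) from
      (zpowers_le.2 hw).trans ((hWab.trans (centralizer_le hCW)).trans (centralizer_le_normalizer _)))
    hmem
  simp only at hci
  have hpow : ∀ m : ℕ, ∃ c ∈ C, a ^ m * w * (a ^ m)⁻¹ = c * w ^ (i ^ m) := by
    intro m
    induction m with
    | zero => exact ⟨1, one_mem C, by simp⟩
    | succ m ih =>
      obtain ⟨c', hc', hm⟩ := ih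
      refine ⟨(a * c' * a⁻¹) * c ^ (i ^ m), mul_mem ((mem_normalizer_iff.1 haC c').1 hc')
        (zpow_mem hc _), ?_⟩
      have hcw : Commute c (w ^ i) :=
        (show Commute c w from hab c (hCW hc) w hw).zpow_right i
      calc a ^ (m + 1) * w * (a ^ (m + 1))⁻¹ = (a * c' * a⁻¹) * (a * w ^ (i ^ m) * a⁻¹) := by
            rw [pow_succ', show a * a ^ m * w * (a * a ^ m)⁻¹ = a * (a ^ m * w * (a ^ m)⁻¹) * a⁻¹ by
              group, hm]; group
        _ = (a * c' * a⁻¹) * (c ^ (i ^ m) * w ^ (i ^ (m + 1))) := by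
            rw [← conj_zpow, ← hci, hcw.mul_zpow, ← zpow_mul, ← pow_succ']
        _ = _ := (mul_assoc _ _ _).symm
  obtain ⟨c', hc', hk⟩ := hpow (p ^ k)
  rw [ha, one_mul, inv_one, mul_one] at hk
  have hdiff : w ^ (i ^ p ^ k - 1) ∈ C := by
    have : w ^ (i ^ p ^ k - 1) = c'⁻¹ := by
      have e : w ^ (i ^ p ^ k) = c'⁻¹ * w := by rw [eq_inv_mul_iff_mul_eq]; exact hk.symm
      rw [zpow_sub, zpow_one, e]; group
    rw [this]; exact inv_mem hc'
  have hpi : (p : ℤ) ∣ i ^ p ^ k - 1 := by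
    by_contra hnd
    refine hwC ?_
    have hcop : IsCoprime (p : ℤ) (i ^ p ^ k - 1) :=
      (Nat.prime_iff_prime_int.1 Fact.out).coprime_iff_not_dvd.2 hnd
    obtain ⟨u, v, huv⟩ := hcop
    have : w = (w ^ (p : ℤ)) ^ u * (w ^ (i ^ p ^ k - 1)) ^ v := by
      rw [← zpow_mul, ← zpow_mul, ← zpow_add, mul_comm (p : ℤ), mul_comm (i ^ p ^ k - 1), huv,
        zpow_one]
    rw [this, zpow_natCast w p, hW w hw, one_zpow, one_mul]
    exact zpow_mem hdiff v
  have hi1 : (p : ℤ) ∣ i - 1 := by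
    rw [← ZMod.intCast_zmod_eq_zero_iff_dvd] at hpi ⊢
    push_cast at hpi ⊢
    rwa [ZMod.pow_card_pow] at hpi
  obtain ⟨j, hj⟩ := hi1
  have hwi : w ^ i = w := by
    rw [show i = p * j + 1 by linarith, zpow_add, zpow_mul, zpow_natCast, hW w hw, one_zpow,
      one_mul, zpow_one]
  rw [← hci, hwi, mul_inv_cancel_right]
  exact hc

variable {S : Sylow p G} {M : Subgroup G}
  {φ : G →* Matrix.ProjectiveSpecialLinearGroup (Fin 2) F}

namespace Pre

variable (h : Pre (F := F) S M φ n)
include h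

theorem one_le : 1 ≤ n := one_le_exponent h.card

theorem le_of_ne_top {H : Subgroup G} (hSH : (S : Subgroup G) ≤ H) (hH : H ≠ ⊤) : H ≤ M := by
  obtain ⟨N, hN, hHN⟩ := (eq_top_or_exists_le_coatom H).resolve_left hH
  exact h.unique N hN (hSH.trans hHN) ▸ hHN

theorem card_map : Nat.card ↥((S : Subgroup G).map φ) = p ^ n := by
  have := card_sylow_psl (F := F) h.card (S.mapSurjective h.surj)
  rwa [Sylow.coe_mapSurjective] at this

theorem ker_le : φ.ker ≤ M := by
  by_contra hne
  have htop : φ.ker ⊔ (S : Subgroup G) = ⊤ := by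
    by_contra h'
    exact hne (le_sup_left.trans (h.le_of_ne_top le_sup_right h'))
  refine not_isPGroup_psl (F := F) h.card ?_
  have : (S : Subgroup G).map φ = ⊤ := by
    have h1 := congrArg (Subgroup.map φ) htop
    rwa [Subgroup.map_sup, map_top_of_surjective φ h.surj,
      (Subgroup.map_eq_bot_iff _).2 le_rfl, bot_sup_eq] at h1
  exact ((S.isPGroup'.map φ).of_equiv ((MulEquiv.subgroupCongr this).trans Subgroup.topEquiv))

/-- A normal subgroup inside `M` meets `S` inside `O_p(G)`. -/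
theorem inf_le_pCore_of_le {N : Subgroup G} [N.Normal] (hN : N ≤ M) :
    (S : Subgroup G) ⊓ N ≤ Cfsg.pCore p G := by
  have hle : (S : Subgroup G) ≤ normalizer (((S : Subgroup G) ⊓ N : Subgroup G) : Set G) :=
    (le_inf Subgroup.le_normalizer (CfsgLib.PLocal.le_normalizer_of_normal _ N)).trans
      Subgroup.inf_normalizer_le_normalizer_inf
  by_cases htop : normalizer (((S : Subgroup G) ⊓ N : Subgroup G) : Set G) = ⊤
  · exact CfsgLib.Amalgam.le_pCore (normalizer_eq_top_iff.1 htop) (S.isPGroup'.to_le inf_le_left)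
  · refine absurd (eq_top_iff.2 ?_) h.coatom.1
    rw [← CfsgLib.PLocal.frattini_sup S N]
    exact sup_le hN (h.le_of_ne_top hle htop)

theorem pCore_eq : Cfsg.pCore p G = (S : Subgroup G) ⊓ φ.ker := by
  refine le_antisymm (le_inf (CfsgLib.Amalgam.pCore_le_sylow S) ?_) (h.inf_le_pCore_of_le h.ker_le)
  haveI := Cfsg.pCore_normal p G
  haveI : ((Cfsg.pCore p G).map φ).Normal := Subgroup.Normal.map inferInstance _ h.surj
  exact (Subgroup.map_eq_bot_iff _).1
    (normal_pGroup_psl_eq_bot (F := F) h.card _ (CfsgLib.Amalgam.isPGroup_pCore.map φ))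

theorem residual_le_or (N : Subgroup G) [N.Normal] :
    Cfsg.pResidual p G ≤ N ∨ N ≤ M := by
  by_cases htop : N ⊔ (S : Subgroup G) = ⊤
  · left
    refine CfsgLib.Transfer.pResidual_le_of_isPGroup_quotient (IsPGroup.of_surjective S.isPGroup'
      ((QuotientGroup.mk' N).comp (S : Subgroup G).subtype) fun q => ?_)
    obtain ⟨x, rfl⟩ := QuotientGroup.mk'_surjective N q
    have hx : x ∈ N ⊔ (S : Subgroup G) := htop ▸ mem_top x
    obtain ⟨a, ha, b, hb, rfl⟩ := mem_sup_of_normal_left.1 hx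
    exact ⟨⟨b, hb⟩, by simp [(QuotientGroup.eq_one_iff a).2 ha]⟩
  · exact Or.inr (le_sup_left.trans (h.le_of_ne_top le_sup_right htop))

theorem not_residual_le : ¬ Cfsg.pResidual p G ≤ M := fun hle =>
  h.coatom.1 (eq_top_iff.2 ((CfsgLib.Transfer.pResidual_sup_sylow S).ge.trans (sup_le hle h.le)))

theorem residual_le_of_not_le_ker (N : Subgroup G) [N.Normal] {a : G} (haS : a ∈ (S : Subgroup G))
    (haN : a ∈ N) (ha : φ a ≠ 1) : Cfsg.pResidual p G ≤ N :=
  (h.residual_le_or N).resolve_right fun hN => ha (MonoidHom.mem_ker.1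
    (h.pCore_eq.le (h.inf_le_pCore_of_le hN ⟨haS, haN⟩)).2)

/-- Whatever is centralized by `S` and by `O^p(G)` is normal. -/
theorem normal_of_centralized {Z : Subgroup G} (hS : (S : Subgroup G) ≤ centralizer (Z : Set G))
    (hR : Cfsg.pResidual p G ≤ centralizer (Z : Set G)) : Z.Normal := by
  have htop : centralizer (Z : Set G) = ⊤ :=
    eq_top_iff.2 ((CfsgLib.Transfer.pResidual_sup_sylow S).ge.trans (sup_le hR hS))
  refine ⟨fun z hz g => ?_⟩
  have h1 : z * g = g * z := mem_centralizer_iff.1 (htop ▸ mem_top g) z hz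
  rwa [← h1, mul_inv_cancel_right]

theorem relIndex_inf_ker_le {A : Subgroup G} (hA : A ≤ (S : Subgroup G)) :
    (A ⊓ φ.ker).relIndex A ≤ p ^ n := by
  rw [inf_relIndex_left, relIndex_ker, ← h.card_map]
  exact card_le_of_le (map_mono hA)

theorem sylow_le_sup {A : Subgroup G} (hA : A ≤ (S : Subgroup G))
    (hq : p ^ n ≤ (A ⊓ φ.ker).relIndex A) : (S : Subgroup G) ≤ A ⊔ Cfsg.pCore p G := by
  have hmap : A.map φ = (S : Subgroup G).map φ := by
    refine eq_of_le_of_card_ge (map_mono hA) ?_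
    rw [h.card_map]
    rwa [inf_relIndex_left, relIndex_ker] at hq
  intro s hs
  obtain ⟨a, ha, has⟩ : φ s ∈ A.map φ := hmap ▸ mem_map_of_mem φ hs
  have hk : a⁻¹ * s ∈ Cfsg.pCore p G := h.pCore_eq.ge
    (show a⁻¹ * s ∈ (S : Subgroup G) ⊓ φ.ker from Subgroup.mem_inf.2 ⟨mul_mem (inv_mem (hA ha)) hs,
      MonoidHom.mem_ker.2 (by rw [map_mul, map_inv, has, inv_mul_cancel])⟩)
  simpa using mul_mem (mem_sup_left (T := Cfsg.pCore p G) ha) (mem_sup_right (S := A) hk)

theorem centralizer_le_ker (hn : 2 ≤ n) {N : Subgroup G} [N.Normal]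
    (hN : ¬ Cfsg.pResidual p G ≤ N) : N ≤ φ.ker := by
  haveI : IsSimpleGroup PS := isSimpleGroup_psl_two (F := F) (by
    rw [h.card]
    exact le_trans (Nat.pow_le_pow_left (Fact.out : p.Prime).two_le 2)
      (Nat.pow_le_pow_right (Fact.out : p.Prime).pos hn))
  haveI : (N.map φ).Normal := Subgroup.Normal.map inferInstance _ h.surj
  rcases Subgroup.Normal.eq_bot_or_eq_top (inferInstance : (N.map φ).Normal) with hb | ht
  · exact (Subgroup.map_eq_bot_iff _).1 hb
  · exfalso
    refine h.coatom.1 (eq_top_iff.2 fun x _ => ?_)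
    obtain ⟨y, hy, hyx⟩ : φ x ∈ N.map φ := ht ▸ mem_top _
    have hk : y⁻¹ * x ∈ M := h.ker_le (MonoidHom.mem_ker.2 (by rw [map_mul, map_inv, hyx, inv_mul_cancel]))
    simpa using mul_mem ((h.residual_le_or N).resolve_left hN hy) hk

section Module

variable {W : Subgroup G} [W.Normal] (hW : ∀ w ∈ W, w ^ p = 1)
  (hWab : W ≤ centralizer (W : Set G)) (hWc : ¬ Cfsg.pResidual p G ≤ centralizer (W : Set G))
include hW hWab hWc

/-- An element whose image has primitive prime power order `r^(j+1)` moves at least `q²`. -/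
theorem sq_le_of_orderOf {r j : ℕ} (hr : r.Prime) (hn : 2 ≤ n)
    (hprim : ∀ b : ℕ, 0 < b → r ^ (j + 1) ∣ p ^ b - 1 → 2 * n ≤ b) (hrd : r ^ (j + 1) ∣ p ^ n + 1)
    {x : G} (hx : orderOf (φ x) = r ^ (j + 1)) :
    (p ^ n) ^ 2 ≤ (W ⊓ centralizer ({x} : Set G)).relIndex W := by
  classical
  haveI : Fact r.Prime := ⟨hr⟩
  have hp : p.Prime := Fact.out
  have hrp : r ≠ p := by
    rintro rfl
    have h1 : r ∣ r ^ n + 1 := (dvd_pow_self r j.succ_ne_zero).trans hrd
    exact hr.not_dvd_one ((Nat.dvd_add_right (dvd_pow_self r (by omega))).1 h1)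
  have hCker : centralizer (W : Set G) ≤ φ.ker := h.centralizer_le_ker hn hWc
  -- the `r`-part of `x`
  set o := orderOf x
  set x' := x ^ (o / r ^ o.factorization r) with hx'def
  have hx'ord : orderOf x' = r ^ o.factorization r :=
    orderOf_pow_orderOf_div (orderOf_pos x).ne' (Nat.ordProj_dvd _ _)
  have hx'img : orderOf (φ x') = r ^ (j + 1) := by
    rw [hx'def, map_pow, Nat.Coprime.orderOf_pow, hx]
    rw [hx]
    exact Nat.Coprime.pow_left _ (Nat.coprime_ordCompl hr (orderOf_pos x).ne')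
  set ψ : G →* MulAut W := MulAut.conjNormal
  have hker : ∀ g, ψ g = 1 → g ∈ centralizer (W : Set G) := by
    intro g hg
    refine mem_centralizer_iff.2 fun w hw => ?_
    have := congrArg Subtype.val (DFunLike.congr_fun hg ⟨w, hw⟩)
    simp [ψ, MulAut.conjNormal_apply] at this
    exact (mul_inv_eq_iff_eq_mul.1 this).symm
  obtain ⟨i, -, hi⟩ := (Nat.dvd_prime_pow hr).1
    (hx'ord ▸ orderOf_map_dvd ψ x' : orderOf (ψ x') ∣ r ^ o.factorization r)
  have hji : j + 1 ≤ i := by
    have h1 : (φ x') ^ r ^ i = 1 := by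
      rw [← map_pow]
      refine MonoidHom.mem_ker.1 (hCker (hker _ ?_))
      rw [map_pow, ← hi, pow_orderOf_eq_one]
    exact (Nat.pow_dvd_pow_iff_le_right hr.one_lt).1 (hx'img ▸ orderOf_dvd_of_pow_eq_one h1)
  set y := x' ^ r ^ (i - (j + 1)) with hy
  have hyord : orderOf (ψ y) = r ^ (j + 1) := by
    rw [hy, map_pow, orderOf_pow' _ (pow_ne_zero _ hr.ne_zero), hi,
      Nat.gcd_eq_right (pow_dvd_pow r (by omega)), Nat.pow_div (by omega) hr.pos]
    congr 1; omega
  set σ := ψ y with hσ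
  set z := y ^ r ^ j with hz
  set U := W ⊓ centralizer ({z} : Set G) with hU
  have hxU : W ⊓ centralizer ({x} : Set G) ≤ U := by
    refine inf_le_inf le_rfl fun w hw => ?_
    rw [mem_centralizer_singleton_iff] at hw ⊢
    have : z ∈ zpowers x := by
      rw [hz, hy, hx'def, ← pow_mul, ← pow_mul]; exact pow_mem (mem_zpowers x) _
    obtain ⟨e, he⟩ := mem_zpowers_iff.1 this
    rw [← he]
    exact ((show Commute w x from hw).zpow_right e).eq
  -- free action on the complement of `U`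
  let X := {w : W // (w : G) ∉ U}
  have hinv : ∀ τ ∈ zpowers σ, ∀ w : W, (w : G) ∉ U → ((τ w : W) : G) ∉ U := by
    intro τ hτ w hw hτw
    obtain ⟨e, rfl⟩ := mem_zpowers_iff.1 hτ
    apply hw
    have hc : z * y ^ e = y ^ e * z := ((Commute.refl y).pow_left (r ^ j)).zpow_right e
    refine ⟨w.2, ?_⟩
    have h1 := mem_centralizer_singleton_iff.1 hτw.2
    rw [hσ, ← map_zpow, MulAut.conjNormal_apply] at h1
    refine mem_centralizer_singleton_iff.2 ?_
    have h2 : y ^ e * ((w : G) * z) * (y ^ e)⁻¹ = y ^ e * (z * w) * (y ^ e)⁻¹ := by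
      have hc' : z * (y ^ e)⁻¹ = (y ^ e)⁻¹ * z := (show Commute z (y ^ e) from hc).inv_right
      calc y ^ e * ((w : G) * z) * (y ^ e)⁻¹ = y ^ e * w * (z * (y ^ e)⁻¹) := by group
        _ = y ^ e * w * (y ^ e)⁻¹ * z := by rw [hc']; group
        _ = z * (y ^ e * w * (y ^ e)⁻¹) := h1
        _ = (z * y ^ e) * w * (y ^ e)⁻¹ := by group
        _ = _ := by rw [hc]; group
    exact mul_left_cancel (mul_right_cancel h2)
  letI act : MulAction (zpowers σ) X :=
    { smul := fun τ w => ⟨(τ : MulAut W) w.1, hinv τ τ.2 w.1 w.2⟩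
      one_smul := fun w => rfl
      mul_smul := fun τ τ' w => rfl }
  have hfree : ∀ w : X, MulAction.stabilizer (zpowers σ) w = ⊥ := by
    intro w
    rw [eq_bot_iff]
    rintro ⟨τ, hτ⟩ hfix
    rw [mem_bot]
    refine Subtype.ext ?_
    by_contra hne
    obtain ⟨e, he⟩ := mem_powers_iff_mem_zpowers.2 hτ
    have he' : σ ^ e = τ := he
    have hτw : τ w.1 = w.1 := congrArg Subtype.val hfix
    have hnd : ¬ r ^ (j + 1) ∣ e := fun hd => hne (by
      show τ = 1
      rw [← he']
      exact orderOf_dvd_iff_pow_eq_one.1 (hyord ▸ hd))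
    obtain ⟨t, ht, hg⟩ := (Nat.dvd_prime_pow hr).1 (Nat.gcd_dvd_right e (r ^ (j + 1)))
    have htj : t ≤ j := by
      rcases Nat.lt_or_eq_of_le ht with h' | h'
      · omega
      · exact absurd (h' ▸ hg ▸ Nat.gcd_dvd_left e (r ^ (j + 1))) hnd
    have hfixgcd : (σ ^ r ^ t) w.1 = w.1 := by
      have hb : σ ^ r ^ t ∈ zpowers (σ ^ e) := by
        rw [← hg]
        refine mem_zpowers_iff.2 ⟨Nat.gcdA e (r ^ (j + 1)), ?_⟩
        rw [← zpow_natCast σ (Nat.gcd e (r ^ (j + 1))), Nat.gcd_eq_gcd_ab, zpow_add, ← zpow_natCast σ e,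
          ← zpow_mul, zpow_mul σ ((r ^ (j + 1) : ℕ) : ℤ), zpow_natCast σ (r ^ (j + 1)), ← hyord,
          pow_orderOf_eq_one, one_zpow, mul_one]
      obtain ⟨k, hk⟩ := mem_zpowers_iff.1 hb
      rw [← hk]
      have hst : σ ^ e ∈ MulAction.stabilizer (MulAut W) w.1 := by rw [he']; exact hτw
      exact zpow_mem hst k
    apply w.2
    refine ⟨w.1.2, ?_⟩
    have h1 : (σ ^ r ^ j) w.1 = w.1 := by
      obtain ⟨d, hd⟩ := pow_dvd_pow r htj
      rw [hd, pow_mul]
      exact pow_mem (show σ ^ r ^ t ∈ MulAction.stabilizer (MulAut W) w.1 from hfixgcd) d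
    rw [hσ, ← map_pow, ← hz] at h1
    have h2 := congrArg Subtype.val h1
    rw [MulAut.conjNormal_apply] at h2
    exact mem_centralizer_singleton_iff.2 (mul_inv_eq_iff_eq_mul.1 h2).symm
  have hdvd : r ^ (j + 1) ∣ Nat.card X := by
    rw [Nat.card_congr (MulAction.selfEquivSigmaOrbits (zpowers σ) X)]
    haveI : Fintype (Quotient (MulAction.orbitRel (zpowers σ) X)) := Fintype.ofFinite _
    rw [Nat.card_sigma]
    refine Finset.dvd_sum fun ω _ => ?_
    rw [Nat.card_congr (MulAction.orbitEquivQuotientStabilizer (zpowers σ) ω.out), hfree,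
      Nat.card_congr (QuotientGroup.quotientBot.toEquiv), Nat.card_zpowers, hyord]
  have hWp : IsPGroup p W := fun x => ⟨1, Subtype.ext (by simpa using hW x x.2)⟩
  obtain ⟨c, hc⟩ := IsPGroup.iff_card.1 hWp
  obtain ⟨a, ha⟩ := IsPGroup.iff_card.1 (hWp.to_le (inf_le_left : U ≤ W))
  have hac : a ≤ c := (Nat.pow_dvd_pow_iff_le_right hp.one_lt).1 (ha ▸ hc ▸ card_dvd_of_le inf_le_left)
  have hX : Nat.card X = p ^ a * (p ^ (c - a) - 1) := by
    haveI := Fintype.ofFinite W
    have h1 : Nat.card X + Nat.card {w : W // (w : G) ∈ U} = Nat.card W := by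
      rw [Nat.add_comm, ← Nat.card_sum, Nat.card_congr (Equiv.sumCompl _)]
    have h2 : Nat.card {w : W // (w : G) ∈ U} = p ^ a := by
      rw [← ha]; exact Nat.card_congr (subgroupOfEquivOfLe (inf_le_left : U ≤ W)).toEquiv
    rw [h2, hc] at h1
    rw [Nat.mul_sub, ← pow_add, Nat.add_sub_cancel' hac, mul_one]
    omega
  have hpos : 0 < c - a := by
    by_contra h0
    have hUW : U = W := eq_of_le_of_card_ge inf_le_left (by
      rw [ha, hc]; exact Nat.pow_le_pow_right hp.pos (by omega))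
    have h1 : σ ^ r ^ j = 1 := by
      rw [hσ, ← map_pow, ← hz]
      refine MulEquiv.ext fun w => Subtype.ext ?_
      have := mem_centralizer_singleton_iff.1 (hUW.ge w.2).2
      rw [MulAut.conjNormal_apply]
      simp [← this]
    have := orderOf_dvd_of_pow_eq_one h1
    rw [hyord, Nat.pow_dvd_pow_iff_le_right hr.one_lt] at this
    omega
  have hb := hprim (c - a) hpos
    ((Nat.Coprime.pow_right a ((Nat.coprime_primes hr hp).2 hrp)).pow_left (j + 1) |>.dvd_of_dvd_mul_left
      (hX ▸ hdvd))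
  calc (p ^ n) ^ 2 ≤ p ^ (c - a) := by rw [← pow_mul]; exact Nat.pow_le_pow_right hp.pos (by omega)
    _ = U.relIndex W := by
        have h1 := card_mul_index (U.subgroupOf W)
        rw [Nat.card_congr (subgroupOfEquivOfLe (inf_le_left : U ≤ W)).toEquiv, ha, hc] at h1
        rw [relIndex]
        refine Nat.eq_of_mul_eq_mul_left (pow_pos hp.pos a) ?_
        rw [h1, ← pow_add, Nat.add_sub_cancel' hac]
    _ ≤ _ := Nat.le_of_dvd (relIndex_pos' _ _) (relIndex_dvd_of_le_left W hxU)

/-- An element of `S` outside the kernel has fixed points of index at least `q`. -/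
theorem le_relIndex_centralizer {a : G} (haS : a ∈ (S : Subgroup G)) (ha : φ a ≠ 1) :
    p ^ n ≤ (W ⊓ centralizer ({a} : Set G)).relIndex W := by
  have hp : p.Prime := Fact.out
  have haW : a ∉ centralizer (W : Set G) := fun hc => hWc (h.residual_le_of_not_le_ker _ haS hc ha)
  rcases Nat.lt_or_ge n 2 with hn | hn
  · rw [show n = 1 by have := h.one_le; omega, pow_one]
    have hne : (W ⊓ centralizer ({a} : Set G)).relIndex W ≠ 1 := fun he => haW (by
      refine mem_centralizer_iff.2 fun w hw => ?_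
      exact mem_centralizer_singleton_iff.1 ((relIndex_eq_one.1 he) hw).2)
    have hWp : IsPGroup p W := fun x => ⟨1, Subtype.ext (by simpa using hW x x.2)⟩
    obtain ⟨c, hc⟩ := IsPGroup.iff_card.1 hWp
    obtain ⟨i, -, hi⟩ := (Nat.dvd_prime_pow hp).1
      (hc ▸ relIndex_dvd_card (W ⊓ centralizer ({a} : Set G)) W)
    rcases i with _ | i
    · exact absurd (by rw [hi, pow_zero]) hne
    · rw [hi]; exact Nat.le_self_pow (by omega) p
  obtain ⟨k, hk⟩ := S.isPGroup' ⟨a, haS⟩
  have hap : (φ a) ^ p = 1 := pow_eq_one_of_pGroup_psl h.card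
    ⟨k, by rw [← map_pow, show a ^ p ^ k = 1 from congrArg Subtype.val hk, map_one]⟩
  obtain ⟨r, j, hr, hr2, hrd, hprim⟩ := exists_primitive_prime_pow p n hp hn
  obtain ⟨u, x, hxmem, hxo⟩ := exists_closure_orderOf (F := F) h.card
    (Odd.pow (hr.odd_of_ne_two hr2)) (Nat.one_lt_pow (by omega) hr.one_lt) hrd hap ha
  obtain ⟨g, rfl⟩ := h.surj u
  set b := g * a * g⁻¹
  have himg : (closure ({a, b} : Set G)).map φ = closure ({φ a, φ g * φ a * (φ g)⁻¹} : Set PS) := by
    rw [MonoidHom.map_closure, Set.image_pair]; simp [b]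
  obtain ⟨x₀, hx₀, rfl⟩ : x ∈ (closure ({a, b} : Set G)).map φ := himg ▸ hxmem
  have hle : W ⊓ centralizer ({a} : Set G) ⊓ (W ⊓ centralizer ({b} : Set G)) ≤
      W ⊓ centralizer ({x₀} : Set G) := by
    rintro w ⟨⟨hw, hwa⟩, -, hwb⟩
    refine ⟨hw, mem_centralizer_singleton_iff.2 ?_⟩
    have hc : closure ({a, b} : Set G) ≤ centralizer ({w} : Set G) := by
      rw [closure_le]
      rintro z (rfl | rfl)
      · exact mem_centralizer_singleton_iff.2 (mem_centralizer_singleton_iff.1 hwa).symm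
      · exact mem_centralizer_singleton_iff.2 (mem_centralizer_singleton_iff.1 hwb).symm
    exact (mem_centralizer_singleton_iff.1 (hc hx₀)).symm
  have hconj : (W ⊓ centralizer ({b} : Set G)).relIndex W =
      (W ⊓ centralizer ({a} : Set G)).relIndex W := by
    have hWg : W.map (MulAut.conj g).toMonoidHom = W :=
      CfsgLib.Comp.map_conj_eq_iff.2 (by rw [normalizer_eq_top]; trivial)
    have hCg : (centralizer ({a} : Set G)).map (MulAut.conj g).toMonoidHom =
        centralizer ({b} : Set G) := by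
      ext z
      rw [Subgroup.mem_map_equiv, mem_centralizer_singleton_iff, mem_centralizer_singleton_iff]
      simp only [MulAut.conj_symm_apply, b]
      constructor <;> intro hz
      · calc z * (g * a * g⁻¹) = g * ((g⁻¹ * z * g) * a) * g⁻¹ := by group
          _ = g * (a * (g⁻¹ * z * g)) * g⁻¹ := by rw [hz]
          _ = _ := by group
      · calc g⁻¹ * z * g * a = g⁻¹ * (z * (g * a * g⁻¹)) * g := by group
          _ = g⁻¹ * ((g * a * g⁻¹) * z) * g := by rw [hz]
          _ = _ := by group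
    have := relIndex_map_map_of_injective (W ⊓ centralizer ({a} : Set G)) W
      (f := (MulAut.conj g).toMonoidHom) (MulAut.conj g).injective
    rwa [map_inf_eq _ _ _ (MulAut.conj g).injective, hWg, hCg] at this
  have h1 := h.sq_le_of_orderOf hW hWab hWc hr hn hprim hrd hxo
  have h2 : (W ⊓ centralizer ({x₀} : Set G)).relIndex W ≤
      (W ⊓ centralizer ({a} : Set G)).relIndex W * (W ⊓ centralizer ({b} : Set G)).relIndex W :=
    (Nat.le_of_dvd (relIndex_pos' _ _) (relIndex_dvd_of_le_left W hle)).trans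
      relIndex_inf_le
  rw [hconj] at h2
  nlinarith

/-- Two `p`-subgroups generating the group modulo the kernel move at least `q²`. -/
theorem sq_le_relIndex_sup {A B : Subgroup G} (hA : IsPGroup p A) (hB : IsPGroup p B)
    (htop : (A ⊔ B) ⊔ φ.ker = ⊤) :
    (p ^ n) ^ 2 ≤ (W ⊓ centralizer ((A ⊔ B : Subgroup G) : Set G)).relIndex W := by
  have hp : p.Prime := Fact.out
  set D := A ⊔ B
  set C := W ⊓ centralizer (D : Set G)
  rcases Nat.lt_or_ge n 2 with hn | hn
  · rw [show n = 1 by have := h.one_le; omega, pow_one]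
    by_contra hlt
    have hWp : IsPGroup p W := fun x => ⟨1, Subtype.ext (by simpa using hW x x.2)⟩
    obtain ⟨c, hc⟩ := IsPGroup.iff_card.1 hWp
    obtain ⟨i, -, hi⟩ := (Nat.dvd_prime_pow hp).1 (hc ▸ relIndex_dvd_card C W)
    have hidx : C.relIndex W ≤ p := by
      have hi2 : i < 2 := by
        by_contra h2
        exact hlt (hi ▸ Nat.pow_le_pow_right hp.pos (by omega))
      rw [hi]
      exact (Nat.pow_le_pow_right hp.pos (show i ≤ 1 by omega)).trans_eq (pow_one p)
    have hnW : ∀ g : G, g ∈ normalizer (W : Set G) := fun g => by rw [normalizer_eq_top]; trivial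
    have hnC : D ≤ normalizer (C : Set G) :=
      (le_centralizer_iff.1 (inf_le_right : C ≤ centralizer (D : Set G))).trans (centralizer_le_normalizer _)
    have hgen : ∀ P : Subgroup G, IsPGroup p P → P ≤ D → ∀ d ∈ P, ∀ w ∈ W, d * w * d⁻¹ * w⁻¹ ∈ C := by
      intro P hP hPD d hd
      obtain ⟨k, hk⟩ := hP ⟨d, hd⟩
      exact commutator_mem_of_relIndex_le inf_le_left hW hWab hidx (congrArg Subtype.val hk) (hnW d)
        (hnC (hPD hd))
    have hD : ∀ d ∈ D, ∀ w ∈ W, d * w * d⁻¹ * w⁻¹ ∈ C := by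
      intro d hd
      rw [show D = closure ((A : Set G) ∪ B) from sup_eq_closure A B] at hd
      induction hd using Subgroup.closure_induction with
      | mem x hx =>
        rcases hx with hx | hx
        · exact hgen A hA le_sup_left x hx
        · exact hgen B hB le_sup_right x hx
      | one => intro w _; simp
      | mul x y hx hy ihx ihy =>
        intro w hw
        have hx' : x ∈ D := by rw [show D = closure ((A : Set G) ∪ B) from sup_eq_closure A B]; exact hx
        have h1 := ihy w hw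
        have : x * y * w * (x * y)⁻¹ * w⁻¹ =
            x * (y * w * y⁻¹ * w⁻¹) * x⁻¹ * (x * w * x⁻¹ * w⁻¹) := by group
        rw [this]
        exact mul_mem ((mem_normalizer_iff.1 (hnC hx') _).1 h1) (ihx w hw)
      | inv x hx ihx =>
        intro w hw
        have := inv_mem (ihx (x⁻¹ * w * x) (by
          simpa using (mem_normalizer_iff.1 (hnW x⁻¹) w).1 hw))
        simpa [mul_assoc] using this
    have hsq : ∀ d ∈ D, d ^ p ∈ centralizer (W : Set G) := by
      intro d hd
      refine mem_centralizer_iff.2 fun w hw => ?_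
      set c := d * w * d⁻¹ * w⁻¹ with hcd
      have hcC := hD d hd w hw
      have hdc : Commute d c := mem_centralizer_iff.1 hcC.2 d hd
      have key : ∀ m : ℕ, d ^ m * w * (d ^ m)⁻¹ = c ^ m * w := by
        intro m
        induction m with
        | zero => simp
        | succ m ih =>
          calc d ^ (m + 1) * w * (d ^ (m + 1))⁻¹ = d * (d ^ m * w * (d ^ m)⁻¹) * d⁻¹ := by
                rw [pow_succ']; group
            _ = (d * c ^ m * d⁻¹) * (d * w * d⁻¹) := by rw [ih]; group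
            _ = c ^ m * (c * w) := by
                rw [(hdc.pow_right m).eq, mul_inv_cancel_right]
                congr 1
                rw [hcd]; group
            _ = c ^ (m + 1) * w := by simp only [pow_succ, mul_assoc]
      have := key p
      rw [hW c hcC.1, one_mul] at this
      exact (mul_inv_eq_iff_eq_mul.1 this).symm
    set N := φ.ker ⊔ centralizer (W : Set G)
    have hR : Cfsg.pResidual p G ≤ N := by
      refine CfsgLib.Transfer.pResidual_le_of_isPGroup_quotient fun q => ?_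
      obtain ⟨g, rfl⟩ := QuotientGroup.mk'_surjective N q
      obtain ⟨d, hd, k, hk, rfl⟩ := mem_sup_of_normal_right.1 (htop ▸ mem_top g : g ∈ D ⊔ φ.ker)
      refine ⟨1, ?_⟩
      rw [map_mul, show QuotientGroup.mk' N k = 1 from (QuotientGroup.eq_one_iff k).2 (mem_sup_left hk),
        mul_one, pow_one, ← map_pow]
      exact (QuotientGroup.eq_one_iff _).2 (mem_sup_right (hsq d hd))
    exact h.not_residual_le
      (hR.trans (sup_le h.ker_le ((h.residual_le_or _).resolve_left hWc)))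
  obtain ⟨r, j, hr, hr2, hrd, hprim⟩ := exists_primitive_prime_pow p n hp hn
  obtain ⟨g, hg⟩ : ∃ g : PS, orderOf g = r ^ (j + 1) := by
    haveI := charP_of_card (F := F) h.card
    refine CfsgLib.KnownB.SL2.exists_orderOf_psl (F := F) p (Or.inr (Or.inr ?_))
    rw [h.card]
    have hcop : (r ^ (j + 1)).Coprime (Nat.gcd 2 (p ^ n - 1)) :=
      (((Nat.coprime_primes hr Nat.prime_two).2 hr2).coprime_dvd_right (Nat.gcd_dvd_left _ _)).pow_left _
    refine hcop.dvd_of_dvd_mul_right ?_
    rw [Nat.div_mul_cancel]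
    · exact hrd
    · have := Nat.dvd_add (Nat.gcd_dvd_right 2 (p ^ n - 1)) (Nat.gcd_dvd_left 2 (p ^ n - 1))
      rwa [show p ^ n - 1 + 2 = p ^ n + 1 by have := Nat.one_le_pow n p hp.pos; omega] at this
  obtain ⟨g₀, rfl⟩ := h.surj g
  obtain ⟨d, hd, k, hk, rfl⟩ := mem_sup_of_normal_right.1 (htop ▸ mem_top g₀ : g₀ ∈ D ⊔ φ.ker)
  rw [map_mul, MonoidHom.mem_ker.1 hk, mul_one] at hg
  refine (h.sq_le_of_orderOf hW hWab hWc hr hn hprim hrd hg).trans ?_
  refine Nat.le_of_dvd (relIndex_pos' _ _) (relIndex_dvd_of_le_left W ?_)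
  exact inf_le_inf le_rfl (centralizer_le (Set.singleton_subset_iff.2 hd))

end Module

end Pre

end CfsgLib.ClassK.Push
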