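import Cfsg.Agent.Lib.ClassK.PushBasic
import Cfsg.Agent.Lib.PLocal.ThompsonA

/-!
Baumann's lemma in the basic pushing-up situation: if `Z(S)` is not normal and `J(S) ≰ K`, then
`Z(J(S))` is `Z(S)` times fixed points of `O^p(G)`.
-/

set_option autoImplicit false
set_option linter.style.haveILetI false
set_option linter.unusedSectionVars false

namespace CfsgLib.ClassK.Push

open Subgroup
open scoped MatrixGroups Pointwise

variable {G : Type*} [Group G] [Finite G] {p n : ℕ} [Fact p.Prime] {F : Type*} [Field F] [Fintype F]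

theorem relIndex_le_of_le' {H K L : Subgroup G} (hKL : K ≤ L) : H.relIndex K ≤ H.relIndex L :=
  relIndex_le_of_le_right hKL (index_ne_zero_of_finite (H := H.subgroupOf L))

theorem relIndex_sup_of_le_normalizer {H K : Subgroup G} (h : K ≤ normalizer (H : Set G)) :
    H.relIndex (H ⊔ K) = H.relIndex K := by
  haveI : (H.subgroupOf (H ⊔ K)).Normal :=
    normal_subgroupOf_of_le_normalizer (sup_le le_normalizer h)
  have e : (H.subgroupOf (H ⊔ K)).relIndex (K.subgroupOf (H ⊔ K)) =
      (H.subgroupOf (H ⊔ K)).index := by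
    rw [← relIndex_sup_left (K := H.subgroupOf (H ⊔ K)), ← subgroupOf_sup le_sup_left le_sup_right,
      subgroupOf_self, relIndex_top_right]
  rw [relIndex_subgroupOf le_sup_right] at e
  exact e.symm

theorem isMulCommutative_sup {A B : Subgroup G} (hA : A ≤ centralizer (A : Set G))
    (hB : B ≤ centralizer (B : Set G)) (hAB : A ≤ centralizer (B : Set G)) :
    IsMulCommutative ↥(A ⊔ B) :=
  le_centralizer_iff_isMulCommutative.1 (sup_le
    (le_centralizer_iff.1 (sup_le hA (le_centralizer_iff.1 hAB)))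
    (le_centralizer_iff.1 (sup_le hAB hB)))

theorem comm_le_centralizer {A : Subgroup G} (hA : IsMulCommutative A) :
    A ≤ centralizer (A : Set G) :=
  le_centralizer_iff_isMulCommutative.2 hA

/-- Comparing an abelian subgroup with an abelian subgroup of largest order. -/
theorem relIndex_le_of_maxAb {U A A' X : Subgroup G} (hA : A ∈ PLocal.maxAbIn U) (hA' : A' ≤ A)
    (hXU : X ≤ U) (hX : X ≤ centralizer (X : Set G)) (hc : A' ≤ centralizer (X : Set G)) :
    A'.relIndex X ≤ A'.relIndex A := by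
  refine (relIndex_le_of_le' (le_sup_right (a := A'))).trans ?_
  have hcard := hA.2.2 (A' ⊔ X) (sup_le (hA'.trans hA.1) hXU)
    (isMulCommutative_sup ((hA'.trans (comm_le_centralizer hA.2.1)).trans (centralizer_le hA')) hX hc)
  refine Nat.le_of_mul_le_mul_left ?_ (Nat.card_pos (α := A'))
  rw [← relIndex_bot_left, relIndex_mul_relIndex _ _ _ bot_le le_sup_left,
    relIndex_mul_relIndex _ _ _ bot_le hA', relIndex_bot_left, relIndex_bot_left]
  exact hcard

/-- The elements of order dividing `p` of an abelian normal subgroup. -/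
def torsionOf (p : ℕ) (V : Subgroup G) (hV : V ≤ centralizer (V : Set G)) : Subgroup G where
  carrier := {v | v ∈ V ∧ v ^ p = 1}
  mul_mem' := by
    rintro a b ⟨ha, ha'⟩ ⟨hb, hb'⟩
    refine ⟨mul_mem ha hb, ?_⟩
    rw [(show Commute a b from mem_centralizer_iff.1 (hV hb) a ha).mul_pow, ha', hb', one_mul]
  one_mem' := ⟨one_mem V, one_pow p⟩
  inv_mem' := by rintro a ⟨ha, ha'⟩; exact ⟨inv_mem ha, by rw [inv_pow, ha', inv_one]⟩

theorem torsionOf_normal {V : Subgroup G} [V.Normal] (hV : V ≤ centralizer (V : Set G)) :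
    (torsionOf p V hV).Normal := by
  refine ⟨fun v hv g => ⟨‹V.Normal›.conj_mem v hv.1 g, ?_⟩⟩
  rw [conj_pow, hv.2, mul_one, mul_inv_cancel]

/-- A `p'`-element centralizing the elements of order `p` of an abelian `p`-group centralizes it. -/
theorem mem_centralizer_of_torsion {V : Subgroup G} [V.Normal] (hV : V ≤ centralizer (V : Set G))
    (hVp : IsPGroup p V) {x : G} (hx : (orderOf x).Coprime p)
    (hc : x ∈ centralizer (torsionOf p V hV : Set G)) : x ∈ centralizer (V : Set G) := by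
  have key : ∀ k : ℕ, ∀ v ∈ V, v ^ p ^ k = 1 → x * v = v * x := by
    intro k
    induction k with
    | zero =>
      intro v _ hv
      rw [pow_zero, pow_one] at hv
      subst hv; simp
    | succ k ih =>
      intro v hv hvk
      have h1 : x * v ^ p = v ^ p * x := ih _ (pow_mem hv p) (by rw [← pow_mul, ← pow_succ', hvk])
      set c := x * v * x⁻¹ * v⁻¹ with hcdef
      have hcW : c ∈ torsionOf p V hV := by
        have hv' : x * v * x⁻¹ ∈ V := ‹V.Normal›.conj_mem v hv x
        refine ⟨mul_mem hv' (inv_mem hv), ?_⟩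
        rw [hcdef, (show Commute (x * v * x⁻¹) v⁻¹ from mem_centralizer_iff.1 (hV (inv_mem hv)) _ hv').mul_pow,
          conj_pow, h1, mul_inv_cancel_right, inv_pow, mul_inv_cancel]
      have hxc : Commute x c := (mem_centralizer_iff.1 hc c hcW).symm
      have hpow : ∀ m : ℕ, x ^ m * v * (x ^ m)⁻¹ = c ^ m * v := by
        intro m
        induction m with
        | zero => simp
        | succ m ihm =>
          calc x ^ (m + 1) * v * (x ^ (m + 1))⁻¹ = x * (x ^ m * v * (x ^ m)⁻¹) * x⁻¹ := by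
                rw [pow_succ']; group
            _ = (x * c ^ m * x⁻¹) * (x * v * x⁻¹) := by rw [ihm]; group
            _ = c ^ m * (c * v) := by
                rw [(hxc.pow_right m).eq, mul_inv_cancel_right]
                congr 1
                rw [hcdef]; group
            _ = c ^ (m + 1) * v := by simp only [pow_succ, mul_assoc]
      have h2 := hpow (orderOf x)
      rw [pow_orderOf_eq_one, one_mul, inv_one, mul_one] at h2
      have h3 : c ^ orderOf x = 1 := right_eq_mul.1 h2
      have h4 : c = 1 := orderOf_eq_one_iff.1 (Nat.eq_one_of_dvd_coprimes hx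
        (orderOf_dvd_of_pow_eq_one h3) (orderOf_dvd_of_pow_eq_one hcW.2))
      rw [hcdef] at h4
      exact mul_inv_eq_iff_eq_mul.1 (mul_inv_eq_one.1 h4)
  refine mem_centralizer_iff.2 fun v hv => ?_
  obtain ⟨k, hk⟩ := hVp ⟨v, hv⟩
  exact (key k v hv (congrArg Subtype.val hk)).symm

variable {S : Sylow p G} {M : Subgroup G}
  {φ : G →* Matrix.ProjectiveSpecialLinearGroup (Fin 2) F}

namespace Sit

variable (h : Sit (F := F) S M φ n)
include h

theorem pCore_le : Cfsg.pCore p G ≤ (S : Subgroup G) := h.pCore_eq.le.trans inf_le_left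

theorem pCore_le_ker : Cfsg.pCore p G ≤ φ.ker := h.pCore_eq.le.trans inf_le_right

theorem center_le_pCore : (S : Subgroup G) ⊓ centralizer ((S : Subgroup G) : Set G) ≤ Cfsg.pCore p G :=
  (inf_le_right.trans (centralizer_le h.pCore_le)).trans h.charP

theorem inf_centralizer_le_pCore (V : Subgroup G) [V.Normal]
    (hV : ¬ Cfsg.pResidual p G ≤ centralizer (V : Set G)) :
    (S : Subgroup G) ⊓ centralizer (V : Set G) ≤ Cfsg.pCore p G :=
  h.inf_le_pCore_of_le ((h.residual_le_or _).resolve_left hV)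

theorem exists_conj_not_le : ∃ g : G, ¬ (S : Subgroup G).map (MulAut.conj g).toMonoidHom ≤ M := by
  by_contra hcon
  simp only [not_exists, not_not] at hcon
  have hNM : normalClosure ((S : Subgroup G) : Set G) ≤ M := by
    refine (closure_le _).2 ?_
    intro y hy
    obtain ⟨x, hx, hxy⟩ := Group.mem_conjugatesOfSet_iff.1 hy
    obtain ⟨g, rfl⟩ := isConj_iff.1 hxy
    exact hcon g ⟨x, hx, rfl⟩
  have h1 := (le_inf le_rfl subset_normalClosure).trans ((h.inf_le_pCore_of_le hNM).trans h.pCore_le_ker)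
  have h2 := h.card_map
  rw [(Subgroup.map_eq_bot_iff _).2 h1, card_bot] at h2
  have := Nat.one_lt_pow (by have := h.one_le; omega : n ≠ 0) (Fact.out : p.Prime).one_lt
  omega

/-- Baumann's lemma. -/
theorem baumann (hJ : ¬ Cfsg.thompsonSubgroupAOf (S : Subgroup G) ≤ φ.ker)
    (hZ : ¬ ((S : Subgroup G) ⊓ centralizer ((S : Subgroup G) : Set G)).Normal) :
    Cfsg.centerThompsonAOf (S : Subgroup G) ≤
        ((S : Subgroup G) ⊓ centralizer ((S : Subgroup G) : Set G)) ⊔
          (Cfsg.centerThompsonAOf (S : Subgroup G) ⊓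
            centralizer (Cfsg.pResidual p G : Set G)) ∧
      ∀ z ∈ (S : Subgroup G) ⊓ centralizer ((S : Subgroup G) : Set G),
        z ^ p ∈ centralizer (Cfsg.pResidual p G : Set G) := by
  set Z := (S : Subgroup G) ⊓ centralizer ((S : Subgroup G) : Set G) with hZdef
  set J := Cfsg.thompsonSubgroupAOf (S : Subgroup G) with hJdef
  set ZJ := Cfsg.centerThompsonAOf (S : Subgroup G) with hZJdef
  set Q := Cfsg.pCore p G with hQdef
  haveI hQn : Q.Normal := Cfsg.pCore_normal p G
  set V := normalClosure (Z : Set G) with hVdef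
  have hQS : Q ≤ (S : Subgroup G) := h.pCore_le
  have hQK : Q ≤ φ.ker := h.pCore_le_ker
  have hZV : Z ≤ V := subset_normalClosure
  have hVQ : V ≤ Q ⊓ centralizer (Q : Set G) := by
    haveI : (Q ⊓ centralizer (Q : Set G)).Normal := inferInstance
    exact normalClosure_le_normal (le_inf h.center_le_pCore (inf_le_right.trans (centralizer_le hQS)))
  have hVQ' : V ≤ Q := hVQ.trans inf_le_left
  have hVS : V ≤ (S : Subgroup G) := hVQ'.trans hQS
  have hVab : V ≤ centralizer (V : Set G) :=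
    (hVQ.trans inf_le_right).trans (centralizer_le hVQ')
  have hVp : IsPGroup p V := S.isPGroup'.to_le hVS
  set W := torsionOf p V hVab with hWdef
  haveI : W.Normal := torsionOf_normal hVab
  have hWV : W ≤ V := fun v hv => hv.1
  have hWe : ∀ w ∈ W, w ^ p = 1 := fun v hv => hv.2
  have hWab : W ≤ centralizer (W : Set G) := (hWV.trans hVab).trans (centralizer_le hWV)
  have hVc : ¬ Cfsg.pResidual p G ≤ centralizer (V : Set G) := fun hc =>
    hZ (h.normal_of_centralized (le_centralizer_iff.1 inf_le_right) (hc.trans (centralizer_le hZV)))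
  have hWc : ¬ Cfsg.pResidual p G ≤ centralizer (W : Set G) := fun hc => hVc ((closure_le _).2
    fun x hx => mem_centralizer_of_torsion hVab hVp hx (hc (Transfer.mem_pResidual_of_coprime hx)))
  obtain ⟨A, hA, hAK⟩ : ∃ A ∈ PLocal.maxAbIn (S : Subgroup G), ¬ A ≤ φ.ker := by
    by_contra hcon
    simp only [not_exists, not_and, not_not] at hcon
    exact hJ ((PLocal.thompsonAOf_eq _).le.trans (sSup_le hcon))
  obtain ⟨a, haA, ha⟩ := SetLike.not_le_iff_exists.1 hAK
  have haS : a ∈ (S : Subgroup G) := hA.1 haA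
  have ha1 : φ a ≠ 1 := fun e => ha (MonoidHom.mem_ker.2 e)
  have hAab := comm_le_centralizer hA.2.1
  set A' := A ⊓ φ.ker with hA'def
  have hA'Q : A' ≤ Q := (le_inf (inf_le_left.trans hA.1) inf_le_right).trans h.pCore_eq.ge
  -- the offender `A`
  have hA'V : A' ≤ centralizer (V : Set G) :=
    hA'Q.trans (le_centralizer_iff.1 (hVQ.trans inf_le_right))
  have hge : p ^ n ≤ A'.relIndex V := by
    calc p ^ n ≤ (W ⊓ centralizer ({a} : Set G)).relIndex W :=
          h.le_relIndex_centralizer hWe hWab hWc haS ha1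
      _ = (V ⊓ centralizer ({a} : Set G)).relIndex W := by
          rw [← inf_relIndex_right (V ⊓ _), inf_comm (V ⊓ _) W, ← inf_assoc, inf_eq_left.2 hWV]
      _ ≤ (V ⊓ centralizer ({a} : Set G)).relIndex V := relIndex_le_of_le' hWV
      _ ≤ (A' ⊓ V).relIndex V := Nat.le_of_dvd (relIndex_pos' _ _) (relIndex_dvd_of_le_left V
          (le_inf inf_le_right ((inf_le_left.trans inf_le_left).trans
            (hAab.trans (centralizer_le (Set.singleton_subset_iff.2 haA))))))
      _ = A'.relIndex V := inf_relIndex_right _ _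
  have hle : A'.relIndex V ≤ A'.relIndex A := relIndex_le_of_maxAb hA inf_le_left hVS hVab hA'V
  have hAq : A'.relIndex A ≤ p ^ n := h.relIndex_inf_ker_le hA.1
  have hSAQ : (S : Subgroup G) ≤ A ⊔ Q := h.sylow_le_sup hA.1 (hge.trans hle)
  have hZA : Z ≤ A := fun z hz =>
    PLocal.mem_maxAbIn_of_centralizes hA hz.1 (centralizer_le hA.1 hz.2)
  have hVA : A ⊓ V = Z := by
    refine le_antisymm ?_ (le_inf hZA hZV)
    intro v hv
    refine ⟨hA.1 hv.1, ?_⟩
    refine le_centralizer_iff.1 ?_ (mem_zpowers v)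
    refine hSAQ.trans (sup_le ?_ ?_)
    · exact hAab.trans (centralizer_le (zpowers_le.2 hv.1))
    · exact (le_centralizer_iff.1 (hVQ.trans inf_le_right)).trans (centralizer_le (zpowers_le.2 hv.2))
  have hA'V' : A' ⊓ V = Z := by
    rw [hA'def, inf_assoc, inf_eq_right.2 (hVQ'.trans hQK), hVA]
  have hZrel : Z.relIndex V = p ^ n := by
    rw [← hA'V', inf_relIndex_right]
    exact le_antisymm (hle.trans hAq) hge
  set A₀ := A' ⊔ V with hA₀def
  have hA₀ : A₀ ∈ PLocal.maxAbIn (S : Subgroup G) := by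
    refine ⟨sup_le (inf_le_left.trans hA.1) hVS, isMulCommutative_sup
      ((inf_le_left.trans hAab).trans (centralizer_le inf_le_left)) hVab hA'V,
      fun B hB hBc => (hA.2.2 B hB hBc).trans ?_⟩
    rw [← relIndex_bot_left (H := A), ← relIndex_mul_relIndex ⊥ A' A bot_le inf_le_left,
      ← relIndex_bot_left (H := A₀), ← relIndex_mul_relIndex ⊥ A' A₀ bot_le le_sup_left]
    exact Nat.mul_le_mul_left _ ((hAq.trans hge).trans (relIndex_le_of_le' le_sup_right))
  have hA₀Q : A₀ ≤ Q := sup_le hA'Q hVQ'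
  have hVJ : V ≤ J := le_sup_right.trans (PLocal.le_thompsonAOf hA₀)
  have hZJJ : ZJ ≤ centralizer (J : Set G) := inf_le_right
  have hZJQ : ZJ ≤ Q := (le_inf (PLocal.centerThompsonAOf_le _) (hZJJ.trans (centralizer_le hVJ))).trans
    (h.inf_centralizer_le_pCore V hVc)
  set Y := Cfsg.centerThompsonAOf Q with hYdef
  haveI hYn : Y.Normal := normalizer_eq_top_iff.1 (top_le_iff.1
    ((normalizer_eq_top_iff.2 hQn).ge.trans (PLocal.normalizer_le_normalizer_centerThompsonAOf Q)))
  have hJQ : Cfsg.thompsonSubgroupAOf Q ≤ J := by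
    rw [PLocal.thompsonAOf_eq]
    exact sSup_le fun B hB => PLocal.le_thompsonAOf ((PLocal.maxAbIn_of_le hQS hA₀ hA₀Q).1 hB).1
  have hA₀J : A₀ ≤ Cfsg.thompsonSubgroupAOf Q :=
    PLocal.le_thompsonAOf ((PLocal.maxAbIn_of_le hQS hA₀ hA₀Q).2 ⟨hA₀, hA₀Q⟩)
  have hYQ : Y ≤ Q := PLocal.centerThompsonAOf_le Q
  have hZJY : ZJ ≤ Y := fun z hz =>
    PLocal.mem_centerThompsonAOf (hZJQ hz) (centralizer_le hJQ (hZJJ hz))
  have hVY : V ≤ Y := fun v hv => PLocal.mem_centerThompsonAOf (hVQ' hv)
    (centralizer_le (PLocal.thompsonAOf_le Q) (hVQ hv).2)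
  have hYA' : A' ≤ centralizer (Y : Set G) :=
    (le_sup_left.trans hA₀J).trans (le_centralizer_iff.1 inf_le_right)
  have hY : Y ≤ V ⊔ (A' ⊓ Y) := by
    set P := A' ⊓ Y with hP
    have h1 : p ^ n ≤ P.relIndex (V ⊔ P) := by
      refine le_trans ?_ (relIndex_le_of_le' le_sup_left)
      rw [← hZrel, ← inf_relIndex_right P V, hP, inf_assoc, inf_eq_right.2 hVY, hA'V']
    have h2 : P.relIndex Y ≤ p ^ n := by
      rw [hP, inf_relIndex_right]
      exact (relIndex_le_of_maxAb hA inf_le_left (hYQ.trans hQS)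
        (comm_le_centralizer (PLocal.centerThompsonAOf_comm Q)) hYA').trans hAq
    rw [← relIndex_mul_relIndex P (V ⊔ P) Y le_sup_right (sup_le hVY inf_le_right)] at h2
    have h3 := relIndex_pos' (V ⊔ P) Y
    have h4 : 0 < p ^ n := pow_pos (Fact.out : p.Prime).pos n
    have h5 : (V ⊔ P).relIndex Y = 1 := by nlinarith
    exact relIndex_eq_one.1 h5
  -- `O^p(G)` is trivial on `Y / V`
  set N₀ := (centralizer ((Y.map (QuotientGroup.mk' V) : Subgroup (G ⧸ V)) : Set (G ⧸ V))).comap
    (QuotientGroup.mk' V) with hN₀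
  haveI : (Y.map (QuotientGroup.mk' V)).Normal :=
    Subgroup.Normal.map hYn _ (QuotientGroup.mk'_surjective V)
  have hLN : Cfsg.pResidual p G ≤ N₀ := by
    refine h.residual_le_of_not_le_ker N₀ haS ?_ ha1
    refine mem_comap.2 (mem_centralizer_iff.2 ?_)
    rintro _ ⟨y, hy, rfl⟩
    obtain ⟨v, hv, u, hu, rfl⟩ := mem_sup_of_normal_left.1 (hY hy)
    have hv1 : QuotientGroup.mk' V v = 1 := (QuotientGroup.eq_one_iff v).2 hv
    rw [map_mul, hv1, one_mul, ← map_mul, ← map_mul,
      mem_centralizer_iff.1 (hAab haA) u (inf_le_left (b := φ.ker) hu.1)]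
  set U := ZJ ⊔ V with hUdef
  have hSU : (S : Subgroup G) ≤ normalizer (U : Set G) :=
    CfsgLib.Comp.le_normalizer_sup
      (Subgroup.le_normalizer.trans (PLocal.normalizer_le_normalizer_centerThompsonAOf _))
      (CfsgLib.Comp.le_normalizer_of_normal' _ _)
  have hLU : Cfsg.pResidual p G ≤ normalizer (U : Set G) := by
    have key : ∀ l ∈ Cfsg.pResidual p G, ∀ u ∈ U, l * u * l⁻¹ ∈ U := by
      intro l hl u hu
      have hle' : U ≤ U.comap (MulAut.conj l).toMonoidHom := by
        refine sup_le (fun z hz => ?_) (fun v hv => ?_)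
        · refine mem_comap.2 ?_
          show l * z * l⁻¹ ∈ U
          have h1 := mem_centralizer_iff.1 (mem_comap.1 (hLN hl)) _ ⟨z, hZJY hz, rfl⟩
          have h2 : l * z * l⁻¹ * z⁻¹ ∈ V := by
            rw [← QuotientGroup.eq_one_iff]
            show QuotientGroup.mk' V (l * z * l⁻¹ * z⁻¹) = 1
            rw [map_mul, map_mul, map_mul, map_inv, map_inv, ← h1, mul_inv_cancel_right, mul_inv_cancel]
          have := mul_mem (mem_sup_right (S := ZJ) h2) (mem_sup_left (T := V) hz)
          simpa [mul_assoc] using this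
        · exact mem_comap.2 (mem_sup_right (S := ZJ) ((inferInstance : V.Normal).conj_mem v hv l))
      exact hle' hu
    intro l hl
    rw [mem_normalizer_iff]
    refine fun u => ⟨key l hl u, fun hu => ?_⟩
    simpa [mul_assoc] using key l⁻¹ (inv_mem hl) _ hu
  haveI hUn : U.Normal := normalizer_eq_top_iff.1 (top_le_iff.1
    ((CfsgLib.Transfer.pResidual_sup_sylow S).ge.trans (sup_le hLU hSU)))
  -- two Thompson subgroups
  obtain ⟨g, hg⟩ := h.exists_conj_not_le
  set c := (MulAut.conj g).toMonoidHom with hc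
  set D := J ⊔ J.map c with hD
  have hQfix : Q.map c = Q := CfsgLib.Comp.map_conj_eq_iff.2 (by rw [normalizer_eq_top]; trivial)
  have hAJ : A ≤ J := PLocal.le_thompsonAOf hA
  have hSD : (S : Subgroup G) ≤ D ⊔ Q := hSAQ.trans (sup_le_sup_right (hAJ.trans le_sup_left) Q)
  have hSD' : (S : Subgroup G).map c ≤ D ⊔ Q := by
    refine (map_mono hSAQ).trans ?_
    rw [Subgroup.map_sup, hQfix]
    exact sup_le_sup_right ((map_mono hAJ).trans le_sup_right) Q
  have hDQ : D ⊔ Q = ⊤ := by
    by_contra hne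
    exact hg (hSD'.trans (h.le_of_ne_top hSD hne))
  have hQJ : Q ≤ normalizer (J : Set G) := hQS.trans
    (Subgroup.le_normalizer.trans (PLocal.normalizer_le_normalizer_thompsonAOf _))
  have hQJg : Q ≤ normalizer ((J.map c : Subgroup G) : Set G) :=
    hQfix.ge.trans ((map_mono hQJ).trans (le_normalizer_map c))
  haveI hDn : D.Normal := normalizer_eq_top_iff.1 (top_le_iff.1
    (hDQ.ge.trans (sup_le Subgroup.le_normalizer (CfsgLib.Comp.le_normalizer_sup hQJ hQJg))))
  have hLD : Cfsg.pResidual p G ≤ D := by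
    refine CfsgLib.Transfer.pResidual_le_of_isPGroup_quotient (IsPGroup.of_surjective
      (CfsgLib.Amalgam.isPGroup_pCore (G := G) (p := p)) ((QuotientGroup.mk' D).comp Q.subtype)
      fun q => ?_)
    obtain ⟨x, rfl⟩ := QuotientGroup.mk'_surjective D q
    obtain ⟨d, hd, b, hb, rfl⟩ := mem_sup_of_normal_left.1 (hDQ ▸ mem_top x : x ∈ D ⊔ Q)
    exact ⟨⟨b, hb⟩, by simp [(QuotientGroup.eq_one_iff d).2 hd]⟩
  set C₀ := ZJ ⊓ ZJ.map c with hC₀
  have hZJJg : ZJ.map c ≤ centralizer ((J.map c : Subgroup G) : Set G) := by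
    rintro _ ⟨z, hz, rfl⟩
    refine mem_centralizer_iff.2 ?_
    rintro _ ⟨j, hj, rfl⟩
    rw [← map_mul, ← map_mul, mem_centralizer_iff.1 (hZJJ hz) j hj]
  have hC₀D : C₀ ≤ centralizer (D : Set G) := le_centralizer_iff.1 (sup_le
    (le_centralizer_iff.1 (inf_le_left.trans hZJJ))
    (le_centralizer_iff.1 (inf_le_right.trans hZJJg)))
  have hZZJ : Z ≤ ZJ := fun z hz =>
    PLocal.mem_centerThompsonAOf hz.1 (centralizer_le (PLocal.thompsonAOf_le _) hz.2)
  have hUrel : ZJ.relIndex U = p ^ n := by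
    rw [hUdef, relIndex_sup_of_le_normalizer ((hVJ.trans (le_centralizer_iff.1 hZJJ)).trans
      (centralizer_le_normalizer _)), ← inf_relIndex_right, ← hZrel]
    congr 1
    refine le_antisymm ?_ (le_inf hZZJ hZV)
    intro z hz
    rw [← hVA]
    exact ⟨PLocal.mem_maxAbIn_of_centralizes hA (hVS hz.2) (centralizer_le hAJ (hZJJ hz.1)), hz.2⟩
  have hC₀rel : C₀.relIndex ZJ ≤ p ^ n := by
    rw [hC₀, inf_relIndex_left, ← hUrel]
    refine (relIndex_le_of_le' (le_sup_left (b := V))).trans (le_of_eq ?_)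
    have hUfix : U.map c = U := CfsgLib.Comp.map_conj_eq_iff.2 (by rw [normalizer_eq_top]; trivial)
    have := relIndex_map_map_of_injective ZJ U (f := c) (MulAut.conj g).injective
    rwa [hUfix] at this
  have hsq : (p ^ n) ^ 2 ≤ (W ⊓ centralizer (D : Set G)).relIndex W := by
    refine h.sq_le_relIndex_sup hWe hWab hWc
      (S.isPGroup'.to_le (PLocal.thompsonAOf_le _))
      ((S.isPGroup'.to_le (PLocal.thompsonAOf_le _)).map c) ?_
    exact top_le_iff.1 (hDQ.ge.trans (sup_le_sup_left hQK _))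
  set P := C₀ ⊓ Z with hP
  have hPW : (p ^ n) ^ 2 ≤ P.relIndex W := by
    refine hsq.trans ?_
    rw [← inf_relIndex_left W, ← inf_assoc, inf_idem, ← inf_relIndex_right P W]
    exact Nat.le_of_dvd (relIndex_pos' _ _) (relIndex_dvd_of_le_left W
      (le_inf inf_le_right ((inf_le_left.trans inf_le_left).trans hC₀D)))
  have hPV : P.relIndex V = C₀.relIndex Z * p ^ n := by
    rw [← hZrel, ← relIndex_mul_relIndex P Z V inf_le_right hZV, hP, inf_relIndex_right]
  have hC₀Z : p ^ n ≤ C₀.relIndex Z := by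
    have h1 : (p ^ n) ^ 2 ≤ C₀.relIndex Z * p ^ n := hPV ▸ hPW.trans (relIndex_le_of_le' hWV)
    rw [sq] at h1
    exact Nat.le_of_mul_le_mul_right h1 (pow_pos (Fact.out : p.Prime).pos n)
  have hsplit : ZJ ≤ Z ⊔ C₀ := by
    have h1 : p ^ n ≤ C₀.relIndex (Z ⊔ C₀) := hC₀Z.trans (relIndex_le_of_le' le_sup_left)
    have h2 := hC₀rel
    rw [← relIndex_mul_relIndex C₀ (Z ⊔ C₀) ZJ le_sup_right (sup_le hZZJ inf_le_left)] at h2
    have h3 := relIndex_pos' (Z ⊔ C₀) ZJ
    have h4 : 0 < p ^ n := pow_pos (Fact.out : p.Prime).pos n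
    have h5 : (Z ⊔ C₀).relIndex ZJ = 1 := by nlinarith
    exact relIndex_eq_one.1 h5
  have hC₀L : C₀ ≤ centralizer (Cfsg.pResidual p G : Set G) := hC₀D.trans (centralizer_le hLD)
  refine ⟨hsplit.trans (sup_le_sup_left (le_inf inf_le_left hC₀L) Z), fun z hz => ?_⟩
  have hVW : V ≤ W ⊔ P := by
    have h1 : P.relIndex V ≤ (p ^ n) ^ 2 := by
      rw [hPV, sq]
      exact Nat.mul_le_mul_right _ ((relIndex_le_of_le' hZZJ).trans hC₀rel)
    rw [← relIndex_mul_relIndex P (W ⊔ P) V le_sup_right (sup_le hWV (inf_le_right.trans hZV))] at h1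
    have h2 := hPW.trans (relIndex_le_of_le' (le_sup_left (b := P)))
    have h3 := relIndex_pos' (W ⊔ P) V
    have h4 : 0 < (p ^ n) ^ 2 := pow_pos (pow_pos (Fact.out : p.Prime).pos n) 2
    have h5 : (W ⊔ P).relIndex V = 1 := by nlinarith
    exact relIndex_eq_one.1 h5
  obtain ⟨w, hw, d, hd, rfl⟩ := mem_sup_of_normal_left.1 (hVW (hZV hz))
  have hwd : Commute w d := mem_centralizer_iff.1 (hVab (hZV hd.2)) w (hWV hw)
  rw [hwd.mul_pow, hWe w hw, one_mul]
  exact pow_mem (hC₀L hd.1) p

theorem exists_mem_sylow_not_ker : ∃ a ∈ (S : Subgroup G), φ a ≠ 1 := by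
  by_contra hcon
  simp only [not_exists, not_and, not_not] at hcon
  have h2 := h.card_map
  rw [(Subgroup.map_eq_bot_iff _).2 (fun a ha => MonoidHom.mem_ker.2 (hcon a ha)), card_bot] at h2
  have := Nat.one_lt_pow (by have := h.one_le; omega : n ≠ 0) (Fact.out : p.Prime).one_lt
  omega

/-- A normal `Z(S)` is central. -/
theorem residual_centralizes_center
    (hZ : ((S : Subgroup G) ⊓ centralizer ((S : Subgroup G) : Set G)).Normal) :
    Cfsg.pResidual p G ≤
      centralizer (((S : Subgroup G) ⊓ centralizer ((S : Subgroup G) : Set G) : Subgroup G) : Set G) := by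
  haveI := hZ
  obtain ⟨a, haS, ha⟩ := h.exists_mem_sylow_not_ker
  exact h.residual_le_of_not_le_ker _ haS (le_centralizer_iff.1 inf_le_right haS) ha

theorem centerThompson_normal (hJ : Cfsg.thompsonSubgroupAOf (S : Subgroup G) ≤ φ.ker) :
    (Cfsg.centerThompsonAOf (S : Subgroup G)).Normal := by
  have hJQ : Cfsg.thompsonSubgroupAOf (S : Subgroup G) ≤ Cfsg.pCore p G :=
    (le_inf (PLocal.thompsonAOf_le _) hJ).trans h.pCore_eq.ge
  have heq : Cfsg.centerThompsonAOf (Cfsg.pCore p G) = Cfsg.centerThompsonAOf (S : Subgroup G) := by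
    unfold Cfsg.centerThompsonAOf
    rw [PLocal.thompsonAOf_eq_of_le hJQ h.pCore_le]
  rw [← heq]
  exact normalizer_eq_top_iff.1 (top_le_iff.1 ((normalizer_eq_top_iff.2 (Cfsg.pCore_normal p G)).ge.trans
    (PLocal.normalizer_le_normalizer_centerThompsonAOf _)))

theorem center_le_centerThompson :
    (S : Subgroup G) ⊓ centralizer ((S : Subgroup G) : Set G) ≤ Cfsg.centerThompsonAOf (S : Subgroup G) :=
  fun _ hz => PLocal.mem_centerThompsonAOf hz.1 (centralizer_le (PLocal.thompsonAOf_le _) hz.2)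

/-- If `O^p(G)` does not centralize `Z(J(S))` and `J(S) ≤ K` then `J̃(S)` is normal. -/
theorem jTilde_normal_of_le_ker (hJ : Cfsg.thompsonSubgroupAOf (S : Subgroup G) ≤ φ.ker)
    (hc : ¬ Cfsg.pResidual p G ≤ centralizer (Cfsg.centerThompsonAOf (S : Subgroup G) : Set G)) :
    ((S : Subgroup G) ⊓ centralizer (Cfsg.centerThompsonAOf (S : Subgroup G) : Set G)).Normal := by
  haveI := h.centerThompson_normal hJ
  haveI := Cfsg.pCore_normal p G
  have : (S : Subgroup G) ⊓ centralizer (Cfsg.centerThompsonAOf (S : Subgroup G) : Set G) =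
      Cfsg.pCore p G ⊓ centralizer (Cfsg.centerThompsonAOf (S : Subgroup G) : Set G) :=
    le_antisymm (le_inf (h.inf_centralizer_le_pCore _ hc) inf_le_right) (inf_le_inf_right _ h.pCore_le)
  rw [this]
  infer_instance

/-- `O^p(G) ∩ S` centralizes `Z(J(S))` when `Z(S)` is not normal and `J(S) ≰ K`. -/
theorem residual_inf_le_jTilde (hJ : ¬ Cfsg.thompsonSubgroupAOf (S : Subgroup G) ≤ φ.ker)
    (hZ : ¬ ((S : Subgroup G) ⊓ centralizer ((S : Subgroup G) : Set G)).Normal) :
    Cfsg.pResidual p G ⊓ (S : Subgroup G) ≤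
      (S : Subgroup G) ⊓ centralizer (Cfsg.centerThompsonAOf (S : Subgroup G) : Set G) :=
  le_inf inf_le_right (le_centralizer_iff.1 ((h.baumann hJ hZ).1.trans (sup_le
    (inf_le_right.trans (centralizer_le inf_le_right)) (inf_le_right.trans (centralizer_le inf_le_left)))))

end Sit

end CfsgLib.ClassK.Push
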