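import Cfsg.Agent.Lib.ClassK.PushModule

/-!
Families of pushing-up groups sharing a Sylow subgroup inside an ambient group: two modules with
distance at least three never fail to commute, so a critical distance is at most two.
-/

set_option autoImplicit false
set_option linter.style.haveILetI false
set_option linter.unusedSectionVars false
set_option maxHeartbeats 1000000

namespace CfsgLib.ClassK.Push

open Subgroup
open scoped Pointwise commutatorElement

variable {P : Type*} [Group P] {ι : Type*}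

/-- Conjugate subgroup. -/
def cj (x : P) (H : Subgroup P) : Subgroup P := H.map (MulAut.conj x).toMonoidHom

theorem mem_cj {x y : P} {H : Subgroup P} : y ∈ cj x H ↔ x⁻¹ * y * x ∈ H := by
  rw [cj, Subgroup.mem_map_equiv, MulAut.conj_symm_apply]

theorem cj_mul (x y : P) (H : Subgroup P) : cj (x * y) H = cj x (cj y H) := by
  ext z
  simp only [mem_cj, mul_inv_rev, mul_assoc]

theorem cj_mono {x : P} {H K : Subgroup P} (h : H ≤ K) : cj x H ≤ cj x K := map_mono h

theorem cj_eq_self {x : P} {H : Subgroup P} (h : x ∈ normalizer (H : Set P)) : cj x H = H :=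
  CfsgLib.Comp.map_conj_eq_iff.2 h

theorem conj_mem_cj {x y : P} {H : Subgroup P} (h : y ∈ H) : x * y * x⁻¹ ∈ cj x H :=
  ⟨y, h, rfl⟩

theorem zOf_cj (x : P) (H : Subgroup P) : zOf (cj x H) = cj x (zOf H) :=
  (map_inf_centralizer (MulAut.conj x).injective H).symm

theorem cj_le_normalizer_cj (x : P) {H K : Subgroup P} (h : H ≤ normalizer (K : Set P)) :
    cj x H ≤ normalizer (cj x K : Set P) :=
  (cj_mono h).trans (Subgroup.le_normalizer_map _)

theorem commutatorElement_conj (x a b : P) :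
    ⁅x * a * x⁻¹, x * b * x⁻¹⁆ = x * ⁅a, b⁆ * x⁻¹ := by
  simp [commutatorElement_def, mul_assoc]

/-- A family of groups with common Sylow subgroup `S` and module data. -/
structure Fam (P : Type*) [Group P] (ι : Type*) (p : ℕ) (q : ι → ℕ) where
  S : Subgroup P
  G : ι → Subgroup P
  Q : ι → Subgroup P
  V : ι → Subgroup P
  one_lt : ∀ i, 1 < q i
  S_le : ∀ i, S ≤ G i
  Q_le : ∀ i, Q i ≤ S
  Q_norm : ∀ i, G i ≤ normalizer (Q i : Set P)
  V_norm : ∀ i, G i ≤ normalizer (V i : Set P)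
  V_le : ∀ i, V i ≤ Q i
  V_cent : ∀ i, V i ≤ centralizer (Q i : Set P)
  exp : ∀ i, ∀ v ∈ V i, v ^ p = 1
  center_le : ∀ i, zOf S ≤ V i
  fix : ∀ i, ∀ a ∈ S, a ∉ Q i → V i ⊓ centralizer ({a} : Set P) ≤ zOf S
  comm_mem : ∀ i, ∀ v ∈ V i, ∀ a ∈ S, ⁅v, a⁆ ∈ zOf S
  comm_fix : ∀ i, ∀ v ∈ V i, ∀ a ∈ S, ⁅v, a⁆ ∈ centralizer (G i : Set P) → ⁅v, a⁆ = 1
  relV : ∀ i, (zOf S).relIndex (V i) = q i
  relQ : ∀ i, (Q i).relIndex S = q i
  gen : ∀ i, ∀ x ∈ G i, cj x (zOf S) ≠ zOf S → ∀ a ∈ cj x S, a ∉ Q i → G i ≤ S ⊔ zpowers a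
  opp : ∀ i, ∃ x ∈ G i, cj x (zOf S) ≠ zOf S

namespace Fam

variable {p : ℕ} {q : ι → ℕ} (D : Fam P ι p q)

/-- The element `k` is an edge at the vertex `v = (i, x)`. -/
def In (v : ι × P) (k : P) : Prop := v.2⁻¹ * k ∈ D.G v.1

/-- The group of a vertex. -/
def Gv (v : ι × P) : Subgroup P := cj v.2 (D.G v.1)

/-- The `p`-core of a vertex. -/
def Qv (v : ι × P) : Subgroup P := cj v.2 (D.Q v.1)

/-- The module of a vertex. -/
def Vv (v : ι × P) : Subgroup P := cj v.2 (D.V v.1)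

/-- The Sylow subgroup of an edge. -/
def Sv (k : P) : Subgroup P := cj k D.S

/-- The centre of the Sylow subgroup of an edge. -/
def Zv (k : P) : Subgroup P := cj k (zOf D.S)

/-- `i` moves the module of `j`. -/
def NatRel (i j : ι) : Prop := ¬ D.G i ≤ normalizer ((D.V i ⊔ D.V j : Subgroup P) : Set P)

/-- A path with its edges. -/
def Path (f : ℕ → ι × P) (e : ℕ → P) (m : ℕ) : Prop :=
  ∀ i < m, D.In (f i) (e i) ∧ D.In (f (i + 1)) (e i)

/-- Modules at distance less than `b` commute. -/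
def Below (b : ℕ) : Prop :=
  ∀ m < b, ∀ f e, D.Path f e m → D.Vv (f 0) ≤ centralizer (D.Vv (f m) : Set P)

/-- A shortest path between noncommuting modules. -/
def Crit (b : ℕ) (f : ℕ → ι × P) (e : ℕ → P) : Prop :=
  D.Path f e b ∧ ¬ D.Vv (f 0) ≤ centralizer (D.Vv (f b) : Set P)

variable {D} [Finite P]

theorem cj_eq_of_in {v : ι × P} {k : P} (h : D.In v k) {H : Subgroup P}
    (hn : D.G v.1 ≤ normalizer (H : Set P)) : cj v.2 H = cj k H := by
  conv_rhs => rw [← mul_inv_cancel_left v.2 k, cj_mul, cj_eq_self (hn h)]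

theorem Gv_eq {v : ι × P} {k : P} (h : D.In v k) : D.Gv v = cj k (D.G v.1) :=
  cj_eq_of_in h Subgroup.le_normalizer

theorem Qv_eq {v : ι × P} {k : P} (h : D.In v k) : D.Qv v = cj k (D.Q v.1) :=
  cj_eq_of_in h (D.Q_norm _)

theorem Vv_eq {v : ι × P} {k : P} (h : D.In v k) : D.Vv v = cj k (D.V v.1) :=
  cj_eq_of_in h (D.V_norm _)

theorem Zv_eq (k : P) : D.Zv k = zOf (D.Sv k) := (zOf_cj k D.S).symm

theorem Zv_le_Sv (k : P) : D.Zv k ≤ D.Sv k := cj_mono (zOf_le _)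

theorem commute_Zv_Sv {k z s : P} (hz : z ∈ D.Zv k) (hs : s ∈ D.Sv k) : s * z = z * s :=
  ((D.Zv_eq k).le hz).2 s hs

theorem Qv_norm (v : ι × P) : D.Gv v ≤ normalizer (D.Qv v : Set P) :=
  cj_le_normalizer_cj _ (D.Q_norm _)

theorem Vv_norm (v : ι × P) : D.Gv v ≤ normalizer (D.Vv v : Set P) :=
  cj_le_normalizer_cj _ (D.V_norm _)

theorem Vv_le (v : ι × P) : D.Vv v ≤ D.Qv v := cj_mono (D.V_le _)

theorem Vv_cent (v : ι × P) : D.Vv v ≤ centralizer (D.Qv v : Set P) := by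
  rintro _ ⟨x, hx, rfl⟩ _ ⟨y, hy, rfl⟩
  rw [← map_mul, ← map_mul, D.V_cent _ hx y hy]

theorem Vv_comm (v : ι × P) : D.Vv v ≤ centralizer (D.Vv v : Set P) :=
  (D.Vv_cent v).trans (centralizer_le (D.Vv_le v))

section Edge

variable {v : ι × P} {k : P} (hk : D.In v k)
include hk

theorem Sv_le : D.Sv k ≤ D.Gv v := (cj_mono (D.S_le _)).trans (Gv_eq hk).ge

theorem Qv_le : D.Qv v ≤ D.Sv k := (Qv_eq hk).le.trans (cj_mono (D.Q_le _))

theorem Zv_le : D.Zv k ≤ D.Vv v := (cj_mono (D.center_le _)).trans (Vv_eq hk).ge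

theorem fix_edge {a : P} (ha : a ∈ D.Sv k) (haQ : a ∉ D.Qv v) {w : P} (hw : w ∈ D.Vv v)
    (hwa : w * a = a * w) : w ∈ D.Zv k := by
  rw [Qv_eq hk] at haQ
  rw [Vv_eq hk] at hw
  obtain ⟨a₀, ha₀, rfl⟩ := ha
  obtain ⟨w₀, hw₀, rfl⟩ := hw
  refine mem_map_of_mem _ (D.fix v.1 a₀ ha₀ (fun e => haQ (mem_map_of_mem _ e))
    ⟨hw₀, mem_centralizer_singleton_iff.2 ((MulAut.conj k).injective ?_)⟩)
  rw [map_mul, map_mul]
  exact hwa

theorem comm_mem_edge {w a : P} (hw : w ∈ D.Vv v) (ha : a ∈ D.Sv k) : ⁅w, a⁆ ∈ D.Zv k := by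
  rw [Vv_eq hk] at hw
  obtain ⟨a₀, ha₀, rfl⟩ := ha
  obtain ⟨w₀, hw₀, rfl⟩ := hw
  rw [← map_commutatorElement]
  exact mem_map_of_mem _ (D.comm_mem v.1 w₀ hw₀ a₀ ha₀)

theorem comm_fix_edge {w a : P} (hw : w ∈ D.Vv v) (ha : a ∈ D.Sv k)
    (hc : ⁅w, a⁆ ∈ centralizer (D.Gv v : Set P)) : ⁅w, a⁆ = 1 := by
  rw [Vv_eq hk] at hw
  rw [Gv_eq hk] at hc
  obtain ⟨a₀, ha₀, rfl⟩ := ha
  obtain ⟨w₀, hw₀, rfl⟩ := hw
  rw [← map_commutatorElement] at hc ⊢
  rw [D.comm_fix v.1 w₀ hw₀ a₀ ha₀ (fun g hg => (MulAut.conj k).injective ?_), map_one]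
  rw [map_mul, map_mul]
  exact hc _ (mem_map_of_mem _ hg)

theorem relV_edge : (D.Zv k).relIndex (D.Vv v) = q v.1 := by
  rw [Vv_eq hk, Zv, cj, cj, relIndex_map_map_of_injective _ _ (MulAut.conj k).injective, D.relV]

theorem relQ_edge : (D.Qv v).relIndex (D.Sv k) = q v.1 := by
  rw [Qv_eq hk, Sv, cj, cj, relIndex_map_map_of_injective _ _ (MulAut.conj k).injective, D.relQ]

theorem gen_edge {k' : P} (hk' : D.In v k') (hne : D.Zv k' ≠ D.Zv k) {a : P} (ha : a ∈ D.Sv k')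
    (haQ : a ∉ D.Qv v) : D.Gv v ≤ D.Sv k ⊔ zpowers a := by
  have hx : k⁻¹ * k' ∈ D.G v.1 := by
    have := mul_mem (inv_mem hk) hk'
    simpa [mul_assoc] using this
  have h := D.gen v.1 _ hx (fun e => hne (by
      rw [Zv, Zv, ← mul_inv_cancel_left k k', cj_mul, e])) (k⁻¹ * a * k) (by
      rw [mem_cj]
      simpa [mul_assoc, Sv, mem_cj] using ha) (fun e => haQ (by
      rw [Qv_eq hk, mem_cj]; exact e))
  rw [Gv_eq hk]
  refine (cj_mono h).trans ?_
  rw [cj, Subgroup.map_sup, MonoidHom.map_zpowers]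
  refine sup_le_sup le_rfl (zpowers_le.2 ?_)
  show k * (k⁻¹ * a * k) * k⁻¹ ∈ zpowers a
  rw [show k * (k⁻¹ * a * k) * k⁻¹ = a by group]
  exact mem_zpowers a

theorem exists_opp : ∃ k', D.In v k' ∧ D.Zv k' ≠ D.Zv k := by
  obtain ⟨x, hx, hne⟩ := D.opp v.1
  refine ⟨k * x, by simpa [In, mul_assoc] using mul_mem hk hx, fun e => hne ?_⟩
  rw [Zv, Zv, cj_mul] at e
  exact map_injective (MulAut.conj k).injective e

theorem mem_Qv_of_commute {a : P} (ha : a ∈ D.Sv k) (hc : ∀ w ∈ D.Vv v, w * a = a * w) :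
    a ∈ D.Qv v := by
  by_contra haQ
  have hle : D.Vv v ≤ D.Zv k := fun w hw => fix_edge hk ha haQ hw (hc w hw)
  have := relV_edge hk
  rw [relIndex_eq_one.2 hle] at this
  exact (D.one_lt _).ne this

theorem natRel_edge {w : ι × P} (hw : D.In w k) :
    D.Gv v ≤ normalizer ((D.Vv v ⊔ D.Vv w : Subgroup P) : Set P) ↔ ¬ D.NatRel v.1 w.1 := by
  rw [NatRel, not_not, Gv_eq hk, Vv_eq hk, Vv_eq hw]
  constructor
  · intro h g hg
    have h1 := h (conj_mem_cj (x := k) hg)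
    simp only [cj, ← Subgroup.map_sup] at h1
    refine CfsgLib.Comp.map_conj_eq_iff.1
      (map_injective (f := (MulAut.conj k).toMonoidHom) (MulAut.conj k).injective ?_)
    have h2 : cj (k * g * k⁻¹) (cj k (D.V v.1 ⊔ D.V w.1)) = cj k (D.V v.1 ⊔ D.V w.1) := cj_eq_self h1
    rw [← cj_mul, inv_mul_cancel_right, cj_mul] at h2
    exact h2
  · intro h
    simp only [cj, ← Subgroup.map_sup]
    exact cj_le_normalizer_cj _ h

end Edge

theorem natRel_iff {v w : ι × P} {k : P} (hv : D.In v k) (hw : D.In w k) :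
    D.NatRel v.1 w.1 ↔ ¬ D.Gv v ≤ normalizer ((D.Vv v ⊔ D.Vv w : Subgroup P) : Set P) := by
  rw [natRel_edge hv hw, not_not]

theorem In_translate {v : ι × P} {k : P} (g : P) (h : D.In v k) :
    D.In (v.1, g * v.2) (g * k) := by
  simpa [In, mul_assoc] using h

theorem Vv_translate (g : P) (v : ι × P) : D.Vv (v.1, g * v.2) = cj g (D.Vv v) := cj_mul _ _ _

theorem Path.reverse {f : ℕ → ι × P} {e : ℕ → P} {m : ℕ} (h : D.Path f e m) :
    D.Path (fun i => f (m - i)) (fun i => e (m - 1 - i)) m := by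
  intro i hi
  obtain ⟨h1, h2⟩ := h (m - 1 - i) (by omega)
  refine ⟨?_, ?_⟩
  · show D.In (f (m - i)) (e (m - 1 - i))
    rw [show m - i = m - 1 - i + 1 by omega]; exact h2
  · show D.In (f (m - (i + 1))) (e (m - 1 - i))
    rw [show m - (i + 1) = m - 1 - i by omega]; exact h1

theorem Crit.reverse {b : ℕ} {f : ℕ → ι × P} {e : ℕ → P} (h : D.Crit b f e) :
    D.Crit b (fun i => f (b - i)) (fun i => e (b - 1 - i)) := by
  refine ⟨h.1.reverse, ?_⟩
  simp only [Nat.sub_zero, Nat.sub_self]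
  exact fun hc => h.2 (le_centralizer_iff.1 hc)

theorem Below.commute {b : ℕ} (hB : D.Below b) {s : ℕ → ι × P} {e : ℕ → P} {c m : ℕ}
    (hp : ∀ i < m, D.In (s (c + i)) (e (c + i)) ∧ D.In (s (c + i + 1)) (e (c + i))) (hm : m < b) :
    D.Vv (s c) ≤ centralizer (D.Vv (s (c + m)) : Set P) :=
  hB m hm (fun i => s (c + i)) (fun i => e (c + i)) hp

theorem Below.le_Qv {b : ℕ} (hB : D.Below b) {f : ℕ → ι × P} {e : ℕ → P} :
    ∀ m, m < b → D.Path f e m → D.Vv (f 0) ≤ D.Qv (f m) := by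
  intro m
  induction m with
  | zero => exact fun _ _ => D.Vv_le _
  | succ m ih =>
    intro hm hp a ha
    have h1 := ih (by omega) (fun i hi => hp i (by omega)) ha
    obtain ⟨h2, h3⟩ := hp m (by omega)
    exact mem_Qv_of_commute h3 (Qv_le h2 h1) fun w hw => hB _ hm f e hp ha w hw

theorem Below.le_Sv {b : ℕ} (hB : D.Below b) {f : ℕ → ι × P} {e : ℕ → P} {m : ℕ}
    (hm : m < b) (hp : D.Path f e (m + 1)) : D.Vv (f 0) ≤ D.Sv (e m) :=
  (hB.le_Qv m hm fun i hi => hp i (by omega)).trans (Qv_le (hp m (by omega)).1)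

section Crit

variable {b : ℕ} (hB : D.Below b) {f : ℕ → ι × P} {e : ℕ → P} (hf : D.Crit b f e)
include hB hf

theorem Crit.pos : 0 < b := by
  rcases Nat.eq_zero_or_pos b with h | h
  · subst h; exact absurd (D.Vv_comm _) hf.2
  · exact h

theorem Crit.le_last : D.Vv (f 0) ≤ D.Sv (e (b - 1)) := by
  have hb := hf.pos hB
  refine hB.le_Sv (by omega) ?_
  rw [Nat.sub_add_cancel hb]; exact hf.1

theorem Crit.le_first : D.Vv (f b) ≤ D.Sv (e 0) := by
  have := (hf.reverse).le_last hB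
  simpa using this

theorem Crit.exists_not_mem : ∃ a ∈ D.Vv (f b), a ∈ D.Sv (e 0) ∧ a ∉ D.Qv (f 0) := by
  by_contra hcon
  simp only [not_exists, not_and, not_not] at hcon
  exact hf.2 (le_centralizer_iff.1 fun a ha w hw =>
    (D.Vv_cent _ hw a (hcon a ha (hf.le_first hB ha))).symm)

theorem Crit.last_in : D.In (f b) (e (b - 1)) := by
  have hb := hf.pos hB
  have := (hf.1 (b - 1) (by omega)).2
  rwa [Nat.sub_add_cancel hb] at this

theorem Crit.first_le : q (f 0).1 ≤ (D.Qv (f b)).relIndex (D.Vv (f 0)) := by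
  have hb := hf.pos hB
  obtain ⟨a, ha, haS, haQ⟩ := hf.exists_not_mem hB
  obtain ⟨hk0, -⟩ := hf.1 0 hb
  rw [← inf_relIndex_right]
  refine (relV_edge hk0).ge.trans ?_
  refine Nat.le_of_dvd (relIndex_pos' _ _) (relIndex_dvd_of_le_left _ ?_)
  rintro w ⟨hwQ, hw⟩
  exact fix_edge hk0 haS haQ hw (D.Vv_cent _ ha w hwQ)

theorem Crit.q_le : q (f 0).1 ≤ q (f b).1 :=
  ((hf.first_le hB).trans (relIndex_le_of_le' (hf.le_last hB))).trans (relQ_edge (hf.last_in hB)).le

/-- The ends of a critical path have the same parameter. -/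
theorem Crit.q_eq : q (f 0).1 = q (f b).1 := by
  refine le_antisymm (hf.q_le hB) ?_
  have := hf.reverse.q_le hB
  simpa using this

theorem Crit.cover : D.Sv (e (b - 1)) ≤ D.Vv (f 0) ⊔ D.Qv (f b) := by
  have hin := hf.last_in hB
  have hsup : D.Vv (f 0) ⊔ D.Qv (f b) ≤ D.Sv (e (b - 1)) := sup_le (hf.le_last hB) (Qv_le hin)
  have h2 := relIndex_mul_relIndex (D.Qv (f b)) (D.Vv (f 0) ⊔ D.Qv (f b)) _ le_sup_right hsup
  rw [relQ_edge hin, ← hf.q_eq hB] at h2
  have h3 := (hf.first_le hB).trans (relIndex_le_of_le' (le_sup_left (b := D.Qv (f b))))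
  have h4 := relIndex_pos' (D.Vv (f 0) ⊔ D.Qv (f b)) (D.Sv (e (b - 1)))
  have h5 := D.one_lt (f 0).1
  exact relIndex_eq_one.1 (by nlinarith)

/-- The start of a critical path is moved by its neighbour. -/
theorem Crit.natRel (hb : 2 ≤ b) : D.NatRel (f 1).1 (f 0).1 := by
  obtain ⟨h0, h1⟩ := hf.1 0 (by omega)
  obtain ⟨h1', h2⟩ := hf.1 1 (by omega)
  rw [natRel_iff h1 h0]
  intro hn
  set g := e 1 * (e 0)⁻¹
  have hg : g ∈ D.Gv (f 1) := by
    rw [Gv, mem_cj]
    simpa [g, In, mul_assoc] using mul_mem h1' (inv_mem h1)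
  set u : ι × P := ((f 0).1, g * (f 0).2)
  have hu : D.In u (e 1) := by simpa [g] using In_translate g h0
  have hsub : D.Vv (f 0) ≤ D.Vv u ⊔ D.Vv (f 1) := by
    refine (le_sup_right (a := D.Vv (f 1))).trans ?_
    rw [← cj_eq_self (hn hg), cj, Subgroup.map_sup]
    refine sup_le (le_of_eq_of_le (cj_eq_self (D.Vv_norm _ hg)) le_sup_right) ?_
    rw [← cj, ← Vv_translate]
    exact le_sup_left
  refine hf.2 (hsub.trans (sup_le ?_ ?_))
  · have hp : D.Path (fun i => if i = 0 then u else f (i + 1)) (fun i => e (i + 1)) (b - 1) := by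
      intro i hi
      obtain ⟨h3, h4⟩ := hf.1 (i + 1) (by omega)
      refine ⟨?_, by simpa using h4⟩
      by_cases h : i = 0
      · subst h; simpa using hu
      · simpa [h] using h3
    have := hB (b - 1) (by omega) _ _ hp
    simpa [show b - 1 ≠ 0 by omega, Nat.sub_add_cancel (show 1 ≤ b by omega)] using this
  · have := hB.commute (s := f) (e := e) (c := 1) (m := b - 1)
      (fun i hi => hf.1 (1 + i) (by omega)) (by omega)
    rwa [show 1 + (b - 1) = b by omega] at this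

/-- Shifting a critical path backwards. -/
theorem Crit.back (hb : 2 ≤ b)
    (hin : ∀ (f' : ℕ → ι × P) (e' : ℕ → P), D.Crit b f' e' → ∃ j, D.NatRel (f' 0).1 j) :
    ∃ (u : ι × P) (k : P), D.In u k ∧ D.In (f 0) k ∧ D.Zv k ≠ D.Zv (e 0) ∧
      D.Crit b (fun i => if i = 0 then u else f (i - 1)) (fun i => if i = 0 then k else e (i - 1)) := by
  obtain ⟨h0, h1⟩ := hf.1 0 (by omega)
  obtain ⟨k, hk, hne⟩ := exists_opp h0
  obtain ⟨j, hj⟩ := hin f e hf
  set u : ι × P := (j, k)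
  have hu : D.In u k := by simp [In, u, one_mem]
  refine ⟨u, k, hu, hk, hne, ?_, ?_⟩
  · intro i hi
    rcases Nat.eq_zero_or_pos i with h | h
    · subst h; simpa using ⟨hu, hk⟩
    · obtain ⟨h3, h4⟩ := hf.1 (i - 1) (by omega)
      rw [Nat.sub_add_cancel h] at h4
      simpa [h.ne'] using ⟨h3, h4⟩
  simp only [if_pos, if_neg (show b ≠ 0 by omega)]
  intro hc
  rw [natRel_iff (w := u) hk hu] at hj
  refine hj ?_
  obtain ⟨a, ha, haS, haQ⟩ := hf.exists_not_mem hB
  -- `V_u` lies in the last Sylow subgroup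
  have hp : D.Path (fun i => if i = 0 then u else f (i - 1))
      (fun i => if i = 0 then k else e (i - 1)) b := by
    intro i hi
    rcases Nat.eq_zero_or_pos i with h | h
    · subst h; simpa using ⟨hu, hk⟩
    · obtain ⟨h3, h4⟩ := hf.1 (i - 1) (by omega)
      rw [Nat.sub_add_cancel h] at h4
      simpa [h.ne'] using ⟨h3, h4⟩
  have hS : D.Vv u ≤ D.Sv (e (b - 2)) := by
    have := hB.le_Sv (m := b - 1) (by omega) (by rw [Nat.sub_add_cancel (by omega)]; exact hp)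
    simpa [show b - 1 ≠ 0 by omega, Nat.sub_sub] using this
  have hin1 : D.In (f (b - 1)) (e (b - 2)) := by
    have := (hf.1 (b - 2) (by omega)).2
    rwa [show b - 2 + 1 = b - 1 by omega] at this
  have hQ : D.Vv u ≤ D.Sv (e (b - 1)) := fun y hy => by
    refine Qv_le (hf.1 (b - 1) (by omega)).1 (mem_Qv_of_commute hin1 (hS hy) ?_)
    intro w hw
    exact hc hy w hw
  have hgen : D.Gv (f 0) ≤ D.Sv k ⊔ zpowers a := gen_edge hk h0 hne.symm haS haQ
  refine hgen.trans (sup_le ?_ (zpowers_le.2 ?_))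
  · exact CfsgLib.Comp.le_normalizer_sup ((Sv_le hk).trans (D.Vv_norm _)) ((Sv_le hu).trans (D.Vv_norm _))
  · have haG : a ∈ D.Gv (f 0) := Sv_le h0 haS
    have hle : ∀ y ∈ D.Vv u, a * y * a⁻¹ ∈ D.Vv (f 0) ⊔ D.Vv u := by
      intro y hy
      have hV0 : D.Vv (f 0) ≤ normalizer (D.Qv (f b) : Set P) := by
        have hbi : D.In (f b) (e (b - 1)) := by
          have := (hf.1 (b - 1) (by omega)).2
          rwa [Nat.sub_add_cancel (show 1 ≤ b by omega)] at this
        exact (hf.le_last hB).trans ((Sv_le hbi).trans (D.Qv_norm _))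
      obtain ⟨q', hq', v, hv, rfl⟩ := CfsgLib.Comp.exists_mul_of_mem_sup hV0
        (by rw [sup_comm]; exact hf.cover hB (hQ hy))
      have haq : Commute a q' := (D.Vv_cent _ ha q' hq').symm
      have e1 : a * (q' * v) * a⁻¹ = (q' * v) * (v⁻¹ * (a * v * a⁻¹)) := by
        rw [← mul_assoc a, haq.eq]; group
      rw [e1]
      exact mul_mem (mem_sup_right hy)
        (mem_sup_left (mul_mem (inv_mem hv) ((mem_normalizer_iff.1 (D.Vv_norm _ haG) v).1 hv)))
    refine CfsgLib.Comp.map_conj_eq_iff.1 (eq_of_le_of_card_ge ?_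
      (card_map_of_injective (MulAut.conj a).injective).ge)
    rw [Subgroup.map_sup]
    refine sup_le (le_of_eq_of_le (cj_eq_self (D.Vv_norm _ haG)) le_sup_left) ?_
    rintro _ ⟨y, hy, rfl⟩
    exact hle y hy

theorem exists_seq (hb : 2 ≤ b)
    (hin : ∀ (f' : ℕ → ι × P) (e' : ℕ → P), D.Crit b f' e' → ∃ j, D.NatRel (f' 0).1 j) :
    ∃ (s : ℕ → ι × P) (e : ℕ → P), (∀ c, D.Crit b (fun i => s (c + i)) (fun i => e (c + i))) ∧
      ∀ m, b ≤ m → D.Zv (e (m - 1)) ≠ D.Zv (e m) := by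
  classical
  let St := {fe : (ℕ → ι × P) × (ℕ → P) // D.Crit b fe.1 fe.2}
  have step : ∀ st : St, ∃ st' : St, (∀ i < b, st'.1.1 i = st.1.1 (i + 1)) ∧
      (∀ i, i + 1 < b → st'.1.2 i = st.1.2 (i + 1)) ∧
      D.Zv (st.1.2 (b - 1)) ≠ D.Zv (st'.1.2 (b - 1)) := by
    rintro ⟨⟨f₁, e₁⟩, h₁⟩
    obtain ⟨u, k, -, -, hne, hc⟩ := (h₁.reverse).back hB hb hin
    refine ⟨⟨⟨_, _⟩, hc.reverse⟩, fun i hi => ?_, fun i hi => ?_, ?_⟩
    · show (if b - i = 0 then u else f₁ (b - (b - i - 1))) = f₁ (i + 1)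
      rw [if_neg (by omega), show b - (b - i - 1) = i + 1 by omega]
    · show (if b - 1 - i = 0 then k else e₁ (b - 1 - (b - 1 - i - 1))) = e₁ (i + 1)
      rw [if_neg (by omega), show b - 1 - (b - 1 - i - 1) = i + 1 by omega]
    · show D.Zv (e₁ (b - 1)) ≠ D.Zv (if b - 1 - (b - 1) = 0 then k else _)
      rw [Nat.sub_self, if_pos rfl]
      simpa using hne.symm
  choose nxt hn1 hn2 hn3 using step
  let st : ℕ → St := fun m => Nat.rec ⟨(f, e), hf⟩ (fun _ s => nxt s) m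
  have hst : ∀ m, st (m + 1) = nxt (st m) := fun m => rfl
  refine ⟨fun m => (st m).1.1 0, fun m => (st m).1.2 0, ?_, ?_⟩
  all_goals
    have hs : ∀ i, i ≤ b → ∀ c, (st c).1.1 i = (st (c + i)).1.1 0 := by
      intro i
      induction i with
      | zero => intros; rfl
      | succ i ih =>
        intro hi c
        rw [← hn1 (st c) i (by omega), ← hst, ih (by omega) (c + 1), add_right_comm, add_assoc]
    have he : ∀ i, i < b → ∀ c, (st c).1.2 i = (st (c + i)).1.2 0 := by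
      intro i
      induction i with
      | zero => intros; rfl
      | succ i ih =>
        intro hi c
        rw [← hn2 (st c) i (by omega), ← hst, ih (by omega) (c + 1), add_right_comm, add_assoc]
  · intro c
    obtain ⟨h1, h2⟩ := (st c).2
    refine ⟨fun i hi => ?_, ?_⟩
    · obtain ⟨h3, h4⟩ := h1 i hi
      rw [hs i hi.le c, he i hi c] at h3
      rw [hs (i + 1) hi c, he i hi c] at h4
      exact ⟨h3, h4⟩
    · rw [hs b le_rfl c] at h2
      exact h2
  · intro m hm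
    obtain ⟨c, rfl⟩ : ∃ c, m = c + b := ⟨m - b, by omega⟩
    have := hn3 (st c)
    rw [← hst, he (b - 1) (by omega) c, he (b - 1) (by omega) (c + 1)] at this
    show D.Zv ((st (c + b - 1)).1.2 0) ≠ D.Zv ((st (c + b)).1.2 0)
    rwa [show c + (b - 1) = c + b - 1 by omega, show c + 1 + (b - 1) = c + b by omega] at this

end Crit

/-- The critical distance is at most two. -/
theorem below_three_false {b : ℕ} (hB : D.Below b) (hb : 3 ≤ b)
    (hin : ∀ (f' : ℕ → ι × P) (e' : ℕ → P), D.Crit b f' e' → ∃ j, D.NatRel (f' 0).1 j) {f₀ : ℕ → ι × P} {e₀ : ℕ → P} (hf₀ : D.Crit b f₀ e₀) : False := by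
  classical
  obtain ⟨s, e, hcr, hjoint⟩ := exists_seq hB hf₀ (by omega) hin
  have hedge : ∀ m, D.In (s m) (e m) ∧ D.In (s (m + 1)) (e m) := fun m => (hcr m).1 0 (by omega)
  have hcomm : ∀ c m, m < b → D.Vv (s c) ≤ centralizer (D.Vv (s (c + m)) : Set P) := fun c m hm =>
    hB.commute (fun i _ => hedge (c + i)) hm
  obtain ⟨d, hd⟩ : ∃ d, b = d + 3 := ⟨b - 3, by omega⟩
  set o := 2 * b with ho
  set v0 := s o
  set v1 := s (o + 1)
  set u := s (o - 1)
  set w := s (o + b - 1)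
  set ke := e (o - 1)
  set k := e o
  obtain ⟨hv0k, hv1k⟩ := hedge o
  have hke := hedge (o - 1)
  rw [Nat.sub_add_cancel (show 1 ≤ o by omega)] at hke
  obtain ⟨huke, hv0ke⟩ := hke
  obtain ⟨hv1k', -⟩ := hedge (o + 1)
  have hw0 := hcr (o - 1)
  have hj0 : D.Zv ke ≠ D.Zv k := hjoint o (by omega)
  -- the elements `a`, `a₁`, `x`
  obtain ⟨a, ha, haS, haQ⟩ := (hcr o).exists_not_mem hB
  obtain ⟨a₁, ha₁, ha₁S, ha₁Q⟩ := (hcr (o + 1)).exists_not_mem hB
  obtain ⟨x, hx, hxS, hxQ⟩ := hw0.exists_not_mem hB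
  change a ∈ D.Sv k at haS
  change a ∉ D.Qv v0 at haQ
  change a ∈ D.Vv (s (o + b)) at ha
  change a₁ ∈ D.Sv (e (o + 1)) at ha₁S
  change a₁ ∉ D.Qv v1 at ha₁Q
  change a₁ ∈ D.Vv (s (o + 1 + b)) at ha₁
  have hxw : x ∈ D.Vv w := by
    have : o - 1 + b = o + b - 1 := by omega
    simpa [this] using hx
  change x ∈ D.Sv ke at hxS
  change x ∉ D.Qv u at hxQ
  have hG0 : D.Gv v0 ≤ D.Sv ke ⊔ zpowers a := gen_edge hv0ke hv0k hj0.symm haS haQ
  have hG1 : D.Gv v1 ≤ D.Sv k ⊔ zpowers a₁ := gen_edge hv1k hv1k' (hjoint (o + 1) (by omega)).symm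
    ha₁S ha₁Q
  have hrel1 : D.NatRel v0.1 v1.1 := by
    have := ((hcr (b + 1)).reverse).natRel hB (by omega)
    simpa [show b + 1 + (b - 1) = o by omega, show b + 1 + b = o + 1 by omega, v0, v1] using this
  -- the neighbours of `v0`
  set P0 : Subgroup P := ⨆ v : {v : ι × P // ∃ k, D.In v k ∧ D.In v0 k}, D.Vv v.1 with hP0
  have hPle : ∀ v k', D.In v k' → D.In v0 k' → D.Vv v ≤ P0 := fun v k' h1 h2 =>
    le_iSup (fun v : {v : ι × P // ∃ k, D.In v k ∧ D.In v0 k} => D.Vv v.1) ⟨v, k', h1, h2⟩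
  have hV0P : D.Vv v0 ≤ P0 := hPle v0 k hv0k hv0k
  have hPab : P0 ≤ centralizer (P0 : Set P) := by
    refine iSup_le fun ⟨v, k₁, h1, h2⟩ => le_centralizer_iff.1 (iSup_le fun ⟨v', k₂, h3, h4⟩ => ?_)
    have := hB 2 (by omega) (fun i => if i = 0 then v' else if i = 1 then v0 else v)
      (fun i => if i = 0 then k₂ else k₁) (by
        intro i hi
        rcases i with _ | _ | i
        · simpa using ⟨h3, h4⟩
        · simpa using ⟨h2, h1⟩
        · omega)
    simpa using this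
  have hGP : D.Gv v0 ≤ normalizer (P0 : Set P) := by
    intro g hg
    refine CfsgLib.Comp.map_conj_eq_iff.1 (eq_of_le_of_card_ge ?_
      (card_map_of_injective (MulAut.conj g).injective).ge)
    rw [hP0, Subgroup.map_iSup]
    refine iSup_le fun ⟨v, k₁, h1, h2⟩ => ?_
    show cj g (D.Vv v) ≤ _
    rw [← Vv_translate]
    refine hPle _ (g * k₁) (In_translate g h1) ?_
    rw [Gv_eq h2, mem_cj] at hg
    have := mul_mem h2 hg
    simpa [In, mul_assoc] using this
  have hPQ : P0 ≤ D.Qv (s (o + b - 2)) := iSup_le fun ⟨v, k₁, h1, h2⟩ => by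
    have := hB.le_Qv (f := fun i => if i = 0 then v else s (o + (i - 1)))
      (e := fun i => if i = 0 then k₁ else e (o + (i - 1))) (b - 1) (by omega) (by
        intro i hi
        rcases i with _ | i
        · simpa using ⟨h1, h2⟩
        · simpa [Nat.add_assoc] using hedge (o + i))
    simpa [show b - 1 ≠ 0 by omega, show o + (b - 1 - 1) = o + b - 2 by omega] using this
  have hwin : D.In w (e (o + b - 2)) ∧ D.In (s (o + b - 2)) (e (o + b - 2)) := by
    obtain ⟨h1, h2⟩ := hedge (o + b - 2)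
    rw [show o + b - 2 + 1 = o + b - 1 by omega] at h2
    exact ⟨h2, h1⟩
  have hquw : q u.1 = q w.1 := by
    have := hw0.q_eq hB
    simp only [Nat.add_zero] at this
    rwa [show o - 1 + b = o + b - 1 by omega] at this
  have hidx : (D.Qv w).relIndex P0 ≤ q u.1 :=
    (relIndex_le_of_le' (hPQ.trans (Qv_le hwin.2))).trans ((relQ_edge hwin.1).trans hquw.symm).le
  have hPa : ∀ y ∈ P0, y ∈ D.Qv w → ⁅y, a⁆ ∈ D.Vv v0 := by
    intro y hy hyw
    have hyS : y ∈ D.Sv (e (o + b - 1)) := Qv_le (hedge (o + b - 1)).1 hyw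
    have hb' : D.In (s (o + b)) (e (o + b - 1)) := by
      have := (hedge (o + b - 1)).2
      rwa [show o + b - 1 + 1 = o + b by omega] at this
    have hcov := (hcr o).cover hB
    simp only [show o + (b - 1) = o + b - 1 by omega, Nat.add_zero] at hcov
    have hV0 : D.Vv v0 ≤ normalizer (D.Qv (s (o + b)) : Set P) := by
      have := (hcr o).le_last hB
      simp only [show o + (b - 1) = o + b - 1 by omega, Nat.add_zero] at this
      exact this.trans ((Sv_le hb').trans (D.Qv_norm _))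
    obtain ⟨q', hq', v, hv, rfl⟩ := CfsgLib.Comp.exists_mul_of_mem_sup hV0
      (by rw [sup_comm]; exact hcov hyS)
    have haq : q' * a = a * q' := D.Vv_cent _ ha q' hq'
    have hvb : v ∈ D.Gv (s (o + b)) := by
      have := (hcr o).le_last hB
      simp only [show o + (b - 1) = o + b - 1 by omega, Nat.add_zero] at this
      exact Sv_le hb' (this hv)
    have hcb : ⁅v, a⁆ ∈ D.Vv (s (o + b)) :=
      mul_mem ((mem_normalizer_iff.1 (D.Vv_norm _ hvb) a).1 ha) (inv_mem ha)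
    have hcq : q' * ⁅v, a⁆ = ⁅v, a⁆ * q' := D.Vv_cent _ hcb q' hq'
    have e1 : ⁅q' * v, a⁆ = ⁅v, a⁆ := by
      calc ⁅q' * v, a⁆ = q' * ⁅v, a⁆ * q'⁻¹ * (q' * a * q'⁻¹ * a⁻¹) := by
            simp [commutatorElement_def, mul_assoc]
        _ = _ := by rw [hcq, haq]; group
    rw [e1, mul_inv_mem_of_commutatorElement]
    exact mul_mem hv ((mem_normalizer_iff.1 (D.Vv_norm _ (Sv_le hv0k haS)) _).1 (inv_mem hv))
  -- elements fixed modulo `V_{v0}`
  let Fx : Set P → Subgroup P := fun H =>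
    { carrier := {y | y ∈ P0 ∧ ∀ t ∈ H, ⁅y, t⁆ ∈ D.Vv v0}
      one_mem' := ⟨one_mem _, fun t _ => by rw [commutatorElement_one_left]; exact one_mem _⟩
      mul_mem' := by
        rintro y y' ⟨hy, hy'⟩ ⟨hz, hz'⟩
        refine ⟨mul_mem hy hz, fun t ht => ?_⟩
        rw [show ⁅y * y', t⁆ = y * ⁅y', t⁆ * y⁻¹ * ⁅y, t⁆ by simp [commutatorElement_def, mul_assoc],
          show y * ⁅y', t⁆ = ⁅y', t⁆ * y from (hPab (hy) _ (hV0P (hz' t ht))).symm, mul_inv_cancel_right]
        exact mul_mem (hz' t ht) (hy' t ht)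
      inv_mem' := by
        rintro y ⟨hy, hy'⟩
        refine ⟨inv_mem hy, fun t ht => ?_⟩
        rw [show ⁅y⁻¹, t⁆ = y⁻¹ * (⁅y, t⁆⁻¹ * y) by simp [commutatorElement_def, mul_assoc],
          show ⁅y, t⁆⁻¹ * y = y * ⁅y, t⁆⁻¹ from hPab hy _ (hV0P (inv_mem (hy' t ht))),
          inv_mul_cancel_left]
        exact inv_mem (hy' t ht) }
  set Fk := Fx (D.Sv k)
  set Fe := Fx (D.Sv ke)
  set K1 := Fx (D.Gv v0)
  set Dd := Fx {a}
  have hK1 : Fe ⊓ Dd ≤ K1 := by
    rintro y ⟨⟨hy, hye⟩, -, hya⟩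
    refine ⟨hy, fun t ht => ?_⟩
    let H : Subgroup P :=
      { carrier := {t | t ∈ D.Gv v0 ∧ ⁅y, t⁆ ∈ D.Vv v0}
        one_mem' := ⟨one_mem _, by rw [commutatorElement_one_right]; exact one_mem _⟩
        mul_mem' := by
          rintro t t' ⟨h1, h2⟩ ⟨h3, h4⟩
          refine ⟨mul_mem h1 h3, ?_⟩
          rw [show ⁅y, t * t'⁆ = ⁅y, t⁆ * (t * ⁅y, t'⁆ * t⁻¹) by simp [commutatorElement_def, mul_assoc]]
          exact mul_mem h2 ((mem_normalizer_iff.1 (D.Vv_norm _ h1) _).1 h4)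
        inv_mem' := by
          rintro t ⟨h1, h2⟩
          refine ⟨inv_mem h1, ?_⟩
          rw [show ⁅y, t⁻¹⁆ = t⁻¹ * ⁅y, t⁆⁻¹ * t⁻¹⁻¹ by simp [commutatorElement_def, mul_assoc]]
          exact (mem_normalizer_iff.1 (D.Vv_norm _ (inv_mem h1)) _).1 (inv_mem h2) }
    have hle : D.Gv v0 ≤ H := hG0.trans (sup_le (fun t ht => ⟨Sv_le hv0ke ht, hye t ht⟩)
      (zpowers_le.2 ⟨Sv_le hv0k haS, hya a rfl⟩))
    exact (hle ht).2
  have hQD : P0 ⊓ D.Qv w ≤ Dd := fun y hy => ⟨hy.1, fun t ht => ht ▸ hPa y hy.1 hy.2⟩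
  have hKe : K1.relIndex Fe ≤ q u.1 := by
    refine le_trans ?_ hidx
    calc K1.relIndex Fe ≤ (Fe ⊓ Dd).relIndex Fe :=
          Nat.le_of_dvd (relIndex_pos' _ _) (relIndex_dvd_of_le_left _ hK1)
      _ = Dd.relIndex Fe := inf_relIndex_left _ _
      _ ≤ Dd.relIndex P0 := relIndex_le_of_le' fun y hy => hy.1
      _ ≤ (P0 ⊓ D.Qv w).relIndex P0 := Nat.le_of_dvd (relIndex_pos' _ _) (relIndex_dvd_of_le_left _ hQD)
      _ = _ := inf_relIndex_left _ _
  set g := k * ke⁻¹ with hg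
  have hgG : g ∈ D.Gv v0 := by
    rw [Gv, mem_cj]
    simpa [g, In, mul_assoc] using mul_mem hv0k (inv_mem hv0ke)
  have hgV : ∀ {H H' : Set P}, (∀ t ∈ H', g⁻¹ * t * g ∈ H) → cj g (Fx H) ≤ Fx H' := by
    rintro H H' hH _ ⟨y, ⟨hy, hy'⟩, rfl⟩
    refine ⟨(mem_normalizer_iff.1 (hGP hgG) y).1 hy, fun t ht => ?_⟩
    have := (mem_normalizer_iff.1 (D.Vv_norm _ hgG) _).1 (hy' _ (hH t ht))
    rw [← commutatorElement_conj, show g * (g⁻¹ * t * g) * g⁻¹ = t by group] at this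
    exact this
  have hKk : K1.relIndex Fk ≤ q u.1 := by
    have h1 : cj g Fe = Fk := by
      refine le_antisymm (hgV fun t ht => ?_) fun y hy => ?_
      · change t ∈ D.Sv k at ht
        show g⁻¹ * t * g ∈ D.Sv ke
        rw [Sv, mem_cj] at ht ⊢
        simpa [g, mul_assoc] using ht
      · obtain ⟨hyP, hy'⟩ := hy
        refine mem_cj.2 ⟨by simpa using (mem_normalizer_iff.1 (hGP (inv_mem hgG)) y).1 hyP, fun t ht => ?_⟩
        have ht' : g * t * g⁻¹ ∈ D.Sv k := by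
          change t ∈ D.Sv ke at ht
          rw [Sv, mem_cj] at ht ⊢
          simpa [g, mul_assoc] using ht
        have := (mem_normalizer_iff.1 (D.Vv_norm _ (inv_mem hgG)) _).1 (hy' _ ht')
        rw [← commutatorElement_conj] at this
        simpa [mul_assoc] using this
    have h2 : cj g K1 = K1 := eq_of_le_of_card_ge (hgV fun t ht =>
      (mul_mem (mul_mem (inv_mem hgG) ht) hgG))
      (card_map_of_injective (MulAut.conj g).injective).ge
    rw [← h1, ← h2, cj, cj, relIndex_map_map_of_injective _ _ (MulAut.conj g).injective]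
    exact hKe
  -- the vertex `t`
  set t : ι × P := (u.1, g * u.2)
  have htk : D.In t k := by simpa [g, ke, t, u, mul_assoc] using In_translate g huke
  have hVtF : D.Vv t ≤ Fk := fun y hy =>
    ⟨hPle t k htk hv0k hy, fun s' hs' => Zv_le hv0k (comm_mem_edge htk hy hs')⟩
  have hV1F : D.Vv v1 ≤ Fk := fun y hy =>
    ⟨hPle v1 k hv1k hv0k hy, fun s' hs' => Zv_le hv0k (comm_mem_edge hv1k hy hs')⟩
  have hVK : D.Vv v0 ≤ K1 := fun y hy => ⟨hV0P hy, fun t' ht' => by
    rw [mul_inv_mem_of_commutatorElement]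
    exact mul_mem hy ((mem_normalizer_iff.1 (D.Vv_norm _ ht') _).1 (inv_mem hy))⟩
  have hV0x : ∀ y ∈ D.Vv v0, y * x = x * y := fun y hy => by
    have := hcomm o (b - 1) (by omega)
    rw [show o + (b - 1) = o + b - 1 by omega] at this
    exact (this hy x hxw).symm
  have hv1x : ∀ y ∈ D.Vv v1, y * x = x * y := fun y hy => by
    have := hcomm (o + 1) (b - 2) (by omega)
    rw [show o + 1 + (b - 2) = o + b - 1 by omega] at this
    exact (this hy x hxw).symm
  have htx : ∀ y ∈ D.Vv t, y * x = x * y := fun y hy => by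
    have := hB (b - 1) (by omega) (fun i => if i = 0 then t else s (o + i))
      (fun i => e (o + i)) (by
        intro i hi
        rcases i with _ | i
        · simpa using ⟨htk, hv1k⟩
        · simpa [Nat.add_assoc] using hedge (o + (i + 1)))
    simp only [if_pos, show b - 1 ≠ 0 by omega, if_false, show o + (b - 1) = o + b - 1 by omega] at this
    exact (this hy x hxw).symm
  have hinter : ∀ y ∈ D.Vv t, y ∈ K1 → y ∈ D.Zv k := by
    intro y hy hyK
    set y' := g⁻¹ * y * g with hy'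
    have hy'u : y' ∈ D.Vv u := by
      rw [Vv_translate, mem_cj] at hy; exact hy
    have hd1 : ⁅y, g⁻¹⁆ ∈ D.Vv v0 := hyK.2 _ (inv_mem hgG)
    have e1 : y' = ⁅y, g⁻¹⁆⁻¹ * y := by simp [y', commutatorElement_def, mul_assoc]
    have hc : y' * x = x * y' := by
      rw [e1]
      exact ((show Commute ⁅y, g⁻¹⁆⁻¹ x from hV0x _ (inv_mem hd1)).mul_left (htx y hy)).eq
    have := fix_edge huke hxS hxQ hy'u hc
    rw [Zv, mem_cj] at this ⊢
    simpa [y', g, ke, mul_assoc] using this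
  have hVtK : Fk ≤ D.Vv t ⊔ K1 := by
    have hKF : K1 ≤ Fk := fun y hy => ⟨hy.1, fun t' ht' => hy.2 t' (Sv_le hv0k ht')⟩
    have h1 : q u.1 ≤ K1.relIndex (D.Vv t ⊔ K1) := by
      refine le_trans ?_ (relIndex_le_of_le' le_sup_left)
      rw [← inf_relIndex_right]
      refine (relV_edge htk).ge.trans ?_
      exact Nat.le_of_dvd (relIndex_pos' _ _) (relIndex_dvd_of_le_left _ fun y hy => hinter y hy.2 hy.1)
    have h2 := relIndex_mul_relIndex K1 (D.Vv t ⊔ K1) Fk le_sup_right (sup_le hVtF hKF)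
    have h3 := relIndex_pos' (D.Vv t ⊔ K1) Fk
    have h4 := D.one_lt u.1
    exact relIndex_eq_one.1 (by nlinarith)
  obtain ⟨v, hv, hvK⟩ : ∃ v ∈ D.Vv v1, v ∉ K1 := by
    by_contra hcon
    simp only [not_exists, not_and, not_not] at hcon
    refine (natRel_iff hv0k hv1k).1 hrel1 fun g' hg' => ?_
    refine CfsgLib.Comp.map_conj_eq_iff.1 (eq_of_le_of_card_ge ?_
      (card_map_of_injective (MulAut.conj g').injective).ge)
    rw [Subgroup.map_sup]
    refine sup_le (le_of_eq_of_le (cj_eq_self (D.Vv_norm _ hg')) le_sup_left) ?_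
    rintro _ ⟨y, hy, rfl⟩
    have h1 := inv_mem ((hcon y hy).2 g' hg')
    show g' * y * g'⁻¹ ∈ _
    rw [show g' * y * g'⁻¹ = ⁅y, g'⁆⁻¹ * y by simp [commutatorElement_def, mul_assoc]]
    exact mul_mem (mem_sup_left h1) (mem_sup_right hy)
  have hVtn : D.Vv t ≤ normalizer (K1 : Set P) :=
    ((hPle t k htk hv0k).trans hPab).trans ((centralizer_le fun y hy => hy.1).trans
      (centralizer_le_normalizer _))
  obtain ⟨c, hc, vt, hvt, hprod⟩ := CfsgLib.Comp.exists_mul_of_mem_sup hVtn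
    (by rw [sup_comm]; exact hVtK (hV1F hv))
  obtain rfl : v = vt * c := by
    rw [← hprod]; exact (hPab hc.1 vt (hPle t k htk hv0k hvt)).symm
  set v' := g⁻¹ * vt * g with hv'
  have hv'u : v' ∈ D.Vv u := by rw [Vv_translate, mem_cj] at hvt; exact hvt
  set y := ⁅v', x⁆ with hy
  have hy1 : y ≠ 1 := fun h1 => by
    have h2 := fix_edge huke hxS hxQ hv'u (commutatorElement_eq_one_iff_mul_comm.1 h1)
    refine hvK (mul_mem (hVK (Zv_le hv0k ?_)) hc)
    rw [Zv, mem_cj] at h2 ⊢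
    simpa [v', g, ke, k, mul_assoc] using h2
  have hyZ : y ∈ D.Zv ke := comm_mem_edge huke hv'u hxS
  have hyw : y ∈ D.Vv w := by
    have h1 := hw0.le_last hB
    simp only [Nat.add_zero, show o - 1 + (b - 1) = o + b - 2 by omega] at h1
    rw [hy, commutatorElement_def]
    exact mul_mem ((mem_normalizer_iff.1 (D.Vv_norm _ (Sv_le hwin.1 (h1 hv'u))) x).1 hxw) (inv_mem hxw)
  have hy0 : y ∈ centralizer (D.Gv v0 : Set P) := mem_centralizer_iff.2 fun t' ht' => by
    have hle : D.Gv v0 ≤ centralizer ({y} : Set P) := hG0.trans (sup_le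
      (fun s' hs' => mem_centralizer_singleton_iff.2 (commute_Zv_Sv hyZ hs'))
      (zpowers_le.2 (mem_centralizer_singleton_iff.2 (by
        have := hcomm (o + b - 1) 1 (by omega)
        rw [show o + b - 1 + 1 = o + b by omega] at this
        exact this hyw a ha))))
    exact mem_centralizer_singleton_iff.1 (hle ht')
  have hz : ⁅vt, g * x * g⁻¹⁆ = y := by
    rw [show vt = g * v' * g⁻¹ by simp [v', mul_assoc], commutatorElement_conj, ← hy,
      mem_centralizer_iff.1 hy0 g hgG, mul_inv_cancel_right]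
  have hx0 : x ∈ D.Qv v0 := by
    have hp : D.Path (fun i => s (o + (b - 1 - i))) (fun i => e (o + (b - 2 - i))) (b - 1) := by
      intro i hi
      obtain ⟨h1, h2⟩ := hedge (o + (b - 2 - i))
      rw [show o + (b - 2 - i) + 1 = o + (b - 1 - i) by omega] at h2
      refine ⟨h2, ?_⟩
      show D.In (s (o + (b - 1 - (i + 1)))) _
      rw [show b - 1 - (i + 1) = b - 2 - i by omega]
      exact h1
    have := hB.le_Qv (b - 1) (by omega) hp
    simp only [Nat.sub_zero, Nat.sub_self, Nat.add_zero, show o + (b - 1) = o + b - 1 by omega] at this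
    exact this hxw
  have hx'S : g * x * g⁻¹ ∈ D.Sv k :=
    Qv_le hv0k ((mem_normalizer_iff.1 (D.Qv_norm _ hgG) x).1 hx0)
  have hcx : c * (g * x * g⁻¹) = (g * x * g⁻¹) * c := by
    have hd1 : ⁅c, g⁻¹⁆ ∈ D.Vv v0 := hc.2 _ (inv_mem hgG)
    have hcx0 : Commute c x := by
      have := ((show Commute vt x from htx vt hvt).inv_left).mul_left (hv1x _ hv)
      simpa using this
    have h1 : Commute (⁅c, g⁻¹⁆⁻¹ * c) x :=
      (show Commute ⁅c, g⁻¹⁆⁻¹ x from hV0x _ (inv_mem hd1)).mul_left hcx0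
    have h2 : ⁅c, g⁻¹⁆⁻¹ * c = g⁻¹ * c * g := by simp [commutatorElement_def, mul_assoc]
    rw [h2] at h1
    calc c * (g * x * g⁻¹) = g * ((g⁻¹ * c * g) * x) * g⁻¹ := by group
      _ = g * (x * (g⁻¹ * c * g)) * g⁻¹ := by rw [h1.eq]
      _ = _ := by group
  have hfin : ⁅vt * c, g * x * g⁻¹⁆ = y := by
    rw [← hz, commutatorElement_def, commutatorElement_def,
      show vt * c * (g * x * g⁻¹) * (vt * c)⁻¹ = vt * (c * (g * x * g⁻¹) * c⁻¹) * vt⁻¹ by group, hcx,
      mul_inv_cancel_right]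
  have hy1' : y ∈ centralizer (D.Gv v1 : Set P) := mem_centralizer_iff.2 fun t' ht' => by
    have hle : D.Gv v1 ≤ centralizer ({y} : Set P) := hG1.trans (sup_le
      (fun s' hs' => mem_centralizer_singleton_iff.2 (mem_centralizer_iff.1 hy0 s' (Sv_le hv0k hs')))
      (zpowers_le.2 (mem_centralizer_singleton_iff.2 (by
        have := hcomm (o + b - 1) 2 (by omega)
        rw [show o + b - 1 + 2 = o + 1 + b by omega] at this
        exact this hyw a₁ ha₁))))
    exact mem_centralizer_singleton_iff.1 (hle ht')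
  exact hy1 (hfin ▸ comm_fix_edge hv1k hv hx'S (hfin.symm ▸ hy1'))

end Fam

end CfsgLib.ClassK.Push
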