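import Cfsg.Agent.Lib.ClassK.PushCL

/-!
The module `V = ⟨Z(S)^G⟩` in the pushing-up situation when no nontrivial characteristic subgroup
of `S` is normal: `|V/Z(S)| = q`, `[V,S] ≤ Z(S)`, `S` and a conjugate outside the maximal subgroup
fix exactly `Z(G) ∩ V`, and the maximal subgroup normalizes `Z(S)`.
-/

set_option autoImplicit false
set_option linter.style.haveILetI false
set_option linter.unusedSectionVars false
set_option maxHeartbeats 1000000

namespace CfsgLib.ClassK.Push

open Subgroup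
open scoped MatrixGroups Pointwise commutatorElement

variable {G : Type*} [Group G] [Finite G]

/-- The centre of `S`, inside the ambient group. -/
def zOf (S : Subgroup G) : Subgroup G := S ⊓ centralizer (S : Set G)

theorem zOf_le (S : Subgroup G) : zOf S ≤ S := inf_le_left

theorem zOf_eq_map (S : Subgroup G) : (center ↥S).map S.subtype = zOf S := by
  ext x
  constructor
  · rintro ⟨y, hy, rfl⟩
    exact ⟨y.2, fun s hs => congrArg Subtype.val (mem_center_iff.1 hy ⟨s, hs⟩)⟩
  · rintro ⟨hx, hc⟩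
    exact ⟨⟨x, hx⟩, mem_center_iff.2 fun s => Subtype.ext (hc s s.2), rfl⟩

theorem conj_mem_of_mem_zOf {S : Subgroup G} {s z : G} (hs : s ∈ S) (hz : z ∈ zOf S) :
    s * z * s⁻¹ = z := by
  rw [hz.2 s hs, mul_inv_cancel_right]

theorem mul_inv_mem_of_commutatorElement {N : Subgroup G} {v a : G} :
    ⁅v, a⁆ ∈ N ↔ v * (a * v⁻¹ * a⁻¹) ∈ N := by
  rw [commutatorElement_def]
  simp only [mul_assoc]

/-- The Thompson subgroup is characteristic. -/
theorem thompsonA_characteristic (H : Type*) [Group H] [Finite H] :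
    (Cfsg.thompsonSubgroupA H).Characteristic := by
  refine characteristic_iff_map_le.2 fun e => ?_
  rw [Cfsg.thompsonSubgroupA, sSup_eq_iSup, Subgroup.map_iSup]
  refine iSup_le fun A => ?_
  rw [Subgroup.map_iSup]
  refine iSup_le fun hA => ?_
  refine le_iSup₂_of_le (A.map e.toMonoidHom) ⟨PLocal.isMulCommutative_map _ hA.1, fun B hB => ?_⟩
    le_rfl
  rw [card_map_of_injective e.injective,
    ← card_map_of_injective (f := e.symm.toMonoidHom) e.symm.injective (K := B)]
  exact hA.2 _ (PLocal.isMulCommutative_map _ hB)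

theorem centerThompsonA_characteristic (H : Type*) [Group H] [Finite H] :
    (Cfsg.thompsonSubgroupA H ⊓ centralizer (Cfsg.thompsonSubgroupA H : Set H)).Characteristic := by
  refine characteristic_iff_map_eq.2 fun e => ?_
  rw [map_inf_centralizer e.injective, characteristic_iff_map_eq.1 (thompsonA_characteristic H) e]

variable {p n : ℕ} [Fact p.Prime] {F : Type*} [Field F] [Fintype F]
  {S : Sylow p G} {M : Subgroup G} {φ : G →* Matrix.ProjectiveSpecialLinearGroup (Fin 2) F}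

/-- No nontrivial characteristic subgroup of `S` is normal. -/
def NoChar (S : Sylow p G) : Prop :=
  ∀ T : Subgroup ↥(S : Subgroup G), T ≠ ⊥ → T.Characteristic →
    ¬ (T.map (S : Subgroup G).subtype).Normal

/-- The module data of a group in the pushing-up situation. -/
structure Datum (p : ℕ) (S Q V : Subgroup G) (q : ℕ) : Prop where
  one_lt : 1 < q
  Q_le : Q ≤ S
  Q_normal : Q.Normal
  V_normal : V.Normal
  V_le : V ≤ Q
  V_cent : V ≤ centralizer (Q : Set G)
  center_le : zOf S ≤ V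
  exp : ∀ v ∈ V, v ^ p = 1
  fix : ∀ a ∈ S, a ∉ Q → V ⊓ centralizer ({a} : Set G) ≤ zOf S
  comm_mem : ∀ v ∈ V, ∀ a ∈ S, ⁅v, a⁆ ∈ zOf S
  comm_fix : ∀ v ∈ V, ∀ a ∈ S, ⁅v, a⁆ ∈ center G → ⁅v, a⁆ = 1
  relV : (zOf S).relIndex V = q
  relC : (V ⊓ center G).relIndex (zOf S) = q
  relQ : Q.relIndex S = q
  gen : ∀ x : G, (zOf S).map (MulAut.conj x).toMonoidHom ≠ zOf S →
    ∀ a ∈ S.map (MulAut.conj x).toMonoidHom, a ∉ Q → S ⊔ zpowers a = ⊤
  not_central : ¬ zOf S ≤ center G
  opp : ∃ x : G, (zOf S).map (MulAut.conj x).toMonoidHom ≠ zOf S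

namespace Pre

variable (h : Pre (F := F) S M φ n)
include h

theorem mem_pCore_iff {a : G} (ha : a ∈ (S : Subgroup G)) : a ∈ Cfsg.pCore p G ↔ φ a = 1 :=
  ⟨fun h' => MonoidHom.mem_ker.1 (h.pCore_eq.le h').2,
    fun h' => h.pCore_eq.ge ⟨ha, MonoidHom.mem_ker.2 h'⟩⟩

theorem normalizer_sylow_le : normalizer ((S : Subgroup G) : Set G) ≤ M := by
  refine h.le_of_ne_top Subgroup.le_normalizer fun htop => ?_
  have hn : (S : Subgroup G).Normal := normalizer_eq_top_iff.1 htop
  haveI : ((S : Subgroup G).map φ).Normal := Subgroup.Normal.map hn _ h.surj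
  have hb := normal_pGroup_psl_eq_bot (F := F) h.card ((S : Subgroup G).map φ) (S.isPGroup'.map φ)
  have h2 := h.card_map
  rw [hb, card_bot] at h2
  have := Nat.one_lt_pow (by have := h.one_le; omega : n ≠ 0) (Fact.out : p.Prime).one_lt
  omega

/-- `S` is conjugate only inside `M` to subgroups of `M`. -/
theorem mem_of_conj_le {g : G} (hg : (S : Subgroup G).map (MulAut.conj g).toMonoidHom ≤ M) :
    g ∈ M := by
  let P₁ : Sylow p M := S.subtype h.le
  have hcs : ((g • S : Sylow p G) : Subgroup G) = (S : Subgroup G).map (MulAut.conj g).toMonoidHom :=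
    rfl
  let P₂ : Sylow p M := (g • S).subtype (hcs ▸ hg)
  obtain ⟨m, hm⟩ := MulAction.exists_smul_eq M P₁ P₂
  have e : ∀ x : G, x ∈ (S : Subgroup G).map (MulAut.conj (m : G)).toMonoidHom ↔
      x ∈ (S : Subgroup G).map (MulAut.conj g).toMonoidHom := by
    intro x
    constructor
    · rintro ⟨y, hy, rfl⟩
      have : m * ⟨y, h.le hy⟩ * m⁻¹ ∈ (P₂ : Subgroup M) := by
        rw [← hm]
        exact ⟨⟨y, h.le hy⟩, hy, rfl⟩
      rw [Sylow.coe_subtype, Subgroup.mem_subgroupOf, hcs] at this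
      exact this
    · intro hx
      have hxM : x ∈ M := hg hx
      have : (⟨x, hxM⟩ : M) ∈ (P₂ : Subgroup M) := by
        rw [Sylow.coe_subtype, Subgroup.mem_subgroupOf, hcs]
        exact hx
      rw [← hm] at this
      obtain ⟨y, hy, hyx⟩ := this
      exact ⟨y, hy, congrArg Subtype.val hyx⟩
  have hn : (m : G)⁻¹ * g ∈ normalizer ((S : Subgroup G) : Set G) := by
    refine CfsgLib.Comp.map_conj_eq_iff.1 ?_
    rw [← SetLike.coe_set_eq]
    ext x
    constructor
    · rintro ⟨y, hy, rfl⟩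
      obtain ⟨z, hz, hzy⟩ := (e (g * y * g⁻¹)).2 ⟨y, hy, rfl⟩
      have hzy' : (m : G) * z * (m : G)⁻¹ = g * y * g⁻¹ := hzy
      show (m : G)⁻¹ * g * y * ((m : G)⁻¹ * g)⁻¹ ∈ (S : Subgroup G)
      rw [show (m : G)⁻¹ * g * y * ((m : G)⁻¹ * g)⁻¹ = (m : G)⁻¹ * (g * y * g⁻¹) * m by group,
        ← hzy']
      simp only [mul_assoc, inv_mul_cancel_left, inv_mul_cancel, mul_one]
      exact hz
    · intro hx
      obtain ⟨y, hy, hyx⟩ := (e ((m : G) * x * (m : G)⁻¹)).1 ⟨x, hx, rfl⟩
      have hyx' : g * y * g⁻¹ = (m : G) * x * (m : G)⁻¹ := hyx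
      refine ⟨y, hy, ?_⟩
      show (m : G)⁻¹ * g * y * ((m : G)⁻¹ * g)⁻¹ = x
      rw [show (m : G)⁻¹ * g * y * ((m : G)⁻¹ * g)⁻¹ = (m : G)⁻¹ * (g * y * g⁻¹) * m by group,
        hyx']
      group
  have := mul_mem m.2 (h.normalizer_sylow_le hn)
  rwa [mul_inv_cancel_left] at this

/-- Dividing by a normal subgroup inside the kernel. -/
theorem quotient {N : Subgroup G} [hN : N.Normal] (hker : N ≤ φ.ker) :
    Pre (F := F) (S.mapSurjective (QuotientGroup.mk'_surjective N)) (M.map (QuotientGroup.mk' N))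
      (QuotientGroup.lift N φ hker) n := by
  have hNM : N ≤ M := hker.trans h.ker_le
  have hsurj := QuotientGroup.mk'_surjective N
  have hcm : (M.map (QuotientGroup.mk' N)).comap (QuotientGroup.mk' N) = M := by
    rw [comap_map_eq, QuotientGroup.ker_mk', sup_eq_left.2 hNM]
  have huniq : ∀ N' : Subgroup (G ⧸ N), IsCoatom N' →
      (S : Subgroup G).map (QuotientGroup.mk' N) ≤ N' → N' = M.map (QuotientGroup.mk' N) := by
    intro N' hN' hS
    have hne : N'.comap (QuotientGroup.mk' N) ≠ ⊤ := fun e => hN'.1 (by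
      rw [← map_comap_eq_self_of_surjective hsurj N', e, map_top_of_surjective _ hsurj])
    have hle := h.le_of_ne_top (map_le_iff_le_comap.1 hS) hne
    refine le_antisymm ?_ ?_
    · rw [← map_comap_eq_self_of_surjective hsurj N']; exact map_mono hle
    · by_contra hnot
      have hlt : N' < N' ⊔ M.map (QuotientGroup.mk' N) := lt_of_le_of_ne le_sup_left fun e =>
        hnot (e ▸ le_sup_right)
      have := hN'.2 _ hlt
      refine h.coatom.1 ?_
      rw [← hcm, ← comap_top (QuotientGroup.mk' N), ← this, sup_eq_right.2]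
      rw [← map_comap_eq_self_of_surjective hsurj N']; exact map_mono hle
  have hMne : M.map (QuotientGroup.mk' N) ≠ ⊤ := fun e => h.coatom.1 (by
    rw [← hcm, e, comap_top])
  refine ⟨?_, ?_, ?_, ?_, h.card⟩
  · obtain ⟨N', hN', hle⟩ := (eq_top_or_exists_le_coatom (M.map (QuotientGroup.mk' N))).resolve_left hMne
    exact huniq N' hN' ((map_mono h.le).trans hle) ▸ hN'
  · rw [Sylow.coe_mapSurjective]; exact map_mono h.le
  · intro N' hN' hS
    rw [Sylow.coe_mapSurjective] at hS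
    exact huniq N' hN' hS
  · intro y
    obtain ⟨x, rfl⟩ := h.surj y
    exact ⟨QuotientGroup.mk' N x, rfl⟩

/-- Sylow images commute. -/
theorem commutatorElement_mem_pCore {a b : G} (ha : a ∈ (S : Subgroup G))
    (hb : b ∈ (S : Subgroup G)) : ⁅a, b⁆ ∈ Cfsg.pCore p G := by
  haveI := charP_of_card (F := F) h.card
  have hab : ⁅a, b⁆ ∈ (S : Subgroup G) :=
    mul_mem (mul_mem (mul_mem ha hb) (inv_mem ha)) (inv_mem hb)
  refine (h.mem_pCore_iff hab).2 ?_
  rw [map_commutatorElement, commutatorElement_eq_one_iff_mul_comm]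
  obtain ⟨P₀, hP₀, -⟩ := exists_sylow_psl (F := F) h.card
  obtain ⟨v, hv⟩ := MulAction.exists_smul_eq (Matrix.ProjectiveSpecialLinearGroup (Fin 2) F) P₀
    (S.mapSurjective h.surj)
  have hmem : ∀ x ∈ (S : Subgroup G), ∃ t : F,
      φ x = v * QuotientGroup.mk' _ (CfsgLib.Classical.uElt t) * v⁻¹ := by
    intro x hx
    have : φ x ∈ ((S.mapSurjective h.surj : Sylow p _) : Subgroup _) := by
      rw [Sylow.coe_mapSurjective]; exact mem_map_of_mem φ hx
    rw [← hv, Sylow.coe_subgroup_smul, mem_pointwise_smul_iff_inv_smul_mem, hP₀] at this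
    obtain ⟨_, ⟨t, rfl⟩, ht⟩ := this
    refine ⟨t, ?_⟩
    rw [ht]; simp [MulAut.smul_def, mul_assoc]
  obtain ⟨s, hs⟩ := hmem a ha
  obtain ⟨t, ht⟩ := hmem b hb
  rw [hs, ht]
  simp only [mul_assoc, inv_mul_cancel_left]
  simp only [← mul_assoc (QuotientGroup.mk' _ _) (QuotientGroup.mk' _ _), ← map_mul]
  rw [← CfsgLib.Classical.uElt_add, ← CfsgLib.Classical.uElt_add, add_comm]

end Pre

namespace Sit

variable (h : Sit (F := F) S M φ n) (hd : NoChar S)
include h hd

theorem center_not_normal : ¬ (zOf (S : Subgroup G)).Normal := by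
  rw [← zOf_eq_map]
  refine hd _ ?_ inferInstance
  obtain ⟨a, ha, ha1⟩ := h.exists_mem_sylow_not_ker
  haveI : Nontrivial ↥(S : Subgroup G) :=
    ⟨⟨a, ha⟩, 1, fun e => ha1 (by rw [show a = 1 from congrArg Subtype.val e, map_one])⟩
  have := S.isPGroup'.center_nontrivial
  exact fun e => not_subsingleton ↥(center ↥(S : Subgroup G))
    (e ▸ (inferInstance : Subsingleton ↥(⊥ : Subgroup ↥(S : Subgroup G))))

theorem not_central : ¬ zOf (S : Subgroup G) ≤ center G := fun hle =>
  h.center_not_normal hd ⟨fun z hz g => by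
    rwa [mem_center_iff.1 (hle hz) g, mul_inv_cancel_right]⟩

theorem thompson_not_le : ¬ Cfsg.thompsonSubgroupAOf (S : Subgroup G) ≤ φ.ker := by
  intro hJ
  have e : (Cfsg.thompsonSubgroupA ↥(S : Subgroup G) ⊓
      centralizer (Cfsg.thompsonSubgroupA ↥(S : Subgroup G) : Set ↥(S : Subgroup G))).map
        (S : Subgroup G).subtype = Cfsg.centerThompsonAOf (S : Subgroup G) :=
    map_inf_centralizer (S : Subgroup G).subtype_injective _
  refine hd _ ?_ (centerThompsonA_characteristic _) (e ▸ h.centerThompson_normal hJ)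
  intro hb
  refine h.not_central hd (h.center_le_centerThompson.trans ?_)
  rw [← e, hb, Subgroup.map_bot]
  exact bot_le

theorem center_pow_eq_one : ∀ z ∈ zOf (S : Subgroup G), z ^ p = 1 := by
  set ZS := center ↥(S : Subgroup G)
  let f : ↥ZS →* ↥(S : Subgroup G) :=
    { toFun := fun z => (z : ↥(S : Subgroup G)) ^ p
      map_one' := one_pow p
      map_mul' := fun a b => (show Commute (a : ↥(S : Subgroup G)) b from
        (mem_center_iff.1 b.2 a)).mul_pow p }
  have hchar : f.range.Characteristic := by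
    refine characteristic_iff_map_le.2 fun e => ?_
    rintro _ ⟨_, ⟨z, rfl⟩, rfl⟩
    have hz : e (z : ↥(S : Subgroup G)) ∈ ZS := by
      exact (characteristic_iff_map_eq.1 (inferInstance : ZS.Characteristic) e).le
        (mem_map_of_mem _ z.2)
    exact ⟨⟨_, hz⟩, by simp [f]⟩
  have hmem : ∀ x ∈ f.range.map (S : Subgroup G).subtype,
      ∃ z ∈ zOf (S : Subgroup G), z ^ p = x := by
    rintro _ ⟨_, ⟨z, rfl⟩, rfl⟩
    exact ⟨z.1.1, (zOf_eq_map (S : Subgroup G)).le ⟨z, z.2, rfl⟩, by simp [f]⟩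
  have hn : (f.range.map (S : Subgroup G).subtype).Normal := by
    refine h.normal_of_centralized (le_centralizer_iff.1 fun x hx => ?_)
      (le_centralizer_iff.1 fun x hx => ?_) <;> obtain ⟨z, hz, rfl⟩ := hmem x hx
    · exact pow_mem hz.2 p
    · exact (h.baumann (h.thompson_not_le hd) (h.center_not_normal hd)).2 z hz
  intro z hz
  by_contra hne
  refine hd f.range ?_ hchar hn
  intro hb
  obtain ⟨y, hy, rfl⟩ := (zOf_eq_map (S : Subgroup G)).ge hz
  refine hne ?_
  have h1 : f ⟨y, hy⟩ ∈ (⊥ : Subgroup ↥(S : Subgroup G)) := hb ▸ ⟨_, rfl⟩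
  have h2 : y ^ p = 1 := by simpa [f] using mem_bot.1 h1
  simpa using congrArg Subtype.val h2

theorem residual_not_centralizes {V : Subgroup G} (hZV : zOf (S : Subgroup G) ≤ V) :
    ¬ Cfsg.pResidual p G ≤ centralizer (V : Set G) := fun hc =>
  h.center_not_normal hd
    (h.normal_of_centralized (le_centralizer_iff.1 inf_le_right) (hc.trans (centralizer_le hZV)))

omit hd in
/-- The module, when `J(S)` leaves the kernel and `Z(S)` is elementary and not normal. -/
theorem exists_datum_of (hJ : ¬ Cfsg.thompsonSubgroupAOf (S : Subgroup G) ≤ φ.ker)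
    (hZ : ¬ (zOf (S : Subgroup G)).Normal) (hZp : ∀ z ∈ zOf (S : Subgroup G), z ^ p = 1) :
    ∃ V : Subgroup G,
    Datum p (S : Subgroup G) (Cfsg.pCore p G) V (p ^ n) ∧ M ≤ normalizer (zOf (S : Subgroup G) : Set G) := by
  classical
  have hp : p.Prime := Fact.out
  set Q := Cfsg.pCore p G with hQ
  set Z := zOf (S : Subgroup G) with hZdef
  haveI hQn : Q.Normal := Cfsg.pCore_normal p G
  obtain ⟨V₀, -, hV₀n, -, -, hZV₀, hV₀Q, hfix₀, hidx₀, -, -⟩ := h.closure_center_facts hJ hZ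
  set V := normalClosure (Z : Set G) with hVdef
  have hZV : Z ≤ V := subset_normalClosure
  have hVV₀ : V ≤ V₀ := normalClosure_le_normal hZV₀
  have hVQ : V ≤ Q := hVV₀.trans (hV₀Q.trans inf_le_left)
  have hVC : V ≤ centralizer (Q : Set G) := hVV₀.trans (hV₀Q.trans inf_le_right)
  have hVab : V ≤ centralizer (V : Set G) := hVC.trans (centralizer_le hVQ)
  have hV₀ab : V₀ ≤ centralizer (V₀ : Set G) :=
    (hV₀Q.trans inf_le_right).trans (centralizer_le (hV₀Q.trans inf_le_left))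
  have hexp : ∀ v ∈ V, v ^ p = 1 := fun v hv => by
    haveI := torsionOf_normal (p := p) hV₀ab
    exact ((normalClosure_le_normal (N := torsionOf p V₀ hV₀ab)
      fun z hz => ⟨hZV₀ hz, hZp z hz⟩) hv).2
  have hLV : ¬ Cfsg.pResidual p G ≤ centralizer (V : Set G) := fun hc =>
    hZ (h.normal_of_centralized (le_centralizer_iff.1 inf_le_right) (hc.trans (centralizer_le hZV)))
  have hfix : ∀ a ∈ (S : Subgroup G), a ∉ Q → V ⊓ centralizer ({a} : Set G) ≤ Z := fun a ha haQ =>
    le_trans (inf_le_inf_right _ hVV₀) (hfix₀ a ha fun e => haQ ((h.mem_pCore_iff ha).2 e))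
  have hq1 : 1 < p ^ n := Nat.one_lt_pow (by have := h.one_le; omega) hp.one_lt
  obtain ⟨a₀, ha₀, ha₀1⟩ := h.exists_mem_sylow_not_ker
  have ha₀Q : a₀ ∉ Q := fun e => ha₀1 ((h.mem_pCore_iff ha₀).1 e)
  have hrelV : Z.relIndex V = p ^ n := by
    refine le_antisymm ((relIndex_le_of_le' hVV₀).trans hidx₀.le) ?_
    exact (h.le_relIndex_centralizer hexp hVab hLV ha₀ ha₀1).trans
      (Nat.le_of_dvd (relIndex_pos' _ _) (relIndex_dvd_of_le_left V (le_inf hZV
        (inf_le_right.trans (centralizer_le (Set.singleton_subset_iff.2 ha₀))))))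
  -- two opposite Sylow subgroups
  obtain ⟨x₀, hx₀⟩ := h.exists_conj_not_le
  set cx := (MulAut.conj x₀).toMonoidHom with hcx
  have htop : (S : Subgroup G) ⊔ (S : Subgroup G).map cx = ⊤ := by
    by_contra hne
    exact hx₀ (le_sup_right.trans (h.le_of_ne_top le_sup_left hne))
  have hVfix : V.map cx = V :=
    CfsgLib.Comp.map_conj_eq_iff.2 (by rw [normalizer_eq_top]; trivial)
  set C := V ⊓ center G with hCdef
  haveI hCn : C.Normal := inferInstance
  have hCZ : C ≤ Z := fun c hc => ⟨h.pCore_le (hVQ hc.1), fun s _ => mem_center_iff.1 hc.2 s⟩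
  have hC : Z ⊓ Z.map cx ≤ C := by
    refine le_inf (inf_le_left.trans hZV) fun v hv => mem_center_iff.2 fun g => ?_
    have hc : (⊤ : Subgroup G) ≤ centralizer ({v} : Set G) := by
      rw [← htop]
      refine sup_le (fun s hs => mem_centralizer_singleton_iff.2 (hv.1.2 s hs)) ?_
      rintro _ ⟨s, hs, rfl⟩
      obtain ⟨z, hz, hzv⟩ := hv.2
      rw [← hzv, mem_centralizer_singleton_iff, ← map_mul, ← map_mul, hz.2 s hs]
    exact mem_centralizer_singleton_iff.1 (hc (mem_top g))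
  have hrelC : C.relIndex Z = p ^ n := by
    have hle : C.relIndex Z ≤ p ^ n := by
      calc C.relIndex Z ≤ (Z ⊓ Z.map cx).relIndex Z :=
            Nat.le_of_dvd (relIndex_pos' _ _) (relIndex_dvd_of_le_left Z hC)
        _ = (Z.map cx).relIndex Z := inf_relIndex_left _ _
        _ ≤ (Z.map cx).relIndex V := relIndex_le_of_le' hZV
        _ = p ^ n := by
            have := relIndex_map_map_of_injective Z V (f := cx) (MulAut.conj x₀).injective
            rw [hVfix] at this
            rw [this, hrelV]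
    have hge := h.sq_le_relIndex_sup hexp hVab hLV S.isPGroup' (S.isPGroup'.map cx)
      (top_le_iff.1 (htop.ge.trans le_sup_left))
    have h2 : (p ^ n) ^ 2 ≤ C.relIndex V := hge.trans
      (Nat.le_of_dvd (relIndex_pos' _ _) (relIndex_dvd_of_le_left V (le_inf inf_le_left
        (inf_le_right.trans (fun c hc g _ => mem_center_iff.1 hc g)))))
    rw [← relIndex_mul_relIndex C Z V hCZ hZV, hrelV, sq] at h2
    exact le_antisymm hle (Nat.le_of_mul_le_mul_right h2 (by omega))
  have hrelQ : Q.relIndex (S : Subgroup G) = p ^ n := by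
    rw [hQ, h.pCore_eq, inf_relIndex_left, relIndex_ker, h.card_map]
  -- `M` normalizes `Z`
  have hfix' : ∀ g : G, ∀ a ∈ (S : Subgroup G).map (MulAut.conj g).toMonoidHom, a ∉ Q →
      ∀ v ∈ V, v * a = a * v → v ∈ Z.map (MulAut.conj g).toMonoidHom := by
    rintro g _ ⟨s, hs, rfl⟩ haQ v hv hva
    have hsQ : s ∉ Q := fun e => haQ (hQn.conj_mem s e g)
    refine ⟨g⁻¹ * v * g, hfix s hs hsQ ⟨by simpa using (inferInstance : V.Normal).conj_mem v hv g⁻¹,
      mem_centralizer_singleton_iff.2 ?_⟩, by simp [mul_assoc]⟩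
    have hva' : v * (g * s * g⁻¹) = g * s * g⁻¹ * v := hva
    calc g⁻¹ * v * g * s = g⁻¹ * (v * (g * s * g⁻¹)) * g := by group
      _ = g⁻¹ * (g * s * g⁻¹ * v) * g := by rw [hva']
      _ = _ := by group
  have hcomm' : ∀ g : G, ∀ v ∈ Z.map (MulAut.conj g).toMonoidHom,
      (S : Subgroup G).map (MulAut.conj g).toMonoidHom ≤ centralizer ({v} : Set G) := by
    rintro g _ ⟨z, hz, rfl⟩ _ ⟨s, hs, rfl⟩
    rw [mem_centralizer_singleton_iff, ← map_mul, ← map_mul, hz.2 s hs]
  -- the Sylow subgroups fixing a noncentral point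
  have hsame : ∀ v, v ∈ V → v ∉ C → ∀ g₁ g₂ : G, v ∈ Z.map (MulAut.conj g₁).toMonoidHom →
      v ∈ Z.map (MulAut.conj g₂).toMonoidHom → g₁⁻¹ * g₂ ∈ M := by
    intro v hvV hvC g₁ g₂ h1 h2
    set H := centralizer ({v} : Set G) with hH
    have hne : H ≠ ⊤ := fun e => hvC ⟨hvV, mem_center_iff.2 fun g =>
      mem_centralizer_singleton_iff.1 (show g ∈ H by rw [e]; trivial)⟩
    have hne' : H.map (MulAut.conj g₁⁻¹).toMonoidHom ≠ ⊤ := fun e => hne (eq_top_iff.2 fun x _ => by
      obtain ⟨y, hy, hyx⟩ : g₁⁻¹ * x * g₁ ∈ H.map (MulAut.conj g₁⁻¹).toMonoidHom := by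
        rw [e]; trivial
      have hyx' : g₁⁻¹ * y * g₁⁻¹⁻¹ = g₁⁻¹ * x * g₁ := hyx
      rw [inv_inv] at hyx'
      rwa [← mul_left_cancel (mul_right_cancel hyx')])
    have hSH : (S : Subgroup G) ≤ H.map (MulAut.conj g₁⁻¹).toMonoidHom := fun s hs =>
      ⟨g₁ * s * g₁⁻¹, hcomm' g₁ v h1 ⟨s, hs, rfl⟩, by simp [mul_assoc]⟩
    refine h.mem_of_conj_le ?_
    refine le_trans ?_ (h.le_of_ne_top hSH hne')
    rintro _ ⟨s, hs, rfl⟩
    exact ⟨g₂ * s * g₂⁻¹, hcomm' g₂ v h2 ⟨s, hs, rfl⟩, by simp [mul_assoc]⟩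
  have hMZ : M ≤ normalizer (Z : Set G) := by
    have hfree : ∀ a ∈ (S : Subgroup G), x₀⁻¹ * a * x₀ ∈ M → a ∈ Q := by
      intro a ha haM
      by_contra haQ
      obtain ⟨k, hk⟩ := S.isPGroup' ⟨a, ha⟩
      have hk' : a ^ p ^ k = 1 := congrArg Subtype.val hk
      let a' : M := ⟨_, haM⟩
      have hpa : IsPGroup p (zpowers a') := by
        rintro ⟨y, hy⟩
        obtain ⟨i, rfl⟩ := mem_zpowers_iff.1 hy
        refine ⟨k, Subtype.ext ?_⟩
        show (a' ^ i) ^ p ^ k = 1
        have h0 : a' ^ p ^ k = 1 := Subtype.ext (by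
          show (x₀⁻¹ * a * x₀) ^ p ^ k = 1
          have := conj_pow (i := p ^ k) (a := x₀⁻¹) (b := a)
          rw [inv_inv] at this
          rw [this, hk', mul_one, inv_mul_cancel])
        rw [← zpow_natCast, zpow_comm, zpow_natCast, h0, one_zpow]
      obtain ⟨P, hP⟩ := hpa.exists_le_sylow
      obtain ⟨m, hm⟩ := MulAction.exists_smul_eq M (S.subtype h.le) P
      obtain ⟨⟨s, hs⟩, hsS, hms⟩ : a' ∈ MulAut.conj m • ((S.subtype h.le : Sylow p M) : Subgroup M) := by
        rw [← Sylow.coe_subgroup_smul, hm]; exact hP (mem_zpowers a')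
      have hsS' : s ∈ (S : Subgroup G) := hsS
      have has : a ∈ (S : Subgroup G).map (MulAut.conj (x₀ * m)).toMonoidHom := by
        refine ⟨s, hsS', ?_⟩
        have h1 : (m : G) * s * (m : G)⁻¹ = x₀⁻¹ * a * x₀ := congrArg Subtype.val hms
        show x₀ * m * s * (x₀ * m)⁻¹ = a
        rw [show x₀ * m * s * (x₀ * m)⁻¹ = x₀ * ((m : G) * s * (m : G)⁻¹) * x₀⁻¹ by group, h1]
        group
      obtain ⟨v, hvZ, hvC⟩ := SetLike.not_le_iff_exists.1 (show ¬ Z ≤ C from fun hle => by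
        have := hrelC; rw [relIndex_eq_one.2 hle] at this; omega)
      have := hsame v (hZV hvZ) hvC 1 (x₀ * m) ⟨v, hvZ, by simp⟩
        (hfix' _ a has haQ v (hZV hvZ) (hvZ.2 a ha).symm)
      rw [inv_one, one_mul] at this
      refine hx₀ ?_
      have hx₀M : x₀ ∈ M := by simpa using mul_mem this (inv_mem m.2)
      rintro _ ⟨s, hs, rfl⟩
      exact mul_mem (mul_mem hx₀M (h.le hs)) (inv_mem hx₀M)
    set N := Q.subgroupOf (S : Subgroup G) with hN
    let U := {u : G // u ∈ V ∧ u ∉ C ∧ ∃ m ∈ M, u ∈ Z.map (MulAut.conj m).toMonoidHom}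
    let y : Option (↥(S : Subgroup G) ⧸ N) → G := fun o => o.elim 1 fun c => (c.out : G) * x₀
    have hy : ∀ o o', (y o)⁻¹ * y o' ∈ M → o = o' := by
      have hx : ∀ s ∈ (S : Subgroup G), s * x₀ ∉ M := fun s hs hm => by
        have hx₀M : x₀ ∈ M := by simpa using mul_mem (inv_mem (h.le hs)) hm
        refine hx₀ ?_
        rintro _ ⟨s', hs', rfl⟩
        exact mul_mem (mul_mem hx₀M (h.le hs')) (inv_mem hx₀M)
      rintro (_ | c) (_ | c') hm <;> simp only [y, Option.elim] at hm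
      · rfl
      · exact absurd (by simpa using hm) (hx _ c'.out.2)
      · exact absurd (by simpa using inv_mem hm) (hx _ c.out.2)
      · congr 1
        rw [← c.out_eq', ← c'.out_eq', QuotientGroup.eq]
        exact hfree _ (mul_mem (inv_mem c.out.2) c'.out.2) (by
          simpa [mul_assoc] using hm)
    let W := {u : G // u ∈ V ∧ u ∉ C}
    let Φ : Option (↥(S : Subgroup G) ⧸ N) × U → W := fun o => ⟨y o.1 * o.2.1 * (y o.1)⁻¹,
      (inferInstance : V.Normal).conj_mem _ o.2.2.1 _, fun hc => o.2.2.2.1 (by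
        simpa [mul_assoc] using hCn.conj_mem _ hc (y o.1)⁻¹)⟩
    have hΦ : Function.Injective Φ := by
      rintro ⟨o, u, huV, huC, m, hm, hu⟩ ⟨o', u', huV', huC', m', hm', hu'⟩ he
      have he' : y o * u * (y o)⁻¹ = y o' * u' * (y o')⁻¹ := congrArg Subtype.val he
      have hoo : o = o' := by
        refine hy o o' ?_
        obtain ⟨z, hz, rfl⟩ := hu
        obtain ⟨z', hz', rfl⟩ := hu'
        have := hsame _ (Φ ⟨o, _, huV, huC, m, hm, z, hz, rfl⟩).2.1 (Φ ⟨o, _, huV, huC, m, hm, z, hz, rfl⟩).2.2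
          (y o * m) (y o' * m') ⟨z, hz, by simp [Φ, mul_assoc]⟩
          ⟨z', hz', by simp [Φ, mul_assoc] at he' ⊢; rw [he']⟩
        have := mul_mem (mul_mem hm this) (inv_mem hm')
        simpa [mul_assoc] using this
      subst hoo
      exact Prod.ext rfl (Subtype.ext (mul_left_cancel (mul_right_cancel he')))
    have hcard := Nat.card_le_card_of_injective Φ hΦ
    haveI : Finite (↥(S : Subgroup G) ⧸ N) := inferInstance
    have hidxN : Nat.card (↥(S : Subgroup G) ⧸ N) = p ^ n := hrelQ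
    rw [Nat.card_prod, Finite.card_option, hidxN] at hcard
    have hsub : ∀ (A : Subgroup G), C ≤ A →
        Nat.card {u : G // u ∈ A ∧ u ∉ C} + Nat.card C = Nat.card A := by
      intro A hCA
      haveI := Fintype.ofFinite A
      have e1 : Nat.card {u : G // u ∈ A ∧ u ∉ C} = Nat.card {u : A // (u : G) ∉ C} :=
        Nat.card_congr ⟨fun u => ⟨⟨u.1, u.2.1⟩, u.2.2⟩, fun u => ⟨u.1.1, u.1.2, u.2⟩,
          fun _ => rfl, fun _ => rfl⟩
      have e2 : Nat.card C = Nat.card {u : A // (u : G) ∈ C} :=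
        Nat.card_congr ⟨fun c => ⟨⟨c.1, hCA c.2⟩, c.2⟩, fun u => ⟨u.1.1, u.2⟩,
          fun _ => rfl, fun _ => rfl⟩
      rw [e1, e2, add_comm, ← Nat.card_sum, Nat.card_congr (Equiv.sumCompl _)]
    have h1 := hsub V (hCZ.trans hZV)
    have h2 := hsub Z hCZ
    rw [card_eq_mul (hCZ.trans hZV), ← relIndex_mul_relIndex C Z V hCZ hZV, hrelC, hrelV] at h1
    rw [card_eq_mul hCZ, hrelC] at h2
    let ι : {u : G // u ∈ Z ∧ u ∉ C} → U := fun u =>
      ⟨u.1, hZV u.2.1, u.2.2, 1, one_mem M, u.1, u.2.1, by simp⟩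
    have hι : Function.Injective ι := fun a b e => Subtype.ext (show (a : G) = b from congrArg (fun u : U => (u : G)) e)
    have hge := Nat.card_le_card_of_injective ι hι
    have heq : Nat.card U ≤ Nat.card {u : G // u ∈ Z ∧ u ∉ C} := by
      have hcard' : (p ^ n + 1) * Nat.card U ≤ Nat.card W := hcard
      have hc0 : 0 < Nat.card C := Nat.card_pos
      nlinarith
    have hsurj : Function.Surjective ι :=
      ((Nat.bijective_iff_injective_and_card ι).2 ⟨hι, le_antisymm hge heq⟩).2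
    have key : ∀ m ∈ M, ∀ v ∈ Z, m * v * m⁻¹ ∈ Z := by
      intro m hm v hv
      by_cases hvC : m * v * m⁻¹ ∈ C
      · exact hCZ hvC
      · obtain ⟨u, hu⟩ := hsurj ⟨m * v * m⁻¹, (inferInstance : V.Normal).conj_mem v (hZV hv) m, hvC,
          m, hm, v, hv, rfl⟩
        have : (u : G) = m * v * m⁻¹ := congrArg Subtype.val hu
        exact this ▸ u.2.1
    intro m hm
    rw [mem_normalizer_iff]
    exact fun v => ⟨key m hm v, fun hv => by simpa [mul_assoc] using key m⁻¹ (inv_mem hm) _ hv⟩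
  -- `[V, S] ≤ Z`
  have hcm : ∀ v ∈ V, ∀ a ∈ (S : Subgroup G), ⁅v, a⁆ ∈ Z := by
    let T : Subgroup G :=
      { carrier := {v | v ∈ V ∧ ∀ a ∈ (S : Subgroup G), ⁅v, a⁆ ∈ Z}
        one_mem' := ⟨one_mem V, fun a _ => by rw [commutatorElement_one_left]; exact one_mem Z⟩
        mul_mem' := by
          rintro x y ⟨hx, hx'⟩ ⟨hy, hy'⟩
          refine ⟨mul_mem hx hy, fun a ha => ?_⟩
          have e : ⁅x * y, a⁆ = x * ⁅y, a⁆ * x⁻¹ * ⁅x, a⁆ := by
            simp [commutatorElement_def, mul_assoc]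
          rw [e, show x * ⁅y, a⁆ = ⁅y, a⁆ * x from hVab (hZV (hy' a ha)) x hx, mul_inv_cancel_right]
          exact mul_mem (hy' a ha) (hx' a ha)
        inv_mem' := by
          rintro x ⟨hx, hx'⟩
          refine ⟨inv_mem hx, fun a ha => ?_⟩
          have e : ⁅x⁻¹, a⁆ = x⁻¹ * ⁅x, a⁆⁻¹ * x := by
            simp [commutatorElement_def, mul_assoc]
          rw [e, mul_assoc, show ⁅x, a⁆⁻¹ * x = x * ⁅x, a⁆⁻¹ from hVab hx _ (hZV (inv_mem (hx' a ha))),
            ← mul_assoc, inv_mul_cancel, one_mul]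
          exact inv_mem (hx' a ha) }
    by_contra hcon
    simp only [not_forall, exists_prop] at hcon
    obtain ⟨v₀, hv₀, a₁, ha₁, hva⟩ := hcon
    have hv₀T : v₀ ∉ T := fun e => hva (e.2 a₁ ha₁)
    obtain ⟨k, hk⟩ : ∃ k, Cfsg.iterCommutator V (S : Subgroup G) k ≤ T := by
      haveI : Group.IsNilpotent ↥(S : Subgroup G) := S.isPGroup'.isNilpotent
      obtain ⟨k, hk⟩ := Subgroup.nilpotent_iff_lowerCentralSeries.1 this
      refine ⟨k, le_trans ?_ (bot_le : ⊥ ≤ T)⟩
      have : ∀ j, Cfsg.iterCommutator V (S : Subgroup G) j ≤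
          ((⊤ : Subgroup ↥(S : Subgroup G)).lowerCentralSeries j).map (S : Subgroup G).subtype := by
        intro j
        induction j with
        | zero =>
          rw [Subgroup.lowerCentralSeries_zero, ← MonoidHom.range_eq_map, range_subtype]
          exact hVQ.trans h.pCore_le
        | succ j ih =>
          rw [Cfsg.iterCommutator, Subgroup.lowerCentralSeries_succ, map_commutator,
            ← MonoidHom.range_eq_map, range_subtype]
          exact commutator_mono ih le_rfl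
      exact (this k).trans (by rw [hk, Subgroup.map_bot])
    induction k with
    | zero => exact hv₀T (hk hv₀)
    | succ k ih =>
      refine ih fun w hw => ?_
      by_contra hwT
      have hwV : w ∈ V := by
        have : ∀ j, Cfsg.iterCommutator V (S : Subgroup G) j ≤ V := by
          intro j
          induction j with
          | zero => exact le_rfl
          | succ j ihj => exact (commutator_mono ihj le_rfl).trans (commutator_le_left V _)
        exact this k hw
      have hT : ∀ s ∈ (S : Subgroup G), ⁅w, s⁆ ∈ T := fun s hs => hk (commutator_mem_commutator hw hs)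
      have hTlt : Z.relIndex T < p ^ n := by
        have hZT : Z ≤ T := fun z hz => ⟨hZV hz, fun a ha => by
          rw [commutatorElement_eq_one_iff_mul_comm.2 (hz.2 a ha).symm]; exact one_mem Z⟩
        have hTV : T ≤ V := fun t ht => ht.1
        have hm := relIndex_mul_relIndex Z T V hZT hTV
        rw [hrelV] at hm
        have h1 : T.relIndex V ≠ 1 := fun e => hv₀T (relIndex_eq_one.1 e hv₀)
        have := relIndex_pos' T V
        have := relIndex_pos' Z T
        have h1' : 2 ≤ T.relIndex V := by omega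
        nlinarith
      set N := Q.subgroupOf (S : Subgroup G)
      let f : ↥(S : Subgroup G) ⧸ N → T ⧸ Z.subgroupOf T := fun c =>
        QuotientGroup.mk ⟨⁅w, (c.out : G)⁆, hT _ c.out.2⟩
      obtain ⟨c, c', hcc, hfc⟩ : ∃ c c', c ≠ c' ∧ f c = f c' := by
        by_contra hcon
        simp only [not_exists, not_and] at hcon
        have := Nat.card_le_card_of_injective f fun a b e => by
          by_contra hne; exact hcon a b hne e
        rw [show Nat.card (↥(S : Subgroup G) ⧸ N) = p ^ n from hrelQ] at this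
        exact absurd this (not_le.2 hTlt)
      set s := (c.out : G)
      set s' := (c'.out : G)
      set s₀ := s⁻¹ * s' with hs₀
      have hs₀S : s₀ ∈ (S : Subgroup G) := mul_mem (inv_mem c.out.2) c'.out.2
      have hs₀Q : s₀ ∉ Q := fun e => hcc (by
        rw [← c.out_eq', ← c'.out_eq', QuotientGroup.eq]; exact e)
      have hz : ⁅w, s⁆⁻¹ * ⁅w, s'⁆ ∈ Z := (QuotientGroup.eq.1 hfc :)
      have hzw : w⁻¹ * (s₀ * w * s₀⁻¹) ∈ Z := by
        have e : ⁅w, s⁆⁻¹ * ⁅w, s'⁆ = s * (w * (s₀ * w⁻¹ * s₀⁻¹)) * s⁻¹ := by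
          simp [commutatorElement_def, s₀, mul_assoc]
        rw [e] at hz
        have h1 : w * (s₀ * w⁻¹ * s₀⁻¹) ∈ Z := by
          have h2 : s⁻¹ * (s * (w * (s₀ * w⁻¹ * s₀⁻¹)) * s⁻¹) * s =
              s * (w * (s₀ * w⁻¹ * s₀⁻¹)) * s⁻¹ := by
            have := conj_mem_of_mem_zOf (inv_mem (show s ∈ (S : Subgroup G) from c.out.2)) hz
            rwa [inv_inv] at this
          have h3 : w * (s₀ * w⁻¹ * s₀⁻¹) = s * (w * (s₀ * w⁻¹ * s₀⁻¹)) * s⁻¹ := by
            conv_rhs => rw [← h2]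
            group
          rw [h3]; exact hz
        have hV1 : s₀ * w⁻¹ * s₀⁻¹ ∈ V := (inferInstance : V.Normal).conj_mem _ (inv_mem hwV) _
        rw [hVab hV1 w hwV] at h1
        simpa [mul_assoc] using inv_mem h1
      apply hwT
      refine ⟨hwV, fun a ha => ?_⟩
      set u := ⁅w, a⁆ with hu
      have huV : u ∈ V := (hT a ha).1
      refine hfix s₀ hs₀S hs₀Q ⟨huV, mem_centralizer_singleton_iff.2 ?_⟩
      set z := w⁻¹ * (s₀ * w * s₀⁻¹)
      have hsw : s₀ * w * s₀⁻¹ = w * z := by simp [z]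
      have hsw' : s₀ * w⁻¹ * s₀⁻¹ = z⁻¹ * w⁻¹ := by
        rw [← mul_inv_rev, ← hsw]; group
      have hc : a⁻¹ * s₀⁻¹ * a * s₀ ∈ Q := by
        have := h.commutatorElement_mem_pCore (inv_mem ha) (inv_mem hs₀S)
        simpa [commutatorElement_def] using this
      have hza : a * z⁻¹ * a⁻¹ = z⁻¹ := conj_mem_of_mem_zOf ha (inv_mem hzw)
      have hq : (a⁻¹ * s₀⁻¹ * a * s₀) * w⁻¹ = w⁻¹ * (a⁻¹ * s₀⁻¹ * a * s₀) :=
        hVC (inv_mem hwV) _ hc
      have e2 : s₀ * (a * w⁻¹ * a⁻¹) * s₀⁻¹ = a * (s₀ * w⁻¹ * s₀⁻¹) * a⁻¹ := by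
        calc s₀ * (a * w⁻¹ * a⁻¹) * s₀⁻¹
            = s₀ * a * (w⁻¹ * (a⁻¹ * s₀⁻¹ * a * s₀)) * s₀⁻¹ * a⁻¹ := by group
          _ = s₀ * a * ((a⁻¹ * s₀⁻¹ * a * s₀) * w⁻¹) * s₀⁻¹ * a⁻¹ := by rw [hq]
          _ = _ := by group
      have hmain : s₀ * u * s₀⁻¹ = u := by
        calc s₀ * u * s₀⁻¹ = (s₀ * w * s₀⁻¹) * (s₀ * (a * w⁻¹ * a⁻¹) * s₀⁻¹) := by
              simp [u, commutatorElement_def, mul_assoc]
          _ = w * z * (a * (z⁻¹ * w⁻¹) * a⁻¹) := by rw [hsw, e2, hsw']
          _ = w * z * ((a * z⁻¹ * a⁻¹) * (a * w⁻¹ * a⁻¹)) := by group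
          _ = u := by rw [hza]; simp [u, commutatorElement_def, mul_assoc]
      calc u * s₀ = (s₀ * u * s₀⁻¹) * s₀ := by rw [hmain]
        _ = _ := by group
  refine ⟨V, ⟨hq1, h.pCore_le, hQn, inferInstance, hVQ, hVC, hZV, hexp, hfix, hcm, ?_, hrelV, hrelC,
    hrelQ, ?_, fun hle => hZ ⟨fun z hz g => by
      rwa [mem_center_iff.1 (hle hz) g, mul_inv_cancel_right]⟩, ?_⟩, hMZ⟩
  · intro v hv a ha hc
    by_cases haQ : a ∈ Q
    · exact commutatorElement_eq_one_iff_mul_comm.2 (hVC hv a haQ).symm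
    have ha1 : φ a ≠ 1 := fun e => haQ ((h.mem_pCore_iff ha).2 e)
    set π := QuotientGroup.mk' C with hπ
    have hCk : C ≤ φ.ker := (hCZ.trans hZV).trans (hVQ.trans h.pCore_le_ker)
    have h' := h.toPre.quotient (N := C) hCk
    have hW : ∀ w ∈ V.map π, w ^ p = 1 := by
      rintro _ ⟨w, hw, rfl⟩; rw [← map_pow, hexp w hw, map_one]
    have hWab : V.map π ≤ centralizer (V.map π : Set (G ⧸ C)) := by
      rintro _ ⟨w, hw, rfl⟩ _ ⟨w', hw', rfl⟩
      rw [← map_mul, ← map_mul, hVab hw w' hw']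
    haveI : (V.map π).Normal := Subgroup.Normal.map inferInstance _ (QuotientGroup.mk'_surjective C)
    have hWc : ¬ Cfsg.pResidual p (G ⧸ C) ≤ centralizer (V.map π : Set (G ⧸ C)) := by
      intro hle
      refine hLV (CfsgLib.Transfer.pResidual_le_of_isPGroup_quotient
        (CfsgLib.Transfer.isPGroup_quotient_of_coprime_mem fun x hx => ?_))
      refine mem_centralizer_iff.2 fun w hw => ?_
      set c := ⁅x, w⁆ with hc
      have hπx : π x ∈ Cfsg.pResidual p (G ⧸ C) :=
        CfsgLib.Transfer.mem_pResidual_of_coprime (hx.coprime_dvd_left (orderOf_map_dvd π x))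
      have hcC : c ∈ C := by
        rw [← QuotientGroup.eq_one_iff]
        show π c = 1
        rw [map_commutatorElement, commutatorElement_eq_one_iff_mul_comm]
        exact (mem_centralizer_iff.1 (hle hπx) _ ⟨w, hw, rfl⟩).symm
      have hpow : ∀ m : ℕ, x ^ m * w * (x ^ m)⁻¹ = c ^ m * w := by
        intro m
        induction m with
        | zero => simp
        | succ m ihm =>
          have hxc : x * c ^ m * x⁻¹ = c ^ m := by
            rw [mem_center_iff.1 (pow_mem hcC.2 m) x, mul_inv_cancel_right]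
          calc x ^ (m + 1) * w * (x ^ (m + 1))⁻¹ = x * (x ^ m * w * (x ^ m)⁻¹) * x⁻¹ := by
                rw [pow_succ']; group
            _ = (x * c ^ m * x⁻¹) * (x * w * x⁻¹) := by rw [ihm]; group
            _ = c ^ m * (c * w) := by rw [hxc]; simp [c, commutatorElement_def, mul_assoc]
            _ = _ := by simp only [pow_succ, mul_assoc]
      have h2 := hpow (orderOf x)
      rw [pow_orderOf_eq_one, one_mul, inv_one, mul_one] at h2
      have h4 : c = 1 := orderOf_eq_one_iff.1 (Nat.eq_one_of_dvd_coprimes hx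
        (orderOf_dvd_of_pow_eq_one (right_eq_mul.1 h2)) (orderOf_dvd_of_pow_eq_one (hexp c hcC.1)))
      exact (commutatorElement_eq_one_iff_mul_comm.1 h4).symm
    have hge := h'.le_relIndex_centralizer hW hWab hWc
      (a := π a) (by rw [Sylow.coe_mapSurjective]; exact mem_map_of_mem π ha) ha1
    rw [← relIndex_comap, comap_inf] at hge
    set D := (centralizer ({π a} : Set (G ⧸ C))).comap π
    have hD : p ^ n ≤ (V ⊓ D).relIndex V := by
      refine le_trans hge (Nat.le_of_dvd (relIndex_pos' _ _) (relIndex_dvd_of_le_left V ?_))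
      exact inf_le_inf_right D (le_comap_map π V)
    have hZD : Z ≤ V ⊓ D := le_inf hZV fun z hz => by
      rw [mem_comap, mem_centralizer_singleton_iff, ← map_mul, ← map_mul, hz.2 a ha]
    have h3 := relIndex_mul_relIndex Z (V ⊓ D) V hZD inf_le_left
    rw [hrelV] at h3
    have h4 : Z.relIndex (V ⊓ D) = 1 := by
      have := relIndex_pos' Z (V ⊓ D); nlinarith
    have hvD : v ∈ V ⊓ D := ⟨hv, by
      show π v ∈ centralizer ({π a} : Set (G ⧸ C))
      rw [mem_centralizer_singleton_iff, ← commutatorElement_eq_one_iff_mul_comm,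
        ← map_commutatorElement]
      exact (QuotientGroup.eq_one_iff _).2
        ⟨hZV (hcm v hv a ha), hc⟩⟩
    exact commutatorElement_eq_one_iff_mul_comm.2 ((relIndex_eq_one.1 h4 hvD).2 a ha).symm
  · intro x hx a ha haQ
    by_contra hne
    have hle := h.le_of_ne_top le_sup_left hne
    have haM : a ∈ M := hle (mem_sup_right (mem_zpowers a))
    obtain ⟨s, hs, rfl⟩ := ha
    let a' : M := ⟨_, haM⟩
    obtain ⟨k, hk⟩ := (S.isPGroup'.map (MulAut.conj x).toMonoidHom) ⟨_, s, hs, rfl⟩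
    have h0 : a' ^ p ^ k = 1 := Subtype.ext (by
      have := congrArg Subtype.val hk
      rw [SubmonoidClass.coe_pow] at this ⊢
      exact this)
    have hpa : IsPGroup p (zpowers a') := by
      rintro ⟨y, hy⟩
      obtain ⟨i, rfl⟩ := mem_zpowers_iff.1 hy
      refine ⟨k, Subtype.ext ?_⟩
      show (a' ^ i) ^ p ^ k = 1
      rw [← zpow_natCast, zpow_comm, zpow_natCast, h0, one_zpow]
    obtain ⟨P, hP⟩ := hpa.exists_le_sylow
    obtain ⟨m, hm⟩ := MulAction.exists_smul_eq M (S.subtype h.le) P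
    obtain ⟨⟨s', hs'M⟩, hs', hms⟩ : a' ∈ MulAut.conj m • ((S.subtype h.le : Sylow p M) : Subgroup M) := by
      rw [← Sylow.coe_subgroup_smul, hm]; exact hP (mem_zpowers a')
    have hs'S : s' ∈ (S : Subgroup G) := hs'
    have ham : (MulAut.conj x).toMonoidHom s ∈ (S : Subgroup G).map (MulAut.conj (m : G)).toMonoidHom :=
      ⟨s', hs'S, congrArg Subtype.val hms⟩
    refine hx (eq_of_le_of_card_ge ?_ (card_map_of_injective (MulAut.conj x).injective).ge)
    intro z hz
    have hzV : z ∈ V := by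
      obtain ⟨w, hw, rfl⟩ := hz
      exact (inferInstance : V.Normal).conj_mem w (hZV hw) x
    obtain ⟨w, hw, hwz⟩ := hfix' _ _ ham haQ z hzV
      (mem_centralizer_singleton_iff.1 (hcomm' x z hz ⟨s, hs, rfl⟩)).symm
    rw [← hwz]
    exact (mem_normalizer_iff.1 (hMZ m.2) w).1 hw

  · by_contra hcon
    simp only [not_exists, not_not] at hcon
    exact hZ ⟨fun z hz g => (hcon g).le ⟨z, hz, rfl⟩⟩

theorem exists_datum : ∃ V : Subgroup G,
    Datum p (S : Subgroup G) (Cfsg.pCore p G) V (p ^ n) ∧ M ≤ normalizer (zOf (S : Subgroup G) : Set G) :=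
  h.exists_datum_of (h.thompson_not_le hd) (h.center_not_normal hd) (h.center_pow_eq_one hd)

end Sit

end CfsgLib.ClassK.Push
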