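import Cfsg.Agent.Lib.ClassK.PushFam

/-!
The conjugates of a pushing-up group under the automorphisms of its Sylow subgroup, inside a
symmetric group. Either an automorphism image of the module leaves `O_p`, or two automorphism
images inside `O_p` at distance two fail to commute.
-/

set_option autoImplicit false
set_option linter.style.haveILetI false
set_option linter.unusedSectionVars false
set_option maxHeartbeats 1000000

namespace CfsgLib.ClassK.Push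

open Subgroup
open scoped MatrixGroups Pointwise commutatorElement

variable {G : Type*} [Group G] [Finite G]

/-- The image of `V` under an automorphism of `S`. -/
def autImg (S V : Subgroup G) (γ : MulAut ↥S) : Subgroup G :=
  ((V.subgroupOf S).map γ.toMonoidHom).map S.subtype

/-- Two images inside `O_p` at distance two. -/
structure Mid (p q : ℕ) (S Q V A B E : Subgroup G) (g : G) : Prop where
  opp : cj g (zOf S) ≠ zOf S
  gen : S ⊔ cj g S = ⊤
  A_le : A ≤ Q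
  B_le : B ≤ Q
  A_exp : ∀ a ∈ A, a ^ p = 1
  B_exp : ∀ b ∈ B, b ^ p = 1
  A_ab : A ≤ centralizer (A : Set G)
  B_ab : B ≤ centralizer (B : Set G)
  A_center : zOf S ≤ A
  B_center : cj g (zOf S) ≤ B
  A_norm : S ≤ normalizer (A : Set G)
  B_norm : cj g S ≤ normalizer (B : Set G)
  A_comm : ∀ a ∈ A, ∀ s ∈ S, ⁅a, s⁆ ∈ zOf S
  B_comm : ∀ b ∈ B, ∀ s ∈ cj g S, ⁅b, s⁆ ∈ cj g (zOf S)
  A_inter : A ⊓ centralizer (B : Set G) ≤ zOf S
  B_inter : B ⊓ centralizer (A : Set G) ≤ cj g (zOf S)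
  A_rel : (zOf S).relIndex A = q
  B_rel : (cj g (zOf S)).relIndex B = q
  A_central : ∀ a ∈ A, ∀ y ∈ Q, ⁅a, y⁆ ∈ center G
  B_central : ∀ b ∈ B, ∀ y ∈ Q, ⁅b, y⁆ ∈ center G
  Q_A : Q ≤ B ⊔ (Q ⊓ centralizer (A : Set G))
  Q_B : Q ≤ A ⊔ (Q ⊓ centralizer (B : Set G))
  E_le : E ≤ S
  E_ab : E ≤ centralizer (E : Set G)
  E_exp : ∀ e ∈ E, e ^ p = 1
  E_A : E ≤ centralizer (A : Set G)
  cover : S ≤ E ⊔ Q
  E_act : ∀ y ∈ Q ⊓ centralizer (A : Set G), ∀ e ∈ E, ⁅y, e⁆ ∈ V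
  E_split : Q ⊓ centralizer (A : Set G) ≤ V ⊔ (Q ⊓ centralizer (A : Set G) ⊓ centralizer (E : Set G))
  twist : ∃ e ∈ E, ∃ b ∈ B, ⁅e, b⁆ ∉ A
  twistV : ∃ e ∈ E, ∃ b ∈ B, ⁅e, b⁆ ∉ V
  other : ∃ E' : Subgroup G, E' ≤ cj g S ∧ E' ≤ centralizer (B : Set G) ∧ cj g S ≤ E' ⊔ Q ∧
    ∀ y ∈ Q ⊓ centralizer (B : Set G), ∀ e ∈ E', ⁅y, e⁆ ∈ V

namespace Fam

variable {P : Type*} [Group P] [Finite P] {ι : Type*} {p : ℕ} {q : ι → ℕ} {D : Fam P ι p q}

/-- Two commutator conditions at a vertex with two neighbours. -/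
theorem side (hB : D.Below 2) {u v0 v1 v2 : ι × P} {ku k k' : P} (huk : D.In u ku)
    (hv0ku : D.In v0 ku) (hv0k : D.In v0 k) (hv1k : D.In v1 k) (hv1k' : D.In v1 k')
    (hv2k' : D.In v2 k') (hu1 : ¬ D.Vv u ≤ centralizer (D.Vv v1 : Set P))
    (h02 : ¬ D.Vv v0 ≤ centralizer (D.Vv v2 : Set P)) :
    D.Vv v0 ≤ D.Qv v1 ∧ D.Qv v1 ⊓ centralizer (D.Vv v0 : Set P) ≤ D.Qv v0 ∧
    D.Qv v1 ≤ D.Vv v2 ⊔ (D.Qv v1 ⊓ centralizer (D.Vv v0 : Set P)) ∧
    D.Sv k ≤ D.Vv u ⊔ D.Qv v1 ∧ D.Vv u ≤ D.Sv k ∧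
    (∀ y ∈ D.Qv v1 ⊓ centralizer (D.Vv v0 : Set P), ∀ e ∈ D.Vv u, ⁅y, e⁆ ∈ D.Vv v1) ∧
    D.Qv v1 ⊓ centralizer (D.Vv v0 : Set P) ≤ D.Vv v1 ⊔
      (D.Qv v1 ⊓ centralizer (D.Vv v0 : Set P) ⊓ centralizer (D.Vv u : Set P)) ∧
    D.Vv v0 ⊓ centralizer (D.Vv v2 : Set P) ≤ D.Zv k ∧
    (∀ a ∈ D.Vv v0, ∀ y ∈ D.Qv v1, ⁅a, y⁆ ∈ D.Zv k ∧ ⁅a, y⁆ ∈ D.Zv k') := by
  let f1 : ℕ → ι × P := fun i => if i = 0 then u else if i = 1 then v0 else v1
  let e1 : ℕ → P := fun i => if i = 0 then ku else k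
  let f2 : ℕ → ι × P := fun i => if i = 0 then v0 else if i = 1 then v1 else v2
  let e2 : ℕ → P := fun i => if i = 0 then k else k'
  have hc1 : D.Crit 2 f1 e1 := ⟨fun i hi => by
    rcases i with _ | _ | i
    · exact ⟨huk, hv0ku⟩
    · exact ⟨hv0k, hv1k⟩
    · omega, hu1⟩
  have hc2 : D.Crit 2 f2 e2 := ⟨fun i hi => by
    rcases i with _ | _ | i
    · exact ⟨hv0k, hv1k⟩
    · exact ⟨hv1k', hv2k'⟩
    · omega, h02⟩
  have h01 : D.Vv v0 ≤ D.Qv v1 := hB.le_Qv (f := f2) (e := e2) 1 (by omega) fun i hi => hc2.1 i (by omega)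
  have hu0 : D.Vv u ≤ D.Qv v0 := hB.le_Qv (f := f1) (e := e1) 1 (by omega) fun i hi => hc1.1 i (by omega)
  have h10 : D.Vv v1 ≤ D.Qv v0 := hB.le_Qv (f := fun i => if i = 0 then v1 else v0)
    (e := fun _ => k) 1 (by omega) fun i hi => by
      obtain rfl : i = 0 := by omega
      exact ⟨hv1k, hv0k⟩
  have hinQ : D.Qv v1 ⊓ centralizer (D.Vv v0 : Set P) ≤ D.Qv v0 := fun y hy =>
    mem_Qv_of_commute hv0k (Qv_le hv1k hy.1) fun w hw => hy.2 w hw
  have hQ1 : D.Qv v1 ≤ D.Sv k := Qv_le hv1k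
  have hcov2 := hc2.reverse.cover hB
  change D.Sv k ≤ D.Vv v2 ⊔ D.Qv v0 at hcov2
  have hv2S : D.Vv v2 ≤ D.Sv k := by
    have := hc2.reverse.le_last hB
    exact this
  have hn2 : D.Vv v2 ≤ normalizer (D.Qv v0 : Set P) := hv2S.trans ((Sv_le hv0k).trans (D.Qv_norm _))
  have hv21 : D.Vv v2 ≤ D.Qv v1 := hB.le_Qv (f := fun i => if i = 0 then v2 else v1)
    (e := fun _ => k') 1 (by omega) fun i hi => by
      obtain rfl : i = 0 := by omega
      exact ⟨hv2k', hv1k'⟩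
  have hsplit : ∀ y ∈ D.Qv v1, ∃ c ∈ D.Qv v1 ⊓ D.Qv v0, ∃ w ∈ D.Vv v2, y = c * w := by
    intro y hy
    obtain ⟨c, hc, w, hw, rfl⟩ := CfsgLib.Comp.exists_mul_of_mem_sup hn2
      (by rw [sup_comm]; exact hcov2 (hQ1 hy))
    refine ⟨c, ⟨?_, hc⟩, w, hw, rfl⟩
    simpa using mul_mem hy (inv_mem (hv21 hw))
  have hcovu := hc1.cover hB
  change D.Sv k ≤ D.Vv u ⊔ D.Qv v1 at hcovu
  have huS : D.Vv u ≤ D.Sv k := hc1.le_last hB
  have hcov1 := hc1.reverse.cover hB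
  change D.Sv ku ≤ D.Vv v1 ⊔ D.Qv u at hcov1
  have hv1u : D.Vv v1 ≤ D.Sv ku := hc1.reverse.le_last hB
  have hn1 : D.Vv v1 ≤ normalizer (D.Qv u : Set P) := hv1u.trans ((Sv_le huk).trans (D.Qv_norm _))
  have hsplit0 : ∀ y ∈ D.Qv v0, ∃ c ∈ D.Qv u ⊓ D.Qv v0, ∃ w ∈ D.Vv v1, y = c * w := by
    intro y hy
    obtain ⟨c, hc, w, hw, rfl⟩ := CfsgLib.Comp.exists_mul_of_mem_sup hn1
      (by rw [sup_comm]; exact hcov1 (Qv_le hv0ku hy))
    refine ⟨c, ⟨hc, ?_⟩, w, hw, rfl⟩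
    simpa using mul_mem hy (inv_mem (h10 hw))
  refine ⟨h01, hinQ, ?_, hcovu, huS, ?_, ?_, ?_, ?_⟩
  · intro y hy
    obtain ⟨c, hc, w, hw, rfl⟩ := hsplit y hy
    exact mul_mem (mem_sup_right ⟨hc.1, fun a ha => D.Vv_cent v0 ha c hc.2 |>.symm⟩) (mem_sup_left hw)
  · intro y hy e he
    obtain ⟨c, hc, w, hw, rfl⟩ := hsplit0 y (hinQ hy)
    have hwe : ⁅w, e⁆ ∈ D.Vv u :=
      mul_mem ((mem_normalizer_iff.1 (D.Vv_norm _ (Sv_le huk (hv1u hw))) e).1 he) (inv_mem he)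
    have hce : c * e = e * c := D.Vv_cent u he c hc.1
    have hcw : c * ⁅w, e⁆ = ⁅w, e⁆ * c := D.Vv_cent u hwe c hc.1
    have e1 : ⁅c * w, e⁆ = ⁅w, e⁆ := by
      calc ⁅c * w, e⁆ = c * ⁅w, e⁆ * c⁻¹ * (c * e * c⁻¹ * e⁻¹) := by
            simp [commutatorElement_def, mul_assoc]
        _ = _ := by rw [hcw, hce]; group
    rw [e1, mul_inv_mem_of_commutatorElement]
    exact mul_mem hw ((mem_normalizer_iff.1 (D.Vv_norm _ (Sv_le hv1k (huS he))) _).1 (inv_mem hw))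
  · intro y hy
    obtain ⟨c, hc, w, hw, rfl⟩ := hsplit0 y (hinQ hy)
    refine mul_mem (mem_sup_right ⟨⟨?_, fun a ha => D.Vv_cent v0 ha c hc.2 |>.symm⟩,
      fun a ha => D.Vv_cent u ha c hc.1 |>.symm⟩) (mem_sup_left hw)
    simpa using mul_mem (show c * w ∈ D.Qv v1 from hy.1) (inv_mem (D.Vv_le v1 hw))
  · intro a ha
    obtain ⟨b, hb, hbS, hbQ⟩ := hc2.exists_not_mem hB
    exact fix_edge hv0k hbS hbQ ha.1 (ha.2 b hb).symm
  · intro a ha y hy
    obtain ⟨c, hc, w, hw, rfl⟩ := hsplit y hy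
    have hz1 : ⁅a, w⁆ ∈ D.Zv k := comm_mem_edge hv0k ha (hv2S hw)
    have hz2 : ⁅a, w⁆ ∈ D.Zv k' := by
      rw [← commutatorElement_inv]
      exact inv_mem (comm_mem_edge hv2k' hw (hc2.le_last hB ha))
    have hca : c * a = a * c := D.Vv_cent v0 ha c hc.2
    have hcz : c * ⁅a, w⁆ = ⁅a, w⁆ * c := commute_Zv_Sv hz1 (hQ1 hc.1)
    have e1 : ⁅a, c * w⁆ = ⁅a, w⁆ := by
      calc ⁅a, c * w⁆ = a * c * a⁻¹ * c⁻¹ * (c * ⁅a, w⁆ * c⁻¹) := by
            simp [commutatorElement_def, mul_assoc]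
        _ = _ := by rw [hcz, ← hca]; group
    rw [e1]
    exact ⟨hz1, hz2⟩

end Fam

variable {p n : ℕ} [Fact p.Prime] {F : Type*} [Field F] [Fintype F] {S : Sylow p G} {M : Subgroup G}
  {φ : G →* Matrix.ProjectiveSpecialLinearGroup (Fin 2) F}

section Family

variable {T : Set G} (hT : IsComplement ((S : Subgroup G) : Set G) T)

/-- An automorphism of `S` as a permutation of `G`. -/
noncomputable def autPerm (α : MulAut ↥(S : Subgroup G)) : Equiv.Perm G :=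
  (hT.equiv.trans (Equiv.prodCongr α.toEquiv (Equiv.refl _))).trans hT.equiv.symm

/-- The twisted regular embedding. -/
noncomputable def twist (α : MulAut ↥(S : Subgroup G)) : G →* Equiv.Perm G :=
  (MulAut.conj (autPerm hT α)).toMonoidHom.comp (MulAction.toPermHom G G)

theorem twist_injective (α : MulAut ↥(S : Subgroup G)) : Function.Injective (twist hT α) :=
  (MulAut.conj (autPerm hT α)).injective.comp MulAction.toPerm_injective

theorem autPerm_mul (α : MulAut ↥(S : Subgroup G)) (s : ↥(S : Subgroup G)) (x : G) :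
    autPerm hT α ((s : G) * x) = (α s : G) * autPerm hT α x := by
  simp only [autPerm, Equiv.trans_apply, hT.equiv_mul_left s x, Equiv.prodCongr_apply, Prod.map,
    Equiv.refl_apply, MulEquiv.toEquiv_eq_coe, EquivLike.coe_coe, map_mul]
  exact mul_assoc _ _ _

theorem twist_coe (α : MulAut ↥(S : Subgroup G)) (s : ↥(S : Subgroup G)) :
    twist hT α (s : G) = MulAction.toPermHom G G (α s : G) := by
  refine Equiv.ext fun x => ?_
  show autPerm hT α ((s : G) * (autPerm hT α).symm x) = (α s : G) * x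
  rw [autPerm_mul, Equiv.apply_symm_apply]

theorem map_twist_sylow (α : MulAut ↥(S : Subgroup G)) :
    (S : Subgroup G).map (twist hT α) = (S : Subgroup G).map (MulAction.toPermHom G G) := by
  refine le_antisymm ?_ ?_
  · rintro _ ⟨s, hs, rfl⟩
    exact ⟨_, (α ⟨s, hs⟩).2, (twist_coe hT α ⟨s, hs⟩).symm⟩
  · rintro _ ⟨s, hs, rfl⟩
    refine ⟨_, (α.symm ⟨s, hs⟩).2, ?_⟩
    rw [twist_coe, MulEquiv.apply_symm_apply]

variable {Q V : Subgroup G} {q : ℕ} (hD : Datum p (S : Subgroup G) Q V q)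

theorem map_twist_zOf (α : MulAut ↥(S : Subgroup G)) :
    zOf ((S : Subgroup G).map (MulAction.toPermHom G G)) = (zOf (S : Subgroup G)).map (twist hT α) := by
  rw [← map_twist_sylow hT α]
  exact (map_inf_centralizer (twist_injective hT α) _).symm

theorem twist_conj (α : MulAut ↥(S : Subgroup G)) (x : G) (H : Subgroup G) :
    cj (twist hT α x) (H.map (twist hT α)) = (cj x H).map (twist hT α) := by
  rw [cj, cj, Subgroup.map_map, Subgroup.map_map]
  congr 1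
  refine MonoidHom.ext fun y => ?_
  show twist hT α x * twist hT α y * (twist hT α x)⁻¹ = twist hT α (x * y * x⁻¹)
  simp

theorem range_le_normalizer (α : MulAut ↥(S : Subgroup G)) {H : Subgroup G} [H.Normal] :
    (twist hT α).range ≤ normalizer (H.map (twist hT α) : Set (Equiv.Perm G)) := by
  rintro _ ⟨x, rfl⟩
  refine CfsgLib.Comp.map_conj_eq_iff.1 ?_
  change cj (twist hT α x) _ = _
  rw [twist_conj, cj_eq_self (show x ∈ normalizer (H : Set G) by rw [normalizer_eq_top]; trivial)]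

/-- The family of all twists. -/
noncomputable def orbitFam : Fam (Equiv.Perm G) (MulAut ↥(S : Subgroup G)) p (fun _ => q) where
  S := (S : Subgroup G).map (MulAction.toPermHom G G)
  G α := (twist hT α).range
  Q α := Q.map (twist hT α)
  V α := V.map (twist hT α)
  one_lt _ := hD.one_lt
  S_le α := (map_twist_sylow hT α).ge.trans (map_le_range _ _)
  Q_le α := (map_mono hD.Q_le).trans (map_twist_sylow hT α).le
  Q_norm α := by haveI := hD.Q_normal; exact range_le_normalizer hT α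
  V_norm α := by haveI := hD.V_normal; exact range_le_normalizer hT α
  V_le α := map_mono hD.V_le
  V_cent α := by
    rintro _ ⟨v, hv, rfl⟩ _ ⟨w, hw, rfl⟩
    rw [← map_mul, ← map_mul, hD.V_cent hv w hw]
  exp α := by
    rintro _ ⟨v, hv, rfl⟩
    rw [← map_pow, hD.exp v hv, map_one]
  center_le α := (map_twist_zOf hT α).le.trans (map_mono hD.center_le)
  fix α := by
    intro a ha haQ
    rintro _ ⟨⟨v, hv, rfl⟩, hva⟩
    obtain ⟨a₀, ha₀, rfl⟩ := (map_twist_sylow hT α).ge ha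
    refine (map_twist_zOf hT α).ge (mem_map_of_mem _
      (hD.fix a₀ ha₀ (fun e => haQ (mem_map_of_mem _ e)) ⟨hv, mem_centralizer_singleton_iff.2 ?_⟩))
    refine twist_injective hT α ?_
    rw [map_mul, map_mul]
    exact mem_centralizer_singleton_iff.1 hva
  comm_mem α := by
    rintro _ ⟨v, hv, rfl⟩ a ha
    obtain ⟨a₀, ha₀, rfl⟩ := (map_twist_sylow hT α).ge ha
    rw [← map_commutatorElement]
    exact (map_twist_zOf hT α).ge (mem_map_of_mem _ (hD.comm_mem v hv a₀ ha₀))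
  comm_fix α := by
    rintro _ ⟨v, hv, rfl⟩ a ha hc
    obtain ⟨a₀, ha₀, rfl⟩ := (map_twist_sylow hT α).ge ha
    rw [← map_commutatorElement] at hc ⊢
    rw [hD.comm_fix v hv a₀ ha₀ (mem_center_iff.2 fun g => twist_injective hT α (by
      rw [map_mul, map_mul]; exact hc _ ⟨g, rfl⟩)), map_one]
  relV α := by
    rw [map_twist_zOf hT α, relIndex_map_map_of_injective _ _ (twist_injective hT α), hD.relV]
  relQ α := by
    rw [← map_twist_sylow hT α, relIndex_map_map_of_injective _ _ (twist_injective hT α), hD.relQ]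
  gen α := by
    rintro _ ⟨x, rfl⟩ hne a ha haQ
    rw [← map_twist_sylow hT α, twist_conj] at ha
    rw [map_twist_zOf hT α, twist_conj] at hne
    obtain ⟨a₀, ha₀, rfl⟩ := ha
    rw [← map_twist_sylow hT α, ← MonoidHom.map_zpowers, ← Subgroup.map_sup,
      hD.gen x (fun e => hne (congrArg (Subgroup.map _) e)) a₀ ha₀
        (fun e => haQ (mem_map_of_mem _ e)), MonoidHom.range_eq_map]
  opp α := by
    obtain ⟨x, hx⟩ := hD.opp
    refine ⟨twist hT α x, ⟨x, rfl⟩, ?_⟩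
    rw [map_twist_zOf hT α, twist_conj]
    exact fun e => hx (map_injective (twist_injective hT α) e)

theorem orbitFam_S : (orbitFam hT hD).S = (S : Subgroup G).map (MulAction.toPermHom G G) := rfl

include hD in
/-- The module of one twist in the coordinates of another. -/
theorem map_autImg (α β : MulAut ↥(S : Subgroup G)) :
    (autImg (S : Subgroup G) V (α⁻¹ * β)).map (twist hT α) = V.map (twist hT β) := by
  have hVS : V ≤ (S : Subgroup G) := hD.V_le.trans hD.Q_le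
  ext x
  constructor
  · rintro ⟨_, ⟨_, ⟨⟨v, hv⟩, hvV, rfl⟩, rfl⟩, rfl⟩
    refine ⟨v, hvV, ?_⟩
    rw [show twist hT β v = MulAction.toPermHom G G (β ⟨v, hv⟩ : G) from twist_coe hT β ⟨v, hv⟩]
    show _ = twist hT α (((α⁻¹ * β) ⟨v, hv⟩ : ↥(S : Subgroup G)) : G)
    rw [twist_coe]
    simp
  · rintro ⟨v, hv, rfl⟩
    refine ⟨((α⁻¹ * β) ⟨v, hVS hv⟩ : ↥(S : Subgroup G)),
      mem_map_of_mem _ (mem_map_of_mem _ (show (⟨v, hVS hv⟩ : ↥(S : Subgroup G)) ∈
        V.subgroupOf (S : Subgroup G) from hv)), ?_⟩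
    rw [twist_coe, twist_coe hT β ⟨v, hVS hv⟩]
    simp

theorem natRel_iff_autImg (α β : MulAut ↥(S : Subgroup G)) :
    (orbitFam hT hD).NatRel α β ↔
      ¬ (V ⊔ autImg (S : Subgroup G) V (α⁻¹ * β)).Normal := by
  refine not_congr ?_
  show (twist hT α).range ≤ normalizer
    ((V.map (twist hT α) ⊔ V.map (twist hT β) : Subgroup (Equiv.Perm G)) : Set _) ↔ _
  rw [← map_autImg hT hD α β, ← Subgroup.map_sup]
  constructor
  · intro h
    refine ⟨fun y hy x => ?_⟩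
    obtain ⟨z, hz, hzy⟩ := (mem_normalizer_iff.1 (h ⟨x, rfl⟩) _).1 (mem_map_of_mem _ hy)
    rw [← map_inv, ← map_mul, ← map_mul] at hzy
    rwa [← twist_injective hT α hzy]
  · intro h
    haveI := h
    exact range_le_normalizer hT α

theorem In_base {i : MulAut ↥(S : Subgroup G)} {g : Equiv.Perm G}
    (h : g ∈ (orbitFam hT hD).G i) : (orbitFam hT hD).In (i, g) 1 := by
  simpa [Fam.In] using inv_mem h

/-- Some pair of modules fails to commute. -/
theorem exists_noncommute (hd : NoChar S) : ∃ (m : ℕ) (f : ℕ → MulAut ↥(S : Subgroup G) × Equiv.Perm G)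
    (e : ℕ → Equiv.Perm G), (orbitFam hT hD).Crit m f e := by
  classical
  set Dm := orbitFam hT hD with hDm
  by_contra hcon
  simp only [not_exists] at hcon
  have hB : ∀ m, Dm.Below m := fun _ m _ f e hp => not_not.1 fun h => hcon m f e ⟨hp, h⟩
  let Conn : MulAut ↥(S : Subgroup G) → MulAut ↥(S : Subgroup G) × Equiv.Perm G → Prop := fun i v =>
    ∃ (m : ℕ) (f : ℕ → MulAut ↥(S : Subgroup G) × Equiv.Perm G) (e : ℕ → Equiv.Perm G),
      Dm.Path f e m ∧ f 0 = v ∧ f m = (i, 1)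
  have hbase : ∀ i j v, Conn i v → Conn j v := by
    rintro i j v ⟨m, f, e, hp, h0, hm⟩
    refine ⟨m + 1, fun l => if l ≤ m then f l else (j, 1), fun l => if l < m then e l else 1, ?_, ?_, ?_⟩
    · intro l hl
      by_cases h : l < m
      · simpa [h, h.le, show l + 1 ≤ m by omega] using hp l h
      · obtain rfl : l = m := by omega
        simp [hm, Fam.In, one_mem]
    · simp [h0]
    · simp
  set X : Subgroup (Equiv.Perm G) :=
    ⨆ v : {v : MulAut ↥(S : Subgroup G) × Equiv.Perm G // ∃ i, Conn i v}, Dm.Vv v.1 with hX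
  have hXQ : ∀ i, X ≤ Dm.Q i := fun i => iSup_le fun ⟨v, j, hv⟩ => by
    obtain ⟨m, f, e, hp, h0, hm⟩ := hbase j i v hv
    have := (hB (m + 1)).le_Qv m (by omega) hp
    rw [h0, hm] at this
    rwa [show Dm.Qv (i, 1) = Dm.Q i from cj_eq_self (one_mem _)] at this
  have hXS : X ≤ Dm.S := (hXQ 1).trans (Dm.Q_le 1)
  have hXn : ∀ i, Dm.G i ≤ normalizer (X : Set (Equiv.Perm G)) := fun i g hg => by
    refine CfsgLib.Comp.map_conj_eq_iff.1 (eq_of_le_of_card_ge ?_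
      (card_map_of_injective (MulAut.conj g).injective).ge)
    rw [hX, Subgroup.map_iSup]
    refine iSup_le fun ⟨v, j, hv⟩ => ?_
    show cj g (Dm.Vv v) ≤ _
    rw [← Fam.Vv_translate]
    obtain ⟨m, f, e, hp, h0, hm⟩ := hbase j i v hv
    refine le_iSup_of_le ⟨(v.1, g * v.2), i, m + 1,
      fun l => if l ≤ m then ((f l).1, g * (f l).2) else (i, 1),
      fun l => if l < m then g * e l else g, ?_, by simp [h0], by simp⟩ le_rfl
    intro l hl
    by_cases h : l < m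
    · obtain ⟨h1, h2⟩ := hp l h
      simpa [h, h.le, show l + 1 ≤ m by omega] using ⟨Fam.In_translate g h1, Fam.In_translate g h2⟩
    · obtain rfl : l = m := by omega
      simpa [hm, Fam.In, one_mem] using hg
  set Y0 : Subgroup ↥(S : Subgroup G) := sSup {Y | ∀ α : MulAut ↥(S : Subgroup G),
    ((Y.map α.toMonoidHom).map (S : Subgroup G).subtype).Normal} with hY0
  have hYn : ∀ α : MulAut ↥(S : Subgroup G),
      ((Y0.map α.toMonoidHom).map (S : Subgroup G).subtype).Normal := by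
    intro α
    refine ⟨fun x hx g => ?_⟩
    suffices hle : (Y0.map α.toMonoidHom).map (S : Subgroup G).subtype ≤
        ((Y0.map α.toMonoidHom).map (S : Subgroup G).subtype).comap (MulAut.conj g).toMonoidHom from
      hle hx
    rw [Subgroup.map_le_iff_le_comap, Subgroup.map_le_iff_le_comap]
    refine sSup_le fun Y hY y hy => ?_
    have h1 : ((α y : ↥(S : Subgroup G)) : G) ∈ (Y.map α.toMonoidHom).map (S : Subgroup G).subtype :=
      mem_map_of_mem _ (mem_map_of_mem _ hy)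
    exact map_mono (map_mono (le_sSup hY)) ((hY α).conj_mem _ h1 g)
  have hY0bot : Y0 = ⊥ := by
    by_contra hne
    refine hd Y0 hne (characteristic_iff_map_le.2 fun β => le_sSup fun α => ?_) ?_
    · have := hYn (β.trans α)
      rwa [show (Y0.map β.toMonoidHom).map α.toMonoidHom = Y0.map (β.trans α).toMonoidHom from
        Subgroup.map_map _ _ _]
    · have := hYn 1
      rwa [show Y0.map (1 : MulAut ↥(S : Subgroup G)).toMonoidHom = Y0 from Subgroup.map_id _] at this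
  set Y : Subgroup ↥(S : Subgroup G) := (X.comap (MulAction.toPermHom G G)).subgroupOf (S : Subgroup G)
  have hYY : Y ≤ Y0 := le_sSup fun α => by
    refine ⟨fun x hx g => ?_⟩
    obtain ⟨_, ⟨y, hy, rfl⟩, rfl⟩ := hx
    have hy' : twist hT α⁻¹ (α y : ↥(S : Subgroup G)) ∈ X := by
      rw [twist_coe]; simpa [Y, mem_subgroupOf] using hy
    have hc := (mem_normalizer_iff.1 (hXn α⁻¹ ⟨g, rfl⟩) _).1 hy'
    rw [← map_inv, ← map_mul, ← map_mul] at hc
    obtain ⟨s, hs, hse⟩ := (map_twist_sylow hT α⁻¹).ge (hXS hc)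
    obtain rfl := twist_injective hT α⁻¹ hse
    refine ⟨⟨_, hs⟩, ⟨α⁻¹ ⟨_, hs⟩, ?_, by simp⟩, rfl⟩
    show MulAction.toPermHom G G ((α⁻¹ ⟨_, hs⟩ : ↥(S : Subgroup G)) : G) ∈ X
    rw [← twist_coe hT α⁻¹]
    exact hc
  obtain ⟨z, hz, hzC⟩ := SetLike.not_le_iff_exists.1 hD.not_central
  have hzX : MulAction.toPermHom G G z ∈ X := by
    refine le_iSup (fun v : {v : MulAut ↥(S : Subgroup G) × Equiv.Perm G // ∃ i, Conn i v} => Dm.Vv v.1)
      ⟨(1, 1), 1, 0, fun _ => (1, 1), fun _ => 1, fun l hl => absurd hl (by omega), rfl, rfl⟩ ?_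
    show MulAction.toPermHom G G z ∈ cj 1 (V.map (twist hT 1))
    refine mem_cj.2 ?_
    rw [inv_one, one_mul, mul_one]
    refine ⟨z, hD.center_le hz, ?_⟩
    exact (twist_coe hT 1 ⟨z, hz.1⟩).trans (by simp)
  have hzY : (⟨z, hz.1⟩ : ↥(S : Subgroup G)) ∈ Y0 := hYY hzX
  rw [hY0bot, mem_bot] at hzY
  exact hzC (by rw [show z = 1 from congrArg Subtype.val hzY]; exact one_mem _)

end Family

/-- The two cases. -/
theorem Datum.orbit_cases_img {Q V : Subgroup G} {q : ℕ} (hD : Datum p (S : Subgroup G) Q V q)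
    (hd : NoChar S) :
    (∃ γ : MulAut ↥(S : Subgroup G), ¬ autImg (S : Subgroup G) V γ ≤ Q) ∨
      ∃ (A B E : Subgroup G) (g : G), Mid p q (S : Subgroup G) Q V A B E g ∧
        ∃ γ : MulAut ↥(S : Subgroup G), A = autImg (S : Subgroup G) V γ := by
  classical
  obtain ⟨T, hT, -⟩ := (S : Subgroup G).exists_isComplement_right 1
  set Dm := orbitFam hT hD with hDm
  have hex := exists_noncommute hT hD hd
  set b := Nat.find hex
  obtain ⟨f, e, hf⟩ := Nat.find_spec hex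
  have hB : Dm.Below b := fun m hm f' e' hp => not_not.1 fun h =>
    Nat.find_min hex hm ⟨f', e', hp, h⟩
  have hb0 := hf.pos hB
  rcases Nat.lt_or_ge b 2 with hb | hb
  · -- distance one
    left
    have hb1 : b = 1 := by omega
    obtain ⟨h0, h1⟩ := hf.1 0 hb0
    rw [Nat.zero_add] at h1
    refine ⟨(f 1).1⁻¹ * (f 0).1, fun hle => hf.2 ?_⟩
    rw [show f b = f 1 by rw [hb1]]
    have hle' : Dm.Vv (f 0) ≤ Dm.Qv (f 1) := by
      rw [Fam.Vv_eq h0, Fam.Qv_eq h1]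
      refine cj_mono ((map_autImg hT hD (f 1).1 (f 0).1).ge.trans ?_)
      exact map_mono hle
    exact fun x hx y hy => (Fam.Vv_cent _ hy x (hle' hx)).symm
  right
  have hnr := hf.natRel hB hb
  have hin : ∀ i, ∃ j, Dm.NatRel i j := fun i => by
    refine ⟨i * ((f 1).1⁻¹ * (f 0).1), (natRel_iff_autImg hT hD _ _).2 ?_⟩
    rw [inv_mul_cancel_left]
    exact (natRel_iff_autImg hT hD _ _).1 hnr
  rcases Nat.lt_or_ge b 3 with hb3 | hb3
  swap
  · exact (Fam.below_three_false hB hb3 (fun f' _ _ => hin (f' 0).1) hf).elim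
  have hb2 : b = 2 := by omega
  rw [hb2] at hB
  replace hf : Dm.Crit 2 f e := hb2 ▸ hf
  obtain ⟨s, ed, hcr, hjoint⟩ := Fam.exists_seq hB hf le_rfl (fun f' _ _ => hin (f' 0).1)
  have hedge : ∀ m, Dm.In (s m) (ed m) ∧ Dm.In (s (m + 1)) (ed m) := fun m => (hcr m).1 0 (by omega)
  obtain ⟨huk, hv0ku⟩ := hedge 1
  obtain ⟨hv0k, hv1k⟩ := hedge 2
  obtain ⟨hv1k', hv2k'⟩ := hedge 3
  obtain ⟨hv2kw, hwkw⟩ := hedge 4
  obtain ⟨hA1, hA2, hA3, hA4, hA5, hA6, hA7, hA8, hA9⟩ :=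
    Fam.side hB huk hv0ku hv0k hv1k hv1k' hv2k' (hcr 1).2 (hcr 2).2
  obtain ⟨hB1, hB2, hB3, hB4, hB5, hB6, hB7, hB8, hB9⟩ :=
    Fam.side hB hwkw hv2kw hv2k' hv1k' hv1k hv0k (hcr 3).reverse.2 (hcr 2).reverse.2
  set α := (s 3).1
  set ψ : G →* Equiv.Perm G := (MulAut.conj (ed 2)).toMonoidHom.comp (twist hT α) with hψdef
  have hψ : Function.Injective ψ := (MulAut.conj (ed 2)).injective.comp (twist_injective hT α)
  have hmap : ∀ H : Subgroup G, H.map ψ = cj (ed 2) (H.map (twist hT α)) := fun H =>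
    (Subgroup.map_map _ _ _).symm
  have hψS : (S : Subgroup G).map ψ = Dm.Sv (ed 2) := by rw [hmap, map_twist_sylow]; rfl
  have hψQ : Q.map ψ = Dm.Qv (s 3) := by rw [hmap, Fam.Qv_eq hv1k]; rfl
  have hψV : V.map ψ = Dm.Vv (s 3) := by rw [hmap, Fam.Vv_eq hv1k]; rfl
  have hψZ : (zOf (S : Subgroup G)).map ψ = Dm.Zv (ed 2) := by
    rw [hmap, ← map_twist_zOf]; rfl
  have hψG : ψ.range = Dm.Gv (s 3) := by
    rw [Fam.Gv_eq hv1k, hψdef, MonoidHom.range_comp]; rfl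
  have hkk : (ed 2)⁻¹ * ed 3 ∈ Dm.G α := by
    simpa [α, Fam.In, mul_assoc] using mul_mem (inv_mem hv1k) hv1k'
  obtain ⟨g, hg⟩ : ed 3 * (ed 2)⁻¹ ∈ ψ.range := by
    rw [hψG, Fam.Gv_eq hv1k, mem_cj]
    simpa [mul_assoc] using hkk
  have hcj : ∀ H : Subgroup (Equiv.Perm G), ∀ H₀ : Subgroup G, H₀.map ψ = cj (ed 2) H →
      (cj g H₀).map ψ = cj (ed 3) H := by
    intro H H₀ h
    have : (cj g H₀).map ψ = cj (ψ g) (H₀.map ψ) := by
      rw [cj, cj, Subgroup.map_map, Subgroup.map_map]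
      congr 1
      refine MonoidHom.ext fun y => ?_
      show ψ (g * y * g⁻¹) = ψ g * ψ y * (ψ g)⁻¹
      simp
    rw [this, h, hg, ← cj_mul, inv_mul_cancel_right]
  have hψS' : (cj g (S : Subgroup G)).map ψ = Dm.Sv (ed 3) := hcj _ _ hψS
  have hψZ' : (cj g (zOf (S : Subgroup G))).map ψ = Dm.Zv (ed 3) := hcj _ _ hψZ
  have mem : ∀ {H : Subgroup G} {K : Subgroup (Equiv.Perm G)}, H.map ψ = K →
      ∀ {x : G}, ψ x ∈ K ↔ x ∈ H := fun {H K} h {x} => by
    rw [← h]; exact Subgroup.mem_map_iff_mem hψ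
  have hrange : ∀ {K : Subgroup (Equiv.Perm G)}, K ≤ Dm.Gv (s 3) → (K.comap ψ).map ψ = K := fun h =>
    map_comap_eq_self (h.trans hψG.ge)
  have hQG : Dm.Qv (s 3) ≤ Dm.Gv (s 3) := (Fam.Qv_le hv1k).trans (Fam.Sv_le hv1k)
  set A := (Dm.Vv (s 2)).comap ψ
  set B := (Dm.Vv (s 4)).comap ψ
  set E := (Dm.Vv (s 1)).comap ψ
  set E' := (Dm.Vv (s 5)).comap ψ
  have hAm := hrange (hA1.trans hQG)
  have hBm := hrange (hB1.trans hQG)
  have hEm := hrange (hA5.trans (Fam.Sv_le hv1k))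
  have hE'm := hrange (hB5.trans (Fam.Sv_le hv1k'))
  have hcen : ∀ (H : Subgroup G) (K : Subgroup (Equiv.Perm G)), H.map ψ = K → ∀ x,
      x ∈ centralizer (H : Set G) ↔ ψ x ∈ centralizer (K : Set (Equiv.Perm G)) := by
    intro H K h x
    subst h
    constructor
    · rintro hx _ ⟨y, hy, rfl⟩
      rw [← map_mul, ← map_mul, hx y hy]
    · intro hx y hy
      exact hψ (by rw [map_mul, map_mul]; exact hx _ (mem_map_of_mem _ hy))
  have hQCA : (Q ⊓ centralizer (A : Set G)).map ψ =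
      Dm.Qv (s 3) ⊓ centralizer (Dm.Vv (s 2) : Set (Equiv.Perm G)) := by
    ext y
    constructor
    · rintro ⟨x, ⟨hx, hxA⟩, rfl⟩
      exact ⟨(mem hψQ).2 hx, (hcen A _ hAm x).1 hxA⟩
    · rintro ⟨hy, hy'⟩
      obtain ⟨x, hx, rfl⟩ := hψQ.ge hy
      exact ⟨x, ⟨hx, (hcen A _ hAm x).2 hy'⟩, rfl⟩
  have hQCB : (Q ⊓ centralizer (B : Set G)).map ψ =
      Dm.Qv (s 3) ⊓ centralizer (Dm.Vv (s 4) : Set (Equiv.Perm G)) := by
    ext y
    constructor
    · rintro ⟨x, ⟨hx, hxA⟩, rfl⟩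
      exact ⟨(mem hψQ).2 hx, (hcen B _ hBm x).1 hxA⟩
    · rintro ⟨hy, hy'⟩
      obtain ⟨x, hx, rfl⟩ := hψQ.ge hy
      exact ⟨x, ⟨hx, (hcen B _ hBm x).2 hy'⟩, rfl⟩
  have le_of : ∀ {H H' : Subgroup G}, H.map ψ ≤ H'.map ψ → H ≤ H' := fun h =>
    (Subgroup.map_le_map_iff_of_injective hψ).1 h
  have hgen : (S : Subgroup G) ⊔ cj g (S : Subgroup G) = ⊤ := by
    refine top_le_iff.1 (le_of ?_)
    rw [Subgroup.map_sup, hψS, hψS', ← MonoidHom.range_eq_map, hψG]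
    obtain ⟨a, ha, haQ⟩ := SetLike.not_le_iff_exists.1 (show ¬ Dm.Sv (ed 3) ≤ Dm.Qv (s 3) from fun h => by
      have := Fam.relQ_edge hv1k'; rw [relIndex_eq_one.2 h] at this; exact hD.one_lt.ne this)
    exact (Fam.gen_edge hv1k hv1k' (hjoint 3 (by omega)).symm ha haQ).trans
      (sup_le_sup le_rfl (zpowers_le.2 ha))
  have hcenter : ∀ x, ψ x ∈ Dm.Zv (ed 2) → ψ x ∈ Dm.Zv (ed 3) → x ∈ center G := by
    intro x h2 h3
    refine mem_center_iff.2 fun y => ?_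
    have : (S : Subgroup G) ⊔ cj g (S : Subgroup G) ≤ centralizer ({x} : Set G) := sup_le
      (fun z hz => mem_centralizer_singleton_iff.2 (hψ (by
        rw [map_mul, map_mul]; exact Fam.commute_Zv_Sv h2 ((mem hψS).2 hz))))
      (fun z hz => mem_centralizer_singleton_iff.2 (hψ (by
        rw [map_mul, map_mul]; exact Fam.commute_Zv_Sv h3 ((mem hψS').2 hz))))
    exact mem_centralizer_singleton_iff.1 (this (hgen ▸ mem_top y))
  refine ⟨A, B, E, g, ?_⟩
  exact ⟨{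
    opp := fun e => hjoint 3 (by omega) (by rw [← hψZ, ← hψZ', e])
    gen := hgen
    A_le := fun x hx => (mem hψQ).1 (hA1 hx)
    B_le := fun x hx => (mem hψQ).1 (hB1 hx)
    A_exp := fun x hx => hψ (by
      obtain ⟨y, hy, hyx⟩ := hx
      rw [map_pow, map_one, ← hyx, ← map_pow, Dm.exp _ y hy, map_one])
    B_exp := fun x hx => hψ (by
      obtain ⟨y, hy, hyx⟩ := hx
      rw [map_pow, map_one, ← hyx, ← map_pow, Dm.exp _ y hy, map_one])
    A_ab := fun x hx => (hcen A _ hAm x).2 (Fam.Vv_comm _ hx)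
    B_ab := fun x hx => (hcen B _ hBm x).2 (Fam.Vv_comm _ hx)
    A_center := fun x hx => Fam.Zv_le hv0k ((mem hψZ).2 hx)
    B_center := fun x hx => Fam.Zv_le hv2k' ((mem hψZ').2 hx)
    A_norm := le_of (by
      rw [hψS]
      refine (le_inf ((Fam.Sv_le hv0k).trans (Dm.Vv_norm _)) (hψS.ge.trans (map_le_range _ _))).trans ?_
      rintro y ⟨hy, x, rfl⟩
      refine mem_map_of_mem _ (mem_normalizer_iff.2 fun z => ?_)
      show ψ z ∈ Dm.Vv (s 2) ↔ ψ (x * z * x⁻¹) ∈ Dm.Vv (s 2)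
      rw [map_mul, map_mul, map_inv]
      exact mem_normalizer_iff.1 hy (ψ z))
    B_norm := le_of (by
      rw [hψS']
      refine (le_inf ((Fam.Sv_le hv2k').trans (Dm.Vv_norm _)) (hψS'.ge.trans (map_le_range _ _))).trans ?_
      rintro y ⟨hy, x, rfl⟩
      refine mem_map_of_mem _ (mem_normalizer_iff.2 fun z => ?_)
      show ψ z ∈ Dm.Vv (s 4) ↔ ψ (x * z * x⁻¹) ∈ Dm.Vv (s 4)
      rw [map_mul, map_mul, map_inv]
      exact mem_normalizer_iff.1 hy (ψ z))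
    A_comm := fun x hx y hy => (mem hψZ).1 (by
      rw [map_commutatorElement]; exact Fam.comm_mem_edge hv0k hx ((mem hψS).2 hy))
    B_comm := fun x hx y hy => (mem hψZ').1 (by
      rw [map_commutatorElement]; exact Fam.comm_mem_edge hv2k' hx ((mem hψS').2 hy))
    A_inter := fun x hx => (mem hψZ).1 (hA8 ⟨hx.1, (hcen B _ hBm x).1 hx.2⟩)
    B_inter := fun x hx => (mem hψZ').1 (hB8 ⟨hx.1, (hcen A _ hAm x).1 hx.2⟩)
    A_rel := by
      rw [← relIndex_map_map_of_injective _ _ hψ, hψZ, hAm, Fam.relV_edge hv0k]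
    B_rel := by
      rw [← relIndex_map_map_of_injective _ _ hψ, hψZ', hBm, Fam.relV_edge hv2k']
    A_central := fun x hx y hy => by
      obtain ⟨h2, h3⟩ := hA9 _ hx _ ((mem hψQ).2 hy)
      rw [← map_commutatorElement] at h2 h3
      exact hcenter _ h2 h3
    B_central := fun x hx y hy => by
      obtain ⟨h3, h2⟩ := hB9 _ hx _ ((mem hψQ).2 hy)
      rw [← map_commutatorElement] at h2 h3
      exact hcenter _ h2 h3
    Q_A := le_of (by rw [Subgroup.map_sup, hψQ, hBm, hQCA]; exact hA3)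
    Q_B := le_of (by rw [Subgroup.map_sup, hψQ, hAm, hQCB]; exact hB3)
    E_le := fun x hx => (mem hψS).1 (hA5 hx)
    E_ab := fun x hx => (hcen E _ hEm x).2 (Fam.Vv_comm _ hx)
    E_exp := fun x hx => hψ (by
      obtain ⟨y, hy, hyx⟩ := hx
      rw [map_pow, map_one, ← hyx, ← map_pow, Dm.exp _ y hy, map_one])
    E_A := fun x hx => (hcen A _ hAm x).2 (fun y hy => by
      have := hB.commute (s := s) (e := ed) (c := 1) (m := 1) (fun i _ => hedge (1 + i)) (by omega)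
      exact this hx y hy)
    cover := le_of (by rw [Subgroup.map_sup, hψS, hEm, hψQ]; exact hA4)
    E_act := fun y hy x hx => (mem hψV).1 (by
      rw [map_commutatorElement]; exact hA6 _ (hQCA.le (mem_map_of_mem _ hy)) _ hx)
    E_split := le_of (by
      rw [Subgroup.map_sup, hψV, hQCA]
      refine hA7.trans (sup_le_sup le_rfl ?_)
      rintro y ⟨hy, hy'⟩
      obtain ⟨x, hx, rfl⟩ := hQCA.ge hy
      exact ⟨x, ⟨hx, (hcen E _ hEm x).2 hy'⟩, rfl⟩)
    twist := by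
      by_contra hcon
      simp only [not_exists, not_and, not_not] at hcon
      have hr := (hcr 1).natRel hB le_rfl
      rw [Fam.natRel_iff hv0ku huk] at hr
      obtain ⟨b, hb, hbS, hbQ⟩ := (hcr 2).exists_not_mem hB
      refine hr ((Fam.gen_edge hv0ku hv0k (hjoint 2 le_rfl).symm hbS hbQ).trans (sup_le
        (CfsgLib.Comp.le_normalizer_sup ((Fam.Sv_le hv0ku).trans (Dm.Vv_norm _))
          ((Fam.Sv_le huk).trans (Dm.Vv_norm _))) (zpowers_le.2 ?_)))
      have hbV : b ∈ normalizer (Dm.Vv (s 2) : Set (Equiv.Perm G)) := Dm.Vv_norm _ (Fam.Sv_le hv0k hbS)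
      refine CfsgLib.Comp.map_conj_eq_iff.1 (eq_of_le_of_card_ge ?_
        (card_map_of_injective (MulAut.conj b).injective).ge)
      rw [Subgroup.map_sup]
      refine sup_le (le_of_eq_of_le (cj_eq_self hbV) le_sup_left) ?_
      rintro _ ⟨x, hx, rfl⟩
      obtain ⟨x₀, hx₀, rfl⟩ := hEm.ge hx
      obtain ⟨b₀, hb₀, rfl⟩ := hBm.ge hb
      have hh : ψ ⁅x₀, b₀⁆ ∈ Dm.Vv (s 2) := hcon x₀ hx₀ b₀ hb₀
      rw [map_commutatorElement] at hh
      show ψ b₀ * ψ x₀ * (ψ b₀)⁻¹ ∈ _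
      rw [show ψ b₀ * ψ x₀ * (ψ b₀)⁻¹ = ⁅ψ x₀, ψ b₀⁆⁻¹ * ψ x₀ by simp [commutatorElement_def, mul_assoc]]
      exact mul_mem (mem_sup_left (inv_mem hh)) (mem_sup_right hx)
    twistV := by
      by_contra hcon
      simp only [not_exists, not_and, not_not] at hcon
      have hr := ((hcr 2).reverse).natRel hB le_rfl
      change Dm.NatRel (s 3).1 (s 4).1 at hr
      rw [Fam.natRel_iff hv1k' hv2k'] at hr
      obtain ⟨a, ha, haS, haQ⟩ := ((hcr 1).reverse).exists_not_mem hB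
      change a ∈ Dm.Vv (s 1) at ha
      change a ∈ Dm.Sv (ed 2) at haS
      change a ∉ Dm.Qv (s 3) at haQ
      refine hr ((Fam.gen_edge hv1k' hv1k (hjoint 3 (by omega)) haS haQ).trans (sup_le
        (CfsgLib.Comp.le_normalizer_sup ((Fam.Sv_le hv1k').trans (Dm.Vv_norm _))
          ((Fam.Sv_le hv2k').trans (Dm.Vv_norm _))) (zpowers_le.2 ?_)))
      have haV : a ∈ normalizer (Dm.Vv (s 3) : Set (Equiv.Perm G)) := Dm.Vv_norm _ (Fam.Sv_le hv1k haS)
      refine CfsgLib.Comp.map_conj_eq_iff.1 (eq_of_le_of_card_ge ?_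
        (card_map_of_injective (MulAut.conj a).injective).ge)
      rw [Subgroup.map_sup]
      refine sup_le (le_of_eq_of_le (cj_eq_self haV) le_sup_left) ?_
      rintro _ ⟨x, hx, rfl⟩
      obtain ⟨x₀, hx₀, rfl⟩ := hBm.ge hx
      obtain ⟨e₀, he₀, rfl⟩ := hEm.ge ha
      have hh : ψ ⁅e₀, x₀⁆ ∈ Dm.Vv (s 3) := (mem hψV).2 (hcon e₀ he₀ x₀ hx₀)
      rw [map_commutatorElement] at hh
      show ψ e₀ * ψ x₀ * (ψ e₀)⁻¹ ∈ _
      rw [show ψ e₀ * ψ x₀ * (ψ e₀)⁻¹ = ⁅ψ e₀, ψ x₀⁆ * ψ x₀ by simp [commutatorElement_def, mul_assoc]]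
      exact mul_mem (mem_sup_left hh) (mem_sup_right hx)
    other := ⟨E', fun x hx => (mem hψS').1 (hB5 hx), fun x hx => (hcen B _ hBm x).2 (fun y hy => by
        have := hB.commute (s := s) (e := ed) (c := 4) (m := 1) (fun i _ => hedge (4 + i)) (by omega)
        exact (this hy _ hx).symm),
      le_of (by rw [Subgroup.map_sup, hψS', hE'm, hψQ]; exact hB4),
      fun y hy x hx => (mem hψV).1 (by
        rw [map_commutatorElement]; exact hB6 _ (hQCB.le (mem_map_of_mem _ hy)) _ hx)⟩ },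
    α⁻¹ * (s 2).1, map_injective hψ (by
      rw [hAm, hmap, map_autImg hT hD, Fam.Vv_eq hv0k]; rfl)⟩

theorem Datum.orbit_cases {Q V : Subgroup G} {q : ℕ} (hD : Datum p (S : Subgroup G) Q V q)
    (hd : NoChar S) :
    (∃ γ : MulAut ↥(S : Subgroup G), ¬ autImg (S : Subgroup G) V γ ≤ Q) ∨
      ∃ (A B E : Subgroup G) (g : G), Mid p q (S : Subgroup G) Q V A B E g :=
  (hD.orbit_cases_img hd).imp id fun ⟨A, B, E, g, h, _⟩ => ⟨A, B, E, g, h⟩

end CfsgLib.ClassK.Push
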