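import Cfsg.Agent.Lib.ClassK.PushQuot

/-!
At distance two the prime is three: the torus acts on the triple commutator form of the Sylow
subgroup with weight `k³` and on `Z(S)/(Z(S) ∩ Z(G))` with weight `k`.
-/

set_option autoImplicit false
set_option linter.style.haveILetI false
set_option linter.unusedSectionVars false
set_option maxHeartbeats 1000000

namespace CfsgLib.ClassK.Push

open Subgroup
open scoped MatrixGroups Pointwise commutatorElement

section Class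

variable {G : Type*} [Group G] {P : Subgroup G}
  (hcl : ∀ a ∈ P, ∀ b ∈ P, ∀ c ∈ P, ∀ d ∈ P, Commute ⁅⁅a, b⁆, c⁆ d)
include hcl

theorem triple_mul_left {x x' y z : G} (hx : x ∈ P) (hx' : x' ∈ P) (hy : y ∈ P) (hz : z ∈ P) :
    ⁅⁅x * x', y⁆, z⁆ = ⁅⁅x, y⁆, z⁆ * ⁅⁅x', y⁆, z⁆ := by
  have hm : ∀ {a b : G}, a ∈ P → b ∈ P → ⁅a, b⁆ ∈ P := fun ha hb =>
    mul_mem (mul_mem (mul_mem ha hb) (inv_mem ha)) (inv_mem hb)
  set c := x * ⁅x', y⁆ * x⁻¹
  have hd : ∀ d ∈ P, Commute (⁅⁅x', y⁆, x⁆) d := hcl x' hx' y hy x hx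
  have hc : c = ⁅⁅x', y⁆, x⁆⁻¹ * ⁅x', y⁆ := by simp [c, commutatorElement_def, mul_assoc]
  have hcP : c ∈ P := mul_mem (mul_mem hx (hm hx' hy)) (inv_mem hx)
  have h1 : ⁅c, z⁆ = ⁅⁅x', y⁆, z⁆ := by
    rw [hc, commutatorElement_mul_left',
      commutatorElement_eq_one_iff_commute.2 ((hd z hz).inv_left), mul_one,
      ((hd _ (hm (hm hx' hy) hz)).inv_left).eq, mul_inv_cancel_right]
  rw [commutatorElement_mul_left' x x' y, commutatorElement_mul_left', h1,
    ← (hcl x hx y hy z hz c hcP).eq, mul_inv_cancel_right]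

theorem triple_mul_middle {x y y' z : G} (hx : x ∈ P) (hy : y ∈ P) (hy' : y' ∈ P) (hz : z ∈ P) :
    ⁅⁅x, y * y'⁆, z⁆ = ⁅⁅x, y⁆, z⁆ * ⁅⁅x, y'⁆, z⁆ := by
  have hm : ∀ {a b : G}, a ∈ P → b ∈ P → ⁅a, b⁆ ∈ P := fun ha hb =>
    mul_mem (mul_mem (mul_mem ha hb) (inv_mem ha)) (inv_mem hb)
  set c := y * ⁅x, y'⁆ * y⁻¹
  have hd : ∀ d ∈ P, Commute (⁅⁅x, y'⁆, y⁆) d := hcl x hx y' hy' y hy
  have hc : c = ⁅⁅x, y'⁆, y⁆⁻¹ * ⁅x, y'⁆ := by simp [c, commutatorElement_def, mul_assoc]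
  have h1 : ⁅c, z⁆ = ⁅⁅x, y'⁆, z⁆ := by
    rw [hc, commutatorElement_mul_left',
      commutatorElement_eq_one_iff_commute.2 ((hd z hz).inv_left), mul_one,
      ((hd _ (hm (hm hx hy') hz)).inv_left).eq, mul_inv_cancel_right]
  rw [commutatorElement_mul_right' x y y', commutatorElement_mul_left', h1,
    ← (hcl x hx y' hy' z hz _ (hm hx hy)).eq, mul_inv_cancel_right,
    (hcl x hx y' hy' z hz _ (hm (hm hx hy) hz)).eq]

theorem triple_mul_right {x y z z' : G} (hx : x ∈ P) (hy : y ∈ P) (hz : z ∈ P) (hz' : z' ∈ P) :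
    ⁅⁅x, y⁆, z * z'⁆ = ⁅⁅x, y⁆, z⁆ * ⁅⁅x, y⁆, z'⁆ := by
  rw [commutatorElement_mul_right' _ z z', ← (hcl x hx y hy z' hz' z hz).eq, mul_inv_cancel_right]

theorem triple_pow_left {x y z : G} (hx : x ∈ P) (hy : y ∈ P) (hz : z ∈ P) (m : ℕ) :
    ⁅⁅x ^ m, y⁆, z⁆ = ⁅⁅x, y⁆, z⁆ ^ m := by
  induction m with
  | zero => simp [commutatorElement_def]
  | succ m ih => rw [pow_succ, pow_succ, triple_mul_left hcl (pow_mem hx m) hx hy hz, ih]

theorem triple_pow_middle {x y z : G} (hx : x ∈ P) (hy : y ∈ P) (hz : z ∈ P) (m : ℕ) :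
    ⁅⁅x, y ^ m⁆, z⁆ = ⁅⁅x, y⁆, z⁆ ^ m := by
  induction m with
  | zero => simp [commutatorElement_def]
  | succ m ih => rw [pow_succ, pow_succ, triple_mul_middle hcl hx (pow_mem hy m) hy hz, ih]

theorem triple_pow_right {x y z : G} (hx : x ∈ P) (hy : y ∈ P) (hz : z ∈ P) (m : ℕ) :
    ⁅⁅x, y⁆, z ^ m⁆ = ⁅⁅x, y⁆, z⁆ ^ m := by
  induction m with
  | zero => simp [commutatorElement_def]
  | succ m ih => rw [pow_succ, pow_succ, triple_mul_right hcl hx hy (pow_mem hz m) hz, ih]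

end Class

variable {G : Type*} [Group G] [Finite G] {p n : ℕ} [Fact p.Prime] {F : Type*} [Field F] [Fintype F]
  {S : Sylow p G} {M : Subgroup G} {φ : G →* Matrix.ProjectiveSpecialLinearGroup (Fin 2) F}

local notation "π" => QuotientGroup.mk' (Subgroup.center (Matrix.SpecialLinearGroup (Fin 2) F))
local notation "u" => CfsgLib.Classical.uElt

theorem rep_sylow (h : Pre (F := F) S M φ n) (hU : Normalized S φ) {ρ : G →* SL(2, F)}
    (hρ : ∀ g, π (ρ g) = φ g) {s : G} (hs : s ∈ (S : Subgroup G)) : ∃ t, ρ s = u t := by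
  haveI := charP_of_card (F := F) h.card
  obtain ⟨_, ⟨t, rfl⟩, ht⟩ := hU.le (mem_map_of_mem φ hs)
  refine ⟨t, ?_⟩
  rw [← hρ, QuotientGroup.mk'_eq_mk'] at ht
  obtain ⟨z, hz, hzs⟩ := ht
  obtain ⟨k, hk⟩ := S.isPGroup' ⟨s, hs⟩
  have hk' : ρ s ^ p ^ k = 1 := by
    rw [← map_pow, show s ^ p ^ k = 1 from congrArg Subtype.val hk, map_one]
  have hu : ∀ m : ℕ, u t ^ m = u ((m : F) * t) := by
    intro m
    induction m with
    | zero => simp [uElt_zero]
    | succ m ih => rw [pow_succ, ih, ← CfsgLib.Classical.uElt_add]; push_cast; ring_nf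
  have hup : u t ^ p = 1 := by rw [hu, CharP.cast_eq_zero, zero_mul, uElt_zero]
  have hc : Commute (u t) z := mem_center_iff.1 hz (u t)
  have hz1 : z ^ p ^ (k + 1) = 1 := by
    have h1 : ρ s ^ p ^ (k + 1) = 1 := by rw [pow_succ, pow_mul, hk', one_pow]
    rw [← hzs, hc.mul_pow, show u t ^ p ^ (k + 1) = 1 by rw [pow_succ', pow_mul, hup, one_pow],
      one_mul] at h1
    exact h1
  have h4 : orderOf z ∣ Nat.gcd (Nat.card (center SL(2, F))) (p ^ (k + 1)) := Nat.dvd_gcd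
    ((center SL(2, F)).orderOf_dvd_natCard hz) (orderOf_dvd_of_pow_eq_one hz1)
  rw [(Nat.Coprime.pow_right (k + 1) ((Nat.Prime.coprime_iff_not_dvd Fact.out).2
    (not_dvd_center (F := F) h.card)).symm).gcd_eq_one, Nat.dvd_one, orderOf_eq_one_iff] at h4
  rw [← hzs, h4, mul_one]

namespace Sit

variable (h : Sit (F := F) S M φ n) (hU : Normalized S φ)
  {V : Subgroup G} (hD : Datum p (S : Subgroup G) (Cfsg.pCore p G) V (p ^ n))
  {A B E : Subgroup G} {g : G}
  (hM : Mid p (p ^ n) (S : Subgroup G) (Cfsg.pCore p G) V A B E g)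
include h hU hD hM

omit hU in
/-- At distance two `O^p(G)` fixes the commutators of `O_p` and the powers of `Y`. -/
theorem mid_fixed :
    ⁅Cfsg.pCore p G, Cfsg.pCore p G⁆ ≤ centralizer (Cfsg.pResidual p G : Set G) ∧
    ∀ y ∈ Cfsg.pCore p G ⊓ centralizer (A : Set G) ⊓ centralizer (B : Set G),
      y ^ p ∈ centralizer (Cfsg.pResidual p G : Set G) := by
  haveI := hD.Q_normal
  haveI := hD.V_normal
  set Q := Cfsg.pCore p G
  set Y := Q ⊓ centralizer (A : Set G) ⊓ centralizer (B : Set G)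
  set K := Cfsg.pResidual p G
  haveI := CfsgLib.Transfer.pResidual_normal (G := G) (p := p)
  haveI : Y.Normal := Mid.y_normal hD hM
  have hmove : ∀ x ∈ K, ∀ y ∈ Y, ∃ w ∈ V, x * y * x⁻¹ = w * y := fun x hx y hy =>
    ⟨⁅y, x⁆⁻¹, inv_mem (h.residual_y hD hM x hx y hy), by simp [commutatorElement_def, mul_assoc]⟩
  have hdle : Q ⊓ centralizer (A : Set G) ≤ A ⊔ Y := (Mid.d_le hD hM).trans
    (sup_le (sup_le le_sup_left ((show V ≤ Y from fun v hv =>
      ⟨⟨hD.V_le hv, fun a ha => hD.V_cent hv a (hM.A_le ha)⟩,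
        fun b hb => hD.V_cent hv b (hM.B_le hb)⟩).trans le_sup_right)) (inf_le_left.trans le_sup_right))
  have hQgen : Q ≤ closure ((A : Set G) ∪ B ∪ Y) := by
    refine hM.Q_A.trans (sup_le (fun x hx => subset_closure (Or.inl (Or.inr hx))) (hdle.trans ?_))
    exact sup_le (fun x hx => subset_closure (Or.inl (Or.inl hx))) fun x hx => subset_closure (Or.inr hx)
  have hgenQ : ∀ x ∈ ((A : Set G) ∪ B ∪ Y), x ∈ Q := by
    rintro x ((hx | hx) | hx)
    exacts [hM.A_le hx, hM.B_le hx, hx.1.1]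
  have hcen : ∀ {z : G}, z ∈ center G → z ∈ centralizer (K : Set G) := fun hz x _ =>
    mem_center_iff.1 hz x
  refine ⟨?_, fun y hy x hx => ?_⟩
  · refine commutator_le_of_generators hQgen hQgen (fun _ _ => by rw [normalizer_eq_top]; trivial)
      (fun _ _ => by rw [normalizer_eq_top]; trivial) ?_
    rintro y hy y' hy'
    rcases hy with (hy | hy) | hy
    · exact hcen (hM.A_central y hy y' (hgenQ y' hy'))
    · exact hcen (hM.B_central y hy y' (hgenQ y' hy'))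
    · rcases hy' with (hy' | hy') | hy'
      · rw [← commutatorElement_inv]; exact inv_mem (hcen (hM.A_central y' hy' y hy.1.1))
      · rw [← commutatorElement_inv]; exact inv_mem (hcen (hM.B_central y' hy' y hy.1.1))
      · intro x hx
        obtain ⟨w, hw, hwy⟩ := hmove x hx y hy
        obtain ⟨w', hw', hwy'⟩ := hmove x hx y' hy'
        have e1 : x * ⁅y, y'⁆ * x⁻¹ = ⁅y, y'⁆ := by
          have c0 : y * w' = w' * y := hD.V_cent hw' y hy.1.1
          have c1 : ∀ q ∈ Q, Commute w q := fun q hq => (hD.V_cent hw q hq).symm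
          have c2 : ∀ q ∈ Q, Commute w' q := fun q hq => (hD.V_cent hw' q hq).symm
          have hyy : ⁅y, y'⁆ ∈ Q := commutator_le_self Q (commutator_mem_commutator hy.1.1 hy'.1.1)
          rw [← commutatorElement_conj, hwy, hwy', commutatorElement_mul_left',
            commutatorElement_mul_right' y w' y',
            commutatorElement_eq_one_iff_mul_comm.2 c0, one_mul, (c2 _ hyy).eq, mul_inv_cancel_right,
            (c1 _ hyy).eq, mul_inv_cancel_right,
            commutatorElement_eq_one_iff_mul_comm.2 (c1 _ (mul_mem (hD.V_le hw') hy'.1.1)).eq, mul_one]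
        calc x * ⁅y, y'⁆ = x * ⁅y, y'⁆ * x⁻¹ * x := by group
          _ = _ := by rw [e1]
  · obtain ⟨w, hw, hwy⟩ := hmove x hx y hy
    have hc : Commute w y := (hD.V_cent hw y hy.1.1).symm
    have e1 : x * y ^ p * x⁻¹ = y ^ p := by
      rw [← conj_pow, hwy, hc.mul_pow, hD.exp w hw, one_mul]
    calc x * y ^ p = x * y ^ p * x⁻¹ * x := by group
      _ = _ := by rw [e1]

omit hU in
/-- At distance two the commutator chain of `S` ends in the fixed part of `O_p` after three steps. -/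
theorem mid_chain :
    let C := Cfsg.pCore p G ⊓ centralizer (Cfsg.pResidual p G : Set G)
    ⁅(S : Subgroup G), (S : Subgroup G)⁆ ≤ A ⊔ V ⊔ C ∧
    ⁅A ⊔ V ⊔ C, (S : Subgroup G)⁆ ≤ zOf (S : Subgroup G) ⊔ C ∧
    ⁅zOf (S : Subgroup G) ⊔ C, (S : Subgroup G)⁆ ≤ C := by
  intro C'
  haveI := hD.Q_normal
  haveI := hD.V_normal
  haveI := CfsgLib.Transfer.pResidual_normal (G := G) (p := p)
  set Q := Cfsg.pCore p G with hQ
  set C := Q ⊓ centralizer (Cfsg.pResidual p G : Set G)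
  haveI : C.Normal := inferInstance
  obtain ⟨hQQ, -⟩ := h.mid_fixed hD hM
  set D0 := Q ⊓ centralizer (A : Set G) ⊓ centralizer (B : Set G) ⊓ centralizer (E : Set G)
  set X := (E : Set G) ∪ A ∪ B ∪ V ∪ (D0 : Set G) with hX
  set Zs := zOf (S : Subgroup G)
  have hS : (S : Subgroup G) ≤ closure X := Mid.sylow_le_closure hD hM
  have hXS : ∀ x ∈ X, x ∈ (S : Subgroup G) := fun x hx => Mid.closure_gen_normal_sup hD hM hx
  have htop : ∀ {N : Subgroup G} [N.Normal] {H : Subgroup G}, H ≤ normalizer (N : Set G) :=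
    fun {N} _ {H} => by rw [normalizer_eq_top]; exact le_top
  have hZn : (S : Subgroup G) ≤ normalizer (Zs : Set G) := fun y hy => mem_normalizer_iff.2 fun z =>
    ⟨fun hz => by rwa [conj_mem_of_mem_zOf hy hz], fun hz => by
      have := conj_mem_of_mem_zOf (inv_mem hy) hz
      rw [inv_inv, show y⁻¹ * (y * z * y⁻¹) * y = z by group] at this
      rwa [this]⟩
  have hn1 : (S : Subgroup G) ≤ normalizer ((A ⊔ V ⊔ C : Subgroup G) : Set G) :=
    CfsgLib.Comp.le_normalizer_sup (CfsgLib.Comp.le_normalizer_sup hM.A_norm htop) htop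
  have hn2 : (S : Subgroup G) ≤ normalizer ((Zs ⊔ C : Subgroup G) : Set G) :=
    CfsgLib.Comp.le_normalizer_sup hZn htop
  refine ⟨?_, ?_, ?_⟩
  · refine commutator_le_of_generators hS hS (fun x hx => hn1 (hXS x hx)) (fun x hx => hn1 (hXS x hx)) ?_
    have hA : ∀ a ∈ A, ∀ y ∈ X, ⁅a, y⁆ ∈ A ⊔ V ⊔ C := fun a ha y hy =>
      mem_sup_left (mem_sup_left (hM.A_center (hM.A_comm a ha y (hXS y hy))))
    have hV : ∀ a ∈ V, ∀ y ∈ X, ⁅a, y⁆ ∈ A ⊔ V ⊔ C := fun a ha y hy =>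
      mem_sup_left (mem_sup_left (hM.A_center (hD.comm_mem a ha y (hXS y hy))))
    have hDD : ∀ d ∈ D0, ∀ y ∈ X, ⁅d, y⁆ ∈ A ⊔ V ⊔ C := by
      intro d hd y hy
      by_cases hyD : y ∈ D0
      · exact mem_sup_right (mem_inf.2 ⟨commutator_le_self Q
          (commutator_mem_commutator hd.1.1.1 hyD.1.1.1),
          hQQ (commutator_mem_commutator hd.1.1.1 hyD.1.1.1)⟩)
      rcases hy with (((hy | hy) | hy) | hy) | hy
      · rw [commutatorElement_eq_one_iff_mul_comm.2 (hd.2 y hy).symm]; exact one_mem _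
      · rw [commutatorElement_eq_one_iff_mul_comm.2 (hd.1.1.2 y hy).symm]; exact one_mem _
      · rw [commutatorElement_eq_one_iff_mul_comm.2 (hd.1.2 y hy).symm]; exact one_mem _
      · rw [commutatorElement_eq_one_iff_mul_comm.2 (hD.V_cent hy d hd.1.1.1)]; exact one_mem _
      · exact absurd hy hyD
    have sw : ∀ {x y : G}, ⁅y, x⁆ ∈ A ⊔ V ⊔ C → ⁅x, y⁆ ∈ A ⊔ V ⊔ C := fun hh => by
      rw [← commutatorElement_inv]; exact inv_mem hh
    intro x hx y hy
    rcases hx with (((hx | hx) | hx) | hx) | hx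
    · rcases hy with (((hy | hy) | hy) | hy) | hy
      · rw [commutatorElement_eq_one_iff_mul_comm.2 (hM.E_ab hy x hx)]; exact one_mem _
      · exact sw (hA y hy x (Or.inl (Or.inl (Or.inl (Or.inl hx)))))
      · exact mem_sup_left (Mid.comm_mem_sup hD hM hx hy)
      · exact sw (hV y hy x (Or.inl (Or.inl (Or.inl (Or.inl hx)))))
      · exact sw (hDD y hy x (Or.inl (Or.inl (Or.inl (Or.inl hx)))))
    · exact hA x hx y hy
    · rcases hy with (((hy | hy) | hy) | hy) | hy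
      · exact sw (mem_sup_left (Mid.comm_mem_sup hD hM hy hx))
      · exact sw (hA y hy x (Or.inl (Or.inl (Or.inr hx))))
      · rw [commutatorElement_eq_one_iff_mul_comm.2 (hM.B_ab hy x hx)]; exact one_mem _
      · exact sw (hV y hy x (Or.inl (Or.inl (Or.inr hx))))
      · exact sw (hDD y hy x (Or.inl (Or.inl (Or.inr hx))))
    · exact hV x hx y hy
    · exact hDD x hx y hy
  · refine commutator_le_of_generators (X := (A : Set G) ∪ V ∪ (C : Set G)) (sup_le (sup_le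
      (fun x hx => subset_closure (Or.inl (Or.inl hx))) fun x hx => subset_closure (Or.inl (Or.inr hx)))
      fun x hx => subset_closure (Or.inr hx))
      (Y := ((S : Subgroup G) : Set G)) (fun x hx => subset_closure hx) ?_ (fun x hx => hn2 hx) ?_
    · rintro x ((hx | hx) | hx)
      exacts [hn2 (Mid.A_le_S hD hM hx), hn2 (hD.Q_le (hD.V_le hx)), hn2 (hD.Q_le hx.1)]
    · rintro x ((hx | hx) | hx) s hs
      · exact mem_sup_left (hM.A_comm x hx s hs)
      · exact mem_sup_left (hD.comm_mem x hx s hs)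
      · exact mem_sup_right (commutator_le_left C ⊤ (commutator_mem_commutator hx (mem_top s)))
  · refine commutator_le_of_generators (X := (Zs : Set G) ∪ (C : Set G)) (sup_le
      (fun x hx => subset_closure (Or.inl hx)) fun x hx => subset_closure (Or.inr hx))
      (Y := ((S : Subgroup G) : Set G)) (fun x hx => subset_closure hx)
      (fun _ _ => by rw [normalizer_eq_top]; trivial) (fun _ _ => by rw [normalizer_eq_top]; trivial) ?_
    rintro x (hx | hx) s hs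
    · rw [commutatorElement_eq_one_iff_mul_comm.2 (hx.2 s hs).symm]; exact one_mem _
    · exact commutator_le_left C ⊤ (commutator_mem_commutator hx (mem_top s))

set_option maxHeartbeats 2000000 in
theorem p_eq_three {ρ : G →* SL(2, F)} (hρ : ∀ g, π (ρ g) = φ g)
    (hn : Natural ρ V (V ⊓ center G)) : p = 3 := by
  haveI := charP_of_card (F := F) h.card
  haveI := hD.Q_normal
  haveI := hD.V_normal
  set Q := Cfsg.pCore p G with hQdef
  set Y := Q ⊓ centralizer (A : Set G) ⊓ centralizer (B : Set G)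
  set D0 := Q ⊓ centralizer (A : Set G) ⊓ centralizer (B : Set G) ⊓ centralizer (E : Set G)
  haveI := CfsgLib.Transfer.pResidual_normal (G := G) (p := p)
  set C := Q ⊓ centralizer (Cfsg.pResidual p G : Set G) with hCdef
  haveI : C.Normal := inferInstance
  set σ := QuotientGroup.mk' C with hσdef
  have hσ : ∀ {x : G}, x ∈ C → σ x = 1 := fun hx => (QuotientGroup.eq_one_iff _).2 hx
  have hσ1 : ∀ {x : G}, x = 1 → σ x = 1 := fun hx => hx ▸ map_one σ
  obtain ⟨hnQ, hline⟩ := h.natural_top hU hD hM hρ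
  haveI : Y.Normal := hnQ.N_normal
  obtain ⟨e, he, b, hb, a, ha, v, hv, hm, heQ, hvZ⟩ := Mid.exists_twist hD hM
  have heS := hM.E_le he
  have hbQ := hM.B_le hb
  have hQS := hD.Q_le
  have hbS := hQS hbQ
  have hmS : ∀ {x : G}, x ∈ (S : Subgroup G) → σ x ∈ (S : Subgroup G).map σ := fun hx =>
    mem_map_of_mem σ hx
  obtain ⟨hch1, hch2, hch3⟩ := h.mid_chain hD hM
  obtain ⟨hQQ, -⟩ := h.mid_fixed hD hM
  have hcl : ∀ a ∈ (S : Subgroup G).map σ, ∀ b ∈ (S : Subgroup G).map σ, ∀ c ∈ (S : Subgroup G).map σ,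
      ∀ d ∈ (S : Subgroup G).map σ, Commute ⁅⁅a, b⁆, c⁆ d := by
    rintro _ ⟨a, ha, rfl⟩ _ ⟨b, hb, rfl⟩ _ ⟨c, hc, rfl⟩ _ ⟨d, hd', rfl⟩
    rw [← commutatorElement_eq_one_iff_commute, ← map_commutatorElement, ← map_commutatorElement,
      ← map_commutatorElement]
    exact hσ (hch3 (commutator_mem_commutator (hch2 (commutator_mem_commutator
      (hch1 (commutator_mem_commutator ha hb)) hc)) hd'))
  have hD0e : ∀ c ∈ D0, Commute c e := fun c hc => (hc.2 e he).symm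
  have hAVD : ∀ d ∈ Q ⊓ centralizer (A : Set G),
      ∃ a' ∈ A, ∃ v' ∈ V, ∃ c ∈ D0, d = a' * v' * c := by
    intro d hd'
    have hnorm : D0 ≤ normalizer ((A ⊔ V : Subgroup G) : Set G) :=
      (show D0 ≤ (S : Subgroup G) from fun c hc => hQS hc.1.1.1).trans
        (CfsgLib.Comp.le_normalizer_sup hM.A_norm (by rw [normalizer_eq_top]; exact le_top))
    obtain ⟨m, hm', c, hc, rfl⟩ := CfsgLib.Comp.exists_mul_of_mem_sup hnorm (Mid.d_le hD hM hd')
    obtain ⟨v', hv', a', ha', rfl⟩ := mem_sup_of_normal_left.1 ((sup_comm A V).le hm')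
    exact ⟨a', ha', v', hv', c, hc, by rw [show v' * a' = a' * v' from (Mid.V_A hD hM hv' a' ha').symm]⟩
  have hbY : ∀ y ∈ Q, ∀ d ∈ Q ⊓ centralizer (A : Set G), ⁅⁅σ y, σ d⁆, σ e⁆ = 1 := by
    intro y hy d hd'
    obtain ⟨a', ha', v', hv', c, hc, rfl⟩ := hAVD d hd'
    have haS := hQS (hM.A_le ha')
    have hvS := hQS (hD.V_le hv')
    have hcS := hQS hc.1.1.1
    have hyS := hQS hy
    rw [map_mul, map_mul,
      triple_mul_middle hcl (hmS hyS) (mul_mem (hmS haS) (hmS hvS)) (hmS hcS) (hmS heS),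
      triple_mul_middle hcl (hmS hyS) (hmS haS) (hmS hvS) (hmS heS), ← map_commutatorElement σ y a',
      ← map_commutatorElement σ, ← map_commutatorElement σ y v']
    have e1 : ⁅⁅y, a'⁆, e⁆ = 1 := by
      refine commutatorElement_eq_one_iff_mul_comm.2 (mem_center_iff.1 ?_ e).symm
      rw [← commutatorElement_inv]; exact inv_mem (hM.A_central a' ha' y hy)
    have e2 : ⁅y, v'⁆ = 1 := commutatorElement_eq_one_iff_mul_comm.2 (hD.V_cent hv' y hy)
    rw [hσ1 e1, hσ1 e2, commutatorElement_one_left, one_mul, one_mul]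
    obtain ⟨b', hb', r, hr, rfl⟩ := CfsgLib.Comp.exists_mul_of_mem_sup
      (H := Q ⊓ centralizer (A : Set G)) (K := B)
      (fun x hx => Subgroup.inf_normalizer_le_normalizer_inf
        (show x ∈ normalizer (Q : Set G) ⊓ normalizer (centralizer (A : Set G) : Set G) from
        ⟨Subgroup.le_normalizer (hM.B_le hx), CfsgLib.Comp.le_normalizer_centralizer hM.A_norm
          (hQS (hM.B_le hx))⟩)) (by rw [sup_comm]; exact hM.Q_A hy)
    obtain ⟨a'', ha'', v'', hv'', c'', hc'', rfl⟩ := hAVD b' hb'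
    have hrS := Mid.B_le_S hD hM hr
    have hc''S := hQS hc''.1.1.1
    rw [map_mul, map_mul, map_mul,
      triple_mul_left hcl (mul_mem (mul_mem (hmS (hQS (hM.A_le ha''))) (hmS (hQS (hD.V_le hv''))))
        (hmS hc''S)) (hmS hrS) (hmS hcS) (hmS heS),
      triple_mul_left hcl (mul_mem (hmS (hQS (hM.A_le ha''))) (hmS (hQS (hD.V_le hv'')))) (hmS hc''S)
        (hmS hcS) (hmS heS),
      triple_mul_left hcl (hmS (hQS (hM.A_le ha''))) (hmS (hQS (hD.V_le hv''))) (hmS hcS) (hmS heS)]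
    simp only [← map_commutatorElement]
    have f1 : ⁅a'', c⁆ = 1 := commutatorElement_eq_one_iff_mul_comm.2 (hc.1.1.2 a'' ha'')
    have f2 : ⁅v'', c⁆ = 1 := commutatorElement_eq_one_iff_mul_comm.2 (hD.V_cent hv'' c hc.1.1.1).symm
    have f3 : ⁅r, c⁆ = 1 := commutatorElement_eq_one_iff_mul_comm.2 (hc.1.2 r hr)
    have f4 : ⁅⁅c'', c⁆, e⁆ = 1 := commutatorElement_eq_one_iff_commute.2
      ((((hD0e _ hc'').mul_left (hD0e _ hc)).mul_left (hD0e _ hc'').inv_left).mul_left (hD0e _ hc).inv_left)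
    rw [f1, f2, f3, f4, commutatorElement_one_left, map_one, one_mul, one_mul, one_mul]
  -- the torus element
  have h2 : (2 : F) ≠ 0 := by
    intro h0
    have : ((2 : ℕ) : F) = 0 := by exact_mod_cast h0
    rw [CharP.cast_eq_zero_iff F p] at this
    exact Mid.p_ne_two hD hM ((Nat.prime_dvd_prime_iff_eq Fact.out Nat.prime_two).1 this)
  obtain ⟨h₀, hh₀⟩ := h.surj (π (dElt (Units.mk0 (2 : F) h2)))
  have hh₀M : h₀ ∈ M := h.toPre.mem_of_map_normalizes (by
    show φ h₀ ∈ normalizer (((S : Subgroup G).map φ : Subgroup _) : Set _)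
    rw [show (S : Subgroup G).map φ = _ from hU, hh₀]
    refine mem_normalizer_fintype fun y hy => ?_
    obtain ⟨_, ⟨t, rfl⟩, rfl⟩ := hy
    exact ⟨_, ⟨((2 : F)) ^ 2 * t, rfl⟩,
      by rw [← map_inv, ← map_mul, ← map_mul, dElt_mul_uElt, mul_inv_cancel_right]; rfl⟩)
  obtain ⟨t, ht, hn₀⟩ := h.toPre.le_normalizer_sup_ker hh₀M
  set n₀ := t⁻¹ * h₀ with hn₀def
  have htφ : φ t ∈ (CfsgLib.Classical.uSL F).map π := by
    have hle : (S : Subgroup G) ⊔ φ.ker ≤ ((CfsgLib.Classical.uSL F).map π).comap φ := sup_le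
      (map_le_iff_le_comap.1 hU.le) (fun x hx => by
        rw [Subgroup.mem_comap, MonoidHom.mem_ker.1 hx]; exact one_mem _)
    exact hle ht
  obtain ⟨_, ⟨c₀, rfl⟩, hc₀⟩ := inv_mem htφ
  obtain ⟨z, hz, hzn⟩ : ∃ z ∈ center SL(2, F), u c₀ * dElt (Units.mk0 (2 : F) h2) * z = ρ n₀ := by
    rw [← QuotientGroup.mk'_eq_mk' (N := center SL(2, F))]
    show π (u c₀ * _) = π (ρ n₀)
    rw [hρ, map_mul, hc₀, ← hh₀, hn₀def, map_mul, map_inv]
  obtain ⟨r, hr2, hrz⟩ := Matrix.SpecialLinearGroup.mem_center_iff.1 hz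
  have hr : r = 1 ∨ r = -1 := by
    rw [Fintype.card_fin] at hr2
    exact sq_eq_one_iff.1 hr2
  have hp2 : ((p + 1) / 2 : ℕ) * (2 : F) = 1 := by
    obtain ⟨m, hm'⟩ := (Fact.out : p.Prime).odd_of_ne_two (Mid.p_ne_two hD hM)
    rw [show (p + 1) / 2 = m + 1 by omega]
    have : ((p : ℕ) : F) = 0 := CharP.cast_eq_zero F p
    rw [hm'] at this
    push_cast at this ⊢
    linear_combination this
  obtain ⟨rn, hrn⟩ : ∃ rn : ℕ, (rn : F) = r := by
    rcases hr with rfl | rfl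
    · exact ⟨1, Nat.cast_one⟩
    · exact ⟨p - 1, by rw [Nat.cast_sub (Fact.out : p.Prime).one_le, CharP.cast_eq_zero]; simp⟩
  set k := 2 * rn with hk
  set i := rn * ((p + 1) / 2) with hi
  have hkF : (k : F) = 2 * r := by rw [hk]; push_cast; rw [hrn]
  have hiF : (i : F) * 2 = r := by rw [hi]; push_cast; rw [hrn, mul_assoc, hp2, mul_one]
  have hMat : (ρ n₀ : Matrix (Fin 2) (Fin 2) F) = !![2 * r, c₀ * (2 : F)⁻¹ * r; 0, (2 : F)⁻¹ * r] := by
    rw [← hzn, Matrix.SpecialLinearGroup.coe_mul, Matrix.SpecialLinearGroup.coe_mul, dElt_val, ← hrz,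
      CfsgLib.Classical.uElt_val]
    ext a b
    fin_cases a <;> fin_cases b <;> simp [Matrix.mul_apply, Fin.sum_univ_two] <;> ring
  have h2i : (2 : F)⁻¹ * r = i := by rw [← hiF]; field_simp
  -- `n₀` on `O_p / Y`
  obtain ⟨d, hd', hbconj⟩ : ∃ d ∈ Q ⊓ centralizer (A : Set G), n₀ * b * n₀⁻¹ = b ^ i * d := by
    set d := (b ^ i)⁻¹ * (n₀ * b * n₀⁻¹)
    have hdQ : d ∈ Q := mul_mem (inv_mem (pow_mem hbQ i)) (hD.Q_normal.conj_mem b hbQ n₀)
    obtain ⟨θ, hθ, hθk, hθe⟩ := hnQ.rep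
    set tb := (θ ⟨b, hbQ⟩).toAdd
    have hθd : (θ ⟨d, hdQ⟩).toAdd 1 = 0 := by
      have e1 : (⟨d, hdQ⟩ : ↥Q) = (⟨b, hbQ⟩ ^ i)⁻¹ * ⟨_, hD.Q_normal.conj_mem b hbQ n₀⟩ :=
        Subtype.ext (by simp [d])
      rw [e1, map_mul, map_inv, map_pow, toAdd_mul, toAdd_inv, toAdd_pow,
        hθe n₀ ⟨b, hbQ⟩ ⟨_, hD.Q_normal.conj_mem b hbQ n₀⟩ rfl, hMat, h2i]
      simp [Matrix.mulVec, dotProduct, Fin.sum_univ_two]
    refine ⟨d, ?_, by simp [d]⟩
    have hT : A ⊔ Y ≤ Q ⊓ centralizer (A : Set G) := sup_le (le_inf hM.A_le hM.A_ab) inf_le_left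
    refine hT (hline d hdQ fun s hs => ?_)
    obtain ⟨t', ht'⟩ := rep_sylow h.toPre hU hρ hs
    have hsd : s * d * s⁻¹ ∈ Q := hD.Q_normal.conj_mem d hdQ s
    have h5 : θ ⟨s * d * s⁻¹, hsd⟩ = θ ⟨d, hdQ⟩ := Multiplicative.toAdd.injective (by
      rw [hθe s ⟨d, hdQ⟩ _ rfl, ht', CfsgLib.Classical.uElt_val]
      ext j
      fin_cases j <;> simp [Matrix.mulVec, dotProduct, Fin.sum_univ_two, hθd])
    have h6 : (⟨s * d * s⁻¹, hsd⟩ * ⟨d, hdQ⟩⁻¹ : ↥Q) ∈ θ.ker := by
      rw [MonoidHom.mem_ker, map_mul, map_inv, h5, mul_inv_cancel]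
    rw [hθk, mem_subgroupOf] at h6
    simpa [commutatorElement_def, mul_assoc] using h6
  -- `n₀` on `S / O_p`
  have hne : n₀ * e * n₀⁻¹ ∈ (S : Subgroup G) := (mem_normalizer_iff.1 hn₀ e).1 heS
  obtain ⟨y, hy, heconj⟩ : ∃ y ∈ Q, n₀ * e * n₀⁻¹ = e ^ (k * k) * y := by
    obtain ⟨t', ht'⟩ := rep_sylow h.toPre hU hρ heS
    refine ⟨(e ^ (k * k))⁻¹ * (n₀ * e * n₀⁻¹),
      (h.toPre.mem_pCore_iff (mul_mem (inv_mem (pow_mem heS _)) hne)).2 ?_, by simp⟩
    have hpw : ∀ m : ℕ, u t' ^ m = u ((m : F) * t') := by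
      intro m
      induction m with
      | zero => simp [uElt_zero]
      | succ m ih => rw [pow_succ, ih, ← CfsgLib.Classical.uElt_add]; push_cast; ring_nf
    have e2 : ρ n₀ * ρ e = u (((k * k : ℕ) : F) * t') * ρ n₀ := by
      apply sl_ext
      rw [Matrix.SpecialLinearGroup.coe_mul, Matrix.SpecialLinearGroup.coe_mul, hMat, ht',
        CfsgLib.Classical.uElt_val, CfsgLib.Classical.uElt_val]
      have hrr : r * r = 1 := by rcases hr with rfl | rfl <;> ring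
      ext a b
      fin_cases a <;> fin_cases b <;> simp [Matrix.mul_apply, Fin.sum_univ_two, hkF] <;>
        field_simp <;> linear_combination (-(4 : F) * t' * r) * hrr
    rw [← hρ, map_mul ρ, map_inv ρ, map_pow ρ, map_mul ρ, map_mul ρ, map_inv ρ, e2,
      mul_inv_cancel_right, ht', hpw, inv_mul_cancel, map_one]
  -- the base value
  set z₀ := ⁅⁅e, b⁆, e⁆ with hz₀
  have hz₀v : z₀ = ⁅v, e⁆ := by
    rw [hz₀, hm, commutatorElement_mul_left']
    have h1 : ⁅a, e⁆ = 1 := commutatorElement_eq_one_iff_mul_comm.2 (hM.E_A he a ha)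
    have h2' : a * ⁅v, e⁆ = ⁅v, e⁆ * a := (hD.comm_mem v hv e heS).2 a (hQS (hM.A_le ha))
    rw [h1, mul_one, h2', mul_inv_cancel_right]
  have hz₀Z : z₀ ∈ zOf (S : Subgroup G) := hz₀v ▸ hD.comm_mem v hv e heS
  have hz₀1 : z₀ ∉ C := fun hc => hvZ (hD.fix e heS heQ ⟨hv, mem_centralizer_singleton_iff.2
    (commutatorElement_eq_one_iff_mul_comm.1 (hD.comm_fix v hv e heS (hz₀v ▸ (mem_center_iff.2 fun y => by
      have hle : (⊤ : Subgroup G) ≤ centralizer ({z₀} : Set G) :=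
        (CfsgLib.Transfer.pResidual_sup_sylow S).ge.trans (sup_le
          (fun x hx => mem_centralizer_singleton_iff.2 (hc.2 x hx))
          (fun s hs => mem_centralizer_singleton_iff.2 (hz₀Z.2 s hs)))
      exact mem_centralizer_singleton_iff.1 (hle (mem_top y))))))⟩)
  have hzp : z₀ ^ p = 1 := hD.exp _ (hD.center_le hz₀Z)
  have hb' : n₀ * b * n₀⁻¹ ∈ (S : Subgroup G) := (mem_normalizer_iff.1 hn₀ b).1 hbS
  have hdS := hQS hd'.1
  have hbiS := pow_mem hbS i
  have hekS := pow_mem heS (k * k)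
  have hyS := hQS hy
  -- values of the form
  have t1 : ⁅⁅σ e, σ d⁆, σ e⁆ = 1 ∧ ⁅⁅σ e, σ d⁆, σ y⁆ = 1 := by
    obtain ⟨a', ha', v', hv', c, hc, rfl⟩ := hAVD d hd'
    have haS := hQS (hM.A_le ha')
    have hvS := hQS (hD.V_le hv')
    have hcS := hQS hc.1.1.1
    have f1 : ⁅e, a'⁆ = 1 := commutatorElement_eq_one_iff_mul_comm.2 (hM.E_A he a' ha').symm
    have f3 : ⁅e, c⁆ = 1 := commutatorElement_eq_one_iff_mul_comm.2 (hc.2 e he)
    have f2 : ⁅e, v'⁆ ∈ zOf (S : Subgroup G) := by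
      rw [← commutatorElement_inv]; exact inv_mem (hD.comm_mem v' hv' e heS)
    have f4 : ∀ w ∈ (S : Subgroup G), ⁅⁅σ e, σ (a' * v' * c)⁆, σ w⁆ = 1 := fun w hw => by
      rw [map_mul, map_mul, triple_mul_middle hcl (hmS heS) (mul_mem (hmS haS) (hmS hvS)) (hmS hcS) (hmS hw),
        triple_mul_middle hcl (hmS heS) (hmS haS) (hmS hvS) (hmS hw)]
      simp only [← map_commutatorElement]
      rw [f1, f3, commutatorElement_one_left, map_one, mul_one, one_mul]
      exact hσ1 (commutatorElement_eq_one_iff_mul_comm.2 (f2.2 w hw).symm)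
    exact ⟨f4 e heS, f4 y hyS⟩
  have t2 : ⁅⁅e, b⁆, y⁆ ∈ C := by
    rw [hm, commutatorElement_mul_left']
    have h1 : ⁅v, y⁆ = 1 := commutatorElement_eq_one_iff_mul_comm.2 (hD.V_cent hv y hy).symm
    rw [h1, mul_one, mul_inv_cancel, one_mul]
    exact ⟨hD.V_le (hD.center_le (hM.A_comm a ha y hyS)), fun x _ =>
      mem_center_iff.1 (hM.A_central a ha y hy) x⟩
  have t3 : ∀ w ∈ (S : Subgroup G), ⁅⁅y, b⁆, w⁆ = 1 := fun w _ => by
    refine commutatorElement_eq_one_iff_mul_comm.2 (mem_center_iff.1 ?_ w).symm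
    rw [← commutatorElement_inv]; exact inv_mem (hM.B_central b hb y hy)
  -- evaluate
  have hmSy := hmS hyS
  have hval : σ ⁅⁅n₀ * e * n₀⁻¹, n₀ * b * n₀⁻¹⁆, n₀ * e * n₀⁻¹⁆ = σ z₀ ^ (k * k * (k * k) * i) := by
    have hE := hmS heS
    have hB' := hmS hbS
    have hD' := hmS hdS
    have hEk : σ e ^ (k * k) ∈ (S : Subgroup G).map σ := pow_mem hE _
    have hBi : σ b ^ i ∈ (S : Subgroup G).map σ := pow_mem hB' _
    have s2 : ⁅⁅σ e, σ b⁆, σ y⁆ = 1 := by
      rw [← map_commutatorElement, ← map_commutatorElement]; exact hσ t2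
    have s3 : ∀ w ∈ (S : Subgroup G).map σ, ⁅⁅σ y, σ b⁆, w⁆ = 1 := by
      rintro _ ⟨w, hw, rfl⟩
      rw [← map_commutatorElement, ← map_commutatorElement]
      exact hσ1 (t3 w hw)
    have s4 : ⁅⁅σ y, σ d⁆, σ y⁆ = 1 := by
      have hmm : ⁅y, d⁆ ∈ C := mem_inf.2 ⟨commutator_le_self Q (commutator_mem_commutator hy hd'.1),
        hQQ (commutator_mem_commutator hy hd'.1)⟩
      rw [← map_commutatorElement, hσ hmm, commutatorElement_one_left]
    have s5 : σ z₀ = ⁅⁅σ e, σ b⁆, σ e⁆ := by rw [hz₀, map_commutatorElement, map_commutatorElement]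
    rw [heconj, hbconj]
    simp only [map_commutatorElement, map_mul, map_pow]
    rw [triple_mul_left hcl hEk hmSy (mul_mem hBi hD') (mul_mem hEk hmSy),
      triple_pow_left hcl hE (mul_mem hBi hD') (mul_mem hEk hmSy),
      triple_mul_right hcl hE (mul_mem hBi hD') hEk hmSy,
      triple_pow_right hcl hE (mul_mem hBi hD') hE,
      triple_mul_middle hcl hE hBi hD' hE, triple_pow_middle hcl hE hB' hE, t1.1, mul_one,
      triple_mul_middle hcl hE hBi hD' hmSy, triple_pow_middle hcl hE hB' hmSy,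
      triple_mul_middle hcl hmSy hBi hD' (mul_mem hEk hmSy),
      triple_pow_middle hcl hmSy hB' (mul_mem hEk hmSy), s3 _ (mul_mem hEk hmSy), one_pow, one_mul,
      triple_mul_right hcl hmSy hD' hEk hmSy, triple_pow_right hcl hmSy hD' hE, hbY y hy d hd', one_pow,
      one_mul, s2, t1.2, s4, one_pow, one_mul, mul_one, mul_one, ← s5, ← pow_mul, ← pow_mul]
    congr 1
    ring
  have hval2 : σ (n₀ * z₀ * n₀⁻¹) = σ z₀ ^ k := by
    obtain ⟨θ, hθ, hθk, hθe⟩ := hn.rep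
    have hzV := hD.center_le hz₀Z
    set tz := (θ ⟨z₀, hzV⟩).toAdd with htz
    have htz1 : tz 1 = 0 := by
      obtain ⟨s, hs, hs1⟩ := h.toPre.exists_not_ker
      obtain ⟨t', ht'⟩ := rep_sylow h.toPre hU hρ hs
      have h1 := hθe s ⟨z₀, hzV⟩ ⟨z₀, hzV⟩ (conj_mem_of_mem_zOf hs hz₀Z).symm
      rw [ht', CfsgLib.Classical.uElt_val] at h1
      have h2 := congrFun h1 0
      simp [Matrix.mulVec, dotProduct, Fin.sum_univ_two] at h2
      rcases h2 with h3 | h3
      · exact absurd (by rw [← hρ, ht', h3, uElt_zero, map_one]) hs1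
      · exact h3
    have hV' : n₀ * z₀ * n₀⁻¹ ∈ V := hD.V_normal.conj_mem _ hzV n₀
    have h1 : θ ⟨_, hV'⟩ = θ ⟨z₀, hzV⟩ ^ k := Multiplicative.toAdd.injective (by
      rw [hθe n₀ ⟨z₀, hzV⟩ _ rfl, hMat, toAdd_pow, ← htz]
      ext j
      fin_cases j <;> simp [Matrix.mulVec, dotProduct, Fin.sum_univ_two, htz1, hkF])
    have h2 : (⟨z₀, hzV⟩ ^ k)⁻¹ * (⟨_, hV'⟩ : ↥V) ∈ θ.ker := by
      rw [MonoidHom.mem_ker, map_mul, map_inv, map_pow, h1, inv_mul_cancel]
    rw [hθk, mem_subgroupOf] at h2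
    have h3 := hσ (show _ ∈ C from mem_inf.2
      ⟨hD.V_le h2.1, fun x _ => mem_center_iff.1 h2.2 x⟩)
    rw [Subgroup.coe_mul, Subgroup.coe_inv, SubmonoidClass.coe_pow, map_mul, map_inv, map_pow] at h3
    exact (inv_mul_eq_one.1 h3).symm
  have hconj : n₀ * z₀ * n₀⁻¹ = ⁅⁅n₀ * e * n₀⁻¹, n₀ * b * n₀⁻¹⁆, n₀ * e * n₀⁻¹⁆ := by
    simp only [hz₀, commutatorElement_def]
    group
  rw [← hconj, hval2] at hval
  have hord : orderOf (σ z₀) = p := by
    refine orderOf_eq_prime ?_ fun h1 => hz₀1 ((QuotientGroup.eq_one_iff _).1 h1)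
    rw [← map_pow, hzp, map_one]
  have hmod : k % p = k * k * (k * k) * i % p := hord ▸ pow_eq_pow_iff_modEq.1 hval
  have hF6 : (6 : F) = 0 := by
    have hh : ((k : ℕ) : F) = ((k * k * (k * k) * i : ℕ) : F) :=
      (CharP.natCast_eq_natCast F p).2 hmod
    push_cast at hh
    rw [hkF] at hh
    have hrr : r * r = 1 := by rcases hr with rfl | rfl <;> ring
    have hsix : (6 : F) * r = 0 := by
      linear_combination -hh + (-8 * r ^ 4) * hiF + (-8 * r * (r * r + 1)) * hrr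
    rcases mul_eq_zero.1 hsix with h6 | h6
    · exact h6
    · exact absurd hrr (by rw [h6, mul_zero]; exact zero_ne_one)
  have h6 : ((6 : ℕ) : F) = 0 := by exact_mod_cast hF6
  rw [CharP.cast_eq_zero_iff F p] at h6
  have hp : p.Prime := Fact.out
  rcases hp.dvd_mul.1 (show p ∣ 2 * 3 from h6) with h7 | h7
  · exact absurd ((Nat.prime_dvd_prime_iff_eq hp Nat.prime_two).1 h7) (Mid.p_ne_two hD hM)
  · exact (Nat.prime_dvd_prime_iff_eq hp Nat.prime_three).1 h7

end Sit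

end CfsgLib.ClassK.Push
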