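import Cfsg.Agent.Lib.ClassK.PushPairEnd
import Cfsg.Agent.Lib.ClassK.PushThree

/-!
Finitely many groups in the pushing-up situation with the same Sylow subgroup, inside one symmetric
group where the Sylow subgroups coincide.
-/

set_option autoImplicit false
set_option linter.style.haveILetI false
set_option linter.unusedSectionVars false
set_option maxHeartbeats 1000000

universe u

namespace CfsgLib.ClassK.Push

open Subgroup
open scoped MatrixGroups Pointwise commutatorElement

/-- A group in the pushing-up situation with Sylow subgroup `S` in which `Z(S)` is not normal and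
`J(S)` leaves the kernel. -/
structure Emb (p : ℕ) [Fact p.Prime] (S : Type u) [Group S] where
  G : Type u
  [grp : Group G]
  [fin : Finite G]
  F : Type
  [fld : Field F]
  [fty : Fintype F]
  τ : S →* G
  inj : Function.Injective τ
  T : Sylow p G
  range : (T : Subgroup G) = τ.range
  M : Subgroup G
  φ : G →* Matrix.ProjectiveSpecialLinearGroup (Fin 2) F
  n : ℕ
  sit : Sit (F := F) T M φ n
  normalized : Normalized T φ
  thompson : ¬ Cfsg.thompsonSubgroupAOf (T : Subgroup G) ≤ φ.ker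
  V : Subgroup G
  datum : Datum p (T : Subgroup G) (Cfsg.pCore p G) V (p ^ n)

attribute [instance] Emb.grp Emb.fin Emb.fld Emb.fty

variable {p : ℕ} [Fact p.Prime] {S : Type u} [Group S]

/-- The same group, with `S` moved by an automorphism. -/
def Emb.twist (e : Emb p S) (α : MulAut S) : Emb p S where
  G := e.G
  F := e.F
  τ := e.τ.comp α.toMonoidHom
  inj := e.inj.comp α.injective
  T := e.T
  range := by rw [MonoidHom.range_comp, MonoidHom.range_eq_top.2 α.surjective, ← MonoidHom.range_eq_map, e.range]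
  M := e.M
  φ := e.φ
  n := e.n
  sit := e.sit
  normalized := e.normalized
  thompson := e.thompson
  V := e.V
  datum := e.datum

/-- An element inverting the module, centralizing `S` modulo `O_p`. -/
theorem exists_inverting {G : Type*} [Group G] [Finite G] {n : ℕ} {F : Type*} [Field F] [Fintype F]
    {T : Sylow p G} {M : Subgroup G} {φ : G →* Matrix.ProjectiveSpecialLinearGroup (Fin 2) F}
    (h : Sit (F := F) T M φ n) (hU : Normalized T φ) {V : Subgroup G}
    (hD : Datum p (T : Subgroup G) (Cfsg.pCore p G) V (p ^ n)) (hp : p ≠ 2) :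
    ∃ g : G, g ∈ normalizer ((T : Subgroup G) : Set G) ∧ (orderOf g).Coprime p ∧
      (∀ s ∈ (T : Subgroup G), ⁅s, g⁆ ∈ Cfsg.pCore p G) ∧
      ∀ v ∈ V, g * v * g⁻¹ * v ∈ center G := by
  classical
  obtain ⟨ρ, hρ, hnat, -⟩ := h.natural_module hU hD
  obtain ⟨g₀, hg₀⟩ := h.surj (QuotientGroup.mk' _ (wElt (F := F)))
  obtain ⟨z, hz, hzg⟩ : ∃ z ∈ center SL(2, F), ρ g₀ * z = wElt :=
    (QuotientGroup.mk'_eq_mk' _).1 ((hρ g₀).trans hg₀)
  obtain ⟨r, hr, hrz⟩ := Matrix.SpecialLinearGroup.mem_center_iff.1 hz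
  rw [Fintype.card_fin] at hr
  set x₀ := g₀ * g₀ with hx₀
  have hx₀M : (ρ x₀ : Matrix (Fin 2) (Fin 2) F) = -1 := by
    have hzz : z * z = 1 := by
      apply sl_ext
      rw [Matrix.SpecialLinearGroup.coe_mul, ← hrz, ← map_mul, ← pow_two, hr, map_one,
        Matrix.SpecialLinearGroup.coe_one]
    have hg : ρ g₀ = wElt * z := by rw [← hzg, mul_assoc, hzz, mul_one]
    have hc : wElt * z = z * wElt := mem_center_iff.1 hz _
    have e1 : ρ x₀ = wElt * wElt := by
      rw [hx₀, map_mul, hg, mul_assoc, ← mul_assoc z, ← hc, mul_assoc wElt z z, hzz, mul_one]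
    rw [e1, Matrix.SpecialLinearGroup.coe_mul, wElt_val]
    ext i j
    fin_cases i <;> fin_cases j <;> simp [Matrix.mul_apply, Fin.sum_univ_two]
  have hx₀c : ∀ y, ρ x₀ * y = y * ρ x₀ := fun y => sl_ext (by
    rw [Matrix.SpecialLinearGroup.coe_mul, Matrix.SpecialLinearGroup.coe_mul, hx₀M]
    simp)
  set H : Subgroup G := ρ.ker ⊔ (T : Subgroup G) with hH
  have hTH : (T : Subgroup G) ≤ H := le_sup_right
  have hcs : ((x₀ • T : Sylow p G) : Subgroup G) =
      (T : Subgroup G).map (MulAut.conj x₀).toMonoidHom := rfl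
  have hT'H : ((x₀ • T : Sylow p G) : Subgroup G) ≤ H := by
    rw [hcs]
    rintro _ ⟨s, hs, rfl⟩
    show x₀ * s * x₀⁻¹ ∈ H
    rw [show x₀ * s * x₀⁻¹ = x₀ * s * x₀⁻¹ * s⁻¹ * s by group]
    refine mul_mem (mem_sup_left (MonoidHom.mem_ker.2 ?_)) (hTH hs)
    rw [map_mul, map_mul, map_mul, map_inv, map_inv, hx₀c (ρ s)]
    group
  obtain ⟨m, hm⟩ := MulAction.exists_smul_eq H (T.subtype hTH) ((x₀ • T).subtype hT'H)
  obtain ⟨k, hk, t, ht, hkt⟩ := mem_sup_of_normal_left.1 (show (m : G) ∈ ρ.ker ⊔ (T : Subgroup G) from m.2)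
  have e : ∀ x : G, x ∈ (T : Subgroup G).map (MulAut.conj (m : G)).toMonoidHom →
      x ∈ (T : Subgroup G).map (MulAut.conj x₀).toMonoidHom := by
    rintro _ ⟨y, hy, rfl⟩
    have : m * ⟨y, hTH hy⟩ * m⁻¹ ∈ (((x₀ • T).subtype hT'H : Sylow p H) : Subgroup H) := by
      rw [← hm]
      exact ⟨⟨y, hTH hy⟩, hy, rfl⟩
    rw [Sylow.coe_subtype, Subgroup.mem_subgroupOf, hcs] at this
    exact this
  set g₁ := k⁻¹ * x₀ with hg₁
  have hg₁T : g₁ ∈ normalizer ((T : Subgroup G) : Set G) := by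
    refine CfsgLib.Comp.map_conj_eq_iff.1 ?_
    refine (eq_of_le_of_card_ge (fun x hx => ?_)
      (le_of_eq (card_map_of_injective (MulAut.conj g₁).injective))).symm
    have h1 : t⁻¹ * x * t ∈ (T : Subgroup G) := mul_mem (mul_mem (inv_mem ht) hx) ht
    obtain ⟨y, hy, hyx⟩ := e _ (mem_map_of_mem (MulAut.conj (m : G)).toMonoidHom h1)
    refine ⟨y, hy, ?_⟩
    have hyx' : x₀ * y * x₀⁻¹ = (m : G) * (t⁻¹ * x * t) * (m : G)⁻¹ := hyx
    show g₁ * y * g₁⁻¹ = x
    rw [show g₁ * y * g₁⁻¹ = k⁻¹ * (x₀ * y * x₀⁻¹) * k by rw [hg₁]; group, hyx', ← hkt]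
    group
  have hg₁ρ : ρ g₁ = ρ x₀ := by
    rw [hg₁, map_mul, map_inv, MonoidHom.mem_ker.1 hk, inv_one, one_mul]
  set a := p ^ (orderOf g₁).factorization p with ha
  have hpa : Odd a := ((Fact.out : p.Prime).odd_of_ne_two hp).pow
  refine ⟨g₁ ^ a, pow_mem hg₁T a, ?_, ?_, ?_⟩
  · rw [orderOf_pow, Nat.gcd_eq_right (Nat.ordProj_dvd _ _)]
    exact (Nat.coprime_ordCompl Fact.out (orderOf_pos g₁).ne').symm
  · intro s hs
    have hsS : ⁅s, g₁ ^ a⁆ ∈ (T : Subgroup G) := by
      rw [mul_inv_mem_of_commutatorElement]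
      exact mul_mem hs ((mem_normalizer_iff.1 (pow_mem hg₁T a) _).1 (inv_mem hs))
    refine (h.mem_pCore_iff hsS).2 ?_
    rw [← hρ, map_commutatorElement ρ, map_pow, hg₁ρ,
      commutatorElement_eq_one_iff_commute.2 ((show Commute (ρ x₀) (ρ s) from hx₀c _).pow_left a).symm,
      map_one]
  · intro v hv
    haveI := hD.V_normal
    obtain ⟨θ, -, hθk, hθe⟩ := hnat.rep
    set x := g₁ ^ a
    have hxv : x * v * x⁻¹ ∈ V := hD.V_normal.conj_mem v hv x
    have hmat : (ρ x : Matrix (Fin 2) (Fin 2) F) = -1 := by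
      rw [map_pow, hg₁ρ, Matrix.SpecialLinearGroup.coe_pow, hx₀M, hpa.neg_one_pow]
    have h1 : θ (⟨_, hxv⟩ * ⟨v, hv⟩) = 1 := Multiplicative.toAdd.injective (by
      rw [map_mul, toAdd_mul, hθe x ⟨v, hv⟩ ⟨_, hxv⟩ rfl, hmat, Matrix.neg_mulVec, Matrix.one_mulVec,
        toAdd_one, neg_add_cancel])
    rw [← MonoidHom.mem_ker, hθk, mem_subgroupOf] at h1
    exact h1.2

section Ambient

variable [Finite S] {ι : Type u} [Finite ι] (e : ι → Emb p S)

/-- A right transversal of `S` in the group with the given index. -/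
noncomputable def embT (i : ι) : Set (e i).G := ((e i).T : Subgroup (e i).G).exists_isComplement_right 1 |>.choose

theorem embT_spec (i : ι) : IsComplement (((e i).T : Subgroup (e i).G) : Set (e i).G) (embT e i) :=
  (((e i).T : Subgroup (e i).G).exists_isComplement_right 1).choose_spec.1

/-- The set the ambient symmetric group acts on. -/
abbrev AmbSet : Type u := S × ∀ i, embT e i

/-- The coordinates of `G_i` times the other transversals. -/
noncomputable def ambEquiv (i : ι) :
    letI := Classical.decEq ι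
    (e i).G × (∀ j : {j // j ≠ i}, embT e j) ≃ AmbSet e :=
  letI := Classical.decEq ι
  ((Equiv.prodCongr ((embT_spec e i).equiv.trans (Equiv.prodCongr
    ((MulEquiv.subgroupCongr (e i).range).trans (MonoidHom.ofInjective (e i).inj).symm).toEquiv
      (Equiv.refl _))) (Equiv.refl _)).trans (Equiv.prodAssoc _ _ _)).trans
    (Equiv.prodCongr (Equiv.refl S) (Equiv.piSplitAt i fun j => embT e j).symm)

/-- The ambient action of `G_i`. -/
noncomputable def ψ (i : ι) : (e i).G →* Equiv.Perm (AmbSet e) :=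
  letI := Classical.decEq ι
  { toFun := fun g => (ambEquiv e i).symm.trans
      ((Equiv.prodCongr (Equiv.mulLeft g) (Equiv.refl _)).trans (ambEquiv e i))
    map_one' := Equiv.ext fun x => by simp
    map_mul' := fun g g' => Equiv.ext fun x => by simp [mul_assoc, Prod.map_map, Function.comp_def] }

/-- The ambient action of `S`. -/
def σS : S →* Equiv.Perm (AmbSet e) where
  toFun s := Equiv.prodCongr (Equiv.mulLeft s) (Equiv.refl _)
  map_one' := Equiv.ext fun x => by simp
  map_mul' s s' := Equiv.ext fun x => by simp [mul_assoc, Prod.map_map, Function.comp_def]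

theorem σS_injective : Function.Injective (σS e) := fun s s' h => by
  have := congrArg Prod.fst (Equiv.congr_fun h ((1 : S), fun i => ⟨_, (embT_spec e i).equiv 1 |>.2.2⟩))
  simpa [σS] using this

theorem ψ_injective (i : ι) : Function.Injective (ψ e i) := fun g g' h => by
  classical
  have := congrArg (ambEquiv e i).symm (Equiv.congr_fun h (ambEquiv e i
    ((1 : (e i).G), fun j => ⟨_, ((embT_spec e j).equiv 1).2.2⟩)))
  simpa [ψ] using congrArg Prod.fst this

theorem ψ_τ (i : ι) (s : S) : ψ e i ((e i).τ s) = σS e s := by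
  classical
  refine Equiv.ext fun y => ?_
  obtain ⟨⟨x, r⟩, rfl⟩ := (ambEquiv e i).surjective y
  have h1 : (e i).τ s ∈ ((e i).T : Subgroup (e i).G) := by rw [(e i).range]; exact ⟨s, rfl⟩
  have h2 : ((MulEquiv.subgroupCongr (e i).range).trans (MonoidHom.ofInjective (e i).inj).symm)
      ⟨_, h1⟩ = s := by
    rw [MulEquiv.trans_apply, MulEquiv.symm_apply_eq]
    exact Subtype.ext rfl
  have h3 := (embT_spec e i).equiv_mul_left_of_mem (g := x) h1
  simp only [ψ, σS, MonoidHom.coe_mk, OneHom.coe_mk, Equiv.trans_apply, Equiv.symm_apply_apply]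
  simp only [ambEquiv, Equiv.trans_apply,
    Equiv.prodCongr_apply, Prod.map, Equiv.coe_mulLeft, Equiv.refl_apply, Equiv.prodAssoc_apply, h3,
    MulEquiv.toEquiv_eq_coe, EquivLike.coe_coe, map_mul, h2]

theorem map_ψ_T (i : ι) : ((e i).T : Subgroup (e i).G).map (ψ e i) = (σS e).range := by
  rw [(e i).range, MonoidHom.range_eq_map, Subgroup.map_map, MonoidHom.range_eq_map]
  congr 1
  exact MonoidHom.ext (ψ_τ e i)

theorem map_cj (i : ι) (x : (e i).G) (H : Subgroup (e i).G) :
    (cj x H).map (ψ e i) = cj (ψ e i x) (H.map (ψ e i)) := by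
  rw [cj, cj, Subgroup.map_map, Subgroup.map_map]
  congr 1
  refine MonoidHom.ext fun y => ?_
  show ψ e i (x * y * x⁻¹) = ψ e i x * ψ e i y * (ψ e i x)⁻¹
  simp

theorem zOf_σS (i : ι) : zOf (σS e).range = (zOf ((e i).T : Subgroup (e i).G)).map (ψ e i) := by
  rw [← map_ψ_T e i]
  exact (map_inf_centralizer (ψ_injective e i) _).symm

theorem range_ψ_le_normalizer (i : ι) {H : Subgroup (e i).G} [H.Normal] :
    (ψ e i).range ≤ normalizer (H.map (ψ e i) : Set (Equiv.Perm (AmbSet e))) := by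
  rintro _ ⟨x, rfl⟩
  refine CfsgLib.Comp.map_conj_eq_iff.1 ?_
  change cj (ψ e i x) _ = _
  rw [← map_cj, cj_eq_self (show x ∈ normalizer (H : Set (e i).G) by rw [normalizer_eq_top]; trivial)]

/-- The family inside the ambient group. -/
noncomputable def ambFam : Fam (Equiv.Perm (AmbSet e)) ι p (fun i => p ^ (e i).n) where
  S := (σS e).range
  G i := (ψ e i).range
  Q i := (Cfsg.pCore p (e i).G).map (ψ e i)
  V i := (e i).V.map (ψ e i)
  one_lt i := (e i).datum.one_lt
  S_le i := (map_ψ_T e i).ge.trans (map_le_range _ _)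
  Q_le i := (map_mono (e i).datum.Q_le).trans (map_ψ_T e i).le
  Q_norm i := by haveI := (e i).datum.Q_normal; exact range_ψ_le_normalizer e i
  V_norm i := by haveI := (e i).datum.V_normal; exact range_ψ_le_normalizer e i
  V_le i := map_mono (e i).datum.V_le
  V_cent i := by
    rintro _ ⟨v, hv, rfl⟩ _ ⟨w, hw, rfl⟩
    rw [← map_mul, ← map_mul, (e i).datum.V_cent hv w hw]
  exp i := by
    rintro _ ⟨v, hv, rfl⟩
    rw [← map_pow, (e i).datum.exp v hv, map_one]
  center_le i := (zOf_σS e i).le.trans (map_mono (e i).datum.center_le)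
  fix i := by
    intro a ha haQ
    rintro _ ⟨⟨v, hv, rfl⟩, hva⟩
    obtain ⟨a₀, ha₀, rfl⟩ := (map_ψ_T e i).ge ha
    refine (zOf_σS e i).ge (mem_map_of_mem _ ((e i).datum.fix a₀ ha₀
      (fun e' => haQ (mem_map_of_mem _ e')) ⟨hv, mem_centralizer_singleton_iff.2 ?_⟩))
    refine ψ_injective e i ?_
    rw [map_mul, map_mul]
    exact mem_centralizer_singleton_iff.1 hva
  comm_mem i := by
    rintro _ ⟨v, hv, rfl⟩ a ha
    obtain ⟨a₀, ha₀, rfl⟩ := (map_ψ_T e i).ge ha
    rw [← map_commutatorElement]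
    exact (zOf_σS e i).ge (mem_map_of_mem _ ((e i).datum.comm_mem v hv a₀ ha₀))
  comm_fix i := by
    rintro _ ⟨v, hv, rfl⟩ a ha hc
    obtain ⟨a₀, ha₀, rfl⟩ := (map_ψ_T e i).ge ha
    rw [← map_commutatorElement] at hc ⊢
    rw [(e i).datum.comm_fix v hv a₀ ha₀ (mem_center_iff.2 fun g => ψ_injective e i (by
      rw [map_mul, map_mul]; exact hc _ ⟨g, rfl⟩)), map_one]
  relV i := by
    rw [zOf_σS e i, relIndex_map_map_of_injective _ _ (ψ_injective e i), (e i).datum.relV]
  relQ i := by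
    rw [← map_ψ_T e i, relIndex_map_map_of_injective _ _ (ψ_injective e i), (e i).datum.relQ]
  gen i := by
    rintro _ ⟨x, rfl⟩ hne a ha haQ
    rw [← map_ψ_T e i, ← map_cj] at ha
    rw [zOf_σS e i, ← map_cj] at hne
    obtain ⟨a₀, ha₀, rfl⟩ := ha
    rw [← map_ψ_T e i, ← MonoidHom.map_zpowers, ← Subgroup.map_sup,
      (e i).datum.gen x (fun e' => hne (congrArg (Subgroup.map _) e')) a₀ ha₀
        (fun e' => haQ (mem_map_of_mem _ e')), MonoidHom.range_eq_map]
  opp i := by
    obtain ⟨x, hx⟩ := (e i).datum.opp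
    refine ⟨ψ e i x, ⟨x, rfl⟩, ?_⟩
    rw [zOf_σS e i, ← map_cj]
    exact fun e' => hx (map_injective (ψ_injective e i) e')

theorem ambFam_ext (hS : IsPGroup p S) : (ambFam e).Ext where
  pgroup := hS.of_surjective (σS e).rangeRestrict (σS e).rangeRestrict_surjective
  off i := by
    have hinj := ψ_injective e i
    obtain ⟨A, hA, hAK⟩ : ∃ A ∈ PLocal.maxAbIn ((e i).T : Subgroup (e i).G), ¬ A ≤ (e i).φ.ker := by
      by_contra hcon
      simp only [not_exists, not_and, not_not] at hcon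
      exact (e i).thompson ((PLocal.thompsonAOf_eq _).le.trans (sSup_le hcon))
    refine ⟨A.map (ψ e i), (map_mono hA.1).trans (map_ψ_T e i).le, ?_, fun B hB hBab => ?_, fun hle => ?_⟩
    · rintro _ ⟨a, ha, rfl⟩ _ ⟨b, hb, rfl⟩
      rw [← map_mul, ← map_mul, PLocal.comm_of_isMulCommutative hA.2.1 hb ha]
    · have hB' : B ≤ (ψ e i).range := hB.trans ((map_ψ_T e i).ge.trans (map_le_range _ _))
      rw [card_map_of_injective hinj, ← map_comap_eq_self hB', card_map_of_injective hinj]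
      refine hA.2.2 _ (fun x hx => ?_) (le_centralizer_iff_isMulCommutative.1 fun x hx y hy => hinj ?_)
      · obtain ⟨y, hy, hxy⟩ := (map_ψ_T e i).ge (hB hx)
        exact hinj hxy ▸ hy
      · rw [map_mul, map_mul]; exact hBab hx _ hy
    · exact hAK (fun a ha => (e i).sit.pCore_le_ker (by
        obtain ⟨b, hb, hba⟩ := hle (mem_map_of_mem _ ha)
        exact hinj hba ▸ hb))
  comm_Q i := commutator_le.2 fun x hx y hy => by
    obtain ⟨x, hx', rfl⟩ := (map_ψ_T e i).ge hx
    obtain ⟨y, hy', rfl⟩ := (map_ψ_T e i).ge hy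
    rw [← map_commutatorElement]
    exact mem_map_of_mem _ ((e i).sit.toPre.commutatorElement_mem_pCore hx' hy')
  inv hp i := by
    obtain ⟨g, hgT, hgo, hgc, hgv⟩ := exists_inverting (e i).sit (e i).normalized (e i).datum hp
    refine ⟨ψ e i g, ⟨g, rfl⟩, ?_, ?_, ?_, ?_⟩
    · refine CfsgLib.Comp.map_conj_eq_iff.1 ?_
      show cj _ (σS e).range = (σS e).range
      rw [← map_ψ_T e i, ← map_cj, cj_eq_self hgT]
    · rwa [orderOf_injective _ (ψ_injective e i) g]
    · intro s hs
      obtain ⟨s, hs', rfl⟩ := (map_ψ_T e i).ge hs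
      rw [← map_commutatorElement]
      exact mem_map_of_mem _ (hgc s hs')
    · rintro _ ⟨v, hv, rfl⟩ _ ⟨y, rfl⟩
      rw [← map_inv, ← map_mul, ← map_mul, ← map_mul, ← map_mul, ← map_mul,
        mem_center_iff.1 (hgv v hv) y]

end Ambient

end CfsgLib.ClassK.Push
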