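import Cfsg.Agent.Lib.ClassK.PushPairCrit
import Cfsg.Agent.Lib.Solvable.Nilpotent

/-!
A pair of characteristic subgroups of a `p`-group, one of which is normal in every group in the
pushing-up situation.
-/

set_option autoImplicit false
set_option linter.style.haveILetI false
set_option linter.unusedSectionVars false
set_option maxHeartbeats 1000000

universe u

namespace CfsgLib.ClassK.Push

open Subgroup
open scoped MatrixGroups Pointwise commutatorElement

theorem center_le_thompson (S : Type*) [Group S] [Finite S] : center S ≤ Cfsg.thompsonSubgroupA S := by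
  obtain ⟨A, hA⟩ := CfsgLib.PLocal.exists_maxAbIn (⊤ : Subgroup S)
  have hA' : A ∈ Cfsg.maxAbelianSubgroups S := ⟨hA.2.1, fun B hB => hA.2.2 B le_top hB⟩
  exact fun z hz => le_sSup hA' (CfsgLib.PLocal.mem_maxAbIn_of_centralizes hA (mem_top z)
    fun a _ => mem_center_iff.1 hz a)

/-- Splittings outside `J` have a common nontrivial fixed part. -/
theorem common_fixed_ne_bot {S : Type*} [Group S] [Finite S] {κ : Type*} [Finite κ] (D : κ → Subgroup S)
    (hD : ∀ i, ∃ U R : Subgroup S, U ≤ Cfsg.thompsonSubgroupA S ∧ R ≤ centralizer (U : Set S) ∧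
      U ⊔ R = ⊤ ∧ ⁅R, R⁆ ≤ D i) (hJ : Cfsg.thompsonSubgroupA S ≠ ⊤) : (⨅ i, D i) ≠ ⊥ := by
  classical
  haveI := Fintype.ofFinite κ
  set J := Cfsg.thompsonSubgroupA S
  have key : ∀ s : Finset κ, ∃ w, w ∉ J ∧ ∀ x : S, ∀ i ∈ s, ⁅w, x⁆ ∈ D i := by
    intro s
    induction s using Finset.induction with
    | empty =>
      obtain ⟨w, -, hw⟩ := SetLike.exists_of_lt (lt_top_iff_ne_top.2 hJ)
      exact ⟨w, hw, fun _ i hi => absurd hi (Finset.notMem_empty i)⟩
    | insert j s hj ih =>
      obtain ⟨w, hw, hws⟩ := ih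
      obtain ⟨U, R, hUJ, hRU, hUR, hRR⟩ := hD j
      have hn : R ≤ normalizer (U : Set S) := hRU.trans (centralizer_le_normalizer _)
      obtain ⟨u, hu, r, hr, hwur⟩ := CfsgLib.Comp.exists_mul_of_mem_sup hn (hUR ▸ mem_top w)
      refine ⟨r, fun hrJ => hw (hwur ▸ mul_mem (hUJ hu) hrJ), fun x i hi => ?_⟩
      obtain ⟨u', hu', r', hr', rfl⟩ := CfsgLib.Comp.exists_mul_of_mem_sup hn (hUR ▸ mem_top x)
      have hc : ∀ {v y : S}, v ∈ U → y ∈ R → Commute v y := fun hv hy => hRU hy _ hv
      have hm : ⁅r, r'⁆ ∈ R := commutator_le_self R (commutator_mem_commutator hr hr')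
      have e1 : ⁅r, u' * r'⁆ = ⁅r, r'⁆ := by
        rw [commutatorElement_mul_right', commutatorElement_eq_one_iff_commute.2 (hc hu' hr).symm,
          one_mul, (hc hu' hm).eq, mul_inv_cancel_right]
      have e2 : ⁅w, r'⁆ = ⁅r, r'⁆ := by
        rw [← hwur, commutatorElement_mul_left', commutatorElement_eq_one_iff_commute.2 (hc hu hr'),
          mul_one, (hc hu hm).eq, mul_inv_cancel_right]
      rw [e1]
      rcases Finset.mem_insert.1 hi with rfl | hi
      · exact hRR (commutator_mem_commutator hr hr')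
      · exact e2 ▸ hws r' i hi
  intro hb
  obtain ⟨w, hw, hws⟩ := key Finset.univ
  refine hw (center_le_thompson S (mem_center_iff.2 fun x => ?_))
  have h1 : ⁅w, x⁆ ∈ ⨅ i, D i := mem_iInf.2 fun i => hws x i (Finset.mem_univ i)
  rw [hb, mem_bot, commutatorElement_eq_one_iff_mul_comm] at h1
  exact h1.symm

namespace Fam

variable {P : Type*} [Group P] [Finite P] {ι : Type*} {p : ℕ} {q : ι → ℕ} {D : Fam P ι p q}

theorem Sv_one : D.Sv 1 = D.S := cj_eq_self (one_mem _)

/-- Connected to a base vertex. -/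
def Conn (D : Fam P ι p q) (v : ι × P) : Prop :=
  ∃ (i : ι) (m : ℕ) (f : ℕ → ι × P) (e : ℕ → P), D.Path f e m ∧ f 0 = v ∧ f m = (i, 1)

theorem Conn.base {v : ι × P} (h : D.Conn v) (j : ι) :
    ∃ (m : ℕ) (f : ℕ → ι × P) (e : ℕ → P), D.Path f e m ∧ f 0 = v ∧ f m = (j, 1) := by
  obtain ⟨i, m, f, e, hp, h0, hm⟩ := h
  refine ⟨m + 1, fun l => if l ≤ m then f l else (j, 1), fun l => if l < m then e l else 1, ?_, ?_, ?_⟩
  · intro l hl
    by_cases h : l < m
    · simpa [h, h.le, show l + 1 ≤ m by omega] using hp l h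
    · obtain rfl : l = m := by omega
      simp [hm, In, one_mem]
  · simp [h0]
  · simp

theorem Conn.translate {v : ι × P} (h : D.Conn v) {i : ι} {g : P} (hg : g ∈ D.G i) :
    D.Conn (v.1, g * v.2) := by
  obtain ⟨m, f, e, hp, h0, hm⟩ := h.base i
  refine ⟨i, m + 1, fun l => if l ≤ m then ((f l).1, g * (f l).2) else (i, 1),
    fun l => if l < m then g * e l else g, ?_, by simp [h0], by simp⟩
  intro l hl
  by_cases h : l < m
  · obtain ⟨h1, h2⟩ := hp l h
    simpa [h, h.le, show l + 1 ≤ m by omega] using ⟨In_translate g h1, In_translate g h2⟩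
  · obtain rfl : l = m := by omega
    simpa [hm, In, one_mem] using hg

/-- The join of the connected modules. -/
def connSup (D : Fam P ι p q) : Subgroup P := ⨆ v : {v : ι × P // D.Conn v}, D.Vv v.1

theorem le_connSup {v : ι × P} (h : D.Conn v) : D.Vv v ≤ D.connSup :=
  le_iSup (fun v : {v : ι × P // D.Conn v} => D.Vv v.1) ⟨v, h⟩

theorem connSup_normal (i : ι) : D.G i ≤ normalizer (D.connSup : Set P) := fun g hg => by
  refine CfsgLib.Comp.map_conj_eq_iff.1 (eq_of_le_of_card_ge ?_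
    (card_map_of_injective (MulAut.conj g).injective).ge)
  rw [connSup, Subgroup.map_iSup]
  refine iSup_le fun v => ?_
  show cj g (D.Vv v.1) ≤ _
  rw [← Vv_translate]
  exact le_connSup (v.2.translate hg)

variable (hB : ∀ b, D.Below b)
include hB

theorem connSup_le (i : ι) : D.connSup ≤ D.Q i := iSup_le fun v => by
  obtain ⟨m, f, e, hp, h0, hm⟩ := v.2.base i
  have := (hB (m + 1)).le_Qv m (by omega) hp
  rw [h0, hm] at this
  rwa [show D.Qv (i, 1) = D.Q i from cj_eq_self (one_mem _)] at this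

theorem connSup_le_S : D.connSup ≤ D.S := iSup_le fun v => by
  obtain ⟨i, -⟩ := v.2
  exact (le_connSup v.2).trans ((connSup_le hB i).trans (D.Q_le i))

theorem connSup_comm : D.connSup ≤ centralizer (D.connSup : Set P) := iSup_le fun v =>
  le_centralizer_iff.1 (iSup_le fun w => by
    obtain ⟨i, m, f, e, hp, h0, hm⟩ := w.2
    obtain ⟨m', f', e', hp', h0', hm'⟩ := v.2.base i
    have hpath : D.Path (fun l => if l ≤ m then f l else f' (m + m' - l))
        (fun l => if l < m then e l else e' (m + m' - l - 1)) (m + m') := by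
      intro l hl
      have hf : ∀ r, m ≤ r → r ≤ m + m' → (if r ≤ m then f r else f' (m + m' - r)) = f' (m + m' - r) := by
        intro r hr hr'
        split_ifs with hh
        · obtain rfl : r = m := by omega
          rw [hm, show r + m' - r = m' by omega, hm']
        · rfl
      by_cases h : l < m
      · simpa [h, h.le, show l + 1 ≤ m by omega] using hp l h
      · obtain ⟨h1, h2⟩ := hp' (m + m' - l - 1) (by omega)
        rw [show m + m' - l - 1 + 1 = m + m' - l by omega] at h2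
        simp only [if_neg h]
        rw [hf l (by omega) (by omega), hf (l + 1) (by omega) (by omega),
          show m + m' - (l + 1) = m + m' - l - 1 by omega]
        exact ⟨h2, h1⟩
    have h3 := hB (m + m' + 1) (m + m') (by omega) _ _ hpath
    have hend : (if m + m' ≤ m then f (m + m') else f' (m + m' - (m + m'))) = v.1 := by
      split_ifs with hh
      · obtain rfl : m' = 0 := by omega
        rw [Nat.add_zero, hm, ← hm', h0']
      · rw [Nat.sub_self, h0']
    simp only [Nat.zero_le, if_true, h0, hend] at h3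
    exact h3)

/-- Some abelian subgroup of largest order fixes all connected modules. -/
theorem exists_maxAb_centralizes : ∃ A ∈ PLocal.maxAbIn D.S, A ≤ centralizer (D.connSup : Set P) := by
  classical
  set X := D.connSup with hX
  obtain ⟨A, hA, hAmax⟩ := Set.exists_max_image (PLocal.maxAbIn D.S)
    (fun A => Nat.card ↥(A ⊓ X)) (Set.toFinite _) (PLocal.exists_maxAbIn _)
  refine ⟨A, hA, ?_⟩
  have hAc : A ≤ centralizer (A : Set P) := le_centralizer_iff_isMulCommutative.2 hA.2.1
  have hXc : X ≤ centralizer (X : Set P) := connSup_comm hB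
  let Mem : ι × P → P → Prop := fun w k => D.In w k ∧ D.Conn w ∧ A ≤ D.Sv k
  set U : Subgroup P := ⨆ w : {wk : (ι × P) × P // Mem wk.1 wk.2}, D.Vv w.1.1 with hU
  have hUX : U ≤ X := iSup_le fun w => le_connSup w.2.2.1
  have hUc : U ≤ centralizer (U : Set P) := (hUX.trans hXc).trans (centralizer_le hUX)
  have hUS : U ≤ D.S := hUX.trans (connSup_le_S hB)
  obtain ⟨hcount, -⟩ := count hUc Mem (fun w k h => h.1)
    (fun w k h => le_iSup (fun w : {wk : (ι × P) × P // Mem wk.1 wk.2} => D.Vv w.1.1) ⟨(w, k), h⟩)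
    (fun B _ hB' => le_centralizer_iff.1 (iSup_le fun w =>
      le_centralizer_iff.1 (hB' _ _ w.2)))
    (Nat.card A) A le_rfl (fun w k h => h.2.2)
  set A0 := A ⊓ centralizer (U : Set P) with hA0
  set U0 := U ⊓ centralizer (A : Set P) with hU0
  have hUA : U0 = U ⊓ A := le_antisymm
    (fun x hx => ⟨hx.1, PLocal.mem_maxAbIn_of_centralizes hA (hUS hx.1) hx.2⟩) (inf_le_inf_left _ hAc)
  have hU0A0 : U0 ≤ A0 := le_inf (hUA.le.trans inf_le_right) (inf_le_left.trans hUc)
  set A' := A0 ⊔ U with hA'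
  have hA'c : A' ≤ centralizer (A' : Set P) := sup_le
    (fun x hx => mem_centralizer_sup (fun y hy => hAc hx.1 y hy.1) hx.2)
    (fun x hx => mem_centralizer_sup (fun y hy => (hy.2 x hx).symm) (hUc hx))
  have h2 : U.relIndex A' = U0.relIndex A0 := by
    rw [hA', sup_comm, relIndex_sup_of_le_normalizer
      (fun x hx => centralizer_le_normalizer _ (inf_le_right (a := A) hx)), ← inf_relIndex_right]
    congr 1
    exact le_antisymm (fun x hx => hUA.ge ⟨hx.1, hx.2.1⟩) (le_inf inf_le_left hU0A0)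
  have hA'mem : A' ∈ PLocal.maxAbIn D.S := by
    refine ⟨sup_le (inf_le_left.trans hA.1) hUS, le_centralizer_iff_isMulCommutative.1 hA'c,
      fun C hC hCc => (hA.2.2 C hC hCc).trans ?_⟩
    rw [card_eq_mul (inf_le_left : A0 ≤ A), card_eq_mul hU0A0,
      card_eq_mul (le_sup_right : U ≤ A'), h2, card_eq_mul (inf_le_left : U0 ≤ U)]
    calc _ ≤ Nat.card U0 * U0.relIndex A0 * U0.relIndex U := Nat.mul_le_mul_left _ hcount
      _ = _ := by ring
  have hsub : A ⊓ X ≤ A' ⊓ X := le_inf ((show A ⊓ X ≤ A0 from le_inf inf_le_left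
    (inf_le_right.trans (hXc.trans (centralizer_le hUX)))).trans le_sup_left) inf_le_right
  have heq : A ⊓ X = A' ⊓ X := eq_of_le_of_card_ge hsub (hAmax A' hA'mem)
  have hUle : U ≤ A := (le_inf (le_sup_right : U ≤ A') hUX).trans (heq.ge.trans inf_le_left)
  have hcomm : ∀ w k, Mem w k → ∀ x ∈ D.Vv w, ∀ a ∈ A, x * a = a * x := fun w k h x hx a ha =>
    hAc ha x (hUle ((le_iSup (fun w : {wk : (ι × P) × P // Mem wk.1 wk.2} => D.Vv w.1.1) ⟨(w, k), h⟩) hx))
  refine le_centralizer_iff.1 (iSup_le fun v => ?_)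
  obtain ⟨i, m, f, e, hp, h0, hm⟩ := v.2
  have hconn : ∀ j, j ≤ m → D.Conn (f j) := fun j hj => ⟨i, m - j, fun l => f (j + l), fun l => e (j + l),
    fun l hl => hp (j + l) (by omega), by simp, by simpa [show j + (m - j) = m by omega] using hm⟩
  have key : ∀ r, r ≤ m → A ≤ D.Qv (f (m - r)) ∧ D.Vv (f (m - r)) ≤ centralizer (A : Set P) := by
    intro r
    induction r with
    | zero =>
      intro _
      have hin : D.In (f m) 1 := by simp [hm, In, one_mem]
      have hmem : Mem (f m) 1 := ⟨hin, hconn m le_rfl, by rw [Sv_one]; exact hA.1⟩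
      rw [Nat.sub_zero]
      refine ⟨fun a ha => mem_Qv_of_commute hin (hmem.2.2 ha) fun x hx => hcomm _ _ hmem x hx a ha,
        fun x hx a ha => (hcomm _ _ hmem x hx a ha).symm⟩
    | succ r ih =>
      intro hr
      obtain ⟨h1, -⟩ := ih (by omega)
      obtain ⟨hj0, hj1⟩ := hp (m - (r + 1)) (by omega)
      rw [show m - (r + 1) + 1 = m - r by omega] at hj1
      have hmem : Mem (f (m - (r + 1))) (e (m - (r + 1))) :=
        ⟨hj0, hconn _ (by omega), h1.trans (Qv_le hj1)⟩
      exact ⟨fun a ha => mem_Qv_of_commute hj0 (hmem.2.2 ha) fun x hx => hcomm _ _ hmem x hx a ha,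
        fun x hx a ha => (hcomm _ _ hmem x hx a ha).symm⟩
  have := (key m le_rfl).2
  rwa [Nat.sub_self, h0] at this

end Fam

variable {p : ℕ} [Fact p.Prime] {S : Type u} [Group S] [Finite S]

/-- A family without good groups has a common normal subgroup with a large abelian subgroup. -/
theorem exists_normal_of_bad (hS : IsPGroup p S) {ι : Type u} [Finite ι] (e : ι → Emb p S)
    (hbad : ∀ i, ¬ (e i).Good) : ∃ Y : Subgroup S, (∃ A ∈ Cfsg.maxAbelianSubgroups S, A ≤ Y) ∧
      ∀ i, (Y.map (e i).τ).Normal := by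
  classical
  set D := ambFam e
  have hB : ∀ b, D.Below b := below_of_not_good e hS hbad
  set X := D.connSup
  refine ⟨(centralizer (X : Set (Equiv.Perm (AmbSet e)))).comap (σS e), ?_, fun i => ?_⟩
  · obtain ⟨A, hA, hAX⟩ := Fam.exists_maxAb_centralizes hB
    have hAr : A ≤ (σS e).range := hA.1
    refine ⟨A.comap (σS e), ⟨?_, fun B hB' => ?_⟩, comap_mono hAX⟩
    · exact le_centralizer_iff_isMulCommutative.1 fun x hx y hy => σS_injective e (by
        rw [map_mul, map_mul, PLocal.comm_of_isMulCommutative hA.2.1 hy hx])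
    · rw [← card_map_of_injective (σS_injective e) (K := B),
        ← card_map_of_injective (σS_injective e) (K := A.comap _), map_comap_eq_self hAr]
      exact hA.2.2 _ (map_le_range _ _) (PLocal.isMulCommutative_map _ hB')
  · have hXG := Fam.connSup_normal (D := D) i
    have hVX : D.V i ≤ X := by
      have hc : D.Conn (i, 1) := ⟨i, 0, fun _ => (i, 1), fun _ => 1, fun l hl => absurd hl (by omega), rfl, rfl⟩
      exact (cj_eq_self (one_mem _)).ge.trans (Fam.le_connSup hc)
    have hin : D.In (i, 1) 1 := by simp [Fam.In, one_mem]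
    refine ⟨fun x hx g => ?_⟩
    obtain ⟨y, hy, rfl⟩ := hx
    have hyQ : σS e y ∈ D.Q i := by
      have h1 : σS e y ∈ D.Qv (i, 1) := Fam.mem_Qv_of_commute hin
        (by rw [Fam.Sv_one]; exact ⟨y, rfl⟩)
        fun w hw => hy w (hVX (by rwa [show D.Vv (i, 1) = D.V i from cj_eq_self (one_mem _)] at hw))
      rwa [show D.Qv (i, 1) = D.Q i from cj_eq_self (one_mem _)] at h1
    have hgG : ψ e i g ∈ D.G i := ⟨g, rfl⟩
    have h2 : ψ e i (g * (e i).τ y * g⁻¹) ∈ D.Q i := by
      rw [map_mul, map_mul, map_inv, ψ_τ]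
      exact (mem_normalizer_iff.1 (D.Q_norm i hgG) _).1 hyQ
    have h3 : ψ e i (g * (e i).τ y * g⁻¹) ∈ centralizer (X : Set (Equiv.Perm (AmbSet e))) := by
      rw [map_mul, map_mul, map_inv, ψ_τ]
      exact (mem_normalizer_iff.1 (CfsgLib.Comp.le_normalizer_centralizer hXG hgG) _).1 hy
    obtain ⟨z, hz⟩ := D.Q_le i h2
    refine ⟨z, ?_, ψ_injective e i (by rw [ψ_τ]; exact hz)⟩
    show σS e z ∈ centralizer (X : Set (Equiv.Perm (AmbSet e)))
    rw [hz]; exact h3

/-- Being embedded in the pushing-up situation. -/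
def PushHyp (p : ℕ) [Fact p.Prime] {S : Type u} [Group S] (G : Type u) [Group G] [Finite G]
    (τ : S →* G) : Prop :=
  Function.Injective τ ∧ (∃ P : Sylow p G, (P : Subgroup G) = τ.range) ∧
    centralizer (Cfsg.pCore p G : Set G) ≤ Cfsg.pCore p G ∧
    (∃! M : Subgroup G, IsCoatom M ∧ τ.range ≤ M) ∧
    ∃ (K : Subgroup G) (_ : K.Normal) (F : Type) (_ : Field F) (_ : Fintype F) (n : ℕ),
      Fintype.card F = p ^ n ∧ Nonempty (G ⧸ K ≃* Matrix.ProjectiveSpecialLinearGroup (Fin 2) F)

theorem map_center_eq {G : Type u} [Group G] {τ : S →* G} (hτ : Function.Injective τ)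
    {T : Subgroup G} (hT : T = τ.range) : (center S).map τ = zOf T := by
  have hc : center S = (⊤ : Subgroup S) ⊓ centralizer ((⊤ : Subgroup S) : Set S) :=
    le_antisymm (le_inf le_top fun z hz x _ => mem_center_iff.1 hz x)
      fun z hz => mem_center_iff.2 fun x => hz.2 x (mem_top x)
  rw [hc, map_inf_centralizer hτ, ← MonoidHom.range_eq_map, ← hT]
  rfl

/-- `J` and an injective map. -/
theorem map_thompson_inj {G : Type u} [Group G] [Finite G] {τ : S →* G} (hτ : Function.Injective τ)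
    {T : Subgroup G} (hT : T = τ.range) :
    (Cfsg.thompsonSubgroupA S).map τ = Cfsg.thompsonSubgroupAOf T := by
  have hcom : ∀ {B : Subgroup G}, IsMulCommutative B → IsMulCommutative (B.comap τ) := fun hB =>
    le_centralizer_iff_isMulCommutative.1 fun x hx y hy => hτ (by
      rw [map_mul, map_mul, PLocal.comm_of_isMulCommutative hB hy hx])
  refine le_antisymm ?_ ?_
  · rw [Cfsg.thompsonSubgroupA, sSup_eq_iSup, Subgroup.map_iSup]
    refine iSup_le fun A => ?_
    rw [Subgroup.map_iSup]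
    refine iSup_le fun hA => PLocal.le_thompsonAOf ⟨(map_le_range _ _).trans hT.ge,
      PLocal.isMulCommutative_map _ hA.1, fun B hB hBc => ?_⟩
    rw [← map_comap_eq_self (hB.trans hT.le), card_map_of_injective hτ, card_map_of_injective hτ]
    exact hA.2 _ (hcom hBc)
  · rw [PLocal.thompsonAOf_eq]
    refine sSup_le fun B hB => ?_
    rw [← map_comap_eq_self (hB.1.trans hT.le)]
    refine map_mono (le_sSup ⟨hcom hB.2.1, fun A hA => ?_⟩)
    rw [← card_map_of_injective hτ (K := A), ← card_map_of_injective hτ (K := B.comap τ),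
      map_comap_eq_self (hB.1.trans hT.le)]
    exact hB.2.2 _ ((map_le_range _ _).trans hT.ge) (PLocal.isMulCommutative_map _ hA)

/-- A central subgroup of `S` is normal unless the group is one to be considered. -/
theorem normal_or_emb (hJt : centralizer ((Cfsg.thompsonSubgroupA S ⊓
      centralizer (Cfsg.thompsonSubgroupA S : Set S) : Subgroup S) : Set S) = ⊤)
    (hZ : ∀ z ∈ center S, z ^ p = 1) {G : Type u} [Group G] [Finite G] {τ : S →* G}
    (h : PushHyp p G τ) :
    (∀ S₁ : Subgroup S, S₁ ≤ center S → (S₁.map τ).Normal) ∨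
      ∃ e : Emb p S, ∀ Y : Subgroup S, (Y.map e.τ).Normal → (Y.map τ).Normal := by
  obtain ⟨hτ, ⟨T, hT⟩, hE₁, hE₂, K, hK, F, hF', hF'', n, hF, ⟨eqv⟩⟩ := h
  haveI := hK
  rw [← hT] at hE₂
  obtain ⟨M, φ₀, hs₀⟩ := exists_sit T hE₁ hE₂ K hF eqv
  obtain ⟨φ, hpre, hU⟩ := hs₀.toPre.exists_normalized
  have hs : Sit (F := F) T M φ n := ⟨hpre, hs₀.charP⟩
  have hzT := map_center_eq hτ hT
  by_cases hZn : (zOf (T : Subgroup G)).Normal
  · refine Or.inl fun S₁ hS₁ => ?_
    have hle : S₁.map τ ≤ zOf (T : Subgroup G) := (map_mono hS₁).trans hzT.le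
    exact hs.normal_of_centralized (le_centralizer_iff.1 (hle.trans inf_le_right))
      ((hs.residual_centralizes_center hZn).trans (centralizer_le hle))
  right
  have hpow : ∀ z ∈ zOf (T : Subgroup G), z ^ p = 1 := by
    intro z hz
    obtain ⟨x, hx, rfl⟩ := hzT.ge hz
    rw [← map_pow, hZ x hx, map_one]
  have hJS : (T : Subgroup G) ≤ centralizer (Cfsg.centerThompsonAOf (T : Subgroup G) : Set G) := by
    intro x hx y hy
    obtain ⟨s, rfl⟩ := hT.le hx
    have hJmap := map_thompson_inj hτ hT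
    rw [Cfsg.centerThompsonAOf, ← hJmap, ← map_inf_centralizer hτ] at hy
    obtain ⟨z, hz, rfl⟩ := hy
    rw [← map_mul, ← map_mul, (hJt ▸ mem_top s : s ∈ centralizer _) z hz]
  have hJ := hs.thompson_not_le_ker hJS hZn
  obtain ⟨V, hD, -⟩ := hs.exists_datum_of hJ hZn hpow
  exact ⟨{ G := G, F := F, τ := τ, inj := hτ, T := T, range := hT, M := M, φ := φ, n := n, sit := hs,
           normalized := hU, thompson := hJ, V := V, datum := hD }, fun Y hY => hY⟩

/-- The pair. -/
theorem exists_pair (hS : IsPGroup p S)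
    (hJt : centralizer ((Cfsg.thompsonSubgroupA S ⊓
      centralizer (Cfsg.thompsonSubgroupA S : Set S) : Subgroup S) : Set S) = ⊤)
    (hZ : ∀ z ∈ center S, z ^ p = 1)
    (hh : szero p S ≠ ⊥ ∨ Cfsg.thompsonSubgroupA S ≠ ⊤) :
    ∃ S₁ S₂ : Subgroup S, S₁ ≠ ⊥ ∧ S₁.Characteristic ∧ S₁ ≤ center S ∧ S₂.Characteristic ∧
      (∃ A ∈ Cfsg.maxAbelianSubgroups S, A ≤ S₂) ∧
      ∀ (G : Type u) [Group G] [Finite G] (τ : S →* G), PushHyp p G τ →
        (S₁.map τ).Normal ∨ (S₂.map τ).Normal := by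
  classical
  by_contra hcon
  let Fails : Subgroup S × Subgroup S → Prop := fun x =>
    ∃ e : Emb p S, ¬ (x.1.map e.τ).Normal ∧ ¬ (x.2.map e.τ).Normal
  let ι₀ := {x : Subgroup S × Subgroup S // Fails x}
  let e₀ : ι₀ → Emb p S := fun x => Classical.choose x.2
  have he₀ : ∀ x : ι₀, ¬ (x.1.1.map (e₀ x).τ).Normal ∧ ¬ (x.1.2.map (e₀ x).τ).Normal := fun x =>
    Classical.choose_spec x.2
  haveI : Finite (MulAut S) := Finite.of_injective (fun α => (α : S → S)) DFunLike.coe_injective
  -- the second subgroup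
  set Y₀ : Subgroup S := sSup {Y | ∀ i : ι₀, ¬ (e₀ i).Good → ∀ α : MulAut S,
    ((Y.map α.toMonoidHom).map (e₀ i).τ).Normal} with hY₀
  have hY₀n : ∀ i : ι₀, ¬ (e₀ i).Good → ∀ α : MulAut S,
      ((Y₀.map α.toMonoidHom).map (e₀ i).τ).Normal := by
    intro i hi α
    rw [Subgroup.map_map]
    refine ⟨fun x hx g => ?_⟩
    suffices hle : Y₀.map ((e₀ i).τ.comp α.toMonoidHom) ≤
        (Y₀.map ((e₀ i).τ.comp α.toMonoidHom)).comap (MulAut.conj g).toMonoidHom from hle hx
    rw [Subgroup.map_le_iff_le_comap]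
    refine sSup_le fun Y hY y hy => ?_
    have h1 : (e₀ i).τ (α y) ∈ (Y.map α.toMonoidHom).map (e₀ i).τ := mem_map_of_mem _ (mem_map_of_mem _ hy)
    obtain ⟨_, ⟨w, hw, rfl⟩, hwe⟩ := (hY i hi α).conj_mem _ h1 g
    exact ⟨w, le_sSup hY hw, hwe⟩
  have hY₀c : Y₀.Characteristic := characteristic_iff_map_le.2 fun β => le_sSup fun i hi α => by
    rw [Subgroup.map_map Y₀]
    exact hY₀n i hi (β.trans α)
  have hY₀A : ∃ A ∈ Cfsg.maxAbelianSubgroups S, A ≤ Y₀ := by
    obtain ⟨Y, ⟨A, hA, hAY⟩, hY⟩ := exists_normal_of_bad hS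
      (fun x : {i : ι₀ // ¬ (e₀ i).Good} × MulAut S => (e₀ x.1.1).twist x.2) (fun x hg => x.1.2 (by
        have h2 := hg.twist x.2⁻¹
        have e1 : (((e₀ x.1.1).twist x.2).twist x.2⁻¹).fixedPart = (e₀ x.1.1).fixedPart := by
          ext y
          rw [Emb.fixedPart_twist, Emb.fixedPart_twist, mem_comap, mem_comap]
          simp
        unfold Emb.Good at h2 ⊢
        rwa [e1] at h2))
    refine ⟨A, hA, hAY.trans (le_sSup fun i hi α => ?_)⟩
    have := hY (⟨i, hi⟩, α)
    rw [Subgroup.map_map]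
    exact this
  -- the first subgroup
  set X : Subgroup S := ⨅ x : {i : ι₀ // (e₀ i).Good} × MulAut S, (e₀ x.1.1).fixedPart.comap x.2.toMonoidHom
    with hX
  have hXc : X.Characteristic := characteristic_iff_le_comap.2 fun β x hx => by
    rw [mem_comap, hX, mem_iInf]
    rintro ⟨i, α⟩
    exact (mem_iInf.1 hx (i, β.trans α) :)
  have hXn : X ≠ ⊥ := by
    rcases hh with h0 | hJ
    · refine fun hb => h0 (le_bot_iff.1 (le_of_le_of_eq (le_iInf fun x => ?_) hb))
      rw [← map_le_iff_le_comap, characteristic_iff_map_eq.1 (szero_characteristic p S) x.2]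
      exact x.1.2.1
    · exact common_fixed_ne_bot _ (fun x => ((x.1.2).twist x.2).2) hJ
  haveI : Group.IsNilpotent S := hS.isNilpotent
  haveI := hXc
  have hS₁ : X ⊓ center S ≠ ⊥ := CfsgLib.Solvable.normal_inf_center_ne_bot X hXn
  have hS₁c : (X ⊓ center S).Characteristic := inferInstance
  refine hcon ⟨X ⊓ center S, Y₀, hS₁, hS₁c, inf_le_right, hY₀c, hY₀A, ?_⟩
  intro G _ _ τ hτ
  rcases normal_or_emb hJt hZ hτ with h | ⟨e, he⟩
  · exact Or.inl (h _ inf_le_right)
  by_contra hfail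
  simp only [not_or] at hfail
  let x : ι₀ := ⟨(X ⊓ center S, Y₀), e, fun h => hfail.1 (he _ h), fun h => hfail.2 (he _ h)⟩
  obtain ⟨hx1, hx2⟩ := he₀ x
  by_cases hg : (e₀ x).Good
  · refine hx1 ((e₀ x).sit.normal_of_centralized ?_ ?_)
    · rintro s hs _ ⟨z, hz, rfl⟩
      obtain ⟨s', rfl⟩ := (e₀ x).range.le hs
      rw [← map_mul, ← map_mul, mem_center_iff.1 hz.2 s']
    · refine le_centralizer_iff.1 ?_
      rintro _ ⟨z, hz, rfl⟩
      have h1 := mem_iInf.1 hz.1 (⟨x, hg⟩, 1)
      exact h1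
  · have h1 := hY₀n x hg 1
    rw [show Y₀.map (1 : MulAut S).toMonoidHom = Y₀ from Subgroup.map_id _] at h1
    exact hx2 h1

end CfsgLib.ClassK.Push
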