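import Cfsg.Agent.Lib.ClassK.PushPairShape

/-!
Within a family of groups without the good shape, no two modules fail to commute.
-/

set_option autoImplicit false
set_option linter.style.haveILetI false
set_option linter.unusedSectionVars false
set_option maxHeartbeats 1000000

universe u

namespace CfsgLib.ClassK.Push

open Subgroup
open scoped MatrixGroups Pointwise commutatorElement

namespace Fam

variable {P : Type*} [Group P] [Finite P] {ι : Type*} {p : ℕ} {q : ι → ℕ} {D : Fam P ι p q}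

set_option maxHeartbeats 2000000 in
/-- Distance two: the middle of five successive vertices. -/
theorem mid_of_seq (hB : D.Below 2) {s : ℕ → ι × P} {ed : ℕ → P}
    (hcr : ∀ c, D.Crit 2 (fun i => s (c + i)) (fun i => ed (c + i)))
    (hjoint : ∀ m, 2 ≤ m → D.Zv (ed (m - 1)) ≠ D.Zv (ed m)) {G₀ : Type*} [Group G₀] [Finite G₀]
    (ψ : G₀ →* P) (hψ : Function.Injective ψ) {T Q V : Subgroup G₀} (hψS : T.map ψ = D.Sv (ed 2))
    (hψQ : Q.map ψ = D.Qv (s 3)) (hψV : V.map ψ = D.Vv (s 3)) (hψZ : (zOf T).map ψ = D.Zv (ed 2))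
    (hψG : ψ.range = D.Gv (s 3)) :
    ∃ g, Mid p (q (s 2).1) T Q V ((D.Vv (s 2)).comap ψ) ((D.Vv (s 4)).comap ψ) ((D.Vv (s 1)).comap ψ) g := by
  classical
  have hedge : ∀ m, D.In (s m) (ed m) ∧ D.In (s (m + 1)) (ed m) := fun m => (hcr m).1 0 (by omega)
  obtain ⟨huk, hv0ku⟩ := hedge 1
  obtain ⟨hv0k, hv1k⟩ := hedge 2
  obtain ⟨hv1k', hv2k'⟩ := hedge 3
  obtain ⟨hv2kw, hwkw⟩ := hedge 4
  have hq24 : q (s 2).1 = q (s 4).1 := (hcr 2).q_eq hB
  obtain ⟨hA1, hA2, hA3, hA4, hA5, hA6, hA7, hA8, hA9⟩ :=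
    Fam.side hB huk hv0ku hv0k hv1k hv1k' hv2k' (hcr 1).2 (hcr 2).2
  obtain ⟨hB1, hB2, hB3, hB4, hB5, hB6, hB7, hB8, hB9⟩ :=
    Fam.side hB hwkw hv2kw hv2k' hv1k' hv1k hv0k (hcr 3).reverse.2 (hcr 2).reverse.2
  obtain ⟨g, hg⟩ : ed 3 * (ed 2)⁻¹ ∈ ψ.range := by
    rw [hψG, Gv_eq hv1k, mem_cj]
    simpa [In, mul_assoc] using mul_mem (inv_mem hv1k) hv1k'
  have hcj : ∀ H : Subgroup P, ∀ H₀ : Subgroup G₀, H₀.map ψ = cj (ed 2) H →
      (cj g H₀).map ψ = cj (ed 3) H := by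
    intro H H₀ h
    have : (cj g H₀).map ψ = cj (ψ g) (H₀.map ψ) := by
      rw [cj, cj, Subgroup.map_map, Subgroup.map_map]
      congr 1
      refine MonoidHom.ext fun y => ?_
      show ψ (g * y * g⁻¹) = ψ g * ψ y * (ψ g)⁻¹
      simp
    rw [this, h, hg, ← cj_mul, inv_mul_cancel_right]
  have hψS' : (cj g T).map ψ = D.Sv (ed 3) := hcj _ _ hψS
  have hψZ' : (cj g (zOf T)).map ψ = D.Zv (ed 3) := hcj _ _ hψZ
  have mem : ∀ {H : Subgroup G₀} {K : Subgroup P}, H.map ψ = K →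
      ∀ {x : G₀}, ψ x ∈ K ↔ x ∈ H := fun {H K} h {x} => by
    rw [← h]; exact Subgroup.mem_map_iff_mem hψ
  have hrange : ∀ {K : Subgroup P}, K ≤ D.Gv (s 3) → (K.comap ψ).map ψ = K := fun h =>
    map_comap_eq_self (h.trans hψG.ge)
  have hQG : D.Qv (s 3) ≤ D.Gv (s 3) := (Fam.Qv_le hv1k).trans (Fam.Sv_le hv1k)
  set A := (D.Vv (s 2)).comap ψ
  set B := (D.Vv (s 4)).comap ψ
  set E := (D.Vv (s 1)).comap ψ
  set E' := (D.Vv (s 5)).comap ψ
  have hAm := hrange (hA1.trans hQG)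
  have hBm := hrange (hB1.trans hQG)
  have hEm := hrange (hA5.trans (Fam.Sv_le hv1k))
  have hE'm := hrange (hB5.trans (Fam.Sv_le hv1k'))
  have hcen : ∀ (H : Subgroup G₀) (K : Subgroup P), H.map ψ = K → ∀ x,
      x ∈ centralizer (H : Set G₀) ↔ ψ x ∈ centralizer (K : Set P) := by
    intro H K h x
    subst h
    constructor
    · rintro hx _ ⟨y, hy, rfl⟩
      rw [← map_mul, ← map_mul, hx y hy]
    · intro hx y hy
      exact hψ (by rw [map_mul, map_mul]; exact hx _ (mem_map_of_mem _ hy))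
  have hQCA : (Q ⊓ centralizer (A : Set G₀)).map ψ =
      D.Qv (s 3) ⊓ centralizer (D.Vv (s 2) : Set P) := by
    ext y
    constructor
    · rintro ⟨x, ⟨hx, hxA⟩, rfl⟩
      exact ⟨(mem hψQ).2 hx, (hcen A _ hAm x).1 hxA⟩
    · rintro ⟨hy, hy'⟩
      obtain ⟨x, hx, rfl⟩ := hψQ.ge hy
      exact ⟨x, ⟨hx, (hcen A _ hAm x).2 hy'⟩, rfl⟩
  have hQCB : (Q ⊓ centralizer (B : Set G₀)).map ψ =
      D.Qv (s 3) ⊓ centralizer (D.Vv (s 4) : Set P) := by
    ext y
    constructor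
    · rintro ⟨x, ⟨hx, hxA⟩, rfl⟩
      exact ⟨(mem hψQ).2 hx, (hcen B _ hBm x).1 hxA⟩
    · rintro ⟨hy, hy'⟩
      obtain ⟨x, hx, rfl⟩ := hψQ.ge hy
      exact ⟨x, ⟨hx, (hcen B _ hBm x).2 hy'⟩, rfl⟩
  have le_of : ∀ {H H' : Subgroup G₀}, H.map ψ ≤ H'.map ψ → H ≤ H' := fun h =>
    (Subgroup.map_le_map_iff_of_injective hψ).1 h
  have hgen : T ⊔ cj g T = ⊤ := by
    refine top_le_iff.1 (le_of ?_)
    rw [Subgroup.map_sup, hψS, hψS', ← MonoidHom.range_eq_map, hψG]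
    obtain ⟨a, ha, haQ⟩ := SetLike.not_le_iff_exists.1 (show ¬ D.Sv (ed 3) ≤ D.Qv (s 3) from fun h => by
      have := Fam.relQ_edge hv1k'; rw [relIndex_eq_one.2 h] at this; exact (D.one_lt _).ne this)
    exact (Fam.gen_edge hv1k hv1k' (hjoint 3 (by omega)).symm ha haQ).trans
      (sup_le_sup le_rfl (zpowers_le.2 ha))
  have hcenter : ∀ x, ψ x ∈ D.Zv (ed 2) → ψ x ∈ D.Zv (ed 3) → x ∈ center G₀ := by
    intro x h2 h3
    refine mem_center_iff.2 fun y => ?_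
    have : T ⊔ cj g T ≤ centralizer ({x} : Set G₀) := sup_le
      (fun z hz => mem_centralizer_singleton_iff.2 (hψ (by
        rw [map_mul, map_mul]; exact Fam.commute_Zv_Sv h2 ((mem hψS).2 hz))))
      (fun z hz => mem_centralizer_singleton_iff.2 (hψ (by
        rw [map_mul, map_mul]; exact Fam.commute_Zv_Sv h3 ((mem hψS').2 hz))))
    exact mem_centralizer_singleton_iff.1 (this (hgen ▸ mem_top y))
  refine ⟨g, ?_⟩
  exact {
    opp := fun e => hjoint 3 (by omega) (by rw [← hψZ, ← hψZ', e])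
    gen := hgen
    A_le := fun x hx => (mem hψQ).1 (hA1 hx)
    B_le := fun x hx => (mem hψQ).1 (hB1 hx)
    A_exp := fun x hx => hψ (by
      obtain ⟨y, hy, hyx⟩ := hx
      rw [map_pow, map_one, ← hyx, ← map_pow, D.exp _ y hy, map_one])
    B_exp := fun x hx => hψ (by
      obtain ⟨y, hy, hyx⟩ := hx
      rw [map_pow, map_one, ← hyx, ← map_pow, D.exp _ y hy, map_one])
    A_ab := fun x hx => (hcen A _ hAm x).2 (Fam.Vv_comm _ hx)
    B_ab := fun x hx => (hcen B _ hBm x).2 (Fam.Vv_comm _ hx)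
    A_center := fun x hx => Fam.Zv_le hv0k ((mem hψZ).2 hx)
    B_center := fun x hx => Fam.Zv_le hv2k' ((mem hψZ').2 hx)
    A_norm := le_of (by
      rw [hψS]
      refine (le_inf ((Fam.Sv_le hv0k).trans (D.Vv_norm _)) (hψS.ge.trans (map_le_range _ _))).trans ?_
      rintro y ⟨hy, x, rfl⟩
      refine mem_map_of_mem _ (mem_normalizer_iff.2 fun z => ?_)
      show ψ z ∈ D.Vv (s 2) ↔ ψ (x * z * x⁻¹) ∈ D.Vv (s 2)
      rw [map_mul, map_mul, map_inv]
      exact mem_normalizer_iff.1 hy (ψ z))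
    B_norm := le_of (by
      rw [hψS']
      refine (le_inf ((Fam.Sv_le hv2k').trans (D.Vv_norm _)) (hψS'.ge.trans (map_le_range _ _))).trans ?_
      rintro y ⟨hy, x, rfl⟩
      refine mem_map_of_mem _ (mem_normalizer_iff.2 fun z => ?_)
      show ψ z ∈ D.Vv (s 4) ↔ ψ (x * z * x⁻¹) ∈ D.Vv (s 4)
      rw [map_mul, map_mul, map_inv]
      exact mem_normalizer_iff.1 hy (ψ z))
    A_comm := fun x hx y hy => (mem hψZ).1 (by
      rw [map_commutatorElement]; exact Fam.comm_mem_edge hv0k hx ((mem hψS).2 hy))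
    B_comm := fun x hx y hy => (mem hψZ').1 (by
      rw [map_commutatorElement]; exact Fam.comm_mem_edge hv2k' hx ((mem hψS').2 hy))
    A_inter := fun x hx => (mem hψZ).1 (hA8 ⟨hx.1, (hcen B _ hBm x).1 hx.2⟩)
    B_inter := fun x hx => (mem hψZ').1 (hB8 ⟨hx.1, (hcen A _ hAm x).1 hx.2⟩)
    A_rel := by
      rw [← relIndex_map_map_of_injective _ _ hψ, hψZ, hAm, Fam.relV_edge hv0k]
    B_rel := by
      rw [← relIndex_map_map_of_injective _ _ hψ, hψZ', hBm, Fam.relV_edge hv2k', ← hq24]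
    A_central := fun x hx y hy => by
      obtain ⟨h2, h3⟩ := hA9 _ hx _ ((mem hψQ).2 hy)
      rw [← map_commutatorElement] at h2 h3
      exact hcenter _ h2 h3
    B_central := fun x hx y hy => by
      obtain ⟨h3, h2⟩ := hB9 _ hx _ ((mem hψQ).2 hy)
      rw [← map_commutatorElement] at h2 h3
      exact hcenter _ h2 h3
    Q_A := le_of (by rw [Subgroup.map_sup, hψQ, hBm, hQCA]; exact hA3)
    Q_B := le_of (by rw [Subgroup.map_sup, hψQ, hAm, hQCB]; exact hB3)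
    E_le := fun x hx => (mem hψS).1 (hA5 hx)
    E_ab := fun x hx => (hcen E _ hEm x).2 (Fam.Vv_comm _ hx)
    E_exp := fun x hx => hψ (by
      obtain ⟨y, hy, hyx⟩ := hx
      rw [map_pow, map_one, ← hyx, ← map_pow, D.exp _ y hy, map_one])
    E_A := fun x hx => (hcen A _ hAm x).2 (fun y hy => by
      have := hB.commute (s := s) (e := ed) (c := 1) (m := 1) (fun i _ => hedge (1 + i)) (by omega)
      exact this hx y hy)
    cover := le_of (by rw [Subgroup.map_sup, hψS, hEm, hψQ]; exact hA4)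
    E_act := fun y hy x hx => (mem hψV).1 (by
      rw [map_commutatorElement]; exact hA6 _ (hQCA.le (mem_map_of_mem _ hy)) _ hx)
    E_split := le_of (by
      rw [Subgroup.map_sup, hψV, hQCA]
      refine hA7.trans (sup_le_sup le_rfl ?_)
      rintro y ⟨hy, hy'⟩
      obtain ⟨x, hx, rfl⟩ := hQCA.ge hy
      exact ⟨x, ⟨hx, (hcen E _ hEm x).2 hy'⟩, rfl⟩)
    twist := by
      by_contra hcon
      simp only [not_exists, not_and, not_not] at hcon
      have hr := (hcr 1).natRel hB le_rfl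
      rw [Fam.natRel_iff hv0ku huk] at hr
      obtain ⟨b, hb, hbS, hbQ⟩ := (hcr 2).exists_not_mem hB
      refine hr ((Fam.gen_edge hv0ku hv0k (hjoint 2 le_rfl).symm hbS hbQ).trans (sup_le
        (CfsgLib.Comp.le_normalizer_sup ((Fam.Sv_le hv0ku).trans (D.Vv_norm _))
          ((Fam.Sv_le huk).trans (D.Vv_norm _))) (zpowers_le.2 ?_)))
      have hbV : b ∈ normalizer (D.Vv (s 2) : Set P) := D.Vv_norm _ (Fam.Sv_le hv0k hbS)
      refine CfsgLib.Comp.map_conj_eq_iff.1 (eq_of_le_of_card_ge ?_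
        (card_map_of_injective (MulAut.conj b).injective).ge)
      rw [Subgroup.map_sup]
      refine sup_le (le_of_eq_of_le (cj_eq_self hbV) le_sup_left) ?_
      rintro _ ⟨x, hx, rfl⟩
      obtain ⟨x₀, hx₀, rfl⟩ := hEm.ge hx
      obtain ⟨b₀, hb₀, rfl⟩ := hBm.ge hb
      have hh : ψ ⁅x₀, b₀⁆ ∈ D.Vv (s 2) := hcon x₀ hx₀ b₀ hb₀
      rw [map_commutatorElement] at hh
      show ψ b₀ * ψ x₀ * (ψ b₀)⁻¹ ∈ _
      rw [show ψ b₀ * ψ x₀ * (ψ b₀)⁻¹ = ⁅ψ x₀, ψ b₀⁆⁻¹ * ψ x₀ by simp [commutatorElement_def, mul_assoc]]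
      exact mul_mem (mem_sup_left (inv_mem hh)) (mem_sup_right hx)
    twistV := by
      by_contra hcon
      simp only [not_exists, not_and, not_not] at hcon
      have hr := ((hcr 2).reverse).natRel hB le_rfl
      change D.NatRel (s 3).1 (s 4).1 at hr
      rw [Fam.natRel_iff hv1k' hv2k'] at hr
      obtain ⟨a, ha, haS, haQ⟩ := ((hcr 1).reverse).exists_not_mem hB
      change a ∈ D.Vv (s 1) at ha
      change a ∈ D.Sv (ed 2) at haS
      change a ∉ D.Qv (s 3) at haQ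
      refine hr ((Fam.gen_edge hv1k' hv1k (hjoint 3 (by omega)) haS haQ).trans (sup_le
        (CfsgLib.Comp.le_normalizer_sup ((Fam.Sv_le hv1k').trans (D.Vv_norm _))
          ((Fam.Sv_le hv2k').trans (D.Vv_norm _))) (zpowers_le.2 ?_)))
      have haV : a ∈ normalizer (D.Vv (s 3) : Set P) := D.Vv_norm _ (Fam.Sv_le hv1k haS)
      refine CfsgLib.Comp.map_conj_eq_iff.1 (eq_of_le_of_card_ge ?_
        (card_map_of_injective (MulAut.conj a).injective).ge)
      rw [Subgroup.map_sup]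
      refine sup_le (le_of_eq_of_le (cj_eq_self haV) le_sup_left) ?_
      rintro _ ⟨x, hx, rfl⟩
      obtain ⟨x₀, hx₀, rfl⟩ := hBm.ge hx
      obtain ⟨e₀, he₀, rfl⟩ := hEm.ge ha
      have hh : ψ ⁅e₀, x₀⁆ ∈ D.Vv (s 3) := (mem hψV).2 (hcon e₀ he₀ x₀ hx₀)
      rw [map_commutatorElement] at hh
      show ψ e₀ * ψ x₀ * (ψ e₀)⁻¹ ∈ _
      rw [show ψ e₀ * ψ x₀ * (ψ e₀)⁻¹ = ⁅ψ e₀, ψ x₀⁆ * ψ x₀ by simp [commutatorElement_def, mul_assoc]]
      exact mul_mem (mem_sup_left hh) (mem_sup_right hx)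
    other := ⟨E', fun x hx => (mem hψS').1 (hB5 hx), fun x hx => (hcen B _ hBm x).2 (fun y hy => by
        have := hB.commute (s := s) (e := ed) (c := 4) (m := 1) (fun i _ => hedge (4 + i)) (by omega)
        exact (this hy _ hx).symm),
      le_of (by rw [Subgroup.map_sup, hψS', hE'm, hψQ]; exact hB4),
      fun y hy x hx => (mem hψV).1 (by
        rw [map_commutatorElement]; exact hB6 _ (hQCB.le (mem_map_of_mem _ hy)) _ hx)⟩ }

/-- An abelian subgroup of largest order in another edge at a vertex whose core contains it. -/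
theorem maxAb_move {k k' : P} {A : Subgroup P} (hA : A ∈ PLocal.maxAbIn (D.Sv k)) (hle : A ≤ D.Sv k') :
    A ∈ PLocal.maxAbIn (D.Sv k') := by
  refine ⟨hle, hA.2.1, fun B hB hBc => ?_⟩
  have e1 : cj (k * k'⁻¹) (D.Sv k') = D.Sv k := by rw [← Sv_mul, inv_mul_cancel_right]
  have h1 := hA.2.2 (cj (k * k'⁻¹) B) ((cj_mono hB).trans e1.le) (PLocal.isMulCommutative_map _ hBc)
  rwa [cj, card_map_of_injective (MulAut.conj _).injective] at h1

/-- Replace an abelian subgroup of largest order by one inside the core of a vertex. -/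
theorem exists_maxAb {v : ι × P} {k : P} (hv : D.In v k) {A : Subgroup P}
    (hA : A ∈ PLocal.maxAbIn (D.Sv k)) :
    ∃ A' ∈ PLocal.maxAbIn (D.Sv k), A' ≤ D.Qv v ∧ A ⊓ D.Qv v ≤ A' ∧ D.Vv v ≤ A' := by
  classical
  by_cases hAQ : A ≤ D.Qv v
  · exact ⟨A, hA, hAQ, inf_le_left, fun x hx => PLocal.mem_maxAbIn_of_centralizes hA
      (Qv_le hv (D.Vv_le v hx)) fun a ha => D.Vv_cent v hx a (hAQ ha)⟩
  obtain ⟨a, ha, haQ⟩ := SetLike.not_le_iff_exists.1 hAQ
  have hAc : A ≤ centralizer (A : Set P) := le_centralizer_iff_isMulCommutative.2 hA.2.1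
  set B := A ⊓ D.Qv v with hB
  set A' := B ⊔ D.Vv v with hA'
  have hle : A' ≤ D.Qv v := sup_le inf_le_right (D.Vv_le v)
  have hVB : D.Vv v ≤ centralizer (B : Set P) := (D.Vv_cent v).trans (centralizer_le inf_le_right)
  have hAS : A' ≤ centralizer (A' : Set P) := sup_le
    (fun x hx => mem_centralizer_sup (fun y hy => hAc hx.1 y hy.1) fun y hy => (hVB hy x hx).symm)
    (fun x hx => mem_centralizer_sup (hVB hx) (D.Vv_comm v hx))
  refine ⟨A', ⟨hle.trans (Qv_le hv), le_centralizer_iff_isMulCommutative.1 hAS, fun C hC hCc => ?_⟩,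
    hle, le_sup_left, le_sup_right⟩
  refine (hA.2.2 C hC hCc).trans ?_
  rw [card_eq_mul (inf_le_left : B ≤ A), card_eq_mul (le_sup_left : B ≤ A')]
  refine Nat.mul_le_mul_left _ ?_
  rw [hB, inf_relIndex_left]
  refine ((relIndex_le_of_le' hA.1).trans (relQ_edge hv).le).trans ?_
  refine le_trans ?_ (relIndex_le_of_le' le_sup_right)
  rw [← inf_relIndex_right]
  refine (relV_edge hv).ge.trans (Nat.le_of_dvd (relIndex_pos' _ _) (relIndex_dvd_of_le_left _ ?_))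
  rintro x ⟨⟨hxA, -⟩, hx⟩
  exact fix_edge hv (hA.1 ha) haQ hx (hAc ha x hxA)

/-- A module inside the core of a neighbour lies in an abelian subgroup of largest order there. -/
theorem exists_maxAb_ge {v w : ι × P} {k k' : P} (hw : D.In w k') (hv' : D.In v k') (hv : D.In v k)
    (hle : D.Vv w ≤ D.Qv v) : ∃ A ∈ PLocal.maxAbIn (D.Sv k), D.Vv w ≤ A := by
  obtain ⟨A₀, hA₀⟩ := PLocal.exists_maxAbIn (D.Sv k')
  obtain ⟨A₁, hA₁, -, -, hwA₁⟩ := exists_maxAb hw hA₀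
  obtain ⟨A, hA, hAQ, hAA, -⟩ := exists_maxAb hv' hA₁
  exact ⟨A, maxAb_move hA (hAQ.trans (Qv_le hv)), (le_inf hwA₁ hle).trans hAA⟩

end Fam

section Frame

variable {p : ℕ} [Fact p.Prime] {S : Type u} [Group S] [Finite S] {ι : Type u} [Finite ι]
  (e : ι → Emb p S)

/-- `G_i` placed at an edge. -/
noncomputable def fr (i : ι) (k : Equiv.Perm (AmbSet e)) : (e i).G →* Equiv.Perm (AmbSet e) :=
  (MulAut.conj k).toMonoidHom.comp (ψ e i)

theorem fr_injective (i : ι) (k : Equiv.Perm (AmbSet e)) : Function.Injective (fr e i k) :=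
  (MulAut.conj k).injective.comp (ψ_injective e i)

theorem map_fr (i : ι) (k : Equiv.Perm (AmbSet e)) (H : Subgroup (e i).G) :
    H.map (fr e i k) = cj k (H.map (ψ e i)) := (Subgroup.map_map _ _ _).symm

theorem fr_facts {v : ι × Equiv.Perm (AmbSet e)} {k : Equiv.Perm (AmbSet e)} (hv : (ambFam e).In v k) :
    ((e v.1).T : Subgroup (e v.1).G).map (fr e v.1 k) = (ambFam e).Sv k ∧
    (Cfsg.pCore p (e v.1).G).map (fr e v.1 k) = (ambFam e).Qv v ∧
    (e v.1).V.map (fr e v.1 k) = (ambFam e).Vv v ∧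
    (zOf ((e v.1).T : Subgroup (e v.1).G)).map (fr e v.1 k) = (ambFam e).Zv k ∧
    (fr e v.1 k).range = (ambFam e).Gv v := by
  refine ⟨?_, ?_, ?_, ?_, ?_⟩
  · rw [map_fr, map_ψ_T]; rfl
  · rw [map_fr, Fam.Qv_eq hv]; rfl
  · rw [map_fr, Fam.Vv_eq hv]; rfl
  · rw [map_fr, ← zOf_σS]; rfl
  · rw [Fam.Gv_eq hv, fr, MonoidHom.range_comp]; rfl

/-- A subgroup inside an abelian subgroup of largest order pulls back into `J`. -/
theorem comap_fr_le {v : ι × Equiv.Perm (AmbSet e)} {k : Equiv.Perm (AmbSet e)}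
    (hv : (ambFam e).In v k) {W A : Subgroup (Equiv.Perm (AmbSet e))}
    (hA : A ∈ PLocal.maxAbIn ((ambFam e).Sv k)) (hW : W ≤ A) :
    W.comap (fr e v.1 k) ≤ Cfsg.thompsonSubgroupAOf ((e v.1).T : Subgroup (e v.1).G) := by
  obtain ⟨hT, -, -, -, -⟩ := fr_facts e hv
  have hinj := fr_injective e v.1 k
  refine (comap_mono hW).trans (PLocal.le_thompsonAOf ⟨fun x hx => ?_, ?_, fun B hB hBc => ?_⟩)
  · obtain ⟨y, hy, hyx⟩ := hT.ge (hA.1 hx)
    exact hinj hyx ▸ hy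
  · exact le_centralizer_iff_isMulCommutative.1 fun x hx y hy => hinj (by
      rw [map_mul, map_mul, PLocal.comm_of_isMulCommutative hA.2.1 hy hx])
  · rw [← card_map_of_injective hinj (K := B), ← card_map_of_injective hinj (K := A.comap _),
      map_comap_eq_self (hA.1.trans (hT.ge.trans (map_le_range _ _)))]
    exact hA.2.2 _ ((map_mono hB).trans hT.le) (PLocal.isMulCommutative_map _ hBc)

variable (hS : IsPGroup p S)
include hS

/-- A critical distance one gives a good group. -/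
theorem good_of_crit_one (hB : (ambFam e).Below 1) {f : ℕ → ι × Equiv.Perm (AmbSet e)}
    {ed : ℕ → Equiv.Perm (AmbSet e)} (hf : (ambFam e).Crit 1 f ed) : (e (f 1).1).Good := by
  obtain ⟨h0, h1⟩ := hf.1 0 (by omega)
  rw [Nat.zero_add] at h1
  set k := ed 0
  set D := ambFam e
  obtain ⟨hT, hQ, hV, hZ, hG⟩ := fr_facts e h1
  set θ := fr e (f 1).1 k
  have hinj : Function.Injective θ := fr_injective e (f 1).1 k
  have mem : ∀ {H : Subgroup (e (f 1).1).G} {K : Subgroup (Equiv.Perm (AmbSet e))}, H.map θ = K →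
      ∀ {x : (e (f 1).1).G}, θ x ∈ K ↔ x ∈ H := fun {H K} h {x} => by
    rw [← h]; exact Subgroup.mem_map_iff_mem hinj
  have le_of : ∀ {H H' : Subgroup (e (f 1).1).G}, H.map θ ≤ H'.map θ → H ≤ H' := fun h =>
    (Subgroup.map_le_map_iff_of_injective hinj).1 h
  have hSG : D.Sv k ≤ θ.range := hT.ge.trans (map_le_range _ _)
  have hA0 : D.Vv (f 0) ≤ D.Sv k := (D.Vv_le _).trans (Fam.Qv_le h0)
  have hAm : ((D.Vv (f 0)).comap θ).map θ = D.Vv (f 0) := map_comap_eq_self (hA0.trans hSG)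
  have hcov : D.Sv k ≤ D.Vv (f 0) ⊔ D.Qv (f 1) := hf.cover hB
  have hcov' : D.Sv k ≤ D.Vv (f 1) ⊔ D.Qv (f 0) := hf.reverse.cover hB
  obtain ⟨A₀, hA₀⟩ := PLocal.exists_maxAbIn (D.Sv k)
  obtain ⟨A₁, hA₁, -, -, hVA₁⟩ := Fam.exists_maxAb h0 hA₀
  obtain ⟨A₂, hA₂, -, -, hVA₂⟩ := Fam.exists_maxAb h1 hA₀
  refine (e (f 1).1).good_of_one (A := (D.Vv (f 0)).comap θ)
    (R := Cfsg.pCore p (e (f 1).1).G ⊓ (D.Qv (f 0)).comap θ) ?_ ?_ ?_ ?_ ?_ inf_le_left ?_ ?_
    (comap_fr_le e h1 hA₁ hVA₁) ?_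
  · exact le_of (by rw [hAm, hT]; exact hA0)
  · intro a ha
    refine hinj ?_
    obtain ⟨y, hy, hya⟩ := (Fam.Vv_eq h0).le ha
    rw [map_pow, map_one, ← hya, ← map_pow, D.exp _ y hy, map_one]
  · intro a ha s hs
    refine (mem hZ).1 ?_
    rw [map_commutatorElement]
    exact Fam.comm_mem_edge h0 ha ((mem hT).2 hs)
  · intro hle
    refine hf.2 fun x hx y hy => ?_
    have hxQ : x ∈ D.Qv (f 1) := hQ.le (map_mono hle (hAm.ge hx))
    exact (D.Vv_cent _ hy x hxQ).symm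
  · exact le_of (by rw [Subgroup.map_sup, hT, hAm, hQ]; exact hcov)
  · intro r hr a ha
    refine hinj ?_
    rw [map_mul, map_mul]
    exact (D.Vv_cent _ ha _ hr.2).symm
  · intro y hy
    have hVn : D.Vv (f 1) ≤ normalizer (D.Qv (f 0) : Set (Equiv.Perm (AmbSet e))) :=
      ((D.Vv_le _).trans (Fam.Qv_le h1)).trans ((Fam.Sv_le h0).trans (D.Qv_norm _))
    obtain ⟨c, hc, w, hw, hcw⟩ := CfsgLib.Comp.exists_mul_of_mem_sup hVn
      (by rw [sup_comm]; exact hcov' (Fam.Qv_le h1 ((mem hQ).2 hy)))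
    obtain ⟨w₀, hw₀, rfl⟩ := hV.ge hw
    have hc' : θ (y * w₀⁻¹) = c := by rw [map_mul, map_inv, ← hcw, mul_inv_cancel_right]
    rw [show y = y * w₀⁻¹ * w₀ by group]
    refine mul_mem (mem_sup_right (mem_inf.2 ⟨mul_mem hy (inv_mem ((e (f 1).1).datum.V_le hw₀)), ?_⟩))
      (mem_sup_left hw₀)
    show θ (y * w₀⁻¹) ∈ D.Qv (f 0)
    rw [hc']; exact hc
  · exact fun x hx => comap_fr_le e h1 hA₂ hVA₂ (show θ x ∈ D.Vv (f 1) from (mem hV).2 hx)

/-- A critical distance two gives a good group. -/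
theorem good_of_crit_two (hB : (ambFam e).Below 2) {f : ℕ → ι × Equiv.Perm (AmbSet e)}
    {ed₀ : ℕ → Equiv.Perm (AmbSet e)} (hf : (ambFam e).Crit 2 f ed₀) : ∃ i, (e i).Good := by
  classical
  set D := ambFam e
  have hin : ∀ (f' : ℕ → ι × Equiv.Perm (AmbSet e)) (e' : ℕ → Equiv.Perm (AmbSet e)),
      D.Crit 2 f' e' → ∃ j, D.NatRel (f' 0).1 j := fun f' e' h =>
    Fam.exists_natRel (ambFam_ext e hS) hB le_rfl h
  obtain ⟨s, ed, hcr, hjoint⟩ := Fam.exists_seq hB hf le_rfl hin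
  have hedge : ∀ m, D.In (s m) (ed m) ∧ D.In (s (m + 1)) (ed m) := fun m => (hcr m).1 0 (by omega)
  -- the middle `s 4`
  obtain ⟨hT', hQ', hV', hZ', hG'⟩ := fr_facts e (hedge 3).2
  obtain ⟨g', hM'⟩ := Fam.mid_of_seq hB (s := fun i => s (i + 1)) (ed := fun i => ed (i + 1))
    (fun c => by
      have := hcr (c + 1)
      simpa [add_right_comm] using this)
    (fun m hm => by
      have := hjoint (m + 1) (by omega)
      simpa [show m + 1 - 1 = m - 1 + 1 by omega] using this)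
    (fr e (s 4).1 (ed 3)) (fr_injective e _ _) hT' hQ' hV' hZ' hG'
  have hle' : p ^ (e (s 4).1).n ≤ p ^ (e (s 3).1).n :=
    (e (s 4).1).sit.le_mid_param (e (s 4).1).datum hM'
  -- the middle `s 3`
  obtain ⟨hv0k, hv1k⟩ := hedge 2
  obtain ⟨hv1k', hv2k'⟩ := hedge 3
  obtain ⟨huk, hv0ku⟩ := hedge 1
  obtain ⟨hT, hQ, hV, hZ, hG⟩ := fr_facts e hv1k
  obtain ⟨g, hM⟩ := Fam.mid_of_seq hB hcr hjoint (fr e (s 3).1 (ed 2)) (fr_injective e _ _) hT hQ hV hZ hG
  have hle : p ^ (e (s 3).1).n ≤ p ^ (e (s 2).1).n :=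
    (e (s 3).1).sit.le_mid_param (e (s 3).1).datum hM
  have h24 : p ^ (e (s 2).1).n = p ^ (e (s 4).1).n := (hcr 2).q_eq hB
  have heq : p ^ (e (s 2).1).n = p ^ (e (s 3).1).n := by omega
  rw [heq] at hM
  have hle1 : ∀ {u v : ι × Equiv.Perm (AmbSet e)} {k : Equiv.Perm (AmbSet e)}, D.In u k → D.In v k →
      D.Vv u ≤ D.Qv v := fun {u v k} hu hv => hB.le_Qv (f := fun i => if i = 0 then u else v)
    (e := fun _ => k) 1 (by omega) fun i hi => by
      obtain rfl : i = 0 := by omega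
      exact ⟨hu, hv⟩
  obtain ⟨A₁, hA₁, hVA₁⟩ := Fam.exists_maxAb_ge hv0k hv1k hv1k (hle1 hv0k hv1k)
  obtain ⟨A₂, hA₂, hVA₂⟩ := Fam.exists_maxAb_ge hv2k' hv1k' hv1k (hle1 hv2k' hv1k')
  obtain ⟨A₃, hA₃, hVA₃⟩ := Fam.exists_maxAb_ge huk hv0ku hv0k (hle1 huk hv0ku)
  obtain ⟨A₄, hA₄, hVA₄⟩ := Fam.exists_maxAb_ge hv1k hv1k hv1k (D.Vv_le _)
  refine ⟨(s 3).1, (e (s 3).1).good_of_two hM (comap_fr_le e hv1k hA₁ hVA₁) (comap_fr_le e hv1k hA₂ hVA₂)
    (comap_fr_le e hv1k hA₃ hVA₃) fun x hx => comap_fr_le e hv1k hA₄ hVA₄ ?_⟩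
  exact hV.le (mem_map_of_mem _ hx)

/-- A family without good groups has commuting modules at every distance. -/
theorem below_of_not_good (hbad : ∀ i, ¬ (e i).Good) (b : ℕ) : (ambFam e).Below b := by
  classical
  by_contra hb
  have hex : ∃ m f ed, (ambFam e).Crit m f ed := by
    simp only [Fam.Below, not_forall] at hb
    obtain ⟨m, -, f, ed, hp, hc⟩ := hb
    exact ⟨m, f, ed, hp, hc⟩
  obtain ⟨f, ed, hf⟩ := Nat.find_spec hex
  have hB : (ambFam e).Below (Nat.find hex) := fun m hm f' e' hp => not_not.1 fun h =>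
    Nat.find_min hex hm ⟨f', e', hp, h⟩
  have h0 := hf.pos hB
  generalize hbeq : Nat.find hex = c at hf hB h0
  rcases Nat.lt_trichotomy c 2 with h | h | h
  · obtain rfl : c = 1 := by omega
    exact hbad _ (good_of_crit_one e hS hB hf)
  · subst h
    obtain ⟨i, hi⟩ := good_of_crit_two e hS hB hf
    exact hbad i hi
  · exact Fam.below_three_false hB h (fun f' e' h' =>
      Fam.exists_natRel (ambFam_ext e hS) hB (by omega) h') hf

end Frame

end CfsgLib.ClassK.Push
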