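import Cfsg.Agent.Lib.ClassK.PushOrbit

/-!
The Sylow subgroup of a group that cannot be pushed up: class two and exponent `p` (four for
`p = 2`), or class three and exponent nine.
-/

set_option autoImplicit false
set_option linter.style.haveILetI false
set_option linter.unusedSectionVars false
set_option maxHeartbeats 1000000

namespace CfsgLib.ClassK.Push

open Subgroup
open scoped MatrixGroups Pointwise commutatorElement

variable {G : Type*} [Group G]

theorem commutatorElement_mul_left' (x y z : G) : ⁅x * y, z⁆ = x * ⁅y, z⁆ * x⁻¹ * ⁅x, z⁆ := by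
  simp [commutatorElement_def, mul_assoc]

theorem commutatorElement_mul_right' (x y z : G) : ⁅x, y * z⁆ = ⁅x, y⁆ * (y * ⁅x, z⁆ * y⁻¹) := by
  simp [commutatorElement_def, mul_assoc]

/-- Commutators of a group lie in a normalized subgroup if those of generators do. -/
theorem commutator_le_of_generators {K H N : Subgroup G} {X Y : Set G} (hK : K ≤ closure X)
    (hH : H ≤ closure Y) (hXn : X ⊆ normalizer (N : Set G)) (hYn : Y ⊆ normalizer (N : Set G))
    (h : ∀ x ∈ X, ∀ y ∈ Y, ⁅x, y⁆ ∈ N) : ⁅K, H⁆ ≤ N := by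
  have h1 : ∀ x ∈ X, ∀ y ∈ closure Y, ⁅x, y⁆ ∈ N := by
    intro x hx y hy
    induction hy using Subgroup.closure_induction with
    | mem y hy => exact h x hx y hy
    | one => rw [commutatorElement_one_right]; exact one_mem N
    | mul y z hy hz ihy ihz =>
      rw [commutatorElement_mul_right']
      exact mul_mem ihy ((mem_normalizer_iff.1 ((closure_le _).2 hYn hy) _).1 ihz)
    | inv y hy ihy =>
      rw [show ⁅x, y⁻¹⁆ = y⁻¹ * ⁅x, y⁆⁻¹ * y⁻¹⁻¹ by simp [commutatorElement_def, mul_assoc]]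
      exact (mem_normalizer_iff.1 (inv_mem ((closure_le _).2 hYn hy)) _).1 (inv_mem ihy)
  refine commutator_le.2 fun x hx y hy => ?_
  have hy' := hH hy
  have hx' := hK hx
  clear hx hy
  induction hx' using Subgroup.closure_induction with
  | mem x hx => exact h1 x hx y hy'
  | one => rw [commutatorElement_one_left]; exact one_mem N
  | mul x z hx hz ihx ihz =>
    rw [commutatorElement_mul_left']
    exact mul_mem ((mem_normalizer_iff.1 ((closure_le _).2 hXn hx) _).1 ihz) ihx
  | inv x hx ihx =>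
    rw [show ⁅x⁻¹, y⁆ = x⁻¹ * ⁅x, y⁆⁻¹ * x⁻¹⁻¹ by simp [commutatorElement_def, mul_assoc]]
    exact (mem_normalizer_iff.1 (inv_mem ((closure_le _).2 hXn hx)) _).1 (inv_mem ihx)

/-- The power rule in class two. -/
theorem pow_mul_of_central {x y : G} (hc : ∀ g : G, g ∈ ({x, y} : Set G) → Commute ⁅y, x⁆ g) (m : ℕ) :
    (x * y) ^ m = x ^ m * y ^ m * ⁅y, x⁆ ^ m.choose 2 := by
  set c := ⁅y, x⁆ with hcdef
  have hx : Commute c x := hc x (Set.mem_insert _ _)
  have hy : Commute c y := hc y (Set.mem_insert_of_mem _ rfl)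
  have hyx : ∀ k : ℕ, y ^ k * x = c ^ k * (x * y ^ k) := by
    intro k
    induction k with
    | zero => simp
    | succ k ih =>
      have h1 : y * x = c * x * y := by simp [c, commutatorElement_def, mul_assoc]
      calc y ^ (k + 1) * x = y ^ k * (y * x) := by rw [pow_succ]; group
        _ = y ^ k * c * (x * y) := by rw [h1]; group
        _ = c * (y ^ k * x) * y := by rw [← (hy.pow_right k).eq]; group
        _ = _ := by rw [ih]; simp only [pow_succ', mul_assoc]; rw [← pow_succ y, pow_succ']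
  induction m with
  | zero => simp
  | succ m ih =>
    have h2 : Commute (c ^ m.choose 2) (x * y) := (hx.mul_right hy).pow_left _
    calc (x * y) ^ (m + 1) = x ^ m * y ^ m * (c ^ m.choose 2 * (x * y)) := by
          rw [pow_succ, ih]; group
      _ = x ^ m * (y ^ m * x) * y * c ^ m.choose 2 := by rw [h2.eq]; group
      _ = x ^ m * (c ^ m * (x * y ^ m)) * y * c ^ m.choose 2 := by rw [hyx]
      _ = x ^ (m + 1) * y ^ (m + 1) * (c ^ m * c ^ m.choose 2) := by
          rw [((hx.pow_left m).mul_right ((hy.pow_right m).pow_left m)).eq,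
            show x ^ m * (x * y ^ m * c ^ m) * y * c ^ m.choose 2 =
              (x ^ m * x) * y ^ m * (c ^ m * y) * c ^ m.choose 2 by group, (hy.pow_left m).eq]
          simp only [pow_succ, mul_assoc]
      _ = _ := by
          rw [← pow_add, Nat.choose_succ_succ, Nat.choose_one_right]

variable [Finite G]

variable {p n : ℕ} [Fact p.Prime] {F : Type*} [Field F] [Fintype F] {S : Sylow p G} {M : Subgroup G}
  {φ : G →* Matrix.ProjectiveSpecialLinearGroup (Fin 2) F}

/-- A characteristic subgroup of `S` normal in the group is trivial. -/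
theorem NoChar.eq_bot (hd : NoChar S) {T : Subgroup G} (hT : T ≤ (S : Subgroup G))
    (hc : (T.subgroupOf (S : Subgroup G)).Characteristic) (hn : T.Normal) : T = ⊥ := by
  by_contra hne
  refine hd _ (fun hb => hne ?_) hc (by rwa [map_subgroupOf_eq_of_le hT])
  rw [← map_subgroupOf_eq_of_le hT, hb, Subgroup.map_bot]

theorem lcs_subgroupOf_characteristic (H : Subgroup G) (k : ℕ) :
    ((H.lowerCentralSeries k).subgroupOf H).Characteristic := by
  have e : H.lowerCentralSeries k = ((⊤ : Subgroup ↥H).lowerCentralSeries k).map H.subtype := by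
    rw [Subgroup.map_lowerCentralSeries, ← MonoidHom.range_eq_map, range_subtype]
  rw [e, Subgroup.subgroupOf, Subgroup.comap_map_eq_self_of_injective H.subtype_injective]
  infer_instance

theorem closurePow_subgroupOf_characteristic (H : Subgroup G) (m : ℕ) :
    ((closure {x | ∃ s ∈ H, s ^ m = x}).subgroupOf H).Characteristic := by
  have hle : closure {x | ∃ s ∈ H, s ^ m = x} ≤ H :=
    (closure_le _).2 (by rintro _ ⟨s, hs, rfl⟩; exact pow_mem hs m)
  have e : (closure {x | ∃ s ∈ H, s ^ m = x}).subgroupOf H = closure (Set.range fun s : ↥H => s ^ m) := by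
    refine map_injective H.subtype_injective ?_
    rw [map_subgroupOf_eq_of_le hle, MonoidHom.map_closure]
    congr 1
    ext x
    constructor
    · rintro ⟨s, hs, rfl⟩; exact ⟨_, ⟨⟨s, hs⟩, rfl⟩, rfl⟩
    · rintro ⟨_, ⟨s, rfl⟩, rfl⟩; exact ⟨s, s.2, rfl⟩
  rw [e]
  refine characteristic_iff_map_le.2 fun f => ?_
  rw [MonoidHom.map_closure]
  refine closure_mono ?_
  rintro _ ⟨_, ⟨s, rfl⟩, rfl⟩
  exact ⟨f s, (map_pow f s m).symm⟩

theorem normal_closurePow {Q : Subgroup G} (hQ : Q.Normal) (m : ℕ) :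
    (closure {x | ∃ y ∈ Q, y ^ m = x}).Normal := by
  refine ⟨fun x hx g => ?_⟩
  suffices h : closure {x | ∃ y ∈ Q, y ^ m = x} ≤
      (closure {x | ∃ y ∈ Q, y ^ m = x}).comap (MulAut.conj g).toMonoidHom from h hx
  refine (closure_le _).2 ?_
  rintro _ ⟨y, hy, rfl⟩
  exact subset_closure ⟨g * y * g⁻¹, hQ.conj_mem y hy g, by simp [conj_pow]⟩

/-- Powers of `S` agreeing with powers of `O_p` are trivial. -/
theorem pow_eq_one_of_noChar (hd : NoChar S) {Q : Subgroup G} (hQ : Q.Normal)
    (hQS : Q ≤ (S : Subgroup G)) (m : ℕ)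
    (h : ∀ s ∈ (S : Subgroup G), ∃ y ∈ Q, s ^ m = y ^ m) : ∀ s ∈ (S : Subgroup G), s ^ m = 1 := by
  intro s hs
  have e : closure {x | ∃ t ∈ (S : Subgroup G), t ^ m = x} = closure {x | ∃ y ∈ Q, y ^ m = x} := by
    refine le_antisymm ((closure_le _).2 ?_) (closure_mono ?_)
    · rintro _ ⟨t, ht, rfl⟩
      obtain ⟨y, hy, e⟩ := h t ht
      exact subset_closure ⟨y, hy, e.symm⟩
    · rintro _ ⟨y, hy, rfl⟩; exact ⟨y, hQS hy, rfl⟩
  have hb := hd.eq_bot ((closure_le _).2 (by rintro _ ⟨t, ht, rfl⟩; exact pow_mem ht m))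
    (closurePow_subgroupOf_characteristic (S : Subgroup G) m) (e ▸ normal_closurePow hQ m)
  exact mem_bot.1 (hb ▸ subset_closure ⟨s, hs, rfl⟩)

section AutImg

variable {Q V : Subgroup G} {q : ℕ} (hD : Datum p (S : Subgroup G) Q V q)
  (γ : MulAut ↥(S : Subgroup G))
include hD

theorem Datum.mem_autImg {a : G} : a ∈ autImg (S : Subgroup G) V γ ↔
    ∃ v : ↥(S : Subgroup G), (v : G) ∈ V ∧ (γ v : G) = a := by
  constructor
  · rintro ⟨_, ⟨v, hv, rfl⟩, rfl⟩; exact ⟨v, hv, rfl⟩
  · rintro ⟨v, hv, rfl⟩; exact mem_map_of_mem _ (mem_map_of_mem _ hv)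

theorem Datum.autImg_pow {a : G} (ha : a ∈ autImg (S : Subgroup G) V γ) : a ^ p = 1 := by
  obtain ⟨v, hv, rfl⟩ := (hD.mem_autImg γ).1 ha
  rw [← SubmonoidClass.coe_pow, ← map_pow,
    show v ^ p = 1 from Subtype.ext (by rw [SubmonoidClass.coe_pow]; exact hD.exp _ hv), map_one]
  rfl

theorem Datum.autImg_comm {a s : G} (ha : a ∈ autImg (S : Subgroup G) V γ)
    (hs : s ∈ (S : Subgroup G)) : ⁅a, s⁆ ∈ zOf (S : Subgroup G) := by
  obtain ⟨v, hv, rfl⟩ := (hD.mem_autImg γ).1 ha
  have h1 := hD.comm_mem v hv (γ.symm ⟨s, hs⟩ : ↥(S : Subgroup G)) (γ.symm ⟨s, hs⟩).2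
  have h2 : ⁅v, γ.symm ⟨s, hs⟩⁆ ∈ center ↥(S : Subgroup G) :=
    mem_center_iff.2 fun t => Subtype.ext (h1.2 t t.2)
  have h3 := (characteristic_iff_map_eq.1 (inferInstance : (center ↥(S : Subgroup G)).Characteristic) γ).le
    (mem_map_of_mem _ h2)
  rw [MulEquiv.coe_toMonoidHom, map_commutatorElement, MulEquiv.apply_symm_apply] at h3
  exact (zOf_eq_map _).le (mem_map_of_mem _ h3)

theorem Datum.autImg_index : ((S : Subgroup G) ⊓ centralizer (autImg (S : Subgroup G) V γ : Set G)).relIndex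
    (S : Subgroup G) ≤ q := by
  set Q₁ := ((Q.subgroupOf (S : Subgroup G)).map γ.toMonoidHom).map (S : Subgroup G).subtype
  have hle : Q₁ ≤ (S : Subgroup G) ⊓ centralizer (autImg (S : Subgroup G) V γ : Set G) := by
    rintro _ ⟨_, ⟨y, hy, rfl⟩, rfl⟩
    refine ⟨(γ y).2, fun a ha => ?_⟩
    obtain ⟨v, hv, rfl⟩ := (hD.mem_autImg γ).1 ha
    have : v * y = y * v := Subtype.ext (hD.V_cent hv y hy).symm
    exact congrArg Subtype.val ((map_mul γ v y).symm.trans ((congrArg γ this).trans (map_mul γ y v)))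
  refine (Nat.le_of_dvd (relIndex_pos' _ _) (relIndex_dvd_of_le_left _ hle)).trans (le_of_eq ?_)
  have : (S : Subgroup G) = (⊤ : Subgroup ↥(S : Subgroup G)).map (S : Subgroup G).subtype := by
    rw [← MonoidHom.range_eq_map, range_subtype]
  conv_lhs => rw [this]
  rw [relIndex_map_map_of_injective _ _ (S : Subgroup G).subtype_injective,
    ← Subgroup.map_top_of_surjective γ.toMonoidHom γ.surjective,
    relIndex_map_map_of_injective _ _ γ.injective, relIndex_top_right]
  exact hD.relQ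

end AutImg

namespace Sit

variable (h : Sit (F := F) S M φ n) {V : Subgroup G}
  (hD : Datum p (S : Subgroup G) (Cfsg.pCore p G) V (p ^ n))
include h hD

/-- An element of `S` outside `O_p` acting trivially on a section makes `O^p(G)` act trivially. -/
theorem residual_act {Y N : Subgroup G} [Y.Normal] [N.Normal] {e : G} (he : e ∈ (S : Subgroup G))
    (heQ : e ∉ Cfsg.pCore p G) (hact : ∀ y ∈ Y, ⁅y, e⁆ ∈ N) :
    ∀ x ∈ Cfsg.pResidual p G, ∀ y ∈ Y, ⁅y, x⁆ ∈ N := by
  set π := QuotientGroup.mk' N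
  haveI : (Y.map π).Normal := Subgroup.Normal.map inferInstance _ (QuotientGroup.mk'_surjective N)
  have key : ∀ x, x ∈ (centralizer (Y.map π : Set (G ⧸ N))).comap π ↔ ∀ y ∈ Y, ⁅y, x⁆ ∈ N := by
    intro x
    constructor
    · intro hx y hy
      rw [← QuotientGroup.eq_one_iff]
      show π ⁅y, x⁆ = 1
      rw [map_commutatorElement, commutatorElement_eq_one_iff_mul_comm]
      exact hx _ (mem_map_of_mem _ hy)
    · rintro hx _ ⟨y, hy, rfl⟩
      rw [← commutatorElement_eq_one_iff_mul_comm, ← map_commutatorElement]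
      exact (QuotientGroup.eq_one_iff _).2 (hx y hy)
  exact fun x hx => (key x).1 (h.residual_le_of_not_le_ker _ he ((key e).2 hact)
    (fun e1 => heQ ((h.mem_pCore_iff he).2 e1)) hx)

omit h in
/-- `S = A Q` and `Q = V C_Q(A)` for an image `A` of the module outside `O_p`. -/
theorem autImg_covers {γ : MulAut ↥(S : Subgroup G)}
    (hγ : ¬ autImg (S : Subgroup G) V γ ≤ Cfsg.pCore p G) :
    (S : Subgroup G) ≤ V ⊔ ((S : Subgroup G) ⊓ centralizer (autImg (S : Subgroup G) V γ : Set G)) ∧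
      (S : Subgroup G) ≤ autImg (S : Subgroup G) V γ ⊔ Cfsg.pCore p G := by
  set Q := Cfsg.pCore p G with hQ
  set A := autImg (S : Subgroup G) V γ with hA
  haveI := hD.Q_normal
  haveI := hD.V_normal
  obtain ⟨a₀, ha₀, ha₀Q⟩ := SetLike.not_le_iff_exists.1 hγ
  have hAS : A ≤ (S : Subgroup G) := map_subtype_le _
  have hZV : zOf (S : Subgroup G) ≤ V := hD.center_le
  have hVC : (S : Subgroup G) ≤ V ⊔ ((S : Subgroup G) ⊓ centralizer (A : Set G)) := by
    set CA := (S : Subgroup G) ⊓ centralizer (A : Set G)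
    have hVS : V ≤ (S : Subgroup G) := hD.V_le.trans hD.Q_le
    have h1 : p ^ n ≤ CA.relIndex V := by
      refine hD.relV.ge.trans ?_
      rw [← inf_relIndex_right CA V]
      refine Nat.le_of_dvd (relIndex_pos' _ _) (relIndex_dvd_of_le_left _ ?_)
      rintro v ⟨hvA, hv⟩
      exact hD.fix a₀ (hAS ha₀) ha₀Q ⟨hv, mem_centralizer_singleton_iff.2 (hvA.2 a₀ ha₀).symm⟩
    have h2 := relIndex_mul_relIndex CA (V ⊔ CA) _ le_sup_right (sup_le hVS inf_le_left)
    have h3 := hD.autImg_index γ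
    have h4 := h1.trans (relIndex_le_of_le' (le_sup_left (b := CA)))
    have h5 := relIndex_pos' (V ⊔ CA) (S : Subgroup G)
    have h6 := hD.one_lt
    exact relIndex_eq_one.1 (by nlinarith)
  have hSAQ : (S : Subgroup G) ≤ A ⊔ Q := by
    have hAn : A ≤ normalizer (Q : Set G) := by rw [normalizer_eq_top]; exact le_top
    have h1 : p ^ n ≤ Q.relIndex A := by
      have hZA : zOf (S : Subgroup G) ≤ A := fun z hz => by
        refine (hD.mem_autImg γ).2 ⟨γ.symm ⟨z, hz.1⟩, ?_, by simp⟩
        have hz' : (⟨z, hz.1⟩ : ↥(S : Subgroup G)) ∈ center ↥(S : Subgroup G) :=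
          mem_center_iff.2 fun t => Subtype.ext (hz.2 t t.2)
        exact hZV ((zOf_eq_map _).le (mem_map_of_mem _
          ((characteristic_iff_map_eq.1 (inferInstance : (center ↥(S : Subgroup G)).Characteristic) γ.symm).le
            (mem_map_of_mem _ hz'))))
      have hAQZ : Q ⊓ A ≤ zOf (S : Subgroup G) := by
        rintro x ⟨hxQ, hxA⟩
        obtain ⟨v, hv, rfl⟩ := (hD.mem_autImg γ).1 hxA
        refine ⟨(γ v).2, fun s hs => ?_⟩
        obtain ⟨w, hw, c, hc, rfl⟩ := mem_sup_of_normal_left.1 (hVC hs)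
        exact ((show Commute w (γ v : G) from (hD.V_cent hw _ hxQ).symm).mul_left
          (show Commute c (γ v : G) from (hc.2 _ hxA).symm)).eq
      have hrel : (zOf (S : Subgroup G)).relIndex A = p ^ n := by
        have e1 : zOf (S : Subgroup G) =
            ((center ↥(S : Subgroup G)).map γ.toMonoidHom).map (S : Subgroup G).subtype := by
          rw [characteristic_iff_map_eq.1 (inferInstance : (center ↥(S : Subgroup G)).Characteristic) γ,
            zOf_eq_map]
        rw [e1, hA, autImg, relIndex_map_map_of_injective _ _ (S : Subgroup G).subtype_injective,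
          relIndex_map_map_of_injective _ _ γ.injective,
          ← relIndex_map_map_of_injective _ _ (S : Subgroup G).subtype_injective, zOf_eq_map,
          map_subgroupOf_eq_of_le (hD.V_le.trans hD.Q_le), hD.relV]
      rw [← inf_relIndex_right, ← hrel]
      exact Nat.le_of_dvd (relIndex_pos' _ _) (relIndex_dvd_of_le_left _ hAQZ)
    have h2 := relIndex_mul_relIndex Q (A ⊔ Q) _ le_sup_right (sup_le hAS hD.Q_le)
    rw [hD.relQ] at h2
    have h4 := h1.trans (relIndex_le_of_le' (le_sup_left (b := Q)))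
    have h5 := relIndex_pos' (A ⊔ Q) (S : Subgroup G)
    have h6 := hD.one_lt
    exact relIndex_eq_one.1 (by nlinarith)
  exact ⟨hVC, hSAQ⟩

/-- Distance one: class two, and `O^p(G)` is trivial on `O_p(G)/V`. -/
theorem caseOne (hd : NoChar S) {γ : MulAut ↥(S : Subgroup G)}
    (hγ : ¬ autImg (S : Subgroup G) V γ ≤ Cfsg.pCore p G) :
    (∀ x ∈ Cfsg.pResidual p G, ∀ y ∈ Cfsg.pCore p G, ⁅y, x⁆ ∈ V) ∧
      (S : Subgroup G).lowerCentralSeries 2 = ⊥ ∧ (S : Subgroup G).lowerCentralSeries 1 ≠ ⊥ ∧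
      (p = 2 → Monoid.exponent ↥(S : Subgroup G) = 4) ∧
      (p ≠ 2 → Monoid.exponent ↥(S : Subgroup G) = p) := by
  set Q := Cfsg.pCore p G with hQ
  set A := autImg (S : Subgroup G) V γ with hA
  haveI := hD.Q_normal
  haveI := hD.V_normal
  obtain ⟨a₀, ha₀, ha₀Q⟩ := SetLike.not_le_iff_exists.1 hγ
  have hAS : A ≤ (S : Subgroup G) := map_subtype_le _
  have hZV : zOf (S : Subgroup G) ≤ V := hD.center_le
  have hAQ : ∀ y ∈ Q, ⁅y, a₀⁆ ∈ V := fun y hy => by
    rw [← commutatorElement_inv]; exact inv_mem (hZV (hD.autImg_comm γ ha₀ (hD.Q_le hy)))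
  have hLQ := h.residual_act hD (hAS ha₀) ha₀Q hAQ
  obtain ⟨hVC, hSAQ⟩ := autImg_covers hD hγ
  have hsplit : ∀ y ∈ Q, ∃ v ∈ V, ∃ d ∈ Q ⊓ centralizer (A : Set G), y = v * d := by
    intro y hy
    obtain ⟨v, hv, d, hd', rfl⟩ := mem_sup_of_normal_left.1 (hVC (hD.Q_le hy))
    exact ⟨v, hv, d, ⟨by simpa using mul_mem (inv_mem (hD.V_le hv)) hy, hd'.2⟩, rfl⟩
  set X := ⁅Q, Q⁆ with hX
  have hXA : ∀ x ∈ X, ∀ a ∈ A, a * x = x * a := by
    have hle : X ≤ centralizer (A : Set G) := commutator_le.2 fun y hy y' hy' => by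
      obtain ⟨v, hv, d, hd', rfl⟩ := hsplit y hy
      obtain ⟨v', hv', d', hd'', rfl⟩ := hsplit y' hy'
      have e1 : ⁅v * d, v' * d'⁆ = ⁅d, d'⁆ := by
        have h1 : Commute v (v' * d') := (hD.V_cent hv _ hy').symm
        have h2 : Commute v ⁅d, v' * d'⁆ := (hD.V_cent hv _
          (commutator_le_self Q (commutator_mem_commutator hd'.1 hy'))).symm
        have h3 : Commute v' ⁅d, d'⁆ := (hD.V_cent hv' _
          (commutator_le_self Q (commutator_mem_commutator hd'.1 hd''.1))).symm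
        have h4 : Commute d v' := hD.V_cent hv' d hd'.1
        rw [commutatorElement_mul_left', commutatorElement_eq_one_iff_mul_comm.2 h1.eq, mul_one, h2.eq,
          mul_inv_cancel_right, commutatorElement_mul_right', commutatorElement_eq_one_iff_mul_comm.2 h4.eq,
          one_mul, h3.eq, mul_inv_cancel_right]
      rw [e1]
      exact mul_mem (mul_mem (mul_mem hd'.2 hd''.2) (inv_mem hd'.2)) (inv_mem hd''.2)
    exact fun x hx a ha => hle hx a ha
  -- commutators of `S`
  have hAn : ∀ y ∈ (S : Subgroup G), ∀ a ∈ A, y * a * y⁻¹ * a⁻¹ ∈ zOf (S : Subgroup G) := by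
    intro y hy a ha
    rw [show y * a * y⁻¹ * a⁻¹ = ⁅a, y⁆⁻¹ by simp [commutatorElement_def, mul_assoc]]
    exact inv_mem (hD.autImg_comm γ ha hy)
  have hnZ : (S : Subgroup G) ≤ normalizer (zOf (S : Subgroup G) : Set G) := fun y hy =>
    mem_normalizer_iff.2 fun z => ⟨fun hz => by rwa [conj_mem_of_mem_zOf hy hz], fun hz => by
      have := conj_mem_of_mem_zOf (inv_mem hy) hz
      rw [inv_inv, show y⁻¹ * (y * z * y⁻¹) * y = z by group] at this
      rwa [this]⟩
  have hSn : (A : Set G) ∪ Q ⊆ normalizer ((zOf (S : Subgroup G) ⊔ X : Subgroup G) : Set G) :=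
    fun y hy => CfsgLib.Comp.le_normalizer_sup hnZ (by rw [normalizer_eq_top]; exact le_top)
      (hy.elim (fun h => hAS h) fun h => hD.Q_le h)
  have hgenS : (S : Subgroup G) ≤ closure ((A : Set G) ∪ Q) := hSAQ.trans (sup_eq_closure A Q).le
  have h2 : ⁅(S : Subgroup G), (S : Subgroup G)⁆ ≤ zOf (S : Subgroup G) ⊔ X := by
    refine commutator_le_of_generators hgenS hgenS hSn hSn ?_
    rintro x (hx | hx) y hy
    · exact mem_sup_left (hD.autImg_comm γ hx (hy.elim (fun h => hAS h) fun h => hD.Q_le h))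
    · rcases hy with hy | hy
      · rw [← commutatorElement_inv]; exact mem_sup_left (inv_mem (hD.autImg_comm γ hy (hD.Q_le hx)))
      · exact mem_sup_right (commutator_mem_commutator hx hy)
  have h3 : ⁅⁅(S : Subgroup G), (S : Subgroup G)⁆, (S : Subgroup G)⁆ ≤ ⁅X, Q⁆ := by
    refine commutator_le_of_generators (X := (zOf (S : Subgroup G) : Set G) ∪ X) (Y := (A : Set G) ∪ Q)
      (h2.trans (sup_eq_closure _ _).le) hgenS
      (fun _ _ => by rw [normalizer_eq_top]; trivial) (fun _ _ => by rw [normalizer_eq_top]; trivial) ?_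
    rintro x (hx | hx) y hy
    · rw [commutatorElement_eq_one_iff_mul_comm.2 (hx.2 y (hy.elim (fun h => hAS h) fun h => hD.Q_le h)).symm]
      exact one_mem _
    · rcases hy with hy | hy
      · rw [commutatorElement_eq_one_iff_mul_comm.2 (hXA x hx y hy).symm]; exact one_mem _
      · exact commutator_mem_commutator hx hy
  have hlcs : ∀ H : Subgroup G, H.lowerCentralSeries 2 = ⁅⁅H, H⁆, H⁆ := fun H => by
    rw [Subgroup.lowerCentralSeries_succ, Subgroup.lowerCentralSeries_succ, Subgroup.lowerCentralSeries_zero]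
  have hclass : (S : Subgroup G).lowerCentralSeries 2 = ⊥ := by
    have e : (S : Subgroup G).lowerCentralSeries 2 = ⁅X, Q⁆ := by
      rw [hlcs]
      exact le_antisymm h3 (commutator_mono (commutator_mono hD.Q_le hD.Q_le) hD.Q_le)
    refine hd.eq_bot ?_ (lcs_subgroupOf_characteristic (S : Subgroup G) 2) (e ▸ inferInstance)
    rw [hlcs]
    exact commutator_le.2 fun x hx y hy => mul_mem (mul_mem (mul_mem (commutator_le_self _ hx) hy)
      (inv_mem (commutator_le_self _ hx))) (inv_mem hy)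
  have hcent : ∀ x ∈ (S : Subgroup G), ∀ y ∈ (S : Subgroup G), ∀ z ∈ (S : Subgroup G),
      Commute ⁅x, y⁆ z := by
    intro x hx y hy z hz
    refine commutatorElement_eq_one_iff_mul_comm.1 (mem_bot.1 (hclass ▸ ?_))
    rw [hlcs]
    exact commutator_mem_commutator (commutator_mem_commutator hx hy) hz
  have hp : p.Prime := Fact.out
  have hne : (S : Subgroup G).lowerCentralSeries 1 ≠ ⊥ := by
    intro hb
    obtain ⟨v, hv, hvC⟩ := SetLike.not_le_iff_exists.1 (show ¬ V ≤ zOf (S : Subgroup G) from fun hle => by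
      have := hD.relV; rw [relIndex_eq_one.2 hle] at this; exact hD.one_lt.ne this)
    refine hvC (hD.fix a₀ (hAS ha₀) ha₀Q ⟨hv, mem_centralizer_singleton_iff.2 ?_⟩)
    refine commutatorElement_eq_one_iff_mul_comm.1 (mem_bot.1 (hb ▸ ?_))
    rw [Subgroup.lowerCentralSeries_succ, Subgroup.lowerCentralSeries_zero]
    exact commutator_mem_commutator (hD.Q_le (hD.V_le hv)) (hAS ha₀)
  have hpow : ∀ m : ℕ, p ∣ m → p ∣ m.choose 2 → ∀ s ∈ (S : Subgroup G), s ^ m = 1 := by
    intro m hm hm2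
    refine pow_eq_one_of_noChar hd hD.Q_normal hD.Q_le m fun s hs => ?_
    obtain ⟨y, hy, a, ha, rfl⟩ := mem_sup_of_normal_left.1 ((sup_comm A Q).le (hSAQ hs))
    refine ⟨y, hy, ?_⟩
    rw [pow_mul_of_central (fun g hg => hcent a (hAS ha) y (hD.Q_le hy) g (by
      rcases hg with rfl | rfl
      · exact hD.Q_le hy
      · exact hAS ha))]
    obtain ⟨k, rfl⟩ := hm
    obtain ⟨l, hl⟩ := hm2
    rw [hl, pow_mul a p, hD.autImg_pow γ ha, one_pow, mul_one, pow_mul ⁅a, y⁆,
      hD.exp _ (hZV (hD.autImg_comm γ ha (hD.Q_le hy))), one_pow, mul_one]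
  refine ⟨hLQ, hclass, hne, fun hp2 => ?_, fun hp2 => ?_⟩
  · subst hp2
    have h4 : Monoid.exponent ↥(S : Subgroup G) ∣ 4 := Monoid.exponent_dvd_of_forall_pow_eq_one fun s =>
      Subtype.ext (by simpa using hpow 4 (by norm_num) (by decide) s s.2)
    obtain ⟨i, hi, he⟩ := (Nat.dvd_prime_pow Nat.prime_two (i := _) (m := 2)).1 h4
    interval_cases i
    · exact absurd he (fun he => hne (by
        haveI : Subsingleton ↥(S : Subgroup G) := Monoid.exp_eq_one_iff.1 he
        rw [Subgroup.lowerCentralSeries_succ, Subgroup.lowerCentralSeries_zero,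
          commutator_eq_bot_iff_le_centralizer]
        exact fun x hx y hy => congrArg Subtype.val (Subsingleton.elim
          ((⟨y, hy⟩ : ↥(S : Subgroup G)) * ⟨x, hx⟩) (⟨x, hx⟩ * ⟨y, hy⟩))))
    · refine absurd he (fun he => hne ?_)
      rw [Subgroup.lowerCentralSeries_succ, Subgroup.lowerCentralSeries_zero,
        commutator_eq_bot_iff_le_centralizer]
      intro x hx y hy
      exact congrArg Subtype.val ((mul_comm_of_exponent_two (by simpa using he))
        (⟨y, hy⟩ : ↥(S : Subgroup G)) ⟨x, hx⟩)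
    · simpa using he
  · have h4 : Monoid.exponent ↥(S : Subgroup G) ∣ p := Monoid.exponent_dvd_of_forall_pow_eq_one fun s =>
      Subtype.ext (by
        simpa using hpow p dvd_rfl (hp.dvd_choose_self two_ne_zero
          (lt_of_le_of_ne hp.two_le (Ne.symm hp2))) s s.2)
    rcases (Nat.dvd_prime hp).1 h4 with he | he
    · refine absurd he (fun he => hne ?_)
      haveI : Subsingleton ↥(S : Subgroup G) := Monoid.exp_eq_one_iff.1 he
      rw [Subgroup.lowerCentralSeries_succ, Subgroup.lowerCentralSeries_zero,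
        commutator_eq_bot_iff_le_centralizer]
      exact fun x hx y hy => congrArg Subtype.val (Subsingleton.elim
        ((⟨y, hy⟩ : ↥(S : Subgroup G)) * ⟨x, hx⟩) (⟨x, hx⟩ * ⟨y, hy⟩))
    · exact he

end Sit

end CfsgLib.ClassK.Push
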