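import Cfsg.Agent.Lib.ClassK.PushPairOff
import Cfsg.Agent.Lib.ClassK.PushStruct
import Cfsg.Agent.Lib.Coprime.Action

/-!
In a family of pushing-up groups the group at the end of a critical path moves the sum of its module
and some neighbouring module.
-/

set_option autoImplicit false
set_option linter.style.haveILetI false
set_option linter.unusedSectionVars false
set_option maxHeartbeats 1000000

namespace CfsgLib.ClassK.Push

open Subgroup
open scoped Pointwise commutatorElement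

variable {P : Type*} [Group P] {ι : Type*}

theorem le_normalizer_commutator {H A B : Subgroup P} (hA : H ≤ normalizer (A : Set P))
    (hB : H ≤ normalizer (B : Set P)) : H ≤ normalizer ((⁅A, B⁆ : Subgroup P) : Set P) := fun h hh =>
  CfsgLib.Comp.map_conj_eq_iff.1 (by
    rw [Subgroup.map_commutator, CfsgLib.Comp.map_conj_eq_iff.2 (hA hh),
      CfsgLib.Comp.map_conj_eq_iff.2 (hB hh)])

/-- A coprime element fixes a representative of every coset it fixes. -/
theorem exists_fixed_mul [Finite P] {p : ℕ} [Fact p.Prime] {X N : Subgroup P} (hX : IsPGroup p X)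
    (hNX : N ≤ X) {n : P} (hn : n ∈ normalizer (X : Set P)) (hnN : n ∈ normalizer (N : Set P))
    (hcop : (orderOf n).Coprime p) (h : ∀ x ∈ X, ⁅x, n⁆ ∈ N) :
    ∀ x ∈ X, ∃ c ∈ X, ∃ m ∈ N, c * n = n * c ∧ x = c * m := by
  intro x hx
  obtain ⟨j, hj⟩ := hX.exists_card_eq
  have hco : (Nat.card (zpowers n)).Coprime (Nat.card X) := by
    rw [Nat.card_zpowers, hj]; exact hcop.pow_right _
  let M : Subgroup P :=
    { carrier := {y | y ∈ normalizer (N : Set P) ∧ x⁻¹ * y * x * y⁻¹ ∈ N}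
      one_mem' := ⟨one_mem _, by simp⟩
      mul_mem' := fun {a b} ha hb => ⟨mul_mem ha.1 hb.1, by
        have h1 := mul_mem ha.2 ((mem_normalizer_iff.1 ha.1 _).1 hb.2)
        convert h1 using 1; group⟩
      inv_mem' := fun {a} ha => ⟨inv_mem ha.1, by
        have h1 := inv_mem ((mem_normalizer_iff.1 (inv_mem ha.1) _).1 ha.2)
        convert h1 using 1; group⟩ }
  have hnM : n ∈ M := ⟨hnN, by
    have := h x⁻¹ (inv_mem hx)
    rwa [commutatorElement_def, inv_inv] at this⟩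
  obtain ⟨m, hm, hc⟩ := Coprime.exists_mem_centralizer_of_coset (zpowers_le.2 hn) (zpowers_le.2 hnN)
    hNX hco (Or.inl (Group.isSolvable_of_comm fun a b => mul_comm' a b)) hx
    fun a ha => (zpowers_le.2 hnM ha).2
  exact ⟨x * m, mul_mem hx (hNX hm), m⁻¹, inv_mem hm, (hc n (mem_zpowers n)).symm, by group⟩

namespace Fam

variable [Finite P] {p : ℕ} {q : ι → ℕ} {D : Fam P ι p q}

/-- The group at `v` normalizes its module times each neighbouring module. -/
def Immobile (D : Fam P ι p q) (v : ι × P) : Prop :=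
  ∀ w k, D.In v k → D.In w k → D.Gv v ≤ normalizer ((D.Vv v ⊔ D.Vv w : Subgroup P) : Set P)

theorem immobile_of_not {v : ι × P} (h : ¬ ∃ j, D.NatRel v.1 j) : D.Immobile v := fun w k hv hw =>
  (natRel_edge hv hw).2 fun hj => h ⟨w.1, hj⟩

/-- The inverting element at a vertex. -/
theorem inv_edge (hX : D.Ext) (hp : p ≠ 2) {v : ι × P} {k : P} (hk : D.In v k) :
    ∃ n ∈ D.Gv v, n ∈ normalizer (D.Sv k : Set P) ∧ (orderOf n).Coprime p ∧
      (∀ s ∈ D.Sv k, ⁅s, n⁆ ∈ D.Qv v) ∧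
      ∀ x ∈ D.Vv v, n * x * n⁻¹ * x ∈ centralizer (D.Gv v : Set P) := by
  obtain ⟨n, hn, hnS, hno, hc, hinv⟩ := hX.inv hp v.1
  refine ⟨k * n * k⁻¹, (Gv_eq hk).ge (conj_mem_cj hn), ?_, ?_, ?_, ?_⟩
  · exact Subgroup.le_normalizer_map _ (mem_map_of_mem (MulAut.conj k).toMonoidHom hnS)
  · have : orderOf ((MulAut.conj k).toMonoidHom n) = orderOf n :=
      orderOf_injective _ (MulAut.conj k).injective n
    exact this.symm ▸ hno
  · rintro _ ⟨s, hs, rfl⟩
    show ⁅k * s * k⁻¹, k * n * k⁻¹⁆ ∈ D.Qv v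
    rw [commutatorElement_conj, Qv_eq hk]
    exact conj_mem_cj (hc s hs)
  · intro x hx
    rw [Vv_eq hk] at hx
    obtain ⟨x₀, hx₀, rfl⟩ := hx
    rw [Gv_eq hk]
    rintro _ ⟨y, hy, rfl⟩
    show k * y * k⁻¹ * _ = _ * (k * y * k⁻¹)
    have h := hinv x₀ hx₀ y hy
    calc k * y * k⁻¹ * (k * n * k⁻¹ * (k * x₀ * k⁻¹) * (k * n * k⁻¹)⁻¹ * (k * x₀ * k⁻¹))
        = k * (y * (n * x₀ * n⁻¹ * x₀)) * k⁻¹ := by group
      _ = k * (n * x₀ * n⁻¹ * x₀ * y) * k⁻¹ := by rw [h]
      _ = _ := by simp [mul_assoc]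

theorem conj_fix {H : Subgroup P} {r g : P} (hr : r ∈ centralizer (H : Set P)) (hg : g ∈ H) :
    g⁻¹ * r * g = r := by
  rw [mul_assoc, ← hr g hg, inv_mul_cancel_left]

section End

variable (hX : D.Ext) {b : ℕ} (hB : D.Below b) (hb : 2 ≤ b) {f : ℕ → ι × P} {e : ℕ → P}
  (hf : D.Crit b f e) (him : D.Immobile (f 0))
include hX hB hb hf him

/-- No immobile end when the opposite conjugates of its module commute. -/
theorem end_abelian_false
    (hab : ∀ g, D.Opp (f 1) (e 0) g → D.Vv (f 0) ≤ centralizer (cj g (D.Vv (f 0)) : Set P)) :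
    False := by
  classical
  obtain ⟨h0, h1⟩ := hf.1 0 (by omega)
  set v0 := f 0 with hv0
  set v1 := f 1 with hv1
  set k0 := e 0 with hk0
  have hp1 : ∀ {m : ℕ}, m ≤ b → D.Path f e m := fun hm i hi => hf.1 i (by omega)
  have hVQ : D.Vv v0 ≤ D.Qv v1 := hB.le_Qv 1 (by omega) (hp1 (by omega))
  have hV1Q : D.Vv v1 ≤ D.Qv v0 := by
    have := hB.le_Qv (f := fun i => f (1 - i)) (e := fun i => e (1 - 1 - i)) 1 (by omega)
      (hp1 (m := 1) (by omega)).reverse
    simpa using this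
  have hnr : ¬ D.Gv v1 ≤ normalizer ((D.Vv v1 ⊔ D.Vv v0 : Subgroup P) : Set P) :=
    (natRel_iff h1 h0).1 (hf.natRel hB hb)
  have hR := fixed_comm hX h1 h0 hVQ hab hnr
  have hR' : ∀ g, g ∈ D.Gv v1 → ∀ x ∈ cj g (D.Vv v0), ∀ s ∈ D.Sv (g * k0),
      ⁅x, s⁆ ∈ centralizer (D.Gv v1 : Set P) := by
    rintro g hg _ ⟨x, hx, rfl⟩ s hs
    rw [Sv_mul] at hs
    obtain ⟨s, hs, rfl⟩ := hs
    show ⁅g * x * g⁻¹, g * s * g⁻¹⁆ ∈ _
    rw [commutatorElement_conj, conj_eq_of_centralizer (hR x hx s hs) hg]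
    exact hR x hx s hs
  obtain ⟨a, ha, haS, haQ⟩ := hf.exists_not_mem hB
  obtain ⟨h, hh, hhne⟩ := exists_Opp h0
  have h0k : D.In v0 (h * k0) := In_smul h0 hh
  set vm : ι × P := (v1.1, h * v1.2) with hvm
  have hmk : D.In vm (h * k0) := In_translate h h1
  have hVm : D.Vv vm ≤ D.Vv v0 ⊔ D.Vv v1 := by
    rw [hvm, Vv_translate]
    refine (cj_mono le_sup_right).trans (cj_eq_self ?_).le
    exact him v1 k0 h0 h1 hh
  have hgen0 : D.Gv v0 ≤ D.Sv (h * k0) ⊔ zpowers a := gen_edge h0k h0 hhne.symm haS haQ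
  -- the deep conjugates lie in every vertex of the path
  have claim : ∀ g, D.Opp v1 k0 g → ∀ j, j + 1 ≤ b → cj h (cj g (D.Vv v0)) ≤ D.Qv (f j) := by
    intro g hg j
    have hxm : cj h (cj g (D.Vv v0)) ≤ D.Qv vm := by
      rw [hvm, Qv_translate]
      exact cj_mono ((cj_mono hVQ).trans (cj_eq_self (D.Qv_norm v1 hg.1)).le)
    induction j with
    | zero =>
      intro _ x hx
      refine mem_Qv_of_commute h0k (Qv_le hmk (hxm hx)) fun w hw => ?_
      obtain ⟨x₀, hx₀, rfl⟩ := hx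
      have hw' : h⁻¹ * w * h ∈ D.Vv v0 := by
        have := (mem_normalizer_iff.1 (D.Vv_norm v0 (inv_mem hh)) w).1 hw
        simpa using this
      have h2 := hab g hg hw' x₀ hx₀
      show w * (h * x₀ * h⁻¹) = h * x₀ * h⁻¹ * w
      calc w * (h * x₀ * h⁻¹) = h * (h⁻¹ * w * h * x₀) * h⁻¹ := by group
        _ = h * (x₀ * (h⁻¹ * w * h)) * h⁻¹ := by rw [h2]
        _ = _ := by group
    | succ j ih =>
      intro hj x hx
      obtain ⟨hj0, hj1⟩ := hf.1 j (by omega)
      have hxS : x ∈ D.Sv (e j) := Qv_le hj0 (ih (by omega) hx)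
      refine mem_Qv_of_commute hj1 hxS fun w hw => ?_
      set r := ⁅x, w⁆ with hr
      have hrV : r ∈ D.Vv (f (j + 1)) := by
        rw [hr, commutatorElement_def]
        exact mul_mem ((mem_normalizer_iff.1 (D.Vv_norm _ (Sv_le hj1 hxS)) w).1 hw) (inv_mem hw)
      have hra : a * r = r * a := by
        have hm : D.Vv (f (j + 1)) ≤ centralizer (D.Vv (f b) : Set P) := by
          have := hB.commute (s := f) (e := e) (c := j + 1) (m := b - (j + 1))
            (fun i hi => hf.1 (j + 1 + i) (by omega)) (by omega)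
          rwa [show j + 1 + (b - (j + 1)) = b by omega] at this
        exact hm hrV a ha
      have hwm : w ∈ D.Qv vm := by
        have hw0 : w ∈ D.Qv v0 := by
          have := hB.le_Qv (f := fun i => f (j + 1 - i)) (e := fun i => e (j + 1 - 1 - i)) (j + 1)
            (by omega) (hp1 (m := j + 1) (by omega)).reverse
          simp only [Nat.sub_zero, Nat.sub_self] at this
          exact this hw
        refine mem_Qv_of_commute hmk (Qv_le h0k hw0) fun z hz => ?_
        have hc : w ∈ centralizer ((D.Vv v0 ⊔ D.Vv v1 : Subgroup P) : Set P) := by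
          refine mem_centralizer_sup (fun y hy => ?_) fun y hy => ?_
          · exact (hB (j + 1) (by omega) f e (hp1 (by omega)) hy w hw).symm
          · have := hB.commute (s := f) (e := e) (c := 1) (m := j)
              (fun i hi => hf.1 (1 + i) (by omega)) (by omega)
            rw [Nat.add_comm 1 j] at this
            exact (this hy w hw).symm
        exact hc z (hVm hz)
      have hx0 : h⁻¹ * x * h ∈ cj g (D.Vv v0) := by rw [mem_cj] at hx; exact hx
      have hw0' : h⁻¹ * w * h ∈ D.Qv v1 := by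
        rw [hvm, Qv_translate, mem_cj] at hwm; exact hwm
      have hk1 := In_smul h1 hg.1
      set r₀ := ⁅h⁻¹ * x * h, h⁻¹ * w * h⁆ with hr₀
      have hr0 : r₀ ∈ centralizer (D.Gv v1 : Set P) := hR' g hg.1 _ hx0 _ (Qv_le hk1 hw0')
      have hrr : r = h * r₀ * h⁻¹ := by
        rw [hr₀, ← commutatorElement_conj, hr]
        group
      have hrG0 : r ∈ centralizer (D.Gv v0 : Set P) := by
        refine centralizer_le hgen0 (mem_centralizer_sup (fun s hs => ?_) fun y hy => ?_)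
        · have hs' : h⁻¹ * s * h ∈ D.Gv v1 := by
            rw [SetLike.mem_coe, Sv_mul, mem_cj] at hs; exact Sv_le h1 hs
          have h2 := hr0 _ hs'
          rw [hrr]
          calc s * (h * r₀ * h⁻¹) = h * (h⁻¹ * s * h * r₀) * h⁻¹ := by group
            _ = h * (r₀ * (h⁻¹ * s * h)) * h⁻¹ := by rw [h2]
            _ = _ := by group
        · obtain ⟨i, rfl⟩ := hy
          exact ((show Commute a r from hra).zpow_left i).eq
      have hr0r : r₀ = r := by
        have := conj_fix hrG0 hh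
        rw [hrr] at this
        rw [hrr, ← this]
        group
      rw [hr0r] at hr0
      have h3 := conj_fix hr0 hg.1
      have hx00 : g⁻¹ * (h⁻¹ * x * h) * g ∈ D.Vv v0 := mem_cj.1 hx0
      have hw00 : g⁻¹ * (h⁻¹ * w * h) * g ∈ D.Sv k0 := Qv_le h1 (by
        have := (mem_normalizer_iff.1 (D.Qv_norm v1 (inv_mem hg.1)) _).1 hw0'
        simpa using this)
      have h4 : ⁅g⁻¹ * (h⁻¹ * x * h) * g, g⁻¹ * (h⁻¹ * w * h) * g⁆ = r := by
        have := commutatorElement_conj g⁻¹ (h⁻¹ * x * h) (h⁻¹ * w * h)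
        simp only [inv_inv] at this
        rw [this, ← hr₀, hr0r, h3]
      have h5 := comm_fix_edge h0 hx00 hw00 (h4.symm ▸ hrG0)
      rw [h4] at h5
      exact (commutatorElement_eq_one_iff_mul_comm.1 h5).symm
  -- the sum of the opposite conjugates is normal in both groups
  set P1 : Subgroup P := D.Vv v0 ⊔ ⨆ g : {g // D.Opp v1 k0 g}, cj (g : P) (D.Vv v0) with hP1
  have hSP1 : D.Sv k0 ≤ normalizer (P1 : Set P) := by
    intro s hs
    refine CfsgLib.Comp.map_conj_eq_iff.1 (eq_of_le_of_card_ge ?_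
      (card_map_of_injective (MulAut.conj s).injective).ge)
    rw [hP1, Subgroup.map_sup, Subgroup.map_iSup]
    refine sup_le (le_of_eq_of_le (cj_eq_self (D.Vv_norm _ (Sv_le h0 hs))) le_sup_left)
      (iSup_le fun g => ?_)
    show cj s (cj (g : P) (D.Vv v0)) ≤ _
    rw [← cj_mul]
    exact (le_iSup (fun g : {g // D.Opp v1 k0 g} => cj (g : P) (D.Vv v0))
      ⟨s * g, g.2.smul h1 hs⟩).trans le_sup_right
  have haP : a ∈ normalizer (cj h P1 : Set P) := by
    refine CfsgLib.Comp.map_conj_eq_iff.1 (eq_of_le_of_card_ge ?_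
      (card_map_of_injective (MulAut.conj a).injective).ge)
    have hcjh : cj h P1 = D.Vv v0 ⊔ ⨆ g : {g // D.Opp v1 k0 g}, cj h (cj (g : P) (D.Vv v0)) := by
      rw [hP1, cj, Subgroup.map_sup, Subgroup.map_iSup]
      exact congrArg₂ (· ⊔ ·) (cj_eq_self (D.Vv_norm _ hh)) rfl
    have hV0a : a ∈ normalizer (D.Vv v0 : Set P) := D.Vv_norm _ (Sv_le h0 haS)
    show (cj h P1).map _ ≤ cj h P1
    rw [hcjh, Subgroup.map_sup, Subgroup.map_iSup]
    refine sup_le (le_of_eq_of_le (cj_eq_self hV0a) le_sup_left) (iSup_le fun g => ?_)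
    rintro _ ⟨y, hy, rfl⟩
    have hlast := hf.1 (b - 1) (by omega)
    have hyS : y ∈ D.Sv (e (b - 1)) := Qv_le hlast.1 (claim g g.2 (b - 1) (by omega) hy)
    have hVn : D.Vv v0 ≤ normalizer (D.Qv (f b) : Set P) := by
      rw [Nat.sub_add_cancel (by omega)] at hlast
      exact (hf.le_last hB).trans ((Sv_le hlast.2).trans (D.Qv_norm _))
    obtain ⟨c, hc, v, hv, hcv⟩ := CfsgLib.Comp.exists_mul_of_mem_sup hVn
      (by rw [sup_comm]; exact hf.cover hB hyS)
    have hac : a * c = c * a := (D.Vv_cent _ ha c hc).symm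
    show a * y * a⁻¹ ∈ _
    have e1 : a * y * a⁻¹ = y * (v⁻¹ * (a * v * a⁻¹)) := by
      rw [← hcv, ← mul_assoc a, hac]; group
    rw [e1]
    exact mul_mem (mem_sup_right ((le_iSup (fun g : {g // D.Opp v1 k0 g} =>
      cj h (cj (g : P) (D.Vv v0))) g) hy))
      (mem_sup_left (mul_mem (inv_mem hv) ((mem_normalizer_iff.1 hV0a v).1 hv)))
  have hG0 : D.Gv v0 ≤ normalizer (cj h P1 : Set P) := hgen0.trans (sup_le
    (by rw [Sv_mul]; exact cj_le_normalizer_cj h hSP1) (zpowers_le.2 haP))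
  have hP1h : cj h P1 = P1 := by
    have := cj_eq_self (hG0 (inv_mem hh))
    rw [← cj_mul, inv_mul_cancel] at this
    rw [← this, show cj (1 : P) P1 = P1 from cj_eq_self (one_mem _)]
  rw [hP1h] at hG0
  -- `Q0 ∩ Q1`
  set Dd := D.Qv v0 ⊓ D.Qv v1 with hDd
  have hDeq : Dd = D.Qv v0 ⊓ centralizer ((D.Vv v0 ⊔ D.Vv v1 : Subgroup P) : Set P) := by
    refine le_antisymm (fun u hu => ⟨hu.1, mem_centralizer_sup
      (fun y hy => (D.Vv_cent v0 hy u hu.1).symm) (fun y hy => (D.Vv_cent v1 hy u hu.2).symm)⟩)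
      (fun u hu => ⟨hu.1, mem_Qv_of_commute h1 (Qv_le h0 hu.1) fun w hw =>
        hu.2 w (mem_sup_right hw)⟩)
  have hDn : D.Gv v0 ≤ normalizer (Dd : Set P) := by
    rw [hDeq]
    exact (le_inf (D.Qv_norm v0) (CfsgLib.Comp.le_normalizer_centralizer (him v1 k0 h0 h1))).trans
      Subgroup.inf_normalizer_le_normalizer_inf
  have hN0 : ⁅P1, Dd⁆ ≤ centralizer (D.Gv v1 : Set P) := by
    have hP1G : ∀ g : {g // D.Opp v1 k0 g}, cj (g : P) (D.Vv v0) ≤ D.Qv v1 := fun g =>
      (cj_mono hVQ).trans (cj_eq_self (D.Qv_norm v1 g.2.1)).le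
    have hQn : D.Qv v1 ≤ normalizer ((centralizer (D.Gv v1 : Set P) : Subgroup P) : Set P) :=
      ((Qv_le h1).trans (Sv_le h1)).trans
        (CfsgLib.Comp.le_normalizer_centralizer Subgroup.le_normalizer)
    refine commutator_le_of_generators
      (X := (D.Vv v0 : Set P) ∪ ⋃ g : {g // D.Opp v1 k0 g}, (cj (g : P) (D.Vv v0) : Set P))
      (Y := (Dd : Set P)) ?_ (fun u hu => subset_closure hu) ?_ (fun u hu => hQn hu.2) ?_
    · exact sup_le (fun x hx => subset_closure (Or.inl hx))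
        (iSup_le fun g x hx => subset_closure (Or.inr (Set.mem_iUnion.2 ⟨g, hx⟩)))
    · rintro x (hx | hx)
      · exact hQn (hVQ hx)
      · obtain ⟨g, hx⟩ := Set.mem_iUnion.1 hx
        exact hQn (hP1G g hx)
    · rintro x (hx | hx) u hu
      · rw [commutatorElement_eq_one_iff_mul_comm.2 (D.Vv_cent v0 hx u hu.1).symm]
        exact one_mem _
      · obtain ⟨g, hx⟩ := Set.mem_iUnion.1 hx
        exact hR' g g.2.1 x hx u (Qv_le (In_smul h1 g.2.1) hu.2)
  have hN0n : D.Gv v0 ≤ normalizer ((⁅P1, Dd⁆ : Subgroup P) : Set P) := le_normalizer_commutator hG0 hDn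
  have hcomm1 : ∀ g, D.Opp v1 k0 g → ∀ x ∈ cj g (D.Vv v0), ∀ u ∈ Dd, u * x = x * u := by
    intro g hg x hx u hu
    have hmem : ⁅x, u⁆ ∈ ⁅P1, Dd⁆ := commutator_mem_commutator
      (mem_sup_right ((le_iSup (fun g : {g // D.Opp v1 k0 g} => cj (g : P) (D.Vv v0)) ⟨g, hg⟩) hx)) hu
    have hr1 := hN0 hmem
    have hr0 : ⁅x, u⁆ ∈ centralizer (D.Gv v0 : Set P) := by
      refine centralizer_le (gen_opp h0 h0k hhne) (mem_centralizer_sup
        (fun s hs => hr1 s (Sv_le h1 hs)) fun s hs => ?_)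
      rw [SetLike.mem_coe, Sv_mul, mem_cj] at hs
      have h2 : h⁻¹ * ⁅x, u⁆ * h ∈ ⁅P1, Dd⁆ := by
        have := (mem_normalizer_iff.1 (hN0n (inv_mem hh)) _).1 hmem
        simpa using this
      have h3 := hN0 h2 _ (Sv_le h1 hs)
      calc s * ⁅x, u⁆ = h * (h⁻¹ * s * h * (h⁻¹ * ⁅x, u⁆ * h)) * h⁻¹ := by group
        _ = h * (h⁻¹ * ⁅x, u⁆ * h * (h⁻¹ * s * h)) * h⁻¹ := by rw [h3]
        _ = _ := by group
    have h4 : ⁅g⁻¹ * x * g, g⁻¹ * u * g⁆ = ⁅x, u⁆ := by
      have := commutatorElement_conj g⁻¹ x u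
      simp only [inv_inv] at this
      rw [this, conj_fix hr1 hg.1]
    have hu' : g⁻¹ * u * g ∈ D.Sv k0 := Qv_le h1 (by
      have := (mem_normalizer_iff.1 (D.Qv_norm v1 (inv_mem hg.1)) u).1 hu.2
      simpa using this)
    have h5 := comm_fix_edge h0 (mem_cj.1 hx) hu' (h4.symm ▸ hr0)
    rw [h4] at h5
    exact (commutatorElement_eq_one_iff_mul_comm.1 h5).symm
  -- the offender normalizes an opposite conjugate times `V1`
  obtain ⟨g, hg⟩ := exists_Opp h1
  obtain ⟨A, hA, hAab, hAmax, hAQ⟩ := exists_offender hX h1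
  obtain ⟨hcov, hUab, hUB, hmem⟩ := orbit_tight h1 h0 hVQ hab hg hA hAab hAmax hAQ
  set U := orbitSup D A v1 v0 g with hU
  have hV1U : D.Vv v1 ≤ U := le_sup_left.trans le_sup_left
  have hV0U : D.Vv v0 ≤ U := le_sup_right.trans le_sup_left
  have hUle : U ≤ D.Vv v0 ⊔ (D.Vv v1 ⊔ (U ⊓ centralizer (A : Set P))) := by
    by_cases hB0 : A ⊓ D.Qv v1 ≤ centralizer (D.Vv v0 : Set P)
    · refine le_trans (fun x hx => hUB ⟨hx, fun u hu => ?_⟩) le_sup_right
      have huQ : u ∈ Dd :=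
        ⟨mem_Qv_of_commute h0 (Qv_le h1 hu.2) fun w hw => hB0 hu w hw, hu.2⟩
      have hle : U ≤ centralizer ({u} : Set P) := sup_le (sup_le
        (fun y hy => mem_centralizer_singleton_iff.2 (D.Vv_cent v1 hy u hu.2).symm)
        (fun y hy => mem_centralizer_singleton_iff.2 (D.Vv_cent v0 hy u huQ.1).symm))
        (iSup_le fun e' y hy => mem_centralizer_singleton_iff.2
          (hcomm1 _ (hg.smul h1 (hA e'.2)) y hy u huQ).symm)
      exact (mem_centralizer_singleton_iff.1 (hle hx)).symm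
    · intro x hx
      obtain ⟨-, h2⟩ := hmem 1 (one_mem A)
      refine (sup_le_sup le_rfl hUB) (h2 hB0 ⟨hx, fun u hu => ?_⟩)
      have huQ : u ∈ Dd := ⟨hu.2, hu.1.2⟩
      have hle : U ≤ centralizer ({u} : Set P) := sup_le (sup_le
        (fun y hy => mem_centralizer_singleton_iff.2 (D.Vv_cent v1 hy u hu.1.2).symm)
        (fun y hy => mem_centralizer_singleton_iff.2 (D.Vv_cent v0 hy u huQ.1).symm))
        (iSup_le fun e' y hy => mem_centralizer_singleton_iff.2
          (hcomm1 _ (hg.smul h1 (hA e'.2)) y hy u huQ).symm)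
      exact (mem_centralizer_singleton_iff.1 (hle hx)).symm
  set Wg := cj g (D.Vv v0) with hWg
  have hwg := In_translate g h0
  have hk1 := In_smul h1 hg.1
  have hWgU : Wg ≤ U := by
    refine le_trans ?_ ((le_iSup (fun e' : A => cj ((e' : P) * g) (D.Vv v0)) ⟨1, one_mem A⟩).trans
      le_sup_right)
    show Wg ≤ cj (1 * g) (D.Vv v0)
    rw [one_mul]
  have hWn : D.Sv (g * k0) ≤ normalizer (Wg : Set P) := by
    rw [hWg, ← Vv_translate]; exact (Sv_le hwg).trans (D.Vv_norm _)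
  have hSn : D.Sv k0 ≤ normalizer ((D.Vv v1 ⊔ Wg : Subgroup P) : Set P) := by
    refine hcov.trans (sup_le (fun s hs => ?_) (CfsgLib.Comp.le_normalizer_sup
      ((Qv_le h1).trans ((Sv_le h1).trans (D.Vv_norm v1))) ((Qv_le hk1).trans hWn)))
    refine CfsgLib.Comp.map_conj_eq_iff.1 (eq_of_le_of_card_ge ?_
      (card_map_of_injective (MulAut.conj s).injective).ge)
    rw [Subgroup.map_sup]
    refine sup_le (le_of_eq_of_le (cj_eq_self (D.Vv_norm _ (Sv_le h1 (hA hs)))) le_sup_left) ?_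
    rintro _ ⟨x, hx, rfl⟩
    have hUn : ∀ H : Subgroup P, H ≤ U → ∀ K : Subgroup P, K ≤ U → K ≤ normalizer (H : Set P) :=
      fun H hH K hK y hy => centralizer_le_normalizer _ fun z hz => hUab (hK hy) z (hH hz)
    obtain ⟨w, hw, v, hv, hwv⟩ := CfsgLib.Comp.exists_mul_of_mem_sup
      (hUn _ (sup_le hV1U inf_le_left) _ hV0U) (by rw [sup_comm]; exact hUle (hWgU hx))
    obtain ⟨c, hc, v', hv', hcv⟩ := CfsgLib.Comp.exists_mul_of_mem_sup
      (hUn _ inf_le_left _ hV1U) (by rw [sup_comm]; exact hw)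
    show s * x * s⁻¹ ∈ _
    set z := ⁅v⁻¹, s⁆ with hz
    have hzZ : z ∈ D.Zv k0 := comm_mem_edge h0 (inv_mem hv) (hA (hAab.trans le_rfl |> fun _ => hs))
    have hz1 : z ∈ D.Vv v1 := Zv_le h1 hzZ
    have e1 : s * x * s⁻¹ = x * z * (v'⁻¹ * (s * v' * s⁻¹)) := by
      have hsc : s * c = c * s := hc.2 s hs
      have hv1' : v'⁻¹ * (s * v' * s⁻¹) ∈ U := hV1U (mul_mem (inv_mem hv')
        ((mem_normalizer_iff.1 (D.Vv_norm _ (Sv_le h1 (hA hs))) v').1 hv'))
      have hsv : s * v * s⁻¹ ∈ U :=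
        hV0U ((mem_normalizer_iff.1 (D.Vv_norm _ (Sv_le h0 (hA hs))) v).1 hv)
      have hzv : z = v⁻¹ * (s * v * s⁻¹) := by rw [hz, commutatorElement_def]; group
      calc s * x * s⁻¹ = (s * c) * v' * v * s⁻¹ := by rw [← hwv, ← hcv]; group
        _ = c * v' * ((v'⁻¹ * (s * v' * s⁻¹)) * (s * v * s⁻¹)) := by rw [hsc]; group
        _ = c * v' * ((s * v * s⁻¹) * (v'⁻¹ * (s * v' * s⁻¹))) := by rw [hUab hsv _ hv1']
        _ = _ := by rw [hzv, ← hwv, ← hcv]; group
    rw [e1]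
    exact mul_mem (mul_mem (mem_sup_right hx) (mem_sup_left hz1)) (mem_sup_left (mul_mem (inv_mem hv')
      ((mem_normalizer_iff.1 (D.Vv_norm _ (Sv_le h1 (hA hs))) v').1 hv')))
  have hG1 : D.Gv v1 ≤ normalizer ((D.Vv v1 ⊔ Wg : Subgroup P) : Set P) :=
    (gen_opp h1 hk1 hg.2).trans (sup_le hSn (CfsgLib.Comp.le_normalizer_sup
      ((Sv_le hk1).trans (D.Vv_norm v1)) hWn))
  refine hnr fun y hy => ?_
  have h2 : cj g (D.Vv v1 ⊔ D.Vv v0) = D.Vv v1 ⊔ Wg := by
    rw [cj, Subgroup.map_sup]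
    exact congrArg₂ (· ⊔ ·) (cj_eq_self (D.Vv_norm v1 hg.1)) rfl
  refine CfsgLib.Comp.map_conj_eq_iff.1 ?_
  refine map_injective (f := (MulAut.conj g).toMonoidHom) (MulAut.conj g).injective ?_
  show cj g (cj y _) = cj g _
  rw [← cj_mul, show g * y = g * y * g⁻¹ * g by group, cj_mul, h2]
  exact cj_eq_self (hG1 (mul_mem (mul_mem hg.1 hy) (inv_mem hg.1)))

end End

section Side

variable [Fact p.Prime] (hX : D.Ext) (hB : D.Below 2) {f : ℕ → ι × P} {e : ℕ → P}
  (hf : D.Crit 2 f e) (him : D.Immobile (f 0))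
include hX hB hf him

/-- At distance two an immobile end makes its Sylow subgroup normalize the far intersection. -/
theorem end_side : D.Sv (e 0) ≤ normalizer ((D.Qv (f 1) ⊓ D.Qv (f 2) : Subgroup P) : Set P) := by
  classical
  obtain ⟨h0, h1⟩ := hf.1 0 (by omega)
  obtain ⟨h1', h2⟩ := hf.1 1 (by omega)
  change D.In (f 1) (e 0) at h1
  change D.In (f 2) (e 1) at h2
  set v0 := f 0
  set v1 := f 1
  set v2 := f 2
  set k0 := e 0
  set k1 := e 1
  have h01 : D.Vv v0 ≤ D.Qv v1 :=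
    hB.le_Qv (f := f) (e := e) 1 (by omega) fun i hi => hf.1 i (by omega)
  have h21 : D.Vv v2 ≤ D.Qv v1 := by
    have := hB.le_Qv (f := fun i => f (2 - i)) (e := fun i => e (2 - 1 - i)) 1 (by omega)
      fun i hi => hf.reverse.1 i (by omega)
    simpa using this
  have h12 : D.Vv v1 ≤ D.Qv v2 := by
    have := hB.le_Qv (f := fun i => f (1 + i)) (e := fun i => e (1 + i)) 1 (by omega) fun i hi => by
      obtain rfl : i = 0 := by omega
      exact hf.1 1 (by omega)
    simpa using this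
  have hcov1 : D.Sv k1 ≤ D.Vv v0 ⊔ D.Qv v2 := by
    have := hf.cover hB
    simpa using this
  have hcov0 : D.Sv k0 ≤ D.Vv v2 ⊔ D.Qv v0 := by
    have := hf.reverse.cover hB
    simpa using this
  obtain ⟨a, ha, haS, haQ⟩ := hf.exists_not_mem hB
  have ha2S : ∀ w ∈ D.Vv v2, w ∈ D.Sv k0 := fun w hw => Qv_le h1 (h21 hw)
  set Dd := D.Qv v0 ⊓ D.Qv v1
  set D' := D.Qv v1 ⊓ D.Qv v2
  set R := Dd ⊓ D.Qv v2
  obtain ⟨hh', hh, hhne⟩ : ∃ h, h ∈ D.Gv v0 ∧ D.Zv (h * k0) ≠ D.Zv k0 := exists_Opp h0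
  have hDeq : Dd = D.Qv v0 ⊓ centralizer ((D.Vv v0 ⊔ D.Vv v1 : Subgroup P) : Set P) := by
    refine le_antisymm (fun u hu => ⟨hu.1, mem_centralizer_sup
      (fun y hy => (D.Vv_cent v0 hy u hu.1).symm) (fun y hy => (D.Vv_cent v1 hy u hu.2).symm)⟩)
      (fun u hu => ⟨hu.1, mem_Qv_of_commute h1 (Qv_le h0 hu.1) fun w hw =>
        hu.2 w (mem_sup_right hw)⟩)
  have hDn : D.Gv v0 ≤ normalizer (Dd : Set P) := by
    rw [hDeq]
    exact (le_inf (D.Qv_norm v0) (CfsgLib.Comp.le_normalizer_centralizer (him v1 k0 h0 h1))).trans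
      Subgroup.inf_normalizer_le_normalizer_inf
  have hsplit : ∀ y ∈ D.Qv v1, ∃ c ∈ D', ∃ v ∈ D.Vv v0, y = c * v := by
    intro y hy
    have hn : D.Vv v0 ≤ normalizer (D.Qv v2 : Set P) :=
      h01.trans ((Qv_le h1').trans ((Sv_le h2).trans (D.Qv_norm _)))
    obtain ⟨c, hc, v, hv, rfl⟩ := CfsgLib.Comp.exists_mul_of_mem_sup hn
      (by rw [sup_comm]; exact hcov1 (Qv_le h1' hy))
    exact ⟨c, ⟨by simpa using mul_mem hy (inv_mem (h01 hv)), hc⟩, v, hv, rfl⟩
  have hsplitD : ∀ y ∈ Dd, ∃ c ∈ R, ∃ v ∈ D.Vv v0, y = c * v := by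
    intro y hy
    obtain ⟨c, hc, v, hv, rfl⟩ := hsplit y hy.2
    exact ⟨c, mem_inf.2 ⟨mem_inf.2 ⟨by simpa using mul_mem (mem_inf.1 hy).1 (inv_mem (D.Vv_le v0 hv)), hc.1⟩, hc.2⟩, v, hv, rfl⟩
  -- the commutator of `D` with `V2`
  have hbr : ∀ w ∈ D.Vv v2, ∀ c ∈ R, ∀ v ∈ D.Vv v0, ⁅c * v, w⁆ = ⁅v, w⁆ := by
    intro w hw c hc v hv
    have hwc : c * w = w * c := D.Vv_cent v2 hw c hc.2
    have hz : ⁅v, w⁆ ∈ D.Zv k0 := comm_mem_edge h0 hv (ha2S w hw)
    have hcz : c * ⁅v, w⁆ = ⁅v, w⁆ * c := commute_Zv_Sv hz (Qv_le h1 hc.1.2)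
    calc ⁅c * v, w⁆ = c * ⁅v, w⁆ * c⁻¹ * (c * w * c⁻¹ * w⁻¹) := by
          simp [commutatorElement_def, mul_assoc]
      _ = _ := by rw [hcz, hwc]; group
  have hmemZ : ∀ m ∈ Dd, ∀ w ∈ D.Vv v2, ⁅m, w⁆ ∈ D.Zv k0 := by
    intro m hm w hw
    obtain ⟨c, hc, v, hv, rfl⟩ := hsplitD m hm
    rw [hbr w hw c hc v hv]
    exact comm_mem_edge h0 hv (ha2S w hw)
  have hkill : ∀ m ∈ Dd, ∀ w ∈ D.Vv v2, ⁅m, w⁆ ∈ centralizer (D.Gv v0 : Set P) → m * w = w * m := by
    intro m hm w hw hc0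
    obtain ⟨c, hc, v, hv, rfl⟩ := hsplitD m hm
    rw [hbr w hw c hc v hv] at hc0
    rw [← commutatorElement_eq_one_iff_mul_comm, hbr w hw c hc v hv]
    exact comm_fix_edge h0 hv (ha2S w hw) hc0
  have hcentral : ∀ Y : Subgroup P, D.Gv v0 ≤ normalizer (Y : Set P) →
      (∀ y ∈ Y, ∀ w ∈ D.Vv v2, w * y = y * w) → ∀ y ∈ Y, y ∈ D.Zv k0 →
      y ∈ centralizer (D.Gv v0 : Set P) := by
    intro Y hYn hYc y hy hyZ
    have ha' : hh' * a * hh'⁻¹ ∈ D.Sv (hh' * k0) := by rw [Sv_mul]; exact conj_mem_cj haS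
    have haQ' : hh' * a * hh'⁻¹ ∉ D.Qv v0 := fun hc => haQ (by
      have := (mem_normalizer_iff.1 (D.Qv_norm v0 (inv_mem hh)) _).1 hc
      simpa [mul_assoc] using this)
    refine centralizer_le (gen_edge h0 (In_smul h0 hh) hhne ha' haQ') (mem_centralizer_sup
      (fun s hs => commute_Zv_Sv hyZ hs) fun z hz => ?_)
    obtain ⟨i, rfl⟩ := hz
    refine ((show Commute (hh' * a * hh'⁻¹) y from ?_).zpow_left i).eq
    have hy' : hh'⁻¹ * y * hh' ∈ Y := by
      have := (mem_normalizer_iff.1 (hYn (inv_mem hh)) y).1 hy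
      simpa using this
    have h3 := hYc _ hy' a ha
    show hh' * a * hh'⁻¹ * y = y * (hh' * a * hh'⁻¹)
    calc hh' * a * hh'⁻¹ * y = hh' * (a * (hh'⁻¹ * y * hh')) * hh'⁻¹ := by group
      _ = hh' * (hh'⁻¹ * y * hh' * a) * hh'⁻¹ := by rw [h3]
      _ = _ := by group
  have hmemD' : ∀ m ∈ D.Qv v1, (∀ w ∈ D.Vv v2, m * w = w * m) → m ∈ D' := fun m hm h =>
    ⟨hm, mem_Qv_of_commute h2 (Qv_le h1' hm) fun w hw => (h w hw).symm⟩
  have hQ0S : ∀ x ∈ D.Qv v0, x ∈ D.Sv k0 := fun x hx => Qv_le h0 hx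
  -- `[Q0, Q0 ∩ Q1 ∩ Q2]`
  have hone : ∀ x ∈ D.Qv v0, ∀ r ∈ R, ⁅x, r⁆ ∈ D' := by
    intro x hx r hr
    set m := ⁅x, r⁆ with hm
    have hm0 : m ∈ D.Qv v0 := commutator_le_self _ (commutator_mem_commutator hx hr.1.1)
    have hm1 : m ∈ D.Qv v1 := by
      rw [hm, commutatorElement_def]
      exact mul_mem ((mem_normalizer_iff.1 (D.Qv_norm v1 (Sv_le h1 (hQ0S x hx))) r).1 hr.1.2)
        (inv_mem hr.1.2)
    refine hmemD' m hm1 fun w hw => hkill m ⟨hm0, hm1⟩ w hw ?_
    have hDD : ⁅Dd, Dd⁆ ≤ ⁅R, R⁆ := by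
      have hgen : Dd ≤ closure ((R : Set P) ∪ (D.Vv v0 : Set P)) := fun y hy => by
        obtain ⟨c, hc, v, hv, rfl⟩ := hsplitD y hy
        exact mul_mem (subset_closure (Or.inl hc)) (subset_closure (Or.inr hv))
      have hn : ((R : Set P) ∪ (D.Vv v0 : Set P)) ⊆ normalizer ((⁅R, R⁆ : Subgroup P) : Set P) := by
        rintro y (hy | hy)
        · exact le_normalizer_commutator Subgroup.le_normalizer Subgroup.le_normalizer hy
        · refine centralizer_le_normalizer _ fun z hz => ?_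
          exact D.Vv_cent v0 hy z ((inf_le_left.trans inf_le_left : R ≤ _) (commutator_le_self R hz))
      refine commutator_le_of_generators hgen hgen hn hn ?_
      rintro y (hy | hy) z (hz | hz)
      · exact commutator_mem_commutator hy hz
      · rw [commutatorElement_eq_one_iff_mul_comm.2 (D.Vv_cent v0 hz y hy.1.1)]; exact one_mem _
      · rw [commutatorElement_eq_one_iff_mul_comm.2 (D.Vv_cent v0 hy z hz.1.1).symm]; exact one_mem _
      · rw [commutatorElement_eq_one_iff_mul_comm.2 (D.Vv_comm v0 hz y hy)]; exact one_mem _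
    have hwS := ha2S w hw
    set d := x⁻¹ * (w * x * w⁻¹) with hd
    have hdD : d ∈ Dd := by
      refine mem_inf.2 ⟨mul_mem (inv_mem hx) ((mem_normalizer_iff.1 (D.Qv_norm v0 (Sv_le h0 hwS)) x).1 hx), ?_⟩
      have h3 : ⁅x⁻¹, w⁆ ∈ D.Qv v1 := by
        obtain ⟨x0, hx0, hx0'⟩ := inv_mem (hQ0S x hx)
        obtain ⟨w0, hw0, hw0'⟩ := hwS
        rw [Qv_eq h1, ← hx0', ← hw0', ← map_commutatorElement]
        exact mem_map_of_mem _ (hX.comm_Q _ (commutator_mem_commutator hx0 hw0))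
      have e0 : ⁅x⁻¹, w⁆ = d := by rw [hd]; simp [commutatorElement_def, mul_assoc]
      exact e0 ▸ h3
    have hwr : w * r = r * w := (D.Vv_cent v2 hw r hr.2).symm
    have e1 : ⁅w, m⁆ = x * ⁅d, r⁆ * x⁻¹ := by
      have hrr : w * r * w⁻¹ = r := by rw [hwr, mul_inv_cancel_right]
      calc ⁅w, m⁆ = ⁅w * x * w⁻¹, w * r * w⁻¹⁆ * m⁻¹ := by
            rw [commutatorElement_conj, hm]; simp [commutatorElement_def, mul_assoc]
        _ = ⁅x * d, r⁆ * m⁻¹ := by rw [hrr, hd]; group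
        _ = _ := by rw [hm]; simp [commutatorElement_def, mul_assoc]
    have hy : ⁅w, m⁆ ∈ ⁅Dd, Dd⁆ := e1 ▸ (mem_normalizer_iff.1
      (le_normalizer_commutator hDn hDn (Sv_le h0 (hQ0S x hx))) _).1
      (commutator_mem_commutator hdD hr.1)
    have hyZ : ⁅w, m⁆ ∈ D.Zv k0 := by
      rw [← commutatorElement_inv]; exact inv_mem (hmemZ m ⟨hm0, hm1⟩ w hw)
    have hc := hcentral _ (le_normalizer_commutator hDn hDn) (fun y hy w' hw' =>
      (D.Vv_cent v2 hw' y (((commutator_le_self R).trans inf_le_right) (hDD hy))).symm) _ hy hyZ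
    rw [← commutatorElement_inv]
    exact inv_mem hc
  -- `[Q0, V2]`
  have htwo : ∀ x ∈ D.Qv v0, ∀ w ∈ D.Vv v2, ⁅x, w⁆ ∈ D' := by
    intro x hx w hw
    have hwS := ha2S w hw
    set m := ⁅x, w⁆ with hm
    have hm1 : m ∈ D.Qv v1 := by
      rw [hm, commutatorElement_def]
      exact mul_mem ((mem_normalizer_iff.1 (D.Qv_norm v1 (Sv_le h1 (hQ0S x hx))) w).1 (h21 hw))
        (inv_mem (h21 hw))
    by_cases hwQ : w ∈ D.Qv v0
    · obtain ⟨b, hb, hbS, hbQ⟩ := hf.reverse.exists_not_mem hB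
      simp only [Nat.sub_zero, Nat.sub_self] at hb hbS hbQ
      have hwZ : w ∈ D.Zv k1 := fix_edge h2 hbS hbQ hw (D.Vv_cent v0 hb w hwQ)
      have hwV : w ∈ D.Vv v1 := Zv_le h1' hwZ
      have hz : m ∈ D.Zv k0 := by
        rw [hm, ← commutatorElement_inv]; exact inv_mem (comm_mem_edge h1 hwV (hQ0S x hx))
      exact ⟨hm1, h12 (Zv_le h1 hz)⟩
    have hm0 : m ∈ D.Qv v0 := by
      rw [hm, mul_inv_mem_of_commutatorElement]
      exact mul_mem hx ((mem_normalizer_iff.1 (D.Qv_norm v0 (Sv_le h0 hwS)) _).1 (inv_mem hx))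
    -- `m` commutes with `w`
    have hmw : ⁅m, w⁆ ∈ centralizer (D.Gv v0 : Set P) := by
      rcases eq_or_ne p 2 with hp2 | hp2
      · have hw2 : w⁻¹ = w := by
          have h0' : w ^ p = 1 := by
            obtain ⟨w₀, hw₀, rfl⟩ := hw
            rw [← map_pow, D.exp _ w₀ hw₀, map_one]
          rw [hp2, pow_two] at h0'
          exact inv_eq_of_mul_eq_one_right h0'
        let N : Subgroup P := closure {y | ∃ d ∈ Dd, d * d = y}
        have hNn : D.Gv v0 ≤ normalizer (N : Set P) := fun y hy => by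
          refine CfsgLib.Comp.map_conj_eq_iff.1 (eq_of_le_of_card_ge ?_
            (card_map_of_injective (MulAut.conj y).injective).ge)
          rw [MonoidHom.map_closure]
          refine closure_mono ?_
          rintro _ ⟨_, ⟨d, hd, rfl⟩, rfl⟩
          exact ⟨y * d * y⁻¹, (mem_normalizer_iff.1 (hDn hy) d).1 hd, by simp⟩
        have hNc : ∀ y ∈ N, ∀ w' ∈ D.Vv v2, w' * y = y * w' := fun y hy w' hw' => by
          have hle : N ≤ centralizer ({w'} : Set P) := (closure_le _).2 (by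
            rintro _ ⟨d, hd, rfl⟩
            obtain ⟨c, hc, v, hv, rfl⟩ := hsplitD d hd
            refine mem_centralizer_singleton_iff.2 ?_
            have hcv : c * v = v * c := D.Vv_cent v0 hv c hc.1.1
            have hv2 : v * v = 1 := by
              obtain ⟨v₀, hv₀, rfl⟩ := hv
              rw [← map_mul, ← pow_two, ← hp2, D.exp _ v₀ hv₀, map_one]
            have hcw : c * w' = w' * c := D.Vv_cent v2 hw' c hc.2
            rw [show c * v * (c * v) = c * c from by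
              rw [mul_assoc, ← mul_assoc v c v, ← hcv, mul_assoc c v v, hv2, mul_one]]
            exact ((show Commute c w' from hcw).mul_left hcw).eq)
          exact (mem_centralizer_singleton_iff.1 (hle hy)).symm
        have hy : ⁅w, m⁆ ∈ N := by
          refine subset_closure ⟨m⁻¹, inv_mem ⟨hm0, hm1⟩, ?_⟩
          have e3 : w * m * w⁻¹ = m⁻¹ := by
            rw [hm, commutatorElement_def, hw2]
            calc w * (x * w * x⁻¹ * w) * w = w * x * w * x⁻¹ * (w * w) := by group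
              _ = w * x * w * x⁻¹ := by rw [← pow_two w, pow_two, show w * w = 1 by
                  nth_rw 1 [← hw2]; rw [inv_mul_cancel], mul_one]
              _ = _ := by simp [mul_assoc, hw2]
          rw [commutatorElement_def, e3]
        have hyZ : ⁅w, m⁆ ∈ D.Zv k0 := by
          rw [← commutatorElement_inv]; exact inv_mem (hmemZ m ⟨hm0, hm1⟩ w hw)
        rw [← commutatorElement_inv]
        exact inv_mem (hcentral N hNn hNc _ hy hyZ)
      · obtain ⟨n, hn, hnS, hno, hnc, hinv⟩ := inv_edge hX hp2 h0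
        have hSp : IsPGroup p (D.Sv k0) := hX.pgroup.map _
        -- `[Q0, n] ≤ Q0 ∩ Q1`
        let T : Subgroup P :=
          { carrier := {g | g ∈ D.Gv v0 ∧ ∀ y ∈ D.Qv v0, ⁅y, g⁆ ∈ Dd}
            one_mem' := ⟨one_mem _, fun y _ => by rw [commutatorElement_one_right]; exact one_mem _⟩
            mul_mem' := by
              rintro g g' ⟨hg, hg'⟩ ⟨hg2, hg2'⟩
              refine ⟨mul_mem hg hg2, fun y hy => ?_⟩
              rw [commutatorElement_mul_right']
              exact mul_mem (hg' y hy) ((mem_normalizer_iff.1 (hDn hg) _).1 (hg2' y hy))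
            inv_mem' := by
              rintro g ⟨hg, hg'⟩
              refine ⟨inv_mem hg, fun y hy => ?_⟩
              rw [show ⁅y, g⁻¹⁆ = g⁻¹ * ⁅y, g⁆⁻¹ * g⁻¹⁻¹ by simp [commutatorElement_def, mul_assoc]]
              exact (mem_normalizer_iff.1 (hDn (inv_mem hg)) _).1 (inv_mem (hg' y hy)) }
        have hST : D.Sv k0 ≤ T := fun s hs => ⟨Sv_le h0 hs, fun y hy => mem_inf.2 ⟨by
          rw [mul_inv_mem_of_commutatorElement]
          exact mul_mem hy ((mem_normalizer_iff.1 (D.Qv_norm v0 (Sv_le h0 hs)) _).1 (inv_mem hy)), by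
          obtain ⟨y0, hy0, hy0'⟩ := hQ0S y hy
          obtain ⟨s0, hs0, hs0'⟩ := hs
          rw [Qv_eq h1, ← hy0', ← hs0', ← map_commutatorElement]
          exact mem_map_of_mem _ (hX.comm_Q _ (commutator_mem_commutator hy0 hs0))⟩⟩
        have hconjT : ∀ t ∈ T, hh' * t * hh'⁻¹ ∈ T := by
          rintro t ⟨ht, ht'⟩
          refine ⟨mul_mem (mul_mem hh ht) (inv_mem hh), fun y hy => ?_⟩
          have h3 := ht' (hh'⁻¹ * y * hh') (by
            have := (mem_normalizer_iff.1 (D.Qv_norm v0 (inv_mem hh)) y).1 hy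
            simpa using this)
          have h4 := (mem_normalizer_iff.1 (hDn hh) _).1 h3
          rw [← commutatorElement_conj, show hh' * (hh'⁻¹ * y * hh') * hh'⁻¹ = y by group] at h4
          exact h4
        have haT : hh' * a * hh'⁻¹ ∈ T := hconjT a (hST haS)
        have hGT : D.Gv v0 ≤ T := by
          have ha' : hh' * a * hh'⁻¹ ∈ D.Sv (hh' * k0) := by rw [Sv_mul]; exact conj_mem_cj haS
          have haQ' : hh' * a * hh'⁻¹ ∉ D.Qv v0 := fun hc => haQ (by
            have := (mem_normalizer_iff.1 (D.Qv_norm v0 (inv_mem hh)) _).1 hc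
            simpa [mul_assoc] using this)
          exact (gen_edge h0 (In_smul h0 hh) hhne ha' haQ').trans (sup_le hST (zpowers_le.2 haT))
        -- `[Q0 ∩ Q1, n] ≤ V0`
        let K : Subgroup P :=
          { carrier := {g | g ∈ D.Gv v0 ∧ ∀ y ∈ Dd, ⁅y, g⁆ ∈ D.Vv v0}
            one_mem' := ⟨one_mem _, fun y _ => by rw [commutatorElement_one_right]; exact one_mem _⟩
            mul_mem' := by
              rintro g g' ⟨hg, hg'⟩ ⟨hg2, hg2'⟩
              refine ⟨mul_mem hg hg2, fun y hy => ?_⟩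
              rw [commutatorElement_mul_right']
              exact mul_mem (hg' y hy) ((mem_normalizer_iff.1 (D.Vv_norm v0 hg) _).1 (hg2' y hy))
            inv_mem' := by
              rintro g ⟨hg, hg'⟩
              refine ⟨inv_mem hg, fun y hy => ?_⟩
              rw [show ⁅y, g⁻¹⁆ = g⁻¹ * ⁅y, g⁆⁻¹ * g⁻¹⁻¹ by simp [commutatorElement_def, mul_assoc]]
              exact (mem_normalizer_iff.1 (D.Vv_norm v0 (inv_mem hg)) _).1 (inv_mem (hg' y hy)) }
        have hKn : D.Gv v0 ≤ normalizer (K : Set P) := fun g hg => by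
          refine mem_normalizer_of_conj_le ?_
          rintro t ⟨ht, ht'⟩
          refine ⟨mul_mem (mul_mem hg ht) (inv_mem hg), fun y hy => ?_⟩
          have h3 := ht' (g⁻¹ * y * g) (by
            have := (mem_normalizer_iff.1 (hDn (inv_mem hg)) y).1 hy
            simpa using this)
          have h4 := (mem_normalizer_iff.1 (D.Vv_norm v0 hg) _).1 h3
          rwa [← commutatorElement_conj, show g * (g⁻¹ * y * g) * g⁻¹ = y by group] at h4
        have hV2K : D.Vv v2 ≤ K := fun w' hw' => ⟨Sv_le h0 (ha2S w' hw'), fun y hy => by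
          obtain ⟨c, hc, v, hv, rfl⟩ := hsplitD y hy
          rw [hbr w' hw' c hc v hv]
          exact Zv_le h0 (comm_mem_edge h0 hv (ha2S w' hw'))⟩
        have haK : hh' * a * hh'⁻¹ ∈ K := (mem_normalizer_iff.1 (hKn hh) a).1 (hV2K ha)
        have hGK : D.Gv v0 ≤ K ⊔ D.Qv v0 := by
          have ha' : hh' * a * hh'⁻¹ ∈ D.Sv (hh' * k0) := by rw [Sv_mul]; exact conj_mem_cj haS
          have haQ' : hh' * a * hh'⁻¹ ∉ D.Qv v0 := fun hc => haQ (by
            have := (mem_normalizer_iff.1 (D.Qv_norm v0 (inv_mem hh)) _).1 hc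
            simpa [mul_assoc] using this)
          exact (gen_edge h0 (In_smul h0 hh) hhne ha' haQ').trans
            (sup_le (hcov0.trans (sup_le_sup_right hV2K _)) (zpowers_le.2 (mem_sup_left haK)))
        have hQp : IsPGroup p (D.Qv v0) := hSp.to_le (Qv_le h0)
        have hnK : n ∈ K := by
          obtain ⟨κ, hκ, t, ht, hκt⟩ := CfsgLib.Comp.exists_mul_of_mem_sup
            (((Qv_le h0).trans (Sv_le h0)).trans hKn) (hGK hn)
          obtain ⟨j, hj⟩ := hQp ⟨t, ht⟩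
          have hj' : t ^ p ^ j = 1 := by simpa using congrArg Subtype.val hj
          have htn : t ∈ normalizer (K : Set P) := hKn (Sv_le h0 (Qv_le h0 ht))
          have key : ∀ i : ℕ, n ^ i * (t ^ i)⁻¹ ∈ K := by
            intro i
            induction i with
            | zero => simp
            | succ i ih =>
              have : n ^ (i + 1) * (t ^ (i + 1))⁻¹ =
                  (n ^ i * (t ^ i)⁻¹) * (t ^ i * κ * (t ^ i)⁻¹) := by
                rw [pow_succ, pow_succ, ← hκt]; group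
              rw [this]
              exact mul_mem ih ((mem_normalizer_iff.1 (pow_mem htn i) κ).1 hκ)
          have h3 := key (p ^ j)
          rw [hj', inv_one, mul_one] at h3
          obtain ⟨i, hi⟩ := exists_pow_eq_self_of_coprime (x := n) (hno.pow_right j).symm
          exact hi ▸ pow_mem h3 i
        -- fixed representatives
        have hnQ : n ∈ normalizer (D.Qv v0 : Set P) := D.Qv_norm v0 hn
        have hrepD : ∀ y ∈ Dd, ∃ c ∈ Dd, ∃ v ∈ D.Vv v0, c * n = n * c ∧ y = c * v :=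
          exists_fixed_mul (hQp.to_le inf_le_left)
            (le_inf (D.Vv_le v0) h01) (hDn hn) (D.Vv_norm v0 hn) hno fun y hy => hnK.2 y hy
        have hrepQ : ∀ y ∈ D.Qv v0, ∃ c ∈ D.Qv v0, ∃ v ∈ D.Vv v0, c * n = n * c ∧ y = c * v := by
          intro y hy
          obtain ⟨c, hc, d, hd, hcn, rfl⟩ := exists_fixed_mul hQp inf_le_left hnQ (hDn hn) hno
            (fun y hy => (hGT hn).2 y hy) y hy
          obtain ⟨c', hc', v, hv, hc'n, rfl⟩ := hrepD d hd
          exact ⟨c * c', mul_mem hc hc'.1, v, hv,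
            ((show Commute c n from hcn).mul_left hc'n).eq, by group⟩
        obtain ⟨c, hc, t, ht, hcn, hwct⟩ := exists_fixed_mul hSp (Qv_le h0) hnS hnQ hno
          (fun y hy => hnc y hy) w hwS
        obtain ⟨c', hc', v', hv', hc'n, rfl⟩ := hrepQ t ht
        obtain ⟨x', hx', u, hu, hx'n, rfl⟩ := hrepQ x hx
        set c2 := c * c' with hc2
        have hc2n : Commute c2 n := (show Commute c n from hcn).mul_left hc'n
        have hw2 : w = c2 * v' := by rw [hwct, hc2]; group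
        set z1 := ⁅u, w⁆ with hz1
        have hz1Z : z1 ∈ D.Zv k0 := comm_mem_edge h0 hu hwS
        set m2 := ⁅x', c2⁆ with hm2
        have hm2n : Commute m2 n := by
          have h5 : Commute x' n := hx'n
          exact ((h5.mul_left hc2n).mul_left h5.inv_left).mul_left hc2n.inv_left
        have hc2S : c2 ∈ D.Sv k0 := mul_mem hc (hQ0S c' hc')
        have hx'v : x' * v' = v' * x' := D.Vv_cent v0 hv' x' hx'
        have hmeq : m = z1 * m2 := by
          rw [hm, hz1, commutatorElement_mul_left', hm2, hw2]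
          have h6 : x' * ⁅u, c2 * v'⁆ = ⁅u, c2 * v'⁆ * x' :=
            commute_Zv_Sv (hw2 ▸ hz1Z) (hQ0S x' hx')
          have h7 : ⁅x', c2 * v'⁆ = ⁅x', c2⁆ := by
            rw [commutatorElement_mul_right',
              show ⁅x', v'⁆ = 1 from commutatorElement_eq_one_iff_mul_comm.2 hx'v]
            group
          rw [h6, mul_inv_cancel_right, h7]
        have hm20 : m2 ∈ D.Qv v0 := by
          rw [hm2, mul_inv_mem_of_commutatorElement]
          exact mul_mem hx' ((mem_normalizer_iff.1 (D.Qv_norm v0 (Sv_le h0 hc2S)) _).1 (inv_mem hx'))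
        have hzz : z1 * w = w * z1 := (commute_Zv_Sv hz1Z hwS).symm
        set y := ⁅m, w⁆ with hy
        have hye : y = ⁅m2, c2⁆ := by
          have hm2v : m2 * v' = v' * m2 := D.Vv_cent v0 hv' m2 hm20
          have hm2w : ⁅m2, w⁆ = ⁅m2, c2⁆ := by
            rw [hw2, commutatorElement_mul_right',
              show ⁅m2, v'⁆ = 1 from commutatorElement_eq_one_iff_mul_comm.2 hm2v]
            group
          have hyZ' : ⁅m2, w⁆ ∈ D.Zv k0 := hmemZ m2 (mem_inf.2 ⟨hm20, by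
            rw [show m2 = z1⁻¹ * m by rw [hmeq]; group]
            exact mul_mem (inv_mem (D.Vv_le v1 (Zv_le h1 hz1Z))) hm1⟩) w hw
          rw [hy, hmeq, commutatorElement_mul_left',
            show ⁅z1, w⁆ = 1 from commutatorElement_eq_one_iff_mul_comm.2 hzz, mul_one]
          have h7 : z1 * ⁅m2, w⁆ = ⁅m2, w⁆ * z1 :=
            (commute_Zv_Sv hz1Z (Zv_le_Sv _ hyZ')).symm
          rw [h7, mul_inv_cancel_right, hm2w]
        have hyn : n * y * n⁻¹ = y := by
          have h8 : Commute y n := hye ▸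
            (((hm2n.mul_left hc2n).mul_left hm2n.inv_left).mul_left hc2n.inv_left)
          rw [← h8.eq, mul_inv_cancel_right]
        have hyV : y ∈ D.Vv v0 := Zv_le h0 (hmemZ m ⟨hm0, hm1⟩ w hw)
        have hy2 := hinv y hyV
        rw [hyn] at hy2
        have hyp : y ^ p = 1 := by
          obtain ⟨y₀, hy₀, hy₀'⟩ := hyV
          rw [← hy₀', ← map_pow, D.exp _ y₀ hy₀, map_one]
        obtain ⟨j, hj⟩ := exists_pow_eq_self_of_coprime (x := y) (n := 2) (by
          refine Nat.Coprime.coprime_dvd_right (orderOf_dvd_of_pow_eq_one hyp) ?_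
          exact (Nat.coprime_primes Nat.prime_two Fact.out).2 (Ne.symm hp2))
        rw [← hj, pow_two]
        exact pow_mem hy2 j
    obtain ⟨c, hc, v, hv, hcv⟩ := hsplitD m ⟨hm0, hm1⟩
    have hvw : v * w = w * v := by
      rw [← commutatorElement_eq_one_iff_mul_comm, ← hbr w hw c hc v hv, ← hcv,
        commutatorElement_eq_one_iff_mul_comm]
      exact hkill m ⟨hm0, hm1⟩ w hw hmw
    have hvZ : v ∈ D.Zv k0 := fix_edge h0 hwS hwQ hv hvw
    refine hmemD' m hm1 fun w' hw' => ?_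
    rw [hcv]
    exact ((show Commute c w' from D.Vv_cent v2 hw' c hc.2).mul_left
      (commute_Zv_Sv hvZ (ha2S w' hw')).symm).eq
  -- `S(e0) = V2 Q0`
  refine hcov0.trans (sup_le (fun w hw => Subgroup.le_normalizer
    (show w ∈ D' from ⟨h21 hw, D.Vv_le v2 hw⟩)) fun x hx => mem_normalizer_of_conj_le ?_)
  intro y hy
  have hn : D.Vv v2 ≤ normalizer (D.Qv v0 : Set P) := fun w hw => D.Qv_norm v0 (Sv_le h0 (ha2S w hw))
  obtain ⟨c, hc, w, hw, hcw⟩ := CfsgLib.Comp.exists_mul_of_mem_sup hn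
    (by rw [sup_comm]; exact hcov0 (Qv_le h1 hy.1))
  have hcD : c ∈ D' := by
    have : c = y * w⁻¹ := by rw [← hcw, mul_inv_cancel_right]
    rw [this]
    exact mul_mem hy (inv_mem ⟨h21 hw, D.Vv_le v2 hw⟩)
  rw [← hcw, show x * (c * w) * x⁻¹ = ⁅x, c⁆ * c * (⁅x, w⁆ * w) by
    simp [commutatorElement_def, mul_assoc]]
  exact mul_mem (mul_mem (hone x hx c ⟨⟨hc, hcD.1⟩, hcD.2⟩) hcD)
    (mul_mem (htwo x hx w hw) ⟨h21 hw, D.Vv_le v2 hw⟩)

end Side

/-- The group at the start of a critical path moves a neighbouring module. -/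
theorem exists_natRel [Fact p.Prime] (hX : D.Ext) {b : ℕ} (hB : D.Below b) (hb : 2 ≤ b)
    {f : ℕ → ι × P} {e : ℕ → P} (hf : D.Crit b f e) : ∃ j, D.NatRel (f 0).1 j := by
  classical
  by_contra hnot
  have him : D.Immobile (f 0) := immobile_of_not hnot
  obtain ⟨h0, h1⟩ := hf.1 0 (by omega)
  rw [Nat.zero_add] at h1
  by_cases hab : ∀ g, D.Opp (f 1) (e 0) g → D.Vv (f 0) ≤ centralizer (cj g (D.Vv (f 0)) : Set P)
  · exact end_abelian_false hX hB hb hf him hab
  simp only [not_forall] at hab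
  obtain ⟨g, hg, hnc⟩ := hab
  set v2 : ι × P := ((f 0).1, g * (f 0).2) with hv2
  let f' : ℕ → ι × P := fun i => if i = 0 then f 0 else if i = 1 then f 1 else v2
  let e' : ℕ → P := fun i => if i = 0 then e 0 else g * e 0
  have h2k : D.In v2 (g * e 0) := In_translate g h0
  have hp : D.Path f' e' 2 := fun i hi => by
    rcases i with _ | _ | i
    · exact ⟨h0, h1⟩
    · exact ⟨In_smul h1 hg.1, h2k⟩
    · omega
  have hVV : ¬ D.Vv (f 0) ≤ centralizer (D.Vv v2 : Set P) := by rwa [hv2, Vv_translate]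
  obtain rfl : b = 2 := by
    by_contra hne
    exact hVV (hB 2 (by omega) f' e' hp)
  have hf' : D.Crit 2 f' e' := ⟨hp, hVV⟩
  have him2 : D.Immobile v2 := immobile_of_not (by rw [hv2]; exact hnot)
  have hA := end_side hX hB hf' him
  have hB' := end_side hX hB hf'.reverse (show D.Immobile (f' (2 - 0)) from him2)
  change D.Sv (g * e 0) ≤ normalizer ((D.Qv (f 1) ⊓ D.Qv (f 0) : Subgroup P) : Set P) at hB'
  have hS0 : D.Sv (e 0) ≤ normalizer ((D.Qv (f 1) ⊓ D.Qv (f 0) : Subgroup P) : Set P) :=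
    (le_inf ((Sv_le h1).trans (D.Qv_norm _)) ((Sv_le h0).trans (D.Qv_norm _))).trans
      Subgroup.inf_normalizer_le_normalizer_inf
  have hG : D.Gv (f 1) ≤ normalizer ((D.Qv (f 1) ⊓ D.Qv (f 0) : Subgroup P) : Set P) :=
    (gen_opp h1 (In_smul h1 hg.1) hg.2).trans (sup_le hS0 hB')
  refine hVV ?_
  have h01 : D.Vv (f 0) ≤ D.Qv (f 1) ⊓ D.Qv (f 0) :=
    le_inf (hB.le_Qv (f := f') (e := e') 1 (by omega) fun i hi => hp i (by omega)) (D.Vv_le _)
  have h21 : D.Vv v2 ≤ D.Qv (f 1) ⊓ D.Qv (f 0) := by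
    rw [hv2, Vv_translate]
    exact (cj_mono h01).trans (cj_eq_self (hG hg.1)).le
  exact le_centralizer_iff.1 fun y hy z hz => (D.Vv_cent (f 0) hz y (h21 hy).2).symm

end Fam

end CfsgLib.ClassK.Push
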