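import Cfsg.Agent.Lib.ClassK.PushPairStmt
import Cfsg.Agent.S2989
import Cfsg.Agent.S2990

/-!
Pairs of characteristic subgroups outside the exceptional class of `p`-groups.
-/

set_option autoImplicit false
set_option linter.style.haveILetI false
set_option linter.unusedSectionVars false
set_option linter.unusedVariables false

universe u

namespace CfsgLib.ClassK.Push

open Subgroup
open scoped Pointwise commutatorElement

section Iso

variable {H L : Type*} [Group H] [Group L]

theorem maxCentralProduct_congr [Finite H] (e : H ≃* L) :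
    Cfsg.maxCentralProduct H = Cfsg.maxCentralProduct L := by
  unfold Cfsg.maxCentralProduct
  congr 1
  ext k
  constructor
  · rintro ⟨R, rfl⟩
    exact ⟨R.map e.toMonoidHom, (card_measure_map (f := e.toMonoidHom) e.injective R).symm⟩
  · rintro ⟨R, rfl⟩
    refine ⟨R.comap e.toMonoidHom, ?_⟩
    rw [card_measure_map (f := e.toMonoidHom) e.injective,
      map_comap_eq_self_of_surjective e.surjective R]

theorem cl_map_equiv [Finite H] (e : H ≃* L) {R : Subgroup H} :
    Cfsg.IsCentrallyLarge (R.map e.toMonoidHom) ↔ Cfsg.IsCentrallyLarge R := by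
  unfold Cfsg.IsCentrallyLarge
  rw [← card_measure_map (f := e.toMonoidHom) e.injective, maxCentralProduct_congr e]

theorem mcl_map_equiv [Finite H] (e : H ≃* L) {R : Subgroup H} (hR : Cfsg.IsMinimalCentrallyLarge R) :
    Cfsg.IsMinimalCentrallyLarge (R.map e.toMonoidHom) := by
  refine ⟨(cl_map_equiv e).2 hR.1, fun R' hle hR' => ?_⟩
  have hmc : (R'.comap e.toMonoidHom).map e.toMonoidHom = R' :=
    map_comap_eq_self_of_surjective e.surjective R'
  have h1 := hR.2 (R'.comap e.toMonoidHom)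
    ((comap_mono hle).trans (comap_map_eq_self_of_injective e.injective R).le)
    ((cl_map_equiv e).1 (by rwa [hmc]))
  rw [← hmc, h1]

theorem map_mcl_join_le [Finite H] (e : H ≃* L) :
    (Cfsg.minimalCentrallyLargeJoin H).map e.toMonoidHom ≤ Cfsg.minimalCentrallyLargeJoin L :=
  map_le_iff_le_comap.2 (sSup_le fun R hR => map_le_iff_le_comap.1 (le_sSup (mcl_map_equiv e hR)))

theorem map_mcl_join [Finite H] [Finite L] (e : H ≃* L) :
    (Cfsg.minimalCentrallyLargeJoin H).map e.toMonoidHom = Cfsg.minimalCentrallyLargeJoin L := by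
  refine le_antisymm (map_mcl_join_le e) fun x hx => ⟨e.symm x, ?_, e.apply_symm_apply x⟩
  exact map_mcl_join_le e.symm ⟨x, hx, rfl⟩

theorem map_equiv_symm (e : H ≃* L) (R : Subgroup L) :
    (R.map e.symm.toMonoidHom).map e.toMonoidHom = R := by
  rw [map_map]
  conv_rhs => rw [← map_id R]
  congr 1
  ext x
  exact e.apply_symm_apply x

theorem maxOmega_congr [Finite H] [Finite L] (p : ℕ) (e : H ≃* L) :
    Cfsg.maxOmegaCenterOfMinimalCL p H = Cfsg.maxOmegaCenterOfMinimalCL p L := by
  unfold Cfsg.maxOmegaCenterOfMinimalCL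
  congr 1
  ext k
  constructor
  · rintro ⟨R, hR, rfl⟩
    exact ⟨_, mcl_map_equiv e hR, by
      rw [← map_omegaOneCenter (f := e.toMonoidHom) e.injective p R]
      exact card_map_of_injective e.injective⟩
  · rintro ⟨R, hR, rfl⟩
    exact ⟨_, mcl_map_equiv e.symm hR, by
      rw [← map_omegaOneCenter (f := e.symm.toMonoidHom) e.symm.injective p R]
      exact card_map_of_injective e.symm.injective⟩

theorem map_frattini_join_le [Finite H] [Finite L] (p : ℕ) (e : H ≃* L) :
    (Cfsg.frattiniOfMinimalCLJoin p H).map e.toMonoidHom ≤ Cfsg.frattiniOfMinimalCLJoin p L := by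
  refine map_le_iff_le_comap.2 (iSup_le fun ⟨Q, hQ, hQz⟩ => map_le_iff_le_comap.1 ?_)
  rw [map_frattini_subtype (f := e.toMonoidHom) e.injective]
  exact le_iSup (fun R : {R : Subgroup L // Cfsg.IsMinimalCentrallyLarge R ∧
      Nat.card ↥(Cfsg.omegaOneCenter p R) = Cfsg.maxOmegaCenterOfMinimalCL p L} =>
      (frattini ↥(R : Subgroup L)).map (R : Subgroup L).subtype)
    ⟨Q.map e.toMonoidHom, mcl_map_equiv e hQ, by
      rw [← maxOmega_congr p e, ← hQz, ← map_omegaOneCenter (f := e.toMonoidHom) e.injective p Q]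
      exact card_map_of_injective e.injective⟩

theorem map_frattini_join [Finite H] [Finite L] (p : ℕ) (e : H ≃* L) :
    (Cfsg.frattiniOfMinimalCLJoin p H).map e.toMonoidHom = Cfsg.frattiniOfMinimalCLJoin p L := by
  refine le_antisymm (map_frattini_join_le p e) fun x hx => ⟨e.symm x, ?_, e.apply_symm_apply x⟩
  exact map_frattini_join_le p e.symm ⟨x, hx, rfl⟩

end Iso

/-- A subgroup containing a centrally large subgroup has the same largest central product. -/
theorem maxCentralProduct_eq_of_le {H : Type*} [Group H] [Finite H] {R Y : Subgroup H}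
    (hR : Cfsg.IsCentrallyLarge R) (hRY : R ≤ Y) :
    Cfsg.maxCentralProduct ↥Y = Cfsg.maxCentralProduct H := by
  have hm : ∀ T : Subgroup ↥Y, Nat.card T * Nat.card (center T) =
      Nat.card (T.map Y.subtype) * Nat.card (center (T.map Y.subtype)) := fun T =>
    card_measure_map Y.subtype_injective T
  refine le_antisymm ?_ ?_
  · obtain ⟨T, hT⟩ := Amalgam.exists_isCentrallyLarge (G := ↥Y)
    rw [← hT, hm T]
    exact Amalgam.central_le_max _
  · rw [← hR]
    have h1 : (R.subgroupOf Y).map Y.subtype = R := by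
      rw [subgroupOf_map_subtype, inf_eq_left.2 hRY]
    calc Nat.card R * Nat.card (center R)
        = Nat.card (R.subgroupOf Y) * Nat.card (center (R.subgroupOf Y)) := by
          rw [hm (R.subgroupOf Y), h1]
      _ ≤ Cfsg.maxCentralProduct ↥Y := Amalgam.central_le_max _

variable {p : ℕ} [Fact p.Prime] {S : Type u} [Group S] [Finite S]

theorem maxCentralProduct_top {Y : Subgroup S} (hY : Y = ⊤) :
    Cfsg.maxCentralProduct ↥Y = Cfsg.maxCentralProduct S := by
  subst hY
  exact maxCentralProduct_congr topEquiv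

/-- The pair of an abelian group. -/
theorem goodPair_of_abelian [Nontrivial S] (hab : IsMulCommutative S) :
    GoodPair p (⊤ : Subgroup S) ⊤ := by
  have hcomm : ∀ a b : S, a * b = b * a := fun a b => mul_comm' a b
  have hc : ∀ W : Subgroup S, (⊤ : Subgroup S) ≤ centralizer (W : Set S) := fun W x _ y _ => hcomm y x
  refine ⟨bot_ne_top.symm, bot_ne_top.symm, inferInstance, inferInstance,
    fun z _ => mem_center_iff.2 fun x => hcomm x z, hc _,
    subgroupOf_characteristic_of_top (top_le_iff.1 (hc _)), ?_⟩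
  intro G _ _ τ hp
  obtain ⟨-, ⟨T, hT⟩, hE₁, -, -⟩ := hp
  have h1 : (T : Subgroup G) ≤ Cfsg.pCore p G := by
    refine le_trans ?_ hE₁
    rw [hT]
    rintro _ ⟨x, rfl⟩ y hy
    obtain ⟨z, rfl⟩ : y ∈ τ.range := hT ▸ CfsgLib.Amalgam.pCore_le_sylow T hy
    rw [← map_mul, ← map_mul, hcomm]
  left
  rw [← MonoidHom.range_eq_map, ← hT, le_antisymm h1 (CfsgLib.Amalgam.pCore_le_sylow T)]
  exact Cfsg.pCore_normal p G

theorem zJ_le_sylow {G : Type u} [Group G] [Finite G] {P : Subgroup G} (e : S ≃* ↥P)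
    (hJt : centralizer (zJ S : Set S) = ⊤) :
    P ≤ centralizer (Cfsg.centerThompsonAOf P : Set G) := by
  have hτ : Function.Injective (P.subtype.comp e.toMonoidHom) := P.subtype_injective.comp e.injective
  have hr : P = (P.subtype.comp e.toMonoidHom).range := by
    rw [MonoidHom.range_comp, MonoidHom.range_eq_top.2 e.surjective, ← MonoidHom.range_eq_map,
      range_subtype]
  have hJ : (zJ S).map (P.subtype.comp e.toMonoidHom) = Cfsg.centerThompsonAOf P := by
    rw [zJ, map_inf_centralizer hτ, map_thompson_inj hτ hr]; rfl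
  have h := congrArg (Subgroup.map (P.subtype.comp e.toMonoidHom)) hJt
  rw [map_centralizer_inj hτ, hJ, ← MonoidHom.range_eq_map, ← hr] at h
  exact h.ge.trans inf_le_right

theorem map_comp_equiv {G : Type u} [Group G] {P : Subgroup G} (e : S ≃* ↥P) (Y : Subgroup S) :
    Y.map (P.subtype.comp e.toMonoidHom) = (Y.map e.toMonoidHom).map P.subtype :=
  (map_map _ _ _).symm

theorem map_center_comp {G : Type u} [Group G] [Finite G] {P : Subgroup G} (e : S ≃* ↥P) :
    (center S).map (P.subtype.comp e.toMonoidHom) = P ⊓ centralizer (P : Set G) := by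
  have hτ : Function.Injective (P.subtype.comp e.toMonoidHom) := P.subtype_injective.comp e.injective
  refine map_center_eq hτ ?_
  rw [MonoidHom.range_comp, MonoidHom.range_eq_top.2 e.surjective, ← MonoidHom.range_eq_map,
    range_subtype]

/-- The normality property of a pair, in the form of the statements. -/
def PairNormal (p : ℕ) [Fact p.Prime] (S₁ S₂ : Subgroup S) : Prop :=
  ∀ (G : Type u) [Group G] [Finite G] (P : Subgroup G) (e : S ≃* ↥P),
    Cfsg.IsPushingUpSituation p P →
      (S₁.map (P.subtype.comp e.toMonoidHom)).Normal ∨ (S₂.map (P.subtype.comp e.toMonoidHom)).Normal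

theorem GoodPair.pairNormal {S₁ S₂ : Subgroup S} (h : GoodPair p S₁ S₂) : PairNormal p S₁ S₂ :=
  fun G _ _ _ e hE => h.2.2.2.2.2.2.2 G _ (PushHyp.of_situation e hE)

theorem commutator_eq_of_mcl {Q R : Subgroup S} (hQ : Cfsg.IsMinimalCentrallyLarge Q)
    (hR : Cfsg.IsMinimalCentrallyLarge R) : ⁅R, R⁆ = ⁅Q, Q⁆ := by
  rw [Amalgam.commutator_eq_inf hR hQ, inf_comm, ← Amalgam.commutator_eq_inf hQ hR]

/-- The pair of a nonabelian minimal centrally large subgroup. -/
theorem pair_of_mcl [Nontrivial S] (hS : IsPGroup p S) (hJt : centralizer (zJ S : Set S) = ⊤)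
    {Q : Subgroup S} (hQ : Cfsg.IsMinimalCentrallyLarge Q) (hD : ⁅Q, Q⁆ ≠ ⊥) :
    center S ⊓ ⁅Q, Q⁆ ≠ ⊥ ∧ Cfsg.minimalCentrallyLargeJoin S ≠ ⊥ ∧
      (center S ⊓ ⁅Q, Q⁆).Characteristic ∧ (Cfsg.minimalCentrallyLargeJoin S).Characteristic ∧
      PairNormal p (center S ⊓ ⁅Q, Q⁆) (Cfsg.minimalCentrallyLargeJoin S) := by
  haveI : Group.IsNilpotent S := hS.isNilpotent
  haveI hch : (⁅Q, Q⁆).Characteristic := characteristic_iff_map_eq.2 fun ε => by
    rw [Subgroup.map_commutator]
    exact commutator_eq_of_mcl hQ (mcl_map_equiv ε hQ)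
  refine ⟨?_, fun hb => hD ?_, inferInstance,
    characteristic_iff_map_eq.2 fun ε => map_mcl_join ε, ?_⟩
  · rw [inf_comm]; exact Solvable.normal_inf_center_ne_bot _ hD
  · have h : Q ≤ ⊥ := (le_sSup (show Q ∈ {R : Subgroup S | Cfsg.IsMinimalCentrallyLarge R} from hQ)).trans hb.le
    exact le_bot_iff.1 ((Q.commutator_le_self).trans h)
  intro G _ _ P e hE
  have hn := (Cfsg.Agent.S2990.result P hE (zJ_le_sylow e hJt) (Q.map e.toMonoidHom)
    (mcl_map_equiv e hQ)).2.1
  rw [← Subgroup.map_commutator] at hn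
  have hτ : Function.Injective (P.subtype.comp e.toMonoidHom) := P.subtype_injective.comp e.injective
  rw [map_inf_eq _ _ _ hτ, map_center_comp, map_comp_equiv,
    map_comp_equiv, map_mcl_join]
  exact hn

/-- The pair of the Frattini subgroups of minimal centrally large subgroups. -/
theorem pair_of_frattini [Nontrivial S] (hS : IsPGroup p S) (hJt : centralizer (zJ S : Set S) = ⊤)
    (hF : Cfsg.frattiniOfMinimalCLJoin p S ≠ ⊥) :
    center S ≠ ⊥ ∧ (Cfsg.frattiniOfMinimalCLJoin p S).Characteristic ∧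
      PairNormal p (center S) (Cfsg.frattiniOfMinimalCLJoin p S) := by
  haveI := hS.center_nontrivial
  refine ⟨(nontrivial_iff_ne_bot _).1 inferInstance,
    characteristic_iff_map_eq.2 fun ε => map_frattini_join p ε, ?_⟩
  intro G _ _ P e hE
  have hn := (Cfsg.Agent.S2989.result P hE (zJ_le_sylow e hJt)).1
  rw [map_center_comp, map_comp_equiv, map_frattini_join]
  exact hn

/-- An elementary abelian minimal centrally large subgroup when `S_Φ = 1`. -/
theorem exists_elementary_of_frattini_join (hS : IsPGroup p S)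
    (hF : Cfsg.frattiniOfMinimalCLJoin p S = ⊥) :
    ∃ Q : Subgroup S, Cfsg.IsMinimalCentrallyLarge Q ∧ Cfsg.IsElementaryAbelian p Q := by
  obtain ⟨Q, hQ, hQz⟩ : ∃ Q : Subgroup S, Cfsg.IsMinimalCentrallyLarge Q ∧
      Nat.card (Cfsg.omegaOneCenter p Q) = Cfsg.maxOmegaCenterOfMinimalCL p S := by
    obtain ⟨Q₀, hQ₀⟩ := Amalgam.exists_isCentrallyLarge (G := S)
    obtain ⟨R, -, hR⟩ := Amalgam.exists_isMinimalCentrallyLarge_le hQ₀
    exact Nat.sSup_mem (s := {k : ℕ | ∃ Q : Subgroup S, Cfsg.IsMinimalCentrallyLarge Q ∧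
      Nat.card ↥(Cfsg.omegaOneCenter p Q) = k}) ⟨_, R, hR, rfl⟩
      ⟨Nat.card S, by rintro _ ⟨Q, -, rfl⟩; exact Subgroup.card_le_card_group _⟩
  obtain ⟨hc, hp⟩ := le_frattini_map (hS.to_subgroup Q)
  have hQbot : (frattini ↥Q).map Q.subtype ≤ ⊥ := hF ▸ le_iSup
    (fun Q : {Q : Subgroup S // Cfsg.IsMinimalCentrallyLarge Q ∧
      Nat.card ↥(Cfsg.omegaOneCenter p Q) = Cfsg.maxOmegaCenterOfMinimalCL p S} =>
      (frattini ↥(Q : Subgroup S)).map (Q : Subgroup S).subtype) ⟨Q, hQ, hQz⟩
  exact ⟨Q, hQ, le_centralizer_iff_isMulCommutative.1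
      (commutator_eq_bot_iff_le_centralizer.1 (le_bot_iff.1 (hc.trans hQbot))),
    fun a ha => mem_bot.1 (hQbot (hp a ha))⟩

/-- What is left when `S₀ = 1`, `J(S) = S` and a minimal centrally large subgroup is abelian. -/
theorem exceptional (hS : IsPGroup p S) [Nontrivial S] (h0 : szero p S = ⊥)
    (hJ : Cfsg.thompsonSubgroupA S = ⊤) (hZ : ∀ z ∈ center S, z ^ p = 1) {Q₀ : Subgroup S}
    (hQ₀ : Cfsg.IsMinimalCentrallyLarge Q₀) (hab : IsMulCommutative Q₀) :
    Cfsg.IsElementaryAbelian p (center S) ∧ Cfsg.IsElementaryAbelian p (frattini S) ∧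
      (p = 2 → frattini S ≤ center S) ∧ (p = 3 → frattini S ≤ Subgroup.upperCentralSeries S 2) ∧
      (3 < p → frattini S ≤ center S ∧ Monoid.exponent S = p) ∧
      ∀ A ∈ Cfsg.maxAbelianSubgroups S, ∀ B ∈ Cfsg.maxAbelianSubgroups S, ∀ Q : Subgroup S,
        Nat.card ↥A ^ 2 = Nat.card S * Nat.card ↥(center S) ∧
        Nat.card ↥Q * Nat.card ↥(center ↥Q) ≤ Nat.card S * Nat.card ↥(center S) ∧
        ((A ⊔ B : Subgroup S) : Set S) = (A : Set S) * (B : Set S) ∧
        A ⊔ B = centralizer ((A ⊓ B : Subgroup S) : Set S) := by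
  have hiff := Amalgam.minimalCentrallyLarge_iff_maxAbelian hQ₀ hab
  have htop : Cfsg.IsCentrallyLarge (⊤ : Subgroup S) := by
    have h := Amalgam.isCentrallyLarge_minimalCentrallyLargeJoin (G := S)
    have he : Cfsg.minimalCentrallyLargeJoin S = ⊤ := by
      rw [← hJ]
      unfold Cfsg.minimalCentrallyLargeJoin Cfsg.thompsonSubgroupA
      congr 1
      ext R
      exact hiff R
    rwa [he] at h
  have hmax : Cfsg.maxCentralProduct S = Nat.card S * Nat.card (center S) := by
    have hc : (center S) = (⊤ : Subgroup S) ⊓ centralizer ((⊤ : Subgroup S) : Set S) :=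
      le_antisymm (le_inf le_top fun z hz x _ => mem_center_iff.1 hz x)
        fun z hz => mem_center_iff.2 fun x => hz.2 x (mem_top x)
    rw [← htop, card_top, Amalgam.card_center_eq, ← hc]
  refine ⟨⟨inferInstance, hZ⟩, ?_, fun h2 => ?_, fun h3 => ?_, fun h5 => ?_, fun A hA B hB Q => ?_⟩
  rotate_left 4
  · have hAL := ((hiff A).2 hA).1
    have hA2 := hAL
    unfold Cfsg.IsCentrallyLarge at hA2
    rw [Amalgam.card_center_eq, Amalgam.centralizer_maxAbelian hA, inf_idem, hmax] at hA2
    obtain ⟨-, -, hset, hC, -⟩ := Amalgam.large_lattice (Amalgam.isCentrallyLarge_iff.1 hAL).1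
      (Amalgam.isCentrallyLarge_iff.1 ((hiff B).2 hB).1).1
    rw [Amalgam.centralizer_maxAbelian hA, Amalgam.centralizer_maxAbelian hB] at hC
    exact ⟨by rw [sq, hA2], (Amalgam.central_le_max Q).trans hmax.le, hset, hC.symm⟩
  all_goals unfold szero at h0
  · have hfr : ∀ {W : Subgroup S}, (frattini ↥(frattini S)).map (frattini S).subtype ≤ W → W = ⊥ →
        Cfsg.IsElementaryAbelian p (frattini S) := fun {W} hW hb => by
      obtain ⟨hc, hp⟩ := le_frattini_map (hS.to_subgroup (frattini S))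
      exact ⟨le_centralizer_iff_isMulCommutative.1 (commutator_eq_bot_iff_le_centralizer.1
        (le_bot_iff.1 ((hc.trans hW).trans hb.le))),
        fun a ha => mem_bot.1 (hb.le (hW (hp a ha)))⟩
    by_cases h2 : p = 2
    · rw [if_pos h2] at h0; exact hfr le_sup_right h0
    by_cases h3 : p = 3
    · rw [if_neg h2, if_pos h3] at h0; exact hfr le_sup_right h0
    rw [if_neg h2, if_neg h3, sup_eq_bot_iff] at h0
    refine ⟨le_centralizer_iff_isMulCommutative.1 (commutator_eq_bot_iff_le_centralizer.1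
      (le_bot_iff.1 ((commutator_mono le_rfl le_top).trans h0.1.le))), fun a _ => ?_⟩
    have : a ^ p ^ 1 ∈ Cfsg.powerClosure p 1 (⊤ : Subgroup S) := subset_closure ⟨a, mem_top a, rfl⟩
    rw [h0.2, mem_bot, pow_one] at this
    exact this
  · rw [if_pos h2, sup_eq_bot_iff, commutator_eq_bot_iff_le_centralizer] at h0
    exact fun x hx => mem_center_iff.2 fun y => h0.1 hx y (mem_top y)
  · rw [if_neg (by omega), if_pos h3, sup_eq_bot_iff, commutator_eq_bot_iff_le_centralizer] at h0
    intro x hx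
    rw [Subgroup.mem_upperCentralSeries_succ_iff]
    intro y
    rw [Subgroup.upperCentralSeries_one]
    exact mem_center_iff.2 fun z =>
      h0.1 (commutator_mem_commutator hx (mem_top y)) z (mem_top z)
  · rw [if_neg (by omega), if_neg (by omega), sup_eq_bot_iff, commutator_eq_bot_iff_le_centralizer] at h0
    refine ⟨fun x hx => mem_center_iff.2 fun y => h0.1 hx y (mem_top y), ?_⟩
    have hpow : ∀ a : S, a ^ p = 1 := fun a => by
      have : a ^ p ^ 1 ∈ Cfsg.powerClosure p 1 (⊤ : Subgroup S) := subset_closure ⟨a, mem_top a, rfl⟩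
      rw [h0.2, mem_bot, pow_one] at this
      exact this
    rcases (Nat.dvd_prime Fact.out).1 (Monoid.exponent_dvd_of_forall_pow_eq_one hpow) with h | h
    · haveI := Monoid.exp_eq_one_iff.1 h
      exact (false_of_nontrivial_of_subsingleton S).elim
    · exact h

end CfsgLib.ClassK.Push
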