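import Cfsg.Agent.Lib.ClassK.PushFam

/-!
Offenders in a family of pushing-up groups: if the conjugates of a neighbouring module at opposite
edges commute, then the group fixes every commutator of that module with the Sylow subgroup.
-/

set_option autoImplicit false
set_option linter.style.haveILetI false
set_option linter.unusedSectionVars false
set_option maxHeartbeats 1000000

namespace CfsgLib.ClassK.Push

open Subgroup
open scoped Pointwise commutatorElement

variable {P : Type*} [Group P] {ι : Type*}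

theorem mem_centralizer_sup {A B : Subgroup P} {x : P} (hA : x ∈ centralizer (A : Set P))
    (hB : x ∈ centralizer (B : Set P)) : x ∈ centralizer ((A ⊔ B : Subgroup P) : Set P) := by
  intro y hy
  have h : A ⊔ B ≤ centralizer ({x} : Set P) := sup_le
    (fun a ha => mem_centralizer_singleton_iff.2 (hA a ha))
    (fun b hb => mem_centralizer_singleton_iff.2 (hB b hb))
  exact mem_centralizer_singleton_iff.1 (h hy)

theorem conj_eq_of_centralizer {H : Subgroup P} {z g : P} (hz : z ∈ centralizer (H : Set P))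
    (hg : g ∈ H) : g * z * g⁻¹ = z := by
  rw [hz g hg, mul_inv_cancel_right]

theorem mem_normalizer_of_conj_le [Finite P] {H : Subgroup P} {g : P}
    (h : ∀ x ∈ H, g * x * g⁻¹ ∈ H) : g ∈ normalizer (H : Set P) := by
  refine CfsgLib.Comp.map_conj_eq_iff.1 (eq_of_le_of_card_ge ?_
    (card_map_of_injective (MulAut.conj g).injective).ge)
  rintro _ ⟨x, hx, rfl⟩
  exact h x hx

namespace Fam

variable {p : ℕ} {q : ι → ℕ} (D : Fam P ι p q)

/-- Further facts about the groups of a family. -/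
structure Ext : Prop where
  pgroup : IsPGroup p D.S
  off : ∀ i, ∃ A : Subgroup P, A ≤ D.S ∧ A ≤ centralizer (A : Set P) ∧
    (∀ B : Subgroup P, B ≤ D.S → B ≤ centralizer (B : Set P) → Nat.card B ≤ Nat.card A) ∧
    ¬ A ≤ D.Q i
  comm_Q : ∀ i, ⁅D.S, D.S⁆ ≤ D.Q i
  inv : p ≠ 2 → ∀ i, ∃ n ∈ D.G i, n ∈ normalizer (D.S : Set P) ∧ (orderOf n).Coprime p ∧
    (∀ s ∈ D.S, ⁅s, n⁆ ∈ D.Q i) ∧ ∀ v ∈ D.V i, n * v * n⁻¹ * v ∈ centralizer (D.G i : Set P)

/-- `g` moves the edge `k` to an opposite edge at `v`. -/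
def Opp (v : ι × P) (k g : P) : Prop := g ∈ D.Gv v ∧ D.Zv (g * k) ≠ D.Zv k

variable {D}

theorem Zv_mul (g k : P) : D.Zv (g * k) = cj g (D.Zv k) := cj_mul g k _

theorem Sv_mul (g k : P) : D.Sv (g * k) = cj g (D.Sv k) := cj_mul g k _

theorem Qv_translate (g : P) (v : ι × P) : D.Qv (v.1, g * v.2) = cj g (D.Qv v) := cj_mul _ _ _

theorem Gv_translate (g : P) (v : ι × P) : D.Gv (v.1, g * v.2) = cj g (D.Gv v) := cj_mul _ _ _

theorem In_smul [Finite P] {v : ι × P} {k g : P} (h : D.In v k) (hg : g ∈ D.Gv v) :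
    D.In v (g * k) := by
  rw [Gv, mem_cj] at hg
  have := mul_mem hg h
  simpa [In, mul_assoc] using this

variable [Finite P]

section Edge

variable {v : ι × P} {k : P} (hk : D.In v k)
include hk

theorem exists_Opp : ∃ g, D.Opp v k g := by
  obtain ⟨k', hk', hne⟩ := exists_opp hk
  refine ⟨k' * k⁻¹, ?_, by simpa [mul_assoc] using hne⟩
  rw [Gv, mem_cj]
  simpa [In, mul_assoc] using mul_mem hk' (inv_mem hk)

theorem exists_not_mem_Qv : ∃ a ∈ D.Sv k, a ∉ D.Qv v := by
  refine SetLike.not_le_iff_exists.1 fun h => ?_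
  have := relQ_edge hk
  rw [relIndex_eq_one.2 h] at this
  exact (D.one_lt _).ne this

theorem gen_opp {k' : P} (hk' : D.In v k') (hne : D.Zv k' ≠ D.Zv k) :
    D.Gv v ≤ D.Sv k ⊔ D.Sv k' := by
  obtain ⟨a, ha, haQ⟩ := exists_not_mem_Qv hk'
  exact (gen_edge hk hk' hne ha haQ).trans (sup_le_sup le_rfl (zpowers_le.2 ha))

theorem Opp.smul {g s : P} (hg : D.Opp v k g) (hs : s ∈ D.Sv k) : D.Opp v k (s * g) := by
  refine ⟨mul_mem (Sv_le hk hs) hg.1, fun e => hg.2 ?_⟩
  have hn : cj s (D.Zv k) = D.Zv k := cj_eq_self (centralizer_le_normalizer _ fun z hz =>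
    (commute_Zv_Sv hz hs).symm)
  rw [mul_assoc, Zv_mul s, ← hn] at e
  exact map_injective (MulAut.conj s).injective e

theorem Opp.ne_of_not_mem {g e : P} (hg : D.Opp v k g) (he : e ∈ D.Sv k) (heQ : e ∉ D.Qv v) :
    D.Zv (e * (g * k)) ≠ D.Zv (g * k) := by
  intro h
  have hk' := In_smul hk hg.1
  have hG : D.Gv v ≤ normalizer (D.Zv (g * k) : Set P) := by
    refine (gen_edge hk' hk hg.2.symm he heQ).trans (sup_le (fun s hs => centralizer_le_normalizer _
      fun z hz => (commute_Zv_Sv hz hs).symm) (zpowers_le.2 ?_))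
    refine CfsgLib.Comp.map_conj_eq_iff.1 ?_
    change cj e _ = _
    rw [← Zv_mul, h]
  refine hg.2 ?_
  have := cj_eq_self (hG (inv_mem hg.1))
  rw [Zv_mul, ← cj_mul, inv_mul_cancel] at this
  rw [Zv_mul, ← this]
  rw [show cj (1 : P) (D.Zv k) = D.Zv k from cj_eq_self (one_mem _)]

end Edge

/-- An abelian group acting on commuting modules: it is no bigger than what it moves. -/
theorem count {U : Subgroup P} (_hU : U ≤ centralizer (U : Set P)) (Mem : ι × P → P → Prop)
    (hin : ∀ w k, Mem w k → D.In w k) (hle : ∀ w k, Mem w k → D.Vv w ≤ U)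
    (hgen : ∀ B : Subgroup P, (∀ w k, Mem w k → B ≤ D.Sv k) →
      (∀ w k, Mem w k → B ≤ centralizer (D.Vv w : Set P)) → B ≤ centralizer (U : Set P))
    (m : ℕ) : ∀ B : Subgroup P, Nat.card B ≤ m → (∀ w k, Mem w k → B ≤ D.Sv k) →
      (B ⊓ centralizer (U : Set P)).relIndex B ≤ (U ⊓ centralizer (B : Set P)).relIndex U ∧
      ((U ⊓ centralizer (B : Set P)).relIndex U ≤ (B ⊓ centralizer (U : Set P)).relIndex B →
        ∀ w k, Mem w k → ¬ B ≤ centralizer (D.Vv w : Set P) →
          D.Sv k ≤ B ⊔ D.Qv w ∧ U ⊓ centralizer ((B ⊓ D.Qv w : Subgroup P) : Set P) ≤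
            D.Vv w ⊔ (U ⊓ centralizer (B : Set P))) := by
  induction m with
  | zero =>
    intro B hB _
    have h0 : 0 < Nat.card B := Nat.card_pos
    omega
  | succ m ih =>
    intro B hBm hB
    have step : ∀ w k, Mem w k → ¬ B ≤ centralizer (D.Vv w : Set P) →
        (B ⊓ centralizer (U : Set P)).relIndex B ≤ (U ⊓ centralizer (B : Set P)).relIndex U ∧
        ((U ⊓ centralizer (B : Set P)).relIndex U ≤ (B ⊓ centralizer (U : Set P)).relIndex B →
          D.Sv k ≤ B ⊔ D.Qv w ∧ U ⊓ centralizer ((B ⊓ D.Qv w : Subgroup P) : Set P) ≤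
            D.Vv w ⊔ (U ⊓ centralizer (B : Set P))) := by
      intro w k hwk hnc
      have hk := hin w k hwk
      set B' := B ⊓ D.Qv w with hB'
      set U1 := U ⊓ centralizer (B : Set P)
      set U2 := U ⊓ centralizer (B' : Set P)
      obtain ⟨b, hb, hbV⟩ := SetLike.not_le_iff_exists.1 hnc
      have hbQ : b ∉ D.Qv w := fun h => hbV fun x hx => (D.Vv_cent w hx b h).symm
      have hlt : Nat.card B' < Nat.card B := lt_of_le_of_ne (card_le_of_le inf_le_left) fun e =>
        hbQ ((eq_of_le_of_card_ge inf_le_left e.ge : B' = B).ge hb).2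
      obtain ⟨h1, -⟩ := ih B' (by omega) fun w' k' h' => inf_le_left.trans (hB w' k' h')
      have hBU : B' ⊓ centralizer (U : Set P) = B ⊓ centralizer (U : Set P) := by
        refine le_antisymm (inf_le_inf inf_le_left le_rfl) fun y hy => ⟨⟨hy.1, ?_⟩, hy.2⟩
        exact mem_Qv_of_commute hk (hB w k hwk hy.1) fun x hx => hy.2 x (hle w k hwk hx)
      rw [hBU] at h1
      have hU12 : U1 ≤ U2 := inf_le_inf_left _ (centralizer_le inf_le_left)
      have hV2 : D.Vv w ≤ U2 := le_inf (hle w k hwk) ((D.Vv_cent w).trans (centralizer_le inf_le_right))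
      have h2 : q w.1 ≤ U1.relIndex (D.Vv w) := by
        rw [← inf_relIndex_right]
        refine (relV_edge hk).ge.trans
          (Nat.le_of_dvd (relIndex_pos' _ _) (relIndex_dvd_of_le_left _ ?_))
        rintro x ⟨hx1, hx⟩
        exact fix_edge hk (hB w k hwk hb) hbQ hx (hx1.2 b hb).symm
      have h3 : B'.relIndex B ≤ q w.1 := by
        rw [hB', inf_relIndex_left]
        exact (relIndex_le_of_le' (hB w k hwk)).trans (relQ_edge hk).le
      have h4 := relIndex_mul_relIndex (B ⊓ centralizer (U : Set P)) B' B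
        (hBU ▸ inf_le_left) inf_le_left
      have h5 := relIndex_mul_relIndex U1 U2 U hU12 inf_le_left
      have hVsup : q w.1 ≤ U1.relIndex (D.Vv w ⊔ U1) := h2.trans (relIndex_le_of_le' le_sup_left)
      have h6 : U1.relIndex (D.Vv w ⊔ U1) * (D.Vv w ⊔ U1).relIndex U2 = U1.relIndex U2 :=
        relIndex_mul_relIndex _ _ _ le_sup_right (sup_le hV2 hU12)
      have p1 := relIndex_pos' (D.Vv w ⊔ U1) U2
      have p2 := relIndex_pos' (B ⊓ centralizer (U : Set P)) B'
      have p3 := relIndex_pos' U2 U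
      have p4 := D.one_lt w.1
      have p5 := relIndex_pos' B' B
      have q1 : q w.1 ≤ U1.relIndex U2 := h6 ▸ hVsup.trans (Nat.le_mul_of_pos_right _ p1)
      refine ⟨?_, fun hge => ?_⟩
      · rw [← h4, ← h5, mul_comm (U1.relIndex U2)]
        exact Nat.mul_le_mul h1 (h3.trans q1)
      rw [← h4, ← h5] at hge
      have e1 : B'.relIndex B = q w.1 := by
        refine le_antisymm h3 (Nat.le_of_mul_le_mul_left ?_ p2)
        calc _ ≤ U2.relIndex U * U1.relIndex U2 := Nat.mul_le_mul h1 q1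
          _ = U1.relIndex U2 * U2.relIndex U := mul_comm _ _
          _ ≤ _ := hge
      refine ⟨?_, ?_⟩
      · have hBS : B ⊔ D.Qv w ≤ D.Sv k := sup_le (hB w k hwk) (Qv_le hk)
        have h7 := relIndex_mul_relIndex (D.Qv w) (B ⊔ D.Qv w) _ le_sup_right hBS
        rw [relQ_edge hk] at h7
        have h8 : q w.1 ≤ (D.Qv w).relIndex (B ⊔ D.Qv w) := by
          refine le_trans (le_of_eq ?_) (relIndex_le_of_le' le_sup_left)
          rw [← e1, hB', inf_relIndex_left]
        have h9 := relIndex_pos' (B ⊔ D.Qv w) (D.Sv k)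
        exact relIndex_eq_one.1 (by nlinarith)
      · refine relIndex_eq_one.1 (le_antisymm ?_ p1)
        by_contra h10
        have h12 : q w.1 * 2 ≤ U1.relIndex U2 := h6 ▸ Nat.mul_le_mul hVsup (by omega)
        have h13 : U1.relIndex U2 * U2.relIndex U ≤ q w.1 * U2.relIndex U := by
          refine hge.trans ?_
          rw [e1, mul_comm (q w.1)]
          exact Nat.mul_le_mul_right _ h1
        have h14 := Nat.le_of_mul_le_mul_right h13 p3
        omega
    by_cases hall : ∀ w k, Mem w k → B ≤ centralizer (D.Vv w : Set P)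
    · refine ⟨?_, fun _ w k hwk hnc => absurd (hall w k hwk) hnc⟩
      rw [inf_eq_left.2 (hgen B hB hall), relIndex_self]
      exact relIndex_pos' _ _
    simp only [not_forall] at hall
    obtain ⟨w, k, hwk, hnc⟩ := hall
    exact ⟨(step w k hwk hnc).1, fun hge w' k' h' hnc' => (step w' k' h' hnc').2 hge⟩

section Orbit

variable {v w : ι × P} {k g : P} (hX : D.Ext) (hv : D.In v k) (hw : D.In w k)
  (hVQ : D.Vv w ≤ D.Qv v)
  (hab : ∀ g, D.Opp v k g → D.Vv w ≤ centralizer (cj g (D.Vv w) : Set P)) (hg : D.Opp v k g)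

include hX hv in
theorem exists_offender : ∃ A : Subgroup P, A ≤ D.Sv k ∧ A ≤ centralizer (A : Set P) ∧
    (∀ B : Subgroup P, B ≤ D.Sv k → B ≤ centralizer (B : Set P) → Nat.card B ≤ Nat.card A) ∧
    ¬ A ≤ D.Qv v := by
  obtain ⟨A, hA, hAab, hmax, hAQ⟩ := hX.off v.1
  refine ⟨cj k A, cj_mono hA, ?_, fun B hB hBab => ?_, fun h => hAQ ?_⟩
  · rintro _ ⟨a, ha, rfl⟩ _ ⟨b, hb, rfl⟩
    rw [← map_mul, ← map_mul, hAab ha b hb]
  · have h1 := hmax (cj k⁻¹ B) (fun x hx => by
      rw [mem_cj, inv_inv] at hx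
      have := hB hx
      rw [Sv, mem_cj] at this
      simpa [mul_assoc] using this) (by
      rintro _ ⟨a, ha, rfl⟩ _ ⟨b, hb, rfl⟩
      rw [← map_mul, ← map_mul, hBab ha b hb])
    rw [cj, card_map_of_injective (MulAut.conj k⁻¹).injective] at h1
    rwa [cj, card_map_of_injective (MulAut.conj k).injective]
  · rw [Qv_eq hv] at h
    exact (Subgroup.map_le_map_iff_of_injective (MulAut.conj k).injective).1 h

variable {A : Subgroup P} (hA : A ≤ D.Sv k) (hAab : A ≤ centralizer (A : Set P))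
  (hAmax : ∀ B : Subgroup P, B ≤ D.Sv k → B ≤ centralizer (B : Set P) → Nat.card B ≤ Nat.card A)
  (hAQ : ¬ A ≤ D.Qv v)

/-- The modules moved by `A` from one opposite edge, with the two base modules. -/
def orbitSup (D : Fam P ι p q) (A : Subgroup P) (v w : ι × P) (g : P) : Subgroup P :=
  D.Vv v ⊔ D.Vv w ⊔ ⨆ e : A, cj ((e : P) * g) (D.Vv w)

include hv hw hVQ hab hg hA hAab hAmax hAQ

/-- The offender count at a vertex. -/
theorem orbit_tight :
    D.Sv k ≤ A ⊔ D.Qv v ∧ orbitSup D A v w g ≤ centralizer (orbitSup D A v w g : Set P) ∧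
    orbitSup D A v w g ⊓ centralizer ((A ⊓ D.Qv v : Subgroup P) : Set P) ≤
      D.Vv v ⊔ (orbitSup D A v w g ⊓ centralizer (A : Set P)) ∧
    ∀ e ∈ A, (¬ A ⊓ D.Qv v ≤ centralizer (cj (e * g) (D.Vv w) : Set P) →
        D.Sv (e * g * k) ≤ (A ⊓ D.Qv v) ⊔ cj (e * g) (D.Qv w) ∧
        orbitSup D A v w g ⊓
            centralizer ((A ⊓ D.Qv v ⊓ cj (e * g) (D.Qv w) : Subgroup P) : Set P) ≤
          cj (e * g) (D.Vv w) ⊔
            (orbitSup D A v w g ⊓ centralizer ((A ⊓ D.Qv v : Subgroup P) : Set P))) ∧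
      (¬ A ⊓ D.Qv v ≤ centralizer (D.Vv w : Set P) →
        orbitSup D A v w g ⊓ centralizer ((A ⊓ D.Qv v ⊓ D.Qv w : Subgroup P) : Set P) ≤
          D.Vv w ⊔ (orbitSup D A v w g ⊓ centralizer ((A ⊓ D.Qv v : Subgroup P) : Set P))) := by
  classical
  set U := orbitSup D A v w g with hUdef
  set B := A ⊓ D.Qv v with hBdef
  have hopp : ∀ e ∈ A, D.Opp v k (e * g) := fun e he => hg.smul hv (hA he)
  have hWg : ∀ e ∈ A, cj (e * g) (D.Vv w) ≤ D.Qv v := fun e he =>
    (cj_mono hVQ).trans (cj_eq_self (D.Qv_norm v (hopp e he).1)).le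
  have hUQ : U ≤ D.Qv v := sup_le (sup_le (D.Vv_le v) hVQ) (iSup_le fun e => hWg e e.2)
  have hUS : U ≤ D.Sv k := hUQ.trans (Qv_le hv)
  have hUab : U ≤ centralizer (U : Set P) := by
    have hVU : D.Vv v ≤ centralizer (U : Set P) := (D.Vv_cent v).trans (centralizer_le hUQ)
    have hWU : D.Vv w ≤ centralizer (U : Set P) := by
      intro x hx
      refine mem_centralizer_sup (mem_centralizer_sup (fun y hy =>
        (D.Vv_cent v hy x (hVQ hx)).symm) (D.Vv_comm w hx)) ?_
      have : (⨆ e : A, cj ((e : P) * g) (D.Vv w)) ≤ centralizer ({x} : Set P) := iSup_le fun e y hy =>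
        mem_centralizer_singleton_iff.2 (hab _ (hopp e e.2) hx y hy)
      exact fun y hy => mem_centralizer_singleton_iff.1 (this hy)
    refine sup_le (sup_le hVU hWU) (iSup_le fun e x hx => ?_)
    refine mem_centralizer_sup (mem_centralizer_sup (fun y hy =>
      (D.Vv_cent v hy x (hWg e e.2 hx)).symm) (fun y hy => (hab _ (hopp e e.2) hy x hx).symm)) ?_
    have key : (⨆ e' : A, cj ((e' : P) * g) (D.Vv w)) ≤ centralizer ({x} : Set P) := by
      refine iSup_le fun e' y hy => mem_centralizer_singleton_iff.2 ?_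
      set f : P := (e : P)⁻¹ * e' with hf
      have hfA : f ∈ A := mul_mem (inv_mem e.2) e'.2
      have hg' := In_smul hv hg.1
      have hwg := In_translate g hw
      have hcomm : ∀ x' ∈ cj g (D.Vv w), ∀ y' ∈ cj (f * g) (D.Vv w), y' * x' = x' * y' := by
        intro x' hx' y' hy'
        by_cases hfQ : f ∈ D.Qv v
        · have e1 : cj (f * g) (D.Vv w) = cj g (D.Vv w) := by
            rw [cj_mul]
            refine cj_eq_self ?_
            rw [← Vv_translate]
            exact D.Vv_norm _ (Sv_le hwg (Qv_le hg' hfQ))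
          rw [e1, ← Vv_translate] at hy'
          rw [← Vv_translate] at hx'
          exact (D.Vv_comm _ hy' x' hx').symm
        · have h2 : D.Opp v k (g⁻¹ * f * g) := by
            refine ⟨mul_mem (mul_mem (inv_mem hg.1) (Sv_le hv (hA hfA))) hg.1, fun h3 => ?_⟩
            refine hg.ne_of_not_mem hv (hA hfA) hfQ ?_
            rw [show f * (g * k) = g * (g⁻¹ * f * g * k) by group, Zv_mul g, h3, ← Zv_mul]
          obtain ⟨x₀, hx₀, rfl⟩ := hx'
          have hy₀ : g⁻¹ * y' * g ∈ cj (g⁻¹ * f * g) (D.Vv w) := by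
            rw [mem_cj] at hy' ⊢
            simpa [mul_assoc] using hy'
          have h4 := hab _ h2 hx₀ _ hy₀
          show y' * (g * x₀ * g⁻¹) = g * x₀ * g⁻¹ * y'
          calc y' * (g * x₀ * g⁻¹) = g * (g⁻¹ * y' * g * x₀) * g⁻¹ := by group
            _ = g * (x₀ * (g⁻¹ * y' * g)) * g⁻¹ := by rw [h4]
            _ = _ := by group
      have hx' : (e : P)⁻¹ * x * e ∈ cj g (D.Vv w) := by
        rw [mem_cj] at hx ⊢
        simpa [mul_assoc] using hx
      have hy' : (e : P)⁻¹ * y * e ∈ cj (f * g) (D.Vv w) := by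
        rw [mem_cj] at hy ⊢
        simpa [f, mul_assoc] using hy
      have h := hcomm _ hx' _ hy'
      calc y * x = (e : P) * ((e : P)⁻¹ * y * e * ((e : P)⁻¹ * x * e)) * (e : P)⁻¹ := by group
        _ = (e : P) * ((e : P)⁻¹ * x * e * ((e : P)⁻¹ * y * e)) * (e : P)⁻¹ := by rw [h]
        _ = _ := by group
    exact fun y hy => mem_centralizer_singleton_iff.1 (key hy)
  let Mem : ι × P → P → Prop := fun w' k' => (w' = w ∧ k' = k) ∨
    ∃ e ∈ A, w' = (w.1, e * g * w.2) ∧ k' = e * g * k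
  have hin : ∀ w' k', Mem w' k' → D.In w' k' := by
    rintro w' k' (⟨rfl, rfl⟩ | ⟨e, -, rfl, rfl⟩)
    · exact hw
    · exact In_translate _ hw
  have hle : ∀ w' k', Mem w' k' → D.Vv w' ≤ U := by
    rintro w' k' (⟨rfl, rfl⟩ | ⟨e, he, rfl, rfl⟩)
    · exact le_sup_right.trans le_sup_left
    · rw [Vv_translate]
      exact (le_iSup (fun e : A => cj ((e : P) * g) (D.Vv w)) ⟨e, he⟩).trans le_sup_right
  have hBMem : ∀ w' k', Mem w' k' → B ≤ D.Sv k' := by
    rintro w' k' (⟨rfl, rfl⟩ | ⟨e, he, rfl, rfl⟩)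
    · exact inf_le_left.trans hA
    · exact inf_le_right.trans (Qv_le (In_smul hv (hopp e he).1))
  -- the count for `B`
  have hcount : (B ⊓ centralizer (U : Set P)).relIndex B ≤ (U ⊓ centralizer (B : Set P)).relIndex U ∧
      ((U ⊓ centralizer (B : Set P)).relIndex U ≤ (B ⊓ centralizer (U : Set P)).relIndex B →
        ∀ w' k', Mem w' k' → ¬ B ≤ centralizer (D.Vv w' : Set P) →
          D.Sv k' ≤ B ⊔ D.Qv w' ∧ U ⊓ centralizer ((B ⊓ D.Qv w' : Subgroup P) : Set P) ≤
            D.Vv w' ⊔ (U ⊓ centralizer (B : Set P))) := by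
    refine count hUab (fun w' k' => Mem w' k' ∨ False) (fun w' k' h => hin w' k' (h.resolve_right id))
      (fun w' k' h => hle w' k' (h.resolve_right id)) ?_ (Nat.card B) B le_rfl
      (fun w' k' h => hBMem w' k' (h.resolve_right id)) |>.imp id
        (fun h h' w' k' hm => h h' w' k' (Or.inl hm))
    intro B' hB'S hB'
    have hB'V : ∀ x ∈ D.Vv v, ∀ b ∈ B', x * b = b * x := by
      intro x hx b hb
      have hbS : b ∈ D.Sv k := hB'S w k (Or.inl (Or.inl ⟨rfl, rfl⟩)) hb
      have hbS' : b ∈ D.Sv (g * k) :=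
        hB'S (w.1, g * w.2) (g * k) (Or.inl (Or.inr ⟨1, one_mem _, by simp, by simp⟩)) hb
      by_cases hbQ : b ∈ D.Qv v
      · exact (D.Vv_cent v hx b hbQ).symm
      · exfalso
        obtain ⟨z, hz, hzne⟩ : ∃ z ∈ D.Zv (g * k), z ∉ D.Zv k := by
          refine SetLike.not_le_iff_exists.1 fun h => hg.2 (eq_of_le_of_card_ge h ?_)
          rw [Zv_mul, cj, card_map_of_injective (MulAut.conj g).injective]
        exact hzne (fix_edge hv hbS hbQ (Zv_le (In_smul hv hg.1) hz) (commute_Zv_Sv hz hbS').symm)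
    intro b hb
    have h1 : U ≤ centralizer ({b} : Set P) := sup_le (sup_le
      (fun x hx => mem_centralizer_singleton_iff.2 (hB'V x hx b hb))
      (fun x hx => mem_centralizer_singleton_iff.2 (hB' w k (Or.inl (Or.inl ⟨rfl, rfl⟩)) hb x hx)))
      (iSup_le fun e x hx => mem_centralizer_singleton_iff.2 (by
        rw [← Vv_translate] at hx
        exact hB' _ _ (Or.inl (Or.inr ⟨e, e.2, rfl, rfl⟩)) hb x hx))
    exact fun x hx => mem_centralizer_singleton_iff.1 (h1 hx)
  -- the bound from `A`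
  have hCA : ∀ x ∈ D.Sv k, x ∈ centralizer (A : Set P) → x ∈ A := by
    intro x hx hxA
    have h := hAmax (A ⊔ zpowers x) (sup_le hA (zpowers_le.2 hx)) (sup_le
      (fun a ha => mem_centralizer_sup (hAab ha) fun y hy => by
        obtain ⟨i, rfl⟩ := hy
        exact ((show Commute a x from hxA a ha).zpow_right i).symm.eq)
      (zpowers_le.2 (mem_centralizer_sup hxA fun y hy => by
        obtain ⟨i, rfl⟩ := hy
        exact ((Commute.refl x).zpow_left i).eq)))
    exact (eq_of_le_of_card_ge le_sup_left h).ge (mem_sup_right (mem_zpowers x))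
  set U0 := U ⊓ centralizer (A : Set P) with hU0
  set A0 := A ⊓ centralizer (U : Set P) with hA0
  have hUA : U0 = U ⊓ A := le_antisymm (fun x hx => ⟨hx.1, hCA x (hUS hx.1) hx.2⟩)
    (inf_le_inf_left _ hAab)
  have hU0A0 : U0 ≤ A0 := le_inf (hUA.le.trans inf_le_right) (inf_le_left.trans hUab)
  have hineq : U0.relIndex U ≤ A0.relIndex A := by
    have hX : A0 ⊔ U ≤ centralizer ((A0 ⊔ U : Subgroup P) : Set P) := sup_le
      (fun x hx => mem_centralizer_sup (fun y hy => hAab hx.1 y hy.1) hx.2)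
      (fun x hx => mem_centralizer_sup (fun y hy => (hy.2 x hx).symm) (hUab hx))
    have h1 := hAmax (A0 ⊔ U) (sup_le (inf_le_left.trans hA) hUS) hX
    have h2 : U.relIndex (A0 ⊔ U) = U0.relIndex A0 := by
      rw [sup_comm, relIndex_sup_of_le_normalizer
        (fun x hx => centralizer_le_normalizer _ (inf_le_right (a := A) hx)), ← inf_relIndex_right]
      congr 1
      exact le_antisymm (fun x hx => hUA.ge ⟨hx.1, hx.2.1⟩)
        (le_inf inf_le_left hU0A0)
    rw [card_eq_mul (le_sup_right : U ≤ A0 ⊔ U), h2, card_eq_mul (inf_le_left : U0 ≤ U),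
      card_eq_mul (inf_le_left : A0 ≤ A), card_eq_mul hU0A0] at h1
    have p1 : 0 < Nat.card U0 * U0.relIndex A0 := Nat.mul_pos Nat.card_pos (relIndex_pos' _ _)
    refine Nat.le_of_mul_le_mul_left ?_ p1
    calc _ = Nat.card U0 * U0.relIndex U * U0.relIndex A0 := by ring
      _ ≤ _ := h1
  have hA0B : A0 ≤ B := fun x hx => ⟨hx.1, mem_Qv_of_commute hv (hA hx.1)
    fun y hy => hx.2 y ((le_sup_left.trans le_sup_left : D.Vv v ≤ U) hy)⟩
  have hA0eq : A0 = B ⊓ centralizer (U : Set P) :=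
    le_antisymm (le_inf hA0B inf_le_right) (inf_le_inf_right _ inf_le_left)
  set U1 := U ⊓ centralizer (B : Set P) with hU1
  have hU01 : U0 ≤ U1 := inf_le_inf_left _ (centralizer_le inf_le_left)
  have hVU1 : D.Vv v ≤ U1 := le_inf (le_sup_left.trans le_sup_left)
    ((D.Vv_cent v).trans (centralizer_le inf_le_right))
  obtain ⟨a, ha, haQ⟩ := SetLike.not_le_iff_exists.1 hAQ
  have hqV : q v.1 ≤ U0.relIndex (D.Vv v) := by
    rw [← inf_relIndex_right]
    refine (relV_edge hv).ge.trans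
      (Nat.le_of_dvd (relIndex_pos' _ _) (relIndex_dvd_of_le_left _ ?_))
    rintro x ⟨hx1, hx⟩
    exact fix_edge hv (hA ha) haQ hx (hx1.2 a ha).symm
  have hBA : B.relIndex A ≤ q v.1 := by
    rw [hBdef, inf_relIndex_left]
    exact (relIndex_le_of_le' hA).trans (relQ_edge hv).le
  have hmulA := relIndex_mul_relIndex A0 B A hA0B inf_le_left
  have hmulU := relIndex_mul_relIndex U0 U1 U hU01 inf_le_left
  have hV1 : q v.1 ≤ U0.relIndex (D.Vv v ⊔ U0) := hqV.trans (relIndex_le_of_le' le_sup_left)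
  have hmulV := relIndex_mul_relIndex U0 (D.Vv v ⊔ U0) U1 le_sup_right (sup_le hVU1 hU01)
  have pV := relIndex_pos' (D.Vv v ⊔ U0) U1
  have pA := relIndex_pos' A0 B
  have pU := relIndex_pos' U1 U
  have hq1 : q v.1 ≤ U0.relIndex U1 := hmulV ▸ hV1.trans (Nat.le_mul_of_pos_right _ pV)
  rw [← hmulA, ← hmulU] at hineq
  obtain ⟨hc1, hc2⟩ := hcount
  rw [← hA0eq] at hc1 hc2
  have hBeq : B.relIndex A = q v.1 := by
    refine le_antisymm hBA (Nat.le_of_mul_le_mul_left ?_ pA)
    calc _ ≤ U1.relIndex U * U0.relIndex U1 := Nat.mul_le_mul hc1 hq1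
      _ = U0.relIndex U1 * U1.relIndex U := mul_comm _ _
      _ ≤ _ := hineq
  have htight : U1.relIndex U ≤ A0.relIndex B := by
    refine Nat.le_of_mul_le_mul_left ?_ (show 0 < q v.1 from lt_trans Nat.one_pos (D.one_lt _))
    calc _ ≤ U0.relIndex U1 * U1.relIndex U := Nat.mul_le_mul_right _ hq1
      _ ≤ _ := hineq
      _ = _ := by rw [hBeq, mul_comm]
  refine ⟨?_, hUab, ?_, fun e he => ⟨fun hnc => ?_, fun hnc => ?_⟩⟩
  · have hAS : A ⊔ D.Qv v ≤ D.Sv k := sup_le hA (Qv_le hv)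
    have h7 := relIndex_mul_relIndex (D.Qv v) (A ⊔ D.Qv v) _ le_sup_right hAS
    rw [relQ_edge hv] at h7
    have h8 : q v.1 ≤ (D.Qv v).relIndex (A ⊔ D.Qv v) := by
      refine le_trans (le_of_eq ?_) (relIndex_le_of_le' le_sup_left)
      rw [← hBeq, hBdef, inf_relIndex_left]
    have h9 := relIndex_pos' (A ⊔ D.Qv v) (D.Sv k)
    have := D.one_lt v.1
    exact relIndex_eq_one.1 (by nlinarith)
  · refine relIndex_eq_one.1 (le_antisymm ?_ pV)
    by_contra h10
    have h12 : q v.1 * 2 ≤ U0.relIndex U1 := hmulV ▸ Nat.mul_le_mul hV1 (by omega)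
    have h13 : U0.relIndex U1 * U1.relIndex U ≤ q v.1 * U1.relIndex U := by
      refine hineq.trans ?_
      rw [hBeq, mul_comm (q v.1)]
      exact Nat.mul_le_mul_right _ hc1
    have h14 := Nat.le_of_mul_le_mul_right h13 pU
    have := D.one_lt v.1
    omega
  · rw [← Vv_translate] at hnc
    have := hc2 htight _ (e * g * k) (Or.inr ⟨e, he, rfl, rfl⟩) hnc
    rwa [Vv_translate, Qv_translate] at this
  · exact (hc2 htight w k (Or.inl ⟨rfl, rfl⟩) hnc).2

include hX in
omit hA hAab hAmax hAQ hg in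
/-- The group fixes the commutators of a moved neighbour with the Sylow subgroup. -/
theorem fixed_comm (hnr : ¬ D.Gv v ≤ normalizer ((D.Vv v ⊔ D.Vv w : Subgroup P) : Set P)) :
    ∀ x ∈ D.Vv w, ∀ s ∈ D.Sv k, ⁅x, s⁆ ∈ centralizer (D.Gv v : Set P) := by
  classical
  obtain ⟨g, hg⟩ := exists_Opp hv
  obtain ⟨A, hA, hAab, hAmax, hAQ⟩ := exists_offender hX hv
  obtain ⟨hcov, hUab, hUB, hmem⟩ := orbit_tight hv hw hVQ hab hg hA hAab hAmax hAQ
  obtain ⟨hm1, -⟩ := hmem 1 (one_mem A)
  rw [one_mul] at hm1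
  have hk' := In_smul hv hg.1
  have hwg := In_translate g hw
  set B := A ⊓ D.Qv v
  set Wg := cj g (D.Vv w) with hWg
  have hWgQ : Wg ≤ D.Qv v := (cj_mono hVQ).trans (cj_eq_self (D.Qv_norm v hg.1)).le
  have hWgU : Wg ≤ orbitSup D A v w g := by
    refine le_trans ?_ ((le_iSup (fun e : A => cj ((e : P) * g) (D.Vv w)) ⟨1, one_mem A⟩).trans
      le_sup_right)
    show Wg ≤ cj (1 * g) (D.Vv w)
    rw [one_mul]
  have hnB : ¬ B ≤ centralizer (Wg : Set P) := by
    intro hB
    refine hnr ?_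
    have hWn : D.Sv (g * k) ≤ normalizer (Wg : Set P) := by
      rw [hWg, ← Vv_translate]; exact (Sv_le hwg).trans (D.Vv_norm _)
    have hVWn : ∀ {s : P}, s ∈ D.Sv k → s ∈ normalizer ((D.Vv v ⊔ Wg : Subgroup P) : Set P) := by
      suffices hh : D.Sv k ≤ normalizer ((D.Vv v ⊔ Wg : Subgroup P) : Set P) from fun {s} h => hh h
      refine hcov.trans (sup_le ?_ ?_)
      · intro a ha
        refine CfsgLib.Comp.map_conj_eq_iff.1 (eq_of_le_of_card_ge ?_
          (card_map_of_injective (MulAut.conj a).injective).ge)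
        rw [Subgroup.map_sup]
        refine sup_le (le_of_eq_of_le (cj_eq_self (D.Vv_norm _ (Sv_le hv (hA ha)))) le_sup_left) ?_
        rintro _ ⟨x, hx, rfl⟩
        have hx1 : x ∈ orbitSup D A v w g ⊓ centralizer (B : Set P) :=
          ⟨hWgU hx, fun b hb => (hB hb x hx).symm⟩
        obtain ⟨c, hc, v', hv', rfl⟩ := CfsgLib.Comp.exists_mul_of_mem_sup
          (H := orbitSup D A v w g ⊓ centralizer (A : Set P)) (K := D.Vv v)
          (fun y hy => centralizer_le_normalizer _ fun z hz =>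
            D.Vv_cent v hy z (by
              have : orbitSup D A v w g ≤ D.Qv v := sup_le (sup_le (D.Vv_le v) hVQ) (iSup_le fun e =>
                (cj_mono hVQ).trans (cj_eq_self (D.Qv_norm v (hg.smul hv (hA e.2)).1)).le)
              exact this hz.1))
          (by rw [sup_comm]; exact hUB hx1)
        show a * (c * v') * a⁻¹ ∈ _
        have h1 : a * c = c * a := hc.2 a ha
        rw [show a * (c * v') * a⁻¹ = (c * v') * (v'⁻¹ * (a * v' * a⁻¹)) by
          rw [← mul_assoc a, h1]; group]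
        exact mul_mem (mem_sup_right hx) (mem_sup_left (mul_mem (inv_mem hv')
          ((mem_normalizer_iff.1 (D.Vv_norm _ (Sv_le hv (hA ha))) v').1 hv')))
      · exact CfsgLib.Comp.le_normalizer_sup ((Qv_le hv).trans ((Sv_le hv).trans (D.Vv_norm v)))
          ((Qv_le hk').trans hWn)
    have hG : D.Gv v ≤ normalizer ((D.Vv v ⊔ Wg : Subgroup P) : Set P) :=
      (gen_opp hv hk' hg.2).trans (sup_le (fun s hs => hVWn hs)
        (CfsgLib.Comp.le_normalizer_sup ((Sv_le hk').trans (D.Vv_norm v)) hWn))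
    intro h hh
    have h1 : cj g (D.Vv v ⊔ D.Vv w) = D.Vv v ⊔ Wg := by
      rw [cj, Subgroup.map_sup]
      exact congrArg₂ (· ⊔ ·) (cj_eq_self (D.Vv_norm v hg.1)) rfl
    refine CfsgLib.Comp.map_conj_eq_iff.1 ?_
    refine map_injective (f := (MulAut.conj g).toMonoidHom) (MulAut.conj g).injective ?_
    show cj g (cj h _) = cj g _
    rw [← cj_mul, show g * h = g * h * g⁻¹ * g by group, cj_mul, h1]
    exact cj_eq_self (hG (mul_mem (mul_mem hg.1 hh) (inv_mem hg.1)))
  obtain ⟨hScov, hUB'⟩ := hm1 hnB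
  obtain ⟨e, he, heQ⟩ := SetLike.not_le_iff_exists.1 hAQ
  have heG : e ∈ D.Gv v := Sv_le hv (hA he)
  have key : ∀ x ∈ Wg, ∀ b ∈ B, ⁅x, b⁆ ∈ centralizer (D.Gv v : Set P) := by
    intro x hx b hb
    have hxe : e * x * e⁻¹ ∈ orbitSup D A v w g ⊓
        centralizer ((B ⊓ cj g (D.Qv w) : Subgroup P) : Set P) := by
      refine ⟨((le_iSup (fun e : A => cj ((e : P) * g) (D.Vv w)) ⟨e, he⟩).trans le_sup_right) ?_, ?_⟩
      · show e * x * e⁻¹ ∈ cj (e * g) (D.Vv w)
        rw [cj_mul]; exact conj_mem_cj hx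
      · rintro b' ⟨hb', hb'Q⟩
        have h1 : e * b' = b' * e := (hAab he b' hb'.1).symm
        have h2 : b' * x = x * b' := by
          rw [← Qv_translate] at hb'Q
          rw [hWg, ← Vv_translate] at hx
          exact D.Vv_cent _ hx b' hb'Q
        calc b' * (e * x * e⁻¹) = e * (b' * x) * e⁻¹ := by rw [← mul_assoc, ← mul_assoc, ← h1]; group
          _ = e * x * (b' * e⁻¹) := by rw [h2]; group
          _ = _ := by rw [((show Commute e b' from h1).inv_left).eq.symm]; group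
    obtain ⟨c, hc, x', hx', hcx⟩ := CfsgLib.Comp.exists_mul_of_mem_sup
      (H := orbitSup D A v w g ⊓ centralizer (B : Set P)) (K := Wg)
      (fun y hy => centralizer_le_normalizer _ fun z hz => hUab (hWgU hy) z hz.1)
      (by rw [sup_comm]; exact hUB' hxe)
    have hbS' : b ∈ D.Sv (g * k) := Qv_le hk' hb.2
    set z := ⁅x, b⁆ with hz
    have hzZ : z ∈ D.Zv (g * k) := comm_mem_edge hwg (by rw [Vv_translate]; exact hx) hbS'
    have hez : e * z * e⁻¹ = ⁅x', b⁆ := by
      have h1 : e * b * e⁻¹ = b := by rw [← hAab he b hb.1, mul_inv_cancel_right]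
      rw [hz, ← commutatorElement_conj, h1, ← hcx]
      have hcb : c * b = b * c := (hc.2 b hb).symm
      have h3 : ⁅x', b⁆ * c = c * ⁅x', b⁆ := by
        have hx'U : ⁅x', b⁆ ∈ orbitSup D A v w g := by
          refine hWgU ?_
          rw [hWg, ← Vv_translate]
          rw [hWg, ← Vv_translate] at hx'
          exact mul_inv_mem_of_commutatorElement.2 (mul_mem hx'
            ((mem_normalizer_iff.1 (D.Vv_norm _ (Sv_le hwg hbS')) _).1 (inv_mem hx')))
        exact hUab hc.1 _ hx'U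
      calc ⁅c * x', b⁆ = c * ⁅x', b⁆ * c⁻¹ * (c * b * c⁻¹ * b⁻¹) := by
            simp [commutatorElement_def, mul_assoc]
        _ = _ := by rw [← h3, hcb]; group
    have hezZ : e * z * e⁻¹ ∈ D.Zv (g * k) :=
      hez ▸ comm_mem_edge hwg (by rw [Vv_translate]; exact hx') hbS'
    have hezZ' : e * z * e⁻¹ ∈ D.Zv (e * (g * k)) := by
      rw [Zv_mul e]; exact conj_mem_cj hzZ
    have hcen : e * z * e⁻¹ ∈ centralizer (D.Gv v : Set P) := by
      refine centralizer_le (gen_opp hk' (In_smul hk' heG) (hg.ne_of_not_mem hv (hA he) heQ)) ?_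
      exact mem_centralizer_sup (fun s hs => commute_Zv_Sv hezZ hs)
        (fun s hs => commute_Zv_Sv hezZ' hs)
    have h5 := conj_eq_of_centralizer hcen (inv_mem heG)
    rw [inv_inv, show e⁻¹ * (e * z * e⁻¹) * e = z by group] at h5
    exact h5 ▸ hcen
  intro x hx s hs
  have hx' : g * x * g⁻¹ ∈ Wg := conj_mem_cj hx
  have hs' : g * s * g⁻¹ ∈ D.Sv (g * k) := by rw [Sv_mul]; exact conj_mem_cj hs
  have hn : B ≤ normalizer (cj g (D.Qv w) : Set P) := by
    rw [← Qv_translate]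
    exact inf_le_right.trans ((Qv_le hk').trans ((Sv_le hwg).trans (D.Qv_norm _)))
  obtain ⟨y, hy, b, hb, hyb⟩ := CfsgLib.Comp.exists_mul_of_mem_sup hn
    (by rw [sup_comm]; exact hScov hs')
  have h1 := key _ hx' b hb
  have hyx : g * x * g⁻¹ * y = y * (g * x * g⁻¹) := by
    rw [← Qv_translate] at hy
    rw [hWg, ← Vv_translate] at hx'
    exact (D.Vv_cent _ hx' y hy).symm
  have hyG : y ∈ D.Gv v := by
    rw [← Qv_translate] at hy
    exact Sv_le hk' (Qv_le hwg hy)
  have e2 : ⁅g * x * g⁻¹, g * s * g⁻¹⁆ = ⁅g * x * g⁻¹, b⁆ := by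
    rw [← hyb, show ⁅g * x * g⁻¹, y * b⁆ = (g * x * g⁻¹ * y * (g * x * g⁻¹)⁻¹ * y⁻¹) *
        (y * ⁅g * x * g⁻¹, b⁆ * y⁻¹) by simp [commutatorElement_def, mul_assoc], hyx,
      conj_eq_of_centralizer h1 hyG]
    group
  rw [commutatorElement_conj] at e2
  have h2 : g * ⁅x, s⁆ * g⁻¹ ∈ centralizer (D.Gv v : Set P) := e2 ▸ h1
  have h3 := conj_eq_of_centralizer h2 (inv_mem hg.1)
  rw [inv_inv, show g⁻¹ * (g * ⁅x, s⁆ * g⁻¹) * g = ⁅x, s⁆ by group] at h3
  exact h3 ▸ h2

end Orbit

end Fam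

end CfsgLib.ClassK.Push
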