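import Cfsg.Agent.Lib.ClassK.PushPairAmb
import Cfsg.Agent.Lib.ClassK.PushFinal

/-!
The shape of a group with a short critical distance: the derived invariant `S₀` of its Sylow subgroup
is fixed by `O^p`, and the Sylow subgroup is a central product modulo `J`.
-/

set_option autoImplicit false
set_option linter.style.haveILetI false
set_option linter.unusedSectionVars false
set_option maxHeartbeats 1000000

universe u

namespace CfsgLib.ClassK.Push

open Subgroup
open scoped MatrixGroups Pointwise commutatorElement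

/-- The invariant `S₀` of a `p`-group. -/
def szero (p : ℕ) (S : Type*) [Group S] : Subgroup S :=
  if p = 2 then ⁅frattini S, (⊤ : Subgroup S)⁆ ⊔ (frattini ↥(frattini S)).map (frattini S).subtype
  else if p = 3 then ⁅⁅frattini S, (⊤ : Subgroup S)⁆, (⊤ : Subgroup S)⁆ ⊔
    (frattini ↥(frattini S)).map (frattini S).subtype
  else ⁅frattini S, (⊤ : Subgroup S)⁆ ⊔ Cfsg.powerClosure p 1 (⊤ : Subgroup S)

theorem szero_characteristic (p : ℕ) (S : Type*) [Group S] [Finite S] : (szero p S).Characteristic := by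
  refine characteristic_iff_map_eq.2 fun e => ?_
  have hF : (frattini S).map e.toMonoidHom = frattini S :=
    characteristic_iff_map_eq.1 inferInstance e
  have hT : (⊤ : Subgroup S).map e.toMonoidHom = ⊤ := map_top_of_surjective _ e.surjective
  have hFF : ((frattini ↥(frattini S)).map (frattini S).subtype).map e.toMonoidHom =
      (frattini ↥(frattini S)).map (frattini S).subtype := by
    rw [map_frattini_subtype (f := e.toMonoidHom) e.injective, hF]
  have hP : (Cfsg.powerClosure p 1 (⊤ : Subgroup S)).map e.toMonoidHom =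
      Cfsg.powerClosure p 1 (⊤ : Subgroup S) := by
    rw [Cfsg.powerClosure, MonoidHom.map_closure]
    congr 1
    ext y
    constructor
    · rintro ⟨_, ⟨x, -, rfl⟩, rfl⟩; exact ⟨e x, mem_top _, map_pow e x _⟩
    · rintro ⟨x, -, rfl⟩
      exact ⟨e.symm x ^ p ^ 1, ⟨_, mem_top _, rfl⟩, by simp⟩
  unfold szero
  split_ifs <;> simp only [Subgroup.map_sup, Subgroup.map_commutator, hF, hT, hFF, hP]

section Bounds

variable {S : Type*} [Group S] {p : ℕ}

/-- `p`-th powers lie in a normal subgroup with abelian quotient if those of generators do. -/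
theorem pow_mem_of_generators {T N : Subgroup S} [N.Normal] {X : Set S} (hX : T ≤ closure X)
    (hXT : X ⊆ T) (hc : ⁅T, T⁆ ≤ N) (h : ∀ x ∈ X, x ^ p ∈ N) : ∀ t ∈ T, t ^ p ∈ N := by
  set σ := QuotientGroup.mk' N
  have h1 : ∀ {x : S}, σ x = 1 ↔ x ∈ N := fun {x} => QuotientGroup.eq_one_iff x
  suffices key : ∀ t ∈ closure X, σ t ^ p = 1 from fun t ht => h1.1 (by rw [map_pow]; exact key t (hX ht))
  intro t ht
  induction ht using Subgroup.closure_induction with
  | mem x hx => rw [← map_pow]; exact h1.2 (h x hx)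
  | one => rw [map_one, one_pow]
  | mul x y hx hy ihx ihy =>
    have hxy : Commute (σ x) (σ y) := by
      rw [← commutatorElement_eq_one_iff_commute, ← map_commutatorElement]
      exact h1.2 (hc (commutator_mem_commutator ((closure_le _).2 hXT hx) ((closure_le _).2 hXT hy)))
    rw [map_mul, hxy.mul_pow, ihx, ihy, one_mul]
  | inv x hx ih => rw [map_inv, inv_pow, ih, inv_one]

/-- In class two modulo `N`, an odd prime power rule. -/
theorem pow_mem_of_class_two [Fact p.Prime] (hp : p ≠ 2) {T N : Subgroup S} [N.Normal] {X : Set S}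
    (hX : closure X = ⊤) (hST : ⁅(⊤ : Subgroup S), ⊤⁆ ≤ T) (hTS : ⁅T, ⊤⁆ ≤ N)
    (hT : ∀ t ∈ T, t ^ p ∈ N) (h : ∀ x ∈ X, x ^ p ∈ N) : ∀ s : S, s ^ p ∈ N := by
  set σ := QuotientGroup.mk' N
  have h1 : ∀ {x : S}, σ x = 1 ↔ x ∈ N := fun {x} => QuotientGroup.eq_one_iff x
  suffices key : ∀ s ∈ closure X, σ s ^ p = 1 from fun s => h1.1 (by
    rw [map_pow]; exact key s (hX ▸ mem_top s))
  intro t ht
  induction ht using Subgroup.closure_induction with
  | mem x hx => rw [← map_pow]; exact h1.2 (h x hx)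
  | one => rw [map_one, one_pow]
  | mul x y hx hy ihx ihy =>
    have hc : ⁅y, x⁆ ∈ T := hST (commutator_mem_commutator (mem_top y) (mem_top x))
    have hcen : ∀ g, Commute (σ ⁅y, x⁆) (σ g) := fun g => by
      rw [← commutatorElement_eq_one_iff_commute, ← map_commutatorElement]
      exact h1.2 (hTS (commutator_mem_commutator hc (mem_top g)))
    rw [map_mul, pow_mul_of_central (fun g hg => by
      rw [← map_commutatorElement]
      rcases hg with rfl | rfl
      · exact hcen x
      · exact hcen y), ihx, ihy, one_mul, one_mul, ← map_commutatorElement]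
    obtain ⟨k, hk⟩ := (Fact.out : p.Prime).dvd_choose_self two_ne_zero
      (lt_of_le_of_ne (Fact.out : p.Prime).two_le (Ne.symm hp))
    rw [hk, pow_mul, ← map_pow, h1.2 (hT _ hc), one_pow]
  | inv x hx ih => rw [map_inv, inv_pow, ih, inv_one]

variable [Finite S] [Fact p.Prime]

/-- `S₀` when `Φ(S)` is central modulo `N`. -/
theorem szero_le_of_two {T N : Subgroup S} [T.Normal] [N.Normal] {X : Set S} (hX : closure X = ⊤)
    (hNT : N ≤ T) (hST : ⁅(⊤ : Subgroup S), ⊤⁆ ≤ T) (hTS : ⁅T, ⊤⁆ ≤ N) (hT : ∀ t ∈ T, t ^ p ∈ N)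
    (h : ∀ x ∈ X, x ^ p ∈ N) : szero p S ≤ N := by
  have hF : frattini S ≤ T := Transfer.frattini_le_of_elementary_quotient (p := p) T
    (fun x y => hST (commutator_mem_commutator (mem_top x) (mem_top y)))
    (fun x => pow_mem_of_generators (T := (⊤ : Subgroup S)) hX.ge (Set.subset_univ _) hST
      (fun y hy => hNT (h y hy)) x (mem_top x))
  have h1 : ⁅frattini S, ⊤⁆ ≤ N := (commutator_mono hF le_rfl).trans hTS
  have h2 : (frattini ↥(frattini S)).map (frattini S).subtype ≤ N :=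
    frattini_map_le (p := p) ((commutator_mono le_rfl le_top).trans h1) fun x hx => hT x (hF hx)
  unfold szero
  split_ifs with hp2 hp3
  · exact sup_le h1 h2
  · refine sup_le ?_ h2
    exact (commutator_mono h1 le_rfl).trans (commutator_le_left N ⊤)
  · refine sup_le h1 ((closure_le _).2 ?_)
    rintro _ ⟨x, -, rfl⟩
    rw [pow_one]
    exact pow_mem_of_class_two hp2 hX hST hTS hT h x

/-- `S₀` for `p = 3` when `Φ(S)` has two central steps modulo `N`. -/
theorem szero_le_of_three {T Z N : Subgroup S} [T.Normal] [N.Normal] {X : Set S} (hp : p = 3)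
    (hX : closure X = ⊤) (hST : ⁅(⊤ : Subgroup S), ⊤⁆ ≤ T) (hTS : ⁅T, ⊤⁆ ≤ Z) (hZS : ⁅Z, ⊤⁆ ≤ N)
    (hTT : ⁅T, T⁆ ≤ N) (hT : ∀ t ∈ T, t ^ p ∈ N) (h : ∀ x ∈ X, x ^ p ∈ T) : szero p S ≤ N := by
  have hF : frattini S ≤ T := Transfer.frattini_le_of_elementary_quotient (p := p) T
    (fun x y => hST (commutator_mem_commutator (mem_top x) (mem_top y)))
    (fun x => pow_mem_of_generators (T := (⊤ : Subgroup S)) hX.ge (Set.subset_univ _) hST h x (mem_top x))
  have h2 : (frattini ↥(frattini S)).map (frattini S).subtype ≤ N :=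
    frattini_map_le (p := p) ((commutator_mono hF hF).trans hTT) fun x hx => hT x (hF hx)
  unfold szero
  rw [if_neg (by omega), if_pos hp]
  exact sup_le ((commutator_mono ((commutator_mono hF le_rfl).trans hTS) le_rfl).trans hZS) h2

end Bounds

namespace Emb

variable {p : ℕ} [Fact p.Prime] {S : Type u} [Group S]

/-- The elements of `S` fixed by `O^p` of the group. -/
def fixedPart (e : Emb p S) : Subgroup S :=
  (centralizer (Cfsg.pResidual p e.G : Set e.G)).comap e.τ

instance fixedPart_normal (e : Emb p S) : e.fixedPart.Normal :=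
  haveI := CfsgLib.Transfer.pResidual_normal (G := e.G) (p := p)
  Subgroup.Normal.comap inferInstance e.τ

/-- The good groups. -/
def Good (e : Emb p S) : Prop :=
  szero p S ≤ e.fixedPart ∧ ∃ U R : Subgroup S, U ≤ Cfsg.thompsonSubgroupA S ∧
    R ≤ centralizer (U : Set S) ∧ U ⊔ R = ⊤ ∧ ⁅R, R⁆ ≤ e.fixedPart

theorem fixedPart_twist (e : Emb p S) (α : MulAut S) :
    (e.twist α).fixedPart = e.fixedPart.comap α.toMonoidHom := rfl

theorem Good.twist [Finite S] {e : Emb p S} (h : e.Good) (α : MulAut S) : (e.twist α).Good := by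
  obtain ⟨h0, U, R, hU, hR, hUR, hRR⟩ := h
  refine ⟨?_, U.map α.symm.toMonoidHom, R.map α.symm.toMonoidHom, ?_, ?_, ?_, ?_⟩
  · rw [fixedPart_twist, ← map_le_iff_le_comap,
      characteristic_iff_map_eq.1 (szero_characteristic p S) α]
    exact h0
  · exact (map_mono hU).trans (characteristic_iff_map_eq.1 (thompsonA_characteristic S) α.symm).le
  · rintro _ ⟨r, hr, rfl⟩ _ ⟨x, hx, rfl⟩
    rw [← map_mul, ← map_mul, hR hr x hx]
  · rw [← Subgroup.map_sup, hUR, map_top_of_surjective _ α.symm.surjective]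
  · rw [← Subgroup.map_commutator, fixedPart_twist, ← map_le_iff_le_comap, Subgroup.map_map]
    refine le_trans (le_of_eq ?_) hRR
    convert Subgroup.map_id _
    exact MonoidHom.ext fun x => α.apply_symm_apply x

variable [Finite S] (e : Emb p S)

theorem map_thompson : (Cfsg.thompsonSubgroupA S).map e.τ =
    Cfsg.thompsonSubgroupAOf (e.T : Subgroup e.G) := by
  have hmem : ∀ {B : Subgroup e.G}, B ≤ (e.T : Subgroup e.G) → (B.comap e.τ).map e.τ = B := fun h =>
    map_comap_eq_self (h.trans e.range.le)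
  have hT : ∀ A : Subgroup S, A.map e.τ ≤ (e.T : Subgroup e.G) := fun A =>
    (map_le_range _ _).trans e.range.ge
  have hcom : ∀ {B : Subgroup e.G}, IsMulCommutative B → IsMulCommutative (B.comap e.τ) := fun hB =>
    le_centralizer_iff_isMulCommutative.1 fun x hx y hy => e.inj (by
      rw [map_mul, map_mul, PLocal.comm_of_isMulCommutative hB hy hx])
  refine le_antisymm ?_ ?_
  · rw [Cfsg.thompsonSubgroupA, sSup_eq_iSup, Subgroup.map_iSup]
    refine iSup_le fun A => ?_
    rw [Subgroup.map_iSup]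
    refine iSup_le fun hA => PLocal.le_thompsonAOf ⟨hT A, PLocal.isMulCommutative_map _ hA.1, ?_⟩
    intro B hB hBc
    rw [← hmem hB, card_map_of_injective e.inj, card_map_of_injective e.inj]
    exact hA.2 _ (hcom hBc)
  · rw [PLocal.thompsonAOf_eq]
    refine sSup_le fun B hB => ?_
    rw [← hmem hB.1]
    refine map_mono (le_sSup ⟨hcom hB.2.1, fun A hA => ?_⟩)
    rw [← card_map_of_injective e.inj (K := A), ← card_map_of_injective e.inj (K := B.comap e.τ),
      hmem hB.1]
    exact hB.2.2 _ (hT A) (PLocal.isMulCommutative_map _ hA)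

theorem comap_le_thompson {U : Subgroup e.G} (hU : U ≤ Cfsg.thompsonSubgroupAOf (e.T : Subgroup e.G)) :
    U.comap e.τ ≤ Cfsg.thompsonSubgroupA S := fun x hx => by
  obtain ⟨y, hy, hyx⟩ := e.map_thompson.ge (hU hx)
  exact e.inj hyx ▸ hy

/-- Pull a splitting of the Sylow subgroup back to `S`. -/
theorem good_of_split {U R : Subgroup e.G} (h0 : szero p S ≤ e.fixedPart)
    (hU : U ≤ Cfsg.thompsonSubgroupAOf (e.T : Subgroup e.G)) (hR : R ≤ (e.T : Subgroup e.G))
    (hRU : R ≤ centralizer (U : Set e.G)) (hcov : (e.T : Subgroup e.G) ≤ U ⊔ R)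
    (hRR : ⁅R, R⁆ ≤ centralizer (Cfsg.pResidual p e.G : Set e.G)) : e.Good := by
  have hUT : U ≤ (e.T : Subgroup e.G) := hU.trans (PLocal.thompsonAOf_le _)
  refine ⟨h0, U.comap e.τ, R.comap e.τ, e.comap_le_thompson hU,
    fun x hx y hy => e.inj (by rw [map_mul, map_mul, hRU hx _ hy]), ?_, commutator_le.2 fun x hx y hy => ?_⟩
  · refine map_injective e.inj ?_
    rw [Subgroup.map_sup, map_comap_eq_self (hUT.trans e.range.le), map_comap_eq_self (hR.trans e.range.le),
      ← MonoidHom.range_eq_map, ← e.range]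
    exact le_antisymm (sup_le hUT hR) hcov
  · show e.τ ⁅x, y⁆ ∈ centralizer (Cfsg.pResidual p e.G : Set e.G)
    rw [map_commutatorElement]
    exact hRR (commutator_mem_commutator hx hy)

theorem closure_comap {X : Set e.G} (hX : (e.T : Subgroup e.G) ≤ closure X)
    (hXT : X ⊆ (e.T : Subgroup e.G)) : closure (e.τ ⁻¹' X) = ⊤ := by
  refine map_injective e.inj ?_
  rw [MonoidHom.map_closure, ← MonoidHom.range_eq_map, ← e.range,
    Set.image_preimage_eq_of_subset (fun x hx => by
      obtain ⟨s, hs⟩ := e.range.le (hXT hx); exact ⟨s, hs⟩)]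
  exact le_antisymm ((closure_le _).2 hXT) hX

theorem comap_commutator_le {A B C : Subgroup e.G} (h : ⁅A, B⁆ ≤ C) :
    ⁅A.comap e.τ, B.comap e.τ⁆ ≤ C.comap e.τ := commutator_le.2 fun x hx y hy => by
  show e.τ ⁅x, y⁆ ∈ C
  rw [map_commutatorElement]
  exact h (commutator_mem_commutator hx hy)

theorem comap_T : ((e.T : Subgroup e.G)).comap e.τ = ⊤ := by
  rw [e.range]; exact eq_top_iff.2 fun s _ => ⟨s, rfl⟩

/-- Distance one. -/
theorem good_of_one {A R : Subgroup e.G} (hA : A ≤ (e.T : Subgroup e.G))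
    (hAp : ∀ a ∈ A, a ^ p = 1)
    (hAc : ∀ a ∈ A, ∀ s ∈ (e.T : Subgroup e.G), ⁅a, s⁆ ∈ zOf (e.T : Subgroup e.G))
    (hAQ : ¬ A ≤ Cfsg.pCore p e.G) (hcov : (e.T : Subgroup e.G) ≤ A ⊔ Cfsg.pCore p e.G)
    (hRQ : R ≤ Cfsg.pCore p e.G) (hRA : R ≤ centralizer (A : Set e.G))
    (hQR : Cfsg.pCore p e.G ≤ e.V ⊔ R)
    (hAJ : A ≤ Cfsg.thompsonSubgroupAOf (e.T : Subgroup e.G))
    (hVJ : e.V ≤ Cfsg.thompsonSubgroupAOf (e.T : Subgroup e.G)) : e.Good := by
  classical
  set T := (e.T : Subgroup e.G) with hT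
  set Q := Cfsg.pCore p e.G
  set K := Cfsg.pResidual p e.G
  have hD := e.datum
  haveI := hD.Q_normal
  haveI := hD.V_normal
  haveI := CfsgLib.Transfer.pResidual_normal (G := e.G) (p := p)
  obtain ⟨a₀, ha₀, ha₀Q⟩ := SetLike.not_le_iff_exists.1 hAQ
  have hact : ∀ x ∈ K, ∀ y ∈ Q, ⁅y, x⁆ ∈ e.V :=
    e.sit.residual_act hD (hA ha₀) ha₀Q fun y hy => by
      rw [← commutatorElement_inv]
      exact inv_mem (hD.center_le (hAc a₀ ha₀ y (hD.Q_le hy)))
  have hmove : ∀ x ∈ K, ∀ y ∈ Q, ∃ w ∈ e.V, x * y * x⁻¹ = w * y := fun x hx y hy =>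
    ⟨⁅y, x⁆⁻¹, inv_mem (hact x hx y hy), by simp [commutatorElement_def, mul_assoc]⟩
  have hQp : ∀ y ∈ Q, y ^ p ∈ centralizer (K : Set e.G) := fun y hy x hx => by
    obtain ⟨w, hw, hwy⟩ := hmove x hx y hy
    have hc : Commute w y := (hD.V_cent hw y hy).symm
    have e1 : x * y ^ p * x⁻¹ = y ^ p := by
      rw [← conj_pow, hwy, hc.mul_pow, hD.exp w hw, one_mul]
    calc x * y ^ p = x * y ^ p * x⁻¹ * x := by group
      _ = _ := by rw [e1]
  have hQQ : ⁅Q, Q⁆ ≤ centralizer (K : Set e.G) := commutator_le.2 fun y hy y' hy' x hx => by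
    obtain ⟨w, hw, hwy⟩ := hmove x hx y hy
    obtain ⟨w', hw', hwy'⟩ := hmove x hx y' hy'
    have e1 : x * ⁅y, y'⁆ * x⁻¹ = ⁅y, y'⁆ := by
      have c1 : ∀ q ∈ Q, Commute w q := fun q hq => (hD.V_cent hw q hq).symm
      have c2 : ∀ q ∈ Q, Commute w' q := fun q hq => (hD.V_cent hw' q hq).symm
      have hyy : ⁅y, y'⁆ ∈ Q := commutator_le_self Q (commutator_mem_commutator hy hy')
      rw [← commutatorElement_conj, hwy, hwy', commutatorElement_mul_left',
        commutatorElement_mul_right' y w' y',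
        commutatorElement_eq_one_iff_mul_comm.2 (hD.V_cent hw' y hy), one_mul, (c2 _ hyy).eq,
        mul_inv_cancel_right, (c1 _ hyy).eq, mul_inv_cancel_right,
        commutatorElement_eq_one_iff_mul_comm.2 (c1 _ (mul_mem (hD.V_le hw') hy')).eq, mul_one]
    calc x * ⁅y, y'⁆ = x * ⁅y, y'⁆ * x⁻¹ * x := by group
      _ = _ := by rw [e1]
  set Z := zOf T
  set C := Q ⊓ centralizer (K : Set e.G) with hC
  haveI : C.Normal := inferInstance
  have hVA : R ≤ centralizer ((e.V ⊔ A : Subgroup e.G) : Set e.G) := fun r hr =>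
    mem_centralizer_sup (fun v hv => (hD.V_cent hv r (hRQ hr)).symm) (hRA hr)
  have hgen : T ≤ closure ((A : Set e.G) ∪ e.V ∪ R) := hcov.trans (sup_le
    (fun x hx => subset_closure (Or.inl (Or.inl hx))) (hQR.trans (sup_le
      (fun x hx => subset_closure (Or.inl (Or.inr hx))) fun x hx => subset_closure (Or.inr hx))))
  have hXT : (A : Set e.G) ∪ e.V ∪ R ⊆ T := by
    rintro x ((hx | hx) | hx)
    exacts [hA hx, hD.Q_le (hD.V_le hx), hD.Q_le (hRQ hx)]
  have htop : ∀ {N : Subgroup e.G} [N.Normal] {H : Subgroup e.G}, H ≤ normalizer (N : Set e.G) :=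
    fun {N} _ {H} => by rw [normalizer_eq_top]; exact le_top
  have hn : T ≤ normalizer ((Z ⊔ C : Subgroup e.G) : Set e.G) := by
    refine CfsgLib.Comp.le_normalizer_sup (fun y hy => ?_) htop
    exact centralizer_le_normalizer _ fun z hz => (hz.2 y hy).symm
  have hTT : ⁅T, T⁆ ≤ Z ⊔ C := by
    refine commutator_le_of_generators hgen hgen (fun x hx => hn (hXT hx)) (fun x hx => hn (hXT hx)) ?_
    rintro x ((hx | hx) | hx) y hy
    · exact mem_sup_left (hAc x hx y (hXT hy))
    · exact mem_sup_left (hD.comm_mem x hx y (hXT hy))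
    · rcases hy with (hy | hy) | hy
      · rw [← commutatorElement_inv]; exact mem_sup_left (inv_mem (hAc y hy x (hXT (Or.inr hx))))
      · rw [← commutatorElement_inv]; exact mem_sup_left (inv_mem (hD.comm_mem y hy x (hXT (Or.inr hx))))
      · exact mem_sup_right (mem_inf.2 ⟨commutator_le_self Q (commutator_mem_commutator (hRQ hx) (hRQ hy)),
          hQQ (commutator_mem_commutator (hRQ hx) (hRQ hy))⟩)
  have hW : ⁅Z ⊔ C, T⁆ ≤ C := by
    refine commutator_le_of_generators (X := (Z : Set e.G) ∪ (C : Set e.G)) (sup_le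
      (fun x hx => subset_closure (Or.inl hx)) fun x hx => subset_closure (Or.inr hx))
      (Y := (T : Set e.G)) (fun x hx => subset_closure hx)
      (fun _ _ => by rw [normalizer_eq_top]; trivial) (fun _ _ => by rw [normalizer_eq_top]; trivial) ?_
    rintro x (hx | hx) s hs
    · rw [commutatorElement_eq_one_iff_mul_comm.2 (hx.2 s hs).symm]; exact one_mem _
    · exact commutator_le_left C ⊤ (commutator_mem_commutator hx (mem_top s))
  haveI : ((Z ⊔ C).comap e.τ).Normal := ⟨fun x hx g => by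
    show e.τ (g * x * g⁻¹) ∈ Z ⊔ C
    rw [map_mul, map_mul, map_inv]
    exact (mem_normalizer_iff.1 (hn (e.range.ge ⟨g, rfl⟩)) _).1 hx⟩
  haveI : (C.comap e.τ).Normal := Subgroup.Normal.comap inferInstance _
  have hWT : ⁅(Z ⊔ C).comap e.τ, (⊤ : Subgroup S)⁆ ≤ C.comap e.τ := by
    rw [← e.comap_T]; exact e.comap_commutator_le hW
  have hWp : ∀ t ∈ (Z ⊔ C).comap e.τ, t ^ p ∈ C.comap e.τ := by
    intro t ht
    show e.τ (t ^ p) ∈ C
    rw [map_pow]
    obtain ⟨c, hc, z, hz, hcz⟩ := mem_sup_of_normal_left.1 ((sup_comm Z C).le ht)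
    have hcomm : Commute c z := hz.2 c (hD.Q_le hc.1)
    rw [← hcz, hcomm.mul_pow, hD.exp z (hD.center_le hz), mul_one]
    exact pow_mem hc p
  refine e.good_of_split ?_ (sup_le hVJ hAJ) (hRQ.trans hD.Q_le) hVA (hcov.trans (sup_le
    (le_sup_right.trans le_sup_left) (hQR.trans (sup_le_sup_right le_sup_left _))))
    ((commutator_mono hRQ hRQ).trans hQQ)
  refine (szero_le_of_two (X := e.τ ⁻¹' ((A : Set e.G) ∪ e.V ∪ R)) (e.closure_comap hgen hXT)
    (comap_mono le_sup_right) ?_ hWT hWp ?_).trans (comap_mono inf_le_right)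
  · rw [← e.comap_T]; exact e.comap_commutator_le hTT
  · intro x hx
    show e.τ (x ^ p) ∈ C
    rw [map_pow]
    rcases hx with (hx | hx) | hx
    · rw [hAp _ hx]; exact one_mem _
    · rw [hD.exp _ hx]; exact one_mem _
    · exact mem_inf.2 ⟨pow_mem (hRQ hx) p, hQp _ (hRQ hx)⟩

/-- Distance two. -/
theorem good_of_two {A B E : Subgroup e.G} {g : e.G}
    (hM : Mid p (p ^ e.n) (e.T : Subgroup e.G) (Cfsg.pCore p e.G) e.V A B E g)
    (hAJ : A ≤ Cfsg.thompsonSubgroupAOf (e.T : Subgroup e.G))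
    (hBJ : B ≤ Cfsg.thompsonSubgroupAOf (e.T : Subgroup e.G))
    (hEJ : E ≤ Cfsg.thompsonSubgroupAOf (e.T : Subgroup e.G))
    (hVJ : e.V ≤ Cfsg.thompsonSubgroupAOf (e.T : Subgroup e.G)) : e.Good := by
  classical
  set T := (e.T : Subgroup e.G) with hT
  set Q := Cfsg.pCore p e.G
  set K := Cfsg.pResidual p e.G
  have hD := e.datum
  haveI := hD.Q_normal
  haveI := hD.V_normal
  haveI := CfsgLib.Transfer.pResidual_normal (G := e.G) (p := p)
  obtain ⟨ρ, hρ, hn, -⟩ := e.sit.natural_module e.normalized hD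
  have hp3 := e.sit.p_eq_three e.normalized hD hM hρ hn
  obtain ⟨hQQ, hYp⟩ := e.sit.mid_fixed hD hM
  obtain ⟨hc1, hc2, hc3⟩ := e.sit.mid_chain hD hM
  set C := Q ⊓ centralizer (K : Set e.G) with hC
  haveI : C.Normal := inferInstance
  set D0 := Q ⊓ centralizer (A : Set e.G) ⊓ centralizer (B : Set e.G) ⊓ centralizer (E : Set e.G)
  set W := A ⊔ e.V ⊔ C with hW
  set X := (E : Set e.G) ∪ A ∪ B ∪ e.V ∪ (D0 : Set e.G)
  have hgen : T ≤ closure X := Mid.sylow_le_closure hD hM
  have hXT : X ⊆ T := fun x hx => Mid.closure_gen_normal_sup hD hM hx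
  have htop : ∀ {N : Subgroup e.G} [N.Normal] {H : Subgroup e.G}, H ≤ normalizer (N : Set e.G) :=
    fun {N} _ {H} => by rw [normalizer_eq_top]; exact le_top
  have hWn : T ≤ normalizer (W : Set e.G) :=
    CfsgLib.Comp.le_normalizer_sup (CfsgLib.Comp.le_normalizer_sup hM.A_norm htop) htop
  haveI : (W.comap e.τ).Normal := ⟨fun x hx g => by
    show e.τ (g * x * g⁻¹) ∈ W
    rw [map_mul, map_mul, map_inv]
    exact (mem_normalizer_iff.1 (hWn (e.range.ge ⟨g, rfl⟩)) _).1 hx⟩
  haveI : (C.comap e.τ).Normal := Subgroup.Normal.comap inferInstance _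
  have hXW : W ≤ closure ((A : Set e.G) ∪ e.V ∪ (C : Set e.G)) := sup_le (sup_le
    (fun x hx => subset_closure (Or.inl (Or.inl hx))) fun x hx => subset_closure (Or.inl (Or.inr hx)))
    fun x hx => subset_closure (Or.inr hx)
  have hWW : ⁅W, W⁆ ≤ C := by
    refine commutator_le_of_generators hXW hXW (fun _ _ => by rw [normalizer_eq_top]; trivial)
      (fun _ _ => by rw [normalizer_eq_top]; trivial) ?_
    have hleft : ∀ x ∈ C, ∀ y, ⁅x, y⁆ ∈ C := fun x hx y =>
      commutator_le_left C ⊤ (commutator_mem_commutator hx (mem_top y))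
    rintro x ((hx | hx) | hx) y ((hy | hy) | hy)
    · rw [commutatorElement_eq_one_iff_mul_comm.2 (hM.A_ab hy x hx)]; exact one_mem _
    · rw [commutatorElement_eq_one_iff_mul_comm.2 (Mid.V_A hD hM hy x hx)]; exact one_mem _
    · rw [← commutatorElement_inv]; exact inv_mem (hleft y hy x)
    · rw [commutatorElement_eq_one_iff_mul_comm.2 (Mid.V_A hD hM hx y hy).symm]; exact one_mem _
    · rw [commutatorElement_eq_one_iff_mul_comm.2 (hD.V_ab hx hy).eq]; exact one_mem _
    · rw [← commutatorElement_inv]; exact inv_mem (hleft y hy x)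
    all_goals exact hleft x hx y
  have hD0J : T ≤ (E ⊔ A ⊔ B ⊔ e.V) ⊔ D0 := hgen.trans ((closure_le _).2 (by
    rintro x ((((hx | hx) | hx) | hx) | hx)
    · exact mem_sup_left (mem_sup_left (mem_sup_left (mem_sup_left hx)))
    · exact mem_sup_left (mem_sup_left (mem_sup_left (mem_sup_right hx)))
    · exact mem_sup_left (mem_sup_left (mem_sup_right hx))
    · exact mem_sup_left (mem_sup_right hx)
    · exact mem_sup_right hx))
  have hcen : D0 ≤ centralizer ((E ⊔ A ⊔ B ⊔ e.V : Subgroup e.G) : Set e.G) := fun d hd =>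
    mem_centralizer_sup (mem_centralizer_sup (mem_centralizer_sup hd.2 hd.1.1.2) hd.1.2)
      (fun v hv => (hD.V_cent hv d hd.1.1.1).symm)
  have hD0Q : D0 ≤ Q := inf_le_left.trans (inf_le_left.trans inf_le_left)
  refine e.good_of_split ?_ (sup_le (sup_le (sup_le hEJ hAJ) hBJ) hVJ) (hD0Q.trans hD.Q_le) hcen hD0J
    ((commutator_mono hD0Q hD0Q).trans hQQ)
  refine (szero_le_of_three (T := W.comap e.τ) (Z := (zOf T ⊔ C).comap e.τ)
    (X := e.τ ⁻¹' X) hp3 (e.closure_comap hgen hXT) ?_ ?_ ?_ (e.comap_commutator_le hWW) ?_ ?_).trans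
      (comap_mono inf_le_right)
  · rw [← e.comap_T]; exact e.comap_commutator_le hc1
  · rw [← e.comap_T]; exact e.comap_commutator_le hc2
  · rw [← e.comap_T]; exact e.comap_commutator_le hc3
  · intro t ht
    show e.τ (t ^ p) ∈ C
    rw [map_pow]
    refine pow_mem_of_generators hXW ?_ hWW ?_ _ ht
    · rintro x ((hx | hx) | hx)
      exacts [mem_sup_left (mem_sup_left hx), mem_sup_left (mem_sup_right hx), mem_sup_right hx]
    · rintro x ((hx | hx) | hx)
      · rw [hM.A_exp x hx]; exact one_mem _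
      · rw [hD.exp x hx]; exact one_mem _
      · exact pow_mem hx p
  · intro x hx
    show e.τ (x ^ p) ∈ W
    rw [map_pow]
    rcases hx with (((hx | hx) | hx) | hx) | hx
    · rw [hM.E_exp _ hx]; exact one_mem _
    · rw [hM.A_exp _ hx]; exact one_mem _
    · rw [hM.B_exp _ hx]; exact one_mem _
    · rw [hD.exp _ hx]; exact one_mem _
    · exact mem_sup_right (mem_inf.2 ⟨pow_mem (hD0Q hx) p, hYp _ hx.1⟩)

end Emb

end CfsgLib.ClassK.Push
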