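import Cfsg.Agent.Lib.ClassK.PushPairCore
import Cfsg.Agent.S2769
import Cfsg.Agent.S2770

/-!
The two explicit pairs of characteristic subgroups: `Z(J(S))` not central, and `Z(S)` not elementary.
-/

set_option autoImplicit false
set_option linter.style.haveILetI false
set_option linter.unusedSectionVars false

universe u

namespace CfsgLib.ClassK.Push

open Subgroup
open scoped MatrixGroups Pointwise commutatorElement

variable {p : ℕ} [Fact p.Prime] {S : Type u} [Group S] [Finite S]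

/-- `Z(J(S))`. -/
def zJ (S : Type u) [Group S] : Subgroup S :=
  Cfsg.thompsonSubgroupA S ⊓ centralizer (Cfsg.thompsonSubgroupA S : Set S)

theorem PushHyp.of_situation {G : Type u} [Group G] [Finite G] {P : Subgroup G} (e : S ≃* ↥P)
    (h : Cfsg.IsPushingUpSituation p P) : PushHyp p G (P.subtype.comp e.toMonoidHom) := by
  have hr : (P.subtype.comp e.toMonoidHom).range = P := by
    rw [MonoidHom.range_comp, MonoidHom.range_eq_top.2 e.surjective, ← MonoidHom.range_eq_map, range_subtype]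
  obtain ⟨-, hP, h1, h2, h3⟩ := h
  refine ⟨P.subtype_injective.comp e.injective, ?_, h1, ?_, h3⟩
  · rw [hr]; exact hP
  · rw [hr]; exact h2

theorem map_centralizer_inj {G : Type u} [Group G] {τ : S →* G} (hτ : Function.Injective τ)
    (W : Subgroup S) : (centralizer (W : Set S)).map τ = τ.range ⊓ centralizer (W.map τ : Set G) := by
  ext y
  constructor
  · rintro ⟨x, hx, rfl⟩
    refine ⟨⟨x, rfl⟩, ?_⟩
    rintro _ ⟨w, hw, rfl⟩
    rw [← map_mul, ← map_mul, hx w hw]
  · rintro ⟨⟨x, rfl⟩, hx⟩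
    exact ⟨x, fun w hw => hτ (by rw [map_mul, map_mul, hx _ (mem_map_of_mem τ hw)]), rfl⟩

theorem map_powerClosure {G : Type u} [Group G] (τ : S →* G) (H : Subgroup S) :
    (Cfsg.powerClosure p 1 H).map τ = Cfsg.powerClosure p 1 (H.map τ) := by
  rw [Cfsg.powerClosure, Cfsg.powerClosure, MonoidHom.map_closure]
  congr 1
  ext y
  constructor
  · rintro ⟨_, ⟨x, hx, rfl⟩, rfl⟩
    exact ⟨τ x, mem_map_of_mem τ hx, map_pow τ x _⟩
  · rintro ⟨_, ⟨x, hx, rfl⟩, rfl⟩
    exact ⟨_, ⟨x, hx, rfl⟩, map_pow τ x _⟩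

theorem subgroupOf_characteristic_of_top {W Y : Subgroup S} (hW : W = ⊤) [hY : Y.Characteristic] :
    (Y.subgroupOf W).Characteristic := by
  subst hW
  refine characteristic_iff_map_le.2 fun α => ?_
  rintro _ ⟨x, hx, rfl⟩
  exact (characteristic_iff_map_eq.1 hY (topEquiv.symm.trans (α.trans topEquiv))).le
    ⟨x, hx, rfl⟩

theorem zJ_characteristic : (zJ S).Characteristic := centerThompsonA_characteristic S

theorem centralizer_characteristic' {W : Subgroup S} (hW : W.Characteristic) :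
    (centralizer (W : Set S)).Characteristic := by
  haveI := hW
  infer_instance

theorem center_le_zJ : center S ≤ zJ S := fun z hz =>
  ⟨center_le_thompson S hz, fun x _ => mem_center_iff.1 hz x⟩

/-- The common shape of the explicit pairs and the pair of the core. -/
def GoodPair (p : ℕ) [Fact p.Prime] (S₁ S₂ : Subgroup S) : Prop :=
  S₁ ≠ ⊥ ∧ S₂ ≠ ⊥ ∧ S₁.Characteristic ∧ S₂.Characteristic ∧ S₁ ≤ center S ∧
    S₂ ≤ centralizer (zJ S : Set S) ∧ (S₂.subgroupOf (centralizer (zJ S : Set S))).Characteristic ∧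
    ∀ (G : Type u) [Group G] [Finite G] (τ : S →* G), PushHyp p G τ →
      (S₁.map τ).Normal ∨ (S₂.map τ).Normal

theorem centralizer_zJ_ne_bot [Nontrivial S] (hS : IsPGroup p S) : centralizer (zJ S : Set S) ≠ ⊥ := by
  intro h
  have hc : center S ≤ centralizer (zJ S : Set S) := fun z hz x _ => (mem_center_iff.1 hz x)
  haveI := hS.center_nontrivial
  exact (nontrivial_iff_ne_bot _).1 (inferInstance : Nontrivial ↥(center S)) (le_bot_iff.1 (h ▸ hc))

/-- The pair when `[Z(J(S)), S] ≠ 1`. -/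
theorem goodPair_of_commutator [Nontrivial S] (hS : IsPGroup p S) (h : ⁅zJ S, (⊤ : Subgroup S)⁆ ≠ ⊥) :
    GoodPair p (⁅zJ S, (⊤ : Subgroup S)⁆ ⊓ center S) (centralizer (zJ S : Set S)) := by
  haveI := zJ_characteristic (S := S)
  haveI : Group.IsNilpotent S := hS.isNilpotent
  refine ⟨Solvable.normal_inf_center_ne_bot _ h, centralizer_zJ_ne_bot hS, inferInstance, inferInstance,
    inf_le_right, le_rfl, by rw [subgroupOf_self]; infer_instance, ?_⟩
  intro G _ _ τ hp
  obtain ⟨hτ, ⟨T, hT⟩, hE₁, hE₂, K, hK, F, hF', hF'', n, hF, he⟩ := hp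
  haveI := hK
  rw [← hT] at hE₂
  have hJ : (zJ S).map τ = Cfsg.centerThompsonAOf (T : Subgroup G) := by
    rw [zJ, map_inf_centralizer hτ, map_thompson_inj hτ hT]; rfl
  have hc : ⁅Cfsg.centerThompsonAOf (T : Subgroup G), (T : Subgroup G)⁆ =
      (⁅zJ S, (⊤ : Subgroup S)⁆).map τ := by
    rw [Subgroup.map_commutator, hJ, ← MonoidHom.range_eq_map, hT]
  have := Cfsg.Agent.S2769.result T hE₁ hE₂ K F n (one_le_exponent hF) hF he (by
    rw [hc]; exact fun hb => h (map_injective hτ (hb.trans (Subgroup.map_bot τ).symm)))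
  rw [map_inf_eq _ _ _ hτ, ← hc, map_center_eq hτ hT, map_centralizer_inj hτ, hJ, ← hT]
  exact this

/-- The pair when `Z(S)` is not elementary. -/
theorem goodPair_of_center [Nontrivial S] (hS : IsPGroup p S) (h : ¬ ∀ z ∈ center S, z ^ p = 1) :
    GoodPair p (Cfsg.powerClosure p 1 (center S)) (centralizer (zJ S : Set S)) := by
  haveI := zJ_characteristic (S := S)
  refine ⟨fun hb => h fun z hz => ?_, centralizer_zJ_ne_bot hS, ?_, inferInstance, ?_, le_rfl,
    by rw [subgroupOf_self]; infer_instance, ?_⟩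
  · have h1 : z ^ p ^ 1 ∈ Cfsg.powerClosure p 1 (center S) := subset_closure ⟨z, hz, rfl⟩
    rw [hb, mem_bot, pow_one] at h1
    exact h1
  · refine characteristic_iff_map_eq.2 fun α => ?_
    rw [map_powerClosure]
    exact congrArg _ (characteristic_iff_map_eq.1 inferInstance α)
  · exact (closure_le _).2 (by rintro _ ⟨x, hx, rfl⟩; exact pow_mem hx _)
  intro G _ _ τ hp
  obtain ⟨hτ, ⟨T, hT⟩, hE₁, hE₂, K, hK, F, hF', hF'', n, hF, he⟩ := hp
  haveI := hK
  rw [← hT] at hE₂
  have hz := map_center_eq hτ hT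
  have hJ : (zJ S).map τ = Cfsg.centerThompsonAOf (T : Subgroup G) := by
    rw [zJ, map_inf_centralizer hτ, map_thompson_inj hτ hT]; rfl
  have := Cfsg.Agent.S2770.result T hE₁ hE₂ K F n (one_le_exponent hF) hF he (fun he' => h fun z hz' =>
    hτ (by rw [map_pow, map_one]; exact he'.2 _ (hz.le (mem_map_of_mem τ hz'))))
  rw [map_powerClosure, hz, map_centralizer_inj hτ, hJ, ← hT]
  exact this

/-- The pair of the core. -/
theorem exists_goodPair (hS : IsPGroup p S) (hJt : centralizer (zJ S : Set S) = ⊤)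
    (hZ : ∀ z ∈ center S, z ^ p = 1)
    (hh : szero p S ≠ ⊥ ∨ Cfsg.thompsonSubgroupA S ≠ ⊤) :
    ∃ S₁ S₂ : Subgroup S, GoodPair p S₁ S₂ ∧ ∃ A ∈ Cfsg.maxAbelianSubgroups S, A ≤ S₂ := by
  obtain ⟨S₁, S₂, h1, h2, h3, h4, ⟨A, hA, hAS⟩, h5⟩ := exists_pair hS hJt hZ hh
  haveI := h4
  refine ⟨S₁, S₂, ⟨h1, fun hb => h1 (le_bot_iff.1 ?_), h2, h4, h3, hJt.symm ▸ le_top,
    subgroupOf_characteristic_of_top hJt, h5⟩, A, hA, hAS⟩
  calc S₁ ≤ A := h3.trans fun z hz => by
        rw [← Amalgam.centralizer_maxAbelian hA]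
        exact fun x _ => mem_center_iff.1 hz x
    _ ≤ ⊥ := hAS.trans hb.le

end CfsgLib.ClassK.Push
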