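import Cfsg.Agent.Lib.PLocal.PSLTwoBorel
import Cfsg.Agent.Lib.ClassK.PushPSL

/-!
Natural modules for `SL₂(q)`: a commuting family of endomorphisms is a field, and a group acting by
the standard generators is represented by `SL₂(q)`.
-/

set_option autoImplicit false
set_option linter.style.haveILetI false
set_option linter.unusedSectionVars false

namespace CfsgLib.ClassK.Push

open Subgroup
open scoped MatrixGroups

variable {F : Type*} [Field F]

/-- The Weyl element. -/
def wElt : SL(2, F) := ⟨!![0, 1; -1, 0], by simp [Matrix.det_fin_two_of]⟩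

theorem wElt_val : ((wElt : SL(2, F)) : Matrix (Fin 2) (Fin 2) F) = !![0, 1; -1, 0] := rfl

/-- The diagonal element. -/
def dElt (a : Fˣ) : SL(2, F) :=
  ⟨!![(a : F), 0; 0, ((a⁻¹ : Fˣ) : F)], by simp [Matrix.det_fin_two_of]⟩

theorem dElt_val (a : Fˣ) :
    (dElt a : Matrix (Fin 2) (Fin 2) F) = !![(a : F), 0; 0, ((a⁻¹ : Fˣ) : F)] := rfl

theorem sl_ext {A B : SL(2, F)} (h : (A : Matrix (Fin 2) (Fin 2) F) = B) : A = B := Subtype.ext h

theorem uElt_zero : CfsgLib.Classical.uElt (0 : F) = 1 :=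
  Matrix.SpecialLinearGroup.transvection_coeff_zero _

theorem dElt_mul_uElt (a : Fˣ) (t : F) :
    dElt a * CfsgLib.Classical.uElt t = CfsgLib.Classical.uElt ((a : F) ^ 2 * t) * dElt a := by
  apply sl_ext
  rw [Matrix.SpecialLinearGroup.coe_mul, Matrix.SpecialLinearGroup.coe_mul, dElt_val,
    CfsgLib.Classical.uElt_val, CfsgLib.Classical.uElt_val]
  ext i j
  fin_cases i <;> fin_cases j <;> simp [Matrix.mul_apply, Fin.sum_univ_two] <;> field_simp

theorem wElt_mul_dElt (a : Fˣ) : wElt * dElt a * wElt⁻¹ * dElt a = 1 := by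
  apply sl_ext
  rw [Matrix.SpecialLinearGroup.coe_mul, Matrix.SpecialLinearGroup.coe_mul,
    Matrix.SpecialLinearGroup.coe_mul, Matrix.SpecialLinearGroup.coe_inv, dElt_val, wElt_val,
    Matrix.adjugate_fin_two]
  ext i j
  fin_cases i <;> fin_cases j <;> simp [Matrix.mul_apply, Fin.sum_univ_two]

theorem uElt_mul_lower_mul_uElt :
    CfsgLib.Classical.uElt (1 : F) * (wElt * CfsgLib.Classical.uElt 1 * wElt⁻¹) *
      CfsgLib.Classical.uElt 1 = wElt := by
  apply sl_ext
  simp only [Matrix.SpecialLinearGroup.coe_mul, Matrix.SpecialLinearGroup.coe_inv, wElt_val,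
    CfsgLib.Classical.uElt_val, Matrix.adjugate_fin_two]
  ext i j
  fin_cases i <;> fin_cases j <;> simp [Matrix.mul_apply, Fin.sum_univ_two]

/-- An additive family of endomorphisms twisted by a generator of the units is multiplicative. -/
theorem mul_of_twist [Fintype F] {A : Type*} [AddCommGroup A] (f : F →+ AddMonoid.End A)
    (h1 : f 1 = 1) {a : F} (hgen : ∀ c : F, c ≠ 0 → ∃ i : ℕ, c = a ^ i) {α δ : AddMonoid.End A}
    (hδ : Function.Bijective δ) (hαδ : Commute α δ) (key : ∀ x, f (a ^ 2 * x) * δ = α * f x) :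
    ∀ x y, f (x * y) = f x * f y := by
  have cancel : ∀ (B C : AddMonoid.End A) (k : ℕ), B * δ ^ k = C * δ ^ k → B = C := by
    intro B C k
    induction k generalizing B C with
    | zero => intro h; simpa using h
    | succ k ih =>
      intro h
      rw [pow_succ', ← mul_assoc, ← mul_assoc] at h
      have h' := ih _ _ h
      ext x
      obtain ⟨y, rfl⟩ := hδ.surjective x
      exact DFunLike.congr_fun h' y
  have hpow : ∀ i : ℕ, f ((a ^ 2) ^ i) * δ ^ i = α ^ i := by
    intro i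
    induction i with
    | zero => simp [h1]
    | succ i ih => rw [pow_succ', pow_succ' δ, ← mul_assoc, key, mul_assoc, ih, pow_succ']
  have hcd : ∀ i : ℕ, Commute (f ((a ^ 2) ^ i)) δ := fun i => by
    refine cancel _ _ i ?_
    have e : δ * δ ^ i = δ ^ i * δ := (Commute.self_pow δ i).eq
    rw [mul_assoc, mul_assoc, e, ← mul_assoc, hpow, (hαδ.pow_left i).eq]
  -- sums of squares are everything
  obtain ⟨p, hp⟩ := CharP.exists F
  have hspan : ∀ T : AddSubgroup F, (∀ i : ℕ, (a ^ 2) ^ i ∈ T) → ∀ x, x ∈ T := by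
    intro T hT x
    have hsq : ∀ c : F, c ^ 2 ∈ T := fun c => by
      by_cases hc : c = 0
      · rw [hc, zero_pow two_ne_zero]; exact zero_mem T
      · obtain ⟨i, rfl⟩ := hgen c hc
        rw [← pow_mul, mul_comm, pow_mul]
        exact hT i
    by_cases h2 : ringChar F = 2
    · obtain ⟨c, hc⟩ : IsSquare x := FiniteField.isSquare_of_char_two h2 x
      rw [hc, ← sq]
      exact hsq c
    · have h2' : (2 : F) ≠ 0 := Ring.two_ne_zero h2
      rw [show x = ((x + 1) / 2) ^ 2 - ((x - 1) / 2) ^ 2 by field_simp; ring]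
      exact sub_mem (hsq _) (hsq _)
  have hcdall : ∀ x, Commute (f x) δ := hspan
    { carrier := {x | Commute (f x) δ}
      add_mem' := fun {x y} hx hy => by
        show Commute (f (x + y)) δ
        rw [map_add]; exact Commute.add_left hx hy
      zero_mem' := by show Commute (f 0) δ; rw [map_zero]; exact Commute.zero_left δ
      neg_mem' := fun {x} hx => by
        show Commute (f (-x)) δ
        rw [map_neg]; exact Commute.neg_left hx } hcd
  have hstep : ∀ x, f (a ^ 2 * x) = f (a ^ 2) * f x := fun x => cancel _ _ 1 (by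
    rw [pow_one, key, mul_assoc, (hcdall x).eq, ← mul_assoc]
    have := key 1
    rw [mul_one, h1, mul_one] at this
    rw [this])
  have hsqall : ∀ (i : ℕ) (x : F), f ((a ^ 2) ^ i * x) = f ((a ^ 2) ^ i) * f x := by
    intro i
    induction i with
    | zero => intro x; simp [h1]
    | succ i ih => intro x; rw [pow_succ', mul_assoc, hstep, ih, hstep, mul_assoc]
  intro x y
  exact hspan
    { carrier := {x | ∀ y, f (x * y) = f x * f y}
      add_mem' := fun {u v} hu hv y => by rw [add_mul, map_add, hu, hv, map_add, add_mul]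
      zero_mem' := fun y => by simp
      neg_mem' := fun {u} hu y => by rw [neg_mul, map_neg, hu, map_neg, neg_mul] } hsqall x y

/-- A group acting on `F²` by the standard generators maps onto `SL₂(F)`. -/
theorem exists_sl_rep [Fintype F] {G : Type*} [Group G] {W : Type*} [AddCommGroup W]
    (act : G →* AddMonoid.End W) (φ : G →* Matrix.ProjectiveSpecialLinearGroup (Fin 2) F)
    (ι : F × F ≃+ W) {U : Subgroup G} {w₀ : G} (hgen : U ⊔ zpowers w₀ = ⊤)
    (hU : ∀ s ∈ U, ∃ t : F, φ s = QuotientGroup.mk' _ (CfsgLib.Classical.uElt t) ∧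
      ∀ a b, act s (ι (a, b)) = ι (a + t * b, b))
    (hUs : ∀ t : F, ∃ s ∈ U, φ s = QuotientGroup.mk' _ (CfsgLib.Classical.uElt t))
    (hwφ : φ w₀ = QuotientGroup.mk' _ wElt) (hw : ∀ a b, act w₀ (ι (a, b)) = ι (b, -a)) :
    ∃ (ρ : G →* SL(2, F)) (ψ : W ≃+ (Fin 2 → F)), Function.Surjective ρ ∧
      (∀ g, QuotientGroup.mk' _ (ρ g) = φ g) ∧
      ∀ g m, ψ (act g m) = (ρ g : Matrix (Fin 2) (Fin 2) F).mulVec (ψ m) := by
  set ψ : W ≃+ (Fin 2 → F) := ι.symm.trans (LinearEquiv.finTwoArrow F F).symm.toAddEquiv with hψ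
  have hψι : ∀ a b, ψ (ι (a, b)) = ![a, b] := fun a b => by simp [hψ]
  have hall : ∀ m : W, ∃ a b, m = ι (a, b) := fun m =>
    ⟨(ι.symm m).1, (ι.symm m).2, (ι.apply_symm_apply m).symm⟩
  let H : Subgroup G :=
    { carrier := {g | ∃ A : SL(2, F), QuotientGroup.mk' _ A = φ g ∧
        ∀ m, ψ (act g m) = (A : Matrix (Fin 2) (Fin 2) F).mulVec (ψ m)}
      one_mem' := ⟨1, by simp, fun m => by simp⟩
      mul_mem' := by
        rintro x y ⟨A, hA, hA'⟩ ⟨B, hB, hB'⟩
        refine ⟨A * B, by rw [map_mul, hA, hB, map_mul], fun m => ?_⟩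
        rw [map_mul, AddMonoid.End.coe_mul, Function.comp_apply, hA', hB', Matrix.mulVec_mulVec,
          Matrix.SpecialLinearGroup.coe_mul]
      inv_mem' := by
        rintro x ⟨A, hA, hA'⟩
        refine ⟨A⁻¹, by rw [map_inv, hA, map_inv], fun m => ?_⟩
        have h1 := hA' (act x⁻¹ m)
        rw [← Function.comp_apply (f := act x), ← AddMonoid.End.coe_mul, ← map_mul, mul_inv_cancel,
          map_one, AddMonoid.End.coe_one, id] at h1
        rw [h1, Matrix.mulVec_mulVec, ← Matrix.SpecialLinearGroup.coe_mul, inv_mul_cancel,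
          Matrix.SpecialLinearGroup.coe_one, Matrix.one_mulVec] }
  have hwm : ∀ m, ψ (act w₀ m) = ((wElt : SL(2, F)) : Matrix (Fin 2) (Fin 2) F).mulVec (ψ m) := by
    intro m
    obtain ⟨a, b, rfl⟩ := hall m
    rw [hw, hψι, hψι, wElt_val]
    ext i
    fin_cases i <;> simp [Matrix.mulVec, dotProduct, Fin.sum_univ_two]
  have hum : ∀ s ∈ U, ∃ t : F, φ s = QuotientGroup.mk' _ (CfsgLib.Classical.uElt t) ∧ ∀ m,
      ψ (act s m) = (CfsgLib.Classical.uElt t : Matrix (Fin 2) (Fin 2) F).mulVec (ψ m) := by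
    intro s hs
    obtain ⟨t, ht, ht'⟩ := hU s hs
    refine ⟨t, ht, fun m => ?_⟩
    obtain ⟨a, b, rfl⟩ := hall m
    rw [ht', hψι, hψι, CfsgLib.Classical.uElt_val]
    ext i
    fin_cases i <;> simp [Matrix.mulVec, dotProduct, Fin.sum_univ_two]
  have hH : ∀ g, ∃ A : SL(2, F), QuotientGroup.mk' _ A = φ g ∧
      ∀ m, ψ (act g m) = (A : Matrix (Fin 2) (Fin 2) F).mulVec (ψ m) := by
    intro g
    have hle : U ⊔ zpowers w₀ ≤ H := sup_le
      (fun s hs => by obtain ⟨t, ht, ht'⟩ := hum s hs; exact ⟨_, ht.symm, ht'⟩)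
      (zpowers_le.2 ⟨wElt, hwφ.symm, hwm⟩)
    exact hle (hgen ▸ mem_top g)
  choose R hR hR' using hH
  have huniq : ∀ (g : G) (A : SL(2, F)),
      (∀ m, ψ (act g m) = (A : Matrix (Fin 2) (Fin 2) F).mulVec (ψ m)) → R g = A := by
    intro g A hA
    refine sl_ext (Matrix.ext_iff_mulVec.2 fun v => ?_)
    have h1 := hA (ψ.symm v)
    rw [hR', AddEquiv.apply_symm_apply] at h1
    exact h1
  let ρ : G →* SL(2, F) :=
    { toFun := R
      map_one' := huniq 1 1 fun m => by simp
      map_mul' := fun x y => huniq _ _ fun m => by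
        rw [map_mul, AddMonoid.End.coe_mul, Function.comp_apply, hR', hR', Matrix.mulVec_mulVec,
          Matrix.SpecialLinearGroup.coe_mul] }
  refine ⟨ρ, ψ, ?_, hR, hR'⟩
  have htop : ρ.range = ⊤ := by
    refine CfsgLib.PLocal.sl_eq_top_of_uSL_le ?_ (s := wElt) ⟨w₀, huniq _ _ hwm⟩
      (by simp [wElt_val])
    rintro _ ⟨t, rfl⟩
    obtain ⟨s, hs, hst⟩ := hUs t
    obtain ⟨t', ht', ht''⟩ := hum s hs
    refine ⟨s, (huniq _ _ ht'').trans ?_⟩
    rw [hst, QuotientGroup.mk'_eq_mk'] at ht'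
    obtain ⟨z, hz, hzt⟩ := ht'
    have hzU : z ∈ CfsgLib.Classical.uSL F := by
      rw [show z = (CfsgLib.Classical.uElt t)⁻¹ * CfsgLib.Classical.uElt t' by rw [← hzt]; group]
      exact mul_mem (inv_mem ⟨t, rfl⟩) ⟨t', rfl⟩
    have hz1 : z = 1 := by
      rw [← mem_bot, ← center_inf_uSL (F := F)]
      exact ⟨hz, hzU⟩
    rw [← hzt, hz1, mul_one]
  exact MonoidHom.range_eq_top.1 htop

end CfsgLib.ClassK.Push
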