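import Cfsg.Agent.Lib.ClassK.PushNear
import Cfsg.Agent.Lib.ClassK.PushRep
import Cfsg.Agent.Lib.Coprime.Generation

/-!
A normal elementary abelian subgroup of order `q²` with a line fixed by the Sylow subgroup is a
natural `SL₂(q)`-module, with the field structure read off the map onto `PSL₂(q)`.
-/

set_option autoImplicit false
set_option linter.style.haveILetI false
set_option linter.unusedSectionVars false
set_option maxHeartbeats 1000000

namespace CfsgLib.ClassK.Push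

open Subgroup
open scoped MatrixGroups Pointwise commutatorElement

variable {G : Type*} [Group G] [Finite G] {p n : ℕ} [Fact p.Prime] {F : Type*} [Field F] [Fintype F]

local notation "PS" => Matrix.ProjectiveSpecialLinearGroup (Fin 2) F
local notation "π" => QuotientGroup.mk' (Subgroup.center (Matrix.SpecialLinearGroup (Fin 2) F))
local notation "u" => CfsgLib.Classical.uElt

/-- A normal plane with a line fixed by `S`. -/
structure Plane (p q : ℕ) (S Q W L : Subgroup G) : Prop where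
  normal : W.Normal
  ab : W ≤ centralizer (W : Set G)
  exp : ∀ w ∈ W, w ^ p = 1
  le : L ≤ W
  card_W : Nat.card W = q ^ 2
  card_L : Nat.card L = q
  fixed : S ≤ centralizer (L : Set G)
  comm : ∀ w ∈ W, ∀ s ∈ S, s * w * s⁻¹ * w⁻¹ ∈ L
  Q_cent : Q ≤ centralizer (W : Set G)
  nontriv : ¬ Cfsg.pResidual p G ≤ centralizer (W : Set G)

theorem eq_zpowers_of_prime_card {A : Subgroup G} (hA : Nat.card A = p) {x : G} (hx : x ∈ A)
    (hx1 : x ≠ 1) : A = zpowers x := by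
  refine (eq_of_le_of_card_ge (zpowers_le.2 hx) ?_).symm
  rw [Nat.card_zpowers, hA]
  rcases (Nat.dvd_prime Fact.out).1 (hA ▸ A.orderOf_dvd_natCard hx) with h | h
  · exact absurd (orderOf_eq_one_iff.1 h) hx1
  · exact h.ge

theorem cj_le_normalizer_iff {L : Subgroup G} {g : G} (h : cj g L ≤ L) : g ∈ normalizer (L : Set G) :=
  CfsgLib.Comp.map_conj_eq_iff.1 (eq_of_le_of_card_ge h
    (card_map_of_injective (MulAut.conj g).injective).ge)

namespace Pre

variable {S : Sylow p G} {M : Subgroup G} {φ : G →* Matrix.ProjectiveSpecialLinearGroup (Fin 2) F}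
  (h : Pre (F := F) S M φ n)
include h

theorem one_lt_q : 1 < p ^ n :=
  Nat.one_lt_pow (by have := h.one_le; omega) (Fact.out : p.Prime).one_lt

theorem exists_not_ker : ∃ s ∈ (S : Subgroup G), φ s ≠ 1 := by
  by_contra! hall
  have h1 := h.card_map
  rw [(Subgroup.map_eq_bot_iff _).2 (fun s hs => MonoidHom.mem_ker.2 (hall s hs)), card_bot] at h1
  exact h.one_lt_q.ne h1

theorem map_le_normalizer : M.map φ ≤ normalizer (((S : Subgroup G).map φ : Subgroup PS) : Set PS) := by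
  have hP : ((S.mapSurjective h.surj : Sylow p PS) : Subgroup PS) = (S : Subgroup G).map φ :=
    Sylow.coe_mapSurjective _ _
  rcases CfsgLib.PLocal.le_normalizer_or_eq_top_psl h.card (S.mapSurjective h.surj) (M := M.map φ)
    (hP ▸ map_mono h.le) with h1 | h1
  · rwa [hP] at h1
  · exact absurd (by rw [← comap_map_eq_self h.ker_le, h1, comap_top]) h.coatom.1

theorem mem_of_map_normalizes {x : G}
    (hx : φ x ∈ normalizer (((S : Subgroup G).map φ : Subgroup PS) : Set PS)) : x ∈ M := by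
  set B := (normalizer (((S : Subgroup G).map φ : Subgroup PS) : Set PS)).comap φ
  refine h.le_of_ne_top (H := B) (map_le_iff_le_comap.1 Subgroup.le_normalizer) (fun htop => ?_) hx
  have h1 : normalizer (((S : Subgroup G).map φ : Subgroup PS) : Set PS) = ⊤ := by
    rw [← map_comap_eq_self_of_surjective h.surj
      (normalizer (((S : Subgroup G).map φ : Subgroup PS) : Set PS))]
    change B.map φ = ⊤
    rw [htop, map_top_of_surjective φ h.surj]
  haveI := normalizer_eq_top_iff.1 h1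
  have h2 := h.card_map
  rw [normal_pGroup_psl_eq_bot (F := F) h.card _ (S.isPGroup'.map φ), card_bot] at h2
  exact h.one_lt_q.ne h2

theorem exists_conjugate_not_le : ∃ g : G, ¬ (S : Subgroup G).map (MulAut.conj g).toMonoidHom ≤ M := by
  by_contra! hcon
  have hNM : normalClosure ((S : Subgroup G) : Set G) ≤ M := by
    refine (closure_le _).2 fun y hy => ?_
    obtain ⟨x, hx, hxy⟩ := Group.mem_conjugatesOfSet_iff.1 hy
    obtain ⟨g, rfl⟩ := isConj_iff.1 hxy
    exact hcon g ⟨x, hx, rfl⟩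
  obtain ⟨s, hs, hs1⟩ := h.exists_not_ker
  exact hs1 (MonoidHom.mem_ker.1
    (h.pCore_eq.le (h.inf_le_pCore_of_le hNM ⟨hs, subset_normalClosure hs⟩)).2)

/-- Frattini in `M`. -/
theorem le_normalizer_sup_ker {g : G} (hg : g ∈ M) :
    ∃ t ∈ (S : Subgroup G) ⊔ φ.ker, t⁻¹ * g ∈ normalizer ((S : Subgroup G) : Set G) := by
  set T := (S : Subgroup G) ⊔ φ.ker with hT
  have hTeq : T = ((S : Subgroup G).map φ).comap φ := (comap_map_eq _ _).symm
  have hST : (S : Subgroup G) ≤ T := le_sup_left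
  have hgS : ((g • S : Sylow p G) : Subgroup G) ≤ T := by
    rw [hTeq]
    rintro _ ⟨s, hs, rfl⟩
    show g * s * g⁻¹ ∈ ((S : Subgroup G).map φ).comap φ
    rw [Subgroup.mem_comap, map_mul, map_mul, map_inv]
    exact (mem_normalizer_iff.1 (h.map_le_normalizer (mem_map_of_mem φ hg)) _).1 (mem_map_of_mem φ hs)
  obtain ⟨t, ht⟩ := MulAction.exists_smul_eq ↥T (S.subtype hST) ((g • S).subtype hgS)
  rw [Sylow.smul_subtype] at ht
  have h1 : (t : G) • S = g • S := Sylow.subtype_injective ht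
  refine ⟨t, t.2, Sylow.smul_eq_iff_mem_normalizer.1 ?_⟩
  rw [mul_smul, ← h1, inv_smul_smul]

variable {W L : Subgroup G} (hP : Plane p (p ^ n) (S : Subgroup G) (Cfsg.pCore p G) W L)
include hP

theorem plane_relIndex : L.relIndex W = p ^ n := by
  have h1 := relIndex_mul_relIndex ⊥ L W bot_le hP.le
  rw [relIndex_bot_left, relIndex_bot_left, hP.card_W, hP.card_L, sq] at h1
  exact Nat.eq_of_mul_eq_mul_left (pow_pos (Fact.out : p.Prime).pos n) h1

/-- The fixed points of an element outside the kernel are the line. -/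
theorem fix_mem {s : G} (hs : s ∈ (S : Subgroup G)) (hs1 : φ s ≠ 1) {w : G} (hw : w ∈ W)
    (hc : s * w = w * s) : w ∈ L := by
  haveI := hP.normal
  have h1 := h.le_relIndex_centralizer hP.exp hP.ab hP.nontriv hs hs1
  have hLW : L ≤ W ⊓ centralizer ({s} : Set G) := le_inf hP.le fun l hl =>
    mem_centralizer_singleton_iff.2 (hP.fixed hs l hl)
  have h2 := relIndex_mul_relIndex L (W ⊓ centralizer ({s} : Set G)) W hLW inf_le_left
  rw [h.plane_relIndex hP] at h2
  have h3 := relIndex_pos' L (W ⊓ centralizer ({s} : Set G))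
  have h4 := pow_pos (Fact.out : p.Prime).pos n
  exact relIndex_eq_one.1 (show L.relIndex (W ⊓ centralizer ({s} : Set G)) = 1 by nlinarith)
    ⟨hw, mem_centralizer_singleton_iff.2 hc.symm⟩

theorem mem_line_iff {w : G} : w ∈ L ↔ w ∈ W ∧ ∀ s ∈ (S : Subgroup G), s * w = w * s := by
  refine ⟨fun hw => ⟨hP.le hw, fun s hs => (hP.fixed hs w hw).symm⟩, fun hw => ?_⟩
  obtain ⟨s, hs, hs1⟩ := h.exists_not_ker
  exact h.fix_mem hP hs hs1 hw.1 (hw.2 s hs)

/-- Nothing is fixed by two generating Sylow subgroups. -/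
theorem fixed_eq_one {g : G} (hg : (S : Subgroup G) ⊔ cj g (S : Subgroup G) = ⊤) {w : G} (hw : w ∈ W)
    (h1 : ∀ s ∈ (S : Subgroup G), s * w = w * s) (h2 : ∀ s ∈ cj g (S : Subgroup G), s * w = w * s) :
    w = 1 := by
  haveI := hP.normal
  have hge := h.sq_le_relIndex_sup hP.exp hP.ab hP.nontriv S.isPGroup'
    (S.isPGroup'.map (MulAut.conj g).toMonoidHom) (top_le_iff.1 (hg.ge.trans le_sup_left))
  set D := (S : Subgroup G) ⊔ cj g (S : Subgroup G)
  set C := W ⊓ centralizer (D : Set G)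
  have h3 := relIndex_mul_relIndex ⊥ C W bot_le inf_le_left
  rw [relIndex_bot_left, relIndex_bot_left, hP.card_W] at h3
  have h4 : 0 < Nat.card C := Nat.card_pos
  have h5 : 0 < (p ^ n) ^ 2 := pow_pos (pow_pos (Fact.out : p.Prime).pos n) 2
  have h6 : C = ⊥ := Subgroup.eq_bot_of_card_le C (by
    by_contra hlt
    have : 2 * (p ^ n) ^ 2 ≤ Nat.card C * C.relIndex W := Nat.mul_le_mul (by omega) hge
    omega)
  have hle : D ≤ centralizer ({w} : Set G) := sup_le
    (fun s hs => mem_centralizer_singleton_iff.2 (h1 s hs))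
    fun s hs => mem_centralizer_singleton_iff.2 (h2 s hs)
  exact mem_bot.1 (h6.le ⟨hw, fun x hx => mem_centralizer_singleton_iff.1 (hle hx)⟩)

theorem normalizer_sylow_le_line : normalizer ((S : Subgroup G) : Set G) ≤ normalizer (L : Set G) := by
  haveI := hP.normal
  intro x hx
  refine cj_le_normalizer_iff ?_
  rintro _ ⟨l, hl, rfl⟩
  refine (h.mem_line_iff hP).2 ⟨hP.normal.conj_mem l (hP.le hl) x, fun s hs => ?_⟩
  have h1 := hP.fixed ((mem_normalizer_iff''.1 hx s).1 hs) l hl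
  show s * (x * l * x⁻¹) = x * l * x⁻¹ * s
  calc s * (x * l * x⁻¹) = x * ((x⁻¹ * s * x) * l) * x⁻¹ := by group
    _ = x * (l * (x⁻¹ * s * x)) * x⁻¹ := by rw [h1]
    _ = _ := by group

/-- The kernel normalizes the line, two or more dimensions. -/
theorem ker_le_line_two (hn : 2 ≤ n) : φ.ker ≤ normalizer (L : Set G) := by
  haveI := Cfsg.pCore_normal p G
  haveI := hP.normal
  set Q := Cfsg.pCore p G with hQ
  set σ := QuotientGroup.mk' Q with hσ
  set A := (S : Subgroup G).map σ with hA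
  set K := φ.ker.map σ with hK
  have hp : p.Prime := Fact.out
  haveI : K.Normal := Subgroup.Normal.map inferInstance _ (QuotientGroup.mk'_surjective Q)
  have hcardA : Nat.card A = p ^ n := by
    rw [hA, ← relIndex_ker, hσ, QuotientGroup.ker_mk', hQ, h.pCore_eq, inf_relIndex_left, relIndex_ker,
      h.card_map]
  have hab : IsMulCommutative A := ⟨⟨fun a b => by
    obtain ⟨_, s, hs, rfl⟩ := a
    obtain ⟨_, t, ht, rfl⟩ := b
    refine Subtype.ext (commutatorElement_eq_one_iff_mul_comm.1 ?_)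
    show ⁅σ s, σ t⁆ = 1
    rw [← map_commutatorElement]
    exact (QuotientGroup.eq_one_iff _).2 (h.commutatorElement_mem_pCore hs ht)⟩⟩
  have hexp : ∀ a : A, a ^ p = 1 := by
    rintro ⟨_, s, hs, rfl⟩
    refine Subtype.ext ?_
    show σ s ^ p = 1
    obtain ⟨k, hk⟩ := S.isPGroup' ⟨s, hs⟩
    rw [← map_pow]
    refine (QuotientGroup.eq_one_iff _).2 ((h.mem_pCore_iff (pow_mem hs p)).2 ?_)
    rw [map_pow]
    exact pow_eq_one_of_pGroup_psl h.card
      ⟨k, by rw [← map_pow, show s ^ p ^ k = 1 from congrArg Subtype.val hk, map_one]⟩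
  have hnc : ¬ IsCyclic A := fun hcyc => by
    have h1 : Nat.card A ∣ p := IsCyclic.exponent_eq_card (α := A) ▸
      Monoid.exponent_dvd_of_forall_pow_eq_one hexp
    rw [hcardA] at h1
    have := (Nat.pow_dvd_pow_iff_le_right hp.one_lt).1 (h1.trans (dvd_of_eq (pow_one p).symm))
    omega
  have hcop : (Nat.card A).Coprime (Nat.card K) := by
    rw [hcardA]
    refine Nat.Coprime.pow_left n (Nat.Coprime.symm (CfsgLib.Transfer.coprime_card_of_inf_sylow_eq_bot
      (S.mapSurjective (QuotientGroup.mk'_surjective Q)) ?_))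
    rw [Sylow.coe_mapSurjective, eq_bot_iff]
    rintro x ⟨⟨k, hk, rfl⟩, s, hs, hsk⟩
    rw [QuotientGroup.mk'_eq_mk'] at hsk
    obtain ⟨y, hy, rfl⟩ := hsk
    rw [mem_bot]
    show σ (s * y) = 1
    refine (QuotientGroup.eq_one_iff _).2 ((h.mem_pCore_iff (mul_mem hs ?_)).2 (MonoidHom.mem_ker.1 hk))
    exact CfsgLib.Amalgam.pCore_le_sylow S hy
  have hgen := CfsgLib.Coprime.iSup_centralizer_eq hab hnc
    (show A ≤ normalizer (K : Set (G ⧸ Q)) by rw [normalizer_eq_top]; exact le_top) hcop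
  have hQN : Q ≤ normalizer (L : Set G) :=
    (hP.Q_cent.trans (centralizer_le hP.le)).trans (centralizer_le_normalizer _)
  have hle : K ≤ (normalizer (L : Set G)).map σ := by
    rw [← hgen]
    refine iSup_le fun ⟨a, ha, ha1⟩ => ?_
    rintro _ ⟨⟨k, hk, rfl⟩, hc⟩
    obtain ⟨s, hs, rfl⟩ := ha
    refine mem_map_of_mem σ (cj_le_normalizer_iff ?_)
    rintro _ ⟨l, hl, rfl⟩
    have hs1 : φ s ≠ 1 := fun e => ha1 ((QuotientGroup.eq_one_iff _).2 ((h.mem_pCore_iff hs).2 e))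
    refine h.fix_mem hP hs hs1 (hP.normal.conj_mem l (hP.le hl) k) ?_
    have hy : s⁻¹ * (k⁻¹ * s * k) ∈ Q := by
      rw [← QuotientGroup.eq_one_iff (N := Q)]
      show σ (s⁻¹ * (k⁻¹ * s * k)) = 1
      have hcomm : σ k * σ s = σ s * σ k := (mem_centralizer_singleton_iff.1 hc)
      rw [map_mul, map_mul, map_mul, map_inv, map_inv,
        show (σ k)⁻¹ * σ s * σ k = σ s by rw [mul_assoc, ← hcomm, inv_mul_cancel_left],
        inv_mul_cancel]
    have h1 : s⁻¹ * (k⁻¹ * s * k) * l = l * (s⁻¹ * (k⁻¹ * s * k)) := (hP.Q_cent hy l (hP.le hl)).symm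
    show s * (k * l * k⁻¹) = k * l * k⁻¹ * s
    calc s * (k * l * k⁻¹) = k * (s * (s⁻¹ * (k⁻¹ * s * k) * l)) * k⁻¹ := by group
      _ = k * ((s * l) * (s⁻¹ * (k⁻¹ * s * k))) * k⁻¹ := by rw [h1]; group
      _ = k * ((l * s) * (s⁻¹ * (k⁻¹ * s * k))) * k⁻¹ := by rw [hP.fixed hs l hl]
      _ = _ := by group
  intro k hk
  obtain ⟨m, hm, hmk⟩ := hle (mem_map_of_mem σ hk)
  rw [QuotientGroup.mk'_eq_mk'] at hmk
  obtain ⟨y, hy, rfl⟩ := hmk
  exact mul_mem hm (hQN hy)

/-- The kernel normalizes the line, one dimension. -/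
theorem ker_le_line_one (hn : n = 1) : φ.ker ≤ normalizer (L : Set G) := by
  subst hn
  haveI := hP.normal
  intro k hk
  by_contra hkL
  set C := centralizer (W : Set G)
  haveI : C.Normal := inferInstance
  have hL : Nat.card L = p := by rw [hP.card_L, pow_one]
  have hcjW : ∀ (g : G) (L' : Subgroup G), L' ≤ W → cj g L' ≤ W := fun g L' hL' => by
    rintro _ ⟨x, hx, rfl⟩
    exact hP.normal.conj_mem x (hL' hx) g
  have hcard : ∀ (g : G) (L' : Subgroup G), Nat.card ↥(cj g L') = Nat.card L' := fun g L' =>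
    card_map_of_injective (MulAut.conj g).injective
  have hrel : L.relIndex W = p := by rw [h.plane_relIndex hP, pow_one]
  -- the moves of a point
  have hmove : ∀ w ∈ W, w ∉ L → ∀ l ∈ L, ∃ s ∈ (S : Subgroup G), s * w * s⁻¹ = l * w := by
    intro w hw hwL l hl
    obtain ⟨s, hs, hs1⟩ := h.exists_not_ker
    set z := s * w * s⁻¹ * w⁻¹
    have hz1 : z ≠ 1 := fun e => hwL (h.fix_mem hP hs hs1 hw (by
      rw [mul_inv_eq_one, mul_inv_eq_iff_eq_mul] at e; exact e))
    obtain ⟨i, hi⟩ := (mem_powers_iff_mem_zpowers (x := z) (y := l)).2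
      (eq_zpowers_of_prime_card hL (hP.comm w hw s hs) hz1 ▸ hl)
    refine ⟨s ^ i, pow_mem hs i, ?_⟩
    rw [← hi]
    show s ^ i * w * (s ^ i)⁻¹ = z ^ i * w
    clear hi
    induction i with
    | zero => simp
    | succ i ih =>
      have hzs : s * z ^ i = z ^ i * s := (hP.fixed hs (z ^ i) (pow_mem (hP.comm w hw s hs) i)).symm
      calc s ^ (i + 1) * w * (s ^ (i + 1))⁻¹ = s * (s ^ i * w * (s ^ i)⁻¹) * s⁻¹ := by
            rw [pow_succ']; group
        _ = (s * z ^ i) * w * s⁻¹ := by rw [ih]; group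
        _ = z ^ i * z * w := by rw [hzs]; simp [z, mul_assoc]
        _ = _ := by rw [pow_succ]
  -- `S` is transitive on the other lines
  have hlines : ∀ L₁ L₂ : Subgroup G, L₁ ≤ W → L₂ ≤ W → Nat.card L₁ = p → Nat.card L₂ = p →
      L₁ ≠ L → L₂ ≠ L → ∃ s ∈ (S : Subgroup G), cj s L₁ = L₂ := by
    intro L₁ L₂ h1 h2 c1 c2 n1 n2
    obtain ⟨w, hw, hwL⟩ := SetLike.not_le_iff_exists.1 (show ¬ L₁ ≤ L from fun hle =>
      n1 (eq_of_le_of_card_ge hle (by rw [c1, hL])))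
    have hsup : W ≤ L ⊔ L₂ := by
      have hm := relIndex_mul_relIndex L (L ⊔ L₂) W le_sup_left (sup_le hP.le h2)
      rw [hrel] at hm
      rcases (Nat.dvd_prime Fact.out).1 (Dvd.intro _ hm) with h3 | h3
      · exact absurd (eq_of_le_of_card_ge (le_sup_right.trans (relIndex_eq_one.1 h3)) (by rw [c2, hL])) n2
      · rw [h3] at hm
        exact relIndex_eq_one.1 (Nat.eq_of_mul_eq_mul_left (Fact.out : p.Prime).pos (by rw [hm, mul_one]))
    obtain ⟨a, ha, b, hb, hab⟩ := CfsgLib.Comp.exists_mul_of_mem_sup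
      (h2.trans ((hP.ab.trans (centralizer_le hP.le)).trans (centralizer_le_normalizer _))) (hsup (h1 hw))
    obtain ⟨s, hs, hsw⟩ := hmove w (h1 hw) hwL a⁻¹ (inv_mem ha)
    have hb1 : b ≠ 1 := fun e => hwL (by rw [← hab, e, mul_one]; exact ha)
    refine ⟨s, hs, ?_⟩
    have hbs : b ∈ cj s L₁ := ⟨w, hw, by
      show s * w * s⁻¹ = b
      rw [hsw, ← hab, inv_mul_cancel_left]⟩
    rw [eq_zpowers_of_prime_card ((hcard s L₁).trans c1) hbs hb1,
      eq_zpowers_of_prime_card c2 hb hb1]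
  set L₂ := cj k L with hL₂
  have hne : L₂ ≠ L := fun e => hkL (cj_le_normalizer_iff e.le)
  obtain ⟨t, ht, ht1⟩ := h.exists_not_ker
  have hcc : ∀ (x y : G) (L' : Subgroup G), cj x (cj y L') = cj (x * y) L' := fun x y L' => by
    rw [cj_mul]
  have htL : cj t L = L :=
    CfsgLib.Comp.map_conj_eq_iff.2 (centralizer_le_normalizer _ (hP.fixed ht))
  set L₃ := cj t L₂ with hL₃
  have h3L : L₃ ≠ L := fun e => hne (by
    have := congrArg (cj t⁻¹) e
    rw [hL₃, hcc, inv_mul_cancel] at this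
    rw [show cj (1 : G) L₂ = L₂ by ext; simp [cj]] at this
    rw [this]
    conv_lhs => rw [← htL]
    rw [hcc, inv_mul_cancel]
    ext; simp [cj])
  have h32 : L₃ ≠ L₂ := by
    intro e
    obtain ⟨b, hb, hb1⟩ : ∃ b ∈ L₂, b ≠ 1 := by
      by_contra! hall
      have := (hcard k L).trans hL
      rw [show cj k L = ⊥ from (eq_bot_iff_forall _).2 hall, card_bot] at this
      exact (Fact.out : p.Prime).one_lt.ne this
    have hbW : b ∈ W := hcjW k L hP.le hb
    have hz : t * b * t⁻¹ * b⁻¹ ∈ L ⊓ L₂ :=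
      ⟨hP.comm b hbW t ht, L₂.mul_mem (e.le (mem_map_of_mem _ hb)) (L₂.inv_mem hb)⟩
    have hbL : b ∈ L := by
      by_cases hz1 : t * b * t⁻¹ * b⁻¹ = 1
      · exact h.fix_mem hP ht ht1 hbW (by rw [mul_inv_eq_one, mul_inv_eq_iff_eq_mul] at hz1; exact hz1)
      · exact absurd ((eq_zpowers_of_prime_card ((hcard k L).trans hL) hz.2 hz1).trans
          (eq_zpowers_of_prime_card hL hz.1 hz1).symm) hne
    exact hne ((eq_zpowers_of_prime_card ((hcard k L).trans hL) hb hb1).trans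
      (eq_zpowers_of_prime_card hL hbL hb1).symm)
  set H := (S : Subgroup G) ⊔ cj k (S : Subgroup G)
  obtain ⟨h₁, hh₁, hh₁L⟩ : ∃ h₁ ∈ H, cj h₁ L = L₂ := by
    have hback : ∀ L' : Subgroup G, L' ≠ L₂ → cj k⁻¹ L' ≠ L := fun L' hL' e => hL' (by
      rw [hL₂, ← e, hcc, mul_inv_cancel]; ext; simp [cj])
    obtain ⟨s, hs, hsL⟩ := hlines (cj k⁻¹ L) (cj k⁻¹ L₃) (hcjW _ _ hP.le)
      (hcjW _ _ (hcjW _ _ (hcjW _ _ hP.le))) (by rw [hcard, hL])
      (by rw [hcard, hL₃, hcard, hL₂, hcard, hL]) (hback L hne.symm) (hback L₃ h32)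
    refine ⟨t⁻¹ * (k * s * k⁻¹), mul_mem (mem_sup_left (inv_mem ht))
      (mem_sup_right ⟨s, hs, rfl⟩), ?_⟩
    have h4 := congrArg (cj k) hsL
    rw [hcc, hcc, hcc, mul_inv_cancel] at h4
    rw [← hcc t⁻¹, h4, hcc, mul_one, hL₃, hcc, inv_mul_cancel]
    ext; simp [cj]
  have horb : ∀ g : G, ∃ x ∈ H, cj x L = cj g L := by
    intro g
    by_cases hg : cj g L = L
    · exact ⟨1, one_mem _, by rw [hg]; ext; simp [cj]⟩
    obtain ⟨s, hs, hsL⟩ := hlines L₂ (cj g L) (hcjW _ _ hP.le) (hcjW _ _ hP.le)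
      ((hcard k L).trans hL) ((hcard g L).trans hL) hne hg
    exact ⟨s * h₁, mul_mem (mem_sup_left hs) hh₁, by rw [← hcc, hh₁L, hsL]⟩
  -- every Sylow subgroup acts like one inside `H`
  have hCM : C ≤ M := (h.residual_le_or C).resolve_left hP.nontriv
  have hHM : H ≤ M := sup_le h.le (by
    rintro _ ⟨s, hs, rfl⟩
    exact mul_mem (mul_mem (h.ker_le hk) (h.le hs)) (inv_mem (h.ker_le hk)))
  obtain ⟨g, hg⟩ := h.exists_conjugate_not_le
  refine hg ?_
  rintro _ ⟨s, hs, rfl⟩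
  show g * s * g⁻¹ ∈ M
  obtain ⟨x, hxH, hxL⟩ := horb g
  set y := x⁻¹ * g
  have hyL : cj y L = L := by
    rw [← hcc, ← hxL, hcc, inv_mul_cancel]; ext; simp [cj]
  set a := y * s * y⁻¹
  have hafix : ∀ l ∈ L, a * l = l * a := by
    intro l hl
    obtain ⟨l', hl', rfl⟩ := hyL.ge hl
    show y * s * y⁻¹ * (y * l' * y⁻¹) = y * l' * y⁻¹ * (y * s * y⁻¹)
    calc y * s * y⁻¹ * (y * l' * y⁻¹) = y * (s * l') * y⁻¹ := by group
      _ = y * (l' * s) * y⁻¹ := by rw [hP.fixed hs l' hl']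
      _ = _ := by group
  obtain ⟨w, hw, hwL⟩ := SetLike.not_le_iff_exists.1 (show ¬ W ≤ L from fun hle =>
    (Fact.out : p.Prime).one_lt.ne' (hrel.symm.trans (relIndex_eq_one.2 hle)))
  have haw : a * w * a⁻¹ * w⁻¹ ∈ L := by
    have hw' : y⁻¹ * w * y ∈ W := by simpa using hP.normal.conj_mem w hw y⁻¹
    rw [show a * w * a⁻¹ * w⁻¹ =
      y * (s * (y⁻¹ * w * y) * s⁻¹ * (y⁻¹ * w * y)⁻¹) * y⁻¹ by simp [a, mul_assoc]]
    exact hyL.le ⟨_, hP.comm _ hw' s hs, rfl⟩
  obtain ⟨s', hs', hs'w⟩ := hmove w hw hwL _ haw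
  have hc : s'⁻¹ * a ∈ C := by
    have hfix : L ⊔ zpowers w ≤ centralizer ({s'⁻¹ * a} : Set G) := by
      refine sup_le (fun l hl => mem_centralizer_singleton_iff.2 ?_)
        (zpowers_le.2 (mem_centralizer_singleton_iff.2 ?_))
      · exact ((show Commute l s'⁻¹ from (show Commute l s' from hP.fixed hs' l hl).inv_right).mul_right
          (hafix l hl).symm).eq
      · rw [inv_mul_cancel_right] at hs'w
        calc w * (s'⁻¹ * a) = s'⁻¹ * (s' * w * s'⁻¹) * a := by group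
          _ = _ := by rw [hs'w]; group
    have hW : W ≤ L ⊔ zpowers w := by
      have hm := relIndex_mul_relIndex L (L ⊔ zpowers w) W le_sup_left (sup_le hP.le (zpowers_le.2 hw))
      rw [hrel] at hm
      rcases (Nat.dvd_prime Fact.out).1 (Dvd.intro _ hm) with h3 | h3
      · exact absurd ((relIndex_eq_one.1 h3) (mem_sup_right (mem_zpowers w))) hwL
      · rw [h3] at hm
        exact relIndex_eq_one.1 (Nat.eq_of_mul_eq_mul_left (Fact.out : p.Prime).pos (by rw [hm, mul_one]))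
    exact fun v hv => mem_centralizer_singleton_iff.1 (hfix (hW hv))
  rw [show g * s * g⁻¹ = x * (s' * (s'⁻¹ * a)) * x⁻¹ by simp [a, y, mul_assoc]]
  exact mul_mem (mul_mem (hHM hxH) (mul_mem (h.le hs') (hCM hc))) (inv_mem (hHM hxH))

/-- `M` normalizes the line. -/
theorem le_normalizer_line : M ≤ normalizer (L : Set G) := by
  have hker : φ.ker ≤ normalizer (L : Set G) := by
    rcases (show n = 1 ∨ 2 ≤ n by have := h.one_le; omega) with hn | hn
    exacts [h.ker_le_line_one hP hn, h.ker_le_line_two hP hn]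
  intro g hg
  obtain ⟨t, ht, htg⟩ := h.le_normalizer_sup_ker hg
  simpa using mul_mem (sup_le (Subgroup.le_normalizer.trans (h.normalizer_sylow_le_line hP)) hker ht)
    (h.normalizer_sylow_le_line hP htg)

set_option maxHeartbeats 6000000 in
/-- The plane is a natural module, with the field of the given parametrization. -/
theorem exists_plane_rep
    (hU : (S : Subgroup G).map φ = (CfsgLib.Classical.uSL F).map π) :
    ∃ (ρ : G →* SL(2, F)) (ψ : Additive ↥W ≃+ (Fin 2 → F)), Function.Surjective ρ ∧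
      (∀ g, π (ρ g) = φ g) ∧ ρ.ker = centralizer (W : Set G) ∧
      ∀ (g : G) (v v' : ↥W), (v' : G) = g * v * g⁻¹ →
        ψ (Additive.ofMul v') = (ρ g : Matrix (Fin 2) (Fin 2) F).mulVec (ψ (Additive.ofMul v)) := by
  haveI := hP.normal
  classical
  letI : CommGroup ↥W :=
    { (inferInstance : Group ↥W) with mul_comm := fun a b => Subtype.ext (hP.ab b.2 a a.2) }
  letI : CommGroup ↥L :=
    { (inferInstance : Group ↥L) with
      mul_comm := fun a b => Subtype.ext (hP.ab (hP.le b.2) a (hP.le a.2)) }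
  have hab : ∀ {a b : G}, a ∈ W → b ∈ W → a * b = b * a := fun ha hb => hP.ab hb _ ha
  have hlift : ∀ t : F, ∃ s ∈ (S : Subgroup G), φ s = π (u t) := fun t => by
    obtain ⟨s, hs, e⟩ := hU.ge (mem_map_of_mem π (⟨t, rfl⟩ : u t ∈ CfsgLib.Classical.uSL F))
    exact ⟨s, hs, e⟩
  choose sl hslS hslφ using hlift
  have hsame : ∀ s ∈ (S : Subgroup G), ∀ t, φ s = π (u t) → ∀ v ∈ W,
      s * v * s⁻¹ = sl t * v * (sl t)⁻¹ := by
    intro s hs t ht v hv
    have hy : (sl t)⁻¹ * s ∈ Cfsg.pCore p G := (h.mem_pCore_iff (mul_mem (inv_mem (hslS t)) hs)).2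
      (by rw [map_mul, map_inv, hslφ, ht, inv_mul_cancel])
    have h1 := hP.Q_cent hy v hv
    calc s * v * s⁻¹ = sl t * ((sl t)⁻¹ * s * v) * s⁻¹ := by group
      _ = sl t * (v * ((sl t)⁻¹ * s)) * s⁻¹ := by rw [h1]
      _ = _ := by group
  -- the Weyl element
  obtain ⟨w₁, hw₁⟩ := h.surj (π wElt)
  set v₁ := w₁ * sl 1 * w₁⁻¹ with hv₁
  set w₀ := sl 1 * v₁ * sl 1 with hw₀
  have hw₀φ : φ w₀ = π wElt := by
    rw [hw₀, hv₁, map_mul, map_mul, map_mul, map_mul, map_inv, hw₁, hslφ, ← map_inv, ← map_mul,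
      ← map_mul, ← map_mul, ← map_mul, uElt_mul_lower_mul_uElt]
  set L₁ := cj w₀ L with hL₁
  have hL₁W : L₁ ≤ W := by
    rintro _ ⟨x, hx, rfl⟩
    exact hP.normal.conj_mem x (hP.le hx) w₀
  have hgen : (S : Subgroup G) ⊔ cj w₀ (S : Subgroup G) = ⊤ := by
    by_contra hne
    have hw₀M : w₀ ∈ M := h.mem_of_conj_le (le_sup_right.trans (h.le_of_ne_top le_sup_left hne))
    have h1 := (mem_normalizer_iff.1 (h.map_le_normalizer (mem_map_of_mem φ hw₀M)) (π (u 1))).1
      (hU.ge (mem_map_of_mem π ⟨1, rfl⟩))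
    rw [hU, hw₀φ, ← map_inv, ← map_mul, ← map_mul] at h1
    obtain ⟨_, ⟨t, rfl⟩, ht⟩ := h1
    rw [QuotientGroup.mk'_eq_mk'] at ht
    obtain ⟨z, hz, hzt⟩ := ht
    obtain ⟨r, hr2, hr⟩ := Matrix.SpecialLinearGroup.mem_center_iff.1 hz
    have h2 := congrArg (fun A : SL(2, F) => (A : Matrix (Fin 2) (Fin 2) F) 1 0) hzt
    simp [Matrix.SpecialLinearGroup.coe_mul, ← hr, Matrix.SpecialLinearGroup.coe_inv, wElt_val,
      CfsgLib.Classical.uElt_val, Matrix.adjugate_fin_two, Matrix.mul_apply, Fin.sum_univ_two] at h2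
  have hdisj : L ⊓ L₁ = ⊥ := by
    rw [eq_bot_iff]
    rintro x ⟨hx, y, hy, rfl⟩
    refine mem_bot.2 (h.fixed_eq_one hP hgen (hP.le hx)
      (fun s hs => ((h.mem_line_iff hP).1 hx).2 s hs) ?_)
    rintro _ ⟨s, hs, rfl⟩
    show w₀ * s * w₀⁻¹ * (w₀ * y * w₀⁻¹) = w₀ * y * w₀⁻¹ * (w₀ * s * w₀⁻¹)
    calc w₀ * s * w₀⁻¹ * (w₀ * y * w₀⁻¹) = w₀ * (s * y) * w₀⁻¹ := by group
      _ = w₀ * (y * s) * w₀⁻¹ := by rw [((h.mem_line_iff hP).1 hy).2 s hs]
      _ = _ := by group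
  have hkerL : ∀ g, φ g = 1 → cj g L = L := fun g hg =>
    CfsgLib.Comp.map_conj_eq_iff.2 (h.le_normalizer_line hP (h.ker_le (MonoidHom.mem_ker.2 hg)))
  -- coordinates
  let σ : F → ↥L₁ →* ↥L := fun t =>
    { toFun := fun b => ⟨sl t * b * (sl t)⁻¹ * (b : G)⁻¹, hP.comm _ (hL₁W b.2) _ (hslS t)⟩
      map_one' := by ext; simp
      map_mul' := fun b c => by
        apply Subtype.ext
        show sl t * (b * c : G) * (sl t)⁻¹ * (b * c : G)⁻¹ = _
        have hbW := hL₁W b.2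
        have hcW := hL₁W c.2
        have h1 : (b : G)⁻¹ * (sl t * c * (sl t)⁻¹ * (c : G)⁻¹) =
            (sl t * c * (sl t)⁻¹ * (c : G)⁻¹) * (b : G)⁻¹ :=
          hab (inv_mem hbW) (mul_mem (hP.normal.conj_mem _ hcW _) (inv_mem hcW))
        show _ = (sl t * b * (sl t)⁻¹ * (b : G)⁻¹) * (sl t * c * (sl t)⁻¹ * (c : G)⁻¹)
        rw [mul_assoc (sl t * b * (sl t)⁻¹), h1]
        group }
  have hσinj : Function.Injective (σ 1) := by
    refine (injective_iff_map_eq_one _).2 fun b hb => ?_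
    have h1 : sl 1 * b * (sl 1)⁻¹ * (b : G)⁻¹ = 1 := congrArg Subtype.val hb
    rw [mul_inv_eq_one, mul_inv_eq_iff_eq_mul] at h1
    have hs1 : φ (sl 1) ≠ 1 := by
      rw [hslφ]
      intro e
      have e1 : u (1 : F) ∈ center SL(2, F) ⊓ CfsgLib.Classical.uSL F :=
        ⟨(QuotientGroup.eq_one_iff _).1 e, 1, rfl⟩
      rw [center_inf_uSL, mem_bot, ← uElt_zero] at e1
      exact one_ne_zero (CfsgLib.Classical.uElt_injective e1)
    exact Subtype.ext (mem_bot.1 (hdisj.le ⟨h.fix_mem hP (hslS 1) hs1 (hL₁W b.2) h1, b.2⟩))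
  have hσbij : Function.Bijective (σ 1) := (Nat.bijective_iff_injective_and_card _).2
    ⟨hσinj, card_map_of_injective (MulAut.conj w₀).injective⟩
  let j : ↥L ≃* ↥L₁ := (MulEquiv.ofBijective (σ 1) hσbij).symm
  have hσj : ∀ a, σ 1 (j a) = a := fun a => (MulEquiv.ofBijective (σ 1) hσbij).apply_symm_apply a
  have hsl : ∀ (t : F) (a b : ↥L), sl t * ((a : G) * j b) * (sl t)⁻¹ =
      ((a * σ t (j b) : ↥L) : G) * j b := by
    intro t a b
    have h1 : sl t * (a : G) * (sl t)⁻¹ = a := by rw [← hP.fixed (hslS t) a a.2, mul_inv_cancel_right]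
    show _ = (a : G) * (sl t * j b * (sl t)⁻¹ * (j b : G)⁻¹) * j b
    calc sl t * ((a : G) * j b) * (sl t)⁻¹ = sl t * a * (sl t)⁻¹ * (sl t * j b * (sl t)⁻¹) := by group
      _ = _ := by rw [h1]; group
  let ι₀ : ↥L × ↥L →* ↥W :=
    { toFun := fun x => ⟨(x.1 : G) * j x.2, mul_mem (hP.le x.1.2) (hL₁W (j x.2).2)⟩
      map_one' := by ext; simp
      map_mul' := fun x y => by
        apply Subtype.ext
        simp only [Prod.fst_mul, Prod.snd_mul, map_mul, Subgroup.coe_mul]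
        exact Commute.mul_mul_mul_comm (hab (hP.le y.1.2) (hL₁W (j x.2).2)) _ _ }
  have hι₀inj : Function.Injective ι₀ := by
    refine (injective_iff_map_eq_one _).2 fun x hx => ?_
    have h1 : (x.1 : G) * j x.2 = 1 := congrArg Subtype.val hx
    have h2 : (j x.2 : G) = 1 := mem_bot.1 (hdisj.le
      ⟨by rw [eq_inv_of_mul_eq_one_right h1]; exact L.inv_mem x.1.2, (j x.2).2⟩)
    refine Prod.ext (Subtype.ext ?_) (j.injective ((Subtype.ext h2).trans (map_one j).symm))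
    rw [h2, mul_one] at h1
    exact h1
  have hι₀ : Function.Bijective ι₀ := (Nat.bijective_iff_injective_and_card _).2
    ⟨hι₀inj, by rw [Nat.card_prod, hP.card_L, hP.card_W, sq]⟩
  have uniq : ∀ (a b a' b' : ↥L), (a : G) * j b = a' * j b' → a = a' ∧ b = b' := fun a b a' b' e =>
    Prod.ext_iff.1 (hι₀inj (show ι₀ (a, b) = ι₀ (a', b') from Subtype.ext e))
  -- the action of the Weyl element
  have hv₁fix : ∀ b ∈ L₁, v₁ * b * v₁⁻¹ = b ∧ ∀ a ∈ W, v₁ * a * v₁⁻¹ * a⁻¹ ∈ L₁ := by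
    have hk : cj (w₁⁻¹ * w₀) L = L := hkerL _ (by rw [map_mul, map_inv, hw₁, hw₀φ, inv_mul_cancel])
    have hL₁' : L₁ = cj w₁ L := by
      conv_rhs => rw [← hk]
      rw [← cj_mul, mul_inv_cancel_left]
    intro b hb
    rw [hL₁'] at hb ⊢
    obtain ⟨l, hl, rfl⟩ := hb
    refine ⟨?_, fun a ha => ?_⟩
    · show v₁ * (w₁ * l * w₁⁻¹) * v₁⁻¹ = w₁ * l * w₁⁻¹
      calc v₁ * (w₁ * l * w₁⁻¹) * v₁⁻¹ = w₁ * (sl 1 * l * (sl 1)⁻¹) * w₁⁻¹ := by rw [hv₁]; group
        _ = _ := by rw [← hP.fixed (hslS 1) l hl, mul_inv_cancel_right]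
    · refine ⟨_, hP.comm (w₁⁻¹ * a * w₁) (by simpa using hP.normal.conj_mem a ha w₁⁻¹) _ (hslS 1), ?_⟩
      show w₁ * (sl 1 * (w₁⁻¹ * a * w₁) * (sl 1)⁻¹ * (w₁⁻¹ * a * w₁)⁻¹) * w₁⁻¹ = _
      simp [v₁, mul_assoc]
  have hwa : ∀ a : ↥L, w₀ * a * w₀⁻¹ = j a⁻¹ := by
    intro a
    set g := v₁ * (a : G) * v₁⁻¹ * (a : G)⁻¹ with hgdef
    have hg : g ∈ L₁ := (hv₁fix 1 (one_mem _)).2 a (hP.le a.2)
    have hmem : w₀ * a * w₀⁻¹ ∈ L₁ := mem_map_of_mem _ a.2
    have h1 : w₀ * a * w₀⁻¹ = sl 1 * ((a : G) * j (σ 1 ⟨g, hg⟩)) * (sl 1)⁻¹ := by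
      rw [show j (σ 1 ⟨g, hg⟩) = ⟨g, hg⟩ from
        (MulEquiv.ofBijective (σ 1) hσbij).symm_apply_apply ⟨g, hg⟩, hw₀]
      have ha : sl 1 * (a : G) * (sl 1)⁻¹ = a := by
        rw [← hP.fixed (hslS 1) a a.2, mul_inv_cancel_right]
      calc sl 1 * v₁ * sl 1 * a * (sl 1 * v₁ * sl 1)⁻¹
          = sl 1 * (v₁ * (sl 1 * a * (sl 1)⁻¹) * v₁⁻¹) * (sl 1)⁻¹ := by group
        _ = sl 1 * (g * a) * (sl 1)⁻¹ := by rw [ha, hgdef]; group
        _ = _ := by rw [hab (hP.le a.2) (hL₁W hg)]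
    rw [hsl, hσj] at h1
    obtain ⟨c, hc⟩ := j.surjective ⟨_, hmem⟩
    have h2 : ((1 : ↥L) : G) * j c = ((a * σ 1 ⟨g, hg⟩ : ↥L) : G) * j (σ 1 ⟨g, hg⟩) := by
      rw [← h1, OneMemClass.coe_one, one_mul, hc]
    obtain ⟨e1, e2⟩ := uniq _ _ _ _ h2
    rw [eq_inv_of_mul_eq_one_right e1.symm] at e2
    rw [← e2, hc]
  have hwj : ∀ b : ↥L, w₀ * (j b : G) * w₀⁻¹ = b := by
    intro b
    have h1 := hsl 1 1 b
    rw [hσj, one_mul, OneMemClass.coe_one, one_mul] at h1
    have h2 : v₁ * ((b : G) * j b) * v₁⁻¹ = (v₁ * b * v₁⁻¹ * (b : G)⁻¹) * b * j b := by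
      calc v₁ * ((b : G) * j b) * v₁⁻¹ = v₁ * b * v₁⁻¹ * (v₁ * j b * v₁⁻¹) := by group
        _ = _ := by rw [(hv₁fix _ (j b).2).1]; group
    have h3 := hwa b
    have h4 : w₀ * b * w₀⁻¹ = sl 1 * (v₁ * b * v₁⁻¹) * (sl 1)⁻¹ := by
      have hb : sl 1 * (b : G) * (sl 1)⁻¹ = b := by
        rw [← hP.fixed (hslS 1) b b.2, mul_inv_cancel_right]
      rw [hw₀]
      calc sl 1 * v₁ * sl 1 * b * (sl 1 * v₁ * sl 1)⁻¹
          = sl 1 * (v₁ * (sl 1 * b * (sl 1)⁻¹) * v₁⁻¹) * (sl 1)⁻¹ := by group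
        _ = _ := by rw [hb]
    calc w₀ * (j b : G) * w₀⁻¹ = sl 1 * (v₁ * (sl 1 * j b * (sl 1)⁻¹) * v₁⁻¹) * (sl 1)⁻¹ := by
          rw [hw₀]; group
      _ = (sl 1 * (v₁ * b * v₁⁻¹) * (sl 1)⁻¹) * (sl 1 * j b * (sl 1)⁻¹) := by
          conv_lhs => rw [h1, h2]
          group
      _ = (j b⁻¹ : G) * ((b : G) * j b) := by rw [← h4, h3, h1]
      _ = _ := by
          rw [map_inv, Subgroup.coe_inv,
            hab (hP.le b.2) (hL₁W (j b).2), inv_mul_cancel_left]
  have hw : ∀ a b : ↥L, w₀ * ((a : G) * j b) * w₀⁻¹ = (b : G) * j a⁻¹ := fun a b => by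
    calc w₀ * ((a : G) * j b) * w₀⁻¹ = w₀ * a * w₀⁻¹ * (w₀ * j b * w₀⁻¹) := by group
      _ = _ := by rw [hwa, hwj]; exact hab (hL₁W (j a⁻¹).2) (hP.le b.2)
  -- elements normalizing both lines
  have hLL : ∀ g, g ∈ M → w₀⁻¹ * g * w₀ ∈ M →
      ∃ α δ : ↥L →* ↥L, Function.Bijective δ ∧
        ∀ a b : ↥L, g * ((a : G) * j b) * g⁻¹ = (α a : G) * j (δ b) := by
    intro g hg hg'
    have hgL : ∀ a ∈ L, g * a * g⁻¹ ∈ L := fun a ha =>
      (mem_normalizer_iff.1 (h.le_normalizer_line hP hg) a).1 ha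
    have hgL₁ : ∀ b ∈ L₁, g * b * g⁻¹ ∈ L₁ := by
      rintro _ ⟨l, hl, rfl⟩
      refine ⟨_, (mem_normalizer_iff.1 (h.le_normalizer_line hP hg') l).1 hl, ?_⟩
      simp [mul_assoc]
    let α : ↥L →* ↥L :=
      { toFun := fun a => ⟨g * a * g⁻¹, hgL a a.2⟩
        map_one' := by ext; simp
        map_mul' := fun a b => by ext; simp [mul_assoc] }
    let β : ↥L₁ →* ↥L₁ :=
      { toFun := fun a => ⟨g * a * g⁻¹, hgL₁ a a.2⟩
        map_one' := by ext; simp
        map_mul' := fun a b => by ext; simp [mul_assoc] }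
    have hβ : Function.Bijective β := Finite.injective_iff_bijective.1 fun a b e => Subtype.ext
      (mul_left_cancel (mul_right_cancel (show g * a * g⁻¹ = g * b * g⁻¹ from congrArg Subtype.val e)))
    refine ⟨α, j.symm.toMonoidHom.comp (β.comp j.toMonoidHom),
      j.symm.bijective.comp (hβ.comp j.bijective), fun a b => ?_⟩
    show g * ((a : G) * j b) * g⁻¹ = (α a : G) * j (j.symm (β (j b)))
    rw [j.apply_symm_apply]
    show _ = g * a * g⁻¹ * (g * j b * g⁻¹)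
    group
  have hMM : ∀ g, φ g = 1 → g ∈ M ∧ w₀⁻¹ * g * w₀ ∈ M := fun g hg =>
    ⟨h.ker_le (MonoidHom.mem_ker.2 hg), h.ker_le (MonoidHom.mem_ker.2 (by
      rw [map_mul, map_mul, hg, mul_one, map_inv, inv_mul_cancel]))⟩
  have key : ∀ (g : G) (α δ : ↥L →* ↥L), Function.Bijective δ →
      (∀ a b : ↥L, g * ((a : G) * j b) * g⁻¹ = (α a : G) * j (δ b)) →
      ∀ t t', φ g * π (u t) = π (u t') * φ g → ∀ b, σ t' (j (δ b)) = α (σ t (j b)) := by
    intro g α δ hδ hact t t' hφ b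
    have hk : φ ((sl t')⁻¹ * (g * sl t * g⁻¹)) = 1 := by
      rw [map_mul, map_mul, map_mul, map_inv, map_inv, hslφ, hslφ, hφ, mul_inv_cancel_right,
        inv_mul_cancel]
    obtain ⟨γ, γ', hγ', hkact⟩ := hLL _ (hMM _ hk).1 (hMM _ hk).2
    set k := (sl t')⁻¹ * (g * sl t * g⁻¹) with hkdef
    have e1 : g * sl t * g⁻¹ * j (δ b) * (g * sl t * g⁻¹)⁻¹ =
        (α (σ t (j b)) : G) * j (δ b) := by
      have hb : (j (δ b) : G) = g * j b * g⁻¹ := by
        have := hact 1 b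
        rw [map_one, OneMemClass.coe_one, one_mul, one_mul] at this
        exact this.symm
      rw [hb, show g * sl t * g⁻¹ * (g * j b * g⁻¹) * (g * sl t * g⁻¹)⁻¹ =
        g * (sl t * j b * (sl t)⁻¹) * g⁻¹ by group]
      have h2 := hsl t 1 b
      rw [one_mul, OneMemClass.coe_one, one_mul] at h2
      rw [h2, hact, ← hb]
    have e2 : g * sl t * g⁻¹ * j (δ b) * (g * sl t * g⁻¹)⁻¹ =
        (σ t' (j (γ' (δ b))) : G) * j (γ' (δ b)) := by
      rw [show g * sl t * g⁻¹ = sl t' * k by rw [hkdef, mul_inv_cancel_left]]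
      have h2 := hkact 1 (δ b)
      rw [map_one, OneMemClass.coe_one, one_mul, one_mul] at h2
      have h3 := hsl t' 1 (γ' (δ b))
      rw [one_mul, OneMemClass.coe_one, one_mul] at h3
      rw [show sl t' * k * j (δ b) * (sl t' * k)⁻¹ = sl t' * (k * j (δ b) * k⁻¹) * (sl t')⁻¹ by group,
        h2, h3]
    obtain ⟨e3, e4⟩ := uniq _ _ _ _ (e1.symm.trans e2)
    rw [e3, ← e4]
  -- the kernel acts by scalars and centrally
  have hscal : ∀ k, φ k = 1 → ∃ γ : ↥L →* ↥L, (∀ t b, σ t (j (γ b)) = γ (σ t (j b))) ∧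
      ∀ a b : ↥L, k * ((a : G) * j b) * k⁻¹ = (γ a : G) * j (γ b) := by
    intro k hk
    obtain ⟨γ, γ', hγ', hact⟩ := hLL k (hMM k hk).1 (hMM k hk).2
    have hkey := fun t b => key k γ γ' hγ' hact t t (by rw [hk, one_mul, mul_one]) b
    have he : γ' = γ := MonoidHom.ext fun b => by
      have := hkey 1 b
      rwa [hσj, hσj] at this
    rw [he] at hkey hact
    exact ⟨γ, hkey, hact⟩
  set C := centralizer (W : Set G)
  haveI : C.Normal := inferInstance
  have hcentral : ∀ k, φ k = 1 → ∀ g, ∀ v ∈ W,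
      g * k * v * (g * k)⁻¹ = k * g * v * (k * g)⁻¹ := by
    intro k hk
    obtain ⟨γ, hγc, hγ⟩ := hscal k hk
    let T : Subgroup G :=
      { carrier := {g | ∀ v ∈ W, g * k * v * (g * k)⁻¹ = k * g * v * (k * g)⁻¹}
        one_mem' := fun v _ => by rw [one_mul, mul_one]
        mul_mem' := fun {x y} hx hy v hv => by
          have h1 : k * v * k⁻¹ ∈ W := hP.normal.conj_mem v hv k
          calc x * y * k * v * (x * y * k)⁻¹ = x * (y * k * v * (y * k)⁻¹) * x⁻¹ := by group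
            _ = x * (k * (y * v * y⁻¹) * k⁻¹) * x⁻¹ := by rw [hy v hv]; group
            _ = x * k * (y * v * y⁻¹) * (x * k)⁻¹ := by group
            _ = k * x * (y * v * y⁻¹) * (k * x)⁻¹ := hx _ (hP.normal.conj_mem v hv y)
            _ = _ := by group
        inv_mem' := fun {x} hx v hv => by
          have h1 := hx (x⁻¹ * v * x) (by simpa using hP.normal.conj_mem v hv x⁻¹)
          calc x⁻¹ * k * v * (x⁻¹ * k)⁻¹
              = x⁻¹ * (k * x * (x⁻¹ * v * x) * (k * x)⁻¹) * x := by group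
            _ = x⁻¹ * (x * k * (x⁻¹ * v * x) * (x * k)⁻¹) * x := by rw [h1]
            _ = _ := by group }
    have hsplit : ∀ v ∈ W, ∃ a b : ↥L, v = (a : G) * j b := fun v hv => by
      obtain ⟨⟨a, b⟩, e⟩ := hι₀.surjective ⟨v, hv⟩
      exact ⟨a, b, (congrArg Subtype.val e).symm⟩
    have hS : (S : Subgroup G) ≤ T := fun s hs v hv => by
      obtain ⟨_, ⟨t, rfl⟩, ht⟩ := hU.le (mem_map_of_mem φ hs)
      obtain ⟨a, b, rfl⟩ := hsplit v hv
      have hL : ∀ a b : ↥L, s * ((a : G) * j b) * s⁻¹ = ((a * σ t (j b) : ↥L) : G) * j b :=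
        fun a b => (hsame s hs t ht.symm _ (mul_mem (hP.le a.2) (hL₁W (j b).2))).trans (hsl t a b)
      rw [show s * k * ((a : G) * j b) * (s * k)⁻¹ = s * (k * ((a : G) * j b) * k⁻¹) * s⁻¹ by group,
        hγ, hL, hγc t b, ← map_mul,
        show k * s * ((a : G) * j b) * (k * s)⁻¹ = k * (s * ((a : G) * j b) * s⁻¹) * k⁻¹ by group,
        hL, hγ]
    have hwT : w₀ ∈ T := fun v hv => by
      obtain ⟨a, b, rfl⟩ := hsplit v hv
      rw [show w₀ * k * ((a : G) * j b) * (w₀ * k)⁻¹ = w₀ * (k * ((a : G) * j b) * k⁻¹) * w₀⁻¹ by group,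
        hγ, hw, show k * w₀ * ((a : G) * j b) * (k * w₀)⁻¹ = k * (w₀ * ((a : G) * j b) * w₀⁻¹) * k⁻¹
          by group, hw, hγ, map_inv γ]
    intro g
    have hle : (⊤ : Subgroup G) ≤ T := hgen.ge.trans (sup_le hS (by
      rintro _ ⟨s, hs, rfl⟩
      exact mul_mem (mul_mem hwT (hS hs)) (inv_mem hwT)))
    exact hle (mem_top g)
  -- the torus
  obtain ⟨a₀, ha₀⟩ := IsCyclic.exists_generator (α := Fˣ)
  obtain ⟨g₀, hg₀⟩ := h.surj (π (dElt a₀))
  have hdu : ∀ t : F, φ g₀ * π (u t) = π (u ((a₀ : F) ^ 2 * t)) * φ g₀ := fun t => by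
    rw [hg₀, ← map_mul, ← map_mul, dElt_mul_uElt]
  have hnormU : ∀ (x : G) (a : Fˣ), φ x = π (dElt a) → x ∈ M := fun x a hx =>
    h.mem_of_map_normalizes (by
      rw [hU, hx]
      refine mem_normalizer_fintype fun y hy => ?_
      obtain ⟨_, ⟨t, rfl⟩, rfl⟩ := hy
      exact ⟨_, ⟨(a : F) ^ 2 * t, rfl⟩,
        by rw [← map_inv, ← map_mul, ← map_mul, dElt_mul_uElt, mul_inv_cancel_right]⟩)
  have hwd : φ (w₀ * g₀ * w₀⁻¹ * g₀) = 1 := by
    rw [map_mul, map_mul, map_mul, map_inv, hw₀φ, hg₀, ← map_inv, ← map_mul, ← map_mul, ← map_mul,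
      wElt_mul_dElt, map_one]
  obtain ⟨α, δ, hδ, hact⟩ := hLL g₀ (hnormU g₀ a₀ hg₀) (hnormU _ a₀⁻¹ (by
    have e1 : wElt⁻¹ * dElt a₀ * wElt = dElt a₀⁻¹ := by
      apply sl_ext
      simp only [Matrix.SpecialLinearGroup.coe_mul, Matrix.SpecialLinearGroup.coe_inv, wElt_val,
        dElt_val, Matrix.adjugate_fin_two]
      ext i j
      fin_cases i <;> fin_cases j <;> simp [Matrix.mul_apply, Fin.sum_univ_two]
    rw [map_mul, map_mul, map_inv, hw₀φ, hg₀, ← map_inv, ← map_mul, ← map_mul, e1]))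
  have hαδ : ∀ a, α (δ a) = δ (α a) := by
    intro a
    set k := w₀ * g₀ * w₀⁻¹ * g₀
    obtain ⟨γ, -, hγ⟩ := hscal k hwd
    have hact₁ : ∀ a : ↥L, g₀ * (a : G) * g₀⁻¹ = α a := fun a => by
      have := hact a 1
      simpa only [map_one, OneMemClass.coe_one, mul_one] using this
    have hact₂ : ∀ b : ↥L, g₀ * (j b : G) * g₀⁻¹ = j (δ b) := fun b => by
      have := hact 1 b
      simpa only [map_one, OneMemClass.coe_one, one_mul] using this
    have hwinv : w₀⁻¹ * (a : G) * w₀ = j a := by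
      conv_lhs => rw [← hwj a]
      group
    have hwinv' : ∀ b : ↥L, w₀⁻¹ * (b : G) * w₀ = j b := fun b => by
      conv_lhs => rw [← hwj b]
      group
    have hka : k * (a : G) * k⁻¹ = δ (α a) := by
      calc k * (a : G) * k⁻¹ = w₀ * (g₀ * (w₀⁻¹ * (g₀ * a * g₀⁻¹) * w₀) * g₀⁻¹) * w₀⁻¹ := by
            simp [k, mul_assoc]
        _ = _ := by rw [hact₁, hwinv', hact₂, hwj]
    have hk' : φ (g₀ * k * g₀⁻¹) = 1 := by rw [map_mul, map_mul, hwd, mul_one, map_inv, mul_inv_cancel]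
    have hkb : g₀ * k * g₀⁻¹ * (a : G) * (g₀ * k * g₀⁻¹)⁻¹ = α (δ a) := by
      calc g₀ * k * g₀⁻¹ * (a : G) * (g₀ * k * g₀⁻¹)⁻¹
          = g₀ * (w₀ * (g₀ * (w₀⁻¹ * a * w₀) * g₀⁻¹) * w₀⁻¹) * g₀⁻¹ := by simp [k, mul_assoc]
        _ = _ := by rw [hwinv, hact₂, hwj, hact₁]
    have hv : g₀⁻¹ * (a : G) * g₀ ∈ W := by simpa using hP.normal.conj_mem _ (hP.le a.2) g₀⁻¹
    have h5 := hcentral k hwd g₀ _ hv
    refine Subtype.ext ?_
    rw [← hka, ← hkb]
    calc g₀ * k * g₀⁻¹ * (a : G) * (g₀ * k * g₀⁻¹)⁻¹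
        = g₀ * k * (g₀⁻¹ * a * g₀) * (g₀ * k)⁻¹ := by group
      _ = k * g₀ * (g₀⁻¹ * a * g₀) * (k * g₀)⁻¹ := h5
      _ = _ := by group
  -- the field
  let f : F →+ AddMonoid.End (Additive ↥L) :=
    { toFun := fun t => MonoidHom.toAdditive ((σ t).comp j.toMonoidHom)
      map_zero' := by
        refine AddMonoidHom.ext fun x => ?_
        show Additive.ofMul (σ 0 (j x.toMul)) = (0 : Additive ↥L)
        refine congrArg Additive.ofMul (Subtype.ext ?_)
        show sl 0 * (j x.toMul : G) * (sl 0)⁻¹ * (j x.toMul : G)⁻¹ = 1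
        rw [← hsame 1 (one_mem _) 0 (by rw [uElt_zero, map_one, map_one]) _ (hL₁W (j x.toMul).2)]
        simp
      map_add' := fun s t => by
        refine AddMonoidHom.ext fun x => ?_
        show Additive.ofMul (σ (s + t) (j x.toMul)) =
          Additive.ofMul (σ s (j x.toMul) * σ t (j x.toMul))
        refine congrArg Additive.ofMul (Subtype.ext ?_)
        set b := x.toMul
        show sl (s + t) * (j b : G) * (sl (s + t))⁻¹ * (j b : G)⁻¹ = _
        rw [← hsame (sl s * sl t) (mul_mem (hslS s) (hslS t)) (s + t)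
          (by rw [map_mul, hslφ, hslφ, ← map_mul, CfsgLib.Classical.uElt_add]) _ (hL₁W (j b).2)]
        have h2 := hsl t 1 b
        have h3 := hsl s (σ t (j b)) b
        rw [one_mul, OneMemClass.coe_one, one_mul] at h2
        calc sl s * sl t * (j b : G) * (sl s * sl t)⁻¹ * (j b : G)⁻¹
            = sl s * (sl t * j b * (sl t)⁻¹) * (sl s)⁻¹ * (j b : G)⁻¹ := by group
          _ = _ := by rw [h2, h3, mul_inv_cancel_right, mul_comm (σ t (j b))] }
  have hf : ∀ t b, f t (Additive.ofMul b) = Additive.ofMul (σ t (j b)) := fun t b => rfl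
  have hf1 : f 1 = 1 := AddMonoidHom.ext fun x => congrArg Additive.ofMul (hσj x.toMul)
  have hgenF : ∀ c : F, c ≠ 0 → ∃ i : ℕ, c = (a₀ : F) ^ i := fun c hc => by
    obtain ⟨i, hi⟩ := (mem_powers_iff_mem_zpowers (x := a₀) (y := Units.mk0 c hc)).2 (ha₀ _)
    exact ⟨i, by rw [← Units.val_mk0 hc, ← hi, Units.val_pow_eq_pow_val]⟩
  have hmulf : ∀ x y, f (x * y) = f x * f y := by
    refine mul_of_twist f hf1 hgenF (α := MonoidHom.toAdditive α) (δ := MonoidHom.toAdditive δ) hδ ?_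
      fun x => ?_
    · exact AddMonoidHom.ext fun a => congrArg Additive.ofMul (hαδ a.toMul)
    · exact AddMonoidHom.ext fun b =>
        congrArg Additive.ofMul (key g₀ α δ hδ hact x _ (hdu x) b.toMul)
  -- the line is a copy of `F`
  obtain ⟨e₀, he₀⟩ : ∃ e₀ : Additive ↥L, e₀ ≠ 0 := by
    obtain ⟨x, hx⟩ := Subgroup.ne_bot_iff_exists_ne_one.1 (show L ≠ ⊥ from fun hb => by
      have h1 := hP.card_L
      rw [hb, card_bot] at h1
      exact h.one_lt_q.ne h1)
    exact ⟨Additive.ofMul x, fun e => hx (Additive.ofMul.injective (e.trans ofMul_one.symm))⟩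
  let ev : F →+ Additive ↥L := (AddMonoidHom.eval e₀).comp f
  have hev : ∀ t x, f t (ev x) = ev (t * x) := fun t x => by
    show f t (f x e₀) = f (t * x) e₀
    rw [hmulf]; rfl
  have hevb : Function.Bijective ev := by
    refine (Nat.bijective_iff_injective_and_card _).2 ⟨(injective_iff_map_eq_zero ev).2 fun t ht => ?_, ?_⟩
    · by_contra ht0
      refine he₀ ?_
      have h1 := hev t⁻¹ t
      rw [inv_mul_cancel₀ ht0, ht, map_zero] at h1
      have h2 : ev 1 = e₀ := by show f 1 e₀ = e₀; rw [hf1]; rfl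
      rw [← h2, ← h1]
    · rw [Nat.card_eq_fintype_card, h.card, Nat.card_congr Additive.toMul, hP.card_L]
  let inA : Additive ↥L →+ Additive ↥W := MonoidHom.toAdditive (Subgroup.inclusion hP.le)
  let inB : Additive ↥L →+ Additive ↥W :=
    MonoidHom.toAdditive ((Subgroup.inclusion hL₁W).comp j.toMonoidHom)
  let ιh : F × F →+ Additive ↥W := (inA.comp ev).coprod (inB.comp ev)
  have hιh : ∀ a b, ((ιh (a, b)).toMul : G) = ((ev a).toMul : G) * j (ev b).toMul := fun a b => rfl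
  have hιb : Function.Bijective ιh := by
    refine (Nat.bijective_iff_injective_and_card _).2 ⟨?_, ?_⟩
    · rintro ⟨a, b⟩ ⟨a', b'⟩ e
      have e1 := congrArg (fun x : Additive ↥W => (x.toMul : G)) e
      simp only [hιh] at e1
      obtain ⟨e2, e3⟩ := uniq _ _ _ _ e1
      rw [hevb.injective (Additive.toMul.injective e2), hevb.injective (Additive.toMul.injective e3)]
    · rw [Nat.card_prod, Nat.card_eq_fintype_card, h.card, Nat.card_congr Additive.toMul, hP.card_W, sq]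
  let ι : F × F ≃+ Additive ↥W := AddEquiv.ofBijective ιh hιb
  have hι : ∀ a b, ((ι (a, b)).toMul : G) = ((ev a).toMul : G) * j (ev b).toMul := hιh
  let act : G →* AddMonoid.End (Additive ↥W) :=
    { toFun := fun g => MonoidHom.toAdditive (MulAut.conjNormal (H := W) g).toMonoidHom
      map_one' := AddMonoidHom.ext fun v => congrArg Additive.ofMul
        (show MulAut.conjNormal (1 : G) v.toMul = v.toMul by rw [map_one]; rfl)
      map_mul' := fun g g' => AddMonoidHom.ext fun v => congrArg Additive.ofMul (by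
        simp [map_mul]; rfl) }
  have hactv : ∀ g v, ((act g v).toMul : G) = g * (v.toMul : G) * g⁻¹ := fun g v =>
    MulAut.conjNormal_apply g v.toMul
  have hev_f : ∀ t b, (ev (t * b)).toMul = σ t (j (ev b).toMul) := fun t b => by
    rw [← hev]; rfl
  obtain ⟨ρ, ψ, hsurj, hρφ, hρψ⟩ := exists_sl_rep act φ ι (U := (S : Subgroup G)) (w₀ := w₀)
    (top_le_iff.1 (hgen.ge.trans (sup_le le_sup_left (by
      rintro _ ⟨s, hs, rfl⟩
      exact mul_mem (mul_mem (mem_sup_right (mem_zpowers w₀)) (mem_sup_left hs))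
        (inv_mem (mem_sup_right (mem_zpowers w₀)))))))
    (fun s hs => by
      obtain ⟨_, ⟨t, rfl⟩, ht⟩ := hU.le (mem_map_of_mem φ hs)
      refine ⟨t, ht.symm, fun a b => Additive.toMul.injective (Subtype.ext ?_)⟩
      rw [hactv, hι, hι, hsame s hs t ht.symm _
        (mul_mem (hP.le (ev a).toMul.2) (hL₁W (j (ev b).toMul).2)), hsl, map_add, toMul_add, hev_f])
    (fun t => ⟨sl t, hslS t, hslφ t⟩) hw₀φ
    (fun a b => Additive.toMul.injective (Subtype.ext (by
      rw [hactv, hι, hι, hw, map_neg, toMul_neg])))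
  refine ⟨ρ, ψ, hsurj, hρφ, ?_, fun g v v' hvv' => ?_⟩
  · ext g
    constructor
    · intro hg v hv
      have h1 := hρψ g (Additive.ofMul ⟨v, hv⟩)
      rw [MonoidHom.mem_ker.1 hg, Matrix.SpecialLinearGroup.coe_one, Matrix.one_mulVec] at h1
      have h2 := congrArg (fun x : Additive ↥W => (x.toMul : G)) (ψ.injective h1)
      simp only [hactv, toMul_ofMul] at h2
      rw [mul_inv_eq_iff_eq_mul] at h2
      exact h2.symm
    · intro hg
      refine MonoidHom.mem_ker.2 (sl_ext (Matrix.ext_iff_mulVec.2 fun x => ?_))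
      have h1 := hρψ g (ψ.symm x)
      rw [ψ.apply_symm_apply] at h1
      rw [Matrix.SpecialLinearGroup.coe_one, Matrix.one_mulVec, ← h1,
        show act g (ψ.symm x) = ψ.symm x from Additive.toMul.injective (Subtype.ext (by
          rw [hactv, ← hg _ (ψ.symm x).toMul.2, mul_inv_cancel_right])), ψ.apply_symm_apply]
  · rw [← hρψ]
    exact congrArg ψ (Additive.toMul.injective (Subtype.ext (by rw [hactv]; exact hvv')))

end Pre

end CfsgLib.ClassK.Push
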