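import Cfsg.Agent.Lib.ClassK.PushFinal
import Cfsg.Agent.Lib.Transfer.AbelianSylow
import Cfsg.Agent.Lib.Classical.SpSimple

/-!
A maximal `p`-local subgroup that cannot be pushed up is `Qd(q)` times an elementary abelian group
for `p ≥ 5`.
-/

set_option autoImplicit false
set_option linter.style.haveILetI false
set_option linter.unusedSectionVars false
set_option maxHeartbeats 1000000

namespace CfsgLib.ClassK.Push

open Subgroup
open scoped MatrixGroups Pointwise commutatorElement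

section Local

variable {H : Type*} [Group H] [Finite H] {p : ℕ} [Fact p.Prime] {G : Subgroup H}

/-- The automorphism of a subgroup `S` of `G ≤ H` induced by an element of `H` normalizing it. -/
noncomputable def normalizerAut (S : Subgroup ↥G) (h : H)
    (hh : h ∈ normalizer ((S.map G.subtype : Subgroup H) : Set H)) : MulAut ↥S :=
  ((S.equivMapOfInjective G.subtype G.subtype_injective).trans
    ((MulEquiv.subgroupMap (MulAut.conj h) (S.map G.subtype)).trans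
      (MulEquiv.subgroupCongr (CfsgLib.Comp.map_conj_eq_iff.2 hh)))).trans
    (S.equivMapOfInjective G.subtype G.subtype_injective).symm

theorem normalizerAut_apply (S : Subgroup ↥G) (h : H)
    (hh : h ∈ normalizer ((S.map G.subtype : Subgroup H) : Set H)) (s : ↥S) :
    (((normalizerAut S h hh s : ↥S) : ↥G) : H) = h * ((s : ↥G) : H) * h⁻¹ := by
  set e := S.equivMapOfInjective G.subtype G.subtype_injective
  have h1 : ∀ t : ↥S, ((e t : ↥(S.map G.subtype)) : H) = ((t : ↥G) : H) := fun t => rfl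
  rw [← h1, normalizerAut, MulEquiv.trans_apply, MulEquiv.apply_symm_apply]
  rfl

/-- No nontrivial characteristic subgroup of `S` is normal in a maximal local subgroup not
containing the normalizer of `S`. -/
theorem noChar_of_maximal_local (S : Sylow p ↥G)
    (hmax : ∀ R : Subgroup H, IsPGroup p ↥R → R ≠ ⊥ → G ≤ normalizer (R : Set H) →
      normalizer (R : Set H) = G)
    (hN : ¬ normalizer (((S : Subgroup ↥G).map G.subtype : Subgroup H) : Set H) ≤ G) :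
    NoChar S := by
  intro T hT hchar hn
  set R := (T.map (S : Subgroup ↥G).subtype).map G.subtype with hR
  refine hN ?_
  have hGR : G ≤ normalizer (R : Set H) := by
    have := Subgroup.map_mono (f := G.subtype) (normalizer_eq_top_iff.2 hn).ge
    rw [← MonoidHom.range_eq_map, range_subtype] at this
    exact this.trans (Subgroup.le_normalizer_map G.subtype)
  have hRp : IsPGroup p R := (S.isPGroup'.to_le (map_subtype_le T)).map _
  have hRne : R ≠ ⊥ := by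
    rwa [hR, Ne, map_eq_bot_iff_of_injective _ G.subtype_injective,
      map_eq_bot_iff_of_injective _ (S : Subgroup ↥G).subtype_injective]
  refine le_of_le_of_eq (fun x hx => cj_le_normalizer_iff ?_) (hmax R hRp hRne hGR)
  rintro _ ⟨_, ⟨_, ⟨t, ht, rfl⟩, rfl⟩, rfl⟩
  refine ⟨_, ⟨normalizerAut (S : Subgroup ↥G) x hx t, ?_, rfl⟩, ?_⟩
  · exact (characteristic_iff_map_eq.1 hchar (normalizerAut (S : Subgroup ↥G) x hx)).le
      (mem_map_of_mem _ ht)
  · exact normalizerAut_apply _ x hx t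

variable {F : Type*} [Field F] [Fintype F] {n : ℕ} {S : Sylow p ↥G} {M : Subgroup ↥G}
  {φ : ↥G →* Matrix.ProjectiveSpecialLinearGroup (Fin 2) F}

/-- A conjugate of the module under the normalizer of `S` leaves `O_p`. -/
theorem exists_autImg_not_le (h : Sit (F := F) S M φ n)
    (hmax : ∀ R : Subgroup H, IsPGroup p ↥R → R ≠ ⊥ → G ≤ normalizer (R : Set H) →
      normalizer (R : Set H) = G)
    (hN : ¬ normalizer (((S : Subgroup ↥G).map G.subtype : Subgroup H) : Set H) ≤ G)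
    {V : Subgroup ↥G} (hD : Datum p (S : Subgroup ↥G) (Cfsg.pCore p ↥G) V (p ^ n))
    (hLQ : ∀ x ∈ Cfsg.pResidual p ↥G, ∀ y ∈ Cfsg.pCore p ↥G, ⁅y, x⁆ ∈ V) :
    ∃ (g : H) (hg : g ∈ normalizer (((S : Subgroup ↥G).map G.subtype : Subgroup H) : Set H)),
      ¬ autImg (S : Subgroup ↥G) V (normalizerAut (S : Subgroup ↥G) g hg) ≤ Cfsg.pCore p ↥G := by
  by_contra! hall
  set NS := normalizer (((S : Subgroup ↥G).map G.subtype : Subgroup H) : Set H) with hNS
  set X : Set ↥G := {x | ∃ g ∈ NS, ∃ v ∈ V, (x : H) = g * (v : H) * g⁻¹} with hX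
  set W := closure X with hW
  have hXQ : X ⊆ Cfsg.pCore p ↥G := by
    rintro x ⟨g, hg, v, hv, hx⟩
    refine hall g hg ?_
    refine (hD.mem_autImg (normalizerAut (S : Subgroup ↥G) g hg)).2
      ⟨⟨v, hD.Q_le (hD.V_le hv)⟩, hv, Subtype.ext ?_⟩
    rw [normalizerAut_apply, hx]
  have hVW : V ≤ W := fun v hv => subset_closure ⟨1, one_mem _, v, hv, by simp⟩
  have hWQ : W ≤ Cfsg.pCore p ↥G := (closure_le _).2 hXQ
  haveI hWn : W.Normal := by
    refine normalizer_eq_top_iff.1 (top_le_iff.1 ((CfsgLib.Transfer.pResidual_sup_sylow S).ge.trans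
      (sup_le (fun x hx => cj_le_normalizer_iff ?_) fun s hs => cj_le_normalizer_iff ?_)))
    · rintro _ ⟨w, hw, rfl⟩
      show x * w * x⁻¹ ∈ W
      have h1 := hVW (hLQ x hx w (hWQ hw))
      rw [show x * w * x⁻¹ = ⁅w, x⁆⁻¹ * w by simp [commutatorElement_def, mul_assoc]]
      exact mul_mem (inv_mem h1) hw
    · show W.map _ ≤ W
      rw [hW, MonoidHom.map_closure, closure_le]
      rintro _ ⟨x, ⟨g, hg, v, hv, hx⟩, rfl⟩
      refine subset_closure ⟨(s : H) * g, mul_mem (Subgroup.le_normalizer ⟨s, hs, rfl⟩) hg, v, hv, ?_⟩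
      show (s : H) * (x : H) * (s : H)⁻¹ = (s : H) * g * (v : H) * ((s : H) * g)⁻¹
      rw [hx]; group
  set R := W.map G.subtype with hR
  have hGR : G ≤ normalizer (R : Set H) := by
    have := Subgroup.map_mono (f := G.subtype) (normalizer_eq_top_iff.2 hWn).ge
    rw [← MonoidHom.range_eq_map, range_subtype] at this
    exact this.trans (Subgroup.le_normalizer_map G.subtype)
  have hRp : IsPGroup p R := (CfsgLib.Amalgam.isPGroup_pCore.to_le hWQ).map _
  have hRne : R ≠ ⊥ := by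
    rw [hR, Ne, map_eq_bot_iff_of_injective _ G.subtype_injective]
    intro hb
    exact hD.not_central ((hD.center_le.trans hVW).trans (hb.le.trans bot_le))
  refine hN (le_of_le_of_eq (fun x hx => cj_le_normalizer_iff ?_) (hmax R hRp hRne hGR))
  show R.map _ ≤ R
  rw [hR, hW, MonoidHom.map_closure, MonoidHom.map_closure, closure_le]
  rintro _ ⟨_, ⟨y, ⟨g, hg, v, hv, hy⟩, rfl⟩, rfl⟩
  have hxg : x * g ∈ NS := mul_mem hx hg
  have hmem : x * g * ((v : ↥G) : H) * (x * g)⁻¹ ∈ G := by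
    obtain ⟨u, -, hu⟩ := (mem_normalizer_iff.1 hxg ((v : ↥G) : H)).1
      ⟨v, hD.Q_le (hD.V_le hv), rfl⟩
    rw [← hu]; exact u.2
  refine subset_closure ⟨⟨_, hmem⟩, ⟨_, hxg, v, hv, rfl⟩, ?_⟩
  show x * g * ((v : ↥G) : H) * (x * g)⁻¹ = x * (y : H) * x⁻¹
  rw [hy]; group

/-- The derived group of `C_{O_p}(A)` is trivial for such a conjugate `A` of the module. -/
theorem commutator_eq_one_of_autImg (h : Sit (F := F) S M φ n)
    (hmax : ∀ R : Subgroup H, IsPGroup p ↥R → R ≠ ⊥ → G ≤ normalizer (R : Set H) →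
      normalizer (R : Set H) = G)
    {V : Subgroup ↥G} (hD : Datum p (S : Subgroup ↥G) (Cfsg.pCore p ↥G) V (p ^ n))
    (hlcs : (S : Subgroup ↥G).lowerCentralSeries 2 = ⊥) {g : H}
    (hg : g ∈ normalizer (((S : Subgroup ↥G).map G.subtype : Subgroup H) : Set H))
    (hgQ : ¬ autImg (S : Subgroup ↥G) V (normalizerAut (S : Subgroup ↥G) g hg) ≤ Cfsg.pCore p ↥G) :
    ∀ d ∈ Cfsg.pCore p ↥G ⊓
        centralizer (autImg (S : Subgroup ↥G) V (normalizerAut (S : Subgroup ↥G) g hg) : Set ↥G),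
      ∀ e ∈ Cfsg.pCore p ↥G ⊓
        centralizer (autImg (S : Subgroup ↥G) V (normalizerAut (S : Subgroup ↥G) g hg) : Set ↥G),
        ⁅d, e⁆ = 1 := by
  haveI := hD.Q_normal
  set Q := Cfsg.pCore p ↥G with hQdef
  set γ := normalizerAut (S : Subgroup ↥G) g hg
  -- the preimages lie in `O_p`
  have hpre : ∀ d ∈ Q ⊓ centralizer (autImg (S : Subgroup ↥G) V γ : Set ↥G),
      ∃ d₀ : ↥(S : Subgroup ↥G), (d₀ : ↥G) ∈ Q ∧ (γ d₀ : ↥G) = d := by
    rintro d ⟨hdQ, hdc⟩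
    obtain ⟨d₀, hd₀⟩ := γ.surjective ⟨d, hD.Q_le hdQ⟩
    refine ⟨d₀, ?_, congrArg Subtype.val hd₀⟩
    by_contra hd₀Q
    have hVZ : V ≤ zOf (S : Subgroup ↥G) := fun v hv => by
      refine hD.fix d₀ d₀.2 hd₀Q ⟨hv, mem_centralizer_singleton_iff.2 ?_⟩
      set w : ↥(S : Subgroup ↥G) := ⟨v, hD.Q_le (hD.V_le hv)⟩
      have h1 : (γ w : ↥G) * d = d * (γ w : ↥G) := hdc _ ((hD.mem_autImg γ).2 ⟨w, hv, rfl⟩)
      have h2 : γ (w * d₀) = γ (d₀ * w) := Subtype.ext (by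
        rw [map_mul, map_mul, Subgroup.coe_mul, Subgroup.coe_mul, hd₀]; exact h1)
      exact congrArg Subtype.val (γ.injective h2)
    have := hD.relV
    rw [relIndex_eq_one.2 hVZ] at this
    exact hD.one_lt.ne this
  have hQcen : ⁅Q, Q⁆ ≤ center ↥G := by
    have hScen : (S : Subgroup ↥G) ≤ centralizer ((⁅Q, Q⁆ : Subgroup ↥G) : Set ↥G) := fun s hs y hy =>
      commutatorElement_eq_one_iff_mul_comm.1 (mem_bot.1 (hlcs ▸ (by
        rw [Subgroup.lowerCentralSeries_succ, Subgroup.lowerCentralSeries_succ, Subgroup.lowerCentralSeries_zero]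
        exact commutator_mem_commutator (commutator_mono hD.Q_le hD.Q_le hy) hs)))
    obtain ⟨a, ha, ha1⟩ := h.toPre.exists_not_ker
    have hL := h.residual_le_of_not_le_ker (centralizer ((⁅Q, Q⁆ : Subgroup ↥G) : Set ↥G)) ha (hScen ha) ha1
    intro y hy
    exact mem_center_iff.2 fun z => ((sup_le hL hScen)
      ((CfsgLib.Transfer.pResidual_sup_sylow S).ge (mem_top z)) y hy).symm
  intro d hd e he
  obtain ⟨d₀, hd₀, rfl⟩ := hpre d hd
  obtain ⟨e₀, he₀, rfl⟩ := hpre e he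
  by_contra hne
  set c := ⁅(γ d₀ : ↥G), (γ e₀ : ↥G)⁆
  set c₀ := ⁅(d₀ : ↥G), (e₀ : ↥G)⁆
  have hcc : (c : H) = g * (c₀ : H) * g⁻¹ := by
    have e1 : c = ((γ ⁅d₀, e₀⁆ : ↥(S : Subgroup ↥G)) : ↥G) := by rw [map_commutatorElement]; rfl
    rw [e1, normalizerAut_apply]; rfl
  have hc : c ∈ center ↥G := hQcen (commutator_mem_commutator hd.1 he.1)
  have hc₀ : c₀ ∈ center ↥G := hQcen (commutator_mem_commutator hd₀ he₀)
  have hcQ : c ∈ Q := commutator_le_self Q (commutator_mem_commutator hd.1 he.1)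
  set R := (zpowers c).map G.subtype with hR
  have hRp : IsPGroup p R := (CfsgLib.Amalgam.isPGroup_pCore.to_le (zpowers_le.2 hcQ)).map _
  have hRne : R ≠ ⊥ := by
    rw [hR, Ne, map_eq_bot_iff_of_injective _ G.subtype_injective, zpowers_eq_bot]
    exact hne
  have hfix : ∀ y : H, y * (c : H) = (c : H) * y → y ∈ normalizer (R : Set H) := by
    intro y hy
    rw [hR, MonoidHom.map_zpowers]
    refine centralizer_le_normalizer _ ?_
    rintro z ⟨k, rfl⟩
    exact ((show Commute y (c : H) from hy).zpow_right k).eq.symm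
  have hNR : normalizer (R : Set H) = G := hmax R hRp hRne fun y hy =>
    hfix y (congrArg Subtype.val (mem_center_iff.1 hc ⟨y, hy⟩))
  have hgG : ∀ y : ↥G, g * (y : H) * g⁻¹ ∈ G := by
    intro y
    refine hNR.le (hfix _ ?_)
    have h1 : (y : H) * (c₀ : H) = (c₀ : H) * y := congrArg Subtype.val (mem_center_iff.1 hc₀ y)
    rw [hcc, show g * (y : H) * g⁻¹ * (g * (c₀ : H) * g⁻¹) = g * ((y : H) * c₀) * g⁻¹ by group, h1]
    group
  let ψ : ↥G →* ↥G :=
    { toFun := fun y => ⟨_, hgG y⟩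
      map_one' := Subtype.ext (by simp)
      map_mul' := fun a b => Subtype.ext (by simp [mul_assoc]) }
  have hψ : Function.Surjective ψ := Finite.injective_iff_surjective.1 fun a b hab => Subtype.ext
    (mul_left_cancel (mul_right_cancel (show g * (a : H) * g⁻¹ = g * (b : H) * g⁻¹ from
      congrArg Subtype.val hab)))
  have hψQ : Q.map ψ ≤ Q := CfsgLib.Amalgam.le_pCore (Subgroup.Normal.map hD.Q_normal _ hψ)
    (CfsgLib.Amalgam.isPGroup_pCore.map _)
  refine hgQ fun x hx => ?_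
  obtain ⟨w, hw, rfl⟩ := (hD.mem_autImg γ).1 hx
  exact hψQ ⟨(w : ↥G), hD.V_le hw, Subtype.ext (normalizerAut_apply _ g hg w).symm⟩

end Local

section Split

variable {G : Type*} [Group G] [Finite G] {p n : ℕ} [Fact p.Prime] {F : Type} [Field F] [Fintype F]
  {S : Sylow p G} {M : Subgroup G} {φ : G →* Matrix.ProjectiveSpecialLinearGroup (Fin 2) F}

/-- `G = Qd(q) × C` when an image of the module leaves `O_p`, `O^p` is trivial on `O_p/V` and the
prime is at least five. -/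
theorem exists_qd_split (h : Sit (F := F) S M φ n) (hp : 5 ≤ p) {V : Subgroup G} {ρ : G →* SL(2, F)}
    (hD : Datum p (S : Subgroup G) (Cfsg.pCore p G) V (p ^ n)) (hker : ρ.ker = Cfsg.pCore p G)
    (hn : Natural ρ V (V ⊓ center G))
    (hLQ : ∀ x ∈ Cfsg.pResidual p G, ∀ y ∈ Cfsg.pCore p G, ⁅y, x⁆ ∈ V)
    (hexp : ∀ s ∈ (S : Subgroup G), s ^ p = 1) {γ : MulAut ↥(S : Subgroup G)}
    (hγ : ¬ autImg (S : Subgroup G) V γ ≤ Cfsg.pCore p G)
    (hQ' : ∀ d ∈ Cfsg.pCore p G ⊓ centralizer (autImg (S : Subgroup G) V γ : Set G),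
      ∀ e ∈ Cfsg.pCore p G ⊓ centralizer (autImg (S : Subgroup G) V γ : Set G), ⁅d, e⁆ = 1) :
    ∃ G₀ C : Subgroup G, (∀ a ∈ G₀, ∀ b ∈ C, a * b = b * a) ∧ G₀ ⊓ C = ⊥ ∧ G₀ ⊔ C = ⊤ ∧
      C ≤ center G ∧ (∀ c ∈ C, c ^ p = 1) ∧ Nonempty (↥G₀ ≃* ↥(Cfsg.qdOver F)) := by
  haveI := charP_of_card (F := F) h.card
  haveI := hD.Q_normal
  haveI := hD.V_normal
  have hpp : p.Prime := Fact.out
  have hq5 : 5 ≤ p ^ n := hp.trans (Nat.le_self_pow (by have := h.one_le; omega) p)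
  obtain ⟨m, hm⟩ := hpp.odd_of_ne_two (by omega)
  set Q := Cfsg.pCore p G with hQdef
  set C := V ⊓ center G with hC
  set A := autImg (S : Subgroup G) V γ with hA
  have hAS : A ≤ (S : Subgroup G) := map_subtype_le _
  have hexpQ : ∀ y ∈ Q, y ^ p = 1 := fun y hy => hexp y (hD.Q_le hy)
  -- the involution
  obtain ⟨t₀, ht₀⟩ := hn.surj (-1 : SL(2, F))
  set t := t₀ ^ p with htdef
  have hρt : ρ t = -1 := by rw [htdef, map_pow, ht₀, Odd.neg_one_pow ⟨m, hm⟩]
  have ht2 : t * t = 1 := by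
    rw [htdef, ← (Commute.refl t₀).mul_pow]
    refine hexpQ _ ?_
    rw [← hker, MonoidHom.mem_ker, map_mul, ht₀, neg_one_mul, neg_neg]
  have htinv : t⁻¹ = t := inv_eq_of_mul_eq_one_right ht2
  have htL : t ∈ Cfsg.pResidual p G := by
    refine CfsgLib.Transfer.mem_pResidual_of_coprime (Nat.Coprime.coprime_dvd_left
      (orderOf_dvd_of_pow_eq_one (show t ^ 2 = 1 by rw [sq, ht2])) ?_)
    exact (Nat.coprime_primes Nat.prime_two hpp).2 (by omega)
  -- square roots in `O_p`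
  have hroot : ∀ y ∈ Q, t * y * t = y⁻¹ → y ^ (m + 1) * t * (y ^ (m + 1))⁻¹ = y * t := by
    intro y hy hty
    have h1 : y ^ (m + 1) * y ^ (m + 1) = y := by
      rw [← pow_add, show m + 1 + (m + 1) = p + 1 by omega, pow_succ, hexpQ y hy, one_mul]
    have h2 : t * (y ^ (m + 1))⁻¹ * t = y ^ (m + 1) := by
      have h3 := conj_pow (i := m + 1) (a := t) (b := y⁻¹)
      rw [htinv, show t * y⁻¹ * t = y by
        rw [← hty, show t * (t * y * t) * t = (t * t) * y * (t * t) by group, ht2, one_mul, mul_one]] at h3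
      rw [← inv_pow]; exact h3.symm
    calc y ^ (m + 1) * t * (y ^ (m + 1))⁻¹ = y ^ (m + 1) * (t * (y ^ (m + 1))⁻¹ * t) * t⁻¹ := by group
      _ = _ := by rw [h2, h1, htinv]
  set H₀ := centralizer ({t} : Set G) with hH₀
  have hH₀m : ∀ {x : G}, x ∈ H₀ ↔ x * t = t * x := fun {x} => mem_centralizer_singleton_iff
  -- `V₁`: the elements of `V` inverted by `t`
  let V₁ : Subgroup G :=
    { carrier := {v | v ∈ V ∧ t * v * t = v⁻¹}
      one_mem' := ⟨one_mem V, by rw [mul_one, ht2, inv_one]⟩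
      mul_mem' := fun {a b} ha hb => ⟨mul_mem ha.1 hb.1, by
        rw [show t * (a * b) * t = (t * a * t⁻¹) * (t * b * t) by group, htinv, ha.2, hb.2,
          ← mul_inv_rev, (hD.V_ab ha.1 hb.1).eq]⟩
      inv_mem' := fun {a} ha => ⟨inv_mem ha.1, by
        rw [show t * a⁻¹ * t = (t⁻¹ * a * t⁻¹)⁻¹ by group, htinv, ha.2]⟩ }
  have hV₁V : V₁ ≤ V := fun v hv => hv.1
  have hV₁H : V₁ ⊓ H₀ = ⊥ := by
    rw [eq_bot_iff]
    rintro v ⟨⟨hvV, hv⟩, hvH⟩
    have h2 : v = v⁻¹ := by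
      rw [← hv, ← hH₀m.1 hvH, mul_assoc, ht2, mul_one]
    have h3 : v ^ 2 = 1 := by rw [sq]; nth_rewrite 2 [h2]; rw [mul_inv_cancel]
    rw [mem_bot]
    have := hexpQ v (hD.V_le hvV)
    rwa [show p = 2 * m + 1 by omega, pow_succ, pow_mul, h3, one_pow, one_mul] at this
  -- `O_p = V₁ C_{O_p}(t)`
  have hQsplit : ∀ y ∈ Q, ∃ v ∈ V₁, ∃ r ∈ Q ⊓ H₀, v * r = y := by
    intro y hy
    set w := ⁅y, t⁆ with hw
    have hwV : w ∈ V := hLQ t htL y hy
    have htw : t * w * t = w⁻¹ := by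
      simp [w, commutatorElement_def, htinv, mul_assoc, ht2]
    have hv : w ^ (m + 1) ∈ V₁ := pow_mem (show w ∈ V₁ from ⟨hwV, htw⟩) _
    refine ⟨_, hv, (w ^ (m + 1))⁻¹ * y, ⟨Q.mul_mem (Q.inv_mem (hD.V_le hv.1)) hy, hH₀m.2 ?_⟩,
      mul_inv_cancel_left _ _⟩
    have h1 := hroot w (hD.V_le hwV) htw
    have h2 : y * t = w * t * y := by simp [w, commutatorElement_def, mul_assoc]
    calc (w ^ (m + 1))⁻¹ * y * t = (w ^ (m + 1))⁻¹ * (w * t) * y := by
          rw [mul_assoc, h2]; group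
      _ = t * (w ^ (m + 1))⁻¹ * y := by rw [← h1]; group
      _ = _ := by group
  -- `G = O_p C(t)`
  have hGsplit : ∀ x : G, ∃ v ∈ V₁, ∃ c ∈ H₀, v * c = x := by
    intro x
    set t' := x * t * x⁻¹
    have hρt' : ρ t' = -1 := by
      show ρ (x * t * x⁻¹) = -1
      rw [map_mul, map_mul, hρt, map_inv, mul_neg, mul_one, neg_mul, mul_inv_cancel]
    set y := t' * t
    have hy : y ∈ Q := by
      rw [← hker, MonoidHom.mem_ker]
      show ρ (t' * t) = 1
      rw [map_mul, hρt', hρt, neg_one_mul, neg_neg]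
    have hty : t * y * t = y⁻¹ := by
      have ht' : t'⁻¹ = t' := by
        show (x * t * x⁻¹)⁻¹ = x * t * x⁻¹
        rw [mul_inv_rev, mul_inv_rev, inv_inv, htinv, mul_assoc]
      show t * (t' * t) * t = (t' * t)⁻¹
      rw [mul_inv_rev, ht', htinv, mul_assoc t (t' * t) t, mul_assoc t' t t, ht2, mul_one]
    have hq := hroot y hy hty
    set q := y ^ (m + 1)
    have hqQ : q ∈ Q := pow_mem hy _
    obtain ⟨v, hv, r, hr, hvr⟩ := hQsplit q hqQ
    refine ⟨v, hv, r * (q⁻¹ * x), mul_mem hr.2 (hH₀m.2 ?_), by rw [← mul_assoc, hvr, mul_inv_cancel_left]⟩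
    have h1 : y * t = x * t * x⁻¹ := by
      show t' * t * t = _
      rw [mul_assoc, ht2, mul_one]
    calc q⁻¹ * x * t = q⁻¹ * (x * t * x⁻¹) * x := by group
      _ = q⁻¹ * (q * t * q⁻¹) * x := by rw [← h1, ← hq]
      _ = _ := by group
  haveI hV₁n : V₁.Normal := by
    refine ⟨fun a ha x => ?_⟩
    obtain ⟨v, hv, c, hc, rfl⟩ := hGsplit x
    have h1 : c * a * c⁻¹ ∈ V₁ := ⟨hD.V_normal.conj_mem a ha.1 c, by
      calc t * (c * a * c⁻¹) * t = (t * c) * a * (c⁻¹ * t) := by group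
        _ = (c * t) * a * (t * c⁻¹) := by
            rw [hH₀m.1 hc, (show Commute c t from hH₀m.1 hc).inv_left.eq]
        _ = c * (t * a * t) * c⁻¹ := by group
        _ = _ := by rw [ha.2]; group⟩
    rw [show v * c * a * (v * c)⁻¹ = v * (c * a * c⁻¹) * v⁻¹ by group]
    exact mul_mem (mul_mem hv h1) (inv_mem hv)
  -- `C_{O_p}(t)` is central
  obtain ⟨hVC, hSAQ⟩ := Sit.autImg_covers hD hγ
  obtain ⟨a₀, ha₀, ha₀Q⟩ := SetLike.not_le_iff_exists.1 hγ
  have hQsplitA : ∀ y ∈ Q, ∃ v ∈ V, ∃ d ∈ Q ⊓ centralizer (A : Set G), v * d = y := by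
    intro y hy
    obtain ⟨v, hv, d, hd', rfl⟩ := mem_sup_of_normal_left.1 (hVC (hD.Q_le hy))
    exact ⟨v, hv, d, ⟨by simpa using Q.mul_mem (Q.inv_mem (hD.V_le hv)) hy, hd'.2⟩, rfl⟩
  have hQab : ∀ y ∈ Q, ∀ y' ∈ Q, Commute y y' := by
    intro y hy y' hy'
    obtain ⟨v, hv, d, hd', rfl⟩ := hQsplitA y hy
    obtain ⟨v', hv', d', hd'', rfl⟩ := hQsplitA y' hy'
    have h1 : ∀ {a b : G}, a ∈ V → b ∈ Q → Commute a b := fun ha hb => (hD.V_cent ha _ hb).symm
    have h2 : Commute d d' := commutatorElement_eq_one_iff_commute.1 (hQ' d hd' d' hd'')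
    exact ((h1 hv hy').mul_left (((h1 hv' hd'.1).symm).mul_right h2))
  set R := Q ⊓ H₀ with hRdef
  have hRV : ∀ r ∈ R, ∀ a ∈ A, Commute r a := by
    intro r hr a ha
    obtain ⟨v, hv, d, hd', rfl⟩ := hQsplitA r hr.1
    refine Commute.mul_left (commutatorElement_eq_one_iff_commute.1 ?_) (hd'.2 a ha).symm
    refine hD.comm_fix v hv a (hAS ha) ?_
    have hda : Commute d a := (hd'.2 a ha).symm
    have e1 : ⁅v, a⁆ = ⁅v * d, a⁆ := by
      rw [commutatorElement_mul_left', commutatorElement_eq_one_iff_commute.2 hda, mul_one,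
        mul_inv_cancel, one_mul]
    obtain ⟨w, hw, c, hc, hwc⟩ := hGsplit a
    have e2 : ⁅v * d, a⁆ = ⁅v * d, c⁆ := by
      have hcQ : ⁅v * d, c⁆ ∈ Q := by
        rw [show ⁅v * d, c⁆ = (v * d) * (c * (v * d)⁻¹ * c⁻¹) by
          simp [commutatorElement_def, mul_assoc]]
        exact mul_mem hr.1 (hD.Q_normal.conj_mem _ (inv_mem hr.1) c)
      rw [← hwc, commutatorElement_mul_right',
        commutatorElement_eq_one_iff_commute.2 (hQab _ hr.1 w (hD.V_le hw.1)), one_mul,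
        (hQab w (hD.V_le hw.1) _ hcQ).eq, mul_inv_cancel_right]
    have hmemH : ⁅v * d, c⁆ ∈ H₀ := mul_mem (mul_mem (mul_mem hr.2 hc) (inv_mem hr.2)) (inv_mem hc)
    have hVm : ⁅v, a⁆ ∈ V := hD.center_le (hD.comm_mem v hv a (hAS ha))
    -- fixed points of `t` in `V` are central
    set z := ⁅v, a⁆ with hz
    have hzH : z ∈ H₀ := by
      rw [show z = ⁅v * d, c⁆ from e1.trans e2]
      exact hmemH
    obtain ⟨θ, hθ, hθk, hθe⟩ := hn.rep
    have hzc : θ ⟨z, hVm⟩ = 1 := by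
      have h3 := hθe t ⟨z, hVm⟩ ⟨z, hVm⟩ (by
        show z = t * z * t⁻¹
        rw [← hH₀m.1 hzH, mul_inv_cancel_right])
      rw [hρt, Matrix.SpecialLinearGroup.coe_neg, Matrix.SpecialLinearGroup.coe_one, Matrix.neg_mulVec,
        Matrix.one_mulVec] at h3
      refine Multiplicative.toAdd.injective ?_
      funext j
      have h4 := congrFun h3 j
      simp only [Pi.neg_apply] at h4
      have h2 : (2 : F) ≠ 0 := by
        intro h0
        have h5 : ((2 : ℕ) : F) = 0 := by exact_mod_cast h0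
        rw [CharP.cast_eq_zero_iff F p] at h5
        have := Nat.le_of_dvd (by norm_num) h5
        omega
      have h6 : (2 : F) * (θ ⟨z, hVm⟩).toAdd j = 0 := by linear_combination h4
      simpa using (mul_eq_zero.1 h6).resolve_left h2
    have : (⟨z, hVm⟩ : ↥V) ∈ θ.ker := hzc
    rw [hθk, mem_subgroupOf] at this
    exact this.2
  set CR := centralizer (R : Set G) with hCR
  have hQCR : Q ≤ CR := fun y hy r hr => (hQab r hr.1 y hy).eq
  haveI hRn : R.Normal := by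
    refine ⟨fun r hr x => ?_⟩
    obtain ⟨v, hv, c, hc, rfl⟩ := hGsplit x
    have h1 : c * r * c⁻¹ ∈ R :=
      ⟨hD.Q_normal.conj_mem r hr.1 c, H₀.mul_mem (H₀.mul_mem hc hr.2) (H₀.inv_mem hc)⟩
    rw [show v * c * r * (v * c)⁻¹ = v * (c * r * c⁻¹) * v⁻¹ by group,
      (hQab v (hD.V_le hv.1) _ h1.1).eq, mul_inv_cancel_right]
    exact h1
  haveI : CR.Normal := inferInstance
  have hcenSL : ∀ Y : SL(2, F), Y ∈ center SL(2, F) → Y = 1 ∨ Y = -1 := by
    intro Y hY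
    obtain ⟨r, hr2, hr⟩ := Matrix.SpecialLinearGroup.mem_center_iff.1 hY
    rw [Fintype.card_fin] at hr2
    rcases sq_eq_one_iff.1 hr2 with rfl | rfl
    · exact Or.inl (sl_ext (by rw [← hr, map_one, Matrix.SpecialLinearGroup.coe_one]))
    · exact Or.inr (sl_ext (by
        rw [← hr, map_neg, map_one, Matrix.SpecialLinearGroup.coe_neg, Matrix.SpecialLinearGroup.coe_one]))
  have hfour : 4 ≤ Fintype.card F := by rw [h.card]; omega
  have hRc : R ≤ center G := by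
    haveI : IsSimpleGroup (Matrix.ProjectiveSpecialLinearGroup (Fin 2) F) :=
      isSimpleGroup_psl_two (F := F) hfour
    set χ : G →* Matrix.ProjectiveSpecialLinearGroup (Fin 2) F :=
      (QuotientGroup.mk' (center SL(2, F))).comp ρ
    have hχ : Function.Surjective χ := (QuotientGroup.mk'_surjective _).comp hn.surj
    have hkerCR : ∀ x, χ x = 1 → x ∈ CR := by
      intro x hx
      rcases hcenSL _ ((QuotientGroup.eq_one_iff _).1 hx) with hx1 | hx1
      · exact hQCR (hker.le hx1)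
      · have h2 : t * x ∈ Q := by
          rw [← hker, MonoidHom.mem_ker, map_mul, hρt, hx1, neg_one_mul, neg_neg]
        rw [show x = t * (t * x) by rw [← mul_assoc, ht2, one_mul]]
        exact mul_mem (fun r hr => hH₀m.1 hr.2) (hQCR h2)
    haveI : (CR.map χ).Normal := Subgroup.Normal.map inferInstance _ hχ
    have htop : CR.map χ = ⊤ := by
      refine (Subgroup.Normal.eq_bot_or_eq_top (inferInstance : (CR.map χ).Normal)).resolve_left fun hb => ?_
      have h1 : χ a₀ = 1 := MonoidHom.mem_ker.1 ((Subgroup.map_eq_bot_iff _).1 hb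
        (fun r hr => (hRV r hr a₀ ha₀).eq))
      rcases hcenSL _ ((QuotientGroup.eq_one_iff _).1 h1) with hx1 | hx1
      · exact ha₀Q (hker.le hx1)
      · have h2 : ρ a₀ ^ p = 1 := by rw [← map_pow, hexp a₀ (hAS ha₀), map_one]
        rw [hx1, Odd.neg_one_pow ⟨m, hm⟩] at h2
        exact ha₀Q (hker.le (hx1.trans h2))
    intro r hr
    refine mem_center_iff.2 fun x => ?_
    obtain ⟨y, hy, hyx⟩ := htop.ge (mem_top (χ x))
    have h3 : x ∈ CR := by
      have h4 := hkerCR (y⁻¹ * x) (by rw [map_mul, map_inv, hyx, inv_mul_cancel])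
      simpa using mul_mem hy h4
    exact (h3 r hr).symm
  have hRC : R = C := by
    refine le_antisymm (fun r hr => ⟨hD.center_le ⟨hD.Q_le hr.1, fun s _ => mem_center_iff.1 (hRc hr) s⟩,
      hRc hr⟩) fun c hc => ⟨hD.V_le hc.1, hH₀m.2 (mem_center_iff.1 hc.2 t).symm⟩
  -- the Sylow subgroup of `C(t)` is abelian
  have hV₁S : V₁ ≤ (S : Subgroup G) := hV₁V.trans (hD.V_le.trans hD.Q_le)
  have hder : ⁅(S : Subgroup G), (S : Subgroup G)⁆ ≤ V₁ := by
    have hAab : ∀ a ∈ A, ∀ b ∈ A, Commute a b := by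
      intro a ha b hb
      obtain ⟨v, hv, rfl⟩ := (hD.mem_autImg γ).1 ha
      obtain ⟨w, hw, rfl⟩ := (hD.mem_autImg γ).1 hb
      have h1 : v * w = w * v := Subtype.ext (hD.V_ab hv hw).eq
      show ((γ v : G) * (γ w : G)) = (γ w : G) * (γ v : G)
      rw [← Subgroup.coe_mul, ← map_mul, h1, map_mul, Subgroup.coe_mul]
    have hAQ : ∀ a ∈ A, ∀ y ∈ Q, ⁅a, y⁆ ∈ V₁ := by
      intro a ha y hy
      obtain ⟨v, hv, r, hr, rfl⟩ := hQsplit y hy
      rw [commutatorElement_mul_right', commutatorElement_eq_one_iff_commute.2 (hRV r hr a ha).symm,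
        mul_one, mul_inv_cancel, mul_one]
      exact mul_mem (hV₁n.conj_mem v hv a) (inv_mem hv)
    refine commutator_le_of_generators (X := (A : Set G) ∪ Q) (Y := (A : Set G) ∪ Q)
      (hSAQ.trans (sup_eq_closure _ _).le) (hSAQ.trans (sup_eq_closure _ _).le)
      (fun _ _ => by rw [normalizer_eq_top]; trivial) (fun _ _ => by rw [normalizer_eq_top]; trivial) ?_
    rintro x (hx | hx) y (hy | hy)
    · rw [commutatorElement_eq_one_iff_commute.2 (hAab x hx y hy)]; exact one_mem _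
    · exact hAQ x hx y hy
    · rw [← commutatorElement_inv]; exact inv_mem (hAQ y hy x hx)
    · rw [commutatorElement_eq_one_iff_commute.2 (hQab x hx y hy)]; exact one_mem _
  set T := ((S : Subgroup G) ⊓ H₀).subgroupOf H₀ with hT
  have hTab : IsMulCommutative T := ⟨⟨fun a b => by
    refine Subtype.ext (Subtype.ext (commutatorElement_eq_one_iff_mul_comm.1 (mem_bot.1 (hV₁H.le ?_))))
    exact ⟨hder (commutator_mem_commutator a.2.1 b.2.1),
      H₀.mul_mem (H₀.mul_mem (H₀.mul_mem a.1.2 b.1.2) (H₀.inv_mem a.1.2)) (H₀.inv_mem b.1.2)⟩⟩⟩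
  have hinj : ∀ v ∈ V₁, ∀ c ∈ H₀, ∀ v' ∈ V₁, ∀ c' ∈ H₀, v * c = v' * c' → v = v' ∧ c = c' := by
    intro v hv c hc v' hv' c' hc' e
    have h1 : v'⁻¹ * v = c' * c⁻¹ := by
      rw [eq_mul_inv_iff_mul_eq, mul_assoc, e, inv_mul_cancel_left]
    have h2 : v'⁻¹ * v = 1 := mem_bot.1 (hV₁H.le ⟨V₁.mul_mem (V₁.inv_mem hv') hv,
      h1 ▸ H₀.mul_mem hc' (H₀.inv_mem hc)⟩)
    have h3 : v = v' := (inv_mul_eq_one.1 h2).symm
    exact ⟨h3, mul_left_cancel (h3 ▸ e)⟩
  have hcardG : Nat.card G = Nat.card V₁ * Nat.card H₀ := by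
    rw [← Nat.card_prod]
    refine (Nat.card_congr (Equiv.ofBijective (fun x : V₁ × H₀ => (x.1 : G) * x.2) ⟨?_, ?_⟩)).symm
    · rintro ⟨v, c⟩ ⟨v', c'⟩ e
      obtain ⟨e1, e2⟩ := hinj v v.2 c c.2 v' v'.2 c' c'.2 e
      exact Prod.ext (Subtype.ext e1) (Subtype.ext e2)
    · intro x
      obtain ⟨v, hv, c, hc, e⟩ := hGsplit x
      exact ⟨(⟨v, hv⟩, ⟨c, hc⟩), e⟩
  have hcardS : Nat.card (S : Subgroup G) = Nat.card V₁ * Nat.card T := by
    rw [hT, Nat.card_congr (Subgroup.subgroupOfEquivOfLe (inf_le_right : (S : Subgroup G) ⊓ H₀ ≤ H₀)).toEquiv,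
      ← Nat.card_prod]
    refine (Nat.card_congr (Equiv.ofBijective
      (fun x : V₁ × ↥((S : Subgroup G) ⊓ H₀) => (⟨(x.1 : G) * x.2, mul_mem (hV₁S x.1.2) x.2.2.1⟩ : ↥(S : Subgroup G)))
      ⟨?_, ?_⟩)).symm
    · rintro ⟨v, c⟩ ⟨v', c'⟩ e
      obtain ⟨e1, e2⟩ := hinj v v.2 c c.2.2 v' v'.2 c' c'.2.2 (congrArg Subtype.val e)
      exact Prod.ext (Subtype.ext e1) (Subtype.ext e2)
    · rintro ⟨x, hx⟩
      obtain ⟨v, hv, c, hc, e⟩ := hGsplit x
      refine ⟨(⟨v, hv⟩, ⟨c, ⟨?_, hc⟩⟩), Subtype.ext e⟩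
      rw [show c = v⁻¹ * x by rw [← e, inv_mul_cancel_left]]
      exact (S : Subgroup G).mul_mem ((S : Subgroup G).inv_mem (hV₁S hv)) hx
  have hidx : T.index = (S : Subgroup G).index := by
    have h1 := T.card_mul_index
    have h2 := (S : Subgroup G).card_mul_index
    rw [hcardG, hcardS, mul_assoc] at h2
    have h3 := Nat.eq_of_mul_eq_mul_left Nat.card_pos h2
    exact Nat.eq_of_mul_eq_mul_left Nat.card_pos (h1.trans h3.symm)
  have hTp : IsPGroup p T :=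
    (S.isPGroup'.to_le inf_le_left).of_equiv (Subgroup.subgroupOfEquivOfLe inf_le_right).symm
  have hhall : (Nat.card T).Coprime T.index := by
    obtain ⟨j, hj⟩ := IsPGroup.iff_card.1 hTp
    rw [hj, hidx]
    exact Nat.Coprime.pow_left j ((Nat.Prime.coprime_iff_not_dvd hpp).2 S.not_dvd_index)
  have htr := CfsgLib.Transfer.inf_commutator_inf_center_eq_bot T hhall
  have hH' : C ⊓ ⁅H₀, H₀⁆ = ⊥ := by
    rw [eq_bot_iff]
    rintro x ⟨hxC, hxH⟩
    rw [← map_subtype_commutator] at hxH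
    obtain ⟨y, hy, rfl⟩ := hxH
    have h1 : y ∈ T ⊓ _root_.commutator ↥H₀ ⊓ center ↥H₀ := ⟨⟨⟨hD.Q_le (hD.V_le hxC.1), y.2⟩, hy⟩,
      mem_center_iff.2 fun z => Subtype.ext (mem_center_iff.1 hxC.2 (z : G))⟩
    rw [htr, mem_bot] at h1
    rw [h1]
    exact mem_bot.2 rfl
  set G₀ := V₁ ⊔ ⁅H₀, H₀⁆ with hG₀
  have hH₀' : ⁅H₀, H₀⁆ ≤ H₀ := commutator_le_self H₀
  have hmemG₀ : ∀ x ∈ G₀, ∃ v ∈ V₁, ∃ k ∈ ⁅H₀, H₀⁆, v * k = x := fun x hx =>
    mem_sup_of_normal_left.1 hx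
  have hbot : G₀ ⊓ C = ⊥ := by
    rw [eq_bot_iff]
    rintro x ⟨hx, hxC⟩
    obtain ⟨v, hv, k, hk, rfl⟩ := hmemG₀ x hx
    have hxH : v * k ∈ H₀ := (hRC.ge hxC).2
    have h1 : v = 1 := (hinj v hv k (hH₀' hk) 1 (one_mem _) (v * k) hxH (by rw [one_mul])).1
    rw [h1, one_mul] at hxC ⊢
    exact hH'.le ⟨hxC, hk⟩
  have htop : G₀ ⊔ C = ⊤ := by
    refine top_le_iff.1 fun x _ => ?_
    obtain ⟨v, hv, c, hc, rfl⟩ := hGsplit x
    refine mul_mem (mem_sup_left (mem_sup_left hv)) ?_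
    have hmap : H₀.map ρ = ⊤ := top_le_iff.1 fun Y _ => by
      obtain ⟨y, rfl⟩ := hn.surj Y
      obtain ⟨w, hw, d, hd', rfl⟩ := hGsplit y
      refine ⟨d, hd', ?_⟩
      rw [map_mul, show ρ w = 1 from MonoidHom.mem_ker.1 (hker.ge (hD.V_le hw.1)), one_mul]
    have hperf : _root_.commutator SL(2, F) = ⊤ := by
      obtain ⟨x, hx, hx2⟩ := CfsgLib.Classical.exists_sq_ne_one_of_four_le (F := F) hfour
      exact Matrix.SL2.commutator_eq_top hx hx2
    have h1 : ρ c ∈ ⁅H₀, H₀⁆.map ρ := by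
      rw [Subgroup.map_commutator, hmap, ← _root_.commutator_def, hperf]
      exact mem_top _
    obtain ⟨k, hk, hkc⟩ := h1
    have h2 : k⁻¹ * c ∈ C := hRC.le ⟨hker.le (by rw [MonoidHom.mem_ker, map_mul, map_inv, hkc, inv_mul_cancel]),
      H₀.mul_mem (H₀.inv_mem (hH₀' hk)) hc⟩
    simpa using mul_mem (mem_sup_left (T := C) (mem_sup_right (S := V₁) hk)) (mem_sup_right (S := G₀) h2)
  -- the map to `Qd`
  obtain ⟨θ, hθ, hθk, hθe⟩ := hn.rep
  have hDV : ∀ x : G, x * t * x⁻¹ * t ∈ V := by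
    intro x
    obtain ⟨v, hv, c, hc, rfl⟩ := hGsplit x
    rw [show v * c * t * (v * c)⁻¹ * t = v * (c * t * c⁻¹ * v⁻¹ * t) by group, hH₀m.1 hc,
      mul_inv_cancel_right]
    exact mul_mem hv.1 (by simpa [htinv] using hD.V_normal.conj_mem _ (inv_mem hv.1) t)
  have hDmul : ∀ x y : G, x * y * t * (x * y)⁻¹ * t =
      x * (y * t * y⁻¹ * t) * x⁻¹ * (x * t * x⁻¹ * t) := fun x y => by
    symm
    calc x * (y * t * y⁻¹ * t) * x⁻¹ * (x * t * x⁻¹ * t)
        = x * y * t * y⁻¹ * (t * t) * x⁻¹ * t := by group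
      _ = _ := by rw [ht2]; group
  let Θ : G →* ↥(Cfsg.qdOver F) :=
    { toFun := fun x => CfsgLib.Amalgam.Qd.el (θ ⟨_, hDV x⟩).toAdd (ρ x)
      map_one' := by
        have : (⟨_, hDV 1⟩ : ↥V) = 1 := Subtype.ext (by simp [ht2])
        rw [this, θ.map_one, ρ.map_one, toAdd_one, CfsgLib.Amalgam.Qd.el_one]
      map_mul' := fun x y => by
        have e1 : (⟨_, hDV (x * y)⟩ : ↥V) =
            ⟨_, hD.V_normal.conj_mem _ (hDV y) x⟩ * ⟨_, hDV x⟩ := Subtype.ext (hDmul x y)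
        rw [e1, θ.map_mul, ρ.map_mul, toAdd_mul, hθe x ⟨_, hDV y⟩ _ rfl, CfsgLib.Amalgam.Qd.el_mul, add_comm] }
  have hΘv : ∀ v (hv : v ∈ V₁) (hv' : v * t * v⁻¹ * t ∈ V), (θ ⟨_, hv'⟩).toAdd =
      (θ ⟨v ^ 2, pow_mem hv.1 2⟩).toAdd := by
    intro v hv hv'
    congr 2
    refine Subtype.ext ?_
    show v * t * v⁻¹ * t = v ^ 2
    have h1 : t * v⁻¹ * t = v := by
      have h2 := congrArg (·⁻¹) hv.2
      simp only [mul_inv_rev, inv_inv, htinv] at h2
      rw [mul_assoc]; exact h2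
    rw [mul_assoc v t, mul_assoc v, h1, sq]
  have hΘsurj : ∀ Y : ↥(Cfsg.qdOver F), ∃ x ∈ G₀, Θ x = Y := by
    intro Y
    obtain ⟨τ, N, rfl⟩ := CfsgLib.Amalgam.Qd.el_surjective Y
    obtain ⟨g₁, hg₁⟩ := hn.surj N
    obtain ⟨x₁, hx₁, c₁, hc₁, rfl⟩ := mem_sup_of_normal_right.1 (htop.ge (mem_top g₁))
    have hρc : ρ c₁ = 1 := MonoidHom.mem_ker.1 (hker.ge (hD.V_le hc₁.1))
    rw [map_mul, hρc, mul_one] at hg₁
    set τ₁ := (θ ⟨_, hDV x₁⟩).toAdd
    obtain ⟨v₀, hv₀⟩ := hθ (Multiplicative.ofAdd (((m + 1 : ℕ) : F) • (τ - τ₁)))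
    obtain ⟨v, hv, r, hr, hvr⟩ := hQsplit (v₀ : G) (hD.V_le v₀.2)
    have hrV : r ∈ V := (hRC.le hr).1
    have hθr : θ ⟨r, hrV⟩ = 1 := by
      rw [← MonoidHom.mem_ker, hθk, mem_subgroupOf]; exact hRC.le hr
    have hθv : (θ ⟨v, hv.1⟩).toAdd = ((m + 1 : ℕ) : F) • (τ - τ₁) := by
      have h1 : v₀ = ⟨v, hv.1⟩ * ⟨r, hrV⟩ := Subtype.ext hvr.symm
      rw [h1, map_mul, hθr, mul_one] at hv₀
      rw [hv₀, toAdd_ofAdd]
    refine ⟨v * x₁, mul_mem (mem_sup_left hv) hx₁, ?_⟩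
    rw [map_mul]
    show CfsgLib.Amalgam.Qd.el _ _ * CfsgLib.Amalgam.Qd.el _ _ = _
    rw [CfsgLib.Amalgam.Qd.el_mul, hΘv v hv, show ρ v = 1 from MonoidHom.mem_ker.1 (hker.ge (hD.V_le hv.1)),
      hg₁, one_mul, Matrix.SpecialLinearGroup.coe_one, Matrix.one_mulVec]
    congr 1
    have h2 : (⟨v ^ 2, pow_mem hv.1 2⟩ : ↥V) = ⟨v, hv.1⟩ ^ 2 := rfl
    rw [h2, map_pow, toAdd_pow, hθv]
    have h3 : ((m + 1 : ℕ) : F) * 2 = 1 := by
      have h4 : ((p : ℕ) : F) = 0 := CharP.cast_eq_zero F p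
      rw [hm] at h4
      push_cast at h4 ⊢
      linear_combination h4
    funext j
    simp only [Pi.add_apply, Pi.smul_apply, smul_eq_mul, Pi.sub_apply, two_nsmul]
    linear_combination (τ j - τ₁ j) * h3
  have hΘinj : Function.Injective (Θ.comp G₀.subtype) := by
    refine (injective_iff_map_eq_one _).2 fun x hx => ?_
    rw [MonoidHom.comp_apply] at hx
    obtain ⟨h1, h2⟩ := CfsgLib.Amalgam.Qd.el_inj (hx.trans CfsgLib.Amalgam.Qd.el_one.symm)
    obtain ⟨v, hv, r, hr, hvr⟩ := hQsplit (x : G) (hker.le h2)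
    have hrC := hRC.le hr
    have hxC : (x : G) ∈ C := by
      have hv2 : v ^ 2 ∈ C := by
        have h3 : (θ ⟨_, hDV (x : G)⟩) = 1 := Multiplicative.toAdd.injective h1
        have h4 : (⟨_, hDV (x : G)⟩ : ↥V) ∈ θ.ker := h3
        rw [hθk, mem_subgroupOf] at h4
        have e : (x : G) * t * (x : G)⁻¹ * t = v * t * v⁻¹ * t := by
          rw [← hvr, mul_assoc v r t, mem_center_iff.1 hrC.2 t |>.symm]
          group
        have hh := hΘv v hv (hDV v)
        have h5 : θ ⟨v ^ 2, pow_mem hv.1 2⟩ = 1 := by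
          refine Multiplicative.toAdd.injective ?_
          rw [← hh]
          have : (⟨_, hDV v⟩ : ↥V) = ⟨_, hDV (x : G)⟩ := Subtype.ext e.symm
          rw [this, h3]
        have h6 : (⟨v ^ 2, pow_mem hv.1 2⟩ : ↥V) ∈ θ.ker := h5
        rwa [hθk, mem_subgroupOf] at h6
      have hv1 : v ^ 2 = 1 := mem_bot.1 (hV₁H.le ⟨pow_mem hv 2, (hRC.ge hv2).2⟩)
      have hv0 : v = 1 := mem_bot.1 (hV₁H.le ⟨hv, hH₀m.2 (by
        have hvv : v = v⁻¹ := by rw [sq] at hv1; exact (inv_eq_of_mul_eq_one_right hv1).symm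
        have h7 : t * v * t = v := hv.2.trans hvv.symm
        calc v * t = t * v * t * t := by rw [h7]
          _ = _ := by rw [mul_assoc, ht2, mul_one])⟩)
      rw [← hvr, hv0, one_mul]; exact hrC
    exact Subtype.ext (mem_bot.1 (hbot.le ⟨x.2, hxC⟩))
  refine ⟨G₀, C, fun a _ b hb => mem_center_iff.1 hb.2 a, hbot, htop, fun c hc => hc.2,
    fun c hc => hexpQ c (hD.V_le hc.1), ⟨MulEquiv.ofBijective (Θ.comp G₀.subtype) ⟨hΘinj, fun Y => ?_⟩⟩⟩
  obtain ⟨x, hx, e⟩ := hΘsurj Y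
  exact ⟨⟨x, hx⟩, e⟩

end Split

end CfsgLib.ClassK.Push
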