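import Cfsg.Agent.Lib.ClassK.PushPlane
import Cfsg.Agent.Lib.Amalgam.QdBasic
import Cfsg.Prelude.Def_PLocal
import Cfsg.Prelude.Def_LocalEven

/-!
Sections on which a group acts as `SL₂(q)` on its natural module, and chief factors next to
sections on which `O^p` is trivial.
-/

set_option autoImplicit false
set_option linter.style.haveILetI false
set_option linter.unusedSectionVars false
set_option maxHeartbeats 1000000

namespace CfsgLib.ClassK.Push

open Subgroup
open scoped MatrixGroups Pointwise commutatorElement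

variable {G : Type*} [Group G]

theorem iterCommutator_normal' {U : Subgroup G} [U.Normal] (k : ℕ) :
    (Cfsg.iterCommutator U ⊤ k).Normal := by
  induction k with
  | zero => exact inferInstanceAs U.Normal
  | succ k ih =>
    haveI := ih
    exact Subgroup.commutator_normal _ _

theorem iterCommutator_mono' {U U' : Subgroup G} (hUU : U ≤ U') (k : ℕ) :
    Cfsg.iterCommutator U ⊤ k ≤ Cfsg.iterCommutator U' ⊤ k := by
  induction k with
  | zero => exact hUU
  | succ k ih => exact commutator_mono ih le_rfl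

theorem iterCommutator_le_self' {U : Subgroup G} [U.Normal] (k : ℕ) :
    Cfsg.iterCommutator U ⊤ k ≤ U := by
  induction k with
  | zero => exact le_rfl
  | succ k ih => exact (commutator_mono ih le_rfl).trans (commutator_le_left U ⊤)

theorem commutator_sup_top_le {U W : Subgroup G} [U.Normal] [W.Normal] :
    ⁅U ⊔ W, (⊤ : Subgroup G)⁆ ≤ ⁅U, (⊤ : Subgroup G)⁆ ⊔ W := by
  haveI : (⁅U, (⊤ : Subgroup G)⁆).Normal := Subgroup.commutator_normal _ _
  refine commutator_le.2 fun x hx g _ => ?_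
  obtain ⟨a, ha, b, hb, rfl⟩ := mem_sup_of_normal_left.1 hx
  rw [commutatorElement_mul_left']
  refine mul_mem (Subgroup.Normal.conj_mem inferInstance _ (mem_sup_right ?_) a)
    (mem_sup_left (commutator_mem_commutator ha (mem_top g)))
  rw [show ⁅b, g⁆ = b * (g * b⁻¹ * g⁻¹) by simp [commutatorElement_def, mul_assoc]]
  exact mul_mem hb (Subgroup.Normal.conj_mem inferInstance _ (inv_mem hb) g)

/-- The iterated commutators of a sum with a normal subgroup. -/
theorem iterCommutator_sup_le {U W : Subgroup G} [U.Normal] [W.Normal] (k : ℕ) :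
    Cfsg.iterCommutator (U ⊔ W) ⊤ k ≤ Cfsg.iterCommutator U ⊤ k ⊔ W := by
  induction k with
  | zero => exact le_rfl
  | succ k ih =>
    haveI := iterCommutator_normal' (U := U) k
    exact (commutator_mono ih le_rfl).trans commutator_sup_top_le

/-- A noncentral chief factor avoids what acts hypercentrally above a subgroup it avoids. -/
theorem inf_le_of_hyper {U W X N : Subgroup G} [X.Normal] (hUW : Cfsg.IsChiefFactor U W)
    (hnc : ¬ ⁅U, (⊤ : Subgroup G)⁆ ≤ W) {k : ℕ} (hk : Cfsg.iterCommutator X ⊤ k ≤ N)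
    (hN : U ⊓ N ≤ W) : U ⊓ X ≤ W := by
  obtain ⟨hlt, hUn, hWn, hmin⟩ := hUW
  haveI := hUn
  haveI := hWn
  rcases hmin (U ⊓ X ⊔ W) inferInstance le_sup_right (sup_le inf_le_left hlt.le) with h | h
  · exact le_sup_left.trans h.le
  exfalso
  haveI : (⁅U, (⊤ : Subgroup G)⁆).Normal := Subgroup.commutator_normal _ _
  have hU : U ≤ ⁅U, (⊤ : Subgroup G)⁆ ⊔ W := by
    rcases hmin (⁅U, (⊤ : Subgroup G)⁆ ⊔ W) inferInstance le_sup_right
      (sup_le (commutator_le_left U ⊤) hlt.le) with h1 | h1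
    · exact absurd (le_sup_left.trans h1.le) hnc
    · exact h1.ge
  have hall : ∀ j, U ≤ Cfsg.iterCommutator U ⊤ j ⊔ W := by
    intro j
    induction j with
    | zero => exact le_sup_left
    | succ j ih =>
      haveI := iterCommutator_normal' (U := U) j
      refine hU.trans (sup_le ((commutator_mono ih le_rfl).trans ?_) le_sup_right)
      exact commutator_sup_top_le
  have h2 : Cfsg.iterCommutator U ⊤ k ≤ W := by
    calc Cfsg.iterCommutator U ⊤ k = Cfsg.iterCommutator (U ⊓ X ⊔ W) ⊤ k := by rw [h]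
      _ ≤ Cfsg.iterCommutator (U ⊓ X) ⊤ k ⊔ W := iterCommutator_sup_le k
      _ ≤ W := sup_le ((le_inf ((iterCommutator_le_self' k).trans inf_le_left)
          ((iterCommutator_mono' inf_le_right k).trans hk)).trans hN) le_rfl
  exact hlt.not_ge ((hall k).trans (sup_le h2 le_rfl))

variable [Finite G] {p : ℕ} [Fact p.Prime]

/-- Where `O^p` is trivial the group is hypercentral. -/
theorem exists_iterCommutator_le (S : Sylow p G) {X N : Subgroup G} [X.Normal] [N.Normal]
    (hX : X ≤ (S : Subgroup G))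
    (hL : ∀ x ∈ Cfsg.pResidual p G, ∀ y ∈ X, ⁅y, x⁆ ∈ N) :
    ∃ k, Cfsg.iterCommutator X ⊤ k ≤ N := by
  obtain ⟨k, hk⟩ : ∃ k, (S : Subgroup G).lowerCentralSeries k = ⊥ := by
    haveI : Group.IsNilpotent ↥(S : Subgroup G) := S.isPGroup'.isNilpotent
    obtain ⟨k, hk⟩ := Subgroup.nilpotent_iff_lowerCentralSeries.1 (inferInstance : Group.IsNilpotent ↥(S : Subgroup G))
    refine ⟨k, ?_⟩
    rw [← map_bot (S : Subgroup G).subtype, ← hk, Subgroup.map_lowerCentralSeries, ← MonoidHom.range_eq_map,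
      range_subtype]
  have key : ∀ j, Cfsg.iterCommutator X ⊤ j ≤ (S : Subgroup G).lowerCentralSeries j ⊔ N := by
    intro j
    induction j with
    | zero => rw [Subgroup.lowerCentralSeries_zero]; exact hX.trans le_sup_left
    | succ j ih =>
      refine commutator_le.2 fun x hx g _ => ?_
      have hxX : x ∈ X := iterCommutator_le_self' j hx
      obtain ⟨c, hc, m, hm, hcm⟩ := mem_sup_of_normal_right.1 (ih hx)
      haveI := CfsgLib.Transfer.pResidual_normal (G := G) (p := p)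
      obtain ⟨l, hl, s, hs, rfl⟩ := mem_sup_of_normal_left.1
        ((CfsgLib.Transfer.pResidual_sup_sylow S).ge (mem_top g))
      set π := QuotientGroup.mk' N
      have hcomm : ∀ y ∈ X, Commute (π y) (π l) := fun y hy => by
        rw [← commutatorElement_eq_one_iff_commute, ← map_commutatorElement]
        exact (QuotientGroup.eq_one_iff _).2 (hL l hl y hy)
      have hcx : π c = π x := by
        rw [← hcm, map_mul, show π m = 1 from (QuotientGroup.eq_one_iff m).2 hm, mul_one]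
      have e : π ⁅x, l * s⁆ = π ⁅c, s⁆ := by
        have h1 : Commute (π ⁅x, s⁆) (π l) :=
          hcomm _ (commutator_le_left X ⊤ (commutator_mem_commutator hxX (mem_top s)))
        rw [commutatorElement_mul_right', map_mul, map_mul, map_mul, map_inv, map_commutatorElement π x l,
          commutatorElement_eq_one_iff_commute.2 (hcomm x hxX), one_mul, ← h1.eq, mul_inv_cancel_right,
          map_commutatorElement, map_commutatorElement, hcx]
      rw [QuotientGroup.mk'_eq_mk'] at e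
      obtain ⟨z, hz, hze⟩ := e
      rw [show ⁅x, l * s⁆ = ⁅c, s⁆ * z⁻¹ from eq_mul_inv_of_mul_eq hze]
      refine mul_mem (mem_sup_left ?_) (mem_sup_right (inv_mem hz))
      rw [Subgroup.lowerCentralSeries_succ]
      exact commutator_mem_commutator hc hs
  exact ⟨k, (key k).trans (by rw [hk, bot_sup_eq])⟩

section Natural

variable {F : Type*} [Field F] [Fintype F]

/-- The section `X/N` is the natural module of `ρ`. -/
structure Natural (ρ : G →* SL(2, F)) (X N : Subgroup G) : Prop where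
  X_normal : X.Normal
  N_normal : N.Normal
  le : N ≤ X
  surj : Function.Surjective ρ
  rep : ∃ θ : ↥X →* Multiplicative (Fin 2 → F), Function.Surjective θ ∧ θ.ker = N.subgroupOf X ∧
    ∀ (g : G) (x x' : ↥X), (x' : G) = g * x * g⁻¹ →
      (θ x').toAdd = (ρ g : Matrix (Fin 2) (Fin 2) F).mulVec (θ x).toAdd

variable {ρ : G →* SL(2, F)} {X N : Subgroup G} (hn : Natural ρ X N)
include hn

theorem Natural.irreducible {W : Subgroup G} [W.Normal] (hNW : N ≤ W) (hWX : W ≤ X) :
    W ≤ N ∨ X ≤ W := by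
  haveI := hn.X_normal
  obtain ⟨θ, hθ, hθk, hθe⟩ := hn.rep
  have hθ1 : ∀ {y : ↥X}, θ y = 1 ↔ (y : G) ∈ N := fun {y} => by
    rw [← MonoidHom.mem_ker, hθk, mem_subgroupOf]
  by_cases hWN : W ≤ N
  · exact Or.inl hWN
  refine Or.inr fun x hx => ?_
  obtain ⟨w, hw, hwN⟩ := SetLike.not_le_iff_exists.1 hWN
  by_cases hx0 : θ ⟨x, hx⟩ = 1
  · exact hNW (hθ1.1 hx0)
  have hw0 : θ ⟨w, hWX hw⟩ ≠ 1 := fun e => hwN (hθ1.1 e)
  obtain ⟨A, hA⟩ := CfsgLib.Amalgam.Qd.exists_mulVec_eq (F := F) (t := (θ ⟨w, hWX hw⟩).toAdd)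
    (fun e => hw0 (toAdd_eq_zero.1 e))
  obtain ⟨B, hB⟩ := CfsgLib.Amalgam.Qd.exists_mulVec_eq (F := F) (t := (θ ⟨x, hx⟩).toAdd)
    (fun e => hx0 (toAdd_eq_zero.1 e))
  obtain ⟨g, hg⟩ := hn.surj (B * A⁻¹)
  have hgw : g * w * g⁻¹ ∈ W := Subgroup.Normal.conj_mem inferInstance w hw g
  have h1 : θ ⟨g * w * g⁻¹, hWX hgw⟩ = θ ⟨x, hx⟩ := Multiplicative.toAdd.injective (by
    rw [hθe g ⟨w, hWX hw⟩ _ rfl, hg, ← hA, Matrix.mulVec_mulVec, ← Matrix.SpecialLinearGroup.coe_mul,
      inv_mul_cancel_right, hB])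
  have h2 : θ (⟨g * w * g⁻¹, hWX hgw⟩⁻¹ * ⟨x, hx⟩) = 1 := by
    rw [map_mul, map_inv, h1, inv_mul_cancel]
  have h3 := mul_mem hgw (hNW (hθ1.1 h2))
  simpa [mul_assoc] using h3

theorem Natural.noncentral : ¬ ⁅X, (⊤ : Subgroup G)⁆ ≤ N := by
  haveI := hn.X_normal
  intro hle
  obtain ⟨θ, hθ, hθk, hθe⟩ := hn.rep
  obtain ⟨g, hg⟩ := hn.surj (CfsgLib.Classical.uElt 1)
  obtain ⟨x, hx⟩ := hθ (Multiplicative.ofAdd ![0, 1])
  have hx' : g * x * g⁻¹ ∈ X := Subgroup.Normal.conj_mem inferInstance _ x.2 g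
  have h1 : θ ⟨g * x * g⁻¹, hx'⟩ = θ x := by
    have h2 : (x : ↥X) * ⟨g * x * g⁻¹, hx'⟩⁻¹ ∈ θ.ker := by
      rw [hθk, mem_subgroupOf]
      rw [show ((x * ⟨g * x * g⁻¹, hx'⟩⁻¹ : ↥X) : G) = ⁅(x : G), g⁆ by
        simp [commutatorElement_def, mul_assoc]]
      exact hle (commutator_mem_commutator x.2 (mem_top g))
    rw [MonoidHom.mem_ker, map_mul, map_inv, mul_inv_eq_one] at h2
    exact h2.symm
  have h3 := hθe g x ⟨_, hx'⟩ rfl
  rw [h1, hx, hg, toAdd_ofAdd, CfsgLib.Classical.uElt_val] at h3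
  have h4 := congrFun h3 0
  simp [Matrix.mulVec, dotProduct, Fin.sum_univ_two] at h4

theorem Natural.isChiefFactor : Cfsg.IsChiefFactor X N := by
  refine ⟨lt_of_le_of_ne hn.le fun e => hn.noncentral ?_, hn.X_normal, hn.N_normal, fun W hW h1 h2 => ?_⟩
  · haveI := hn.X_normal
    exact (commutator_le_left X ⊤).trans e.ge
  · haveI := hW
    rcases hn.irreducible h1 h2 with h | h
    exacts [Or.inl (le_antisymm h h1), Or.inr (le_antisymm h2 h)]

theorem Natural.acts_trivially {x : G} (hx : ρ x = 1) {y : G} (hy : y ∈ X) : ⁅y, x⁆ ∈ N := by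
  haveI := hn.X_normal
  obtain ⟨θ, hθ, hθk, hθe⟩ := hn.rep
  have hy' : x * y * x⁻¹ ∈ X := Subgroup.Normal.conj_mem inferInstance _ hy x
  have h1 : θ ⟨x * y * x⁻¹, hy'⟩ = θ ⟨y, hy⟩ := Multiplicative.toAdd.injective (by
    rw [hθe x ⟨y, hy⟩ _ rfl, hx, Matrix.SpecialLinearGroup.coe_one, Matrix.one_mulVec])
  have h2 : (⟨y, hy⟩ : ↥X) * ⟨x * y * x⁻¹, hy'⟩⁻¹ ∈ θ.ker := by
    rw [MonoidHom.mem_ker, map_mul, map_inv, h1, mul_inv_cancel]
  rw [hθk, mem_subgroupOf] at h2
  simpa [commutatorElement_def, mul_assoc] using h2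

/-- A chief factor covered by a natural section is natural. -/
theorem Natural.isNatural_of_chief {U W : Subgroup G} [W.Normal] (hUW : Cfsg.IsChiefFactor U W)
    (hWρ : W ≤ ρ.ker) (hUN : U ⊓ N ≤ W) (hUX : ¬ U ⊓ X ≤ W) :
    Cfsg.IsNaturalSL2Module F (U.map (QuotientGroup.mk' W)) (⊤ : Subgroup (G ⧸ W)) := by
  obtain ⟨hlt, hUn, -, hmin⟩ := hUW
  haveI := hn.X_normal
  haveI := hn.N_normal
  haveI := hUn
  set σ := QuotientGroup.mk' W with hσ
  set D := U ⊓ X with hD
  have hDW : D ⊔ W = U := (hmin (D ⊔ W) inferInstance le_sup_right (sup_le inf_le_left hlt.le)).resolve_left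
    fun e => hUX (le_sup_left.trans e.le)
  have hDN : X ≤ D ⊔ N := ((hn.irreducible (W := D ⊔ N) le_sup_right (sup_le inf_le_right hn.le))).resolve_left
    fun e => hUX ((le_inf inf_le_left (le_sup_left.trans e)).trans hUN)
  have hDWN : D ⊓ W ≤ N := by
    rcases hn.irreducible (W := D ⊓ W ⊔ N) le_sup_right (sup_le (inf_le_left.trans inf_le_right) hn.le) with
      h | h
    · exact le_sup_left.trans h
    · refine absurd (fun d hd => ?_) hUX
      obtain ⟨w, hw, m, hm, rfl⟩ := mem_sup_of_normal_left.1 (h hd.2)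
      exact mul_mem hw.2 (hUN ⟨by simpa using U.mul_mem (U.inv_mem hw.1.1) hd.1, hm⟩)
  obtain ⟨θ, hθ, hθk, hθe⟩ := hn.rep
  set f : ↥D →* Multiplicative (Fin 2 → F) := θ.comp (Subgroup.inclusion inf_le_right)
  have hf : Function.Surjective f := by
    intro t
    obtain ⟨x, rfl⟩ := hθ t
    obtain ⟨d, hd, m, hm, hdm⟩ := mem_sup_of_normal_right.1 (hDN x.2)
    refine ⟨⟨d, hd⟩, ?_⟩
    have hm1 : θ ⟨m, hn.le hm⟩ = 1 := by rw [← MonoidHom.mem_ker, hθk]; exact hm
    have e : x = ⟨d, hd.2⟩ * ⟨m, hn.le hm⟩ := Subtype.ext hdm.symm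
    rw [e, map_mul, hm1, mul_one]
    rfl
  set Φ : ↥D →* ↥(U.map σ) :=
    (σ.comp D.subtype).codRestrict _ fun d => mem_map_of_mem σ d.2.1
  have hΦ : Function.Surjective Φ := by
    rintro ⟨_, x, hx, rfl⟩
    obtain ⟨d, hd, w, hw, rfl⟩ := mem_sup_of_normal_right.1 (hDW.ge hx)
    refine ⟨⟨d, hd⟩, Subtype.ext ?_⟩
    show σ d = σ (d * w)
    rw [map_mul, show σ w = 1 from (QuotientGroup.eq_one_iff w).2 hw, mul_one]
  have hker : Φ.ker = f.ker := by
    ext d
    constructor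
    · intro hd
      have h1 : (d : G) ∈ W := (QuotientGroup.eq_one_iff _).1 (congrArg Subtype.val hd)
      show θ _ = 1
      rw [← MonoidHom.mem_ker, hθk]
      exact hDWN ⟨d.2, h1⟩
    · intro hd
      have h1 : (d : G) ∈ N := by
        have : Subgroup.inclusion inf_le_right d ∈ θ.ker := hd
        rwa [hθk] at this
      exact Subtype.ext ((QuotientGroup.eq_one_iff _).2 (hUN ⟨d.2.1, h1⟩))
  set e : ↥(U.map σ) ≃* Multiplicative (Fin 2 → F) :=
    (QuotientGroup.quotientKerEquivOfSurjective Φ hΦ).symm.trans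
      ((QuotientGroup.quotientMulEquivOfEq hker).trans (QuotientGroup.quotientKerEquivOfSurjective f hf))
  have he : ∀ d, e (Φ d) = f d := by
    intro d
    have h1 : (QuotientGroup.quotientKerEquivOfSurjective Φ hΦ).symm (Φ d) = QuotientGroup.mk d := by
      rw [MulEquiv.symm_apply_eq]
      rfl
    show (QuotientGroup.quotientKerEquivOfSurjective f hf) (QuotientGroup.quotientMulEquivOfEq hker
      ((QuotientGroup.quotientKerEquivOfSurjective Φ hΦ).symm (Φ d))) = f d
    rw [h1]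
    rfl
  set ρ' : ↥(⊤ : Subgroup (G ⧸ W)) →* SL(2, F) :=
    (QuotientGroup.lift W ρ hWρ).comp (⊤ : Subgroup (G ⧸ W)).subtype
  set ψ : Additive ↥(U.map σ) ≃+ (Fin 2 → F) :=
    (MulEquiv.toAdditive e).trans (AddEquiv.additiveMultiplicative _)
  have hψ : ∀ v, ψ (Additive.ofMul v) = (e v).toAdd := fun v => rfl
  have key : ∀ (g : G) (v v' : ↥(U.map σ)), (v' : G ⧸ W) = σ g * v * (σ g)⁻¹ →
      ψ (Additive.ofMul v') = (ρ g : Matrix (Fin 2) (Fin 2) F).mulVec (ψ (Additive.ofMul v)) := by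
    intro g v v' hvv'
    obtain ⟨d, rfl⟩ := hΦ v
    have hd' : g * (d : G) * g⁻¹ ∈ D := Subgroup.Normal.conj_mem inferInstance _ d.2 g
    have e1 : v' = Φ ⟨_, hd'⟩ := Subtype.ext (by
      rw [hvv']
      show σ g * σ d * (σ g)⁻¹ = σ (g * d * g⁻¹)
      rw [map_mul, map_mul, map_inv])
    rw [hψ, hψ, e1, he, he]
    exact hθe g _ _ rfl
  refine ⟨fun l _ => ?_, ρ', ψ, fun A => ?_, ?_, fun l v => ?_⟩
  · obtain ⟨g, rfl⟩ := QuotientGroup.mk'_surjective W l
    haveI : (U.map σ).Normal := Subgroup.Normal.map inferInstance _ (QuotientGroup.mk'_surjective W)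
    rw [normalizer_eq_top]
    trivial
  · obtain ⟨g, hg⟩ := hn.surj A
    exact ⟨⟨σ g, mem_top _⟩, hg⟩
  · ext ⟨l, hl⟩
    obtain ⟨g, rfl⟩ := QuotientGroup.mk'_surjective W l
    have hconj : ∀ v : ↥(U.map σ), σ g * v * (σ g)⁻¹ ∈ U.map σ := fun v =>
      (Subgroup.Normal.map inferInstance _ (QuotientGroup.mk'_surjective W) :
        (U.map σ).Normal).conj_mem _ v.2 _
    rw [MonoidHom.mem_ker, mem_subgroupOf]
    show ρ g = 1 ↔ _
    constructor
    · intro hg v hv
      have h1 := key g ⟨v, hv⟩ ⟨_, hconj ⟨v, hv⟩⟩ rfl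
      rw [hg, Matrix.SpecialLinearGroup.coe_one, Matrix.one_mulVec] at h1
      have h2 := congrArg (fun x : Additive ↥(U.map σ) => (x.toMul : G ⧸ W)) (ψ.injective h1)
      exact (mul_inv_eq_iff_eq_mul.1 h2).symm
    · intro hg
      refine sl_ext (Matrix.ext_iff_mulVec.2 fun t => ?_)
      obtain ⟨v, rfl⟩ := ψ.surjective t
      obtain ⟨v, rfl⟩ := Additive.ofMul.surjective v
      rw [Matrix.SpecialLinearGroup.coe_one, Matrix.one_mulVec, ← key g v v]
      rw [← hg _ v.2, mul_inv_cancel_right]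
  · obtain ⟨g, hg⟩ := QuotientGroup.mk'_surjective W (l : G ⧸ W)
    have hconj : σ g * v * (σ g)⁻¹ ∈ U.map σ :=
      (Subgroup.Normal.map inferInstance _ (QuotientGroup.mk'_surjective W) :
        (U.map σ).Normal).conj_mem _ v.2 _
    refine ⟨⟨_, hconj⟩, by rw [← hg], ?_⟩
    rw [key g v ⟨_, hconj⟩ rfl]
    have h1 : ρ' l = ρ g := by
      show QuotientGroup.lift W ρ hWρ (l : G ⧸ W) = ρ g
      rw [← hg]
      rfl
    rw [h1]

end Natural

end CfsgLib.ClassK.Push
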