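import Cfsg.Prelude.Def_CaseTheorems
import Mathlib.GroupTheory.QuotientGroup.Basic

set_option autoImplicit false

namespace CfsgLib.ClassK

/-- Quasisimplicity is invariant under isomorphism. -/
theorem isQuasisimple_of_mulEquiv {A B : Type*} [Group A] [Group B] (e : A ≃* B)
    (h : Cfsg.IsQuasisimple A) : Cfsg.IsQuasisimple B := by
  obtain ⟨hp, hs⟩ := h
  have hZ : (Subgroup.center A).map e.toMonoidHom = Subgroup.center B := by
    ext b
    constructor
    · rintro ⟨a, ha, rfl⟩
      rw [Subgroup.mem_center_iff]
      intro x
      have := congrArg e (Subgroup.mem_center_iff.mp ha (e.symm x))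
      simpa using this
    · intro hb
      refine ⟨e.symm b, ?_, by simp⟩
      rw [SetLike.mem_coe, Subgroup.mem_center_iff]
      intro x
      have := congrArg e.symm (Subgroup.mem_center_iff.mp hb (e x))
      simpa using this
  refine ⟨?_, ?_⟩
  · have := hp
    exact Group.IsPerfect.ofSurjective (f := e.toMonoidHom) e.surjective
  · let q : A ⧸ Subgroup.center A ≃* B ⧸ Subgroup.center B := QuotientGroup.congr _ _ e hZ
    have := hs
    exact q.symm.isSimpleGroup

end CfsgLib.ClassK
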