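import Cfsg.Agent.Lib.ClassK.RowSieve

/-!
The sum over pairs of involutions for a self-centralizing Sylow subgroup of prime order, read on
the rows of the principal block, and the resulting decidable test.
-/

set_option autoImplicit false

namespace CfsgLib.ClassK.RowInvolution

open Cfsg CfsgLib CfsgLib.Block CfsgLib.ClassK.RowSieve
open scoped ComplexConjugate

universe u

/-- Candidate values at an involution of a faithful character of degree `D` of a perfect group. -/
def qRange (D : ℕ) : List ℤ := (List.range ((D - 1) / 2)).map fun (i : ℕ) => (D : ℤ) - 4 * ((i : ℤ) + 1)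

/-- Multisets of `k` candidates with bounded sum of squares. -/
def sols (n : ℕ) : List (ℕ × Bool) → ℕ → ℕ → List (List (ℕ × Bool))
  | [], k, _ => if k = 0 then [[]] else []
  | c :: cs, k, S => (List.range (k + 1)).flatMap fun j =>
      if S + j * (c.1 * c.1) ≤ n then
        (sols n cs (k - j) (S + j * (c.1 * c.1))).map (fun l => List.replicate j c ++ l)
      else []

/-- Values at an involution attached to a list of candidates. -/
def assign : List (ℕ × Bool) → List (List ((ℕ × Bool) × ℤ))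
  | [] => [[]]
  | a :: as => (qRange a.1).flatMap fun q => (assign as).map ((a, q) :: ·)

/-- The sign of a candidate. -/
def sgn (a : ℕ × Bool) : ℤ := if a.2 then 1 else -1

/-- Could the scaled sum over pairs lie in `targets`, with exceptional degree `d` and sign `σ`? -/
def testOne (n p t : ℕ) (targets : List (ℤ × ℕ)) (d : ℕ) (σ : ℤ) (r : List ((ℕ × Bool) × ℤ)) :
    Bool :=
  let A := 1 + (r.map fun a => sgn a.1 * a.2).sum
  let E := (n : ℤ) + (r.map fun a => sgn a.1 * a.2 * a.2 * ((n / a.1.1 : ℕ) : ℤ)).sum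
  let Q := 1 + (r.map fun a => a.2 * a.2).sum
  if d = 0 then decide (A = 0) &&
    targets.any fun N => decide (E = (p : ℤ) * N.1) && decide (Q ≤ (N.2 : ℤ))
  else targets.any fun N => decide (E - σ * (A * A) * ((n / d : ℕ) : ℤ) = (p : ℤ) * N.1) &&
    decide (Q + (t : ℤ) * (A * A) ≤ (N.2 : ℤ))

/-- Degree test of a candidate multiset, giving the admissible exceptional data. -/
def excData (n M p B e t : ℕ) (l : List (ℕ × Bool)) : List (ℕ × ℤ) :=
  let D := 1 + (l.map fun a => sgn a * (a.1 : ℤ)).sum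
  let S := 1 + (l.map fun a => a.1 * a.1).sum
  if t = 1 then (if D = 0 ∧ S ≤ n then [(0, 1)] else [])
  else ((List.range B).filter fun d => excOK n M p false (fun _ => true) d &&
      decide (S + t * (d * d) ≤ n)).flatMap fun (d : ℕ) =>
    (if D = (d : ℤ) ∧ d % p = e % p then [(d, (1 : ℤ))] else []) ++
      (if D = -(d : ℤ) ∧ (d + e) % p = 0 then [(d, (-1 : ℤ))] else [])

/-- Could a sum over pairs of involutions take one of the values in `targets`? -/
def involPossible (n p B np e : ℕ) (targets : List (ℤ × ℕ)) : Bool :=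
  let t := (p - 1) / e
  (sols n (cands n (np * e) p B false (fun _ => true)) (if t = 1 then p - 1 else e - 1) 0).any fun l =>
    (excData n (np * e) p B e t l).any fun ds =>
      (assign l).any (testOne n p t targets ds.1 ds.2)

theorem sols_sound {n : ℕ} {ι : Type*} (f : ι → ℕ × Bool) :
    ∀ (L : List (ℕ × Bool)) (s : Finset ι) (S : ℕ), (∀ i ∈ s, f i ∈ L) →
      S + ∑ i ∈ s, (f i).1 * (f i).1 ≤ n →
      ∃ l ∈ sols n L s.card S, (s.val.map f : Multiset (ℕ × Bool)) = ↑l := by
  classical
  intro L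
  induction L with
  | nil =>
    intro s S hs _
    obtain rfl : s = ∅ := Finset.eq_empty_of_forall_notMem fun i hi => by simpa using hs i hi
    exact ⟨[], by simp [sols], by simp⟩
  | cons c cs ih =>
    intro s S hs hle
    set s₁ := s.filter (fun i => f i = c)
    set s₂ := s.filter (fun i => ¬ f i = c)
    have hcard : s₁.card + s₂.card = s.card := Finset.card_filter_add_card_filter_not _
    have hsq : ∑ i ∈ s, (f i).1 * (f i).1 =
        s₁.card * (c.1 * c.1) + ∑ i ∈ s₂, (f i).1 * (f i).1 := by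
      rw [← Finset.sum_filter_add_sum_filter_not s (fun i => f i = c)]
      congr 1
      rw [Finset.sum_congr rfl (g := fun _ => c.1 * c.1) fun i hi => by
        rw [(Finset.mem_filter.1 hi).2], Finset.sum_const, smul_eq_mul]
    rw [hsq] at hle
    obtain ⟨l, hl, hmap⟩ := ih s₂ (S + s₁.card * (c.1 * c.1))
      (fun i hi => (List.mem_cons.1 (hs i (Finset.mem_filter.1 hi).1)).resolve_left
        (Finset.mem_filter.1 hi).2) (by omega)
    refine ⟨List.replicate s₁.card c ++ l, ?_, ?_⟩
    · rw [sols, List.mem_flatMap]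
      refine ⟨s₁.card, List.mem_range.2 (by omega), ?_⟩
      rw [if_pos (by omega), show s.card - s₁.card = s₂.card by omega]
      exact List.mem_map.2 ⟨l, hl, rfl⟩
    · have h1 : s₁.val.map f = Multiset.replicate s₁.card c :=
        Multiset.eq_replicate.2 ⟨by rw [Multiset.card_map]; rfl, fun b hb => by
          obtain ⟨i, hi, rfl⟩ := Multiset.mem_map.1 hb
          exact (Finset.mem_filter.1 hi).2⟩
      rw [← Multiset.coe_add, Multiset.coe_replicate, ← hmap, ← h1, ← Multiset.map_add,
        show s₁.val + s₂.val = s.val from Multiset.filter_add_not _ s.val]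

theorem assign_sound {ι : Type*} (f : ι → ℕ × Bool) (q : ι → ℤ) :
    ∀ (l : List (ℕ × Bool)) (m : Multiset ι), (∀ i ∈ m, q i ∈ qRange (f i).1) → m.map f = ↑l →
      ∃ r ∈ assign l, m.map (fun i => (f i, q i)) = ↑r := by
  classical
  intro l
  induction l with
  | nil =>
    intro m _ h
    obtain rfl : m = 0 := Multiset.map_eq_zero.1 h
    exact ⟨[], by simp [assign], by simp⟩
  | cons a as ih =>
    intro m hq h
    have ha : a ∈ m.map f := by rw [h]; simp
    obtain ⟨i, hi, rfl⟩ := Multiset.mem_map.1 ha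
    obtain ⟨m', rfl⟩ := Multiset.exists_cons_of_mem hi
    rw [Multiset.map_cons, ← Multiset.cons_coe, Multiset.cons_inj_right] at h
    obtain ⟨r, hr, hmap⟩ := ih m' (fun j hj => hq j (Multiset.mem_cons_of_mem hj)) h
    refine ⟨(f i, q i) :: r, ?_, ?_⟩
    · rw [assign, List.mem_flatMap]
      exact ⟨q i, hq i hi, List.mem_map.2 ⟨r, hr, rfl⟩⟩
    · rw [Multiset.map_cons, hmap, Multiset.cons_coe]

variable {G : Type u} [Group G] [Finite G]

/-- The value of a faithful character of a perfect group at an involution. -/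
theorem exists_mem_qRange (hperf : commutator G = ⊤) (χ : IrrCharacter G) {t : G}
    (ht : orderOf t = 2) (hne : ∀ g : G, g ≠ 1 → (χ : G → ℂ) g ≠ (χ : G → ℂ) 1)
    (hcen : t ∉ Subgroup.center G) :
    ∃ a ∈ qRange (charDegree (χ : G → ℂ)), (χ : G → ℂ) t = (a : ℂ) := by
  classical
  obtain ⟨m, ρ, -, hρ⟩ := χ.2
  have hdm : charDegree (χ : G → ℂ) = m := by
    have h := BlockB.irr_degree_cast χ
    rw [← hρ, Representation.char_one, Module.finrank_fin_fun] at h
    rw [← hρ]
    exact_mod_cast h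
  obtain ⟨ι, hι, b, μ, hb, hμ, hχ, -⟩ := Char.exists_char_eigen ρ t
  have hμ2 : ∀ i, μ i = 1 ∨ μ i = -1 := fun i => sq_eq_one_iff.1 (ht ▸ hμ i)
  set s := Finset.univ.filter fun i => μ i = -1 with hs
  have hn1 : (1 : ℂ) ≠ -1 := by norm_num
  have hprod : ((-1 : ℂ)) ^ s.card = 1 := by
    have h := RowDegree.prod_eigen_eq_one hperf ρ b μ t hb
    rwa [← Finset.prod_filter_mul_prod_filter_not Finset.univ (fun i => μ i = -1),
      Finset.prod_congr rfl (g := fun _ => (-1 : ℂ)) fun i hi => (Finset.mem_filter.1 hi).2,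
      Finset.prod_eq_one (s := Finset.univ.filter fun i => ¬ μ i = -1) fun i hi =>
        (hμ2 i).resolve_right (Finset.mem_filter.1 hi).2, Finset.prod_const, mul_one, ← hs] at h
  have heven : Even s.card := by
    by_contra hodd
    rw [(Nat.not_even_iff_odd.1 hodd).neg_one_pow] at hprod
    exact hn1 hprod.symm
  have hcard : Fintype.card ι = m := by
    rw [← Module.finrank_eq_card_basis b, Module.finrank_fin_fun]
  have hval : (χ : G → ℂ) t = (((m : ℤ) - 2 * (s.card : ℤ) : ℤ) : ℂ) := by
    have h := hχ 1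
    simp only [pow_one] at h
    rw [← hρ, h, ← hcard, Finset.sum_congr rfl (g := fun i => (1 : ℂ) - 2 * if μ i = -1 then 1 else 0)
      fun i _ => by rcases hμ2 i with h' | h' <;> simp [h', hn1, show (2 : ℂ) - 1 = 1 by norm_num]
        <;> norm_num,
      Finset.sum_sub_distrib, Finset.sum_const, Finset.card_univ, ← Finset.mul_sum,
      Finset.sum_boole, ← hs]
    push_cast
    simp
  have h0 : s.card ≠ 0 := fun h => hne t (fun h' => by rw [h', orderOf_one] at ht; omega) (by
    rw [hval, h, ← BlockB.irr_degree_cast χ, hdm]; simp)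
  obtain ⟨j, hj⟩ := heven
  have hsm : s.card < m := by
    refine lt_of_le_of_ne (hcard ▸ Finset.card_le_univ s) fun hall => hcen ?_
    have hmu : ∀ i, μ i = -1 := fun i => by
      have hsu : s = Finset.univ := Finset.eq_univ_of_card s (by rw [hall, hcard])
      exact (Finset.mem_filter.1 (show i ∈ s from hsu ▸ Finset.mem_univ i)).2
    have hscal : ρ t = -1 := b.ext fun i => by rw [hb, hmu]; simp
    rw [Subgroup.mem_center_iff]
    intro g
    have h1 : ρ (t * g * t⁻¹ * g⁻¹) = 1 := by
      have ht2 : t⁻¹ = t := inv_eq_of_mul_eq_one_right (by rw [← pow_two, ← ht, pow_orderOf_eq_one])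
      rw [ht2, map_mul, map_mul, map_mul, hscal]
      refine LinearMap.ext fun v => ?_
      simp only [Module.End.mul_apply, LinearMap.neg_apply, Module.End.one_apply, map_neg, neg_neg]
      rw [← Module.End.mul_apply, ← map_mul, mul_inv_cancel, map_one, Module.End.one_apply]
    by_contra hne'
    refine hne (t * g * t⁻¹ * g⁻¹) (fun h' => hne' ?_) ?_
    · have := mul_inv_eq_one.1 h'
      exact (mul_inv_eq_iff_eq_mul.1 this).symm
    · rw [← hρ]
      simp only [Representation.character, h1, map_one]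
  refine ⟨(m : ℤ) - 2 * (s.card : ℤ), ?_, hval⟩
  rw [hdm, qRange, List.mem_map]
  refine ⟨j - 1, List.mem_range.2 ?_, ?_⟩
  · omega
  rw [hj, Nat.cast_sub (show 1 ≤ j by omega)]
  push_cast
  ring

omit [Finite G] in
/-- If no conjugate of the involution `u` inverts `x`, then `u` times a conjugate of the
involution `v` is never conjugate to `x`. -/
theorem not_isConj_of_not_invert {u v x : G} (hu : u * u = 1) (hv : v * v = 1)
    (hno : ∀ g : G, (g * u * g⁻¹) * x * (g * u * g⁻¹)⁻¹ ≠ x⁻¹) (s : G) :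
    ¬ IsConj (u * (s * v * s⁻¹)) x := by
  intro h
  obtain ⟨h', hh⟩ := isConj_iff.1 h
  refine hno h' ?_
  have hui : u⁻¹ = u := inv_eq_of_mul_eq_one_right hu
  have hvi : v⁻¹ = v := inv_eq_of_mul_eq_one_right hv
  rw [← hh]
  calc h' * u * h'⁻¹ * (h' * (u * (s * v * s⁻¹)) * h'⁻¹) * (h' * u * h'⁻¹)⁻¹
      = h' * ((u * u) * (s * v * s⁻¹) * u⁻¹) * h'⁻¹ := by group
    _ = h' * ((s * v⁻¹ * s⁻¹) * u⁻¹) * h'⁻¹ := by rw [hu, hvi, one_mul]
    _ = (h' * (u * (s * v * s⁻¹)) * h'⁻¹)⁻¹ := by group

open scoped Classical in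
/-- For `x` inverted by the involution `t` and with centralizer `A` of odd order, the number of
`s` with `t (s t s⁻¹)` conjugate to `x` is `|C(t)|²`. -/
theorem card_pairs_invert [Fintype G] {A : Subgroup G}
    (hA : ∀ x ∈ A, x ≠ 1 → Subgroup.centralizer ({x} : Set G) = A) (hodd : Odd (Nat.card A))
    {t x : G} (htt : t * t = 1) (hinv : ∀ a ∈ A, t * a * t = a⁻¹) (hx : x ∈ A) (hx1 : x ≠ 1) :
    (Finset.univ.filter fun s : G => IsConj (t * (s * t * s⁻¹)) x).card =
      Nat.card (Subgroup.centralizer ({t} : Set G)) ^ 2 := by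
  have hti : t⁻¹ = t := inv_eq_of_mul_eq_one_right htt
  have hcomm : ∀ a ∈ A, ∀ b ∈ A, a * b = b * a := fun a ha b hb =>
    Char.comm_of_selfCentral hA ha hb
  have hinvol : ∀ a ∈ A, (a * t) * (a * t) = 1 := fun a ha => by
    calc a * t * (a * t) = a * (t * a * t) := by group
      _ = 1 := by rw [hinv a ha, mul_inv_cancel]
  have hconjA : ∀ a ∈ A, IsConj t (a * t) := by
    intro a ha
    obtain ⟨b, hb⟩ := (powCoprime (G := A) (n := 2) (Nat.coprime_two_right.2 hodd)).surjective ⟨a, ha⟩
    refine isConj_iff.2 ⟨b, ?_⟩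
    have hb' : (b : G) * b = a := by
      rw [← pow_two]; exact congrArg Subtype.val hb
    calc (b : G) * t * (b : G)⁻¹ = b * (t * (b : G)⁻¹ * t) * t⁻¹ := by group
      _ = a * t := by rw [hinv _ (inv_mem b.2), inv_inv, hb', hti]
  have hU : ∀ u : G, (IsConj t u ∧ IsConj t (u⁻¹ * x)) ↔ ∃ a ∈ A, u = a * t := by
    intro u
    constructor
    · rintro ⟨h1, h2⟩
      obtain ⟨c, hc⟩ := isConj_iff.1 h1
      obtain ⟨c', hc'⟩ := isConj_iff.1 h2
      have huu : u * u = 1 := by
        calc u * u = c * (t * t) * c⁻¹ := by rw [← hc]; group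
          _ = 1 := by rw [htt]; group
      have hui : u⁻¹ = u := inv_eq_of_mul_eq_one_right huu
      have hvv : (u * x) * (u * x) = 1 := by
        rw [hui] at hc'
        calc (u * x) * (u * x) = c' * (t * t) * c'⁻¹ := by rw [← hc']; group
          _ = 1 := by rw [htt]; group
      have hux : u * x * u = x⁻¹ := eq_inv_of_mul_eq_one_left (by simpa [mul_assoc] using hvv)
      have hut : (u * t) * x * (u * t)⁻¹ = x := by
        calc (u * t) * x * (u * t)⁻¹ = u * (t * x * t⁻¹) * u⁻¹ := by group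
          _ = u * x⁻¹ * u⁻¹ := by rw [hti, hinv x hx]
          _ = (u * x * u)⁻¹ := by rw [mul_inv_rev, mul_inv_rev, hui, mul_assoc]
          _ = x := by rw [hux, inv_inv]
      refine ⟨u * t, ?_, by rw [mul_assoc, htt, mul_one]⟩
      rw [← hA x hx hx1, Subgroup.mem_centralizer_singleton_iff]
      exact (mul_inv_eq_iff_eq_mul.1 hut)
    · rintro ⟨a, ha, rfl⟩
      refine ⟨hconjA a ha, ?_⟩
      rw [inv_eq_of_mul_eq_one_right (hinvol a ha)]
      have : a * t * x = (a * x⁻¹) * t := by
        rw [← hinv x hx, ← mul_assoc, ← mul_assoc, mul_assoc _ t t, htt, mul_one]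
      rw [this]
      exact hconjA _ (mul_mem ha (inv_mem hx))
  set c := Nat.card (Subgroup.centralizer ({t} : Set G))
  set T := (Finset.univ : Finset (G × G)).filter fun q =>
    (q.1 * t * q.1⁻¹) * (q.2 * t * q.2⁻¹) = x
  have hcx : Nat.card (Subgroup.centralizer ({x} : Set G)) = Nat.card A := by rw [hA x hx hx1]
  have h1 : T.card =
      (Finset.univ.filter fun s : G => IsConj (t * (s * t * s⁻¹)) x).card * Nat.card A := by
    have e1 : T.card = ∑ s : G,
        (Finset.univ.filter fun g : G => g * (t * (s * t * s⁻¹)) * g⁻¹ = x).card := by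
      rw [← Finset.card_sigma]
      refine Finset.card_bij' (fun q _ => ⟨q.1⁻¹ * q.2, q.1⟩) (fun q _ => (q.2, q.2 * q.1))
        (fun q hq => ?_) (fun q hq => ?_) (fun q _ => by simp) (fun q _ => by simp)
      · refine Finset.mem_sigma.2 ⟨Finset.mem_univ _, Finset.mem_filter.2 ⟨Finset.mem_univ _, ?_⟩⟩
        rw [← (Finset.mem_filter.1 hq).2]; group
      · refine Finset.mem_filter.2 ⟨Finset.mem_univ _, ?_⟩
        rw [← (Finset.mem_filter.1 (Finset.mem_sigma.1 hq).2).2]; group
    rw [e1, Finset.sum_congr rfl (g := fun s => if IsConj (t * (s * t * s⁻¹)) x then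
        Nat.card (Subgroup.centralizer ({t * (s * t * s⁻¹)} : Set G)) else 0)
        fun s _ => by rw [CfsgLib.Transfer.card_conj_filter]; split_ifs <;> rfl,
      ← Finset.sum_filter, Finset.card_eq_sum_ones, Finset.sum_mul]
    refine Finset.sum_congr rfl fun s hs => ?_
    rw [one_mul, ← hcx]
    obtain ⟨g, hg⟩ := isConj_iff.1 (Finset.mem_filter.1 hs).2
    rw [← hg]
    exact (CfsgLib.Transfer.card_centralizer_conj g _).symm
  have h2 : T.card = c ^ 2 * Nat.card A := by
    have e2 : T.card = ∑ g : G,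
        (Finset.univ.filter fun h : G => h * t * h⁻¹ = (g * t * g⁻¹)⁻¹ * x).card := by
      rw [← Finset.card_sigma]
      refine Finset.card_bij' (fun q _ => ⟨q.1, q.2⟩) (fun q _ => (q.1, q.2))
        (fun q hq => ?_) (fun q hq => ?_) (fun q _ => rfl) (fun q _ => rfl)
      · refine Finset.mem_sigma.2 ⟨Finset.mem_univ _, Finset.mem_filter.2 ⟨Finset.mem_univ _, ?_⟩⟩
        exact eq_inv_mul_of_mul_eq (Finset.mem_filter.1 hq).2
      · refine Finset.mem_filter.2 ⟨Finset.mem_univ _, ?_⟩
        exact mul_eq_of_eq_inv_mul (Finset.mem_filter.1 (Finset.mem_sigma.1 hq).2).2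
    rw [e2, Finset.sum_congr rfl (g := fun g => if IsConj t ((g * t * g⁻¹)⁻¹ * x) then c else 0)
        fun g _ => by rw [CfsgLib.Transfer.card_conj_filter]; split_ifs <;> rfl,
      ← Finset.sum_filter, Finset.sum_const, smul_eq_mul]
    have hfil : (Finset.univ.filter fun g : G => IsConj t ((g * t * g⁻¹)⁻¹ * x)) =
        Finset.univ.filter fun g : G => g * t * g⁻¹ ∈
          (Finset.univ.filter fun u : G => ∃ a ∈ A, u = a * t) := by
      refine Finset.filter_congr fun g _ => ?_
      simp only [Finset.mem_filter, Finset.mem_univ, true_and, ← hU]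
      exact ⟨fun h => ⟨isConj_iff.2 ⟨g, rfl⟩, h⟩, And.right⟩
    rw [hfil, Finset.card_eq_sum_card_fiberwise
      (s := Finset.univ.filter fun g : G => g * t * g⁻¹ ∈
          (Finset.univ.filter fun u : G => ∃ a ∈ A, u = a * t))
      (f := fun g : G => g * t * g⁻¹) (t := Finset.univ.filter fun u : G => ∃ a ∈ A, u = a * t)
      (fun g hg => (Finset.mem_filter.1 hg).2), Finset.sum_congr rfl fun u hu => ?_,
      Finset.sum_const, smul_eq_mul (a := (Finset.univ.filter fun u : G => ∃ a ∈ A, u = a * t).card)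
      (b := c)]
    · have hcardU : (Finset.univ.filter fun u : G => ∃ a ∈ A, u = a * t).card = Nat.card A := by
        rw [Nat.card_eq_fintype_card, ← Finset.card_univ]
        exact (Finset.card_bij (fun (a : A) _ => (a : G) * t)
          (fun a _ => Finset.mem_filter.2 ⟨Finset.mem_univ _, a, a.2, rfl⟩)
          (fun a _ b _ h => Subtype.ext (mul_right_cancel h))
          (fun u hu => by
            obtain ⟨a, ha, rfl⟩ := (Finset.mem_filter.1 hu).2
            exact ⟨⟨a, ha⟩, Finset.mem_univ _, rfl⟩)).symm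
      rw [hcardU]; ring
    · rw [Finset.filter_filter, Finset.filter_congr (q := fun g : G => g * t * g⁻¹ = u) fun g _ =>
        and_iff_right_of_imp fun h => h ▸ hu, CfsgLib.Transfer.card_conj_filter,
        if_pos ((hU u).2 (Finset.mem_filter.1 hu).2).1]
  exact Nat.eq_of_mul_eq_mul_right Nat.card_pos (h1.symm.trans h2)

variable {p : ℕ} [hpf : Fact p.Prime]

/-- The sum over pairs for an involution in a simple group with self-centralizing Sylow subgroup
of order `p`, tested against a list of targets. -/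
theorem involPossible_of_mem [IsSimpleGroup G] (hG : ¬ IsMulCommutative G) {n : ℕ}
    (hn : Nat.card G = n) {B : ℕ} (hB : n < B * B) (h1 : p ∣ n) (h2 : ¬ p ^ 2 ∣ n)
    (P : Sylow p G) (hC : Nat.card (Subgroup.centralizer ((P : Subgroup G) : Set G)) = p) {np e : ℕ}
    (hnp : Nat.card (Sylow p G) = np)
    (he : (Subgroup.centralizer ((P : Subgroup G) : Set G)).relIndex
      (Subgroup.normalizer ((P : Subgroup G) : Set G)) = e) {x u : G}
    (hx : x ∈ (P : Subgroup G)) (hx1 : x ≠ 1) (hu : orderOf u = 2) (hp2 : p ≠ 2) {N : ℕ}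
    (hN : Nat.card {s : G // IsConj (u * (s * u * s⁻¹)) x} = N) (targets : List (ℤ × ℕ))
    {K : ℕ} (hK : Nat.card (Subgroup.centralizer ({u} : Set G)) ≤ K)
    (hmem : ((N : ℤ), K) ∈ targets) : involPossible n p B np e targets = true := by
  classical
  subst hn
  have := Fintype.ofFinite G
  have := Fintype.ofFinite (IrrCharacter G)
  have hp : p.Prime := hpf.out
  have hperf := CfsgLib.Transfer.commutator_eq_top_of_simple hG
  have hP : Nat.card P = p := CfsgLib.Transfer.card_sylow_eq_prime P h1 h2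
  obtain ⟨M, hM⟩ := BlockB.exists_isPModular (p := p) hp
  have := isPrime_of_pmodular hM
  obtain ⟨e', t, d₀, σ, CF, YF, ε, D⟩ := exists_rows hperf hM P hP
  obtain rfl : e' = e := D.e_eq.symm.trans he
  have he2 := D.e_two
  have hte := D.hte
  have hdiv : (p - 1) / e' = t := by
    rw [show p - 1 = t * e' by omega, Nat.mul_div_cancel _ (by omega)]
  have hxo : orderOf x = p := by
    have h := Subgroup.orderOf_dvd_natCard (P : Subgroup G) hx
    rw [hP] at h
    exact ((Nat.dvd_prime hp).1 h).resolve_left fun h' => hx1 (orderOf_eq_one_iff.1 h')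
  have hCx : Nat.card (Subgroup.centralizer ({x} : Set G)) = p := by
    rw [BrauerReynolds.centralizer_mem_eq P hP hx hx1, hC]
  have hreg : ¬ p ∣ orderOf u := fun h => by
    rw [hu] at h
    exact hp2 ((Nat.prime_dvd_prime_iff_eq hp Nat.prime_two).1 h)
  let one : IrrCharacter G := ⟨fun _ => 1, Char.isIrrCharacter_one⟩
  have hdeg2 : ∀ φ : IrrCharacter G, φ ≠ one → 2 ≤ charDegree (φ : G → ℂ) := fun φ hφ => by
    have h0 : 0 < charDegree (φ : G → ℂ) := BlockB.irr_degree_pos φ
    by_contra hlt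
    refine hφ (Subtype.ext (BrauerReynolds.eq_one_of_degree_one hperf φ ?_))
    rw [← BlockB.irr_degree_cast φ, show charDegree (φ : G → ℂ) = 1 by omega, Nat.cast_one]
  have hdvd : ∀ φ : IrrCharacter G, charDegree (φ : G → ℂ) ∣ Nat.card G :=
    BlockB.irr_degree_dvd_card
  have hidx : (Subgroup.centralizer ({x} : Set G)).index = np * e' := by
    rw [BrauerReynolds.centralizer_mem_eq P hP hx hx1, BrauerReynolds.index_centralizer, he, hnp,
      mul_comm]
  have hsumsq : ∑ φ : IrrCharacter G, charDegree (φ : G → ℂ) * charDegree (φ : G → ℂ) =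
      Nat.card G := by
    have h := CfsgLib.Char.sum_irr_sq (G := G)
    simp only [← BlockB.irr_degree_cast, pow_two] at h
    exact_mod_cast h
  have hlt : ∀ φ : IrrCharacter G, charDegree (φ : G → ℂ) < B := fun φ => by
    by_contra hle
    push Not at hle
    have h := Nat.mul_le_mul hle hle
    have h' : charDegree (φ : G → ℂ) * charDegree (φ : G → ℂ) ≤ Nat.card G := by
      rw [← hsumsq]
      exact Finset.single_le_sum (f := fun φ : IrrCharacter G =>
        charDegree (φ : G → ℂ) * charDegree (φ : G → ℂ)) (fun _ _ => Nat.zero_le _)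
        (Finset.mem_univ φ)
    omega
  -- values at `u`
  have hq : ∀ φ : IrrCharacter G, ∃ a : ℤ, (φ : G → ℂ) u = (a : ℂ) ∧
      (φ ≠ one → a ∈ qRange (charDegree (φ : G → ℂ))) := fun φ => by
    by_cases hφ : φ = one
    · exact ⟨1, by simp [hφ, one], fun h => absurd hφ h⟩
    · obtain ⟨a, ha, hau⟩ := exists_mem_qRange hperf φ hu
        (fun g hg => CfsgLib.Transfer.irr_apply_ne_apply_one φ (fun h => hφ (Subtype.ext h)) hg)
        fun hcen => by
          rcases IsSimpleGroup.eq_bot_or_eq_top_of_normal (Subgroup.center G) inferInstance with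
            hc | hc
          · rw [hc, Subgroup.mem_bot] at hcen; rw [hcen, orderOf_one] at hu; omega
          · exact hG ⟨⟨fun a b => Subgroup.mem_center_iff.1 (hc.ge (Subgroup.mem_top b)) a⟩⟩
      exact ⟨a, hau, fun _ => ha⟩
  choose q hqval hqmem using hq
  let f : IrrCharacter G → ℕ × Bool := fun φ => (charDegree (φ : G → ℂ), decide (ε φ = 1))
  have hsgn : ∀ φ ∈ CF, sgn (f φ) = ε φ := fun φ hφ => by
    rcases D.eps_pm φ hφ with h | h <;> simp [sgn, f, h]
  have hcand : ∀ φ ∈ CF.erase one,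
      f φ ∈ cands (Nat.card G) (np * e') p B false (fun _ => true) := by
    intro φ hφ
    obtain ⟨hφ1, hφC⟩ := Finset.mem_erase.1 hφ
    set d := charDegree (φ : G → ℂ) with hd
    have hd2 : 2 ≤ d := hdeg2 φ hφ1
    have hdn : Nat.card G % d = 0 := Nat.mod_eq_zero_of_dvd (hdvd φ)
    have hM' : (np * e') % d = 0 := Nat.mod_eq_zero_of_dvd (hidx ▸
      BrauerReynolds.dvd_of_omega_sum {φ} id x (BlockB.irr_degree_pos φ)
        (fun j hj => by rw [Finset.mem_singleton.1 hj]; exact (BlockB.irr_degree_cast φ).symm)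
        (D.eps_pm φ hφC) (by rw [Finset.sum_singleton]; exact D.CF_val φ hφC x hx hx1))
    have hmod := D.CF_mod φ hφC
    rw [← hd] at hmod
    simp only [cands, List.mem_filter, List.mem_append, List.mem_map, List.mem_range]
    refine ⟨?_, ?_⟩
    · rcases D.eps_pm φ hφC with h | h
      · exact Or.inl ⟨d, hlt φ, Prod.ext rfl (by simp [f, h])⟩
      · exact Or.inr ⟨d, hlt φ, Prod.ext rfl (by simp [f, h])⟩
    · rcases D.eps_pm φ hφC with h | h <;> rw [h] at hmod
      · have hd1 : d % p = 1 := by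
          have h1 : (d : ℤ) % p = (1 : ℤ) % p := Int.modEq_iff_dvd.2 hmod
          rw [Int.emod_eq_of_lt zero_le_one (by exact_mod_cast hp.one_lt)] at h1
          exact_mod_cast h1
        simp [-Nat.card_eq_fintype_card, candOK, f, h, ← hd, hd2, hM', hd1, hdn]
      · have hd1 : d % p = p - 1 := by
          have h1 : (d : ℤ) % p = (-1 : ℤ) % p := Int.modEq_iff_dvd.2 hmod
          have hp1 : (-1 : ℤ) % p = (p : ℤ) - 1 := by
            rw [show (-1 : ℤ) = ((p : ℤ) - 1) + (p : ℤ) * (-1) by ring, Int.add_mul_emod_self_left,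
              Int.emod_eq_of_lt (by have := hp.one_lt; omega) (by omega)]
          rw [hp1] at h1
          have h1' : ((d % p : ℕ) : ℤ) = (p : ℤ) - 1 := by push_cast; exact h1
          omega
        simp [-Nat.card_eq_fintype_card, candOK, f, h, ← hd, hd2, hM', hd1, hdn]
  have hdone : charDegree (one : G → ℂ) = 1 := by
    have h := BlockB.irr_degree_cast one
    simp only [one] at h
    exact_mod_cast h
  have hqone : q one = 1 := by
    have h := hqval one
    simp only [one] at h
    exact_mod_cast h.symm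
  have hmsum : ∀ g : IrrCharacter G → ℤ,
      ∑ φ ∈ CF.erase one, g φ = ((CF.erase one).val.map g).sum := fun g => rfl
  have hsplit : ∀ g : IrrCharacter G → ℤ,
      ∑ φ ∈ CF, g φ = g one + ∑ φ ∈ CF.erase one, g φ := fun g =>
    (Finset.add_sum_erase _ _ D.one_mem).symm
  have htot : 1 + ∑ φ ∈ CF.erase one, (f φ).1 * (f φ).1 +
      (if t = 1 then 0 else t * (d₀ * d₀)) ≤ Nat.card G := by
    rw [← hsumsq]
    refine le_trans (le_of_eq ?_) (Finset.sum_le_univ_sum_of_nonneg
      (s := CF ∪ YF) fun _ => Nat.zero_le _)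
    rw [Finset.sum_union D.disj, ← Finset.add_sum_erase _ _ D.one_mem, hdone,
      Finset.sum_congr rfl (g := fun _ => d₀ * d₀) (s₁ := YF) fun φ hφ => by rw [D.YF_deg φ hφ],
      Finset.sum_const, D.card_YF, smul_eq_mul]
    split_ifs <;> simp [f, one]
  have hcard : (CF.erase one).card = if t = 1 then p - 1 else e' - 1 := by
    rw [Finset.card_erase_of_mem D.one_mem, D.card_CF]
    split_ifs <;> rfl
  obtain ⟨l, hl, hlmap⟩ := sols_sound f _ (CF.erase one) 0 hcand (n := Nat.card G) (by omega)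
  obtain ⟨r, hr, hrmap⟩ := assign_sound f q l (CF.erase one).val
    (fun φ hφ => hqmem φ (Finset.ne_of_mem_erase hφ)) hlmap
  have hlsum : ∀ g : ℕ × Bool → ℤ, (l.map g).sum = ∑ φ ∈ CF.erase one, g (f φ) := fun g => by
    rw [← Multiset.sum_coe, ← Multiset.map_coe, ← hlmap, Multiset.map_map]; rfl
  have hrsum : ∀ g : (ℕ × Bool) × ℤ → ℤ,
      (r.map g).sum = ∑ φ ∈ CF.erase one, g (f φ, q φ) := fun g => by
    rw [← Multiset.sum_coe, ← Multiset.map_coe, ← hrmap, Multiset.map_map]; rfl
  have hlsq : (l.map fun a => a.1 * a.1).sum = ∑ φ ∈ CF.erase one, (f φ).1 * (f φ).1 := by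
    rw [← Multiset.sum_coe, ← Multiset.map_coe, ← hlmap, Multiset.map_map]; rfl
  have hA : 1 + (r.map fun a => sgn a.1 * a.2).sum = ∑ φ ∈ CF, ε φ * q φ := by
    rw [hrsum, hsplit, D.eps_one, hqone, one_mul]
    exact congrArg _ (Finset.sum_congr rfl fun φ hφ => by rw [hsgn φ (Finset.mem_of_mem_erase hφ)])
  have hE : (Nat.card G : ℤ) +
      (r.map fun a => sgn a.1 * a.2 * a.2 * ((Nat.card G / a.1.1 : ℕ) : ℤ)).sum =
      ∑ φ ∈ CF, ε φ * q φ * q φ * ((Nat.card G / charDegree (φ : G → ℂ) : ℕ) : ℤ) := by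
    rw [hrsum, hsplit, D.eps_one, hqone, hdone, Nat.div_one, one_mul, one_mul, one_mul]
    exact congrArg _ (Finset.sum_congr rfl fun φ hφ => by rw [hsgn φ (Finset.mem_of_mem_erase hφ)])
  have hD : 1 + (l.map fun a => sgn a * (a.1 : ℤ)).sum =
      if t = 1 then 0 else σ * d₀ := by
    rw [← D.deg_eq, hlsum, hsplit, D.eps_one, hdone, Nat.cast_one, one_mul]
    exact congrArg _ (Finset.sum_congr rfl fun φ hφ => by rw [hsgn φ (Finset.mem_of_mem_erase hφ)])
  -- the class sum
  have hexp : (p : ℂ) * (N : ℂ) = ∑ φ ∈ CF ∪ YF, (Nat.card G : ℂ) * (φ : G → ℂ) u *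
      (φ : G → ℂ) u / (φ : G → ℂ) 1 * conj ((φ : G → ℂ) x) := by
    have hS : ∑ s : G, ∑ φ : IrrCharacter G, (φ : G → ℂ) (u * (s * u * s⁻¹)) *
        conj ((φ : G → ℂ) x) = (p : ℂ) * (N : ℂ) := by
      rw [Finset.sum_congr rfl (g := fun s => if IsConj (u * (s * u * s⁻¹)) x then
          (Nat.card (Subgroup.centralizer ({u * (s * u * s⁻¹)} : Set G)) : ℂ) else 0)
          fun s _ => by rw [Char.column_orthogonality]; split_ifs <;> rfl, ← Finset.sum_filter,
        Finset.sum_congr rfl (g := fun _ => (p : ℂ)) fun s hs => ?_, Finset.sum_const,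
        nsmul_eq_mul, ← hN, Nat.card_eq_fintype_card, Fintype.card_subtype, mul_comm]
      obtain ⟨g, hg⟩ := isConj_iff.1 (Finset.mem_filter.1 hs).2
      rw [← hCx, ← hg, CfsgLib.Transfer.card_centralizer_conj]
    rw [← hS, Finset.sum_comm, ← Finset.sum_subset (Finset.subset_univ (CF ∪ YF))]
    · refine Finset.sum_congr rfl fun φ _ => ?_
      rw [← Finset.sum_mul, BlockB.sum_irr_mul_conj φ u u]
    · intro φ _ hφ
      have hzero : (φ : G → ℂ) x = 0 := by
        have hcol := Char.column_orthogonality x x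
        rw [if_pos (IsConj.refl x), hCx] at hcol
        have hB := (principal_section hM ⟨1, by rw [pow_one, hxo]⟩
          (hasNormalPComplement_centralizer P hP hx hx1)).2
        rw [hCx, hp.factorization_self, pow_one,
          finsum_mem_eq_finite_toFinset_sum _ (Set.toFinite _),
          Finset.sum_congr (show (Set.toFinite (principalBlock M G)).toFinset = CF ∪ YF by
            ext ψ; simp [D.mem ψ]) fun _ _ => rfl] at hB
        rw [← Finset.sum_add_sum_compl (CF ∪ YF), hB, add_eq_left] at hcol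
        have hre : ∑ ψ ∈ (CF ∪ YF)ᶜ, Complex.normSq ((ψ : G → ℂ) x) = 0 := by
          have := congrArg Complex.re hcol
          simpa [Complex.mul_conj] using this
        exact Complex.normSq_eq_zero.1 ((Finset.sum_eq_zero_iff_of_nonneg fun ψ _ =>
          Complex.normSq_nonneg _).1 hre φ (Finset.mem_compl.2 hφ))
      simp [hzero]
  have hdiv' : ∀ φ : IrrCharacter G, ((Nat.card G / charDegree (φ : G → ℂ) : ℕ) : ℂ) =
      (Nat.card G : ℂ) / (φ : G → ℂ) 1 := fun φ => by
    rw [Nat.cast_div (hdvd φ) (Nat.cast_ne_zero.2 (BlockB.irr_degree_pos φ).ne'),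
      BlockB.irr_degree_cast]
  have hnorm : ∀ T : Finset (IrrCharacter G), ∀ g : IrrCharacter G → ℤ,
      (∀ φ ∈ T, (φ : G → ℂ) u = (g φ : ℂ)) → ∑ φ ∈ T, g φ * g φ ≤ (K : ℤ) := fun T g hg => by
    have hcol := Char.column_orthogonality u u
    rw [if_pos (IsConj.refl u), ← Finset.sum_add_sum_compl T] at hcol
    have hre := congrArg Complex.re hcol
    simp only [Complex.add_re, Complex.re_sum, Complex.mul_conj, Complex.ofReal_re,
      Complex.natCast_re] at hre
    have hge : (0 : ℝ) ≤ ∑ φ ∈ Tᶜ, Complex.normSq ((φ : G → ℂ) u) :=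
      Finset.sum_nonneg fun φ _ => Complex.normSq_nonneg _
    have hT : ∑ φ ∈ T, Complex.normSq ((φ : G → ℂ) u) = ((∑ φ ∈ T, g φ * g φ : ℤ) : ℝ) := by
      rw [Int.cast_sum]
      refine Finset.sum_congr rfl fun φ hφ => ?_
      rw [hg φ hφ, ← Complex.ofReal_intCast, Complex.normSq_ofReal, Int.cast_mul]
    have h2 : ((∑ φ ∈ T, g φ * g φ : ℤ) : ℝ) ≤ (K : ℝ) := by
      have h3 : ((Nat.card (Subgroup.centralizer ({u} : Set G)) : ℕ) : ℝ) ≤ (K : ℝ) := by
        exact_mod_cast hK
      linarith
    exact_mod_cast h2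
  have hQ : 1 + (r.map fun a => a.2 * a.2).sum = ∑ φ ∈ CF, q φ * q φ := by
    rw [hrsum, hsplit, hqone, one_mul]
  have hCFsum : ∑ φ ∈ CF, (Nat.card G : ℂ) * (φ : G → ℂ) u * (φ : G → ℂ) u / (φ : G → ℂ) 1 *
      conj ((φ : G → ℂ) x) =
      ((∑ φ ∈ CF, ε φ * q φ * q φ * ((Nat.card G / charDegree (φ : G → ℂ) : ℕ) : ℤ) : ℤ) : ℂ) := by
    rw [Int.cast_sum]
    refine Finset.sum_congr rfl fun φ hφ => ?_
    rw [D.CF_val φ hφ x hx hx1, map_intCast, hqval, Int.cast_mul, Int.cast_mul, Int.cast_mul,
      Int.cast_natCast, hdiv' φ]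
    ring
  simp only [involPossible, hdiv, List.any_eq_true]
  refine ⟨l, by rwa [← hcard], ?_⟩
  by_cases ht : t = 1
  · refine ⟨(0, 1), ?_, r, hr, ?_⟩
    · simp only [excData, if_pos ht, hD]
      rw [if_pos ⟨trivial, by rw [hlsq]; omega⟩]
      simp
    · have hY : YF = ∅ := Finset.card_eq_zero.1 (by rw [D.card_YF, if_pos ht])
      simp only [testOne, reduceIte, Bool.and_eq_true, decide_eq_true_eq, List.any_eq_true]
      refine ⟨?_, ((N : ℤ), K), hmem, ?_, ?_⟩
      · rw [hA]
        have h := D.relation_one ht u hreg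
        rw [Finset.sum_congr rfl fun φ _ => by rw [hqval φ]] at h
        exact_mod_cast h
      · rw [hE]
        rw [Finset.sum_union D.disj, hY, Finset.sum_empty, add_zero, hCFsum] at hexp
        exact_mod_cast hexp.symm
      · rw [hQ]
        exact hnorm CF q fun φ _ => hqval φ
  · have ht' := D.d₀_mod ht
    rw [if_neg ht] at hD htot
    obtain ⟨η, hη⟩ : YF.Nonempty := Finset.card_pos.1 (by
      rw [D.card_YF, if_neg ht]
      rcases Nat.eq_zero_or_pos t with h0 | h0
      · rw [h0, zero_mul, zero_add] at hte; exact absurd hte.symm hp.ne_one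
      · exact h0)
    have hη1 : η ≠ one := fun h =>
      Finset.disjoint_left.1 D.disj D.one_mem (h ▸ hη : one ∈ YF)
    have hd0 : charDegree (η : G → ℂ) = d₀ := D.YF_deg η hη
    have hd02 : 2 ≤ d₀ := hd0 ▸ hdeg2 η hη1
    have hM0 : (np * e') % d₀ = 0 := Nat.mod_eq_zero_of_dvd (hidx ▸
      BrauerReynolds.dvd_of_omega_sum YF id x (by omega)
        (fun j hj => by rw [← D.YF_deg j hj]; exact (BlockB.irr_degree_cast j).symm)
        (σ := -σ) (by rcases D.sign with h | h <;> simp [h]) (D.YF_sum ht x hx hx1))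
    have hexc : excOK (Nat.card G) (np * e') p false (fun _ => true) d₀ = true := by
      have hdn : Nat.card G % d₀ = 0 := hd0 ▸ Nat.mod_eq_zero_of_dvd (hdvd η)
      simp [-Nat.card_eq_fintype_card, excOK, hd02, hdn, hM0]
    refine ⟨(d₀, σ), ?_, r, hr, ?_⟩
    · simp only [excData, if_neg ht, hD, List.mem_flatMap, List.mem_filter, List.mem_range]
      refine ⟨d₀, ⟨hd0 ▸ hlt η, by rw [hexc, Bool.true_and, decide_eq_true_eq, hlsq]; omega⟩, ?_⟩
      rcases D.sign with hs | hs <;> subst hs
      · rw [mul_one] at ht'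
        have h1 : (d₀ : ℤ) % p = (e' : ℤ) % p := Int.modEq_iff_dvd.2 ht'
        rw [if_pos ⟨one_mul _, by exact_mod_cast h1⟩]
        simp
      · have h1 : (d₀ + e') % p = 0 := Nat.mod_eq_zero_of_dvd (Int.natCast_dvd_natCast.1 (by
          have h := ht'.neg_right
          push_cast
          simpa [add_comm] using h))
        rw [if_pos (show (-1 : ℤ) * (d₀ : ℤ) = -(d₀ : ℤ) ∧ _ from ⟨by ring, h1⟩)]
        simp
    · simp only [testOne, show ¬ d₀ = 0 by omega, if_false, List.any_eq_true, Bool.and_eq_true,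
        decide_eq_true_eq]
      refine ⟨((N : ℤ), K), hmem, ?_⟩
      rw [hA, hE, hQ]
      set A := ∑ φ ∈ CF, ε φ * q φ
      have hY : ∀ φ ∈ YF, (φ : G → ℂ) u = ((σ * A : ℤ) : ℂ) := fun φ hφ => by
        have h := D.relation ht φ hφ u hreg
        rw [Finset.sum_congr rfl fun ψ _ => by rw [hqval ψ]] at h
        have hσ : (σ : ℂ) * (σ : ℂ) = 1 := by rcases D.sign with h | h <;> simp [h]
        push_cast [A]
        rw [h, ← mul_assoc, hσ, one_mul]
      have hQle : (∑ φ ∈ CF, q φ * q φ) + (t : ℤ) * (A * A) ≤ (K : ℤ) := by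
        have h := hnorm (CF ∪ YF) q fun φ _ => hqval φ
        rw [Finset.sum_union D.disj, Finset.sum_congr rfl (g := fun _ => A * A) (s₁ := YF)
          fun φ hφ => by
            have h' : q φ = σ * A := by exact_mod_cast (hqval φ).symm.trans (hY φ hφ)
            rcases D.sign with hs | hs <;> rw [h', hs] <;> ring,
          Finset.sum_const, D.card_YF, if_neg ht, nsmul_eq_mul] at h
        exact h
      refine ⟨?_, hQle⟩
      have hYsum : ∑ φ ∈ YF, (Nat.card G : ℂ) * (φ : G → ℂ) u * (φ : G → ℂ) u / (φ : G → ℂ) 1 *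
          conj ((φ : G → ℂ) x) =
          ((-(σ * (A * A) * ((Nat.card G / d₀ : ℕ) : ℤ)) : ℤ) : ℂ) := by
        rw [Finset.sum_congr rfl (g := fun φ : IrrCharacter G =>
          (((σ * A) * (σ * A) * ((Nat.card G / d₀ : ℕ) : ℤ) : ℤ) : ℂ) * conj ((φ : G → ℂ) x))
          fun φ hφ => by
            rw [hY φ hφ, Int.cast_mul, Int.cast_mul, Int.cast_natCast, ← D.YF_deg φ hφ, hdiv' φ]
            push_cast
            ring,
          ← Finset.mul_sum, ← map_sum, D.YF_sum ht x hx hx1, map_intCast, ← Int.cast_mul]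
        congr 1
        rcases D.sign with h | h <;> rw [h] <;> ring
      rw [Finset.sum_union D.disj, hCFsum, hYsum, ← Int.cast_add] at hexp
      have h : (p : ℤ) * N =
          (∑ φ ∈ CF, ε φ * q φ * q φ * ((Nat.card G / charDegree (φ : G → ℂ) : ℕ) : ℤ)) +
            -(σ * (A * A) * ((Nat.card G / d₀ : ℕ) : ℤ)) := by exact_mod_cast hexp
      linarith

end CfsgLib.ClassK.RowInvolution
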