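import Cfsg.Agent.Lib.ClassK.RowSieve
import Cfsg.Agent.Lib.ClassK.RowInvolution
import Cfsg.Agent.Lib.ClassK.SmallOrders
import Cfsg.Agent.Lib.Transfer.SimpleCount
import Cfsg.Agent.Lib.Transfer.ExcSimple
import Cfsg.Agent.Lib.Char.Column
import Cfsg.Agent.Lib.Char.Diag

/-!
Simple groups of order 2520: the Sylow subgroups of order five and seven, the degree four or six
character, and averages of its values over subgroups.
-/

set_option autoImplicit false

namespace CfsgLib.ClassK.Simple2520

open Subgroup Cfsg
open scoped Classical Pointwise ComplexConjugate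

universe u

variable {G : Type u} [Group G] [Finite G] [IsSimpleGroup G]

theorem nonabelian (h : Nat.card G = 2520) : ¬ IsMulCommutative G :=
  CfsgLib.Transfer.not_isMulCommutative_of_not_prime (by rw [h]; norm_num)

theorem perfect (h : Nat.card G = 2520) : commutator G = ⊤ := by
  rcases IsSimpleGroup.eq_bot_or_eq_top_of_normal (commutator G) inferInstance with h' | h'
  · refine absurd ⟨⟨fun a b => ?_⟩⟩ (nonabelian h)
    have := commutator_mem_commutator (mem_top a) (mem_top b) (H₁ := (⊤ : Subgroup G)) (H₂ := ⊤)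
    rw [← commutator_def, h', mem_bot, commutatorElement_eq_one_iff_mul_comm] at this
    exact this
  · exact h'

/-- A subgroup of index seven identifies the group. -/
theorem iso_of_index_seven (h : Nat.card G = 2520) {H : Subgroup G} (hH : H.index = 7) :
    Nonempty (G ≃* alternatingGroup (Fin 7)) := by
  have hne : H ≠ ⊤ := fun e => by rw [e, index_top] at hH; omega
  obtain ⟨f, hf⟩ := CfsgLib.Transfer.exists_embedding_alternating (nonabelian h) hne
  obtain ⟨f, hf⟩ : ∃ f : G →* alternatingGroup (Fin 7), Function.Injective f := hH ▸ ⟨f, hf⟩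
  refine ⟨MulEquiv.ofBijective f ?_⟩
  refine ⟨hf, ?_⟩
  have hc : Nat.card G = Nat.card (alternatingGroup (Fin 7)) := by
    rw [h, nat_card_alternatingGroup, Nat.card_eq_fintype_card, Fintype.card_fin]
    rfl
  exact ((Nat.bijective_iff_injective_and_card f).2 ⟨hf, hc⟩).2

/-- With no subgroup of index seven, proper subgroups have order at most 315. -/
theorem card_le (h : Nat.card G = 2520) (h7 : ∀ H : Subgroup G, H.index ≠ 7) {H : Subgroup G}
    (hH : H ≠ ⊤) : Nat.card H ≤ 315 := by
  have hd := CfsgLib.Transfer.two_mul_card_dvd_factorial (nonabelian h) hH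
  have hm := H.card_mul_index
  rw [h] at hd hm
  have h7' := h7 H
  have h8 : 8 ≤ H.index := by
    by_contra hlt
    revert hd h7'
    generalize H.index = i at hlt
    have : i ≤ 7 := by omega
    interval_cases i <;> norm_num [Nat.factorial]
  nlinarith

omit [Finite G] [IsSimpleGroup G] in
theorem card_centralizer_conj (g : G) (S : Set G) :
    Nat.card (centralizer ((fun a => g * a * g⁻¹) '' S)) = Nat.card (centralizer S) :=
  Nat.card_congr
    { toFun := fun c => ⟨g⁻¹ * (c : G) * g, fun a ha => by
        have h := c.2 (g * a * g⁻¹) ⟨a, ha, rfl⟩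
        calc a * (g⁻¹ * (c : G) * g) = g⁻¹ * (g * a * g⁻¹ * c) * g := by group
          _ = g⁻¹ * ((c : G) * (g * a * g⁻¹)) * g := by rw [h]
          _ = g⁻¹ * (c : G) * g * a := by group⟩
      invFun := fun c => ⟨g * (c : G) * g⁻¹, by
        rintro _ ⟨a, ha, rfl⟩
        calc g * a * g⁻¹ * (g * (c : G) * g⁻¹) = g * (a * c) * g⁻¹ := by group
          _ = g * ((c : G) * a) * g⁻¹ := by rw [c.2 a ha]
          _ = g * (c : G) * g⁻¹ * (g * a * g⁻¹) := by group⟩
      left_inv := fun c => Subtype.ext (by group)
      right_inv := fun c => Subtype.ext (by group) }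

/-- The centralizer and normalizer orders of a Sylow subgroup fixed by a sieve. -/
theorem sylow_of_rows (h : Nat.card G = 2520) {p B np e : ℕ} [Fact p.Prime] (hB : 2520 < B * B)
    (hd : p ∣ 2520) (hd2 : ¬ p ^ 2 ∣ 2520) (hc : np * (e * p) = 2520)
    (hf : RowSieve.rowPossible 2520 p B (fun a b => !(decide (a = np) && decide (b = e)))
      (fun _ => true) (fun _ => true) = false) (P : Sylow p G) :
    Nat.card (centralizer ((P : Subgroup G) : Set G)) = p ∧
      Nat.card (normalizer ((P : Subgroup G) : Set G)) = e * p := by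
  have hex : ∃ Q : Sylow p G, Nat.card (Sylow p G) = np ∧
      (centralizer ((Q : Subgroup G) : Set G)).relIndex
        (normalizer ((Q : Subgroup G) : Set G)) = e := by
    by_contra hne
    exact RowSieve.false_of_rowPossible' (nonabelian h) h hB hd hd2 _
      (fun Q => by
        simp only [Bool.not_eq_true', Bool.and_eq_false_iff, decide_eq_false_iff_not]
        exact not_and_or.1 fun h' => hne ⟨Q, h'⟩) (fun _ => true) (fun _ _ => rfl) hf
  obtain ⟨Q, hn, he⟩ := hex
  have hcQ := RowSieve.card_config Q
  rw [hn, he, h, ← hc] at hcQ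
  have hpos : 0 < np * e := Nat.pos_of_ne_zero fun h0 => by rw [← mul_assoc, h0] at hc; omega
  have hCQ : Nat.card (centralizer ((Q : Subgroup G) : Set G)) = p :=
    Nat.eq_of_mul_eq_mul_left hpos (by rw [mul_assoc, hcQ, mul_assoc])
  obtain ⟨g, rfl⟩ := MulAction.exists_smul_eq G Q P
  constructor
  · refine Eq.trans ?_ hCQ
    rw [← card_centralizer_conj g ((Q : Subgroup G) : Set G)]
    refine congrArg (fun S : Set G => Nat.card (centralizer S)) ?_
    rw [Sylow.coe_subgroup_smul, coe_pointwise_smul, ← Set.image_smul]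
    rfl
  · have hi : Nat.card (Sylow p G) =
        (normalizer (((g • Q : Sylow p G) : Subgroup G) : Set G)).index :=
      (g • Q).card_eq_index_normalizer
    have hm := (normalizer (((g • Q : Sylow p G) : Subgroup G) : Set G)).index_mul_card
    rw [← hi, hn, h, ← hc] at hm
    exact Nat.eq_of_mul_eq_mul_left (Nat.pos_of_ne_zero fun h0 => by rw [h0] at hc; omega) hm

theorem sylow_five (h : Nat.card G = 2520) [Fact (Nat.Prime 5)] (P : Sylow 5 G) :
    Nat.card (centralizer ((P : Subgroup G) : Set G)) = 5 ∧
      Nat.card (normalizer ((P : Subgroup G) : Set G)) = 20 :=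
  sylow_of_rows (B := 51) (np := 126) (e := 4) h (by norm_num) (by norm_num) (by norm_num)
    (by norm_num) (by decide +kernel) P

theorem sylow_seven (h : Nat.card G = 2520) [Fact (Nat.Prime 7)] (P : Sylow 7 G) :
    Nat.card (centralizer ((P : Subgroup G) : Set G)) = 7 ∧
      Nat.card (normalizer ((P : Subgroup G) : Set G)) = 21 :=
  sylow_of_rows (B := 51) (np := 120) (e := 3) h (by norm_num) (by norm_num) (by norm_num)
    (by norm_num) (by decide +kernel) P

/-- Elements of order five or seven are self centralizing. -/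
theorem card_centralizer_of_order (h : Nat.card G = 2520) {p : ℕ} (hp : p = 5 ∨ p = 7) {z : G}
    (hz : orderOf z = p) : Nat.card (centralizer ({z} : Set G)) = p := by
  have hpp : p.Prime := by rcases hp with rfl | rfl <;> norm_num
  have : Fact p.Prime := ⟨hpp⟩
  obtain ⟨P, hP⟩ := (IsPGroup.of_card (n := 1) (G := zpowers z)
    (by rw [Nat.card_zpowers, hz, pow_one]) : IsPGroup p _).exists_le_sylow
  have hPc : Nat.card (P : Subgroup G) = p := by
    have := card_sylow_of_exact (a := 1) P (by rw [h]; rcases hp with rfl | rfl <;> norm_num)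
      (by rw [h]; rcases hp with rfl | rfl <;> norm_num)
    rwa [pow_one] at this
  have e : zpowers z = (P : Subgroup G) :=
    eq_of_le_of_card_ge hP (by rw [hPc, Nat.card_zpowers, hz])
  have hc : centralizer ({z} : Set G) = centralizer ((P : Subgroup G) : Set G) := by
    rw [← e, zpowers_eq_closure, centralizer_closure]
  rw [hc]
  rcases hp with rfl | rfl
  exacts [(sylow_five h P).1, (sylow_seven h P).1]

/-- Only the primes two and three occur in the centralizer of an element of order two or three. -/
theorem not_dvd_card_centralizer (h : Nat.card G = 2520) {p : ℕ} (hp : p = 5 ∨ p = 7) {t : G}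
    (ht : orderOf t = 2 ∨ orderOf t = 3) : ¬ p ∣ Nat.card (centralizer ({t} : Set G)) := by
  intro hd
  have : Fact p.Prime := ⟨by rcases hp with rfl | rfl <;> norm_num⟩
  obtain ⟨z, hz⟩ := exists_prime_orderOf_dvd_card' (G := centralizer ({t} : Set G)) p hd
  have hzo : orderOf (z : G) = p := by rw [orderOf_coe, hz]
  have hmem : t ∈ centralizer ({(z : G)} : Set G) :=
    mem_centralizer_singleton_iff.2 (mem_centralizer_singleton_iff.1 z.2).symm
  have h1 := Subgroup.orderOf_dvd_natCard _ hmem
  rw [card_centralizer_of_order h hp hzo] at h1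
  rcases hp with rfl | rfl <;> rcases ht with e | e <;> rw [e] at h1 <;> norm_num at h1

/-- An irreducible character of degree four or six. -/
theorem exists_small_degree (h : Nat.card G = 2520) : ∃ χ : IrrCharacter G,
    (χ : G → ℂ) ≠ (fun _ => 1) ∧
      (charDegree (χ : G → ℂ) = 4 ∨ charDegree (χ : G → ℂ) = 6) := by
  by_contra hno
  have : Fact (Nat.Prime 5) := ⟨by norm_num⟩
  have : Fact (Nat.Prime 7) := ⟨by norm_num⟩
  obtain ⟨M₁, hM₁⟩ := BlockB.exists_isPModular (p := 7) (by norm_num)
  obtain ⟨M₂, hM₂⟩ := BlockB.exists_isPModular (p := 5) (by norm_num)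
  obtain ⟨x, hx⟩ := exists_prime_orderOf_dvd_card' (G := G) 7 (by rw [h]; norm_num)
  obtain ⟨y, hy⟩ := exists_prime_orderOf_dvd_card' (G := G) 5 (by rw [h]; norm_num)
  have hsep : ∀ g : G, 7 ∣ orderOf g → ¬ 5 ∣ orderOf g := by
    intro g h7 h5
    have hg : 0 < orderOf g := orderOf_pos g
    set z := g ^ (orderOf g / 7) with hzdef
    have hz : orderOf z = 7 := by
      rw [hzdef, orderOf_pow' _ (Nat.div_pos (Nat.le_of_dvd hg h7) (by norm_num)).ne',
        Nat.gcd_eq_right (Nat.div_dvd_of_dvd h7), Nat.div_div_self h7 hg.ne']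
    have h1 := Subgroup.orderOf_dvd_natCard (centralizer ({z} : Set G)) (x := g)
      (mem_centralizer_singleton_iff.2 (Commute.self_pow g _).eq)
    rw [card_centralizer_of_order h (Or.inr rfl) hz] at h1
    exact absurd (h5.trans h1) (by norm_num)
  obtain ⟨χ, hχ1, hχ2, hne⟩ := RowDegree.exists_common hM₁ hM₂ hx hy hsep
  have hallow : ∀ φ : IrrCharacter G, (φ : G → ℂ) ≠ (fun _ => 1) →
      (!(decide (charDegree (φ : G → ℂ) = 4) || decide (charDegree (φ : G → ℂ) = 6))) = true :=
    fun φ hφ => by simpa using fun hd => hno ⟨φ, hφ, hd⟩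
  let w : ℕ → Bool := fun d => [8, 15, 24].contains d
  by_cases hw : w (charDegree (χ : G → ℂ)) = true
  · have h' := RowSieve.rowPossible_of_mem (nonabelian h) h (B := 51) (by norm_num) (by norm_num)
      (by norm_num) hM₂ χ hχ2 hne (fun _ _ => true) (fun _ => rfl)
      (fun d => !(decide (d = 4) || decide (d = 6))) (fun φ _ hφ => hallow φ hφ) w hw
    exact absurd h' (by decide +kernel)
  · have h' := RowSieve.rowPossible_of_mem (nonabelian h) h (B := 51) (by norm_num) (by norm_num)
      (by norm_num) hM₁ χ hχ1 hne (fun _ _ => true) (fun _ => rfl)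
      (fun d => !(decide (d = 4) || decide (d = 6))) (fun φ _ hφ => hallow φ hφ)
      (fun d => !(w d)) (by simpa using hw)
    exact absurd h' (by decide +kernel)

end CfsgLib.ClassK.Simple2520
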