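import Cfsg.Agent.Lib.ClassK.Simple2520Local

/-!
Character sums over classes and small subgroups for groups of order 2520.
-/

set_option autoImplicit false

namespace CfsgLib.ClassK.Simple2520

open Subgroup Cfsg
open scoped Classical ComplexConjugate

universe u

section General

variable {G : Type u} [Group G] [Fintype G] {n : ℕ} (ρ : Representation ℂ G (Fin n → ℂ))

/-- The class of `g` as a finite set. -/
noncomputable def cls (g : G) : Finset G := Finset.univ.filter (IsConj g)

theorem mem_cls {g a : G} : a ∈ cls g ↔ IsConj g a := by simp [cls]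

theorem card_cls (g : G) :
    (cls g).card * Nat.card (centralizer ({g} : Set G)) = Nat.card G := by
  rw [← CfsgLib.Transfer.card_isConj_mul_card_centralizer g]
  congr 1
  rw [Nat.card_eq_fintype_card, Fintype.card_subtype, cls]

theorem le_card_cls {g : G} {k : ℕ} (hk : 0 < k)
    (hc : Nat.card (centralizer ({g} : Set G)) ≤ k) : Nat.card G / k ≤ (cls g).card := by
  rw [← card_cls g, Nat.div_le_iff_le_mul_add_pred hk]
  calc (cls g).card * Nat.card (centralizer ({g} : Set G)) ≤ (cls g).card * k := Nat.mul_le_mul_left _ hc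
    _ = k * (cls g).card := mul_comm _ _
    _ ≤ _ := Nat.le_add_right _ _

theorem orderOf_of_mem_cls {g a : G} (h : a ∈ cls g) : orderOf a = orderOf g := by
  obtain ⟨c, rfl⟩ := isConj_iff.1 (mem_cls.1 h)
  rw [show c * g * c⁻¹ = MulAut.conj c g from rfl, MulEquiv.orderOf_eq]

theorem char_of_mem_cls {g a : G} (h : a ∈ cls g) : ρ.character a = ρ.character g := by
  obtain ⟨c, rfl⟩ := isConj_iff.1 (mem_cls.1 h)
  exact Representation.char_conj ρ g c

theorem char_conj_eq (g c : G) : ρ.character (c * g * c⁻¹) = ρ.character g :=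
  Representation.char_conj ρ g c

theorem sum_cls (g : G) : ∑ a ∈ cls g, Complex.normSq (ρ.character a) =
    (cls g).card * Complex.normSq (ρ.character g) := by
  rw [Finset.sum_congr rfl fun a ha => by rw [char_of_mem_cls ρ ha], Finset.sum_const, nsmul_eq_mul]

/-- The norm of an irreducible character. -/
theorem total (hirr : ρ.IsIrreducible) :
    ∑ g : G, Complex.normSq (ρ.character g) = (Nat.card G : ℝ) := by
  have := hirr
  have h := Char.irr_classInner_self (Char.isIrrCharacter_of_rep ρ)
  rw [Char.classInner_def] at h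
  apply Complex.ofReal_injective
  rw [Complex.ofReal_sum, Complex.ofReal_natCast]
  have hne : (Nat.card G : ℂ) ≠ 0 := Nat.cast_ne_zero.2 Nat.card_pos.ne'
  field_simp at h
  rw [← h]
  exact Finset.sum_congr rfl fun g _ => (Complex.mul_conj _).symm

/-- An element outside a set carrying the whole norm has value zero. -/
theorem eq_zero_of_full (hirr : ρ.IsIrreducible) {S : Finset G}
    (hS : (Nat.card G : ℝ) ≤ ∑ g ∈ S, Complex.normSq (ρ.character g)) {g : G} (hg : g ∉ S) :
    ρ.character g = 0 := by
  have h1 : ∑ a ∈ insert g S, Complex.normSq (ρ.character a) ≤ (Nat.card G : ℝ) := by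
    rw [← total ρ hirr]
    exact Finset.sum_le_sum_of_subset_of_nonneg (Finset.subset_univ _)
      fun a _ _ => Complex.normSq_nonneg _
  rw [Finset.sum_insert hg] at h1
  exact Complex.normSq_eq_zero.1 (le_antisymm (by linarith) (Complex.normSq_nonneg _))

theorem sum_le_card (hirr : ρ.IsIrreducible) (S : Finset G) :
    ∑ g ∈ S, Complex.normSq (ρ.character g) ≤ (Nat.card G : ℝ) := by
  rw [← total ρ hirr]
  exact Finset.sum_le_sum_of_subset_of_nonneg (Finset.subset_univ _)
    fun a _ _ => Complex.normSq_nonneg _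

/-- A rational value is an integer. -/
theorem exists_int_value {g : G} {q : ℚ} (h : ρ.character g = (q : ℂ)) :
    ∃ k : ℤ, ρ.character g = (k : ℂ) := by
  obtain ⟨k, hk⟩ := Char.exists_int_of_isIntegral_rat (q := q) (h ▸ Char.char_isIntegral ρ g)
  exact ⟨k, by rw [h, hk]; norm_num⟩

/-- The sum over a subgroup generated by one element. -/
theorem sum_zpowers (g : G) (f : G → ℂ) :
    ∑ a ∈ Finset.univ.filter (· ∈ zpowers g), f a = ∑ i ∈ Finset.range (orderOf g), f (g ^ i) := by
  refine (Finset.sum_bij (fun i _ => g ^ i) (fun i _ => ?_) (fun i hi j hj e => ?_)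
    (fun a ha => ?_) (fun i _ => rfl)).symm
  · simp [pow_mem (mem_zpowers g)]
  · exact pow_injOn_Iio_orderOf (Finset.mem_range.1 hi) (Finset.mem_range.1 hj) e
  · obtain ⟨i, rfl⟩ := (mem_powers_iff_mem_zpowers.2 (Finset.mem_filter.1 ha).2 : a ∈ Submonoid.powers g)
    exact ⟨i % orderOf g, Finset.mem_range.2 (Nat.mod_lt _ (orderOf_pos g)), pow_mod_orderOf g i⟩

/-- The average over a cyclic subgroup. -/
theorem zpowers_avg (g : G) : ∃ k : ℕ, k ≤ n ∧
    ∑ i ∈ Finset.range (orderOf g), ρ.character (g ^ i) = (orderOf g : ℂ) * k := by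
  refine ⟨Module.finrank ℂ (fixSp ρ (zpowers g)), ?_, ?_⟩
  · exact (Submodule.finrank_le _).trans (Module.finrank_fin_fun ℂ).le
  · rw [← sum_zpowers g, sum_filter_char, Nat.card_zpowers]

/-- The average of the squared norm over a cyclic subgroup. -/
theorem zpowers_avg_normSq (g : G) : ∃ k : ℕ,
    ∑ i ∈ Finset.range (orderOf g), Complex.normSq (ρ.character (g ^ i)) = (orderOf g : ℝ) * k := by
  refine ⟨Module.finrank ℂ (fixSp (Representation.linHom ρ ρ) (zpowers g)), ?_⟩
  apply Complex.ofReal_injective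
  rw [Complex.ofReal_sum, Complex.ofReal_mul, Complex.ofReal_natCast, Complex.ofReal_natCast,
    ← Nat.card_zpowers g, ← sum_filter_char, sum_zpowers, Nat.card_zpowers]
  refine Finset.sum_congr rfl fun i _ => ?_
  rw [Representation.char_linHom, Char.char_inv_eq_conj, Complex.normSq_eq_conj_mul_self]

/-- Equal fixed spaces from equal character sums. -/
theorem fix_le_of_sum {H K : Subgroup G} (hle : K ≤ H) {k : ℕ}
    (hH : ∑ g ∈ Finset.univ.filter (· ∈ H), ρ.character g = (Nat.card H : ℂ) * k)
    (hK : ∑ g ∈ Finset.univ.filter (· ∈ K), ρ.character g = (Nat.card K : ℂ) * k) :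
    fixSp ρ K ≤ fixSp ρ H := by
  have hd : ∀ L : Subgroup G, ∑ g ∈ Finset.univ.filter (· ∈ L), ρ.character g = (Nat.card L : ℂ) * k →
      Module.finrank ℂ (fixSp ρ L) = k := fun L hL => by
    rw [sum_filter_char] at hL
    exact_mod_cast mul_left_cancel₀ (Nat.cast_ne_zero.2 Nat.card_pos.ne') hL
  exact (Submodule.eq_of_le_of_finrank_eq (fixSp_anti ρ hle) ((hd H hH).trans (hd K hK).symm)).ge

/-- A subgroup with nonnegative sum and positive degree fixes a vector. -/
theorem exists_fixed_of_sum_ne {H : Subgroup G}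
    (h : ∑ g ∈ Finset.univ.filter (· ∈ H), ρ.character g ≠ 0) :
    ∃ v ∈ fixSp ρ H, v ≠ 0 := by
  refine Submodule.exists_mem_ne_zero_of_ne_bot fun e => h ?_
  rw [sum_filter_char, e, finrank_bot, Nat.cast_zero, mul_zero]

theorem exists_fixed_of_nonneg {H : Subgroup G} (hn : 0 < n)
    (h : ∀ g ∈ H, 0 ≤ (ρ.character g).re) : ∃ v ∈ fixSp ρ H, v ≠ 0 := by
  refine exists_fixed_of_sum_ne ρ fun e => ?_
  have h1 : (ρ.character 1).re ≤ ∑ g ∈ Finset.univ.filter (· ∈ H), (ρ.character g).re :=
    Finset.single_le_sum (f := fun g => (ρ.character g).re)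
      (fun g hg => h g (Finset.mem_filter.1 hg).2) (by simp)
  rw [← Complex.re_sum, e, Representation.char_one, Module.finrank_fin_fun] at h1
  simp at h1
  omega

end General

end CfsgLib.ClassK.Simple2520
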