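import Cfsg.Agent.Lib.ClassK.Simple2520Struct

/-!
The small faithful character of a group of order 2520 without a subgroup of index seven:
its degree is six and its values on elements of order 2, 4, 5 and 7 are forced.
-/

set_option autoImplicit false
set_option linter.unusedSectionVars false

namespace CfsgLib.ClassK.Simple2520

open Subgroup Cfsg
open scoped Classical ComplexConjugate

universe u

variable {G : Type u} [Group G] [Finite G] [IsSimpleGroup G] (X : Ctx G)
include X

theorem Ctx.five_isConj {z z' : G} (hz : orderOf z = 5) (hz' : orderOf z' = 5) : IsConj z z' := by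
  haveI : Fact (Nat.Prime 5) := ⟨by norm_num⟩
  have hS : ∀ a : G, orderOf a = 5 → ∃ P : Sylow 5 G, (P : Subgroup G) = zpowers a := by
    intro a ha
    obtain ⟨P, hP⟩ := (IsPGroup.of_card (n := 1) (G := zpowers a)
      (by rw [Nat.card_zpowers, ha, pow_one]) : IsPGroup 5 _).exists_le_sylow
    have hPc : Nat.card (P : Subgroup G) = 5 ^ 1 :=
      card_sylow_of_exact P (by rw [X.h]; norm_num) (by rw [X.h]; norm_num)
    exact ⟨P, (eq_of_le_of_card_ge hP (by rw [hPc, Nat.card_zpowers, ha]; norm_num)).symm⟩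
  obtain ⟨P, hP⟩ := hS z hz
  obtain ⟨Q, hQ⟩ := hS z' hz'
  obtain ⟨g, hg⟩ := MulAction.exists_smul_eq G P Q
  have h1 : g⁻¹ * z' * g ∈ zpowers z := by
    have h2 : z' ∈ (g • P : Sylow 5 G).toSubgroup := by
      rw [hg, hQ]; exact mem_zpowers z'
    rw [Sylow.coe_subgroup_smul] at h2
    obtain ⟨a, ha, e⟩ := h2
    rw [← e, ← hP]
    simpa [MulAut.conj, mul_assoc, ← SetLike.mem_coe] using ha
  obtain ⟨y, -, hyz⟩ := X.exists_four_normalizing hz
  obtain ⟨i, hi⟩ := (mem_powers_iff_mem_zpowers.2 h1 : g⁻¹ * z' * g ∈ Submonoid.powers z)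
  have hi' : z ^ (i % 5) = g⁻¹ * z' * g := by
    rw [← hi]; exact pow_eq_of_mod hz (Nat.mod_mod i 5)
  have hz'eq : IsConj (z ^ (i % 5)) z' := isConj_iff.2 ⟨g, by rw [hi']; group⟩
  refine IsConj.trans ?_ hz'eq
  have hlt : i % 5 < 5 := Nat.mod_lt _ (by norm_num)
  have h0 : i % 5 ≠ 0 := by
    intro h0
    rw [h0, pow_zero] at hi'
    have : z' = 1 := by
      rw [show z' = g * (g⁻¹ * z' * g) * g⁻¹ by group, ← hi']; group
    rw [this, orderOf_one] at hz'; norm_num at hz'
  interval_cases h : i % 5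
  · exact absurd rfl h0
  · rw [pow_one]
  · exact isConj_iff.2 ⟨y, hyz⟩
  · refine isConj_iff.2 ⟨y ^ 3, ?_⟩
    rw [iter_conj hyz 3]; exact pow_eq_of_mod hz rfl
  · refine isConj_iff.2 ⟨y ^ 2, ?_⟩
    rw [iter_conj hyz 2]; rfl

theorem Ctx.seven_cube {w : G} (hw : orderOf w = 7) :
    ∃ g : G, g * w * g⁻¹ = w ^ 2 ∨ g * w * g⁻¹ = w ^ 4 := by
  haveI : Fact (Nat.Prime 3) := ⟨Nat.prime_three⟩
  obtain ⟨hN, hC⟩ := X.seven_data hw
  obtain ⟨g, hg⟩ := exists_prime_orderOf_dvd_card' (G := normalizer (zpowers w : Set G)) 3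
    (by rw [hN]; norm_num)
  have hg3 : orderOf (g : G) = 3 := by rw [orderOf_coe, hg]
  obtain ⟨k, hk⟩ := X.exists_conj_pow g.2
  refine ⟨g, ?_⟩
  have hk' : (g : G) * w * (g : G)⁻¹ = w ^ (k % 7) :=
    hk.trans (pow_eq_of_mod hw (Nat.mod_mod k 7).symm)
  have h3 := iter_conj hk' 3
  rw [show ((g : G)) ^ 3 = 1 by rw [← hg3, pow_orderOf_eq_one], one_mul, inv_one, mul_one] at h3
  have hmod : ((k % 7) ^ 3) % 7 = 1 := by
    have h4 : w ^ 1 = w ^ ((k % 7) ^ 3) := by rw [pow_one]; exact h3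
    rw [pow_inj_mod, hw] at h4
    simpa using h4.symm
  have hne : k % 7 ≠ 1 := fun h1 => by
    rw [h1, pow_one, mul_inv_eq_iff_eq_mul] at hk'
    have h7 := orderOf_dvd_of_mem_zpowers (hC g hk')
    rw [hg3, hw] at h7; norm_num at h7
  have hlt : k % 7 < 7 := Nat.mod_lt _ (by norm_num)
  rw [hk']
  generalize k % 7 = j at *
  interval_cases j <;> first | exact Or.inl rfl | exact Or.inr rfl | omega | (norm_num at hmod)

theorem Ctx.seven_powers {w : G} (hw : orderOf w = 7) :
    X.R.ρ.character (w ^ 2) = X.R.ρ.character w ∧ X.R.ρ.character (w ^ 4) = X.R.ρ.character w := by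
  obtain ⟨g, hg⟩ := X.seven_cube hw
  have hc : ∀ (c : G) (i : ℕ), c * w * c⁻¹ = w ^ i → X.R.ρ.character (w ^ i) = X.R.ρ.character w := fun c i e =>
    e ▸ Representation.char_conj _ w c
  rcases hg with hg | hg
  · refine ⟨hc g 2 hg, hc (g ^ 2) 4 ?_⟩
    rw [iter_conj hg 2]; rfl
  · refine ⟨hc (g ^ 2) 2 ?_, hc g 4 hg⟩
    rw [iter_conj hg 2]; exact pow_eq_of_mod hw rfl

theorem Ctx.seven_not_conj {w : G} (hw : orderOf w = 7) : ¬ IsConj w w⁻¹ := by
  intro hcj
  obtain ⟨c, hc⟩ := isConj_iff.1 hcj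
  obtain ⟨hN, -⟩ := X.seven_data hw
  have hc6 : c * w * c⁻¹ = w ^ 6 := by
    rw [hc, inv_eq_iff_mul_eq_one, ← pow_succ', show (6 : ℕ) + 1 = orderOf w by rw [hw],
      pow_orderOf_eq_one]
  have hcN : c ∈ normalizer (zpowers w : Set G) := by
    have hz : zpowers (c * w * c⁻¹) = zpowers w := by rw [hc, zpowers_inv]
    rw [mem_normalizer_iff]
    intro a
    conv_rhs => rw [← hz]
    simp only [SetLike.mem_coe, mem_zpowers_iff, conj_zpow, mul_left_inj, mul_right_inj]
  have h21 : orderOf c ∣ 21 := by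
    rw [← hN, ← orderOf_mk c hcN]
    exact orderOf_dvd_natCard _
  have h := iter_conj hc6 21
  rw [orderOf_dvd_iff_pow_eq_one.1 h21, one_mul, inv_one, mul_one] at h
  have h4 : w ^ 1 = w ^ (6 ^ 21) := by rw [pow_one]; exact h
  rw [pow_inj_mod, hw] at h4
  norm_num at h4

/-- The norm inequality. -/
theorem Ctx.count [Fintype G] {t x z w : G} (ht : orderOf t = 2) (hx : orderOf x = 4)
    (hz : orderOf z = 5) (hw : orderOf w = 7) (S : Finset G)
    (hS : ∀ g ∈ S, orderOf g ≠ 1 ∧ orderOf g ≠ 2 ∧ orderOf g ≠ 4 ∧ orderOf g ≠ 5 ∧ orderOf g ≠ 7) :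
    (X.R.d : ℝ) ^ 2 + 105 * Complex.normSq (X.R.ρ.character t) + 210 * Complex.normSq (X.R.ρ.character x)
      + 504 * Complex.normSq (X.R.ρ.character z) + 720 * Complex.normSq (X.R.ρ.character w)
      + ∑ g ∈ S, Complex.normSq (X.R.ρ.character g) ≤ 2520 := by
  have hwi : orderOf w⁻¹ = 7 := by rw [orderOf_inv, hw]
  set A := ({1} : Finset G) ∪ cls t ∪ cls x ∪ cls z ∪ cls w ∪ cls w⁻¹ with hA
  have hord : ∀ a ∈ A, orderOf a = 1 ∨ orderOf a = 2 ∨ orderOf a = 4 ∨ orderOf a = 5 ∨ orderOf a = 7 := by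
    intro a ha
    simp only [hA, Finset.mem_union, Finset.mem_singleton] at ha
    rcases ha with ((((rfl | h) | h) | h) | h) | h
    · exact Or.inl orderOf_one
    all_goals have := orderOf_of_mem_cls h
    · omega
    · omega
    · omega
    · omega
    · omega
  have hdis : Disjoint A S := Finset.disjoint_left.2 fun a ha hb => by
    have := hord a ha; have := hS a hb; omega
  have hle := sum_le_card X.R.ρ X.R.irr (A ∪ S)
  rw [Finset.sum_union hdis, X.h] at hle
  have d1 : Disjoint ({1} : Finset G) (cls t) := by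
    rw [Finset.disjoint_singleton_left]
    intro h; have := orderOf_of_mem_cls h; rw [orderOf_one] at this; omega
  have d2 : Disjoint (({1} : Finset G) ∪ cls t) (cls x) := by
    rw [Finset.disjoint_left]; intro a ha hb
    have h4 := orderOf_of_mem_cls hb
    rcases Finset.mem_union.1 ha with h | h
    · rw [Finset.mem_singleton.1 h, orderOf_one] at h4; omega
    · have := orderOf_of_mem_cls h; omega
  have d3 : Disjoint (({1} : Finset G) ∪ cls t ∪ cls x) (cls z) := by
    rw [Finset.disjoint_left]; intro a ha hb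
    have h5 := orderOf_of_mem_cls hb
    simp only [Finset.mem_union, Finset.mem_singleton] at ha
    rcases ha with (rfl | h) | h
    · rw [orderOf_one] at h5; omega
    all_goals have := orderOf_of_mem_cls h; omega
  have d4 : Disjoint (({1} : Finset G) ∪ cls t ∪ cls x ∪ cls z) (cls w) := by
    rw [Finset.disjoint_left]; intro a ha hb
    have h7 := orderOf_of_mem_cls hb
    simp only [Finset.mem_union, Finset.mem_singleton] at ha
    rcases ha with ((rfl | h) | h) | h
    · rw [orderOf_one] at h7; omega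
    all_goals have := orderOf_of_mem_cls h; omega
  have d5 : Disjoint (({1} : Finset G) ∪ cls t ∪ cls x ∪ cls z ∪ cls w) (cls w⁻¹) := by
    rw [Finset.disjoint_left]; intro a ha hb
    have h7 := orderOf_of_mem_cls hb
    simp only [Finset.mem_union, Finset.mem_singleton] at ha
    rcases ha with (((rfl | h) | h) | h) | h
    · rw [orderOf_one] at h7; omega
    · have := orderOf_of_mem_cls h; omega
    · have := orderOf_of_mem_cls h; omega
    · have := orderOf_of_mem_cls h; omega
    · exact X.seven_not_conj hw ((mem_cls.1 h).trans (mem_cls.1 hb).symm)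
  have hinv : Complex.normSq (X.R.ρ.character w⁻¹) = Complex.normSq (X.R.ρ.character w) := by
    rw [Char.char_inv_eq_conj, Complex.normSq_conj]
  rw [hA, Finset.sum_union d5, Finset.sum_union d4, Finset.sum_union d3, Finset.sum_union d2,
    Finset.sum_union d1, Finset.sum_singleton, X.R.char_one, Complex.normSq_natCast, sum_cls,
    sum_cls, sum_cls, sum_cls, sum_cls, hinv] at hle
  have e1 : (cls t).card = 105 := by
    have := card_cls t
    rw [X.card_centralizer_invol ht, X.h] at this; omega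
  have e2 : 210 ≤ (cls x).card := by
    have := le_card_cls (by norm_num) (X.card_centralizer_four hx)
    rw [X.h] at this; exact this
  have e3 : (cls z).card = 504 := by
    have := card_cls z
    rw [card_centralizer_of_order X.h (Or.inl rfl) hz, X.h] at this; omega
  have e4 : (cls w).card = 360 ∧ (cls w⁻¹).card = 360 := by
    have := card_cls w; have := card_cls w⁻¹
    rw [card_centralizer_of_order X.h (Or.inr rfl) hw, X.h] at *
    rw [card_centralizer_of_order X.h (Or.inr rfl) hwi] at *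
    omega
  rw [e1, e3, e4.1, e4.2] at hle
  have e2' : (210 : ℝ) * Complex.normSq (X.R.ρ.character x) ≤ (cls x).card * Complex.normSq (X.R.ρ.character x) :=
    mul_le_mul_of_nonneg_right (by exact_mod_cast e2) (Complex.normSq_nonneg _)
  push_cast at hle ⊢
  nlinarith

theorem Ctx.value_five {z : G} (hz : orderOf z = 5) :
    ∃ a : ℤ, X.R.ρ.character z = (a : ℂ) ∧ (5 : ℤ) ∣ a - X.R.d := by
  haveI := Fintype.ofFinite G
  obtain ⟨k, -, hk⟩ := zpowers_avg X.R.ρ z
  have hp : ∀ i, i % 5 ≠ 0 → X.R.ρ.character (z ^ i) = X.R.ρ.character z := fun i hi => by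
    refine (X.R.char_isClass (X.five_isConj hz ?_)).symm
    haveI : Fact (Nat.Prime 5) := ⟨by norm_num⟩
    refine orderOf_eq_prime ?_ fun e => ?_
    · rw [← pow_mul, mul_comm, pow_mul, ← hz, pow_orderOf_eq_one, one_pow]
    · rw [← orderOf_dvd_iff_pow_eq_one, hz] at e; omega
  rw [hz] at hk
  simp only [Finset.sum_range_succ, Finset.sum_range_zero, zero_add, pow_zero, X.R.char_one] at hk
  rw [hp 1 (by norm_num), hp 2 (by norm_num), hp 3 (by norm_num), hp 4 (by norm_num)] at hk
  obtain ⟨a, ha⟩ := exists_int_value X.R.ρ (g := z) (q := (5 * k - X.R.d) / 4)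
    (by push_cast at hk ⊢; linear_combination hk / 4)
  refine ⟨a, ha, ⟨a - k, ?_⟩⟩
  rw [ha] at hk
  have h' : (X.R.d : ℤ) + a + a + a + a = 5 * k := by exact_mod_cast hk
  linarith

theorem Ctx.value_seven {w : G} (hw : orderOf w = 7) :
    ∃ s r : ℤ, ∃ k : ℕ, Complex.normSq (X.R.ρ.character w) = (s : ℝ) ∧ (7 : ℤ) ∣ s - (X.R.d : ℤ) ^ 2 ∧
      X.R.ρ.character w + conj (X.R.ρ.character w) = (r : ℂ) ∧ (X.R.d : ℤ) + 3 * r = 7 * k := by
  haveI := Fintype.ofFinite G
  obtain ⟨k, -, hk⟩ := zpowers_avg X.R.ρ w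
  obtain ⟨m, hm⟩ := zpowers_avg_normSq X.R.ρ w
  obtain ⟨h2, h4⟩ := X.seven_powers hw
  have hinv : ∀ i j : ℕ, i + j = 7 → X.R.ρ.character (w ^ j) = conj (X.R.ρ.character (w ^ i)) := fun i j hij => by
    rw [← Char.char_inv_eq_conj]
    congr 1
    rw [eq_inv_iff_mul_eq_one, ← pow_add, add_comm, hij, ← hw, pow_orderOf_eq_one]
  rw [hw] at hk hm
  simp only [Finset.sum_range_succ, Finset.sum_range_zero, zero_add, pow_zero, X.R.char_one] at hk hm
  rw [hinv 1 6 rfl, hinv 2 5 rfl, hinv 4 3 rfl, h2, h4, pow_one] at hk hm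
  simp only [Complex.normSq_conj, Complex.normSq_natCast] at hm
  have hI := Char.char_isIntegral X.R.ρ w
  have hI' : IsIntegral ℤ (conj (X.R.ρ.character w)) := Char.char_inv_eq_conj X.R.ρ w ▸ Char.char_isIntegral X.R.ρ w⁻¹
  have hr : X.R.ρ.character w + conj (X.R.ρ.character w) = (((7 * k - X.R.d : ℚ) / 3 : ℚ) : ℂ) := by
    push_cast at hk ⊢; linear_combination hk / 3
  obtain ⟨r, hr'⟩ := Char.exists_int_of_isIntegral_rat (q := (7 * k - X.R.d : ℚ) / 3)
    (hr ▸ hI.add hI')
  have hs : X.R.ρ.character w * conj (X.R.ρ.character w) = (((7 * m - (X.R.d : ℚ) ^ 2) / 6 : ℚ) : ℂ) := by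
    rw [Complex.mul_conj]
    have : Complex.normSq (X.R.ρ.character w) = (7 * (m : ℝ) - (X.R.d : ℝ) ^ 2) / 6 := by
      push_cast at hm; nlinarith
    rw [this]; push_cast; ring
  obtain ⟨s, hs'⟩ := Char.exists_int_of_isIntegral_rat (q := (7 * m - (X.R.d : ℚ) ^ 2) / 6)
    (hs ▸ hI.mul hI')
  have hns : Complex.normSq (X.R.ρ.character w) = (s : ℝ) := by
    apply Complex.ofReal_injective
    rw [← Complex.mul_conj, hs, hs']; norm_num
  refine ⟨s, r, k, hns, ⟨s - m, ?_⟩, by rw [hr, hr']; norm_num, ?_⟩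
  · have h' : (6 : ℚ) * s = 7 * m - (X.R.d : ℚ) ^ 2 := by rw [← hs']; ring
    have h'' : (6 : ℤ) * s = 7 * m - (X.R.d : ℤ) ^ 2 := by exact_mod_cast h'
    linarith
  · have h' : (3 : ℚ) * r = 7 * k - X.R.d := by rw [← hr']; ring
    have h'' : (3 : ℤ) * r = 7 * k - X.R.d := by exact_mod_cast h'
    linarith

theorem Ctx.sylow_two_fix {t x : G} (ht : orderOf t = 2) (hx : orderOf x = 4) (T : Sylow 2 G) :
    (X.R.d : ℂ) + 5 * X.R.ρ.character t + 2 * X.R.ρ.character x =
      8 * (Module.finrank ℂ (fixSp X.R.ρ (T : Subgroup G)) : ℂ) := by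
  haveI := Fintype.ofFinite G
  haveI : Fact (Nat.Prime 2) := ⟨Nat.prime_two⟩
  obtain ⟨e⟩ := X.dihedral T
  haveI := Fintype.ofFinite (T : Subgroup G)
  have h := sum_char_eq X.R.ρ (T : Subgroup G)
  rw [← e.symm.toEquiv.sum_comp, X.card_sylow_two T] at h
  push_cast at h
  rw [← h]
  have hsq : ∀ d : DihedralGroup 4, d ^ 4 = 1 := by decide
  have hv : ∀ d : DihedralGroup 4, X.R.ρ.character ((e.symm.toEquiv d : (T : Subgroup G)) : G) =
      if d = 1 then (X.R.d : ℂ) else if d ^ 2 = 1 then X.R.ρ.character t else X.R.ρ.character x := by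
    intro d
    show X.R.ρ.character ((e.symm d : (T : Subgroup G)) : G) = _
    have ho : orderOf ((e.symm d : (T : Subgroup G)) : G) = orderOf d := by
      rw [orderOf_coe, MulEquiv.orderOf_eq]
    split_ifs with h1 h2
    · subst h1; simp [X.R.char_one]
    · obtain ⟨g, hg⟩ := X.invol_conj ht
        (ho.trans (orderOf_eq_prime h2 h1))
      rw [← hg]; exact Representation.char_conj _ t g
    · exact (X.R.char_isClass (X.four_conj hx
        (ho.trans (orderOf_eq_prime_pow (p := 2) (n := 1) (by simpa using h2)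
          (by simpa using hsq d))))).symm
  rw [Finset.sum_congr rfl fun d _ => hv d, Finset.sum_ite, Finset.sum_ite, Finset.sum_const,
    Finset.sum_const, Finset.sum_const]
  simp only [Finset.filter_filter, nsmul_eq_mul]
  rw [show (Finset.univ.filter fun d : DihedralGroup 4 => d = 1).card = 1 from by decide +kernel,
    show (Finset.univ.filter fun d : DihedralGroup 4 => ¬d = 1 ∧ d ^ 2 = 1).card = 5 from by
      decide +kernel,
    show (Finset.univ.filter fun d : DihedralGroup 4 => ¬d = 1 ∧ ¬d ^ 2 = 1).card = 2 from by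
      decide +kernel]
  push_cast
  ring

theorem Ctx.sylow_two_sum {t x : G} (ht : orderOf t = 2) (hx : orderOf x = 4) :
    ∃ k : ℕ, (X.R.d : ℂ) + 5 * X.R.ρ.character t + 2 * X.R.ρ.character x = 8 * k :=
  haveI : Fact (Nat.Prime 2) := ⟨Nat.prime_two⟩
  ⟨_, X.sylow_two_fix ht hx default⟩

/-- The forced values. -/
theorem Ctx.values :
    X.R.d = 6 ∧ (∀ t : G, orderOf t = 2 → X.R.ρ.character t = 2) ∧ (∀ x : G, orderOf x = 4 → X.R.ρ.character x = 0) ∧
      (∀ z : G, orderOf z = 5 → X.R.ρ.character z = 1) ∧ (∀ w : G, orderOf w = 7 → X.R.ρ.character w = -1) := by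
  haveI := Fintype.ofFinite G
  haveI : Fact (Nat.Prime 5) := ⟨by norm_num⟩
  haveI : Fact (Nat.Prime 7) := ⟨by norm_num⟩
  obtain ⟨z₀, hz₀⟩ := exists_prime_orderOf_dvd_card' (G := G) 5 (by rw [X.h]; norm_num)
  obtain ⟨w₀, hw₀⟩ := exists_prime_orderOf_dvd_card' (G := G) 7 (by rw [X.h]; norm_num)
  obtain ⟨x₀, hx₀, -⟩ := X.exists_four_normalizing hz₀
  have ht₀ : orderOf (x₀ ^ 2) = 2 := by rw [orderOf_pow' x₀ (by norm_num), hx₀]; rfl
  have main : ∀ t x z w : G, orderOf t = 2 → orderOf x = 4 → orderOf z = 5 → orderOf w = 7 →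
      X.R.d = 6 ∧ X.R.ρ.character t = 2 ∧ X.R.ρ.character x = 0 ∧ X.R.ρ.character z = 1 ∧ X.R.ρ.character w = -1 := by
    intro t x z w ht hx hz hw
    obtain ⟨a, ha, ha5⟩ := X.value_five hz
    obtain ⟨s, r, k, hs, hs7, hr, hrk⟩ := X.value_seven hw
    obtain ⟨m, hm⟩ := X.sylow_two_sum ht hx
    have hs0 : (0 : ℤ) ≤ s := by exact_mod_cast (hs ▸ Complex.normSq_nonneg (X.R.ρ.character w) : (0 : ℝ) ≤ s)
    have hcnt := X.count ht hx hz hw ∅ (by simp)
    rw [Finset.sum_empty, add_zero, ha, hs, Complex.normSq_intCast] at hcnt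
    rcases X.R.value_invol X.h ht with ⟨hd, hb⟩ | ⟨hd, hb⟩
    · exfalso
      have hdC : (X.R.d : ℂ) = 4 := by rw [hd]; norm_num
      have hdR : (X.R.d : ℝ) = 4 := by rw [hd]; norm_num
      have hdZ : (X.R.d : ℤ) = 4 := by rw [hd]; norm_num
      rw [hb, hdC] at hm
      have hc : X.R.ρ.character x = ((4 * (m : ℤ) - 2 : ℤ) : ℂ) := by push_cast at hm ⊢; linear_combination hm / 2
      rw [hb, hdR, hc, map_zero, Complex.normSq_intCast] at hcnt
      rw [hdZ] at ha5 hs7
      have hi : (16 : ℤ) + 210 * (4 * (m : ℤ) - 2) * (4 * (m : ℤ) - 2) + 504 * a * a + 720 * s ≤ 2520 := by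
        have : ((16 : ℤ) + 210 * (4 * (m : ℤ) - 2) * (4 * (m : ℤ) - 2) + 504 * a * a + 720 * s : ℝ)
            ≤ (2520 : ℤ) := by push_cast at hcnt ⊢; nlinarith
        exact_mod_cast this
      have hs2 : 2 ≤ s := by obtain ⟨j, hj⟩ := hs7; push_cast at hj; omega
      have ha1 : 1 ≤ a * a := by
        have : a ≠ 0 := by rintro rfl; norm_num at ha5
        nlinarith [mul_self_pos.2 this]
      have hc4 : 4 ≤ (4 * (m : ℤ) - 2) * (4 * (m : ℤ) - 2) := by
        rcases Nat.eq_zero_or_pos m with rfl | hm1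
        · norm_num
        · nlinarith
      nlinarith
    · have hdC : (X.R.d : ℂ) = 6 := by rw [hd]; norm_num
      have hdR : (X.R.d : ℝ) = 6 := by rw [hd]; norm_num
      have hdZ : (X.R.d : ℤ) = 6 := by rw [hd]; norm_num
      rw [hdC] at hm
      rw [hdZ] at ha5 hs7 hrk
      rw [hdR] at hcnt
      obtain ⟨j, hj⟩ := ha5
      obtain ⟨i, hi⟩ := hs7
      have hbn : Complex.normSq (X.R.ρ.character t) = 4 := by
        rcases hb with hb | hb <;> rw [hb] <;> simp [Complex.normSq_apply] <;> norm_num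
      rw [hbn] at hcnt
      push_cast at hcnt hj hi hrk
      have hx0 := Complex.normSq_nonneg (X.R.ρ.character x)
      have hi2 : 504 * (a * a) + 720 * s ≤ (2064 : ℤ) := by
        have : (504 * (a * a) + 720 * s : ℝ) ≤ 2064 := by nlinarith
        exact_mod_cast this
      have haa := mul_self_nonneg a
      have hsv : s = 1 := by omega
      have hav : a = 1 := by
        have hlo : -1 ≤ a := by
          by_contra hh; nlinarith
        have hhi : a ≤ 1 := by
          by_contra hh; nlinarith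
        omega
      subst hav hsv
      have hre : X.R.ρ.character w = ((r : ℝ) / 2 : ℝ) + (X.R.ρ.character w).im * Complex.I := by
        have h1 := congrArg Complex.re hr
        simp at h1
        apply Complex.ext <;> simp
        linarith
      have hn : ((r : ℝ) / 2) ^ 2 + (X.R.ρ.character w).im ^ 2 = 1 := by
        have := hs
        rw [hre, Complex.normSq_add_mul_I] at this
        simpa using this
      have hr4 : r * r ≤ 4 := by
        have : (r * r : ℝ) ≤ 4 := by nlinarith [sq_nonneg (X.R.ρ.character w).im]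
        exact_mod_cast this
      have hrv : r = -2 := by
        have hlo : -2 ≤ r := by by_contra hh; nlinarith
        have hhi : r ≤ 2 := by by_contra hh; nlinarith
        omega
      subst hrv
      have hwv : X.R.ρ.character w = -1 := by
        have him : (X.R.ρ.character w).im = 0 := by norm_num at hn; simpa using hn
        rw [hre, him]; norm_num
      rcases hb with hb | hb
      · rw [hb] at hm
        have hc : X.R.ρ.character x = ((4 * (m : ℤ) - 8 : ℤ) : ℂ) := by push_cast at hm ⊢; linear_combination hm / 2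
        rw [hc, Complex.normSq_intCast] at hcnt
        have hcc : (4 * (m : ℤ) - 8) * (4 * (m : ℤ) - 8) ≤ 4 := by
          have : ((4 * (m : ℝ) - 8) * (4 * (m : ℝ) - 8)) ≤ 4 := by push_cast at hcnt; nlinarith
          exact_mod_cast this
        have hm2 : m = 2 := by
          have : (2 : ℤ) ≤ m := by by_contra hh; nlinarith
          have : (m : ℤ) ≤ 2 := by by_contra hh; nlinarith
          omega
        exact ⟨hd, hb, by rw [hc, hm2]; norm_num, by simp [ha], hwv⟩
      · exfalso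
        rw [hb] at hm
        have hc : X.R.ρ.character x = ((4 * (m : ℤ) + 2 : ℤ) : ℂ) := by push_cast at hm ⊢; linear_combination hm / 2
        have hzero : ∀ g : G, orderOf g ≠ 1 → orderOf g ≠ 2 → orderOf g ≠ 4 → orderOf g ≠ 5 →
            orderOf g ≠ 7 → X.R.ρ.character g = 0 := by
          intro g g1 g2 g4 g5 g7
          have h' := X.count ht hx hz hw {g} (fun y hy => by rw [Finset.mem_singleton.1 hy]; exact ⟨g1, g2, g4, g5, g7⟩)
          rw [Finset.sum_singleton, ha, hs, hdR, hbn, hc, Complex.normSq_intCast,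
            Complex.normSq_intCast] at h'
          have hc4 : (4 : ℝ) ≤ ((4 * (m : ℤ) + 2 : ℤ) : ℝ) * ((4 * (m : ℤ) + 2 : ℤ) : ℝ) := by
            push_cast; nlinarith [(Nat.cast_nonneg m : (0 : ℝ) ≤ m)]
          push_cast at h' hc4
          exact Complex.normSq_eq_zero.1 (le_antisymm (by nlinarith) (Complex.normSq_nonneg _))
        haveI : Fact (Nat.Prime 3) := ⟨Nat.prime_three⟩
        obtain ⟨P⟩ : Nonempty (Sylow 3 G) := inferInstance
        have hPc : Nat.card (P : Subgroup G) = 3 ^ 2 :=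
          card_sylow_of_exact P (by rw [X.h]; norm_num) (by rw [X.h]; norm_num)
        haveI := Fintype.ofFinite (P : Subgroup G)
        have h := sum_char_eq X.R.ρ (P : Subgroup G)
        rw [Finset.sum_eq_single (1 : (P : Subgroup G)) (fun g _ hg => by
          obtain ⟨l, hl, hgl⟩ := (Nat.dvd_prime_pow Nat.prime_three).1 (hPc ▸ orderOf_dvd_natCard g)
          have hgo : orderOf (g : G) = 3 ^ l := by rw [orderOf_coe, hgl]
          have hl0 : l ≠ 0 := fun e => hg (orderOf_eq_one_iff.1 (by rw [hgl, e, pow_zero]))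
          apply hzero <;> rw [hgo] <;> interval_cases l <;> norm_num at *)
          (by simp), hPc] at h
        rw [OneMemClass.coe_one, X.R.char_one, hdC] at h
        have h' : (6 : ℕ) = 3 ^ 2 * Module.finrank ℂ (fixSp X.R.ρ (P : Subgroup G)) := by
          exact_mod_cast h
        omega
  refine ⟨(main _ _ _ _ ht₀ hx₀ hz₀ hw₀).1, fun t ht => (main t _ _ _ ht hx₀ hz₀ hw₀).2.1,
    fun x hx => (main _ x _ _ ht₀ hx hz₀ hw₀).2.2.1,
    fun z hz => (main _ _ z _ ht₀ hx₀ hz hw₀).2.2.2.1,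
    fun w hw => (main _ _ _ w ht₀ hx₀ hz₀ hw).2.2.2.2⟩

theorem Ctx.char_one' : X.R.ρ.character (1 : G) = 6 := by
  rw [X.R.char_one, X.values.1]; norm_num

/-- What is left of the norm. -/
theorem Ctx.budget [Fintype G] {S : Finset G}
    (hS : ∀ g ∈ S, orderOf g ≠ 1 ∧ orderOf g ≠ 2 ∧ orderOf g ≠ 4 ∧ orderOf g ≠ 5 ∧ orderOf g ≠ 7) :
    ∑ g ∈ S, Complex.normSq (X.R.ρ.character g) ≤ 840 := by
  haveI : Fact (Nat.Prime 5) := ⟨by norm_num⟩
  haveI : Fact (Nat.Prime 7) := ⟨by norm_num⟩
  obtain ⟨hd, hb, hc, ha, hw'⟩ := X.values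
  obtain ⟨z, hz⟩ := exists_prime_orderOf_dvd_card' (G := G) 5 (by rw [X.h]; norm_num)
  obtain ⟨w, hw⟩ := exists_prime_orderOf_dvd_card' (G := G) 7 (by rw [X.h]; norm_num)
  obtain ⟨x, hx, -⟩ := X.exists_four_normalizing hz
  have ht : orderOf (x ^ 2) = 2 := by rw [orderOf_pow' x (by norm_num), hx]; rfl
  have h := X.count ht hx hz hw S hS
  rw [show (X.R.d : ℝ) = 6 by rw [hd]; norm_num, hb _ ht, hc _ hx, ha _ hz, hw' _ hw] at h
  norm_num [Complex.normSq_neg, Complex.normSq_ofNat] at h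
  linarith

/-- An element of order seven fixes no vector. -/
theorem Ctx.fix_seven {w : G} (hw : orderOf w = 7) : fixSp X.R.ρ (zpowers w) = ⊥ := by
  haveI := Fintype.ofFinite G
  obtain ⟨hd, -, -, -, hv⟩ := X.values
  rw [← Submodule.finrank_eq_zero]
  have h := sum_zpowers w X.R.ρ.character
  rw [sum_filter_char, Nat.card_zpowers, hw] at h
  simp only [Finset.sum_range_succ, Finset.sum_range_zero, zero_add, pow_zero] at h
  have hp : ∀ i, i % 7 ≠ 0 → X.R.ρ.character (w ^ i) = -1 := fun i hi => by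
    haveI : Fact (Nat.Prime 7) := ⟨by norm_num⟩
    refine hv _ (orderOf_eq_prime ?_ fun e => ?_)
    · rw [← pow_mul, mul_comm, pow_mul, ← hw, pow_orderOf_eq_one, one_pow]
    · rw [← orderOf_dvd_iff_pow_eq_one, hw] at e; omega
  rw [X.char_one', hp 1 (by norm_num), hp 2 (by norm_num), hp 3 (by norm_num), hp 4 (by norm_num),
    hp 5 (by norm_num), hp 6 (by norm_num)] at h
  norm_num at h
  rw [h, finrank_bot]

end CfsgLib.ClassK.Simple2520
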