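import Cfsg.Agent.Lib.ClassK.Simple2520Basic

/-!
Fixed spaces of subgroups in a representation, through sums of character values.
-/

set_option autoImplicit false

namespace CfsgLib.ClassK.Simple2520

open Subgroup Cfsg
open scoped Classical ComplexConjugate

universe u v

variable {G : Type u} [Group G] {V : Type v} [AddCommGroup V] [Module ℂ V]

/-- The fixed space of a subgroup. -/
noncomputable def fixSp (ρ : Representation ℂ G V) (H : Subgroup G) : Submodule ℂ V :=
  Representation.invariants (MonoidHom.comp ρ H.subtype)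

theorem mem_fixSp {ρ : Representation ℂ G V} {H : Subgroup G} {v : V} :
    v ∈ fixSp ρ H ↔ ∀ h ∈ H, ρ h v = v :=
  ⟨fun hv h hh => hv ⟨h, hh⟩, fun hv h => hv h h.2⟩

theorem fixSp_anti (ρ : Representation ℂ G V) {H K : Subgroup G} (h : H ≤ K) :
    fixSp ρ K ≤ fixSp ρ H :=
  fun _ hv => mem_fixSp.2 fun a ha => mem_fixSp.1 hv a (h ha)

/-- The subgroup fixing a vector. -/
def vecStab (ρ : Representation ℂ G V) (v : V) : Subgroup G where
  carrier := {g | ρ g v = v}
  one_mem' := by simp
  mul_mem' {a b} ha hb := by
    simp only [Set.mem_setOf_eq] at ha hb ⊢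
    rw [map_mul, Module.End.mul_apply, hb, ha]
  inv_mem' {a} ha := by
    simp only [Set.mem_setOf_eq] at ha ⊢
    conv_lhs => rw [← ha]
    rw [← Module.End.mul_apply, ← map_mul, inv_mul_cancel, map_one, Module.End.one_apply]

variable [Finite G] [FiniteDimensional ℂ V]

theorem sum_char_eq (ρ : Representation ℂ G V) (H : Subgroup G) [Fintype H] :
    ∑ h : H, ρ.character (h : G) = (Nat.card H : ℂ) * (Module.finrank ℂ (fixSp ρ H) : ℂ) := by
  have hne : (Fintype.card H : ℂ) ≠ 0 := Nat.cast_ne_zero.2 Fintype.card_ne_zero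
  let : Invertible (Fintype.card H : ℂ) := invertibleOfNonzero hne
  rw [show (Module.finrank ℂ (fixSp ρ H) : ℂ) = LinearMap.trace ℂ V
    (Representation.averageMap (MonoidHom.comp ρ H.subtype)) from
      ((Representation.isProj_averageMap (MonoidHom.comp ρ H.subtype)).trace).symm]
  simp [Representation.averageMap, GroupAlgebra.average, Representation.character, map_sum,
    Nat.card_eq_fintype_card, ← mul_assoc, mul_invOf_self]

variable [Fintype G]

/-- The filter form of the average. -/
theorem sum_filter_char (ρ : Representation ℂ G V) (H : Subgroup G) :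
    ∑ g ∈ Finset.univ.filter (· ∈ H), ρ.character g =
      (Nat.card H : ℂ) * (Module.finrank ℂ (fixSp ρ H) : ℂ) := by
  rw [← sum_char_eq ρ H]
  exact Finset.sum_subtype _ (by simp) _

omit [Finite G] in
/-- A nontrivial irreducible representation of a simple group fixes nothing. -/
theorem fixSp_top_eq_bot {n : ℕ} (ρ : Representation ℂ G (Fin n → ℂ)) (hirr : ρ.IsIrreducible)
    {x : G} (hx : ρ x ≠ 1) : fixSp ρ ⊤ = ⊥ := by
  rcases IsSimpleOrder.eq_bot_or_eq_top (α := Subrepresentation ρ)
    ⟨fixSp ρ ⊤, fun g v hv => by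
      rw [mem_fixSp.1 hv g (mem_top g)]; exact hv⟩ with h | h
  · exact congrArg Subrepresentation.toSubmodule h
  · have hall : ∀ g v, ρ g v = v := fun g v =>
      mem_fixSp.1 ((congrArg Subrepresentation.toSubmodule h).ge (Submodule.mem_top (x := v))) g
        (mem_top g)
    exact absurd (LinearMap.ext fun v => hall x v) hx

end CfsgLib.ClassK.Simple2520
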