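import Cfsg.Agent.Lib.ClassK.Simple2520Sign

/-!
The stabiliser of the vector fixed by a normaliser of order twenty, and the character values on
elements of order three and six.
-/

set_option autoImplicit false
set_option linter.unusedSectionVars false

namespace CfsgLib.ClassK.Simple2520

open Subgroup Cfsg
open scoped Classical

universe u

variable {G : Type u} [Group G] [Finite G]

/-- Sylow counting for a subgroup of prime order inside a subgroup `L`. -/
theorem sylow_count_inside {p : ℕ} [Fact p.Prime] (L : Subgroup G) {z : G} (hzL : z ∈ L)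
    (hz : orderOf z = p) (hd : ¬ p ^ 2 ∣ Nat.card L) :
    (∃ n, n * Nat.card (normalizer (zpowers z : Set G) ⊓ L : Subgroup G) = Nat.card L ∧
      n % p = 1) ∧
      ∀ w ∈ L, orderOf w = p → ∃ l ∈ L, l * w * l⁻¹ ∈ zpowers z := by
  have hp : p.Prime := Fact.out
  have hle : zpowers z ≤ L := zpowers_le.2 hzL
  have hc : Nat.card ((zpowers z).subgroupOf L) = p := by
    rw [Nat.card_congr (subgroupOfEquivOfLe hle).toEquiv, Nat.card_zpowers, hz]
  obtain ⟨P, hP⟩ :=
    (IsPGroup.of_card (n := 1) (by rw [hc, pow_one]) : IsPGroup p ((zpowers z).subgroupOf L)).exists_le_sylow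
  have hPc : Nat.card (P : Subgroup L) = p ^ 1 := card_sylow_of_exact P
    (by rw [pow_one]; exact hc ▸ card_subgroup_dvd_card _) hd
  have hPe : (P : Subgroup L) = (zpowers z).subgroupOf L :=
    (eq_of_le_of_card_ge hP (by rw [hPc, hc, pow_one])).symm
  refine ⟨⟨Nat.card (Sylow p L), ?_, ?_⟩, fun w hw hwo => ?_⟩
  · have h1 := (normalizer ((P : Subgroup L) : Set L)).card_mul_index
    rw [show (normalizer ((P : Subgroup L) : Set L)).index = Nat.card (Sylow p L) from
      (Sylow.card_eq_index_normalizer P).symm] at h1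
    rw [← h1, mul_comm]
    congr 1
    rw [← subgroupOf_map_subtype, card_map_of_injective L.subtype_injective, hPe,
      subgroupOf_normalizer_eq hle]
  · have h := card_sylow_modEq_one p L
    rw [Nat.ModEq, Nat.mod_eq_of_lt hp.one_lt] at h
    exact h
  · obtain ⟨Q, hQ⟩ := (IsPGroup.of_card (n := 1) (G := zpowers (⟨w, hw⟩ : L)) (by
      rw [Nat.card_zpowers, ← orderOf_coe, pow_one]; exact hwo) : IsPGroup p _).exists_le_sylow
    obtain ⟨l, hl⟩ := MulAction.exists_smul_eq L Q P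
    refine ⟨l, l.2, ?_⟩
    have h : l * ⟨w, hw⟩ * l⁻¹ ∈ (P : Subgroup L) := by
      rw [← hl, Sylow.coe_subgroup_smul]
      exact ⟨⟨w, hw⟩, hQ (mem_zpowers _), rfl⟩
    rw [hPe] at h
    exact h

theorem mem_zpowers_three {o g : G} (ho : orderOf o = 3) (hg : g ∈ zpowers o) :
    g = 1 ∨ g = o ∨ g = o⁻¹ := by
  obtain ⟨i, rfl⟩ := mem_powers_iff_mem_zpowers.2 hg
  have hi : i % 3 < 3 := Nat.mod_lt _ (by norm_num)
  show o ^ i = 1 ∨ o ^ i = o ∨ o ^ i = o⁻¹
  rw [← pow_mod_orderOf, ho]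
  generalize i % 3 = j at *
  interval_cases j
  · exact Or.inl (pow_zero o)
  · exact Or.inr (Or.inl (pow_one o))
  · exact Or.inr (Or.inr (by
      rw [eq_inv_iff_mul_eq_one, ← pow_succ, show (2 : ℕ) + 1 = orderOf o by rw [ho],
        pow_orderOf_eq_one]))

/-- A normalising element fixes or inverts a generator of a subgroup of order three. -/
theorem conj_three {o g : G} (ho : orderOf o = 3) (hg : g ∈ normalizer (zpowers o : Set G)) :
    g * o * g⁻¹ = o ∨ g * o * g⁻¹ = o⁻¹ :=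
  (mem_zpowers_three ho ((mem_normalizer_iff.1 hg o).1 (mem_zpowers o))).resolve_left fun e => by
    rw [conj_eq_one_iff] at e
    rw [e, orderOf_one] at ho
    norm_num at ho

variable [IsSimpleGroup G] (X : Ctx G)
include X

theorem Ctx.nonneg_value {g : G}
    (h : orderOf g = 1 ∨ orderOf g = 2 ∨ orderOf g = 4 ∨ orderOf g = 5) :
    0 ≤ (X.R.ρ.character g).re := by
  obtain ⟨-, hb, hc, ha, -⟩ := X.values
  rcases h with h | h | h | h
  · rw [orderOf_eq_one_iff.1 h, X.char_one']; norm_num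
  · rw [hb g h]; norm_num
  · rw [hc g h]; norm_num
  · rw [ha g h]; norm_num

theorem Ctx.three_not_five {o w : G} (ho : orderOf o = 3) (hw : orderOf w = 5)
    (hn : w ∈ normalizer (zpowers o : Set G)) : False := by
  have hfix : w * o * w⁻¹ = o := by
    rcases conj_three ho hn with h | h
    · exact h
    · exfalso
      have h5 : w ^ 5 = 1 := hw ▸ pow_orderOf_eq_one w
      have hk : w * o * w⁻¹ = o ^ 2 := by
        rw [h, inv_eq_iff_mul_eq_one, ← pow_succ', show (2 : ℕ) + 1 = orderOf o by rw [ho],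
          pow_orderOf_eq_one]
      have h' := iter_conj hk 5
      rw [h5, one_mul, inv_one, mul_one] at h'
      have h4 : o ^ 1 = o ^ (2 ^ 5) := by rw [pow_one]; exact h'
      rw [pow_inj_mod, ho] at h4
      norm_num at h4
  refine not_dvd_card_centralizer X.h (Or.inl rfl) (Or.inr ho) ?_
  have hwC : w ∈ centralizer ({o} : Set G) :=
    mem_centralizer_singleton_iff.2 (mul_inv_eq_iff_eq_mul.1 hfix)
  rw [← hw, ← orderOf_mk w hwC]
  exact orderOf_dvd_natCard _

/-- The stabiliser of a fixed vector. -/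
theorem Ctx.exists_K : ∃ (K A : Subgroup G), ∃ v : Fin X.R.d → ℂ, Nat.card K = 120 ∧
    HalfData K A ∧ v ≠ 0 ∧ v ∈ fixSp X.R.ρ K := by
  haveI := Fintype.ofFinite G
  haveI : Fact (Nat.Prime 5) := ⟨by norm_num⟩
  haveI : Fact (Nat.Prime 2) := ⟨Nat.prime_two⟩
  obtain ⟨hd, hb, hc, ha, -⟩ := X.values
  obtain ⟨z, hz⟩ := exists_prime_orderOf_dvd_card' (G := G) 5 (by rw [X.h]; norm_num)
  obtain ⟨hN, hC⟩ := X.five_data hz
  obtain ⟨y, hy, hyz⟩ := X.exists_four_normalizing hz
  set N := normalizer (zpowers z : Set G) with hNdef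
  have hord : ∀ g ∈ N, orderOf g = 1 ∨ orderOf g = 2 ∨ orderOf g = 4 ∨ orderOf g = 5 := by
    intro g hg
    by_cases h4 : g ^ 4 = 1
    · obtain ⟨i, hi, hgi⟩ := (Nat.dvd_prime_pow Nat.prime_two).1
        (show orderOf g ∣ 2 ^ 2 from orderOf_dvd_of_pow_eq_one (by norm_num; exact h4))
      rw [hgi]
      interval_cases i <;> norm_num
    · -- a non-trivial fourth power centralises `z`
      obtain ⟨k, hk⟩ := X.exists_conj_pow hg
      have hkz : ¬ 5 ∣ k := fun h5 => by
        rw [← hz, orderOf_dvd_iff_pow_eq_one] at h5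
        rw [h5, conj_eq_one_iff] at hk
        rw [hk, orderOf_one] at hz
        norm_num at hz
      have h4c : Commute (g ^ 4) z := by
        rw [Commute, SemiconjBy, ← mul_inv_eq_iff_eq_mul, iter_conj hk 4]
        conv_rhs => rw [← pow_one z]
        refine pow_eq_of_mod hz ?_
        rw [Nat.pow_mod]
        have : k % 5 < 5 := Nat.mod_lt _ (by norm_num)
        have : k % 5 ≠ 0 := fun e => hkz (Nat.dvd_of_mod_eq_zero e)
        interval_cases k % 5 <;> simp_all
      obtain ⟨i, hi⟩ := mem_zpowers_iff.1 (X.mem_zpowers_five hz (hC _ h4c) h4)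
      have hgz : Commute g z := hi ▸ ((Commute.refl g).pow_right 4).zpow_right i
      have h5 := orderOf_dvd_of_mem_zpowers (hC g hgz)
      rw [hz] at h5
      rcases (Nat.dvd_prime (by norm_num : Nat.Prime 5)).1 h5 with h | h
      · exact Or.inl h
      · exact Or.inr (Or.inr (Or.inr h))
  obtain ⟨v, hv, hv0⟩ := exists_fixed_of_nonneg X.R.ρ (H := N) (by rw [hd]; norm_num)
    fun g hg => X.nonneg_value (hord g hg)
  have hyN : y ∈ N := by
    rw [hNdef, mem_normalizer_iff_map_conj_eq, MonoidHom.map_zpowers]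
    show zpowers (y * z * y⁻¹) = _
    rw [hyz]
    refine eq_of_le_of_card_ge (zpowers_le.2 (pow_mem (mem_zpowers _) 2)) ?_
    rw [Nat.card_zpowers, Nat.card_zpowers,
      (orderOf_pow' _ (by norm_num)).trans (by rw [hz]; rfl : _ = 5), hz]
  obtain ⟨T, hT⟩ := (IsPGroup.of_card (n := 2) (G := zpowers y)
    (by rw [Nat.card_zpowers, hy]; norm_num) : IsPGroup 2 _).exists_le_sylow
  have ht : orderOf (y ^ 2) = 2 := by rw [orderOf_pow' y (by norm_num), hy]; rfl
  have hy3 : orderOf (y ^ 3) = 4 := by rw [orderOf_pow' y (by norm_num), hy]; rfl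
  have hTy : fixSp X.R.ρ (T : Subgroup G) = fixSp X.R.ρ (zpowers y) := by
    refine Submodule.eq_of_le_of_finrank_eq (fixSp_anti _ hT) ?_
    have h1 := X.sylow_two_fix ht hy T
    rw [hb _ ht, hc _ hy, show (X.R.d : ℂ) = 6 by rw [hd]; norm_num] at h1
    have h2 := sum_zpowers y X.R.ρ.character
    rw [sum_filter_char, Nat.card_zpowers, hy] at h2
    simp only [Finset.sum_range_succ, Finset.sum_range_zero, zero_add, pow_zero, pow_one] at h2
    rw [X.char_one', hc _ hy, hb _ ht, hc _ hy3] at h2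
    have e : (2 : ℂ) * Module.finrank ℂ (fixSp X.R.ρ (T : Subgroup G)) = 2 * 2 := by
      linear_combination -h1 / 4
    have e' : (4 : ℂ) * Module.finrank ℂ (fixSp X.R.ρ (zpowers y)) = 4 * 2 := by
      push_cast at h2; linear_combination h2
    exact_mod_cast (mul_left_cancel₀ (by norm_num) e).trans (mul_left_cancel₀ (by norm_num) e').symm
  have hvT : v ∈ fixSp X.R.ρ (T : Subgroup G) := hTy ▸ fixSp_anti _ (zpowers_le.2 hyN) hv
  set K := vecStab X.R.ρ v with hK
  have hNK : N ≤ K := fun g hg => mem_fixSp.1 hv g hg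
  have hTK : (T : Subgroup G) ≤ K := fun g hg => mem_fixSp.1 hvT g hg
  have hKtop : K ≠ ⊤ := fun e => hv0 (by
    have h : v ∈ fixSp X.R.ρ ⊤ := mem_fixSp.2 fun g _ => (e.ge (mem_top g) : g ∈ K)
    have hy1 : X.R.ρ y ≠ 1 := fun e1 => by
      refine X.R.faith y (fun e2 => by rw [e2, orderOf_one] at hy; norm_num at hy) ?_
      rw [← X.R.char_one]
      unfold Representation.character
      simp [e1]
    rwa [fixSp_top_eq_bot X.R.ρ X.R.irr hy1, Submodule.mem_bot] at h)
  have h40 : 40 ∣ Nat.card K := by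
    have h8 := card_dvd_of_le hTK
    rw [X.card_sylow_two T] at h8
    have h20 := card_dvd_of_le hNK
    rw [hN] at h20
    have := Nat.lcm_dvd h8 h20
    exact this
  obtain ⟨k, hk⟩ := h40
  have h315 := card_le X.h X.h7 hKtop
  have hdK : Nat.card K ∣ 2520 := X.h ▸ card_subgroup_dvd_card K
  rw [hk] at h315 hdK
  have hK120 : Nat.card K = 120 := by
    obtain ⟨⟨n, hn, hnm⟩, -⟩ := sylow_count_inside K (hNK (le_normalizer (mem_zpowers z))) hz (by
      rw [hk]; intro h25
      have := h25.trans hdK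
      norm_num at this)
    rw [inf_eq_left.2 hNK, hN, hk] at hn
    have hk' : k ≤ 7 := by omega
    interval_cases k <;> first | (exact hk) | omega | (norm_num at hdK)
  obtain ⟨A, hA⟩ := X.half K hK120
  exact ⟨K, A, v, hK120, hA, hv0, mem_fixSp.2 fun g hg => hg⟩

/-- The local structure of `K` at the prime three. -/
theorem Ctx.three_data {K A : Subgroup G} (hK : Nat.card K = 120) (hA : HalfData K A) :
    ∃ o u r : G, orderOf o = 3 ∧ orderOf u = 2 ∧ orderOf r = 2 ∧ o ∈ A ∧ r ∈ A ∧ u ∈ K ∧ u ∉ A ∧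
      Commute o u ∧ r * o * r⁻¹ = o⁻¹ ∧ Commute r u ∧
      Nat.card (normalizer (zpowers o : Set G) ⊓ K : Subgroup G) = 12 ∧
      (∀ g ∈ normalizer (zpowers o : Set G) ⊓ K, g ∈ zpowers (o * u) ∨ r⁻¹ * g ∈ zpowers (o * u)) := by
  haveI : Fact (Nat.Prime 3) := ⟨Nat.prime_three⟩
  haveI : Fact (Nat.Prime 2) := ⟨Nat.prime_two⟩
  obtain ⟨o', ho'⟩ := exists_prime_orderOf_dvd_card' (G := K) 3 (by rw [hK]; norm_num)
  set o : G := (o' : G) with hodef
  have ho : orderOf o = 3 := by rw [hodef, orderOf_coe, ho']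
  have hoA : o ∈ A := hA.odd_mem o'.2 (ho ▸ ⟨1, rfl⟩)
  set D := normalizer (zpowers o : Set G) ⊓ K with hD
  set DA := normalizer (zpowers o : Set G) ⊓ A with hDA
  obtain ⟨⟨n, hn, hnm⟩, -⟩ := sylow_count_inside K o'.2 ho (by rw [hK]; norm_num)
  obtain ⟨⟨n', hn', hnm'⟩, -⟩ := sylow_count_inside A hoA ho (by rw [hA.card]; norm_num)
  rw [← hD, hK] at hn
  rw [← hDA, hA.card] at hn'
  have h5 : ∀ H : Subgroup G, H ≤ normalizer (zpowers o : Set G) → ¬ 5 ∣ Nat.card H := by
    intro H hH h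
    haveI : Fact (Nat.Prime 5) := ⟨by norm_num⟩
    obtain ⟨w, hw⟩ := exists_prime_orderOf_dvd_card' (G := H) 5 h
    exact X.three_not_five ho (by rw [orderOf_coe, hw]) (hH w.2)
  have hoD : o ∈ DA := ⟨le_normalizer (mem_zpowers o), hoA⟩
  have h3 : 3 ∣ Nat.card DA := by
    rw [← ho, ← orderOf_mk o hoD]; exact orderOf_dvd_natCard _
  have hdvd : Nat.card DA ∣ Nat.card D := card_dvd_of_le (inf_le_inf_left _ hA.le)
  have hcards : Nat.card DA = 6 ∧ Nat.card D = 12 := by
    have a5 := h5 D inf_le_left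
    have b5 := h5 DA inf_le_left
    have key : ∀ M' n' : ℕ, n' * M' = 60 → n' % 3 = 1 → ¬ 5 ∣ M' → 3 ∣ M' → M' = 6 := by
      intro M' n' h1 h2 h3 h4
      obtain ⟨j, rfl⟩ := h4
      have hj : j ∈ Nat.divisors 20 := Nat.mem_divisors.2
        ⟨⟨n', Nat.eq_of_mul_eq_mul_left (show 0 < 3 by norm_num) (by rw [show 3 * (j * n') = n' * (3 * j) by ring, h1])⟩, by norm_num⟩
      rw [show Nat.divisors 20 = ({1, 2, 4, 5, 10, 20} : Finset ℕ) by decide] at hj
      simp only [Finset.mem_insert, Finset.mem_singleton] at hj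
      rcases hj with rfl | rfl | rfl | rfl | rfl | rfl <;> omega
    have key2 : ∀ M n : ℕ, n * M = 120 → n % 3 = 1 → ¬ 5 ∣ M → 6 ∣ M → M = 12 := by
      intro M n h1 h2 h3 h4
      obtain ⟨j, rfl⟩ := h4
      have hj : j ∈ Nat.divisors 20 := Nat.mem_divisors.2
        ⟨⟨n, Nat.eq_of_mul_eq_mul_left (show 0 < 6 by norm_num) (by rw [show 6 * (j * n) = n * (6 * j) by ring, h1])⟩, by norm_num⟩
      rw [show Nat.divisors 20 = ({1, 2, 4, 5, 10, 20} : Finset ℕ) by decide] at hj
      simp only [Finset.mem_insert, Finset.mem_singleton] at hj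
      rcases hj with rfl | rfl | rfl | rfl | rfl | rfl <;> omega
    have e6 := key _ _ hn' hnm' b5 h3
    exact ⟨e6, key2 _ _ hn hnm a5 (e6 ▸ hdvd)⟩
  obtain ⟨hcA, hcD⟩ := hcards
  obtain ⟨r', hr'⟩ := exists_prime_orderOf_dvd_card' (G := DA) 2 (by rw [hcA]; norm_num)
  set r : G := (r' : G) with hrdef
  have hr : orderOf r = 2 := by rw [hrdef, orderOf_coe, hr']
  have hrA : r ∈ A := r'.2.2
  have hno6 : ∀ a ∈ A, orderOf a = 2 → ¬ Commute o a := fun a ha h2 hc => hA.no_six (o * a)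
    (mul_mem hoA ha) (by rw [hc.orderOf_mul_eq_mul_orderOf_of_coprime (by rw [ho, h2]; norm_num), ho, h2])
  have hrinv : r * o * r⁻¹ = o⁻¹ := (conj_three ho r'.2.1).resolve_left fun e =>
    hno6 r hrA hr (mul_inv_eq_iff_eq_mul.1 e).symm
  set C := centralizer ({o} : Set G) ⊓ D with hC
  have hCmem : ∀ g, g ∈ C ↔ g ∈ D ∧ Commute g o := fun g => by
    rw [hC, mem_inf, mem_centralizer_singleton_iff, and_comm]; rfl
  have hrD : r ∈ D := ⟨r'.2.1, hA.le hrA⟩
  have hrnC : ¬ Commute r o := fun hc => hno6 r hrA hr hc.symm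
  have hsplit : ∀ g ∈ D, g ∈ C ∨ r⁻¹ * g ∈ C := by
    intro g hg
    rcases conj_three ho hg.1 with h | h
    · exact Or.inl ((hCmem g).2 ⟨hg, mul_inv_eq_iff_eq_mul.1 h⟩)
    · refine Or.inr ((hCmem _).2 ⟨mul_mem (inv_mem hrD) hg, mul_inv_eq_iff_eq_mul.1 ?_⟩)
      rw [show r⁻¹ * g * o * (r⁻¹ * g)⁻¹ = r⁻¹ * (g * o * g⁻¹) * r by group, h, ← hrinv]
      group
  have hcC : Nat.card C = 6 := by
    have hi : (C.subgroupOf D).index = 2 := by
      rw [index_eq_two_iff]
      refine ⟨⟨r, hrD⟩, fun b => ?_⟩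
      simp only [mem_subgroupOf, Subgroup.coe_mul, hCmem]
      rcases conj_three ho b.2.1 with h | h
      · refine Or.inr ⟨⟨b.2, mul_inv_eq_iff_eq_mul.1 h⟩, fun hh => hrnC ?_⟩
        have hb : Commute (b : G) o := mul_inv_eq_iff_eq_mul.1 h
        have := hb.inv_left.mul_left hh.2
        rwa [inv_mul_cancel_left] at this
      · refine Or.inl ⟨⟨mul_mem b.2 hrD, mul_inv_eq_iff_eq_mul.1 ?_⟩, fun hh => ?_⟩
        · rw [show (b : G) * r * o * ((b : G) * r)⁻¹ = (b : G) * (r * o * r⁻¹) * (b : G)⁻¹ by group,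
            hrinv, ← conj_inv, h, inv_inv]
        · rw [mul_inv_eq_iff_eq_mul.2 hh.2.eq] at h
          have h2 : o ^ 2 = 1 := by
            rw [sq]; exact eq_inv_iff_mul_eq_one.1 h
          have := orderOf_dvd_of_pow_eq_one h2
          rw [ho] at this; norm_num at this
    have h := (C.subgroupOf D).card_mul_index
    rw [hi, Nat.card_congr (subgroupOfEquivOfLe (show C ≤ D from inf_le_right)).toEquiv, hcD] at h
    omega
  obtain ⟨u', hu'⟩ := exists_prime_orderOf_dvd_card' (G := C) 2 (by rw [hcC]; norm_num)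
  set u : G := (u' : G) with hudef
  have hu : orderOf u = 2 := by rw [hudef, orderOf_coe, hu']
  obtain ⟨huD, huo⟩ := (hCmem u).1 u'.2
  have huA : u ∉ A := fun h => hno6 u h hu huo.symm
  have hCA : ∀ w ∈ A, w ∈ C → w ∈ zpowers o := by
    intro w hwA hwC
    have hle : zpowers o ≤ A ⊓ C := zpowers_le.2
      ⟨hoA, (hCmem o).2 ⟨⟨hoD.1, hA.le hoA⟩, Commute.refl o⟩⟩
    have hlt : Nat.card (A ⊓ C : Subgroup G) ∣ 6 := hcC ▸ card_dvd_of_le inf_le_right
    have heq : zpowers o = A ⊓ C := eq_of_le_of_card_ge hle (by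
      rw [Nat.card_zpowers, ho]
      by_contra h
      have h6 : Nat.card (A ⊓ C : Subgroup G) = 6 := by
        have := Nat.le_of_dvd (by norm_num) hlt
        set m := Nat.card (A ⊓ C : Subgroup G)
        interval_cases m <;> omega
      have := eq_of_le_of_card_ge (inf_le_right : A ⊓ C ≤ C) (by rw [h6, hcC])
      exact huA (mem_inf.1 (this.ge u'.2)).1)
    rw [heq]; exact ⟨hwA, hwC⟩
  have hru : Commute r u := by
    set u2 := r * u * r⁻¹ with hu2
    have hu2o : orderOf u2 = 2 := by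
      rw [hu2, show r * u * r⁻¹ = MulAut.conj r u from rfl, MulEquiv.orderOf_eq]; exact hu
    have hu2D : u2 ∈ D := mul_mem (mul_mem hrD huD) (inv_mem hrD)
    have hu2c : Commute u2 o := by
      have : Commute (r * u * r⁻¹) (r * o⁻¹ * r⁻¹) := by
        have h := huo.inv_right
        unfold Commute SemiconjBy at h ⊢
        rw [show r * u * r⁻¹ * (r * o⁻¹ * r⁻¹) = r * (u * o⁻¹) * r⁻¹ by group, h]
        group
      rwa [← conj_inv, hrinv, inv_inv] at this
    have hu2A : u2 ∉ A := fun h => hno6 u2 h hu2o hu2c.symm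
    have hw := hCA _ (hA.mul_notMem u2 hu2D.2 u huD.2 hu2A huA)
      (mul_mem ((hCmem _).2 ⟨hu2D, hu2c⟩) u'.2)
    have huu : u * u = 1 := by
      have := pow_orderOf_eq_one u; rwa [hu, sq] at this
    have hcu : Commute (u2 * u) u := by
      obtain ⟨i, hi⟩ := mem_zpowers_iff.1 hw
      rw [← hi]; exact huo.symm.zpow_left i
    have hsq : (u2 * u) ^ 2 = 1 := by
      have h22 : u2 * u2 = 1 := by
        have := pow_orderOf_eq_one u2; rwa [hu2o, sq] at this
      rw [sq, show u2 * u * (u2 * u) = u2 * (u * (u2 * u)) by group, ← hcu.eq, mul_assoc u2 u u, huu,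
        mul_one, h22]
    have h1 : u2 * u = 1 := by
      rcases mem_zpowers_three ho hw with h | h | h
      · exact h
      · rw [h] at hsq; have := orderOf_dvd_of_pow_eq_one hsq; rw [ho] at this; norm_num at this
      · rw [h] at hsq; have := orderOf_dvd_of_pow_eq_one hsq; rw [orderOf_inv, ho] at this
        norm_num at this
    rw [Commute, SemiconjBy, ← mul_inv_eq_iff_eq_mul, ← hu2, eq_inv_of_mul_eq_one_left h1,
      inv_eq_of_mul_eq_one_right huu]
  refine ⟨o, u, r, ho, hu, hr, hoA, hrA, huD.2, huA, huo.symm, hrinv, hru, hcD, fun g hg => ?_⟩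
  have hx : orderOf (o * u) = 6 := by
    rw [huo.symm.orderOf_mul_eq_mul_orderOf_of_coprime (by rw [ho, hu]; norm_num), ho, hu]
  have heq : zpowers (o * u) = C := eq_of_le_of_card_ge
    (zpowers_le.2 (mul_mem ((hCmem o).2 ⟨⟨hoD.1, hA.le hoA⟩, Commute.refl o⟩) u'.2))
    (by rw [hcC, Nat.card_zpowers, hx])
  rw [heq]
  exact hsplit g hg

end CfsgLib.ClassK.Simple2520
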