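import Mathlib.GroupTheory.PGroup
import Mathlib.GroupTheory.Sylow
import Mathlib.GroupTheory.SpecificGroups.Cyclic
import Mathlib.GroupTheory.SpecificGroups.Dihedral

/-!
# Coprime automorphisms of small subgroups
-/

namespace CfsgLib.ClassK

open Subgroup

variable {G : Type*} [Group G] [Finite G]

/-- If `g` normalises but does not centralise `D`, then for some prime `p` dividing the order of
`g` a proper subgroup `F` of `D` containing the fixed points of `g` has order congruent to that
of `D` modulo `p`. -/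
theorem exists_prime_fixed_modEq {D : Subgroup G} {g : G}
    (hg : g ∈ normalizer (D : Set G)) (hgD : g ∉ centralizer (D : Set G)) :
    ∃ (p : ℕ) (F : Subgroup G), p.Prime ∧ p ∣ orderOf g ∧ D ⊓ centralizer {g} ≤ F ∧ F < D ∧
      Nat.card D ≡ Nat.card F [MOD p] := by
  set φ := normalizerMonoidHom D with hφ
  set a := φ ⟨g, hg⟩ with ha
  have ha1 : a ≠ 1 := by
    intro h
    apply hgD
    have : (⟨g, hg⟩ : normalizer (D : Set G)) ∈ φ.ker := h
    rw [hφ, normalizerMonoidHom_ker] at this
    exact this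
  set o := orderOf a with ho
  have hoN : o ∣ orderOf g := by
    have := orderOf_map_dvd φ ⟨g, hg⟩
    rwa [Subgroup.orderOf_mk] at this
  have ho1 : o ≠ 1 := fun h => ha1 (orderOf_eq_one_iff.1 h)
  set p := o.minFac with hp
  have hpp : p.Prime := Nat.minFac_prime ho1
  haveI : Fact p.Prime := ⟨hpp⟩
  set k := o / p with hk
  have hopos : 0 < o := orderOf_pos a
  have hpk : orderOf (a ^ k) = p :=
    orderOf_pow_orderOf_div hopos.ne' (Nat.minFac_dvd o)
  refine ⟨p, D ⊓ centralizer {g ^ k}, hpp, (Nat.minFac_dvd o).trans hoN, ?_, ?_, ?_⟩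
  · refine inf_le_inf le_rfl fun x hx => ?_
    rw [mem_centralizer_singleton_iff] at hx ⊢
    exact (Commute.pow_right hx k)
  · refine lt_of_le_of_ne inf_le_left fun h => ?_
    have h1 : a ^ k = 1 := by
      ext ⟨x, hx⟩
      rw [← h] at hx
      have := mem_centralizer_singleton_iff.1 hx.2
      rw [ha, ← map_pow]
      simp only [hφ, normalizerMonoidHom_apply_apply_coe, MulAut.one_apply, SubmonoidClass.coe_pow]
      rw [← this]
      group
    rw [h1, orderOf_one] at hpk
    exact hpp.ne_one hpk.symm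
  · have hP : IsPGroup p (zpowers (a ^ k)) :=
      IsPGroup.of_card (n := 1) (by rw [Nat.card_zpowers, hpk, pow_one])
    have hmem : ∀ x : D, x ∈ MulAction.fixedPoints (zpowers (a ^ k)) D ↔
        (x : G) ∈ centralizer ({g ^ k} : Set G) := by
      intro x
      have hval : (((a ^ k) x : D) : G) = g ^ k * x * (g ^ k)⁻¹ := by
        rw [ha, ← map_pow]; rfl
      rw [mem_centralizer_singleton_iff]
      refine ⟨fun h => ?_, fun h => ?_⟩
      · have h' : (a ^ k) x = x := h ⟨_, mem_zpowers _⟩
        have := congrArg Subtype.val h'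
        rw [hval] at this
        conv_lhs => rw [← this]
        group
      · rintro ⟨b, hb⟩
        have hfix : a ^ k ∈ MulAction.stabilizer (MulAut D) x := by
          refine Subtype.ext ?_
          change (((a ^ k) x : D) : G) = x
          rw [hval, ← h]; group
        exact (zpowers_le.2 hfix) hb
    have hcard : Nat.card (MulAction.fixedPoints (zpowers (a ^ k)) D)
        = Nat.card ↥(D ⊓ centralizer ({g ^ k} : Set G)) :=
      Nat.card_congr
        { toFun := fun x => ⟨x.1.1, x.1.2, (hmem x.1).1 x.2⟩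
          invFun := fun x => ⟨⟨x.1, x.2.1⟩, (hmem ⟨x.1, x.2.1⟩).2 x.2.2⟩
          left_inv := fun x => rfl
          right_inv := fun x => rfl }
    rw [← hcard]
    exact hP.card_modEq_card_fixedPoints (α := D)

/-- An element of odd order normalising a cyclic `2`-subgroup centralises it. -/
theorem mem_centralizer_of_cyclic_two {K : Subgroup G} (hK : IsPGroup 2 K) [IsCyclic K] {g : G}
    (hg : g ∈ normalizer (K : Set G)) (hodd : (orderOf g).Coprime 2) :
    g ∈ centralizer (K : Set G) := by
  haveI : Fact (Nat.Prime 2) := ⟨Nat.prime_two⟩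
  set φ := normalizerMonoidHom K with hφ
  obtain ⟨m, hm⟩ := hK.exists_card_eq
  have h2 : orderOf (φ ⟨g, hg⟩) ∣ 2 ^ m := by
    refine (_root_.orderOf_dvd_natCard _).trans ?_
    rw [IsCyclic.card_mulAut, hm]
    rcases Nat.eq_zero_or_pos m with rfl | hpos
    · simp
    · rw [Nat.totient_prime_pow Nat.prime_two hpos]
      simpa using pow_dvd_pow 2 (Nat.sub_le m 1)
  have h1 : orderOf (φ ⟨g, hg⟩) ∣ orderOf g := by
    have := orderOf_map_dvd φ ⟨g, hg⟩
    rwa [Subgroup.orderOf_mk] at this
  have h3 : φ ⟨g, hg⟩ = 1 :=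
    orderOf_eq_one_iff.1 (Nat.eq_one_of_dvd_coprimes (hodd.pow_right m) h1 h2)
  have : (⟨g, hg⟩ : normalizer (K : Set G)) ∈ φ.ker := h3
  rw [hφ, normalizerMonoidHom_ker] at this
  exact this

/-- An element of odd order normalising a `2`-subgroup `E` which embeds in a dihedral group, and
centralising a non-trivial element of `E`, centralises `E`. -/
theorem mem_centralizer_of_embeds_dihedral {E : Subgroup G} (hE : IsPGroup 2 E) {n : ℕ}
    [NeZero n] (f : E →* DihedralGroup n) (hf : Function.Injective f) {g : G}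
    (hg : g ∈ normalizer (E : Set G)) (hodd : (orderOf g).Coprime 2)
    {t : G} (htE : t ∈ E) (ht : t ≠ 1) (hgt : g * t = t * g) :
    g ∈ centralizer (E : Set G) := by
  haveI : Fact (Nat.Prime 2) := ⟨Nat.prime_two⟩
  by_contra hgE
  obtain ⟨p, F, hp, hpg, hcF, hFE, hmod⟩ := exists_prime_fixed_modEq hg hgE
  have hp2 : p ≠ 2 := by
    rintro rfl
    exact absurd (Nat.Coprime.eq_one_of_dvd hodd.symm hpg) (by norm_num)
  have hndvd : ∀ c, ¬ p ∣ 2 ^ c := fun c h =>
    hp2 ((Nat.prime_dvd_prime_iff_eq hp Nat.prime_two).1 (hp.dvd_of_dvd_pow h))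
  have hFp : IsPGroup 2 F := hE.to_le hFE.le
  obtain ⟨a, ha⟩ := hE.exists_card_eq
  obtain ⟨b, hb⟩ := hFp.exists_card_eq
  have hba : b < a := by
    have hlt : Nat.card F < Nat.card E := by
      refine lt_of_le_of_ne (Subgroup.card_le_of_le hFE.le) fun h => hFE.ne ?_
      exact Subgroup.eq_of_le_of_card_ge hFE.le h.ge
    rw [ha, hb] at hlt
    exact (Nat.pow_lt_pow_iff_right (by norm_num)).1 hlt
  have key : a = b + 1 → False := by
    rintro rfl
    have := (Nat.modEq_iff_dvd' (Subgroup.card_le_of_le hFE.le)).1 hmod.symm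
    rw [ha, hb, pow_succ] at this
    exact hndvd b (by simpa [Nat.mul_two] using this)
  have htF : t ∈ F := hcF ⟨htE, mem_centralizer_singleton_iff.2 hgt.symm⟩
  have hb1 : 1 ≤ b := by
    rcases Nat.eq_zero_or_pos b with rfl | h
    · rw [pow_zero, Subgroup.card_eq_one] at hb
      exact absurd (hb ▸ htF) (by simpa using ht)
    · exact h
  set R := zpowers (DihedralGroup.r (1 : ZMod n)) with hR
  have hRcard : Nat.card R = n := by rw [hR, Nat.card_zpowers, DihedralGroup.orderOf_r_one]
  have hRindex : R.index = 2 := by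
    have := R.card_mul_index
    rw [hRcard, DihedralGroup.nat_card, mul_comm 2 n] at this
    exact Nat.eq_of_mul_eq_mul_left (NeZero.pos n) this
  set K0 := R.comap f with hK0
  set K := K0.map E.subtype with hKdef
  haveI : IsCyclic K0 := by
    refine isCyclic_of_injective (f.subgroupComap R) fun x y h => ?_
    exact Subtype.ext (hf (congrArg Subtype.val h))
  have e : K0 ≃* K := K0.equivMapOfInjective _ E.subtype_injective
  haveI : IsCyclic K := e.isCyclic.1 inferInstance
  have hKE : K ≤ E := map_subtype_le _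
  have hindex : K0.index ≤ 2 := by
    rw [hK0, index_comap, ← hRindex, ← R.relIndex_top_right]
    exact relIndex_le_of_le_right le_top (by rw [relIndex_top_right, hRindex]; norm_num)
  obtain ⟨c, hc⟩ := (hE.to_le hKE).exists_card_eq
  have hKcard : Nat.card E = Nat.card K * K0.index := by
    rw [← Nat.card_congr e.toEquiv, K0.card_mul_index]
  have hac : a ≤ c + 1 := by
    have : 2 ^ a ≤ 2 ^ (c + 1) := by
      rw [← ha, hKcard, hc, pow_succ]
      exact Nat.mul_le_mul_left _ hindex
    exact (Nat.pow_le_pow_iff_right (by norm_num)).1 this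
  rcases le_or_gt c 1 with hc1 | hc1
  · exact key (by omega)
  -- `K` is now the unique cyclic subgroup of index two, so it is normalised by `g`
  obtain ⟨⟨x, hx⟩, hgen⟩ := IsCyclic.exists_generator (α := K)
  have hKx : K = zpowers x := by
    refine le_antisymm (fun y hy => ?_) (zpowers_le.2 hx)
    obtain ⟨i, hi⟩ := mem_zpowers_iff.1 (hgen ⟨y, hy⟩)
    exact mem_zpowers_iff.2 ⟨i, by simpa using congrArg Subtype.val hi⟩
  have hxord : orderOf x = 2 ^ c := by rw [← hc, hKx, Nat.card_zpowers]
  have hrot : ∀ y (hy : y ∈ E), y ^ 2 ≠ 1 → y ∈ K := by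
    intro y hy hy2
    refine ⟨⟨y, hy⟩, ?_, rfl⟩
    show f ⟨y, hy⟩ ∈ R
    rcases hfy : f ⟨y, hy⟩ with i | i
    · exact mem_zpowers_iff.2 ⟨(i.val : ℤ), by simp⟩
    · exfalso
      refine hy2 (congrArg Subtype.val (hf (a₁ := ⟨y, hy⟩ ^ 2) (a₂ := 1) ?_))
      rw [map_pow, map_one, hfy, pow_two, DihedralGroup.sr_mul_self]
  have hgK : g ∈ normalizer (K : Set G) := by
    have hle : K.map (MulAut.conj g).toMonoidHom ≤ K := by
      rw [hKx, MonoidHom.map_zpowers, zpowers_le]
      show g * x * g⁻¹ ∈ zpowers x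
      rw [← hKx]
      refine hrot _ ((mem_normalizer_iff.1 hg x).1 (hKE hx)) fun h => ?_
      rw [conj_pow, conj_eq_one_iff] at h
      have := Nat.le_of_dvd (by norm_num) (hxord ▸ orderOf_dvd_of_pow_eq_one h)
      have : 2 ^ 2 ≤ 2 ^ c := Nat.pow_le_pow_right (by norm_num) hc1
      omega
    have heq : K.map (MulAut.conj g).toMonoidHom = K :=
      Subgroup.eq_of_le_of_card_ge hle
        (le_of_eq (Subgroup.card_map_of_injective (MulAut.conj g).injective).symm)
    refine mem_normalizer_iff.2 fun y => ⟨fun hy => heq ▸ mem_map_of_mem _ hy, fun hy => ?_⟩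
    rw [← heq] at hy
    obtain ⟨z, hz, hzy⟩ := hy
    exact ((MulAut.conj g).injective hzy) ▸ hz
  have hgc := mem_centralizer_of_cyclic_two (hE.to_le hKE) hgK hodd
  have hKF : K ≤ F := fun y hy =>
    hcF ⟨hKE hy, mem_centralizer_singleton_iff.2 (mem_centralizer_iff.1 hgc y hy)⟩
  have hcb : c ≤ b := by
    have := Subgroup.card_le_of_le hKF
    rw [hb, hc] at this
    exact (Nat.pow_le_pow_iff_right (by norm_num)).1 this
  exact key (by omega)

end CfsgLib.ClassK
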