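import Cfsg.Agent.Lib.ClassK.Simple2520Fix
import Cfsg.Agent.Lib.Transfer.Simple168
import Cfsg.Agent.S0105
import Cfsg.Agent.S0225
import Cfsg.Agent.S0107
import Cfsg.Agent.S0514
import Cfsg.Agent.S0848

/-!
Simple groups of order 2520 without a subgroup of index seven: Sylow 2-subgroups are dihedral and
involution centralizers have order 24.
-/

set_option autoImplicit false

namespace CfsgLib.ClassK.Simple2520

open Subgroup Cfsg
open scoped Classical Pointwise ComplexConjugate

universe u

variable {G : Type u} [Group G] [Finite G] [IsSimpleGroup G]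

/-- A faithful irreducible representation of degree four or six. -/
structure Rep (G : Type u) [Group G] where
  d : ℕ
  ρ : Representation ℂ G (Fin d → ℂ)
  irr : ρ.IsIrreducible
  hd : d = 4 ∨ d = 6
  faith : ∀ g : G, g ≠ 1 → ρ.character g ≠ (d : ℂ)

theorem Rep.char_one (R : Rep G) : R.ρ.character 1 = (R.d : ℂ) := by
  rw [Representation.char_one, Module.finrank_fin_fun]

theorem exists_rep (h : Nat.card G = 2520) : Nonempty (Rep G) := by
  obtain ⟨χ, hne, hd⟩ := exists_small_degree h
  obtain ⟨m, ρ, hirr, hρ⟩ := χ.2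
  have hdm : charDegree (χ : G → ℂ) = m := by
    have h := BlockB.irr_degree_cast χ
    rw [← hρ, Representation.char_one, Module.finrank_fin_fun] at h
    rw [← hρ]
    exact_mod_cast h
  refine ⟨⟨m, ρ, hirr, hdm ▸ hd, fun g hg he => CfsgLib.Transfer.irr_apply_ne_apply_one χ hne hg ?_⟩⟩
  rw [← hρ, he, Representation.char_one, Module.finrank_fin_fun]

omit [IsSimpleGroup G] in
theorem Rep.char_isClass (R : Rep G) {a b : G} (h : IsConj a b) :
    R.ρ.character a = R.ρ.character b := by
  obtain ⟨c, rfl⟩ := isConj_iff.1 h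
  exact (Representation.char_conj R.ρ a c).symm

/-- The value at an involution. -/
theorem Rep.value_invol (R : Rep G) (h : Nat.card G = 2520) {t : G} (ht : orderOf t = 2) :
    (R.d = 4 ∧ R.ρ.character t = 0) ∨
      (R.d = 6 ∧ (R.ρ.character t = 2 ∨ R.ρ.character t = -2)) := by
  let χ : IrrCharacter G := ⟨R.ρ.character, R.d, R.ρ, R.irr, rfl⟩
  have hd : charDegree (χ : G → ℂ) = R.d := by
    have := BlockB.irr_degree_cast χ
    rw [show (χ : G → ℂ) 1 = (R.d : ℂ) from R.char_one] at this
    exact_mod_cast this
  have hcen : t ∉ center G := by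
    intro hc
    rcases IsSimpleGroup.eq_bot_or_eq_top_of_normal (center G) inferInstance with h' | h'
    · rw [h', mem_bot] at hc; rw [hc, orderOf_one] at ht; norm_num at ht
    · exact nonabelian h ⟨⟨fun a b => mem_center_iff.1 (h'.ge (mem_top b)) a⟩⟩
  obtain ⟨q, hq, hv⟩ := RowInvolution.exists_mem_qRange (perfect h) χ ht
    (fun g hg => by rw [show (χ : G → ℂ) 1 = (R.d : ℂ) from R.char_one]; exact R.faith g hg) hcen
  rw [hd] at hq
  have hv' : R.ρ.character t = (q : ℂ) := hv
  rcases R.hd with e | e <;> rw [e] at hq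
  · refine Or.inl ⟨e, ?_⟩
    have : q = 0 := by simpa [RowInvolution.qRange, List.range_succ] using hq
    rw [hv', this, Int.cast_zero]
  · refine Or.inr ⟨e, ?_⟩
    have : q = 2 ∨ q = -2 := by simpa [RowInvolution.qRange, List.range_succ] using hq
    rcases this with rfl | rfl <;> simp [hv']

/-- Column orthogonality bound. -/
theorem Rep.one_add_normSq_le (R : Rep G) (g : G) :
    1 + Complex.normSq (R.ρ.character g) ≤ (Nat.card (centralizer ({g} : Set G)) : ℝ) := by
  have := Fintype.ofFinite G
  have := Fintype.ofFinite (IrrCharacter G)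
  let χ : IrrCharacter G := ⟨R.ρ.character, R.d, R.ρ, R.irr, rfl⟩
  let o : IrrCharacter G := ⟨fun _ => 1, Char.isIrrCharacter_one⟩
  have hne : χ ≠ o := fun e => by
    have h1 : R.ρ.character 1 = 1 := congrFun (congrArg Subtype.val e) 1
    rw [R.char_one] at h1
    rcases R.hd with h | h <;> rw [h] at h1 <;> norm_num at h1
  have h := Char.column_orthogonality (G := G) g g
  rw [if_pos (IsConj.refl g)] at h
  have h' : ∑ ψ : IrrCharacter G, Complex.normSq ((ψ : G → ℂ) g) =
      (Nat.card (centralizer ({g} : Set G)) : ℝ) := by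
    apply Complex.ofReal_injective
    rw [Complex.ofReal_sum, Complex.ofReal_natCast, ← h]
    exact Finset.sum_congr rfl fun ψ _ => (Complex.mul_conj _).symm
  rw [← h']
  calc 1 + Complex.normSq (R.ρ.character g)
      = ∑ ψ ∈ ({o, χ} : Finset (IrrCharacter G)), Complex.normSq ((ψ : G → ℂ) g) := by
        rw [Finset.sum_pair hne.symm]; simp [o, χ]
    _ ≤ _ := Finset.sum_le_sum_of_subset_of_nonneg (Finset.subset_univ _)
        fun ψ _ _ => Complex.normSq_nonneg _

/-- The normalizer of a Sylow 3-subgroup is smaller than 72. -/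
theorem card_normalizer_three (h : Nat.card G = 2520) (h7 : ∀ H : Subgroup G, H.index ≠ 7)
    [Fact (Nat.Prime 3)] (P : Sylow 3 G) :
    ¬ 72 ∣ Nat.card (normalizer ((P : Subgroup G) : Set G)) := by
  rintro ⟨k, hk⟩
  set N := normalizer ((P : Subgroup G) : Set G) with hN
  have hm := N.index_mul_card
  rw [hk, h] at hm
  have hne : N.index ≠ 7 := h7 N
  have hmod : N.index % 3 = 1 := by
    have h' := card_sylow_modEq_one 3 G
    rw [show Nat.card (Sylow 3 G) = N.index from P.card_eq_index_normalizer] at h'
    exact h'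
  have hd : N.index ∣ 35 := ⟨k, by linarith⟩
  have hne1 : N.index ≠ 1 := by
    intro h1
    rw [index_eq_one] at h1
    rcases IsSimpleGroup.eq_bot_or_eq_top_of_normal (P : Subgroup G) (normalizer_eq_top_iff.1 h1)
      with h' | h'
    all_goals
      have hc := card_sylow_of_exact (a := 2) P (by rw [h]; norm_num) (by rw [h]; norm_num)
    · rw [h', card_bot] at hc; norm_num at hc
    · rw [h', card_top, h] at hc; norm_num at hc
  have : N.index ∈ Nat.divisors 35 := Nat.mem_divisors.2 ⟨hd, by norm_num⟩
  rw [show Nat.divisors 35 = ({1, 5, 7, 35} : Finset ℕ) by decide] at this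
  simp only [Finset.mem_insert, Finset.mem_singleton] at this
  omega

/-- Nothing nontrivial of an abelian Sylow subgroup is fixed by its normalizer. -/
theorem not_fixed_abelian (h : Nat.card G = 2520) {p : ℕ} [Fact p.Prime] (T : Sylow p G)
    (hT : IsMulCommutative (T : Subgroup G)) {z : G} (hz : z ∈ (T : Subgroup G))
    (hfix : ∀ n ∈ normalizer ((T : Subgroup G) : Set G), n * z * n⁻¹ = z) : z = 1 := by
  obtain ⟨M, hM, ⟨e⟩⟩ := Cfsg.Agent.S0105.result T hT
  set A := (T : Subgroup G) ⊓ centralizer (normalizer ((T : Subgroup G) : Set G) : Set G) with hA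
  have hzA : z ∈ A := mem_inf.2 ⟨hz, fun n hn => mul_inv_eq_iff_eq_mul.1 (hfix n hn)⟩
  rcases IsSimpleGroup.eq_bot_or_eq_top_of_normal M hM with h' | h'
  · exfalso
    refine nonabelian h ⟨⟨fun a b => ?_⟩⟩
    have hc : ∀ u v : A, u * v = v * u := fun u v => Subtype.ext (congrArg Subtype.val
      (hT.is_comm.comm ⟨u, u.2.1⟩ ⟨v, v.2.1⟩) : _)
    have := hc (e a) (e b)
    rw [← map_mul, ← map_mul, e.injective.eq_iff, ← QuotientGroup.mk_mul, ← QuotientGroup.mk_mul,
      QuotientGroup.eq, h', mem_bot, inv_mul_eq_one] at this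
    exact this
  · have : Subsingleton (G ⧸ M) := by rw [h']; exact QuotientGroup.subsingleton_quotient_top
    have := e.toEquiv.subsingleton_congr.1 this
    exact congrArg Subtype.val (Subsingleton.elim (⟨z, hzA⟩ : A) 1)

/-- The Sylow 2-subgroups are dihedral of order eight. -/
theorem sylow_two_dihedral (h : Nat.card G = 2520) (R : Rep G) [Fact (Nat.Prime 2)] (T : Sylow 2 G) :
    Nonempty ((T : Subgroup G) ≃* DihedralGroup 4) := by
  have := Fintype.ofFinite G
  have hT : Nat.card (T : Subgroup G) = 2 ^ 3 :=
    card_sylow_of_exact T (by rw [h]; norm_num) (by rw [h]; norm_num)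
  have hord : ∀ x : (T : Subgroup G), orderOf x ∣ 2 ^ 3 := fun x => hT ▸ orderOf_dvd_natCard x
  have hnc : ¬ IsMulCommutative (T : Subgroup G) := by
    intro hab
    by_cases hel : ∀ x : (T : Subgroup G), x ^ 2 = 1
    · -- the elementary abelian case
      set N := normalizer ((T : Subgroup G) : Set G) with hN
      have hcent : ∀ {n z : G}, z ∈ (T : Subgroup G) → z ≠ 1 → n * z * n⁻¹ = z → ∀ p,
          (p = 5 ∨ p = 7) → orderOf n ≠ p := by
        intro n z hz hz1 hnz p hp hn
        have hzo : orderOf z = 2 := by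
          have := orderOf_eq_prime (hel ⟨z, hz⟩) (fun e => hz1 (congrArg Subtype.val e))
          rwa [← orderOf_coe] at this
        refine not_dvd_card_centralizer h hp (t := z) (Or.inl hzo) ?_
        rw [← hn]
        exact Subgroup.orderOf_dvd_natCard _
          (mem_centralizer_singleton_iff.2 (mul_inv_eq_iff_eq_mul.1 hnz))
      let X := {z : (T : Subgroup G) // z ≠ 1}
      have hX : Nat.card X = 7 := by
        have := Fintype.ofFinite (T : Subgroup G)
        rw [Nat.card_eq_fintype_card, Fintype.card_subtype_compl, Fintype.card_subtype_eq,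
          ← Nat.card_eq_fintype_card, hT]
        norm_num
      have hval : ∀ (n : N) (z : X), (n : G) * ((z : (T : Subgroup G)) : G) * (n : G)⁻¹ ∈
          (T : Subgroup G) := fun n z => (mem_normalizer_iff.1 n.2 _).1 (z : (T : Subgroup G)).2
      let act : MulAction N X :=
        { smul := fun n z => ⟨⟨_, hval n z⟩, fun e => z.2 (Subtype.ext
            (conj_eq_one_iff.1 (congrArg Subtype.val e)))⟩
          one_smul := fun z => Subtype.ext (Subtype.ext (by
            show ((1 : N) : G) * _ * ((1 : N) : G)⁻¹ = _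
            simp))
          mul_smul := fun m n z => Subtype.ext (Subtype.ext (by
            show ((m * n : N) : G) * _ * ((m * n : N) : G)⁻¹ =
              (m : G) * ((n : G) * _ * (n : G)⁻¹) * (m : G)⁻¹
            simp [mul_assoc])) }
      by_cases h7N : 7 ∣ Nat.card N
      · -- transitive: equal values
        have : Fact (Nat.Prime 7) := ⟨by norm_num⟩
        obtain ⟨w, hw⟩ := exists_prime_orderOf_dvd_card' (G := N) 7 h7N
        obtain ⟨t₀⟩ : Nonempty X := (Nat.card_pos_iff.1 (by rw [hX]; norm_num : 0 < Nat.card X)).1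
        have hinj : Function.Injective fun i : Fin 7 => w ^ (i : ℕ) • t₀ := by
          have key : ∀ i j : ℕ, i < j → j < 7 → w ^ i • t₀ ≠ w ^ j • t₀ := by
            intro i j hij hj e
            have hjeq : w ^ j = w ^ i * w ^ (j - i) := by rw [← pow_add]; congr 1; omega
            rw [hjeq, mul_smul, smul_left_cancel_iff] at e
            refine hcent (n := ((w ^ (j - i) : N) : G)) (t₀ : (T : Subgroup G)).2
              (fun e' => t₀.2 (Subtype.ext e')) (congrArg (fun z : X => ((z : (T : Subgroup G)) : G))
                e.symm) 7 (Or.inr rfl) ?_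
            rw [orderOf_coe, orderOf_pow' _ (by omega), hw,
              (Nat.Prime.coprime_iff_not_dvd (by norm_num : Nat.Prime 7)).2
                (fun hd => absurd (Nat.le_of_dvd (by omega) hd) (by omega)), Nat.div_one]
          intro i j e
          rcases lt_trichotomy (i : ℕ) j with hlt | hlt | hlt
          · exact absurd e (key _ _ hlt j.2)
          · exact Fin.ext hlt
          · exact absurd e.symm (key _ _ hlt i.2)
        have hbij : Function.Bijective fun i : Fin 7 => w ^ (i : ℕ) • t₀ :=
          (Nat.bijective_iff_injective_and_card _).2 ⟨hinj, by rw [Nat.card_fin, hX]⟩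
        set b := R.ρ.character ((t₀ : (T : Subgroup G)) : G)
        have hb : ∀ z : X, R.ρ.character ((z : (T : Subgroup G)) : G) = b := by
          intro z
          obtain ⟨i, rfl⟩ := hbij.2 z
          exact R.char_isClass (isConj_iff.2 ⟨((w ^ (i : ℕ) : N) : G), rfl⟩) |>.symm
        have hsum := sum_char_eq R.ρ (T : Subgroup G)
        rw [Fintype.sum_eq_add_sum_subtype_ne (fun g : (T : Subgroup G) => R.ρ.character (g : G)) 1,
          Finset.sum_congr rfl (fun z _ => hb z), Finset.sum_const, Finset.card_univ,
          ← Nat.card_eq_fintype_card, OneMemClass.coe_one, R.char_one] at hsum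
        rw [show Nat.card {i : (T : Subgroup G) // i ≠ 1} = 7 from hX, hT, nsmul_eq_mul] at hsum
        have ho : orderOf ((t₀ : (T : Subgroup G)) : G) = 2 := by
          rw [orderOf_coe]; exact orderOf_eq_prime (hel _) t₀.2
        set f := Module.finrank ℂ (fixSp R.ρ (T : Subgroup G))
        rcases R.value_invol h ho with ⟨hd, hv⟩ | ⟨hd, hv | hv⟩
        all_goals rw [show b = _ from hv, hd] at hsum
        · have : (4 : ℕ) = 8 * f := by exact_mod_cast (by push_cast; linear_combination hsum :
            ((4 : ℕ) : ℂ) = ((8 * f : ℕ) : ℂ))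
          omega
        · have : (20 : ℕ) = 8 * f := by exact_mod_cast (by push_cast; linear_combination hsum :
            ((20 : ℕ) : ℂ) = ((8 * f : ℕ) : ℂ))
          omega
        · have : (8 * f + 8 : ℕ) = 0 := by exact_mod_cast (by push_cast; linear_combination -hsum :
            ((8 * f + 8 : ℕ) : ℂ) = ((0 : ℕ) : ℂ))
          omega
      · -- a fixed involution
        have h5N : ¬ 5 ∣ Nat.card N := by
          intro h5
          have : Fact (Nat.Prime 5) := ⟨by norm_num⟩
          obtain ⟨w, hw⟩ := exists_prime_orderOf_dvd_card' (G := N) 5 h5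
          obtain ⟨z, hz⟩ := (IsPGroup.of_card (n := 1) (G := zpowers w)
            (by rw [Nat.card_zpowers, hw, pow_one]) : IsPGroup 5 _).nonempty_fixed_point_of_prime_not_dvd_card
              X (by rw [hX]; norm_num)
          exact hcent (n := (w : G)) (z : (T : Subgroup G)).2 (fun e => z.2 (Subtype.ext e))
            (congrArg (fun v : X => ((v : (T : Subgroup G)) : G)) (hz ⟨w, mem_zpowers w⟩)) 5
            (Or.inl rfl) (by rw [orderOf_coe, hw])
        have : Fact (Nat.Prime 3) := ⟨Nat.prime_three⟩
        obtain ⟨Q⟩ := (inferInstance : Nonempty (Sylow 3 N))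
        obtain ⟨z, hz⟩ := Q.2.nonempty_fixed_point_of_prime_not_dvd_card X (by rw [hX]; norm_num)
        have hQz : (Q : Subgroup N) ≤ MulAction.stabilizer N z := fun q hq => hz ⟨q, hq⟩
        have hTz : (T : Subgroup G).subgroupOf N ≤ MulAction.stabilizer N z := fun q hq =>
          Subtype.ext (Subtype.ext (mul_inv_eq_iff_eq_mul.2 (congrArg Subtype.val
            (hab.is_comm.comm ⟨(q : G), hq⟩ (z : (T : Subgroup G)))) : _))
        set S := MulAction.stabilizer N z
        have h8S : 8 ∣ Nat.card S := by
          have := card_dvd_of_le hTz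
          rwa [Nat.card_congr (subgroupOfEquivOfLe le_normalizer).toEquiv, hT] at this
        have htop : S = ⊤ := by
          refine eq_of_le_of_card_ge le_top (le_of_eq ?_)
          rw [card_top]
          refine Nat.dvd_antisymm ?_ (card_subgroup_dvd_card S)
          obtain ⟨k, hk⟩ := Q.2.exists_card_eq
          have hm := (Q : Subgroup N).index_mul_card
          have hni : ¬ 3 ∣ (Q : Subgroup N).index := Q.not_dvd_index
          have hi8 : (Q : Subgroup N).index ∣ 8 := by
            have hd : (Q : Subgroup N).index ∣ 2520 :=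
              h ▸ ((dvd_of_mul_right_eq _ hm).trans (card_subgroup_dvd_card N))
            have h5' : ¬ 5 ∣ (Q : Subgroup N).index := fun h' =>
              h5N (h'.trans (dvd_of_mul_right_eq _ hm))
            have h7' : ¬ 7 ∣ (Q : Subgroup N).index := fun h' =>
              h7N (h'.trans (dvd_of_mul_right_eq _ hm))
            have hcop : Nat.Coprime (Q : Subgroup N).index 315 := by
              rw [show (315 : ℕ) = 3 * 3 * 5 * 7 by norm_num]
              refine ((Nat.Coprime.mul_right ?_ ?_).mul_right ?_).mul_right ?_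
              all_goals first
                | exact ((Nat.Prime.coprime_iff_not_dvd (by norm_num)).2 hni).symm
                | exact ((Nat.Prime.coprime_iff_not_dvd (by norm_num)).2 h5').symm
                | exact ((Nat.Prime.coprime_iff_not_dvd (by norm_num)).2 h7').symm
            exact hcop.dvd_of_dvd_mul_right (by norm_num; exact hd)
          rw [← hm, hk, mul_comm]
          refine (mul_dvd_mul_left _ hi8).trans ?_
          exact Nat.Coprime.mul_dvd_of_dvd_of_dvd (Nat.Coprime.pow_left k (by norm_num))
            (hk ▸ card_dvd_of_le hQz) h8S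
        exact z.2 (Subtype.ext (not_fixed_abelian h T hab (z : (T : Subgroup G)).2 fun n hn =>
          congrArg (fun v : X => ((v : (T : Subgroup G)) : G)) (htop.ge (mem_top ⟨n, hn⟩))))
    · -- exponent at least four
      have := hab
      let _ : CommGroup (T : Subgroup G) :=
        { (inferInstance : Group (T : Subgroup G)) with mul_comm := hab.is_comm.comm }
      obtain ⟨k, hk0, hkk⟩ : ∃ k : ℕ, (∃ x : (T : Subgroup G), x ^ k ≠ 1) ∧
          ∀ x : (T : Subgroup G), (x ^ k) ^ k = 1 := by
        by_cases h4 : ∀ x : (T : Subgroup G), x ^ 4 = 1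
        · exact ⟨2, not_forall.1 hel, fun x => by rw [← pow_mul]; exact h4 x⟩
        · refine ⟨4, not_forall.1 h4, fun x => ?_⟩
          rw [← pow_mul]
          exact orderOf_dvd_iff_pow_eq_one.1 ((hord x).trans (by norm_num))
      let φ : (T : Subgroup G) →* (T : Subgroup G) := powMonoidHom k
      have hle : φ.range ≤ φ.ker := by
        rintro _ ⟨x, rfl⟩
        exact hkk x
      have hcard := φ.ker.index_mul_card
      rw [Subgroup.index_ker, hT] at hcard
      have hd := card_dvd_of_le hle
      obtain ⟨x, hx⟩ := hk0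
      have h1 : 1 < Nat.card φ.range := by
        rw [one_lt_card_iff_ne_bot]
        intro e
        exact hx (mem_bot.1 (e ▸ (⟨x, rfl⟩ : φ x ∈ φ.range)))
      have h2 : Nat.card φ.range = 2 := by
        obtain ⟨i, hi, hri⟩ := (Nat.dvd_prime_pow Nat.prime_two).1
          (hT ▸ card_subgroup_dvd_card φ.range)
        rw [hri] at hcard hd h1 ⊢
        obtain ⟨j, hj⟩ := hd
        rw [hj] at hcard
        interval_cases i
        all_goals (try norm_num at hcard h1 ⊢)
        all_goals omega
      refine hx (Subtype.ext (not_fixed_abelian h T hab (x ^ k).2 fun n hn => ?_))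
      set x' : (T : Subgroup G) := ⟨n * x * n⁻¹, (mem_normalizer_iff.1 hn _).1 x.2⟩
      have he : n * ((x ^ k : (T : Subgroup G)) : G) * n⁻¹ = ((x' ^ k : (T : Subgroup G)) : G) := by
        simp only [SubmonoidClass.coe_pow, x', conj_pow]
      rw [he]
      obtain ⟨b, hb⟩ := (Nat.card_eq_two_iff' (1 : φ.range)).1 h2
      have hxk : (⟨x ^ k, x, rfl⟩ : φ.range) = b := hb.2 _ fun e => hx (congrArg Subtype.val e)
      have hx'k : (⟨x' ^ k, x', rfl⟩ : φ.range) = b := hb.2 _ fun e => by
        have e' : ((x' ^ k : (T : Subgroup G)) : G) = 1 := congrArg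
          (fun u : φ.range => ((u : (T : Subgroup G)) : G)) e
        rw [← he, conj_eq_one_iff] at e'
        exact hx (Subtype.ext e')
      exact congrArg (fun u : φ.range => ((u : (T : Subgroup G)) : G)) (hx'k.trans hxk.symm)
  -- a four group gives a non-central involution
  obtain ⟨V, hV⟩ : ∃ V : Subgroup G, IsKleinFour V := by
    by_contra hno
    obtain ⟨z, hz, M, hMn, hMo, hMc⟩ := Cfsg.Agent.S0225.result
      (by rw [h]; decide) (not_exists.1 hno)
    rcases IsSimpleGroup.eq_bot_or_eq_top_of_normal M hMn with h' | h'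
    · have hzc : z ∈ center G := mem_center_iff.2 fun g => by
        have := hMc g
        rw [h', mem_bot, mul_inv_eq_one, mul_inv_eq_iff_eq_mul] at this
        exact this.symm
      rcases IsSimpleGroup.eq_bot_or_eq_top_of_normal (center G) inferInstance with h'' | h''
      · rw [h'', mem_bot] at hzc; rw [hzc, orderOf_one] at hz; norm_num at hz
      · exact nonabelian h ⟨⟨fun a b => mem_center_iff.1 (h''.ge (mem_top b)) a⟩⟩
    · rw [h', card_top, h] at hMo; exact absurd hMo (by decide)
  obtain ⟨T', hT'⟩ := (IsPGroup.of_card (n := 2) (G := V)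
    (by rw [hV.card_four]; norm_num) : IsPGroup 2 _).exists_le_sylow
  obtain ⟨e⟩ : Nonempty ((T : Subgroup G) ≃* (T' : Subgroup G)) := ⟨Sylow.equiv T T'⟩
  have hnc' : ¬ IsMulCommutative (T' : Subgroup G) := fun hc => hnc ⟨⟨fun a b =>
    e.injective (by rw [map_mul, map_mul, hc.is_comm.comm])⟩⟩
  have hT'c : Nat.card (T' : Subgroup G) = 8 := by
    rw [← Nat.card_congr e.toEquiv, hT]; norm_num
  obtain ⟨y, hy, hyc⟩ : ∃ y : (T' : Subgroup G), orderOf y = 2 ∧ y ∉ center (T' : Subgroup G) := by
    by_contra hno
    have hVZ : V.subgroupOf (T' : Subgroup G) ≤ center (T' : Subgroup G) := by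
      intro v hv
      by_contra hvc
      refine hno ⟨v, orderOf_eq_prime ?_ fun e' => hvc (e' ▸ one_mem _), hvc⟩
      have h2 := Monoid.pow_exponent_eq_one (⟨(v : G), hv⟩ : V)
      rw [hV.exponent_two] at h2
      have h3 := congrArg (fun u : V => (u : G)) h2
      exact Subtype.ext (by simpa using h3)
    have h4 : 4 ∣ Nat.card (center (T' : Subgroup G)) := by
      have := card_dvd_of_le hVZ
      rwa [Nat.card_congr (subgroupOfEquivOfLe hT').toEquiv, hV.card_four] at this
    have hq : Nat.card ((T' : Subgroup G) ⧸ center (T' : Subgroup G)) ∣ 2 := by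
      obtain ⟨j, hj⟩ := h4
      have := (center (T' : Subgroup G)).index_mul_card
      rw [hT'c, hj] at this
      rw [← Subgroup.index_eq_card]
      exact ⟨j, by linarith⟩
    have : IsCyclic ((T' : Subgroup G) ⧸ center (T' : Subgroup G)) := by
      rcases (Nat.dvd_prime Nat.prime_two).1 hq with h' | h'
      · have := (Nat.card_eq_one_iff_unique.1 h').1
        exact isCyclic_of_subsingleton
      · exact isCyclic_of_prime_card h'
    exact hnc' ⟨⟨fun a b => commutative_of_cyclic_center_quotient
      (QuotientGroup.mk' (center (T' : Subgroup G))) (by rw [QuotientGroup.ker_mk']) a b⟩⟩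
  obtain ⟨e'⟩ := CfsgLib.Transfer.nonempty_dihedral_of_card_eight hT'c hnc' hy hyc
  exact ⟨e.trans e'⟩

end CfsgLib.ClassK.Simple2520
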