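import Cfsg.Agent.Lib.ClassK.Simple2520Degree

/-!
A subgroup of order 120 in a group of order 2520 without subgroups of index seven acts faithfully
on its six Sylow subgroups for the prime five and has a subgroup of index two.
-/

set_option autoImplicit false
set_option linter.unusedSectionVars false

namespace CfsgLib.ClassK.Simple2520

open Subgroup Cfsg Equiv
open scoped Classical

universe u

section Perm

variable {α : Type*} [Fintype α] [DecidableEq α]

theorem sign_of_order_four {p : Perm α} (hα : Fintype.card α = 6) (hp : orderOf p = 4) {a : α}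
    (ha : p a = a) : Perm.sign p = -1 := by
  have h5 : p.cycleType.sum ≤ 5 := by
    rw [Perm.sum_cycleType]
    have : p.support ⊆ Finset.univ.erase a := fun x hx =>
      Finset.mem_erase.2 ⟨fun e => (Perm.mem_support.1 hx) (e ▸ ha), Finset.mem_univ _⟩
    have := Finset.card_le_card this
    rw [Finset.card_erase_of_mem (Finset.mem_univ _), Finset.card_univ, hα] at this
    exact this
  have hl : p.cycleType.lcm = 4 := by rw [Perm.lcm_cycleType, hp]
  have h4 : 4 ∈ p.cycleType := by
    by_contra h4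
    have hd : p.cycleType.lcm ∣ 2 := Multiset.lcm_dvd.2 fun n hn => by
      have h1 := Multiset.dvd_lcm hn
      have h2 := Perm.two_le_of_mem_cycleType hn
      rw [hl] at h1
      have h3 : n ≤ 4 := Nat.le_of_dvd (by norm_num) h1
      have h6 : n ≠ 4 := fun e => h4 (e ▸ hn)
      interval_cases n <;> simp_all
    rw [hl] at hd
    norm_num at hd
  obtain ⟨m, hm⟩ := Multiset.exists_cons_of_mem h4
  have hm0 : m = 0 := Multiset.eq_zero_of_forall_notMem fun n hn => by
    have h2 := Perm.two_le_of_mem_cycleType (σ := p) (hm ▸ Multiset.mem_cons_of_mem hn)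
    have h3 := Multiset.le_sum_of_mem hn
    rw [hm, Multiset.sum_cons] at h5
    omega
  rw [Perm.sign_of_cycleType, hm, hm0]
  simp
  decide

theorem sign_of_order_six {p : Perm α} (hα : Fintype.card α = 6) (hp : orderOf p = 6) :
    Perm.sign p = -1 := by
  have h6 : p.cycleType.sum ≤ 6 := by
    rw [Perm.sum_cycleType, ← hα]; exact Finset.card_le_univ _
  have hl : p.cycleType.lcm = 6 := by rw [Perm.lcm_cycleType, hp]
  have hmem : ∀ n ∈ p.cycleType, n = 2 ∨ n = 3 ∨ n = 6 := fun n hn => by
    have h1 := Multiset.dvd_lcm hn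
    have h2 := Perm.two_le_of_mem_cycleType hn
    rw [hl] at h1
    have h3 : n ≤ 6 := Nat.le_of_dvd (by norm_num) h1
    interval_cases n <;> simp_all
  by_cases h : 6 ∈ p.cycleType
  · obtain ⟨m, hm⟩ := Multiset.exists_cons_of_mem h
    have hm0 : m = 0 := Multiset.eq_zero_of_forall_notMem fun n hn => by
      have h2 := Perm.two_le_of_mem_cycleType (σ := p) (hm ▸ Multiset.mem_cons_of_mem hn)
      have h3 := Multiset.le_sum_of_mem hn
      rw [hm, Multiset.sum_cons] at h6
      omega
    rw [Perm.sign_of_cycleType, hm, hm0]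
    simp
    decide
  · have h2 : 2 ∈ p.cycleType := by
      by_contra h2
      have hd : p.cycleType.lcm ∣ 3 := Multiset.lcm_dvd.2 fun n hn => by
        rcases hmem n hn with rfl | rfl | rfl
        · exact absurd hn h2
        · exact dvd_rfl
        · exact absurd hn h
      rw [hl] at hd
      norm_num at hd
    have h3 : 3 ∈ p.cycleType := by
      by_contra h3
      have hd : p.cycleType.lcm ∣ 2 := Multiset.lcm_dvd.2 fun n hn => by
        rcases hmem n hn with rfl | rfl | rfl
        · exact dvd_rfl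
        · exact absurd hn h3
        · exact absurd hn h
      rw [hl] at hd
      norm_num at hd
    obtain ⟨m, hm⟩ := Multiset.exists_cons_of_mem h2
    rw [hm] at h3
    obtain ⟨m', hm'⟩ := Multiset.exists_cons_of_mem
      ((Multiset.mem_cons.1 h3).resolve_left (by norm_num))
    subst hm'
    have hm0 : m' = 0 := Multiset.eq_zero_of_forall_notMem fun n hn => by
      have h2 := Perm.two_le_of_mem_cycleType (σ := p)
        (hm ▸ Multiset.mem_cons_of_mem (Multiset.mem_cons_of_mem hn))
      have h3 := Multiset.le_sum_of_mem hn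
      rw [hm, Multiset.sum_cons, Multiset.sum_cons] at h6
      omega
    rw [Perm.sign_of_cycleType, hm, hm0]
    simp
    decide

end Perm

variable {G : Type u} [Group G] [Finite G]

/-- A subgroup of index two of `L`, seen inside the group. -/
structure HalfData (L A : Subgroup G) : Prop where
  le : A ≤ L
  card : Nat.card A = 60
  sq : ∀ a ∈ L, a * a ∈ A
  conj : ∀ l ∈ L, ∀ a ∈ A, l * a * l⁻¹ ∈ A
  mul_notMem : ∀ a ∈ L, ∀ b ∈ L, a ∉ A → b ∉ A → a * b ∈ A
  no_six : ∀ a ∈ A, orderOf a ≠ 6

theorem HalfData.odd_mem {L A : Subgroup G} (hA : HalfData L A) {a : G} (ha : a ∈ L)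
    (ho : Odd (orderOf a)) : a ∈ A := by
  obtain ⟨k, hk⟩ := ho
  have h1 : a = (a ^ (k + 1)) * (a ^ (k + 1)) := by
    rw [← pow_add, show k + 1 + (k + 1) = orderOf a + 1 by omega, pow_succ, pow_orderOf_eq_one,
      one_mul]
  rw [h1]
  exact hA.sq _ (pow_mem ha _)

variable [IsSimpleGroup G] (X : Ctx G)
include X

theorem Ctx.mem_zpowers_five {z w : G} (hz : orderOf z = 5) (hw : w ∈ zpowers z) (hne : w ≠ 1) :
    z ∈ zpowers w := by
  haveI : Fact (Nat.Prime 5) := ⟨by norm_num⟩
  have hle : zpowers w ≤ zpowers z := zpowers_le.2 hw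
  have h5 : orderOf w = 5 := ((Nat.dvd_prime (by norm_num : Nat.Prime 5)).1
    (hz ▸ orderOf_dvd_of_mem_zpowers hw)).resolve_left (by simpa using hne)
  rw [eq_of_le_of_card_ge hle (by rw [Nat.card_zpowers, Nat.card_zpowers, h5, hz])]
  exact mem_zpowers z

/-- A subgroup of order 120 contains the normaliser of each of its subgroups of order five, and
acts faithfully on six of them. -/
theorem Ctx.half (L : Subgroup G) (hL : Nat.card L = 120) : ∃ A : Subgroup G, HalfData L A := by
  haveI : Fact (Nat.Prime 5) := ⟨by norm_num⟩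
  haveI := Fintype.ofFinite (Sylow 5 L)
  obtain ⟨z', hz'⟩ := exists_prime_orderOf_dvd_card' (G := L) 5 (by rw [hL]; norm_num)
  have hz : orderOf (z' : G) = 5 := by rw [orderOf_coe, hz']
  obtain ⟨hN, hC⟩ := X.five_data hz
  obtain ⟨P, hP⟩ := (IsPGroup.of_card (n := 1) (G := zpowers z')
    (by rw [Nat.card_zpowers, hz', pow_one]) : IsPGroup 5 _).exists_le_sylow
  have hPc : Nat.card (P : Subgroup L) = 5 ^ 1 :=
    card_sylow_of_exact P (by rw [hL]; norm_num) (by rw [hL]; norm_num)
  have hPz : (P : Subgroup L) = zpowers z' :=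
    (eq_of_le_of_card_ge hP (by rw [hPc, Nat.card_zpowers, hz']; norm_num)).symm
  have hmap : (P : Subgroup L).map L.subtype = zpowers (z' : G) := by
    rw [hPz, MonoidHom.map_zpowers]; rfl
  -- the normaliser inside `L`
  have hnorm : ∀ g : L, g ∈ normalizer ((P : Subgroup L) : Set L) ↔
      (g : G) ∈ normalizer (zpowers (z' : G) : Set G) := by
    intro g
    rw [mem_normalizer_iff, mem_normalizer_iff, ← hmap]
    constructor
    · intro h x
      constructor
      · rintro ⟨a, ha, rfl⟩
        exact ⟨g * a * g⁻¹, (h a).1 ha, by simp⟩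
      · rintro ⟨a, ha, e⟩
        refine ⟨g⁻¹ * a * g, (h _).2 (by rw [show g * (g⁻¹ * a * g) * g⁻¹ = a by group]; exact ha), ?_⟩
        simp only [Subgroup.coe_subtype, Subgroup.coe_mul, InvMemClass.coe_inv] at e ⊢
        rw [e]; group
    · intro h x
      constructor
      · intro hx
        obtain ⟨a, ha, e⟩ := (h (x : G)).1 ⟨x, hx, rfl⟩
        rwa [show g * x * g⁻¹ = a from Subtype.ext (by simpa using e.symm)]
      · intro hx
        obtain ⟨a, ha, e⟩ := (h (x : G)).2 ⟨g * x * g⁻¹, hx, by simp⟩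
        rwa [show x = a from Subtype.ext (by simpa using e.symm)]
  have hNd : Nat.card (normalizer ((P : Subgroup L) : Set L)) ∣ 20 := by
    have h := card_dvd_of_le (show (normalizer ((P : Subgroup L) : Set L)).map L.subtype ≤
      normalizer (zpowers (z' : G) : Set G) by rintro _ ⟨g, hg, rfl⟩; exact (hnorm g).1 hg)
    rwa [card_map_of_injective L.subtype_injective, hN] at h
  have hn5 : Nat.card (Sylow 5 L) = 6 ∧ Nat.card (normalizer ((P : Subgroup L) : Set L)) = 20 := by
    have h1 := (normalizer ((P : Subgroup L) : Set L)).card_mul_index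
    rw [show (normalizer ((P : Subgroup L) : Set L)).index = Nat.card (Sylow 5 L) from
      (Sylow.card_eq_index_normalizer P).symm, hL] at h1
    have h2 : Nat.card (Sylow 5 L) % 5 = 1 := card_sylow_modEq_one 5 L
    obtain ⟨c, hc⟩ := hNd
    set n := Nat.card (Sylow 5 L)
    set N := Nat.card (normalizer ((P : Subgroup L) : Set L))
    have h3 : n = 6 * c := by
      have : N * n = N * (6 * c) := by rw [h1, show N * (6 * c) = 6 * (N * c) by ring, ← hc]
      exact Nat.eq_of_mul_eq_mul_left Nat.card_pos this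
    have hc20 : c ∣ 20 := ⟨N, by rw [hc]; ring⟩
    have hcv : c ∈ Nat.divisors 20 := Nat.mem_divisors.2 ⟨hc20, by norm_num⟩
    rw [show Nat.divisors 20 = ({1, 2, 4, 5, 10, 20} : Finset ℕ) by decide] at hcv
    simp only [Finset.mem_insert, Finset.mem_singleton] at hcv
    rcases hcv with rfl | rfl | rfl | rfl | rfl | rfl <;> omega
  obtain ⟨hn, hN20⟩ := hn5
  have hNL : normalizer (zpowers (z' : G) : Set G) ≤ L := by
    have h := eq_of_le_of_card_ge
      (show (normalizer ((P : Subgroup L) : Set L)).map L.subtype ≤ normalizer (zpowers (z' : G) : Set G)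
        by rintro _ ⟨g, hg, rfl⟩; exact (hnorm g).1 hg)
      (by rw [card_map_of_injective L.subtype_injective, hN20, hN])
    rw [← h]; exact map_subtype_le _
  let φ := MulAction.toPermHom L (Sylow 5 L)
  have hfix : ∀ g : L, φ g P = P → (g : G) ∈ normalizer (zpowers (z' : G) : Set G) := fun g hg =>
    (hnorm g).1 (Sylow.smul_eq_iff_mem_normalizer.1 hg)
  have hzk : z' ∉ φ.ker := by
    intro hk
    obtain ⟨Q, hQ⟩ : ∃ Q : Sylow 5 L, Q ≠ P := by
      by_contra hno
      push_neg at hno
      haveI : Subsingleton (Sylow 5 L) := ⟨fun a b => (hno a).trans (hno b).symm⟩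
      have := Finite.card_le_one_iff_subsingleton.2 (inferInstance : Subsingleton (Sylow 5 L))
      omega
    have h1 : (P : Subgroup L) ≤ normalizer ((Q : Subgroup L) : Set L) := by
      rw [hPz, zpowers_le]
      exact Sylow.smul_eq_iff_mem_normalizer.1 (Equiv.Perm.ext_iff.1 (φ.mem_ker.1 hk) Q)
    have h2 : (P : Subgroup L) ≤ (Q : Subgroup L) := by
      intro x hx
      have h4 := le_of_eq (P.isPGroup'.inf_normalizer_sylow Q) (mem_inf.2 ⟨hx, h1 hx⟩)
      exact (mem_inf.1 h4).2
    exact hQ (Sylow.ext (eq_of_le_of_card_ge h2 (by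
      rw [hPc, card_sylow_of_exact Q (by rw [hL]; norm_num : (5 : ℕ) ^ 1 ∣ Nat.card L)
        (by rw [hL]; norm_num)])).symm)
  have hinj : Function.Injective φ := by
    rw [← MonoidHom.ker_eq_bot_iff, eq_bot_iff]
    intro g hg
    rw [mem_bot]
    by_contra hne
    have hgN := hfix g (Equiv.Perm.ext_iff.1 (φ.mem_ker.1 hg) P)
    have key : ∀ w ∈ φ.ker, (w : G) ∈ zpowers (z' : G) → w = 1 := by
      intro w hw hwz
      by_contra hw1
      refine hzk ?_
      obtain ⟨i, hi⟩ := mem_zpowers_iff.1 (X.mem_zpowers_five hz hwz (by simpa using hw1))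
      rw [show z' = w ^ i from Subtype.ext (by simpa using hi.symm)]
      exact zpow_mem hw i
    have h1 : g * z' * g⁻¹ * z'⁻¹ = 1 := by
      refine key _ ?_ ?_
      · rw [show g * z' * g⁻¹ * z'⁻¹ = g * (z' * g⁻¹ * z'⁻¹) by group]
        exact mul_mem hg ((inferInstance : φ.ker.Normal).conj_mem _ (inv_mem hg) z')
      · exact mul_mem ((mem_normalizer_iff.1 hgN (z' : G)).1 (mem_zpowers _))
          (inv_mem (mem_zpowers _))
    refine hne (key g hg (hC _ ?_))
    rw [mul_inv_eq_one, mul_inv_eq_iff_eq_mul] at h1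
    exact congrArg (Subtype.val : L → G) h1
  obtain ⟨y, hy, hyz⟩ := X.exists_four_normalizing hz
  have hyN : y ∈ normalizer (zpowers (z' : G) : Set G) := by
    rw [mem_normalizer_iff_map_conj_eq, MonoidHom.map_zpowers]
    show zpowers (y * (z' : G) * y⁻¹) = _
    rw [hyz]
    refine eq_of_le_of_card_ge (zpowers_le.2 (pow_mem (mem_zpowers _) 2)) ?_
    rw [Nat.card_zpowers, Nat.card_zpowers, (orderOf_pow' _ (by norm_num)).trans (by rw [hz]; rfl : _ = 5), hz]
  have hyL : y ∈ L := hNL hyN
  have hysign : Equiv.Perm.sign (φ ⟨y, hyL⟩) = -1 := by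
    refine sign_of_order_four ?_ ?_ (a := P) ?_
    · rw [← Nat.card_eq_fintype_card, hn]
    · rw [orderOf_injective φ hinj, ← orderOf_coe]; exact hy
    · exact Sylow.smul_eq_iff_mem_normalizer.2 ((hnorm _).2 hyN)
  let σ : L →* ℤˣ := Equiv.Perm.sign.comp φ
  have hmem : ∀ a, a ∈ σ.ker.map L.subtype ↔ ∃ h : a ∈ L, σ ⟨a, h⟩ = 1 := by
    intro a
    constructor
    · rintro ⟨b, hb, rfl⟩; exact ⟨b.2, hb⟩
    · rintro ⟨h, hh⟩; exact ⟨⟨a, h⟩, hh, rfl⟩
  have hneg : ∀ a : L, σ a ≠ 1 → σ a = -1 := fun a ha => (Int.units_eq_one_or _).resolve_left ha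
  refine ⟨σ.ker.map L.subtype, map_subtype_le _, ?_, ?_, ?_, ?_, ?_⟩
  · rw [card_map_of_injective L.subtype_injective]
    have h1 := σ.ker.card_mul_index
    rw [hL, index_ker, show σ.range = ⊤ from top_unique fun x _ => ?_, card_top,
      show Nat.card ℤˣ = 2 by simp] at h1
    · omega
    · rcases Int.units_eq_one_or x with rfl | rfl
      · exact one_mem _
      · exact ⟨⟨y, hyL⟩, hysign⟩
  · intro a ha
    exact (hmem _).2 ⟨mul_mem ha ha, by
      rw [show (⟨a * a, _⟩ : L) = ⟨a, ha⟩ * ⟨a, ha⟩ from rfl, map_mul, Int.units_mul_self]⟩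
  · intro l hl a ha
    obtain ⟨haL, ha1⟩ := (hmem a).1 ha
    refine (hmem _).2 ⟨mul_mem (mul_mem hl haL) (inv_mem hl), ?_⟩
    rw [show (⟨l * a * l⁻¹, _⟩ : L) = ⟨l, hl⟩ * ⟨a, haL⟩ * ⟨l, hl⟩⁻¹ from rfl, map_mul, map_mul, ha1,
      mul_one, map_inv, mul_inv_cancel]
  · intro a ha b hb na nb
    refine (hmem _).2 ⟨mul_mem ha hb, ?_⟩
    rw [show (⟨a * b, _⟩ : L) = ⟨a, ha⟩ * ⟨b, hb⟩ from rfl, map_mul,
      hneg _ fun e => na ((hmem a).2 ⟨ha, e⟩), hneg _ fun e => nb ((hmem b).2 ⟨hb, e⟩)]
    rfl
  · intro a ha ho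
    obtain ⟨haL, ha1⟩ := (hmem a).1 ha
    have h6 : orderOf (φ ⟨a, haL⟩) = 6 := by rw [orderOf_injective φ hinj, ← orderOf_coe]; exact ho
    have := sign_of_order_six (by rw [← Nat.card_eq_fintype_card, hn]) h6
    simp only [σ, MonoidHom.coe_comp, Function.comp_apply, this] at ha1
    exact absurd ha1 (by decide)

end CfsgLib.ClassK.Simple2520
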