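import Cfsg.Agent.Lib.ClassK.Simple2520Count
import Cfsg.Agent.Lib.Trans3.Sylow2

/-!
Involution centralisers, elements of order four, and Sylow normalisers for groups of order 2520
without a subgroup of index seven.
-/

set_option autoImplicit false
set_option linter.unusedSectionVars false

namespace CfsgLib.ClassK.Simple2520

open Subgroup Cfsg
open scoped Classical

universe u

/-- The hypotheses: order 2520, no subgroup of index seven, and a small faithful representation. -/
structure Ctx (G : Type u) [Group G] where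
  h : Nat.card G = 2520
  h7 : ∀ H : Subgroup G, H.index ≠ 7
  R : Rep G

variable {G : Type u} [Group G] [Finite G] [IsSimpleGroup G] (X : Ctx G)
include X

theorem Ctx.pResidual_eq_top : Cfsg.pResidual 2 G = ⊤ := by
  haveI : Fact (Nat.Prime 5) := ⟨by norm_num⟩
  obtain ⟨z, hz⟩ := exists_prime_orderOf_dvd_card' (G := G) 5 (by rw [X.h]; norm_num)
  haveI := CfsgLib.Transfer.pResidual_normal (p := 2) (G := G)
  refine (IsSimpleGroup.eq_bot_or_eq_top_of_normal _ inferInstance).resolve_left fun e => ?_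
  have h1 := CfsgLib.Transfer.mem_pResidual_of_coprime (p := 2) (g := z) (by rw [hz]; norm_num)
  rw [e, mem_bot] at h1
  rw [h1, orderOf_one] at hz
  norm_num at hz

theorem Ctx.dihedral (T : Sylow 2 G) : Nonempty ((T : Subgroup G) ≃* DihedralGroup 4) :=
  haveI : Fact (Nat.Prime 2) := ⟨Nat.prime_two⟩
  sylow_two_dihedral X.h X.R T

theorem Ctx.card_sylow_two (T : Sylow 2 G) : Nat.card (T : Subgroup G) = 8 := by
  obtain ⟨e⟩ := X.dihedral T
  rw [Nat.card_congr e.toEquiv, DihedralGroup.nat_card]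

theorem Ctx.invol_conj {s t : G} (hs : orderOf s = 2) (ht : orderOf t = 2) :
    ∃ g : G, g * s * g⁻¹ = t :=
  haveI : Fact (Nat.Prime 2) := ⟨Nat.prime_two⟩
  Cfsg.Agent.S0107.result default 2 le_rfl
    (by rw [show (2 : ℕ) ^ 2 = 4 by norm_num]; exact X.dihedral default) X.pResidual_eq_top s t hs ht

/-- Every involution is central in some Sylow subgroup. -/
theorem Ctx.exists_sylow_central {t : G} (ht : orderOf t = 2) :
    ∃ T : Sylow 2 G, (T : Subgroup G) ≤ centralizer ({t} : Set G) := by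
  haveI : Fact (Nat.Prime 2) := ⟨Nat.prime_two⟩
  let S : Sylow 2 G := default
  obtain ⟨e⟩ := X.dihedral S
  set c : G := ((e.symm (DihedralGroup.r 2) : (S : Subgroup G)) : G) with hc
  have hc2 : orderOf c = 2 := by
    rw [hc, orderOf_coe, MulEquiv.orderOf_eq, DihedralGroup.orderOf_r]
    decide
  have hcen : ∀ d : DihedralGroup 4, Commute (DihedralGroup.r 2) d := by
    unfold Commute SemiconjBy; decide
  obtain ⟨g, hg⟩ := X.invol_conj hc2 ht
  refine ⟨g • S, fun x hx => ?_⟩
  rw [Sylow.coe_subgroup_smul] at hx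
  obtain ⟨y, hy, rfl⟩ := hx
  have h1 : y * c = c * y := by
    have h2 := congrArg (fun d => ((e.symm d : (S : Subgroup G)) : G)) (hcen (e ⟨y, hy⟩)).eq
    simpa [hc] using h2.symm
  rw [mem_centralizer_singleton_iff, ← hg]
  show g * y * g⁻¹ * (g * c * g⁻¹) = g * c * g⁻¹ * (g * y * g⁻¹)
  rw [show g * y * g⁻¹ * (g * c * g⁻¹) = g * (y * c) * g⁻¹ by group, h1]
  group

/-- The centraliser of an involution has order 24. -/
theorem Ctx.card_centralizer_invol {t : G} (ht : orderOf t = 2) :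
    Nat.card (centralizer ({t} : Set G)) = 24 := by
  haveI : Fact (Nat.Prime 2) := ⟨Nat.prime_two⟩
  haveI : Fact (Nat.Prime 3) := ⟨Nat.prime_three⟩
  obtain ⟨T, hT⟩ := X.exists_sylow_central ht
  set C := centralizer ({t} : Set G) with hC
  have h8 : 8 ∣ Nat.card C := X.card_sylow_two T ▸ card_dvd_of_le hT
  have h72 : Nat.card C ∣ 72 := by
    have h2520 : Nat.card C ∣ 2520 := X.h ▸ card_subgroup_dvd_card C
    have hcop : Nat.Coprime (Nat.card C) 35 := by
      rw [show (35 : ℕ) = 5 * 7 by norm_num]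
      exact Nat.Coprime.mul_right
        ((Nat.Prime.coprime_iff_not_dvd (by norm_num)).2
          (not_dvd_card_centralizer X.h (Or.inl rfl) (Or.inl ht))).symm
        ((Nat.Prime.coprime_iff_not_dvd (by norm_num)).2
          (not_dvd_card_centralizer X.h (Or.inr rfl) (Or.inl ht))).symm
    exact hcop.dvd_of_dvd_mul_right (by norm_num; exact h2520)
  obtain ⟨k, hk⟩ := h8
  rw [hk] at h72
  have hk9 : k ∣ 9 := Nat.dvd_of_mul_dvd_mul_left (by norm_num : 0 < 8) (by norm_num; exact h72)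
  rcases (Nat.dvd_prime_pow Nat.prime_three).1 (show k ∣ 3 ^ 2 by norm_num; exact hk9) with ⟨i, hi, rfl⟩
  interval_cases i
  · exfalso
    have hTC : (T : Subgroup G) = C := eq_of_le_of_card_ge hT (by rw [hk, X.card_sylow_two]; norm_num)
    obtain ⟨e⟩ := X.dihedral T
    rcases Cfsg.Agent.S0848.result (perfect X.h) t ht
      ((MulEquiv.subgroupCongr hTC.symm).trans e) with h | h <;> rw [X.h] at h <;> norm_num at h
  · rw [hk]; norm_num
  · exfalso
    obtain ⟨N, hNn, hNodd, j, hj⟩ := Cfsg.Agent.S0514.result T 4 (by norm_num) (X.dihedral T) t ht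
    haveI := hNn
    have hN9 : Nat.card N = 9 := by
      have h1 := N.card_mul_index
      rw [hk, hj] at h1
      have h2 : Nat.Coprime (Nat.card N) (2 ^ 3) :=
        Nat.Coprime.pow_right 3 (Nat.coprime_two_right.2 hNodd)
      have h3 : Nat.card N ∣ 9 := h2.dvd_of_dvd_mul_left ⟨2 ^ j, by rw [h1]; norm_num⟩
      have h4 : Nat.Coprime 9 (2 ^ j) := Nat.Coprime.pow_right j (by norm_num)
      exact Nat.dvd_antisymm h3 (h4.dvd_of_dvd_mul_right ⟨8, by rw [h1]; norm_num⟩)
    obtain ⟨P, hP⟩ : ∃ P : Sylow 3 G, (N.map C.subtype) ≤ (P : Subgroup G) :=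
      (IsPGroup.of_card (n := 2) (by
        rw [card_map_of_injective C.subtype_injective, hN9]; norm_num) :
        IsPGroup 3 (N.map C.subtype)).exists_le_sylow
    have hPc : Nat.card (P : Subgroup G) = 3 ^ 2 :=
      card_sylow_of_exact P (by rw [X.h]; norm_num) (by rw [X.h]; norm_num)
    have heq : N.map C.subtype = (P : Subgroup G) := eq_of_le_of_card_ge hP (by
      rw [hPc, card_map_of_injective C.subtype_injective, hN9]; norm_num)
    refine card_normalizer_three X.h X.h7 P ?_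
    have hle : C ≤ normalizer ((P : Subgroup G) : Set G) := by
      rw [← heq]
      intro c hc
      rw [mem_normalizer_iff]
      intro x
      constructor
      · rintro ⟨y, hy, rfl⟩
        exact ⟨⟨c, hc⟩ * y * (⟨c, hc⟩ : C)⁻¹, hNn.conj_mem y hy _, rfl⟩
      · rintro ⟨y, hy, e⟩
        refine ⟨(⟨c, hc⟩ : C)⁻¹ * y * ⟨c, hc⟩, by simpa using hNn.conj_mem y hy (⟨c, hc⟩ : C)⁻¹, ?_⟩
        have e' : (y : G) = c * x * c⁻¹ := e
        show c⁻¹ * (y : G) * c = x
        rw [e']; group
    exact (by rw [hk]; norm_num : 72 ∣ Nat.card C).trans (card_dvd_of_le hle)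

/-- The centraliser of an involution has a single subgroup of order three. -/
theorem Ctx.three_unique {t a b : G} (ht : orderOf t = 2) (ha : orderOf a = 3) (hb : orderOf b = 3)
    (hat : Commute a t) (hbt : Commute b t) : b ∈ zpowers a := by
  haveI : Fact (Nat.Prime 2) := ⟨Nat.prime_two⟩
  obtain ⟨T⟩ : Nonempty (Sylow 2 G) := inferInstance
  set C := centralizer ({t} : Set G)
  obtain ⟨N, hNn, hNodd, j, hj⟩ := Cfsg.Agent.S0514.result T 4 (by norm_num) (X.dihedral T) t ht
  haveI := hNn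
  have hc := N.card_mul_index
  rw [hj, show Nat.card C = 24 from X.card_centralizer_invol ht] at hc
  have h3 : Nat.card N ∣ 3 :=
    (Nat.Coprime.pow_right 3 (Nat.coprime_two_right.2 hNodd)).dvd_of_dvd_mul_left
      ⟨2 ^ j, by rw [hc]⟩
  have hmem : ∀ c : G, orderOf c = 3 → Commute c t → ∃ hc : c ∈ C, (⟨c, hc⟩ : C) ∈ N := by
    intro c hc3 hct
    refine ⟨mem_centralizer_singleton_iff.2 hct.eq, ?_⟩
    set c' : C := ⟨c, mem_centralizer_singleton_iff.2 hct.eq⟩
    rw [← QuotientGroup.eq_one_iff (N := N), ← orderOf_eq_one_iff]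
    have h1 : orderOf (c' : C ⧸ N) ∣ 3 :=
      (orderOf_map_dvd (QuotientGroup.mk' N) c').trans (by rw [← orderOf_coe]; exact hc3.dvd)
    have h2 : orderOf (c' : C ⧸ N) ∣ 2 ^ j := by
      rw [← hj, Subgroup.index_eq_card]; exact orderOf_dvd_natCard _
    exact Nat.eq_one_of_dvd_coprimes (Nat.Coprime.pow_right j (by norm_num : Nat.Coprime 3 2)) h1 h2
  obtain ⟨haC, haN⟩ := hmem a ha hat
  obtain ⟨hbC, hbN⟩ := hmem b hb hbt
  have hle : zpowers (⟨a, haC⟩ : C) ≤ N := zpowers_le.2 haN
  have hord : orderOf (⟨a, haC⟩ : C) = 3 := by rw [← orderOf_coe]; exact ha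
  have heq := eq_of_le_of_card_ge hle (by rw [Nat.card_zpowers, hord]; exact Nat.le_of_dvd (by norm_num) h3)
  rw [← heq] at hbN
  obtain ⟨k, hk⟩ := mem_zpowers_iff.1 hbN
  exact mem_zpowers_iff.2 ⟨k, by simpa using congrArg Subtype.val hk⟩

/-- Two elements of order four are conjugate. -/
theorem Ctx.four_conj {x y : G} (hx : orderOf x = 4) (hy : orderOf y = 4) : IsConj x y := by
  haveI : Fact (Nat.Prime 2) := ⟨Nat.prime_two⟩
  obtain ⟨T, hT⟩ := (IsPGroup.of_card (n := 2) (G := zpowers x)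
    (by rw [Nat.card_zpowers, hx]; norm_num) : IsPGroup 2 _).exists_le_sylow
  obtain ⟨T', hT'⟩ := (IsPGroup.of_card (n := 2) (G := zpowers y)
    (by rw [Nat.card_zpowers, hy]; norm_num) : IsPGroup 2 _).exists_le_sylow
  obtain ⟨g, rfl⟩ := MulAction.exists_smul_eq G T T'
  have hy' : y ∈ (g • T : Sylow 2 G).toSubgroup := hT' (mem_zpowers y)
  rw [Sylow.coe_subgroup_smul] at hy'
  obtain ⟨z, hz, rfl⟩ := hy'
  refine IsConj.trans ?_ (isConj_iff.2 ⟨g, rfl⟩)
  have hz4 : orderOf z = 4 := by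
    rw [← MulEquiv.orderOf_eq (MulAut.conj g) z]; exact hy
  obtain ⟨e⟩ := X.dihedral T
  have hd : ∀ a b : DihedralGroup 4, a ^ 2 ≠ 1 → b ^ 2 ≠ 1 → ∃ c, c * a * c⁻¹ = b := by decide
  have hne : ∀ w : (T : Subgroup G), orderOf (w : G) = 4 → e w ^ 2 ≠ 1 := fun w hw h2 => by
    have h3 : orderOf (w : G) ∣ 2 := by
      rw [orderOf_coe, ← MulEquiv.orderOf_eq e]; exact orderOf_dvd_of_pow_eq_one h2
    rw [hw] at h3; norm_num at h3
  obtain ⟨c, hc⟩ := hd (e ⟨x, hT (mem_zpowers x)⟩) (e ⟨z, hz⟩) (hne _ hx) (hne _ hz4)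
  refine isConj_iff.2 ⟨((e.symm c : (T : Subgroup G)) : G), ?_⟩
  have := congrArg (fun d => ((e.symm d : (T : Subgroup G)) : G)) hc
  simpa using this

theorem Ctx.card_centralizer_four {x : G} (hx : orderOf x = 4) :
    Nat.card (centralizer ({x} : Set G)) ≤ 12 := by
  haveI : Fact (Nat.Prime 2) := ⟨Nat.prime_two⟩
  have ht : orderOf (x ^ 2) = 2 := by rw [orderOf_pow' x (by norm_num), hx]; rfl
  have hle : centralizer ({x} : Set G) ≤ centralizer ({x ^ 2} : Set G) := fun c hc =>
    mem_centralizer_singleton_iff.2 (Commute.pow_right (mem_centralizer_singleton_iff.1 hc) 2).eq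
  have hd := card_dvd_of_le hle
  rw [X.card_centralizer_invol ht] at hd
  by_contra hlt
  have h24 : Nat.card (centralizer ({x} : Set G)) = 24 := by
    obtain ⟨k, hk⟩ := hd
    rcases Nat.lt_or_ge k 2 with hk2 | hk2
    · interval_cases k <;> omega
    · nlinarith
  obtain ⟨T, hT⟩ := X.exists_sylow_central ht
  have heq := eq_of_le_of_card_ge hle (by rw [X.card_centralizer_invol ht, h24])
  have hxT : x ∈ (T : Subgroup G) := CfsgLib.Trans3.mem_sylow_of_centralizes T (n := 2)
    (by rw [hx]; norm_num) (fun y hy => heq.ge (hT hy))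
  obtain ⟨e⟩ := X.dihedral T
  have hd4 : ∀ d : DihedralGroup 4, (∀ y, d * y = y * d) → d ^ 2 = 1 := by decide
  have h1 : (e ⟨x, hxT⟩) ^ 2 = 1 := hd4 _ fun y => by
    obtain ⟨w, rfl⟩ := e.surjective y
    rw [← map_mul, ← map_mul]
    exact congrArg e (Subtype.ext (mem_centralizer_singleton_iff.1 (heq.ge (hT w.2))).symm)
  rw [← map_pow, ← map_one e, e.injective.eq_iff] at h1
  have h2 : x ^ 2 = 1 := by simpa using congrArg Subtype.val h1
  rw [h2, orderOf_one] at ht
  norm_num at ht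

/-- The normaliser of a subgroup of order five. -/
theorem Ctx.five_data {z : G} (hz : orderOf z = 5) :
    Nat.card (normalizer (zpowers z : Set G)) = 20 ∧
      (∀ g : G, Commute g z → g ∈ zpowers z) := by
  haveI : Fact (Nat.Prime 5) := ⟨by norm_num⟩
  obtain ⟨P, hP⟩ := (IsPGroup.of_card (n := 1) (G := zpowers z)
    (by rw [Nat.card_zpowers, hz, pow_one]) : IsPGroup 5 _).exists_le_sylow
  have hPc : Nat.card (P : Subgroup G) = 5 ^ 1 :=
    card_sylow_of_exact P (by rw [X.h]; norm_num) (by rw [X.h]; norm_num)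
  have e : zpowers z = (P : Subgroup G) :=
    eq_of_le_of_card_ge hP (by rw [hPc, Nat.card_zpowers, hz]; norm_num)
  refine ⟨e ▸ (sylow_five X.h P).2, fun g hg => ?_⟩
  have hle : zpowers z ≤ centralizer ({z} : Set G) :=
    zpowers_le.2 (mem_centralizer_singleton_iff.2 rfl)
  have h2 := eq_of_le_of_card_ge hle (by
    rw [card_centralizer_of_order X.h (Or.inl rfl) hz, Nat.card_zpowers, hz])
  exact h2.ge (mem_centralizer_singleton_iff.2 hg.eq)

theorem Ctx.seven_data {z : G} (hz : orderOf z = 7) :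
    Nat.card (normalizer (zpowers z : Set G)) = 21 ∧
      (∀ g : G, Commute g z → g ∈ zpowers z) := by
  haveI : Fact (Nat.Prime 7) := ⟨by norm_num⟩
  obtain ⟨P, hP⟩ := (IsPGroup.of_card (n := 1) (G := zpowers z)
    (by rw [Nat.card_zpowers, hz, pow_one]) : IsPGroup 7 _).exists_le_sylow
  have hPc : Nat.card (P : Subgroup G) = 7 ^ 1 :=
    card_sylow_of_exact P (by rw [X.h]; norm_num) (by rw [X.h]; norm_num)
  have e : zpowers z = (P : Subgroup G) :=
    eq_of_le_of_card_ge hP (by rw [hPc, Nat.card_zpowers, hz]; norm_num)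
  refine ⟨e ▸ (sylow_seven X.h P).2, fun g hg => ?_⟩
  have hle : zpowers z ≤ centralizer ({z} : Set G) :=
    zpowers_le.2 (mem_centralizer_singleton_iff.2 rfl)
  have h2 := eq_of_le_of_card_ge hle (by
    rw [card_centralizer_of_order X.h (Or.inr rfl) hz, Nat.card_zpowers, hz])
  exact h2.ge (mem_centralizer_singleton_iff.2 hg.eq)

/-- A power map induced by conjugation. -/
theorem Ctx.exists_conj_pow {z : G} {g : G} (hg : g ∈ normalizer (zpowers z : Set G)) :
    ∃ k : ℕ, g * z * g⁻¹ = z ^ k := by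
  obtain ⟨k, hk⟩ := mem_powers_iff_mem_zpowers.2 ((mem_normalizer_iff.1 hg z).1 (mem_zpowers z))
  exact ⟨k, hk.symm⟩

omit X in
theorem iter_conj {g z : G} {k : ℕ} (h : g * z * g⁻¹ = z ^ k) (i : ℕ) :
    g ^ i * z * (g ^ i)⁻¹ = z ^ k ^ i := by
  induction i with
  | zero => simp
  | succ i ih =>
    rw [pow_succ' g, show g * g ^ i * z * (g * g ^ i)⁻¹ = g * (g ^ i * z * (g ^ i)⁻¹) * g⁻¹ by group,
      ih, ← conj_pow, h, ← pow_mul, pow_succ']

omit X in
theorem pow_eq_of_mod {z : G} {p a b : ℕ} (hz : orderOf z = p) (h : a % p = b % p) :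
    z ^ a = z ^ b := by
  rw [← pow_mod_orderOf z a, ← pow_mod_orderOf z b, hz, h]

/-- An element of order four normalises every subgroup of order five, squaring a generator. -/
theorem Ctx.exists_four_normalizing {z : G} (hz : orderOf z = 5) :
    ∃ y : G, orderOf y = 4 ∧ y * z * y⁻¹ = z ^ 2 := by
  obtain ⟨hN, hC⟩ := X.five_data hz
  set N := normalizer (zpowers z : Set G)
  haveI : Fact (Nat.Prime 2) := ⟨Nat.prime_two⟩
  obtain ⟨S⟩ : Nonempty (Sylow 2 N) := inferInstance
  have hS : Nat.card (S : Subgroup N) = 2 ^ 2 :=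
    card_sylow_of_exact S (by rw [hN]; norm_num) (by rw [hN]; norm_num)
  -- the exponents on the four elements are distinct
  have hex : ∀ a : (S : Subgroup N), ∃ k : Fin 5, ((a : N) : G) * z * ((a : N) : G)⁻¹ = z ^ (k : ℕ) := by
    intro a
    obtain ⟨k, hk⟩ := X.exists_conj_pow (a : N).2
    exact ⟨⟨k % 5, Nat.mod_lt _ (by norm_num)⟩, hk.trans (pow_eq_of_mod hz (Nat.mod_mod k 5).symm)⟩
  choose f hf using hex
  have hinj : Function.Injective f := by
    intro a b hab
    set c : (S : Subgroup N) := b⁻¹ * a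
    have h1 : Commute ((c : N) : G) z := by
      rw [Commute, SemiconjBy, ← mul_inv_eq_iff_eq_mul]
      show ((b : N) : G)⁻¹ * ((a : N) : G) * z * (((b : N) : G)⁻¹ * ((a : N) : G))⁻¹ = z
      rw [show ((b : N) : G)⁻¹ * ((a : N) : G) * z * (((b : N) : G)⁻¹ * ((a : N) : G))⁻¹ =
        ((b : N) : G)⁻¹ * (((a : N) : G) * z * ((a : N) : G)⁻¹) * ((b : N) : G) by group, hf, hab,
        ← hf]
      group
    have h2 := hC _ h1
    have h3 : orderOf c ∣ 5 := by
      rw [← orderOf_coe, ← orderOf_coe, ← hz]; exact orderOf_dvd_of_mem_zpowers h2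
    have h4 : orderOf c ∣ 2 ^ 2 := hS ▸ orderOf_dvd_natCard c
    exact (inv_mul_eq_one.1 (orderOf_eq_one_iff.1 (Nat.eq_one_of_dvd_coprimes (by norm_num) h3 h4))).symm
  have h2mem : ∃ a, (f a : ℕ) = 2 := by
    by_contra hno
    push_neg at hno
    have hne0 : ∀ a, (f a : ℕ) ≠ 0 := fun a h0 => by
      have := hf a
      rw [h0, pow_zero, conj_eq_one_iff] at this
      rw [this, orderOf_one] at hz; norm_num at hz
    haveI := Fintype.ofFinite (S : Subgroup N)
    have hsub : Finset.univ.image f ⊆ ({1, 3, 4} : Finset (Fin 5)) := by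
      intro k hk
      obtain ⟨a, -, rfl⟩ := Finset.mem_image.1 hk
      have := hno a; have := hne0 a
      generalize f a = k at *
      fin_cases k <;> simp_all
    have := Finset.card_le_card hsub
    rw [Finset.card_image_of_injective _ hinj, Finset.card_univ, ← Nat.card_eq_fintype_card, hS,
      show ({1, 3, 4} : Finset (Fin 5)).card = 3 from rfl] at this
    norm_num at this
  obtain ⟨a, ha⟩ := h2mem
  refine ⟨((a : N) : G), ?_, by rw [hf a, ha]⟩
  have hy := hf a
  rw [ha] at hy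
  rw [orderOf_coe, orderOf_coe]
  obtain ⟨i, hi, hai⟩ := (Nat.dvd_prime_pow Nat.prime_two).1 (hS ▸ orderOf_dvd_natCard a)
  rw [hai]
  interval_cases i
  · exfalso
    rw [pow_zero, orderOf_eq_one_iff] at hai
    rw [hai] at hy
    simp only [OneMemClass.coe_one, one_mul, inv_one, mul_one] at hy
    have := pow_injOn_Iio_orderOf (show 1 ∈ Set.Iio (orderOf z) by simp [hz])
      (show 2 ∈ Set.Iio (orderOf z) by simp [hz]) (by show z ^ 1 = z ^ 2; rw [pow_one]; exact hy)
    norm_num at this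
  · exfalso
    have h1 : (((a : N) : G)) ^ 2 = 1 := by
      rw [← orderOf_dvd_iff_pow_eq_one, orderOf_coe, orderOf_coe, hai]; norm_num
    have h2 := iter_conj hy 2
    rw [h1, one_mul, inv_one, mul_one] at h2
    have := pow_injOn_Iio_orderOf (show 1 ∈ Set.Iio (orderOf z) by simp [hz])
      (show 4 ∈ Set.Iio (orderOf z) by simp [hz]) (by show z ^ 1 = z ^ 4; rw [pow_one]; exact h2)
    norm_num at this
  · norm_num

end CfsgLib.ClassK.Simple2520
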