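import Cfsg.Agent.Lib.ClassK.Simple2520Line

/-!
Centralisers and character values of elements of order three in a group of order 2520 without a
subgroup of index seven.
-/

set_option autoImplicit false
set_option linter.unusedSectionVars false

namespace CfsgLib.ClassK.Simple2520

open Subgroup Cfsg
open scoped Classical ComplexConjugate

universe u

variable {G : Type u} [Group G] [Finite G]

/-- The subgroup data at the prime three. -/
structure Trio (K A : Subgroup G) (o u r : G) : Prop where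
  cardK : Nat.card K = 120
  half : HalfData K A
  ho : orderOf o = 3
  hu : orderOf u = 2
  hr : orderOf r = 2
  oA : o ∈ A
  rA : r ∈ A
  uK : u ∈ K
  uA : u ∉ A
  ou : Commute o u
  inv : r * o * r⁻¹ = o⁻¹
  ru : Commute r u
  card : Nat.card (normalizer (zpowers o : Set G) ⊓ K : Subgroup G) = 12
  split : ∀ g ∈ normalizer (zpowers o : Set G) ⊓ K, g ∈ zpowers (o * u) ∨ r⁻¹ * g ∈ zpowers (o * u)

theorem Trio.not_comm {K A : Subgroup G} {o u r : G} (T : Trio K A o u r) : ¬ Commute r o := fun h => by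
  have h1 := T.inv
  rw [h.eq, mul_inv_cancel_right] at h1
  have h2 : o ^ 2 = 1 := by rw [sq]; exact eq_inv_iff_mul_eq_one.1 h1
  have := orderOf_dvd_of_pow_eq_one h2
  rw [T.ho] at this
  norm_num at this

theorem Trio.no_comm_invol {K A : Subgroup G} {o u r : G} (T : Trio K A o u r) {g a : G}
    (hg : g ∈ A) (ha : a ∈ A) (hgo : orderOf g = 3) (hao : orderOf a = 2) : ¬ Commute g a := fun hc =>
  T.half.no_six (g * a) (mul_mem hg ha)
    (by rw [hc.orderOf_mul_eq_mul_orderOf_of_coprime (by rw [hgo, hao]; norm_num), hgo, hao])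

variable [IsSimpleGroup G] (X : Ctx G)
include X

theorem Ctx.exists_trio : ∃ (K A : Subgroup G) (o u r : G), Trio K A o u r ∧
    ∃ v : Fin X.R.d → ℂ, v ≠ 0 ∧ v ∈ fixSp X.R.ρ K := by
  obtain ⟨K, A, v, hK, hA, hv0, hv⟩ := X.exists_K
  obtain ⟨o, u, r, h1, h2, h3, h4, h5, h6, h7, h8, h9, h10, h11, h12⟩ := X.three_data hK hA
  exact ⟨K, A, o, u, r, ⟨hK, hA, h1, h2, h3, h4, h5, h6, h7, h8, h9, h10, h11, h12⟩, v, hv0, hv⟩

variable {K A : Subgroup G} {o u r : G} (T : Trio K A o u r)
include T

/-- A Sylow 2-subgroup centralises no element of order three. -/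
theorem Ctx.no_sylow_centralizes {g : G} (hg : orderOf g = 3) (P : Sylow 2 G)
    (hP : (P : Subgroup G) ≤ centralizer ({g} : Set G)) : False := by
  haveI : Fact (Nat.Prime 2) := ⟨Nat.prime_two⟩
  obtain ⟨e⟩ := X.dihedral P
  set c : G := ((e.symm (DihedralGroup.r 2) : (P : Subgroup G)) : G) with hc
  have hc2 : orderOf c = 2 := by
    rw [hc, orderOf_coe, MulEquiv.orderOf_eq, DihedralGroup.orderOf_r]; decide
  have hcen : ∀ d : DihedralGroup 4, Commute (DihedralGroup.r 2) d := by
    unfold Commute SemiconjBy; decide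
  have hcP : c ∈ (P : Subgroup G) := (e.symm (DihedralGroup.r 2)).2
  have hPc : (P : Subgroup G) ≤ centralizer ({c} : Set G) := fun y hy => by
    rw [mem_centralizer_singleton_iff]
    have h2 := congrArg (fun d => ((e.symm d : (P : Subgroup G)) : G)) (hcen (e ⟨y, hy⟩)).eq
    simpa [hc] using h2.symm
  obtain ⟨a, ha⟩ := X.invol_conj hc2 T.hu
  have hgc : Commute g c := ((mem_centralizer_singleton_iff.1 (hP hcP) : c * g = g * c)).symm
  have hg'u : Commute (a * g * a⁻¹) u := by rw [← ha]; exact (SemiconjBy.conj_iff).2 hgc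
  have hmem : a * g * a⁻¹ ∈ zpowers o := X.three_unique T.hu T.ho
    (by rw [show a * g * a⁻¹ = MulAut.conj a g from rfl, MulEquiv.orderOf_eq]; exact hg) T.ou hg'u
  have hog : o ∈ zpowers (a * g * a⁻¹) := by
    have h' : orderOf (a * g * a⁻¹) = 3 := by
      rw [show a * g * a⁻¹ = MulAut.conj a g from rfl, MulEquiv.orderOf_eq]; exact hg
    rw [eq_of_le_of_card_ge (zpowers_le.2 hmem) (by rw [Nat.card_zpowers, Nat.card_zpowers, h', T.ho])]
    exact mem_zpowers o
  have hle : ((a • P : Sylow 2 G) : Subgroup G) ≤ centralizer ({u} : Set G) ⊓ centralizer ({o} : Set G) := by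
    intro x hx
    rw [Sylow.coe_subgroup_smul] at hx
    obtain ⟨y, hy, rfl⟩ := hx
    rw [mem_inf, mem_centralizer_singleton_iff, mem_centralizer_singleton_iff]
    have hyc : Commute y c := mem_centralizer_singleton_iff.1 (hPc hy)
    have hyg : Commute y g := mem_centralizer_singleton_iff.1 (hP hy)
    refine ⟨?_, ?_⟩
    · rw [← ha]; exact ((SemiconjBy.conj_iff).2 hyc).eq
    · obtain ⟨i, hi⟩ := mem_zpowers_iff.1 hog
      rw [← hi]
      exact (((SemiconjBy.conj_iff).2 hyg : Commute (a * y * a⁻¹) (a * g * a⁻¹)).zpow_right i).eq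
  set I := centralizer ({u} : Set G) ⊓ centralizer ({o} : Set G) with hI
  have h8 := card_dvd_of_le hle
  rw [X.card_sylow_two] at h8
  have h3 : 3 ∣ Nat.card I := by
    have hoI : o ∈ I := by
      rw [hI, mem_inf, mem_centralizer_singleton_iff, mem_centralizer_singleton_iff]
      exact ⟨T.ou.eq, rfl⟩
    rw [← T.ho, ← orderOf_mk o hoI]; exact orderOf_dvd_natCard _
  have hd := card_dvd_of_le (inf_le_left : I ≤ centralizer ({u} : Set G))
  rw [X.card_centralizer_invol T.hu] at hd
  have heq := eq_of_le_of_card_ge (inf_le_left : I ≤ centralizer ({u} : Set G)) (by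
    rw [X.card_centralizer_invol T.hu]
    exact Nat.le_of_dvd Nat.card_pos (Nat.Coprime.mul_dvd_of_dvd_of_dvd (by norm_num) h8 h3))
  have hrI : r ∈ I := heq.ge (mem_centralizer_singleton_iff.2 T.ru.eq)
  exact T.not_comm (mem_centralizer_singleton_iff.1 (mem_inf.1 hrI).2)

theorem Ctx.card_centralizer_o : Nat.card (centralizer ({o} : Set G)) ≤ 36 := by
  haveI : Fact (Nat.Prime 2) := ⟨Nat.prime_two⟩
  set C := centralizer ({o} : Set G) with hC
  have hd : Nat.card C ∣ 72 := by
    have hcop : Nat.Coprime (Nat.card C) 35 := by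
      rw [show (35 : ℕ) = 5 * 7 by norm_num]
      exact Nat.Coprime.mul_right
        ((Nat.Prime.coprime_iff_not_dvd (by norm_num)).2
          (not_dvd_card_centralizer X.h (Or.inl rfl) (Or.inr T.ho))).symm
        ((Nat.Prime.coprime_iff_not_dvd (by norm_num)).2
          (not_dvd_card_centralizer X.h (Or.inr rfl) (Or.inr T.ho))).symm
    exact hcop.dvd_of_dvd_mul_right (by norm_num; exact X.h ▸ card_subgroup_dvd_card C)
  by_contra h
  obtain ⟨k, hk⟩ := hd
  have hk1 : k = 1 := by
    rcases Nat.lt_or_ge k 2 with hk2 | hk2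
    · interval_cases k <;> omega
    · nlinarith
  obtain ⟨S⟩ : Nonempty (Sylow 2 C) := inferInstance
  have hS : Nat.card (S : Subgroup C) = 2 ^ 3 :=
    card_sylow_of_exact S (by rw [show Nat.card C = 72 by rw [hk, hk1, mul_one]]; norm_num)
      (by rw [show Nat.card C = 72 by rw [hk, hk1, mul_one]]; norm_num)
  have hS' : Nat.card ((S : Subgroup C).map C.subtype) = 2 ^ 3 := by
    rw [card_map_of_injective C.subtype_injective, hS]
  obtain ⟨P, hP⟩ := (IsPGroup.of_card hS').exists_le_sylow
  have heq := eq_of_le_of_card_ge hP (by rw [hS', X.card_sylow_two]; norm_num)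
  exact X.no_sylow_centralizes T T.ho P (heq ▸ map_subtype_le _)

theorem Ctx.card_centralizer_ou : Nat.card (centralizer ({o * u} : Set G)) ≤ 12 := by
  set C := centralizer ({o * u} : Set G) with hC
  have hu2 : u * u = 1 := by
    have := pow_orderOf_eq_one u; rwa [T.hu, sq] at this
  have ho3 : o * o * o = 1 := by
    have := pow_orderOf_eq_one o; rwa [T.ho, pow_succ, sq] at this
  have h3 : (o * u) ^ 3 = u := by
    rw [T.ou.mul_pow, ← T.ho, pow_orderOf_eq_one, T.ho, pow_succ, sq, one_mul, hu2, one_mul]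
  have hle : C ≤ centralizer ({u} : Set G) := fun c hc => by
    rw [mem_centralizer_singleton_iff]
    have h : Commute c (o * u) := mem_centralizer_singleton_iff.1 hc
    exact (h3 ▸ h.pow_right 3 : Commute c u).eq
  have hd := card_dvd_of_le hle
  rw [X.card_centralizer_invol T.hu] at hd
  by_contra h
  have h24 : Nat.card C = 24 := by
    obtain ⟨k, hk⟩ := hd
    rcases Nat.lt_or_ge k 2 with hk2 | hk2
    · interval_cases k <;> omega
    · nlinarith
  have heq := eq_of_le_of_card_ge hle (by rw [X.card_centralizer_invol T.hu, h24])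
  have hr' : Commute r (o * u) := mem_centralizer_singleton_iff.1
    (heq.ge (mem_centralizer_singleton_iff.2 T.ru.eq) : r ∈ C)
  apply T.not_comm
  have := hr'.mul_right T.ru
  rwa [mul_assoc, hu2, mul_one] at this

/-- Every element of order three of `K` is conjugate to `o`. -/
theorem Ctx.isConj_o {g : G} (hg : g ∈ K) (hgo : orderOf g = 3) : IsConj o g := by
  haveI : Fact (Nat.Prime 3) := ⟨Nat.prime_three⟩
  obtain ⟨-, hall⟩ := sylow_count_inside K (T.half.le T.oA) T.ho (by rw [T.cardK]; norm_num)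
  obtain ⟨l, -, hl⟩ := hall g hg hgo
  rcases mem_zpowers_three T.ho hl with h | h | h
  · rw [conj_eq_one_iff] at h
    rw [h, orderOf_one] at hgo
    norm_num at hgo
  · exact (isConj_iff.2 ⟨l, h⟩).symm
  · exact (isConj_iff.2 ⟨r, T.inv⟩).trans (isConj_iff.2 ⟨l, h⟩).symm

/-- The sum over the normaliser of `o` in `K`. -/
theorem Ctx.sum_normalizer : ∃ k : ℕ, 2 * X.R.ρ.character o + 2 * X.R.ρ.character (o * u) + 20 =
    12 * (k : ℂ) := by
  haveI := Fintype.ofFinite G
  obtain ⟨-, hb, -, -, -⟩ := X.values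
  set D := normalizer (zpowers o : Set G) ⊓ K with hD
  set x := o * u with hx
  have hx6 : orderOf x = 6 := by
    rw [hx, T.ou.orderOf_mul_eq_mul_orderOf_of_coprime (by rw [T.ho, T.hu]; norm_num), T.ho, T.hu]
  have hu2 : u * u = 1 := by
    have := pow_orderOf_eq_one u; rwa [T.hu, sq] at this
  have hrx : r * x * r⁻¹ = x⁻¹ := by
    rw [hx, show r * (o * u) * r⁻¹ = r * o * r⁻¹ * (r * u * r⁻¹) by group, T.inv, T.ru.eq,
      mul_inv_cancel_right, mul_inv_rev, inv_eq_of_mul_eq_one_right hu2]
    exact T.ou.inv_left.eq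
  have hoD : o ∈ D := ⟨le_normalizer (mem_zpowers o), T.half.le T.oA⟩
  have huD : u ∈ D := by
    rw [hD, mem_inf]
    refine ⟨?_, T.uK⟩
    rw [mem_normalizer_iff_map_conj_eq, MonoidHom.map_zpowers]
    show zpowers (u * o * u⁻¹) = _
    rw [← T.ou.eq, mul_inv_cancel_right]
  have hle : zpowers x ≤ D := zpowers_le.2 (mul_mem hoD huD)
  obtain ⟨k, hk⟩ : ∃ k : ℕ, ∑ g ∈ Finset.univ.filter (· ∈ D), X.R.ρ.character g = 12 * (k : ℂ) :=
    ⟨_, by rw [sum_filter_char, T.card]; norm_num; rfl⟩
  refine ⟨k, ?_⟩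
  have hout : ∀ g ∈ Finset.univ.filter (fun g => g ∈ D ∧ g ∉ zpowers x), X.R.ρ.character g = 2 := by
    intro g hg
    obtain ⟨hgD, hgx⟩ := (Finset.mem_filter.1 hg).2
    obtain ⟨i, hi⟩ := mem_zpowers_iff.1 ((T.split g hgD).resolve_left hgx)
    have hg' : g = r * x ^ i := by rw [hi, mul_inv_cancel_left]
    refine hb g (orderOf_eq_prime ?_ fun e => hgx (e ▸ one_mem _))
    have hr2 : r⁻¹ = r := inv_eq_of_mul_eq_one_right (by
      have := pow_orderOf_eq_one r; rwa [T.hr, sq] at this)
    have hc : r * x ^ i * r⁻¹ = (x ^ i)⁻¹ := by rw [← conj_zpow, hrx, inv_zpow]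
    rw [hg', sq, ← mul_assoc]
    nth_rewrite 2 [← hr2]
    rw [hc, inv_mul_cancel]
  have hcount : (Finset.univ.filter (fun g => g ∈ D ∧ g ∉ zpowers x)).card = 6 := by
    have h1 := Finset.card_filter_add_card_filter_not (s := Finset.univ.filter (· ∈ D))
      (p := fun g => g ∈ zpowers x)
    rw [Finset.filter_filter, Finset.filter_filter] at h1
    have e1 : (Finset.univ.filter (fun g => g ∈ D ∧ g ∈ zpowers x)).card = 6 := by
      rw [← hx6, ← Nat.card_zpowers, Nat.card_eq_fintype_card, Fintype.card_subtype]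
      exact congrArg Finset.card (Finset.filter_congr fun g _ => ⟨fun h => h.2, fun h => ⟨hle h, h⟩⟩)
    have e2 : (Finset.univ.filter (fun g => g ∈ D)).card = 12 := by
      rw [← T.card, Nat.card_eq_fintype_card, Fintype.card_subtype]
    omega
  have hin : ∑ g ∈ Finset.univ.filter (fun g => g ∈ D ∧ g ∈ zpowers x), X.R.ρ.character g =
      2 * X.R.ρ.character o + 2 * X.R.ρ.character x + 8 := by
    rw [show Finset.univ.filter (fun g => g ∈ D ∧ g ∈ zpowers x) =
      Finset.univ.filter (· ∈ zpowers x) from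
        Finset.filter_congr fun g _ => ⟨fun h => h.2, fun h => ⟨hle h, h⟩⟩,
      sum_zpowers x X.R.ρ.character, hx6]
    simp only [Finset.sum_range_succ, Finset.sum_range_zero, zero_add, pow_zero, pow_one]
    have h3 : x ^ 3 = u := by
      rw [hx, T.ou.mul_pow, ← T.ho, pow_orderOf_eq_one, T.ho, pow_succ, sq, one_mul, hu2, one_mul]
    have h4 : x ^ 4 = o := by
      rw [pow_succ, h3, hx, T.ou.eq, ← mul_assoc, hu2, one_mul]
    have h2 : x ^ 2 = o⁻¹ := by
      rw [eq_inv_iff_mul_eq_one, ← h4, ← pow_add, show (2 : ℕ) + 4 = orderOf x by rw [hx6],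
        pow_orderOf_eq_one]
    have h5 : x ^ 5 = x⁻¹ := by
      rw [eq_inv_iff_mul_eq_one, ← pow_succ, show (5 : ℕ) + 1 = orderOf x by rw [hx6], pow_orderOf_eq_one]
    rw [h2, h3, h4, h5, X.char_one', hb u T.hu, ← hrx, ← T.inv, Representation.char_conj,
      Representation.char_conj]
    ring
  have hsum : ∑ g ∈ Finset.univ.filter (· ∈ D), X.R.ρ.character g =
      (2 * X.R.ρ.character o + 2 * X.R.ρ.character x + 8) + 12 := by
    rw [← Finset.sum_filter_add_sum_filter_not (Finset.univ.filter (· ∈ D)) (fun g => g ∈ zpowers x),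
      Finset.filter_filter, Finset.filter_filter, hin, Finset.sum_congr rfl hout, Finset.sum_const,
      hcount]
    norm_num
  rw [hsum] at hk
  rw [← hk]
  ring

/-- The values on elements of order three. -/
theorem Ctx.three_values {v : Fin X.R.d → ℂ} (hv0 : v ≠ 0) (hv : v ∈ fixSp X.R.ρ K) :
    X.R.ρ.character o = 3 ∧ ∀ g : G, orderOf g = 3 → 0 ≤ (X.R.ρ.character g).re := by
  haveI := Fintype.ofFinite G
  set x := o * u with hx
  have hx6 : orderOf x = 6 := by
    rw [hx, T.ou.orderOf_mul_eq_mul_orderOf_of_coprime (by rw [T.ho, T.hu]; norm_num), T.ho, T.hu]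
  have h1 := sum_zpowers o X.R.ρ.character
  rw [sum_filter_char, Nat.card_zpowers, T.ho] at h1
  simp only [Finset.sum_range_succ, Finset.sum_range_zero, zero_add, pow_zero, pow_one] at h1
  have ho2 : X.R.ρ.character (o ^ 2) = X.R.ρ.character o := by
    rw [show o ^ 2 = o⁻¹ by
      rw [eq_inv_iff_mul_eq_one, ← pow_succ, show (2 : ℕ) + 1 = orderOf o by rw [T.ho],
        pow_orderOf_eq_one], ← T.inv]
    exact Representation.char_conj _ o r
  rw [X.char_one', ho2] at h1
  set j := Module.finrank ℂ (fixSp X.R.ρ (zpowers o)) with hj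
  have hj1 : 1 ≤ j := by
    rw [hj, Nat.one_le_iff_ne_zero, Ne, Submodule.finrank_eq_zero]
    exact fun e => hv0 ((Submodule.mem_bot ℂ).1
      (e ▸ fixSp_anti _ (zpowers_le.2 (T.half.le T.oA)) hv))
  obtain ⟨e, he⟩ := exists_int_value X.R.ρ (g := o) (q := (3 * j - 6) / 2)
    (by push_cast at h1 ⊢; linear_combination -h1 / 2)
  obtain ⟨k, hk⟩ := X.sum_normalizer T
  obtain ⟨f, hf⟩ := exists_int_value X.R.ρ (g := x) (q := 6 * k - 10 - e)
    (by rw [← hx, he] at hk; push_cast at hk ⊢; linear_combination hk / 2)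
  have he' : 6 + 2 * e = 3 * (j : ℤ) := by
    rw [he] at h1
    have : ((6 + 2 * e : ℤ) : ℂ) = ((3 * (j : ℤ) : ℤ) : ℂ) := by
      push_cast at h1 ⊢; linear_combination -h1
    exact_mod_cast this
  have hef : e + f = 6 * (k : ℤ) - 10 := by
    rw [← hx, he, hf] at hk
    have : ((e + f : ℤ) : ℂ) = ((6 * (k : ℤ) - 10 : ℤ) : ℂ) := by
      push_cast at hk ⊢; linear_combination hk / 2
    exact_mod_cast this
  have c1 : 70 ≤ (cls o).card := by
    have := le_card_cls (by norm_num) (X.card_centralizer_o T)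
    rw [X.h] at this; exact this
  have c2 : 210 ≤ (cls x).card := by
    have := le_card_cls (by norm_num) (X.card_centralizer_ou T)
    rw [X.h] at this; exact this
  have hdis : Disjoint (cls o) (cls x) := Finset.disjoint_left.2 fun a ha hb => by
    have := orderOf_of_mem_cls ha; have := orderOf_of_mem_cls hb; have := T.ho; omega
  have hbud : ∀ S : Finset G, (∀ g ∈ S, (orderOf g = 3 ∨ orderOf g = 9) ∧ g ∉ cls o) →
      (70 : ℝ) * (e * e) + 210 * (f * f) + ∑ g ∈ S, Complex.normSq (X.R.ρ.character g) ≤ 840 := by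
    intro S hS
    have hd2 : Disjoint (cls o ∪ cls x) S := Finset.disjoint_left.2 fun a ha hb => by
      rcases Finset.mem_union.1 ha with h | h
      · exact (hS a hb).2 h
      · have := orderOf_of_mem_cls h; have := (hS a hb).1; omega
    have h := X.budget (S := cls o ∪ cls x ∪ S) (fun g hg => by
      rcases Finset.mem_union.1 hg with hg | hg
      · rcases Finset.mem_union.1 hg with hg | hg <;>
          rw [orderOf_of_mem_cls hg] <;> simp [T.ho, hx6]
      · rcases (hS g hg).1 with hh | hh <;> rw [hh] <;> norm_num)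
    rw [Finset.sum_union hd2, Finset.sum_union hdis, sum_cls, sum_cls, he, hf,
      Complex.normSq_intCast, Complex.normSq_intCast] at h
    have a1 : (70 : ℝ) * (e * e) ≤ ((cls o).card : ℝ) * (e * e) :=
      mul_le_mul_of_nonneg_right (by exact_mod_cast c1) (mul_self_nonneg _)
    have a2 : (210 : ℝ) * (f * f) ≤ ((cls x).card : ℝ) * (f * f) :=
      mul_le_mul_of_nonneg_right (by exact_mod_cast c2) (mul_self_nonneg _)
    linarith
  have hb0 : 70 * (e * e) + 210 * (f * f) ≤ 840 := by
    have h := hbud ∅ (by simp)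
    rw [Finset.sum_empty, add_zero] at h
    exact_mod_cast h
  have he3 : e ≤ 3 := by
    by_contra hh; nlinarith [mul_self_nonneg f]
  have hsat : 840 ≤ 70 * (e * e) + 210 * (f * f) ∧ (e = 0 ∨ e = 3) := by
    have hf2 : -2 ≤ f ∧ f ≤ 2 := by
      constructor <;> by_contra hh <;> nlinarith [mul_self_nonneg e]
    rcases (by omega : e = 0 ∨ e = 3) with rfl | rfl
    · have : f = 2 := by omega
      subst this
      exact ⟨by norm_num, Or.inl rfl⟩
    · have : f = -1 := by
        have : -1 ≤ f := by by_contra hh; nlinarith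
        have : f ≤ 1 := by by_contra hh; nlinarith
        omega
      subst this
      exact ⟨by norm_num, Or.inr rfl⟩
  have hzero : ∀ g : G, (orderOf g = 3 ∨ orderOf g = 9) → g ∉ cls o → X.R.ρ.character g = 0 := by
    intro g hg hgo
    have h := hbud {g} (fun y hy => by rw [Finset.mem_singleton.1 hy]; exact ⟨hg, hgo⟩)
    rw [Finset.sum_singleton] at h
    have h84 : (840 : ℝ) ≤ 70 * (e * e) + 210 * (f * f) := by exact_mod_cast hsat.1
    exact Complex.normSq_eq_zero.1 (le_antisymm (by linarith) (Complex.normSq_nonneg _))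
  have he3' : e = 3 := by
    refine hsat.2.resolve_left fun e0 => ?_
    have hall : ∀ g : G, (orderOf g = 3 ∨ orderOf g = 9) → X.R.ρ.character g = 0 := fun g hg => by
      by_cases hm : g ∈ cls o
      · rw [char_of_mem_cls _ hm, he, e0]; norm_num
      · exact hzero g hg hm
    haveI : Fact (Nat.Prime 3) := ⟨Nat.prime_three⟩
    obtain ⟨P⟩ : Nonempty (Sylow 3 G) := inferInstance
    have hPc : Nat.card (P : Subgroup G) = 3 ^ 2 :=
      card_sylow_of_exact P (by rw [X.h]; norm_num) (by rw [X.h]; norm_num)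
    haveI := Fintype.ofFinite (P : Subgroup G)
    have h := sum_char_eq X.R.ρ (P : Subgroup G)
    rw [Finset.sum_eq_single (1 : (P : Subgroup G)) (fun g _ hg => by
      obtain ⟨l, hl, hgl⟩ := (Nat.dvd_prime_pow Nat.prime_three).1 (hPc ▸ orderOf_dvd_natCard g)
      have hl0 : l ≠ 0 := fun e => hg (orderOf_eq_one_iff.1 (by rw [hgl, e, pow_zero]))
      apply hall
      rw [orderOf_coe, hgl]
      interval_cases l <;> norm_num at *) (by simp), hPc] at h
    rw [OneMemClass.coe_one, X.char_one'] at h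
    have h' : (6 : ℕ) = 3 ^ 2 * Module.finrank ℂ (fixSp X.R.ρ (P : Subgroup G)) := by
      exact_mod_cast h
    omega
  refine ⟨by rw [he, he3']; norm_num, fun g hg => ?_⟩
  by_cases hm : g ∈ cls o
  · rw [char_of_mem_cls _ hm, he, he3']; norm_num
  · rw [hzero g (Or.inl hg) hm]; norm_num

end CfsgLib.ClassK.Simple2520
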