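import Cfsg.Agent.Lib.ClassK.Simple504Basic
import Cfsg.Agent.Lib.Invol.CTClassify

/-!
# A simple group of order 504 has abelian centralisers
-/

set_option autoImplicit false

namespace CfsgLib.ClassK.Simple504

open Subgroup CfsgLib.Transfer

variable {G : Type*} [Group G] [Finite G] [IsSimpleGroup G]

theorem centralizer_ne_top (h : Nat.card G = 504) {x : G} (hx : x ≠ 1) :
    centralizer ({x} : Set G) ≠ ⊤ := fun e => by
  have hxc : x ∈ Subgroup.center G := Subgroup.mem_center_iff.2 fun g =>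
    Subgroup.mem_centralizer_singleton_iff.1 (e ▸ mem_top g : g ∈ centralizer ({x} : Set G))
  rcases IsSimpleGroup.eq_bot_or_eq_top_of_normal (Subgroup.center G) inferInstance with hb | ht
  · exact hx (mem_bot.1 (hb ▸ hxc))
  · exact nonabelian h ⟨⟨fun a b => (Subgroup.mem_center_iff.1 (ht ▸ mem_top a) b).symm⟩⟩

theorem card_centralizer_conj (g x : G) :
    Nat.card (centralizer ({g * x * g⁻¹} : Set G)) = Nat.card (centralizer ({x} : Set G)) := by
  have h1 := card_isConj_mul_card_centralizer (G := G) x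
  have h2 := card_isConj_mul_card_centralizer (G := G) (g * x * g⁻¹)
  have e : Nat.card {y : G // IsConj (g * x * g⁻¹) y} = Nat.card {y : G // IsConj x y} :=
    Nat.card_congr (Equiv.subtypeEquivRight fun y =>
      ⟨fun hy => (isConj_iff.2 ⟨g, rfl⟩ : IsConj x (g * x * g⁻¹)).trans hy,
        fun hy => (isConj_iff.2 ⟨g, rfl⟩ : IsConj x (g * x * g⁻¹)).symm.trans hy⟩)
  rw [e] at h2
  have : Nonempty {y : G // IsConj x y} := ⟨⟨x, IsConj.refl x⟩⟩
  exact Nat.eq_of_mul_eq_mul_left Nat.card_pos (h2.trans h1.symm)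

theorem normalizer_four_ne (h : Nat.card G = 504) {C W : Subgroup G} (hW : Nat.card W = 4)
    (hC : Nat.card C = 36) (hCN : C ≤ normalizer (W : Set G)) : False := by
  have : Fact (Nat.Prime 2) := ⟨Nat.prime_two⟩
  have hW2 : IsPGroup 2 W := IsPGroup.of_card (n := 2) (hW.trans (by norm_num))
  obtain ⟨S, hS⟩ := hW2.exists_le_sylow
  have hS8 : Nat.card (S : Subgroup G) = 8 :=
    (card_sylow_of_exact (a := 3) S (by rw [h]; norm_num) (by rw [h]; norm_num)).trans (by norm_num)
  have hidx : (W.subgroupOf (S : Subgroup G)).index = 2 := by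
    have h2 := (W.subgroupOf (S : Subgroup G)).card_mul_index
    rw [Nat.card_congr (subgroupOfEquivOfLe hS).toEquiv, hW, hS8] at h2
    omega
  have hSN : (S : Subgroup G) ≤ normalizer (W : Set G) := by
    intro s hs
    have hn := normal_of_index_eq_two hidx
    rw [Subgroup.mem_normalizer_iff]
    intro w
    constructor
    · intro hw
      exact hn.conj_mem ⟨w, hS hw⟩ hw ⟨s, hs⟩
    · intro hw
      have hwS : w ∈ (S : Subgroup G) := by
        have := mul_mem (mul_mem (inv_mem hs) (hS hw)) hs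
        simpa [mul_assoc] using this
      have := hn.conj_mem ⟨s * w * s⁻¹, hS hw⟩ hw (⟨s, hs⟩ : (S : Subgroup G))⁻¹
      simpa [mem_subgroupOf, mul_assoc] using this
  have h72 : 72 ∣ Nat.card (normalizer (W : Set G)) := by
    have a := Subgroup.card_dvd_of_le hCN
    have b := Subgroup.card_dvd_of_le hSN
    rw [hC] at a
    rw [hS8] at b
    exact Nat.lcm_dvd a b
  have htop : normalizer (W : Set G) = ⊤ := by
    by_contra hne
    have := card_le h hne
    have := Nat.le_of_dvd Nat.card_pos h72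
    omega
  have hWn : W.Normal := normalizer_eq_top_iff.1 htop
  rcases IsSimpleGroup.eq_bot_or_eq_top_of_normal W hWn with e | e
  · rw [e, card_bot] at hW
    omega
  · rw [e, Subgroup.card_top, h] at hW
    omega

theorem four_sylow_false (h : Nat.card G = 504) {x : G} (hx : orderOf x = 3)
    (hc : Nat.card (centralizer ({x} : Set G)) = 36)
    (hn : Nat.card (Sylow 3 (centralizer ({x} : Set G))) = 4) : False := by
  classical
  have : Fact (Nat.Prime 3) := ⟨Nat.prime_three⟩
  have : Fact (Nat.Prime 2) := ⟨Nat.prime_two⟩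
  set C := centralizer ({x} : Set G)
  let x' : C := ⟨x, Subgroup.mem_centralizer_singleton_iff.2 rfl⟩
  have hx'o : orderOf x' = 3 := by rw [← Subgroup.orderOf_coe]; exact hx
  have hx'c : ∀ y : C, Commute y x' := fun y =>
    Subtype.ext (Subgroup.mem_centralizer_singleton_iff.1 y.2)
  let _ : Fintype C := Fintype.ofFinite C
  let _ : Fintype (Sylow 3 C) := Fintype.ofFinite _
  have hQ : ∀ Q : Sylow 3 C, Nat.card (Q : Subgroup C) = 9 := fun Q =>
    (card_sylow_of_exact (a := 2) Q (by rw [hc]; norm_num) (by rw [hc]; norm_num)).trans (by norm_num)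
  have hxQ : ∀ Q : Sylow 3 C, zpowers x' ≤ (Q : Subgroup C) := by
    intro Q
    have hn' : zpowers x' ≤ normalizer ((Q : Subgroup C) : Set C) := by
      rw [zpowers_le, Subgroup.mem_normalizer_iff]
      intro q
      rw [← (hx'c q).eq, mul_inv_cancel_right]
    have hs := (IsPGroup.of_card (p := 3) (n := 1) (G := zpowers x')
      (by rw [Nat.card_zpowers, hx'o, pow_one])).to_sup_of_normal_right' Q.isPGroup' hn'
    have := Q.is_maximal' hs le_sup_right
    exact le_sup_left.trans this.le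
  have hinter : ∀ Q Q' : Sylow 3 C, Q ≠ Q' → (Q : Subgroup C) ⊓ (Q' : Subgroup C) = zpowers x' := by
    intro Q Q' hne
    refine (eq_of_le_of_card_ge (le_inf (hxQ Q) (hxQ Q')) ?_).symm
    rw [Nat.card_zpowers, hx'o]
    have hd : Nat.card ((Q : Subgroup C) ⊓ (Q' : Subgroup C) : Subgroup C) ∣ 9 :=
      hQ Q ▸ Subgroup.card_dvd_of_le inf_le_left
    have hlt : Nat.card ((Q : Subgroup C) ⊓ (Q' : Subgroup C) : Subgroup C) < 9 := by
      refine lt_of_le_of_ne (Nat.le_of_dvd (by norm_num) hd) fun e => hne (Sylow.ext ?_)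
      have e1 := eq_of_le_of_card_ge (inf_le_left : (Q : Subgroup C) ⊓ (Q' : Subgroup C) ≤ _)
        (by rw [hQ Q, e])
      have e2 := eq_of_le_of_card_ge (inf_le_right : (Q : Subgroup C) ⊓ (Q' : Subgroup C) ≤ _)
        (by rw [hQ Q', e])
      exact e1.symm.trans e2
    have hmem := Nat.mem_divisors.2 ⟨hd, by norm_num⟩
    have key : ∀ k ∈ Nat.divisors 9, k < 9 → k ≤ 3 := by decide +kernel
    exact key _ hmem hlt
  -- the elements of 3-power order
  let T : Sylow 3 C → Finset C := fun Q =>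
    Finset.univ.filter fun y => y ∈ (Q : Subgroup C) ∧ y ∉ zpowers x'
  have hT : ∀ Q, (T Q).card = 6 := by
    intro Q
    have e1 : (Finset.univ.filter fun y => y ∈ (Q : Subgroup C)).card = 9 := by
      rw [← hQ Q, Nat.card_eq_fintype_card, Fintype.card_subtype]
    have e2 : (Finset.univ.filter fun y => y ∈ zpowers x').card = 3 := by
      rw [← hx'o, ← Nat.card_zpowers, Nat.card_eq_fintype_card, Fintype.card_subtype]
    have hsub : (Finset.univ.filter fun y => y ∈ zpowers x') ⊆
        Finset.univ.filter fun y => y ∈ (Q : Subgroup C) := fun y hy =>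
      Finset.mem_filter.2 ⟨Finset.mem_univ _, hxQ Q (Finset.mem_filter.1 hy).2⟩
    have e3 := Finset.card_sdiff_of_subset hsub
    rw [e1, e2] at e3
    convert e3 using 2
    ext y
    simp [T]
  have hdis : (Set.univ : Set (Sylow 3 C)).PairwiseDisjoint T := by
    intro Q _ Q' _ hne
    refine Finset.disjoint_left.2 fun y hy hy' => ?_
    obtain ⟨-, h1, h2⟩ := Finset.mem_filter.1 hy
    obtain ⟨-, h3, -⟩ := Finset.mem_filter.1 hy'
    exact h2 (hinter Q Q' hne ▸ mem_inf.2 ⟨h1, h3⟩)
  have hU : (Finset.univ.biUnion T).card = 24 := by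
    rw [Finset.card_biUnion fun Q _ Q' _ hne => hdis (Set.mem_univ Q) (Set.mem_univ Q') hne,
      Finset.sum_congr rfl (fun Q _ => hT Q), Finset.sum_const, Finset.card_univ,
      ← Nat.card_eq_fintype_card, hn]
    rfl
  -- the non-trivial 2-elements
  let E : Finset C := Finset.univ.filter fun w => w ≠ 1 ∧ ∃ k : ℕ, w ^ 2 ^ k = 1
  let Z : Finset C := Finset.univ.filter fun y => y ∈ zpowers x'
  have hZ : Z.card = 3 := by
    rw [← hx'o, ← Nat.card_zpowers, Nat.card_eq_fintype_card, Fintype.card_subtype]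
  have hz3 : ∀ y ∈ zpowers x', y ^ 3 = 1 := by
    rintro y ⟨i, rfl⟩
    show (x' ^ i) ^ 3 = 1
    rw [← zpow_natCast (x' ^ i) 3, ← zpow_mul, mul_comm, zpow_mul, zpow_natCast, ← hx'o,
      pow_orderOf_eq_one, one_zpow]
  have hwy : ∀ w : C, ∀ y ∈ zpowers x', Commute w y := by
    rintro w y ⟨i, rfl⟩
    exact (hx'c w).zpow_right i
  have h2inj : ∀ w w' : C, (∃ k : ℕ, w ^ 2 ^ k = 1) → (∃ k : ℕ, w' ^ 2 ^ k = 1) →
      w ^ 3 = w' ^ 3 → w = w' := by
    intro w w' ⟨k, hk⟩ ⟨k', hk'⟩ he
    have hd : 3 ∣ 4 ^ (k + k') - 1 := by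
      simpa using Nat.sub_dvd_pow_sub_pow 4 1 (k + k')
    obtain ⟨a, ha⟩ := hd
    have hpos : 1 ≤ 4 ^ (k + k') := Nat.one_le_pow _ _ (by norm_num)
    have e : 4 ^ (k + k') = 2 ^ k * (2 ^ k * (2 ^ k' * 2 ^ k')) := by
      rw [show (4 : ℕ) = 2 * 2 by norm_num, mul_pow, pow_add]; ring
    have e' : 4 ^ (k + k') = 2 ^ k' * (2 ^ k' * (2 ^ k * 2 ^ k)) := by
      rw [show (4 : ℕ) = 2 * 2 by norm_num, mul_pow, pow_add]; ring
    have h1 : w ^ (4 ^ (k + k')) = 1 := by rw [e, pow_mul, hk, one_pow]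
    have h2 : w' ^ (4 ^ (k + k')) = 1 := by rw [e', pow_mul, hk', one_pow]
    rw [show 4 ^ (k + k') = 3 * a + 1 by omega, pow_succ, pow_mul] at h1 h2
    rw [he] at h1
    exact mul_left_cancel (h1.trans h2.symm)
  have hprod : ((E ×ˢ Z).image fun p => p.1 * p.2) ⊆
      (Finset.univ \ (Finset.univ.biUnion T ∪ Z)) := by
    intro y hy
    obtain ⟨⟨w, v⟩, hwv, rfl⟩ := Finset.mem_image.1 hy
    obtain ⟨hw, hv⟩ := Finset.mem_product.1 hwv
    obtain ⟨-, hw1, k, hk⟩ := Finset.mem_filter.1 hw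
    obtain ⟨-, hv'⟩ := Finset.mem_filter.1 hv
    refine Finset.mem_sdiff.2 ⟨Finset.mem_univ _, fun hmem => ?_⟩
    obtain ⟨Q, hyQ⟩ : ∃ Q : Sylow 3 C, w * v ∈ (Q : Subgroup C) := by
      rcases Finset.mem_union.1 hmem with hm | hm
      · obtain ⟨Q, -, hQ'⟩ := Finset.mem_biUnion.1 hm
        exact ⟨Q, (Finset.mem_filter.1 hQ').2.1⟩
      · obtain ⟨Q⟩ := (inferInstance : Nonempty (Sylow 3 C))
        exact ⟨Q, hxQ Q (Finset.mem_filter.1 hm).2⟩
    have hwQ : w ∈ (Q : Subgroup C) := by
      simpa using mul_mem hyQ (inv_mem (hxQ Q hv'))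
    obtain ⟨i, hi⟩ := Q.isPGroup' ⟨w, hwQ⟩
    have hi' : w ^ 3 ^ i = 1 := congrArg Subtype.val hi
    refine hw1 ?_
    have hg : Nat.gcd (2 ^ k) (3 ^ i) = 1 := Nat.Coprime.pow _ _ (by norm_num)
    have := pow_gcd_eq_one.2 ⟨hk, hi'⟩
    rwa [hg, pow_one] at this
  have hinj : Set.InjOn (fun p : C × C => p.1 * p.2) (E ×ˢ Z : Finset (C × C)) := by
    rintro ⟨w, v⟩ hp ⟨w', v'⟩ hp' he
    obtain ⟨hw, hv⟩ := Finset.mem_product.1 hp
    obtain ⟨hw', hv'⟩ := Finset.mem_product.1 hp'
    obtain ⟨-, -, hk⟩ := Finset.mem_filter.1 hw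
    obtain ⟨-, -, hk'⟩ := Finset.mem_filter.1 hw'
    obtain ⟨-, hv0⟩ := Finset.mem_filter.1 hv
    obtain ⟨-, hv0'⟩ := Finset.mem_filter.1 hv'
    have he' : w * v = w' * v' := he
    have h3 := congrArg (fun y : C => y ^ 3) he'
    simp only [(hwy w v hv0).mul_pow, (hwy w' v' hv0').mul_pow, hz3 v hv0, hz3 v' hv0',
      mul_one] at h3
    have := h2inj w w' hk hk' h3
    subst this
    exact Prod.ext rfl (mul_left_cancel he')
  have hdisj : Disjoint (Finset.univ.biUnion T) Z := by
    refine Finset.disjoint_left.2 fun y hy hy' => ?_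
    obtain ⟨Q, -, hQ'⟩ := Finset.mem_biUnion.1 hy
    exact (Finset.mem_filter.1 hQ').2.2 (Finset.mem_filter.1 hy').2
  have hE : E.card ≤ 3 := by
    have h1 := Finset.card_le_card hprod
    rw [Finset.card_image_of_injOn hinj, Finset.card_product, hZ,
      Finset.card_sdiff_of_subset (Finset.subset_univ _), Finset.card_union_of_disjoint hdisj, hU,
      hZ, Finset.card_univ, ← Nat.card_eq_fintype_card, hc] at h1
    omega
  obtain ⟨W⟩ := (inferInstance : Nonempty (Sylow 2 C))
  have hW : Nat.card (W : Subgroup C) = 4 :=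
    (card_sylow_of_exact (a := 2) W (by rw [hc]; norm_num) (by rw [hc]; norm_num)).trans (by norm_num)
  have hWeq : ∀ y : C, (∃ k : ℕ, y ^ 2 ^ k = 1) → y ∈ (W : Subgroup C) := by
    intro y hy
    by_contra hyW
    let F : Finset C := Finset.univ.filter fun w => w ∈ (W : Subgroup C) ∧ w ≠ 1
    have hsub : insert y F ⊆ E := by
      intro w hw
      rcases Finset.mem_insert.1 hw with rfl | hw
      · exact Finset.mem_filter.2 ⟨Finset.mem_univ _, fun e => hyW (e ▸ one_mem _), hy⟩
      · obtain ⟨-, hwW, hw1⟩ := Finset.mem_filter.1 hw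
        obtain ⟨k, hk⟩ := W.isPGroup' ⟨w, hwW⟩
        exact Finset.mem_filter.2 ⟨Finset.mem_univ _, hw1, k, congrArg Subtype.val hk⟩
    have hF : F.card = 3 := by
      have e1 : (Finset.univ.filter fun w => w ∈ (W : Subgroup C)).card = 4 := by
        rw [← hW, Nat.card_eq_fintype_card, Fintype.card_subtype]
      have e : F = (Finset.univ.filter fun w => w ∈ (W : Subgroup C)).erase 1 := by
        ext w; simp [F, and_comm]
      rw [e, Finset.card_erase_of_mem (Finset.mem_filter.2 ⟨Finset.mem_univ _, one_mem _⟩), e1]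
    have := Finset.card_le_card hsub
    rw [Finset.card_insert_of_notMem fun hm => hyW (Finset.mem_filter.1 hm).2.1, hF] at this
    omega
  have hnormal : (W : Subgroup C).Normal := ⟨fun w hw g => hWeq _ (by
    obtain ⟨k, hk⟩ := W.isPGroup' ⟨w, hw⟩
    exact ⟨k, by
      rw [conj_pow, show w ^ 2 ^ k = 1 from congrArg Subtype.val hk, mul_one, mul_inv_cancel]⟩)⟩
  refine normalizer_four_ne h (C := C) (W := (W : Subgroup C).map C.subtype) ?_ hc ?_
  · rw [card_map_of_injective C.subtype_injective, hW]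
  · intro c hcC
    rw [Subgroup.mem_normalizer_iff]
    intro w
    constructor
    · rintro ⟨w', hw', rfl⟩
      exact ⟨_, hnormal.conj_mem w' hw' ⟨c, hcC⟩, rfl⟩
    · rintro ⟨w', hw', he⟩
      refine ⟨_, hnormal.conj_mem w' hw' (⟨c, hcC⟩ : C)⁻¹, ?_⟩
      have he' : (w' : G) = c * w * c⁻¹ := he
      simp [he', mul_assoc]

theorem centralizer_three (h : Nat.card G = 504) (P : Sylow 3 G) {x : G}
    (hxP : x ∈ (P : Subgroup G)) (hx : x ≠ 1) :
    centralizer ({x} : Set G) = (P : Subgroup G) := by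
  have : Fact (Nat.Prime 3) := ⟨Nat.prime_three⟩
  obtain ⟨hP, -, hN, hfix⟩ := sylow_three h P
  have hPab : IsMulCommutative (P : Subgroup G) :=
    IsPGroup.isMulCommutative_of_card_eq_prime_sq (p := 3) (hP.trans (by norm_num))
  set C := centralizer ({x} : Set G)
  set N := normalizer ((P : Subgroup G) : Set G)
  have hPC : (P : Subgroup G) ≤ C := fun y hy => Subgroup.mem_centralizer_singleton_iff.2
    (congrArg Subtype.val (mul_comm' (⟨y, hy⟩ : (P : Subgroup G)) ⟨x, hxP⟩))
  have hCN : C ⊓ N = (P : Subgroup G) := by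
    have h1 := Subgroup.card_dvd_of_le (inf_le_right : C ⊓ N ≤ N)
    have h2 := Subgroup.card_dvd_of_le (le_inf hPC Subgroup.le_normalizer : (P : Subgroup G) ≤ C ⊓ N)
    rw [hN] at h1; rw [hP] at h2
    have hmem := Nat.mem_divisors.2 ⟨h1, (by norm_num : (18 : ℕ) ≠ 0)⟩
    have key : ∀ k ∈ Nat.divisors 18, 9 ∣ k → k = 9 ∨ k = 18 := by decide +kernel
    rcases key _ hmem h2 with e | e
    · exact (eq_of_le_of_card_ge (le_inf hPC Subgroup.le_normalizer) (by rw [hP, e])).symm
    · exfalso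
      have hle : N ≤ C := (eq_of_le_of_card_ge (inf_le_right : C ⊓ N ≤ N) (by rw [hN, e])) ▸
        inf_le_left
      exact hx (hfix x hxP fun n hn => Subgroup.mem_centralizer_singleton_iff.1 (hle hn))
  have hle := card_le h (centralizer_ne_top h hx)
  have h9 : 9 ∣ Nat.card C := hP ▸ Subgroup.card_dvd_of_le hPC
  have hd : Nat.card C ∣ 504 := h ▸ C.card_subgroup_dvd_card
  have h7 : ¬ 7 ∣ Nat.card C := by
    intro h7
    have : Fact (Nat.Prime 7) := ⟨by norm_num⟩
    obtain ⟨⟨y, hyC⟩, hy⟩ := exists_prime_orderOf_dvd_card' 7 h7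
    have hyo : orderOf y = 7 := by rw [← hy, ← Subgroup.orderOf_coe]
    have hsub : (P : Subgroup G) ⊔ zpowers y ≤ C := sup_le hPC (zpowers_le.2 hyC)
    have hx7 : x ∈ centralizer ({y} : Set G) := Subgroup.mem_centralizer_singleton_iff.2
      (Subgroup.mem_centralizer_singleton_iff.1 hyC).symm
    have h3 := Subgroup.orderOf_dvd_natCard _ hx7
    rw [(centralizer_seven h hyo).1] at h3
    have h4 := Subgroup.orderOf_dvd_natCard _ hxP
    rw [hP] at h4
    have := Nat.dvd_gcd h3 h4
    norm_num at this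
    exact hx this
  have hmem := Nat.mem_divisors.2 ⟨hd, (by norm_num : (504 : ℕ) ≠ 0)⟩
  have key : ∀ k ∈ Nat.divisors 504, 9 ∣ k → ¬ 7 ∣ k → k ≤ 63 → k = 9 ∨ k = 18 ∨ k = 36 := by
    decide +kernel
  let Q := P.subtype hPC
  have hone : Nat.card (Sylow 3 C) = 1 → C = (P : Subgroup G) := by
    intro h1
    have hidx : (normalizer ((Q : Subgroup C) : Set C)).index = 1 :=
      Q.card_eq_index_normalizer.symm.trans h1
    rw [index_eq_one, normalizer_eq_top_iff] at hidx
    refine le_antisymm ?_ hPC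
    intro c hc
    rw [← hCN]
    refine ⟨hc, Subgroup.mem_normalizer_iff.2 fun y => ⟨fun hy => ?_, fun hy => ?_⟩⟩
    · exact hidx.conj_mem ⟨y, hPC hy⟩ hy ⟨c, hc⟩
    · have hyC : y ∈ C := by
        have := mul_mem (mul_mem (inv_mem hc) (hPC hy)) hc
        simpa [mul_assoc] using this
      have := hidx.conj_mem ⟨c * y * c⁻¹, hPC hy⟩ hy (⟨c, hc⟩ : C)⁻¹
      simpa [Q, mem_subgroupOf, mul_assoc] using this
  have hm := card_sylow_modEq_one 3 C
  rw [Nat.ModEq] at hm
  norm_num at hm
  have hdiv := Q.card_dvd_index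
  have hidxQ := (Q : Subgroup C).card_mul_index
  rw [show Nat.card (Q : Subgroup C) = 9 from
    (Nat.card_congr (subgroupOfEquivOfLe hPC).toEquiv).trans hP] at hidxQ
  rcases key _ hmem h9 h7 hle with e | e | e
  · exact (eq_of_le_of_card_ge hPC (by rw [hP, e])).symm
  · refine hone ?_
    have hi : (Q : Subgroup C).index = 2 := by omega
    rw [hi] at hdiv
    have := Nat.le_of_dvd (by norm_num) hdiv
    omega
  · have hi : (Q : Subgroup C).index = 4 := by omega
    rw [hi] at hdiv
    have := Nat.le_of_dvd (by norm_num) hdiv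
    by_cases h1 : Nat.card (Sylow 3 C) = 1
    · exact hone h1
    exfalso
    have hn4 : Nat.card (Sylow 3 C) = 4 := by
      have : 0 < Nat.card (Sylow 3 C) := Nat.card_pos
      omega
    have hxo : orderOf x = 3 ∨ orderOf x = 9 := by
      have h4 := Subgroup.orderOf_dvd_natCard _ hxP
      rw [hP] at h4
      have key2 : ∀ k ∈ Nat.divisors 9, k ≠ 1 → k = 3 ∨ k = 9 := by decide +kernel
      exact key2 _ (Nat.mem_divisors.2 ⟨h4, by norm_num⟩) (by rwa [Ne, orderOf_eq_one_iff])
    rcases hxo with hxo | hxo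
    · exact four_sylow_false h hxo e hn4
    · have hxC : zpowers x = (P : Subgroup G) :=
        eq_of_le_of_card_ge (zpowers_le.2 hxP) (by rw [hP, Nat.card_zpowers, hxo])
      have hCle : C ≤ N := fun c hc => by
        refine Subgroup.mem_normalizer_iff.2 fun y => ?_
        rw [← hxC]
        have hcx : Commute c x := Subgroup.mem_centralizer_singleton_iff.1 hc
        constructor
        · rintro ⟨i, rfl⟩
          exact ⟨i, by
            show x ^ i = c * x ^ i * c⁻¹
            rw [(hcx.zpow_right i).eq, mul_inv_cancel_right]⟩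
        · rintro ⟨i, hi'⟩
          refine ⟨i, ?_⟩
          have hi'' : x ^ i = c * y * c⁻¹ := hi'
          show x ^ i = y
          have e' := congrArg (fun v => c⁻¹ * v * c) hi''
          rw [mul_assoc c⁻¹, ← (hcx.zpow_right i).eq, inv_mul_cancel_left] at e'
          rw [e']; group
      have hle2 := Subgroup.card_le_of_le hCle
      omega

theorem centralizer_three' (h : Nat.card G = 504) {x : G} (hx : orderOf x = 3) :
    Nat.card (centralizer ({x} : Set G)) = 9 ∧ ∃ P : Sylow 3 G,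
      centralizer ({x} : Set G) = (P : Subgroup G) := by
  have : Fact (Nat.Prime 3) := ⟨Nat.prime_three⟩
  obtain ⟨P, hP⟩ := (IsPGroup.of_card (p := 3) (n := 1) (G := zpowers x)
    (by rw [Nat.card_zpowers, hx, pow_one])).exists_le_sylow
  have hC := centralizer_three h P (hP (mem_zpowers x)) (fun e => by simp [e] at hx)
  exact ⟨by rw [hC]; exact (sylow_three h P).1, P, hC⟩

theorem centralizer_two (h : Nat.card G = 504) {t : G} (ht : orderOf t = 2) :
    IsPGroup 2 (centralizer ({t} : Set G)) := by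
  have : Fact (Nat.Prime 2) := ⟨Nat.prime_two⟩
  set C := centralizer ({t} : Set G)
  have htx : ∀ {y : G}, y ∈ C → t ∈ centralizer ({y} : Set G) := fun {y} hy =>
    Subgroup.mem_centralizer_singleton_iff.2 (Subgroup.mem_centralizer_singleton_iff.1 hy).symm
  have h3 : ¬ 3 ∣ Nat.card C := by
    intro hd
    have : Fact (Nat.Prime 3) := ⟨Nat.prime_three⟩
    obtain ⟨⟨y, hyC⟩, hy⟩ := exists_prime_orderOf_dvd_card' 3 hd
    have hyo : orderOf y = 3 := by rw [← hy, ← Subgroup.orderOf_coe]
    have h4 := Subgroup.orderOf_dvd_natCard _ (htx hyC)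
    rw [ht, (centralizer_three' h hyo).1] at h4
    norm_num at h4
  have h7 : ¬ 7 ∣ Nat.card C := by
    intro hd
    have : Fact (Nat.Prime 7) := ⟨by norm_num⟩
    obtain ⟨⟨y, hyC⟩, hy⟩ := exists_prime_orderOf_dvd_card' 7 hd
    have hyo : orderOf y = 7 := by rw [← hy, ← Subgroup.orderOf_coe]
    have h4 := Subgroup.orderOf_dvd_natCard _ (htx hyC)
    rw [ht, (centralizer_seven h hyo).1] at h4
    norm_num at h4
  have hd : Nat.card C ∣ 504 := h ▸ C.card_subgroup_dvd_card
  have key : ∀ k ∈ Nat.divisors 504, ¬ 3 ∣ k → ¬ 7 ∣ k → k = 1 ∨ k = 2 ∨ k = 4 ∨ k = 8 := by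
    decide +kernel
  rcases key _ (Nat.mem_divisors.2 ⟨hd, by norm_num⟩) h3 h7 with e | e | e | e
  · exact IsPGroup.of_card (n := 0) (e.trans (by norm_num))
  · exact IsPGroup.of_card (n := 1) (e.trans (by norm_num))
  · exact IsPGroup.of_card (n := 2) (e.trans (by norm_num))
  · exact IsPGroup.of_card (n := 3) (e.trans (by norm_num))

theorem sylow_two_exponent (h : Nat.card G = 504) (S : Sylow 2 G) :
    ∀ s ∈ (S : Subgroup G), s * s = 1 := by
  classical
  have : Fact (Nat.Prime 2) := ⟨Nat.prime_two⟩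
  have : Fact (Nat.Prime 3) := ⟨Nat.prime_three⟩
  let _ : Fintype G := Fintype.ofFinite G
  let _ : Fintype (Sylow 3 G) := Fintype.ofFinite _
  have hS8 : Nat.card (S : Subgroup G) = 8 :=
    (card_sylow_of_exact (a := 3) S (by rw [h]; norm_num) (by rw [h]; norm_num)).trans (by norm_num)
  have : Nontrivial (S : Subgroup G) := by
    rw [← Finite.one_lt_card_iff_nontrivial, hS8]; norm_num
  have : Nontrivial (Subgroup.center (S : Subgroup G)) := S.isPGroup'.center_nontrivial
  obtain ⟨n, hn⟩ : ∃ n, Nat.card (Subgroup.center (S : Subgroup G)) = 2 ^ n :=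
    IsPGroup.iff_card.1 (S.isPGroup'.to_subgroup _)
  have h2 : 2 ∣ Nat.card (Subgroup.center (S : Subgroup G)) := by
    rcases n with _ | n
    · have := Finite.one_lt_card (α := Subgroup.center (S : Subgroup G)); omega
    · rw [hn, pow_succ]; exact dvd_mul_left _ _
  obtain ⟨z, hz⟩ := exists_prime_orderOf_dvd_card' 2 h2
  set t : G := ((z : (S : Subgroup G)) : G)
  have hto : orderOf t = 2 := by rw [Subgroup.orderOf_coe, Subgroup.orderOf_coe, hz]
  have hSC : (S : Subgroup G) ≤ centralizer ({t} : Set G) := fun s hs =>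
    Subgroup.mem_centralizer_singleton_iff.2
      (congrArg Subtype.val (Subgroup.mem_center_iff.1 z.2 ⟨s, hs⟩))
  have hC : Nat.card (centralizer ({t} : Set G)) = 8 := by
    rw [← S.3 (centralizer_two h hto) hSC] at hS8
    exact hS8
  have hcls : Nat.card {g : G // IsConj t g} = 63 := by
    have := card_isConj_mul_card_centralizer (G := G) t
    rw [hC, h] at this
    omega
  intro s hs
  by_contra hs2
  obtain ⟨k, hk⟩ := S.isPGroup' ⟨s, hs⟩
  have hk' : s ^ 2 ^ k = 1 := congrArg Subtype.val hk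
  have hsodd : ∀ m : ℕ, Odd m → s ^ m = 1 → s = 1 := by
    intro m hm he
    have hg : Nat.gcd (2 ^ k) m = 1 := (Nat.coprime_two_left.2 hm).pow_left k
    have := pow_gcd_eq_one.2 ⟨hk', he⟩
    rwa [hg, pow_one] at this
  have hs1 : s ≠ 1 := fun e => hs2 (by rw [e, one_mul])
  let A := Finset.univ.filter fun g : G => IsConj t g
  let B := Finset.univ.filter fun g : G => orderOf g = 7
  let T := fun P : Sylow 3 G => Finset.univ.filter fun g : G => g ∈ (P : Subgroup G) ∧ g ≠ 1
  have hA : A.card = 63 := by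
    rw [← hcls, Nat.card_eq_fintype_card, Fintype.card_subtype]
  have hB : B.card = 216 := by
    have : Fact (Nat.Prime 7) := ⟨by norm_num⟩
    obtain ⟨y, hy⟩ := exists_prime_orderOf_dvd_card' (G := G) 7 (by rw [h]; norm_num)
    rw [← (centralizer_seven h hy).2, Nat.card_eq_fintype_card, Fintype.card_subtype]
  have hT : ∀ P, (T P).card = 8 := by
    intro P
    have e : T P = (Finset.univ.filter fun g : G => g ∈ (P : Subgroup G)).erase 1 := by
      ext g; simp [T, and_comm]
    rw [e, Finset.card_erase_of_mem (Finset.mem_filter.2 ⟨Finset.mem_univ _, one_mem _⟩),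
      ← Fintype.card_subtype, ← Nat.card_eq_fintype_card, (sylow_three h P).1]
  have hdis : ∀ P P' : Sylow 3 G, P ≠ P' → Disjoint (T P) (T P') := by
    intro P P' hne
    refine Finset.disjoint_left.2 fun g hg hg' => hne (Sylow.ext ?_)
    obtain ⟨-, h1, h1'⟩ := Finset.mem_filter.1 hg
    obtain ⟨-, h3, -⟩ := Finset.mem_filter.1 hg'
    exact (centralizer_three h P h1 h1').symm.trans (centralizer_three h P' h3 h1')
  have hU : (Finset.univ.biUnion T).card = 224 := by
    obtain ⟨P⟩ := (inferInstance : Nonempty (Sylow 3 G))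
    rw [Finset.card_biUnion fun P _ P' _ hne => hdis P P' hne,
      Finset.sum_congr rfl (fun P _ => hT P), Finset.sum_const, Finset.card_univ,
      ← Nat.card_eq_fintype_card, (sylow_three h P).2.1]
    rfl
  have ho3 : ∀ g ∈ Finset.univ.biUnion T, g ^ 9 = 1 ∧ g ≠ 1 := by
    intro g hg
    obtain ⟨P, -, hP'⟩ := Finset.mem_biUnion.1 hg
    obtain ⟨-, h1, h1'⟩ := Finset.mem_filter.1 hP'
    exact ⟨orderOf_dvd_iff_pow_eq_one.1 ((sylow_three h P).1 ▸ Subgroup.orderOf_dvd_natCard _ h1),
      h1'⟩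
  have hord : ∀ g ∈ A, orderOf g = 2 := fun g hg => by
    obtain ⟨c, hc⟩ := isConj_iff.1 (Finset.mem_filter.1 hg).2
    rw [← hc, ← MulAut.conj_apply, MulEquiv.orderOf_eq, hto]
  have hd2 : Disjoint A B := Finset.disjoint_left.2 fun g hg hg' => by
    have h1 := hord g hg
    rw [(Finset.mem_filter.1 hg').2] at h1
    omega
  have hd3 : Disjoint (A ∪ B) (Finset.univ.biUnion T) := Finset.disjoint_left.2 fun g hg hg' => by
    obtain ⟨h9, h91⟩ := ho3 g hg'
    have := orderOf_dvd_of_pow_eq_one h9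
    rcases Finset.mem_union.1 hg with hg | hg
    · rw [hord g hg] at this; norm_num at this
    · rw [(Finset.mem_filter.1 hg).2] at this; norm_num at this
  have hsA : s ∉ A := fun hm => hs2 (by
    rw [← pow_two, ← hord s hm, pow_orderOf_eq_one])
  have hsB : s ∉ B := fun hm => hs1 (hsodd 7 (by decide) (by
    rw [← (Finset.mem_filter.1 hm).2, pow_orderOf_eq_one]))
  have hsT : s ∉ Finset.univ.biUnion T := fun hm => hs1 (hsodd 9 (by decide) (ho3 s hm).1)
  have h1A : (1 : G) ∉ A := fun hm => by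
    have := hord 1 hm; simp at this
  have h1B : (1 : G) ∉ B := fun hm => by
    have := (Finset.mem_filter.1 hm).2; simp at this
  have h1T : (1 : G) ∉ Finset.univ.biUnion T := fun hm => (ho3 1 hm).2 rfl
  have hins : (insert 1 (insert s (A ∪ B ∪ Finset.univ.biUnion T))).card ≤ 504 := by
    rw [← h, Nat.card_eq_fintype_card]
    exact Finset.card_le_univ _
  rw [Finset.card_insert_of_notMem, Finset.card_insert_of_notMem,
    Finset.card_union_of_disjoint hd3, Finset.card_union_of_disjoint hd2, hA, hB, hU] at hins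
  · omega
  · simp only [Finset.mem_union, not_or]; exact ⟨⟨hsA, hsB⟩, hsT⟩
  · simp only [Finset.mem_insert, Finset.mem_union, not_or]
    exact ⟨Ne.symm hs1, ⟨h1A, h1B⟩, h1T⟩

theorem abelian_centralizers (h : Nat.card G = 504) :
    ∀ x a b : G, x ≠ 1 → Commute a x → Commute b x → Commute a b := by
  intro x a b hx ha hb
  have hne : orderOf x ≠ 1 := by rwa [Ne, orderOf_eq_one_iff]
  obtain ⟨q, hq, hqd⟩ := Nat.exists_prime_and_dvd hne
  set y := x ^ (orderOf x / q) with hy
  have hyo : orderOf y = q := orderOf_pow_orderOf_div (orderOf_pos x).ne' hqd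
  have hya : a ∈ centralizer ({y} : Set G) :=
    Subgroup.mem_centralizer_singleton_iff.2 (ha.pow_right _)
  have hyb : b ∈ centralizer ({y} : Set G) :=
    Subgroup.mem_centralizer_singleton_iff.2 (hb.pow_right _)
  have hq504 : q ∣ 504 := hqd.trans (h ▸ orderOf_dvd_natCard x)
  have key : ∀ k ∈ Nat.divisors 504, k.Prime → k = 2 ∨ k = 3 ∨ k = 7 := by decide +kernel
  have hab : IsMulCommutative (centralizer ({y} : Set G)) := by
    rcases key q (Nat.mem_divisors.2 ⟨hq504, by norm_num⟩) hq with rfl | rfl | rfl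
    · have : Fact (Nat.Prime 2) := ⟨Nat.prime_two⟩
      obtain ⟨S, hS⟩ := (centralizer_two h hyo).exists_le_sylow
      have hsq := sylow_two_exponent h S
      refine ⟨⟨fun u v => Subtype.ext ?_⟩⟩
      have hinv : ∀ w ∈ centralizer ({y} : Set G), w⁻¹ = w := fun w hw =>
        inv_eq_of_mul_eq_one_right (hsq w (hS hw))
      show (u : G) * v = v * u
      rw [← hinv _ (mul_mem u.2 v.2), mul_inv_rev, hinv _ u.2, hinv _ v.2]
    · have : Fact (Nat.Prime 3) := ⟨Nat.prime_three⟩
      exact IsPGroup.isMulCommutative_of_card_eq_prime_sq (p := 3)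
        ((centralizer_three' h hyo).1.trans (by norm_num))
    · have : Fact (Nat.Prime 7) := ⟨by norm_num⟩
      have : IsCyclic (centralizer ({y} : Set G)) :=
        isCyclic_of_prime_card (p := 7) (centralizer_seven h hyo).1
      exact IsCyclic.isMulCommutative
  exact congrArg Subtype.val (mul_comm' (⟨a, hya⟩ : centralizer ({y} : Set G)) ⟨b, hyb⟩)

end CfsgLib.ClassK.Simple504
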