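import Cfsg.Agent.Lib.ClassK.SmallSimple
import Cfsg.Agent.Lib.ClassK.SmallOrders
import Cfsg.Agent.Lib.Transfer.Focal
import Mathlib.GroupTheory.SpecificGroups.Alternating.Simple
import Cfsg.Agent.S1001

/-!
# Simple groups of order 504: Sylow subgroups
-/

set_option autoImplicit false

namespace CfsgLib.ClassK.Simple504

open Subgroup CfsgLib.Transfer

variable {G : Type*} [Group G] [Finite G] [IsSimpleGroup G]

theorem nonabelian (h : Nat.card G = 504) : ¬ IsMulCommutative G :=
  not_isMulCommutative_of_not_prime (by rw [h]; norm_num)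

theorem card_le (h : Nat.card G = 504) {H : Subgroup G} (hH : H ≠ ⊤) : Nat.card H ≤ 63 := by
  have hd := two_mul_card_dvd_factorial (nonabelian h) hH
  have hmul := H.card_mul_index
  rw [h] at hd hmul
  have h7 : H.index ≠ 7 := by
    intro e
    obtain ⟨f, hf⟩ := exists_embedding_alternating (nonabelian h) hH
    have : IsSimpleGroup (alternatingGroup (Fin H.index)) :=
      alternatingGroup.isSimpleGroup (by rw [Nat.card_fin, e]; norm_num)
    have : Nontrivial (Fin H.index) := Fin.nontrivial_iff_two_le.2 (by omega)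
    have hA : Nat.card (alternatingGroup (Fin H.index)) = 2520 := by
      have h2 := two_mul_card_alternatingGroup (α := Fin H.index)
      rw [Fintype.card_perm, Fintype.card_fin, ← Nat.card_eq_fintype_card] at h2
      rw [e] at h2 ⊢
      norm_num [Nat.factorial] at h2 ⊢
      omega
    have hr := f.range.card_mul_index
    rw [Nat.card_congr (MonoidHom.ofInjective hf).toEquiv.symm, h, hA] at hr
    have hr' : f.range.index = 5 := by omega
    have hne : f.range ≠ ⊤ := fun e' => by
      rw [e', index_top] at hr'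
      omega
    have h5 := two_mul_card_dvd_factorial
      (not_isMulCommutative_of_not_prime (by rw [hA]; norm_num)) hne
    rw [hr', hA] at h5
    norm_num [Nat.factorial] at h5
  by_contra hlt
  rw [not_le] at hlt
  have hi : H.index ≤ 7 := by
    by_contra h8
    have := Nat.mul_le_mul hlt.le (not_le.1 h8)
    nlinarith
  interval_cases hx : H.index <;> norm_num [Nat.factorial] at hd
  exact h7 rfl

theorem centralizer_seven (h : Nat.card G = 504) {x : G} (hx : orderOf x = 7) :
    Nat.card (Subgroup.centralizer ({x} : Set G)) = 7 ∧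
      Nat.card {g : G // orderOf g = 7} = 216 := by
  have : Fact (Nat.Prime 7) := ⟨by norm_num⟩
  have hG := nonabelian h
  obtain ⟨h1, hm, hd, -⟩ := sylow_count_of_simple hG (p := 7) (by rw [h]; norm_num)
  obtain ⟨P⟩ := (inferInstance : Nonempty (Sylow 7 G))
  have hP : Nat.card (P : Subgroup G) = 7 := by
    simpa using card_sylow_of_exact (a := 1) P (by rw [h]; norm_num) (by rw [h]; norm_num)
  have hC : Subgroup.centralizer ({x} : Set G) = Subgroup.zpowers x := Cfsg.Agent.S1001.result 7 2 3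
    (by norm_num) (by rw [h]; norm_num) x hx
  refine ⟨by rw [hC, Nat.card_zpowers, hx], ?_⟩
  have hn : Nat.card (Sylow 7 G) = 36 := by
    rw [h] at hd
    have h8 : Nat.card (Sylow 7 G) ≠ 8 := by
      intro e
      have hN := two_mul_card_normalizer_dvd hG (by norm_num) P hP e
      have h2 := (normalizer ((P : Subgroup G) : Set G)).card_mul_index
      rw [show (normalizer ((P : Subgroup G) : Set G)).index = 8 from
        P.card_eq_index_normalizer.symm.trans e, h] at h2
      rw [show Nat.card (normalizer ((P : Subgroup G) : Set G)) = 63 by omega] at hN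
      norm_num at hN
    have hmem : Nat.card (Sylow 7 G) ∈ Nat.divisors 504 := Nat.mem_divisors.2 ⟨hd, by norm_num⟩
    have key : ∀ k ∈ Nat.divisors 504, 1 < k → k % 7 = 1 → k ≠ 8 → k = 36 := by decide +kernel
    exact key _ hmem h1 hm h8
  rw [card_orderOf_eq_prime P hP, hn]

theorem sylow_three (h : Nat.card G = 504) (P : Sylow 3 G) :
    Nat.card (P : Subgroup G) = 9 ∧ Nat.card (Sylow 3 G) = 28 ∧
      Nat.card (normalizer ((P : Subgroup G) : Set G)) = 18 ∧
      ∀ x ∈ (P : Subgroup G), (∀ n ∈ normalizer ((P : Subgroup G) : Set G), Commute n x) →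
        x = 1 := by
  have : Fact (Nat.Prime 3) := ⟨Nat.prime_three⟩
  have hG := nonabelian h
  obtain ⟨h1, hm, hd, -⟩ := sylow_count_of_simple hG (p := 3) (by rw [h]; norm_num)
  have hP : Nat.card (P : Subgroup G) = 9 :=
    (card_sylow_of_exact (a := 2) P (by rw [h]; norm_num) (by rw [h]; norm_num)).trans (by norm_num)
  set N := normalizer ((P : Subgroup G) : Set G) with hNdef
  have hNi : N.index = Nat.card (Sylow 3 G) := P.card_eq_index_normalizer.symm
  have hmul := N.card_mul_index
  rw [h] at hmul hd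
  have hne : N ≠ ⊤ := fun e => by rw [e, index_top] at hNi; omega
  have hle := card_le h hne
  have hn : Nat.card (Sylow 3 G) = 28 := by
    have h9 : 9 ∣ Nat.card N := hP ▸ Subgroup.card_dvd_of_le Subgroup.le_normalizer
    have hi8 : 8 ≤ Nat.card (Sylow 3 G) := by
      rw [← hNi]
      nlinarith
    have hdvd : Nat.card (Sylow 3 G) ∣ 56 := by
      obtain ⟨k, hk⟩ := h9
      exact ⟨k, by rw [hk, hNi] at hmul; nlinarith⟩
    have hmem : Nat.card (Sylow 3 G) ∈ Nat.divisors 56 := Nat.mem_divisors.2 ⟨hdvd, by norm_num⟩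
    have key : ∀ k ∈ Nat.divisors 56, 8 ≤ k → k % 3 = 1 → k = 28 := by decide +kernel
    exact key _ hmem hi8 hm
  have hN18 : Nat.card N = 18 := by rw [hNi, hn] at hmul; omega
  refine ⟨hP, hn, hN18, fun x hx hcen => ?_⟩
  have hPab : IsMulCommutative (P : Subgroup G) :=
    IsPGroup.isMulCommutative_of_card_eq_prime_sq (p := 3) (hP.trans (by norm_num))
  set P' := (P : Subgroup G).subgroupOf N with hP'
  have hidx : P'.index = 2 := by
    have h2 := P'.card_mul_index
    rw [Nat.card_congr (Subgroup.subgroupOfEquivOfLe Subgroup.le_normalizer).toEquiv, hP, hN18] at h2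
    omega
  obtain ⟨u, hu⟩ : ∃ u : N, u ∉ P' := by
    by_contra! hall
    rw [eq_top_iff' _ |>.2 hall, index_top] at hidx
    omega
  have hcomm : ∀ a ∈ (P : Subgroup G), ∀ b ∈ (P : Subgroup G), Commute a b := fun a ha b hb =>
    congrArg Subtype.val (mul_comm' (⟨a, ha⟩ : (P : Subgroup G)) ⟨b, hb⟩)
  have hconj : ∀ n ∈ N, ∀ b ∈ (P : Subgroup G), n * b * n⁻¹ ∈ (P : Subgroup G) :=
    fun n hn b hb => (Subgroup.mem_normalizer_iff.1 hn b).1 hb
  have hu2 : (u : G) * u ∈ (P : Subgroup G) :=
    mem_subgroupOf.1 (Subgroup.mul_self_mem_of_index_two hidx u)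
  -- the norm map
  let φ : G → G := fun a => a * ((u : G) * a * (u : G)⁻¹)
  have hφu : ∀ b ∈ (P : Subgroup G), φ ((u : G) * b * (u : G)⁻¹) = φ b := by
    intro b hb
    show (u : G) * b * (u : G)⁻¹ * ((u : G) * ((u : G) * b * (u : G)⁻¹) * (u : G)⁻¹) = _
    have e : (u : G) * ((u : G) * b * (u : G)⁻¹) * (u : G)⁻¹ = b := by
      calc (u : G) * ((u : G) * b * (u : G)⁻¹) * (u : G)⁻¹
          = ((u : G) * u) * b * ((u : G) * u)⁻¹ := by group
        _ = b := by rw [(hcomm _ hu2 b hb).eq, mul_inv_cancel_right]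
    rw [e, (hcomm _ (hconj _ u.2 b hb) b hb).eq]
  have hφmul : ∀ a ∈ (P : Subgroup G), ∀ b ∈ (P : Subgroup G), φ (a * b) = φ a * φ b := by
    intro a ha b hb
    have e : φ (a * b) = a * b * (((u : G) * a * (u : G)⁻¹) * ((u : G) * b * (u : G)⁻¹)) := by
      show a * b * ((u : G) * (a * b) * (u : G)⁻¹) = _
      group
    rw [e, (hcomm b hb _ (hconj _ u.2 a ha)).mul_mul_mul_comm]
  let K : Subgroup G :=
    { carrier := {a | a ∈ (P : Subgroup G) ∧ φ a = 1}
      one_mem' := ⟨one_mem _, by simp [φ]⟩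
      mul_mem' := fun {a b} ha hb =>
        ⟨mul_mem ha.1 hb.1, by rw [hφmul a ha.1 b hb.1, ha.2, hb.2, one_mul]⟩
      inv_mem' := fun {a} ha => ⟨inv_mem ha.1, by
        have e := hφmul a ha.1 a⁻¹ (inv_mem ha.1)
        rw [mul_inv_cancel, ha.2, one_mul] at e
        exact e.symm.trans (by simp [φ])⟩ }
  have hPN : ⁅(P : Subgroup G), N⁆ ≤ K := by
    rw [Subgroup.commutator_le]
    intro b hb n hn
    have hb' : n * b * n⁻¹ ∈ (P : Subgroup G) := hconj n hn b hb
    have e : φ (n * b * n⁻¹) = φ b := by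
      by_cases hnP : (⟨n, hn⟩ : N) ∈ P'
      · rw [(hcomm n hnP b hb).eq, mul_inv_cancel_right]
      · have hp : ((u : N)⁻¹ * ⟨n, hn⟩ : N) ∈ P' := by
          rw [Subgroup.mul_mem_iff_of_index_two hidx]
          simp [inv_mem_iff, hu, hnP]
        have hp' : (u : G)⁻¹ * n ∈ (P : Subgroup G) := hp
        calc φ (n * b * n⁻¹)
            = φ ((u : G) * (((u : G)⁻¹ * n) * b * ((u : G)⁻¹ * n)⁻¹) * (u : G)⁻¹) := by
              congr 1; group
          _ = φ b := by rw [(hcomm _ hp' b hb).eq, mul_inv_cancel_right, hφu b hb]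
    have e3 : φ (n * b * n⁻¹) * φ (n * b * n⁻¹)⁻¹ = 1 := by
      rw [← hφmul _ hb' _ (inv_mem hb'), mul_inv_cancel]
      simp [φ]
    rw [e] at e3
    have e4 : b * n * b⁻¹ * n⁻¹ = b * (n * b * n⁻¹)⁻¹ := by group
    refine ⟨?_, ?_⟩
    · rw [commutatorElement_def, e4]
      exact mul_mem hb (inv_mem hb')
    · rw [commutatorElement_def, e4, hφmul b hb _ (inv_mem hb')]
      exact e3
  have hxK : x ∈ K := hPN (by
    rw [← commutator_inf_abelian_sylow P, commutator_eq_top_of_simple hG]
    exact ⟨trivial, hx⟩)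
  have h2 : x * x = 1 := by
    have hφx : x * ((u : G) * x * (u : G)⁻¹) = 1 := hxK.2
    rwa [(hcen u u.2).eq, mul_inv_cancel_right] at hφx
  by_contra hx1
  have ho : orderOf x = 2 := orderOf_eq_prime (by rwa [pow_two]) hx1
  have := Subgroup.orderOf_dvd_natCard _ hx
  rw [ho, hP] at this
  norm_num at this

end CfsgLib.ClassK.Simple504
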