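import Cfsg.Agent.Lib.ClassK.SmallOrders
import Cfsg.Agent.Lib.Transfer.Thompson
import Cfsg.Agent.Lib.Transfer.ExcSimple
import Cfsg.Agent.Lib.Transfer.UniqueOrderP
import Cfsg.Agent.Lib.Transfer.CentralizerTwoSylow

/-!
# Involution arguments for the orders 720, 1008 and 1080
-/

set_option autoImplicit false

namespace CfsgLib.ClassK

open Subgroup
open scoped Nat

universe u

/-- A group of order 16 has an abelian subgroup of index 2. -/
theorem exists_abelian_order_eight {S : Type u} [Group S] [Finite S] (hS : Nat.card S = 16) :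
    ∃ Q : Subgroup S, Nat.card Q = 8 ∧ ∀ a ∈ Q, ∀ b ∈ Q, a * b = b * a := by
  have : Fact (Nat.Prime 2) := ⟨Nat.prime_two⟩
  have hp : IsPGroup 2 S := IsPGroup.of_card (n := 4) (hS.trans (by norm_num))
  obtain ⟨E, hEn, -, hE⟩ := CfsgLib.Transfer.exists_normal_le_card hp (⊤ : Subgroup S) (k := 2)
    (by rw [card_top, hS]; norm_num)
  have hi := CfsgLib.Transfer.index_centralizer_le_of_normal hp 2 E hE
  have hEab : IsMulCommutative E := IsPGroup.isMulCommutative_of_card_eq_prime_sq (p := 2) hE
  have hEC : E ≤ centralizer (E : Set S) := fun x hx => mem_centralizer_iff.2 fun y hy =>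
    congrArg Subtype.val (hEab.is_comm.comm (⟨y, hy⟩ : E) ⟨x, hx⟩)
  have h8 : 8 ∣ Nat.card (centralizer (E : Set S)) := by
    have h := (centralizer (E : Set S)).card_mul_index
    rw [hS] at h
    have : (centralizer (E : Set S)).index ≤ 2 := hi
    obtain ⟨j, hj⟩ := (hp.to_subgroup (centralizer (E : Set S))).exists_card_eq
    rw [hj] at h ⊢
    have h3 : 3 ≤ j := by
      by_contra hlt
      have := Nat.pow_le_pow_right two_pos (show j ≤ 2 by omega)
      nlinarith
    exact (show (8 : ℕ) = 2 ^ 3 by norm_num) ▸ pow_dvd_pow 2 h3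
  obtain ⟨Q, hQ, hEQ⟩ := Sylow.exists_subgroup_card_pow_prime_le (p := 2) (n := 2) (m := 3)
    (G := centralizer (E : Set S)) (H := E.subgroupOf _) (by simpa using h8)
    (by rw [Nat.card_congr (subgroupOfEquivOfLe hEC).toEquiv, hE]) (by norm_num)
  refine ⟨Q.map (centralizer (E : Set S)).subtype, by
    rw [card_map_of_injective (Subtype.val_injective), hQ]; norm_num, ?_⟩
  have hcen : E.subgroupOf (centralizer (E : Set S)) ≤ center (centralizer (E : Set S)) :=
    fun x hx => mem_center_iff.2 fun y => Subtype.ext (mem_centralizer_iff.1 y.2 (x : S) hx).symm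
  have h4 : 4 ≤ Nat.card (center Q) := by
    have hle : ((E.subgroupOf (centralizer (E : Set S))).subgroupOf Q) ≤ center Q := fun x hx =>
      mem_center_iff.2 fun y => Subtype.ext (mem_center_iff.1 (hcen hx) (y : centralizer (E : Set S)))
    have := card_le_of_le hle
    rwa [Nat.card_congr (subgroupOfEquivOfLe hEQ).toEquiv,
      Nat.card_congr (subgroupOfEquivOfLe hEC).toEquiv, hE] at this
  have hcyc : IsCyclic (Q ⧸ center Q) := by
    have h := card_eq_card_quotient_mul_card_subgroup (center Q)
    rw [hQ] at h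
    have h2 : Nat.card (Q ⧸ center Q) ≤ 2 := by nlinarith
    rcases Nat.lt_or_ge (Nat.card (Q ⧸ center Q)) 2 with h1 | h1
    · have : Subsingleton (Q ⧸ center Q) :=
        (Nat.card_eq_one_iff_unique.1 (by have := Nat.card_pos (α := Q ⧸ center Q); omega)).1
      infer_instance
    · exact isCyclic_of_prime_card (p := 2) (le_antisymm h2 h1)
  have hab := isMulCommutative_of_isCyclic_quotient_center_self Q
  rintro _ ⟨a, ha, rfl⟩ _ ⟨b, hb, rfl⟩
  exact congrArg (fun z : Q => ((z : centralizer (E : Set S)) : S))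
    (hab.is_comm.comm ⟨a, ha⟩ ⟨b, hb⟩)

variable {G : Type u} [Group G] [Finite G] [IsSimpleGroup G]

/-- An involution with centralizer of order prime to 8 excludes a Sylow 2-subgroup of order 16. -/
theorem false_of_small_involution_centralizer (hG : ¬ IsMulCommutative G)
    (h16 : 2 ^ 4 ∣ Nat.card G) (h32 : ¬ 2 ^ (4 + 1) ∣ Nat.card G) {t : G} (ht : orderOf t = 2)
    (h8 : ¬ 8 ∣ Nat.card (centralizer ({t} : Set G))) : False := by
  have : Fact (Nat.Prime 2) := ⟨Nat.prime_two⟩
  obtain ⟨S, hS⟩ := (IsPGroup.of_card (n := 1)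
    (show Nat.card (zpowers t) = 2 ^ 1 by rw [Nat.card_zpowers, ht, pow_one])).exists_le_sylow
  have hSc : Nat.card (S : Subgroup G) = 16 := card_sylow_of_exact S h16 h32
  obtain ⟨Q, hQ, hQab⟩ := exists_abelian_order_eight hSc
  have hQc : Nat.card (Q.map (S : Subgroup G).subtype) = 8 := by
    rw [card_map_of_injective (S : Subgroup G).subtype_injective, hQ]
  have hQi : (Q.map (S : Subgroup G).subtype).relIndex (S : Subgroup G) = 2 := by
    rw [relIndex, subgroupOf, comap_map_eq_self_of_injective (S : Subgroup G).subtype_injective]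
    have := Q.card_mul_index
    rw [hQ, hSc] at this
    omega
  have htt : t ^ 2 = 1 := ht ▸ pow_orderOf_eq_one t
  rcases CfsgLib.Transfer.thompson_transfer_involution S (map_subtype_le Q) hQi htt
      (hS (mem_zpowers t)) with ⟨M, hM, hMi, -⟩ | ⟨g, hg⟩
  · rcases IsSimpleGroup.eq_bot_or_eq_top_of_normal M hM with rfl | rfl
    · rw [index_bot] at hMi
      rw [hMi] at h16
      norm_num at h16
    · rw [index_top] at hMi
      omega
  · refine h8 ?_
    have := Fintype.ofFinite G
    rw [← CfsgLib.Transfer.card_centralizer_conj g t, ← hQc]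
    refine card_dvd_of_le fun x hx => mem_centralizer_singleton_iff.2 ?_
    obtain ⟨a, ha, rfl⟩ := hx
    obtain ⟨b, hb, hb'⟩ := hg
    rw [← hb']
    exact congrArg Subtype.val (hQab a ha b hb)

/-- A Sylow subgroup of order `p` with centralizer of order `2 p` and normalizer of order `4 p`:
some involution has centralizer of order `4 p`. -/
theorem exists_involution_centralizer_four_mul (hG : ¬ IsMulCommutative G) {p n : ℕ} [Fact p.Prime]
    (hp2 : p ≠ 2) (P : Sylow p G) (hP : Nat.card (P : Subgroup G) = p)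
    (hC : Nat.card (centralizer ((P : Subgroup G) : Set G)) = 2 * p)
    (hN : Nat.card (normalizer ((P : Subgroup G) : Set G)) = 4 * p) (hn : Nat.card G = 4 * p * n)
    (hnum : ∀ l i, l ≤ n → i ≤ n → i * l = n → l % p = 1 → (2 * (4 * p * n)) ∣ i ! → l = 1) :
    ∃ t : G, orderOf t = 2 ∧ Nat.card (centralizer ({t} : Set G)) = 4 * p := by
  classical
  have hp := (Fact.out : p.Prime)
  have : Fact (Nat.Prime 2) := ⟨Nat.prime_two⟩
  set C := centralizer ((P : Subgroup G) : Set G)
  set N := normalizer ((P : Subgroup G) : Set G)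
  obtain ⟨t', ht'⟩ := exists_prime_orderOf_dvd_card' (G := C) 2 (by rw [hC]; exact dvd_mul_right 2 p)
  obtain ⟨x, hx⟩ := exists_prime_orderOf_dvd_card' (G := (P : Subgroup G)) p hP.symm.dvd
  have hPC : (P : Subgroup G) ≤ C := by
    have := isCyclic_of_prime_card hP
    exact fun a ha => mem_centralizer_iff.2 fun b hb => congrArg Subtype.val
      ((IsCyclic.commGroup (α := (P : Subgroup G))).mul_comm ⟨b, hb⟩ ⟨a, ha⟩)
  let x' : C := ⟨x, hPC x.2⟩
  have hx' : orderOf x' = p := by
    rw [← Subgroup.orderOf_coe, show ((x' : C) : G) = (x : G) from rfl, Subgroup.orderOf_coe, hx]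
  have hcomm : Commute x' t' := Subtype.ext (mem_centralizer_iff.1 t'.2 x x.2)
  have hcyc : IsCyclic C := isCyclic_of_orderOf_eq_card (x' * t') (by
    rw [hcomm.orderOf_mul_eq_mul_orderOf_of_coprime (by
      rw [hx', ht']; exact (Nat.coprime_primes hp Nat.prime_two).2 hp2), hx', ht', hC, mul_comm])
  have huni : ∀ y : C, orderOf y = 2 → y = t' := by
    intro y hy
    have := Fintype.ofFinite C
    have h1 := hcyc.card_orderOf_eq_totient (α := C) (d := 2) (by
      rw [← Nat.card_eq_fintype_card, hC]; exact dvd_mul_right 2 p)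
    rw [Nat.totient_two] at h1
    exact Finset.card_le_one.1 h1.le y (by simpa using hy) t' (by simpa using ht')
  set t : G := (t' : G)
  have ht : orderOf t = 2 := by rw [Subgroup.orderOf_coe, ht']
  set H := centralizer ({t} : Set G)
  have hNH : N ≤ H := by
    intro g hg
    have hmem : g * t * g⁻¹ ∈ C := mem_centralizer_iff.2 fun y hy => by
      have h := mem_centralizer_iff.1 t'.2 (g⁻¹ * y * g) (by
        have := (mem_normalizer_iff.1 (inv_mem hg) y).1 hy
        rwa [inv_inv] at this)
      calc y * (g * t * g⁻¹) = g * (g⁻¹ * y * g * t) * g⁻¹ := by group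
        _ = g * (t * (g⁻¹ * y * g)) * g⁻¹ := by rw [h]
        _ = g * t * g⁻¹ * y := by group
    have h2 : orderOf (⟨_, hmem⟩ : C) = 2 := by
      rw [← Subgroup.orderOf_coe, show (((⟨_, hmem⟩ : C) : G)) = MulAut.conj g t from rfl,
        MulEquiv.orderOf_eq, ht]
    exact mem_centralizer_singleton_iff.2
      (mul_inv_eq_iff_eq_mul.1 (congrArg Subtype.val (huni _ h2)))
  refine ⟨t, ht, ?_⟩
  have hPH : (P : Subgroup G) ≤ H := le_normalizer.trans hNH
  have hNc : normalizer (((P.subtype hPH : Sylow p H) : Subgroup H) : Set H) = N.subgroupOf H := by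
    rw [show ((P.subtype hPH : Sylow p H) : Subgroup H) = (P : Subgroup G).subgroupOf H from rfl,
      ← subgroupOf_normalizer_eq hPH]
  have h1 := card_sylow_modEq_one p H
  rw [show Nat.card (Sylow p H) = (N.subgroupOf H).index from
    (P.subtype hPH).card_eq_index_normalizer.trans (congrArg Subgroup.index hNc), Nat.ModEq,
    Nat.mod_eq_of_lt hp.one_lt] at h1
  have h2 := (N.subgroupOf H).index_mul_card
  rw [Nat.card_congr (subgroupOfEquivOfLe hNH).toEquiv, hN] at h2
  have ht1 : t ≠ 1 := fun h => by rw [h, orderOf_one] at ht; omega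
  have h3 := H.index_mul_card
  have hi := CfsgLib.Transfer.two_mul_card_dvd_factorial hG
    (CfsgLib.Transfer.centralizer_singleton_ne_top hG ht1 : H ≠ ⊤)
  rw [hn] at h3 hi
  rw [← h2] at h3
  set l := (N.subgroupOf H).index
  have hil : H.index * l = n := by
    refine Nat.eq_of_mul_eq_mul_right (Nat.mul_pos (by norm_num : 0 < 4) hp.pos) ?_
    rw [mul_assoc, h3, mul_comm n]
  have hnpos : 0 < n := Nat.pos_of_ne_zero fun h => Nat.card_pos.ne' (hn.trans (by rw [h, mul_zero]))
  have hl := hnum l H.index (Nat.le_of_dvd hnpos (Dvd.intro_left _ hil))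
    (Nat.le_of_dvd hnpos (Dvd.intro _ hil)) hil h1 hi
  rw [← h2, hl, one_mul]

/-- `N(P) = 30`, `C(P) = 15` with 36 Sylow 5-subgroups is impossible in order 1080. -/
theorem card_ne_1080 (hG : ¬ IsMulCommutative G) : Nat.card G ≠ 1080 := by
  intro hc
  have : Fact (Nat.Prime 5) := ⟨by norm_num⟩
  have : Fact (Nat.Prime 3) := ⟨Nat.prime_three⟩
  have hm := List.mem_singleton.1 (sylow_count_mem (p := 5) (a := 1) hG hc one_pos (by norm_num)
    (by norm_num) [36] (by decide +kernel))
  obtain ⟨P, n, e, C, hP, hn, -, -, -, hC, hN, ⟨c, rfl⟩, he, he1, hnN, -, -⟩ :=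
    CfsgLib.Transfer.prime_sylow_data (p := 5) hG (by rw [hc]; norm_num) (by rw [hc]; norm_num)
  rw [hn, hm, hc] at hnN
  obtain ⟨rfl, rfl⟩ : e = 2 ∧ c = 3 := by
    have h6 : e * c = 6 := by
      rw [show 36 * (e * (5 * c)) = 180 * (e * c) by ring] at hnN
      omega
    have := Nat.le_of_dvd (by norm_num) he
    interval_cases e <;> omega
  set Cp := centralizer ((P : Subgroup G) : Set G)
  set N := normalizer ((P : Subgroup G) : Set G)
  obtain ⟨Y⟩ := (inferInstance : Nonempty (Sylow 3 Cp))
  have hY : Nat.card (Y : Subgroup Cp) = 3 := by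
    have h := Y.card_eq_multiplicity
    rw [← hC] at h
    rw [h, show (5 * 3 : ℕ) = 3 * 5 from rfl, Nat.factorization_mul (by norm_num) (by norm_num),
      Finsupp.add_apply, Nat.Prime.factorization_self Nat.prime_three,
      Nat.factorization_eq_zero_of_not_dvd (show ¬ 3 ∣ 5 by norm_num), add_zero, pow_one]
  -- a group of order 15 has one subgroup of order 3
  have hone : Nat.card (Sylow 3 Cp) = 1 := by
    have h1 := card_sylow_modEq_one 3 Cp
    have h2 := Y.card_dvd_index
    have h3 := (Y : Subgroup Cp).card_mul_index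
    rw [hY, ← hC] at h3
    rw [show (Y : Subgroup Cp).index = 5 by omega, Nat.dvd_prime (by norm_num)] at h2
    rcases h2 with h2 | h2
    · exact h2
    · rw [h2] at h1; exact absurd h1 (by decide)
  set Y' := (Y : Subgroup Cp).map Cp.subtype
  have hY' : Nat.card Y' = 3 := by rw [card_map_of_injective Cp.subtype_injective, hY]
  have hCN : Cp ≤ N := fun g hg => mem_normalizer_fintype fun y hy => by
    rw [← mem_centralizer_iff.1 hg y hy, mul_inv_cancel_right]
    exact hy
  set H := normalizer (Y' : Set G)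
  have hNH : N ≤ H := by
    intro g hg
    refine mem_normalizer_fintype fun y hy => ?_
    obtain ⟨y', hy', rfl⟩ := hy
    have hmem : g * (y' : G) * g⁻¹ ∈ Cp := mem_centralizer_iff.2 fun z hz => by
      have h := mem_centralizer_iff.1 y'.2 (g⁻¹ * z * g) (by
        have := (mem_normalizer_iff.1 (inv_mem hg) z).1 hz
        rwa [inv_inv] at this)
      calc z * (g * (y' : G) * g⁻¹) = g * (g⁻¹ * z * g * (y' : G)) * g⁻¹ := by group
        _ = g * ((y' : G) * (g⁻¹ * z * g)) * g⁻¹ := by rw [h]
        _ = g * (y' : G) * g⁻¹ * z := by group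
    have ho : orderOf (⟨_, hmem⟩ : Cp) ∣ 3 := by
      rw [← Subgroup.orderOf_coe, show (((⟨_, hmem⟩ : Cp) : G)) = MulAut.conj g (y' : G) from rfl,
        MulEquiv.orderOf_eq, Subgroup.orderOf_coe, ← hY]
      exact Subgroup.orderOf_dvd_natCard _ hy'
    obtain ⟨R, hR⟩ := (show IsPGroup 3 (zpowers (⟨_, hmem⟩ : Cp)) from by
      rcases (Nat.dvd_prime Nat.prime_three).1 ho with h | h
      · exact IsPGroup.of_card (n := 0) (by rw [Nat.card_zpowers, h, pow_zero])
      · exact IsPGroup.of_card (n := 1) (by rw [Nat.card_zpowers, h, pow_one])).exists_le_sylow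
    have := (Nat.card_eq_one_iff_unique.1 hone).1
    exact ⟨⟨_, hmem⟩, Subsingleton.elim R Y ▸ hR (mem_zpowers _), rfl⟩
  have hHtop : H ≠ ⊤ := by
    intro ht
    rcases IsSimpleGroup.eq_bot_or_eq_top_of_normal Y' (normalizer_eq_top_iff.1 ht) with h | h <;>
      rw [h] at hY'
    · rw [card_bot] at hY'; omega
    · rw [card_top, hc] at hY'; omega
  have hPH : (P : Subgroup G) ≤ H := le_normalizer.trans hNH
  have hNc : normalizer (((P.subtype hPH : Sylow 5 H) : Subgroup H) : Set H) = N.subgroupOf H := by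
    rw [show ((P.subtype hPH : Sylow 5 H) : Subgroup H) = (P : Subgroup G).subgroupOf H from rfl,
      ← subgroupOf_normalizer_eq hPH]
  have h1 := card_sylow_modEq_one 5 H
  rw [show Nat.card (Sylow 5 H) = (N.subgroupOf H).index from
    (P.subtype hPH).card_eq_index_normalizer.trans (congrArg Subgroup.index hNc), Nat.ModEq] at h1
  have h2 := (N.subgroupOf H).index_mul_card
  rw [Nat.card_congr (subgroupOfEquivOfLe hNH).toEquiv, hN] at h2
  have h3 := H.index_mul_card
  have hi := CfsgLib.Transfer.two_mul_card_dvd_factorial hG hHtop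
  rw [hc] at h3 hi
  -- but the Sylow 3-subgroup above `Y'` normalizes it in order at least 9
  have h9 : 9 ∣ Nat.card H := by
    obtain ⟨K, hK⟩ := Sylow.exists_subgroup_card_pow_prime_le (p := 3) (n := 1) (m := 2) (H := Y')
      (show 3 ^ 2 ∣ Nat.card G by rw [hc]; norm_num) (by rw [hY', pow_one]) (by norm_num)
    have hab : IsMulCommutative K := IsPGroup.isMulCommutative_of_card_eq_prime_sq (p := 3) hK.1
    have hle : K ≤ H := fun g hg => mem_normalizer_fintype fun y hy => by
      have : g * y = y * g := congrArg Subtype.val (hab.is_comm.comm ⟨g, hg⟩ ⟨y, hK.2 hy⟩)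
      rw [this, mul_inv_cancel_right]; exact hy
    have := card_dvd_of_le hle
    rwa [hK.1] at this
  rw [← h2] at h3 h9
  obtain ⟨l, hl⟩ : ∃ l, (N.subgroupOf H).index = l := ⟨_, rfl⟩
  rw [hl] at h3 h9 h1
  have hl36 : l ≤ 36 := by
    have : 1 ≤ H.index := Nat.pos_of_ne_zero Subgroup.FiniteIndex.index_ne_zero
    nlinarith
  have hl' : l ∈ ({6, 21, 36} : Finset ℕ) := by
    have h9' : 3 ∣ l := by omega
    simp only [Finset.mem_insert, Finset.mem_singleton]
    omega
  simp only [Finset.mem_insert, Finset.mem_singleton] at hl'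
  rcases hl' with rfl | rfl | rfl
  · rw [show H.index = 6 by omega] at hi; revert hi; decide
  · omega
  · rw [show H.index = 1 by omega] at hi; revert hi; decide

theorem card_ne_1008 (hG : ¬ IsMulCommutative G) : Nat.card G ≠ 1008 := by
  intro hc
  have : Fact (Nat.Prime 7) := ⟨by norm_num⟩
  have hm := List.mem_singleton.1 (sylow_count_mem (p := 7) (a := 1) hG hc one_pos (by norm_num)
    (by norm_num) [36] (by decide +kernel))
  obtain ⟨P, n, e, C, hP, hn, -, -, -, hC, hN, ⟨c, rfl⟩, he, he1, hnN, -, -⟩ :=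
    CfsgLib.Transfer.prime_sylow_data (p := 7) hG (by rw [hc]; norm_num) (by rw [hc]; norm_num)
  rw [hn, hm, hc] at hnN
  obtain ⟨rfl, rfl⟩ : e = 2 ∧ c = 2 := by
    have h4 : e * c = 4 := by
      rw [show 36 * (e * (7 * c)) = 252 * (e * c) by ring] at hnN
      omega
    have := Nat.le_of_dvd (by norm_num) he
    interval_cases e <;> omega
  obtain ⟨t, ht, htc⟩ := exists_involution_centralizer_four_mul hG (p := 7) (n := 36) (by norm_num)
    P hP hC.symm hN (hc.trans (by norm_num)) (fun l i _ hi hil hl hfac => by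
      interval_cases i <;> first | omega | exact absurd hfac (by decide))
  exact false_of_small_involution_centralizer hG (by rw [hc]; norm_num) (by rw [hc]; norm_num) ht
    (by rw [htc]; norm_num)

/-- In order 720 the Sylow 5-subgroups are self-centralizing with normalizer of order 20. -/
theorem data_720 (hG : ¬ IsMulCommutative G) (hc : Nat.card G = 720) :
    ∃ P : Subgroup G, Nat.card P = 5 ∧ Nat.card (normalizer (P : Set G)) = 20 ∧
      Nat.card (centralizer (P : Set G)) = 5 := by
  have : Fact (Nat.Prime 5) := ⟨by norm_num⟩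
  have hm := List.mem_singleton.1 (sylow_count_mem (p := 5) (a := 1) hG hc one_pos (by norm_num)
    (by norm_num) [36] (by decide +kernel))
  obtain ⟨P, n, e, C, hP, hn, -, -, -, hC, hN, ⟨c, rfl⟩, he, he1, hnN, -, -⟩ :=
    CfsgLib.Transfer.prime_sylow_data (p := 5) hG (by rw [hc]; norm_num) (by rw [hc]; norm_num)
  rw [hn, hm, hc] at hnN
  have h4 : e * c = 4 := by
    rw [show 36 * (e * (5 * c)) = 180 * (e * c) by ring] at hnN
    omega
  have hle := Nat.le_of_dvd (by norm_num) he
  obtain ⟨rfl, rfl⟩ | ⟨rfl, rfl⟩ : (e = 2 ∧ c = 2) ∨ (e = 4 ∧ c = 1) := by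
    interval_cases e <;> omega
  · exfalso
    obtain ⟨t, ht, htc⟩ := exists_involution_centralizer_four_mul hG (p := 5) (n := 36) (by norm_num)
      P hP hC.symm hN (hc.trans (by norm_num)) (fun l i _ hi hil hl hfac => by
        interval_cases i <;> first | omega | exact absurd hfac (by decide))
    exact false_of_small_involution_centralizer hG (by rw [hc]; norm_num) (by rw [hc]; norm_num) ht
      (by rw [htc]; norm_num)
  · exact ⟨P, hP, by rw [hN], hC.symm⟩

end CfsgLib.ClassK
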