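import Cfsg.Agent.Lib.ClassK.SmallSimple

/-!
# Uniqueness of the simple groups of order 2448, 3420, 6072
-/

set_option autoImplicit false

namespace CfsgLib.ClassK

open Subgroup

/-- Generators of the squares of `ZMod p`, as multiplications. -/
def mulGen17 : ZMod 17 ≃+ ZMod 17 := AddAut.mulLeft (⟨9, 2, rfl, rfl⟩ : (ZMod 17)ˣ)
@[inherit_doc mulGen17]
def mulGen19 : ZMod 19 ≃+ ZMod 19 := AddAut.mulLeft (⟨4, 5, rfl, rfl⟩ : (ZMod 19)ˣ)
@[inherit_doc mulGen17]
def mulGen23 : ZMod 23 ≃+ ZMod 23 := AddAut.mulLeft (⟨2, 12, rfl, rfl⟩ : (ZMod 23)ˣ)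

local instance : Fact (Nat.Prime 17) := ⟨by norm_num⟩
local instance : Fact (Nat.Prime 19) := ⟨by norm_num⟩
local instance : Fact (Nat.Prime 23) := ⟨by norm_num⟩

variable {G H : Type*} [Group G] [Finite G] [IsSimpleGroup G] [Group H] [Finite H] [IsSimpleGroup H]

theorem nonempty_equiv_2448 (h : Nat.card G = 2448) (h' : Nat.card H = 2448) :
    Nonempty (G ≃* H) := by
  have hne : ¬ (2448 : ℕ).Prime := by norm_num
  obtain ⟨f, hf, hl⟩ := exists_lineGroup_prime (p := 17) (m := 8)
    (CfsgLib.Transfer.not_isMulCommutative_of_not_prime (h ▸ hne)) h (by norm_num) (by norm_num)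
    (card_sylow_eq_succ (m := 8) h (h ▸ hne) (by decide +kernel)) mulGen17 (by decide +kernel)
  obtain ⟨f', hf', hl'⟩ := exists_lineGroup_prime (p := 17) (m := 8)
    (CfsgLib.Transfer.not_isMulCommutative_of_not_prime (h' ▸ hne)) h' (by norm_num) (by norm_num)
    (card_sylow_eq_succ (m := 8) h' (h' ▸ hne) (by decide +kernel)) mulGen17 (by decide +kernel)
  exact nonempty_mulEquiv_of_lineGroup hf hf' hl hl' (u := 1) (v := 3) one_ne_zero (by decide +kernel)
    (by decide +kernel) (e₀ := 7) (c₀ := 1) (d₀ := 6) (by decide +kernel)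

theorem nonempty_equiv_3420 (h : Nat.card G = 3420) (h' : Nat.card H = 3420) :
    Nonempty (G ≃* H) := by
  have hne : ¬ (3420 : ℕ).Prime := by norm_num
  obtain ⟨f, hf, hl⟩ := exists_lineGroup_prime (p := 19) (m := 9)
    (CfsgLib.Transfer.not_isMulCommutative_of_not_prime (h ▸ hne)) h (by norm_num) (by norm_num)
    (card_sylow_eq_succ (m := 9) h (h ▸ hne) (by decide +kernel)) mulGen19 (by decide +kernel)
  obtain ⟨f', hf', hl'⟩ := exists_lineGroup_prime (p := 19) (m := 9)
    (CfsgLib.Transfer.not_isMulCommutative_of_not_prime (h' ▸ hne)) h' (by norm_num) (by norm_num)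
    (card_sylow_eq_succ (m := 9) h' (h' ▸ hne) (by decide +kernel)) mulGen19 (by decide +kernel)
  exact nonempty_mulEquiv_of_lineGroup hf hf' hl hl' (u := 1) (v := 18) one_ne_zero (by decide +kernel)
    (by decide +kernel) (e₀ := 8) (c₀ := 18) (d₀ := 1) (by decide +kernel)

theorem nonempty_equiv_6072 (h : Nat.card G = 6072) (h' : Nat.card H = 6072) :
    Nonempty (G ≃* H) := by
  have hne : ¬ (6072 : ℕ).Prime := by norm_num
  obtain ⟨f, hf, hl⟩ := exists_lineGroup_prime (p := 23) (m := 11)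
    (CfsgLib.Transfer.not_isMulCommutative_of_not_prime (h ▸ hne)) h (by norm_num) (by norm_num)
    (card_sylow_eq_succ (m := 11) h (h ▸ hne) (by decide +kernel)) mulGen23 (by decide +kernel)
  obtain ⟨f', hf', hl'⟩ := exists_lineGroup_prime (p := 23) (m := 11)
    (CfsgLib.Transfer.not_isMulCommutative_of_not_prime (h' ▸ hne)) h' (by norm_num) (by norm_num)
    (card_sylow_eq_succ (m := 11) h' (h' ▸ hne) (by decide +kernel)) mulGen23 (by decide +kernel)
  exact nonempty_mulEquiv_of_lineGroup hf hf' hl hl' (u := 1) (v := 22) one_ne_zero (by decide +kernel)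
    (by decide +kernel) (e₀ := 10) (c₀ := 22) (d₀ := 1) (by decide +kernel)

end CfsgLib.ClassK
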