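import Cfsg.Agent.Lib.ClassK.IsoClassData

/-!
The numerical bound behind `k(Sp_2n(q)) ≤ 10.8 q ^ n`, `q` odd.
-/

set_option autoImplicit false

namespace CfsgLib.ClassK.SpBound

open Finset CfsgLib.KnownB.ClassNum CfsgLib.ClassK.IsoPoly CfsgLib.ClassK.IsoData

variable {q : ℕ}

/-- The normalised weight of a level. -/
def G (q l a : ℕ) : ℚ := (wgt q (Even l) a : ℚ) / (q : ℚ) ^ ((l + 1) * a / 2)

/-- The bound for the sum over a level. -/
def f (l : ℕ) : ℚ := (if Even l then 1 else (1 + (1 / 3 : ℚ) ^ ((l + 1) / 2)) ^ 4) / (1 - (1 / 3 : ℚ) ^ l)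

theorem wgt_flip (q : ℕ) {l : ℕ} (hl : Even l) (a : ℕ) :
    wgt q (Even l) a = if Even a then q ^ (a / 2) else 0 := by
  rw [wgt, Fintype.sum_eq_single ((0, 0) : Fin 4 × Fin 4) fun d hd => if_neg fun h => hd (h.2.2 hl)]
  have h0 : dv 0 = 0 := rfl
  simp [h0]

theorem G_nonneg (q l a : ℕ) : 0 ≤ G q l a := by unfold G; positivity

theorem sum_G_le (hq : 3 ≤ q) {l : ℕ} (hl : 1 ≤ l) (A : ℕ) :
    ∑ a ∈ range (A + 1), G q l a ≤ f l := by
  have hq0 : (0 : ℚ) < q := by positivity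
  have hx : (1 : ℚ) / q ≤ 1 / 3 := one_div_le_one_div_of_le (by norm_num) (by exact_mod_cast hq)
  have hgeo : ∀ B, ∑ b ∈ range (B + 1), ((1 : ℚ) / q) ^ (l * b) ≤ 1 / (1 - (1 / 3 : ℚ) ^ l) := by
    intro B
    have hy : (1 / 3 : ℚ) ^ l < 1 := pow_lt_one₀ (by norm_num) (by norm_num) (by omega)
    refine le_trans (sum_le_sum (g := fun b => ((1 / 3 : ℚ) ^ l) ^ b) fun b _ => by
      rw [← pow_mul]; exact pow_le_pow_left₀ (by positivity) hx _) ?_
    rw [le_div_iff₀ (by linarith)]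
    have h1 := geom_sum_mul_neg ((1 / 3 : ℚ) ^ l) (B + 1)
    rw [h1]
    have : 0 ≤ ((1 / 3 : ℚ) ^ l) ^ (B + 1) := by positivity
    linarith
  let g : Fin 4 × Fin 4 → ℚ := fun d =>
    if Even l ∧ d ≠ (0, 0) then 0 else ((1 / 3 : ℚ) ^ ((l + 1) / 2)) ^ (dv d.1 + dv d.2)
  have key : ∀ d : Fin 4 × Fin 4,
      ∑ a ∈ range (A + 1), ((if dv d.1 + dv d.2 ≤ a ∧ Even (a - dv d.1 - dv d.2) ∧ (Even l → d = (0, 0))
        then q ^ ((a - dv d.1 - dv d.2) / 2) else 0 : ℕ) : ℚ) / (q : ℚ) ^ ((l + 1) * a / 2) ≤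
        g d * (1 / (1 - (1 / 3 : ℚ) ^ l)) := by
    intro d
    have hden : 0 ≤ 1 / (1 - (1 / 3 : ℚ) ^ l) := le_trans (sum_nonneg fun b _ => by positivity) (hgeo 0)
    by_cases hd : Even l ∧ d ≠ (0, 0)
    · simp only [g, if_pos hd, zero_mul]
      refine le_of_eq (sum_eq_zero fun a _ => ?_)
      rw [if_neg fun h => hd.2 (h.2.2 hd.1), Nat.cast_zero, zero_div]
    simp only [g, if_neg hd]
    set s := dv d.1 + dv d.2 with hs
    calc _ = ∑ a ∈ (range (A + 1)).filter (fun a => s ≤ a ∧ Even (a - dv d.1 - dv d.2) ∧ (Even l → d = (0, 0))),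
          ((q : ℚ) ^ ((a - dv d.1 - dv d.2) / 2) / (q : ℚ) ^ ((l + 1) * a / 2)) := by
          rw [sum_filter]
          refine sum_congr rfl fun a _ => ?_
          split_ifs <;> simp
      _ ≤ ∑ a ∈ (range (A + 1)).image (fun b => s + 2 * b),
          ((q : ℚ) ^ ((a - dv d.1 - dv d.2) / 2) / (q : ℚ) ^ ((l + 1) * a / 2)) := by
          refine sum_le_sum_of_subset_of_nonneg (fun a ha => ?_) fun a _ _ => by positivity
          rw [mem_filter, mem_range] at ha
          obtain ⟨b, hb⟩ := ha.2.2.1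
          exact mem_image.2 ⟨b, mem_range.2 (by omega), by omega⟩
      _ = ∑ b ∈ range (A + 1), ((1 : ℚ) / q) ^ ((l + 1) * s / 2) * ((1 : ℚ) / q) ^ (l * b) := by
          rw [sum_image (fun b _ b' _ e => by omega)]
          refine sum_congr rfl fun b _ => ?_
          rw [show (s + 2 * b - dv d.1 - dv d.2) / 2 = b by omega,
            show (l + 1) * (s + 2 * b) / 2 = (l + 1) * s / 2 + (l * b + b) by
              rw [mul_add, show (l + 1) * (2 * b) = (l * b + b) * 2 by ring, Nat.add_mul_div_right _ _ (by norm_num)],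
            div_pow, div_pow, one_pow, one_pow, pow_add, pow_add]
          field_simp
      _ ≤ _ := by
          rw [← mul_sum]
          refine mul_le_mul ?_ (hgeo A) (sum_nonneg fun b _ => by positivity) (by positivity)
          have he : (l + 1) * s / 2 = (l + 1) / 2 * s := by
            rcases Nat.even_or_odd l with h | h
            · have : d = (0, 0) := by_contra fun e => hd ⟨h, e⟩
              simp [hs, this, dv]
            · obtain ⟨j, rfl⟩ := h
              rw [show 2 * j + 1 + 1 = (j + 1) * 2 by ring, Nat.mul_div_cancel _ (by norm_num),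
                mul_right_comm, Nat.mul_div_cancel _ (by norm_num)]
          rw [he, ← pow_mul]
          exact pow_le_pow_left₀ (by positivity) hx _
  calc ∑ a ∈ range (A + 1), G q l a
      = ∑ d : Fin 4 × Fin 4, ∑ a ∈ range (A + 1),
          ((if dv d.1 + dv d.2 ≤ a ∧ Even (a - dv d.1 - dv d.2) ∧ (Even l → d = (0, 0))
            then q ^ ((a - dv d.1 - dv d.2) / 2) else 0 : ℕ) : ℚ) / (q : ℚ) ^ ((l + 1) * a / 2) := by
        rw [sum_comm]
        refine sum_congr rfl fun a _ => ?_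
        rw [G, wgt, Nat.cast_sum, sum_div]
    _ ≤ ∑ d, g d * (1 / (1 - (1 / 3 : ℚ) ^ l)) := sum_le_sum fun d _ => key d
    _ = f l := by
        rw [← sum_mul, f, div_eq_mul_one_div (ite _ _ _)]
        congr 1
        generalize hy : (1 / 3 : ℚ) ^ ((l + 1) / 2) = y
        by_cases h : Even l
        · rw [if_pos h, Fintype.sum_eq_single ((0, 0) : Fin 4 × Fin 4) fun d hd => if_pos ⟨h, hd⟩]
          simp [g, dv]
        · rw [if_neg h]
          simp only [g, hy, h, false_and, if_false, pow_add]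
          rw [Fintype.sum_prod_type]
          simp only [Fin.sum_univ_four]
          simp [dv]
          ring

/-- The infinite product stays below `10.8`. -/
theorem prod_f_le (m : ℕ) : ∏ j ∈ range (2 * (m + 6)), f (j + 1) ≤ 54 / 5 * (1 - 3 * (1 / 3 : ℚ) ^ (m + 6)) := by
  induction m with
  | zero => norm_num [prod_range_succ, f, Nat.even_iff]
  | succ m ih =>
    set k := m + 6 with hk
    rw [show 2 * (m + 1 + 6) = 2 * k + 1 + 1 by omega, prod_range_succ, prod_range_succ,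
      show m + 1 + 6 = k + 1 by omega]
    have h1 : f (2 * k + 1) = (1 + (1 / 3 : ℚ) ^ (k + 1)) ^ 4 / (1 - 3 * ((1 / 3 : ℚ) ^ (k + 1)) ^ 2) := by
      rw [f, if_neg (Nat.not_even_iff_odd.2 ⟨k, rfl⟩), show (2 * k + 1 + 1) / 2 = k + 1 by omega]
      congr 2
      rw [← pow_mul, show (k + 1) * 2 = 2 * k + 1 + 1 by omega, pow_succ _ (2 * k + 1)]
      ring
    have h2 : f (2 * k + 1 + 1) = 1 / (1 - ((1 / 3 : ℚ) ^ (k + 1)) ^ 2) := by
      rw [f, if_pos ⟨k + 1, by omega⟩, ← pow_mul, show (k + 1) * 2 = 2 * k + 1 + 1 by omega]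
    have h3 : (1 / 3 : ℚ) ^ k = 3 * (1 / 3 : ℚ) ^ (k + 1) := by rw [pow_succ]; ring
    have hz : (1 / 3 : ℚ) ^ (k + 1) ≤ 1 / 2187 := le_of_le_of_eq
      (pow_le_pow_of_le_one (by norm_num) (by norm_num) (show 7 ≤ k + 1 by omega)) (by norm_num)
    have hz0 : 0 ≤ (1 / 3 : ℚ) ^ (k + 1) := by positivity
    rw [h1, h2]
    rw [h3] at ih
    generalize (1 / 3 : ℚ) ^ (k + 1) = z at *
    have d1 : 0 < 1 - 3 * z ^ 2 := by nlinarith
    have d2 : 0 < 1 - z ^ 2 := by nlinarith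
    refine (mul_le_mul_of_nonneg_right (mul_le_mul_of_nonneg_right ih (by positivity)) (by positivity)).trans ?_
    rw [mul_assoc, mul_assoc, mul_one_div, div_div]
    refine mul_le_mul_of_nonneg_left ?_ (by norm_num)
    rw [← mul_div_assoc, div_le_iff₀ (by positivity)]
    nlinarith [mul_nonneg hz0 hz0, mul_nonneg (mul_nonneg hz0 hz0) hz0]

theorem one_le_f {l : ℕ} (hl : 1 ≤ l) : 1 ≤ f l := by
  have hy : (1 / 3 : ℚ) ^ l < 1 := pow_lt_one₀ (by norm_num) (by norm_num) (by omega)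
  have hy0 : 0 ≤ (1 / 3 : ℚ) ^ l := by positivity
  rw [f, le_div_iff₀ (by linarith), one_mul]
  split_ifs
  · linarith
  · have : (1 : ℚ) ≤ (1 + (1 / 3 : ℚ) ^ ((l + 1) / 2)) ^ 4 :=
      one_le_pow₀ (le_add_of_nonneg_right (by positivity))
    linarith

theorem prod_f_le_const (M : ℕ) : ∏ j ∈ range M, f (j + 1) ≤ 54 / 5 := by
  calc ∏ j ∈ range M, f (j + 1) ≤ ∏ j ∈ range (2 * (M + 6)), f (j + 1) :=
        prod_le_prod_of_subset_of_one_le (range_subset_range.2 (by omega))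
          (fun j _ => le_trans zero_le_one (one_le_f (by omega))) fun j _ _ => one_le_f (by omega)
    _ ≤ 54 / 5 * (1 - 3 * (1 / 3 : ℚ) ^ (M + 6)) := prod_f_le M
    _ ≤ 54 / 5 := by
        refine mul_le_of_le_one_right (by norm_num) ?_
        have : 0 ≤ (1 / 3 : ℚ) ^ (M + 6) := by positivity
        linarith

/-- `Σ_a Π_l wgt ≤ 10.8 q ^ n`. -/
theorem sum_wgt_le (hq : 3 ≤ q) (n N : ℕ) (hn : 1 ≤ n) (hN : N = n + n) :
    5 * ∑ a ∈ comps 1 N N, ∏ l : Fin N, wgt q (Even (l : ℕ)) (a l) ≤ 54 * q ^ n := by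
  obtain ⟨m, rfl⟩ : ∃ m, N = m + 1 := ⟨N - 1, by omega⟩
  set S := comps 1 (m + 1) (m + 1)
  have hq0 : (q : ℚ) ≠ 0 := by positivity
  have hstep : ∀ a ∈ S, ((∏ l : Fin (m + 1), wgt q (Even (l : ℕ)) (a l) : ℕ) : ℚ) ≤
      (q : ℚ) ^ n * ∏ i : Fin m, G q ((i : ℕ) + 1) (a i.succ) := by
    intro a ha
    by_cases h0 : ∏ l : Fin (m + 1), wgt q (Even (l : ℕ)) (a l) = 0
    · rw [h0, Nat.cast_zero]
      exact mul_nonneg (by positivity) (prod_nonneg fun i _ => G_nonneg _ _ _)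
    have heven : ∀ l : Fin (m + 1), Even (((l : ℕ) + 1) * a l) := by
      intro l
      rcases Nat.even_or_odd (l : ℕ) with h | h
      · have h1 := prod_ne_zero_iff.1 h0 l (mem_univ l)
        rw [wgt_flip q h] at h1
        exact ((of_not_not fun hne => h1 (if_neg hne) : Even (a l))).mul_left _
      · exact (h.add_one).mul_right _
    have hsum : ∑ l : Fin (m + 1), ((l : ℕ) + 1) * a l / 2 = n := by
      have h1 : ∑ l : Fin (m + 1), 2 * (((l : ℕ) + 1) * a l / 2) = ∑ l : Fin (m + 1), (1 + (l : ℕ)) * a l :=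
        sum_congr rfl fun l _ => by rw [Nat.mul_div_cancel' (heven l).two_dvd, add_comm 1]
      rw [← mul_sum, (mem_comps le_rfl).1 ha] at h1
      omega
    have e : ((∏ l : Fin (m + 1), wgt q (Even (l : ℕ)) (a l) : ℕ) : ℚ) =
        (q : ℚ) ^ n * ∏ l : Fin (m + 1), G q (l : ℕ) (a l) := by
      rw [Nat.cast_prod]
      simp only [G]
      rw [prod_div_distrib, prod_pow_eq_pow_sum, hsum, mul_div_cancel₀ _ (pow_ne_zero n hq0)]
    rw [e, Fin.prod_univ_succ]
    refine mul_le_mul_of_nonneg_left (mul_le_of_le_one_left (prod_nonneg fun i _ => G_nonneg _ _ _) ?_) (by positivity)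
    rw [G, Fin.val_zero, wgt_flip q (by decide : Even 0)]
    split_ifs with h
    · rw [Nat.cast_pow, zero_add, one_mul, div_self (pow_ne_zero _ hq0)]
    · simp
  have hinj : Set.InjOn (fun (a : Fin (m + 1) → ℕ) (i : Fin m) => a i.succ) ↑S := by
    intro a ha b hb e
    have h1 := (mem_comps le_rfl).1 (mem_coe.1 ha)
    have h2 := (mem_comps le_rfl).1 (mem_coe.1 hb)
    rw [Fin.sum_univ_succ] at h1 h2
    have e' : ∀ i : Fin m, a i.succ = b i.succ := congrFun e
    simp only [e', Fin.val_zero, add_zero, one_mul] at h1 h2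
    exact funext fun l => Fin.cases (show a 0 = b 0 by omega) e' l
  have htot : (((5 * ∑ a ∈ S, ∏ l : Fin (m + 1), wgt q (Even (l : ℕ)) (a l)) : ℕ) : ℚ) ≤ ((54 * q ^ n : ℕ) : ℚ) := by
    push_cast
    have h1 : ∑ a ∈ S, ((∏ l : Fin (m + 1), wgt q (Even (l : ℕ)) (a l) : ℕ) : ℚ) ≤ (q : ℚ) ^ n * (54 / 5) := by
      refine (sum_le_sum hstep).trans ?_
      rw [← mul_sum]
      refine mul_le_mul_of_nonneg_left ?_ (by positivity)
      rw [← sum_image (f := fun b : Fin m → ℕ => ∏ i : Fin m, G q ((i : ℕ) + 1) (b i)) hinj]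
      refine (sum_le_sum_of_subset_of_nonneg (t := Fintype.piFinset fun _ => range (m + 1 + 1)) (fun b hb => ?_)
        fun b _ _ => prod_nonneg fun i _ => G_nonneg _ _ _).trans ?_
      · obtain ⟨a, ha, rfl⟩ := mem_image.1 hb
        exact Fintype.mem_piFinset.2 fun i => Fintype.mem_piFinset.1 (mem_filter.1 ha).1 i.succ
      · rw [← prod_univ_sum]
        refine le_trans (prod_le_prod (fun i _ => sum_nonneg fun a _ => G_nonneg _ _ _)
          fun i _ => sum_G_le hq (by omega) (m + 1)) ?_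
        rw [Fin.prod_univ_eq_prod_range (fun j => f (j + 1)) m]
        exact prod_f_le_const m
    push_cast at h1
    linarith
  exact_mod_cast htot

end CfsgLib.ClassK.SpBound
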