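import Cfsg.Agent.Lib.StructB.FrobSubgroupCount
import Cfsg.Agent.Lib.StructC.BurnsideBasis
import Cfsg.Agent.Lib.StructC.QuatPair
import Cfsg.Agent.S3975
import Mathlib.GroupTheory.FiniteAbelian.Duality
import Mathlib.RingTheory.RootsOfUnity.Complex
import Mathlib.Analysis.Complex.Polynomial.Basic
import Mathlib.Data.Nat.ModEq

/-!
Hall's enumeration principle modulo `p²` for subgroups of given order in a `p`-group.
-/

set_option autoImplicit false

namespace CfsgLib.ClassK.SubCount

open Subgroup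
open scoped commutatorElement

universe u

theorem modEq_of_eq {n a b : ℕ} (h : a = b) : a ≡ b [MOD n] := h ▸ Nat.ModEq.refl a

variable {p : ℕ} [hp : Fact p.Prime]

/-- Number of subgroups of order `p ^ k`. -/
noncomputable def num (p k : ℕ) (G : Type u) [Group G] : ℕ :=
  Nat.card {H : Subgroup G // Nat.card H = p ^ k}

/-- Number of subgroups of order `p ^ k` inside `M` counted in `G`. -/
theorem num_subgroup {G : Type u} [Group G] (k : ℕ) (M : Subgroup G) :
    Nat.card {H : Subgroup G // Nat.card H = p ^ k ∧ H ≤ M} = num p k M :=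
  Nat.card_congr
    { toFun := fun H => ⟨H.1.subgroupOf M,
        (Nat.card_congr (subgroupOfEquivOfLe H.2.2).toEquiv).trans H.2.1⟩
      invFun := fun H => ⟨H.1.map M.subtype,
        (card_map_of_injective M.subtype_injective).trans H.2, map_subtype_le _⟩
      left_inv := fun H => Subtype.ext (map_subgroupOf_eq_of_le H.2.2)
      right_inv := fun H => Subtype.ext (comap_map_eq_self_of_injective M.subtype_injective H.1) }

variable {G : Type u} [Group G] [Finite G] (hG : IsPGroup p G)

include hG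

omit hG in
theorem isCoatom_of_index {M : Subgroup G} (h : M.index = p) : IsCoatom M := by
  refine ⟨fun e => hp.out.ne_one (by rw [← h, e, index_top]), fun K hK => ?_⟩
  have h1 := relIndex_mul_index hK.le
  rw [h] at h1
  rcases (Nat.dvd_prime hp.out).mp (Dvd.intro_left _ h1) with h2 | h2
  · exact index_eq_one.mp h2
  · rw [h2, Nat.mul_eq_right hp.out.ne_zero] at h1
    exact absurd (relIndex_eq_one.mp h1) hK.not_ge

theorem index_of_isCoatom {M : Subgroup G} (h : IsCoatom M) : M.index = p :=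
  Nat.eq_of_mul_eq_mul_left (Nat.card_pos (α := M))
    (by rw [card_mul_index, (StructC.coatom_card_mul hG h).2])

theorem frattini_le_of_index {M : Subgroup G} (h : M.index = p) : frattini G ≤ M :=
  frattini_le_coatom (isCoatom_of_index h)

/-- The Frattini quotient is not cyclic unless the group is. -/
theorem sq_le_index_frattini (hnc : ¬ IsCyclic G) : p ^ 2 ≤ (frattini G).index := by
  obtain ⟨d, hd⟩ : ∃ d, (frattini G).index = p ^ d := by
    have := (hG.to_quotient (frattini G)).exists_card_eq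
    rwa [← index_eq_card] at this
  rw [hd]
  refine Nat.pow_le_pow_right hp.out.pos ?_
  by_contra hlt
  refine hnc ?_
  rcases Nat.lt_succ_iff.mp (not_le.mp hlt) |>.eq_or_lt with rfl | h0
  · rw [pow_one] at hd
    obtain ⟨x, hx⟩ : ∃ x, x ∉ frattini G := by
      by_contra h
      simp only [not_exists, not_not] at h
      rw [index_eq_one.mpr (eq_top_iff.mpr fun x _ => h x)] at hd
      exact hp.out.ne_one hd.symm
    have htop : zpowers x = ⊤ := frattini_nongenerating ((isCoatom_of_index hd).2 _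
      (lt_of_le_of_ne le_sup_right fun e => hx (e ▸ mem_sup_left (mem_zpowers x))))
    exact isCyclic_iff_exists_zpowers_eq_top.mpr ⟨x, htop⟩
  · have h0' : d = 0 := by omega
    subst h0'
    rw [pow_zero, index_eq_one] at hd
    have : (⊥ : Subgroup G) = ⊤ := frattini_nongenerating (by rw [hd, sup_top_eq])
    haveI : Subsingleton G := Subgroup.subsingleton_iff.mp (subsingleton_of_bot_eq_top this)
    infer_instance

omit hG in
/-- Subgroups of index `m` over a normal subgroup correspond to those of the quotient. -/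
theorem card_index_over (J : Subgroup G) [J.Normal] (m : ℕ) :
    Nat.card {M : Subgroup G // M.index = m ∧ J ≤ M} =
      Nat.card {M : Subgroup (G ⧸ J) // M.index = m} :=
  Nat.card_congr
    { toFun := fun M => ⟨M.1.map (QuotientGroup.mk' J),
        (index_map_eq M.1 (QuotientGroup.mk'_surjective J)
          (by rw [QuotientGroup.ker_mk']; exact M.2.2)).trans M.2.1⟩
      invFun := fun M => ⟨M.1.comap (QuotientGroup.mk' J),
        (index_comap_of_surjective M.1 (QuotientGroup.mk'_surjective J)).trans M.2,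
        fun x hx => by
          show (QuotientGroup.mk' J x) ∈ M.1
          rw [QuotientGroup.mk'_apply, (QuotientGroup.eq_one_iff x).mpr hx]
          exact one_mem _⟩
      left_inv := fun M => Subtype.ext
        (comap_map_eq_self (by rw [QuotientGroup.ker_mk']; exact M.2.2))
      right_inv := fun M => Subtype.ext
        (map_comap_eq_self_of_surjective (QuotientGroup.mk'_surjective J) M.1) }

omit hG in
/-- In an elementary abelian group of order `p ^ c`: `(p - 1) N + 1 = p ^ c`. -/
theorem card_index_prime_elementary {Q : Type u} [CommGroup Q] [Finite Q]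
    (he : ∀ x : Q, x ^ p = 1) :
    Nat.card {M : Subgroup Q // M.index = p} * (p - 1) + 1 = Nat.card Q := by
  classical
  haveI : NeZero (Monoid.exponent Q) := ⟨Monoid.exponent_ne_zero_of_finite⟩
  have hdual : Nat.card (Q →* ℂˣ) = Nat.card Q :=
    CommGroup.card_monoidHom_of_hasEnoughRootsOfUnity Q ℂ
  have hfib : ∀ M : {M : Subgroup Q // M.index = p},
      Nat.card {χ : Q →* ℂˣ // χ ≠ 1 ∧ M.1 ≤ χ.ker} = p - 1 := by
    rintro ⟨M, hM⟩
    haveI : NeZero (Monoid.exponent (Q ⧸ M)) := ⟨Monoid.exponent_ne_zero_of_finite⟩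
    haveI := Fintype.ofFinite ((Q ⧸ M) →* ℂˣ)
    have h1 : Nat.card ((Q ⧸ M) →* ℂˣ) = p := by
      rw [CommGroup.card_monoidHom_of_hasEnoughRootsOfUnity (Q ⧸ M) ℂ, ← index_eq_card, hM]
    have h2 : Nat.card {χ : (Q ⧸ M) →* ℂˣ // χ ≠ 1} = p - 1 := by
      rw [← h1, Nat.card_eq_fintype_card, Fintype.card_subtype_compl, Fintype.card_subtype_eq,
        Nat.card_eq_fintype_card]
    rw [← h2]
    refine Nat.card_congr
      { toFun := fun χ => ⟨QuotientGroup.lift M χ.1 χ.2.2, fun h => χ.2.1 ?_⟩
        invFun := fun χ => ⟨χ.1.comp (QuotientGroup.mk' M), fun h => χ.2 ?_, fun x hx => ?_⟩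
        left_inv := fun χ => Subtype.ext (MonoidHom.ext fun x => rfl)
        right_inv := fun χ => Subtype.ext (MonoidHom.ext fun x => ?_) }
    · refine MonoidHom.ext fun x => ?_
      exact DFunLike.congr_fun h (x : Q ⧸ M)
    · refine MonoidHom.ext fun x => ?_
      obtain ⟨x, rfl⟩ := QuotientGroup.mk_surjective x
      exact DFunLike.congr_fun h x
    · rw [MonoidHom.mem_ker, MonoidHom.comp_apply, QuotientGroup.mk'_apply,
        (QuotientGroup.eq_one_iff x).mpr hx, map_one]
    · obtain ⟨x, rfl⟩ := QuotientGroup.mk_surjective x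
      rfl
  have hker : ∀ χ : Q →* ℂˣ, χ ≠ 1 → χ.ker.index = p := by
    intro χ hχ
    rw [index_ker]
    haveI : Finite χ.range := Finite.of_surjective χ.rangeRestrict χ.rangeRestrict_surjective
    haveI : IsCyclic χ.range := isCyclic_subgroup_units _
    obtain ⟨g, hg⟩ := IsCyclic.exists_generator (α := χ.range)
    have hgp : g ^ p = 1 := by
      obtain ⟨_, x, rfl⟩ := g
      exact Subtype.ext (by simp [← map_pow, he])
    rw [← orderOf_eq_card_of_forall_mem_zpowers hg]
    refine (orderOf_eq_prime_iff.mpr ⟨hgp, fun h1 => hχ (MonoidHom.ext fun x => ?_)⟩)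
    obtain ⟨n, hn⟩ := mem_zpowers_iff.mp (hg ⟨χ x, x, rfl⟩)
    rw [h1, one_zpow] at hn
    exact (congrArg Subtype.val hn).symm
  have e : (Σ M : {M : Subgroup Q // M.index = p}, {χ : Q →* ℂˣ // χ ≠ 1 ∧ M.1 ≤ χ.ker}) ≃
      {χ : Q →* ℂˣ // χ ≠ 1} :=
    { toFun := fun s => ⟨s.2.1, s.2.2.1⟩
      invFun := fun χ => ⟨⟨χ.1.ker, hker χ.1 χ.2⟩, ⟨χ.1, χ.2, le_rfl⟩⟩
      left_inv := by
        rintro ⟨⟨M, hM⟩, ⟨χ, hχ, hMχ⟩⟩
        have heq : χ.ker = M := by
          rcases eq_or_lt_of_le hMχ with h | h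
          · exact h.symm
          · exact absurd ((isCoatom_of_index hM).2 _ h) fun h' =>
              hχ (MonoidHom.ker_eq_top_iff.mp h')
        subst heq
        rfl
      right_inv := fun χ => rfl }
  have h := Nat.card_congr e
  haveI := Fintype.ofFinite {M : Subgroup Q // M.index = p}
  haveI : Finite (Q →* ℂˣ) := Nat.finite_of_card_ne_zero (hdual ▸ Nat.card_pos.ne')
  haveI := Fintype.ofFinite (Q →* ℂˣ)
  rw [Nat.card_sigma] at h
  simp only [hfib, Finset.sum_const, Finset.card_univ, smul_eq_mul] at h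
  rw [Nat.card_eq_fintype_card (α := {χ : Q →* ℂˣ // χ ≠ 1}), Fintype.card_subtype_compl,
    Fintype.card_subtype_eq, ← Nat.card_eq_fintype_card (α := Q →* ℂˣ), hdual] at h
  rw [Nat.card_eq_fintype_card, h]
  have := Nat.card_pos (α := Q)
  omega

/-- The number of subgroups of index `p` over `J` is `1 + p` modulo `p²` unless `[G : J] ≤ p`. -/
theorem card_index_prime_over (J : Subgroup G) [J.Normal] (hJ : frattini G ≤ J)
    (hi : p ^ 2 ∣ J.index) :
    Nat.card {M : Subgroup G // M.index = p ∧ J ≤ M} ≡ 1 + p [MOD p ^ 2] := by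
  rw [card_index_over J p]
  letI : CommGroup (G ⧸ J) :=
    { (inferInstance : Group (G ⧸ J)) with
      mul_comm := fun a b => by
        obtain ⟨a, rfl⟩ := QuotientGroup.mk_surjective a
        obtain ⟨b, rfl⟩ := QuotientGroup.mk_surjective b
        rw [← QuotientGroup.mk_mul, ← QuotientGroup.mk_mul, QuotientGroup.eq]
        have := hJ (StructC.comm_mem_frattini hG b a)
        rwa [show (a * b)⁻¹ * (b * a) = b⁻¹ * a⁻¹ * b * a by group] }
  have h := card_index_prime_elementary (p := p) (Q := G ⧸ J) fun x => by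
    obtain ⟨x, rfl⟩ := QuotientGroup.mk_surjective x
    rw [← QuotientGroup.mk_pow, QuotientGroup.eq_one_iff]
    exact hJ (StructC.pow_mem_frattini hG x)
  rw [← index_eq_card J] at h
  obtain ⟨c, hc⟩ := hi
  set N := Nat.card {M : Subgroup (G ⧸ J) // M.index = p}
  obtain ⟨q, hq⟩ : ∃ q, p = q + 1 := ⟨p - 1, by have := hp.out.pos; omega⟩
  refine (Nat.modEq_iff_dvd).mpr ?_
  rw [hc] at h
  have h' : (N : ℤ) * q + 1 = (p : ℤ) ^ 2 * c := by
    rw [hq, Nat.add_sub_cancel] at h
    rw [hq]
    exact_mod_cast h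
  refine ⟨(c : ℤ) * (1 + p) - N, ?_⟩
  have hq' : (p : ℤ) = q + 1 := by exact_mod_cast hq
  push_cast
  linear_combination (1 + (p : ℤ)) * h' + ((N : ℤ) * (1 + p)) * hq'

theorem card_index_prime (hnc : ¬ IsCyclic G) :
    Nat.card {M : Subgroup G // M.index = p} ≡ 1 + p [MOD p ^ 2] := by
  have hi : p ^ 2 ∣ (frattini G).index := by
    have h := sq_le_index_frattini hG hnc
    obtain ⟨d, hd⟩ : ∃ d, (frattini G).index = p ^ d := by
      have := (hG.to_quotient (frattini G)).exists_card_eq
      rwa [← index_eq_card] at this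
    rw [hd] at h ⊢
    exact pow_dvd_pow p ((Nat.pow_le_pow_iff_right hp.out.one_lt).mp h)
  refine (modEq_of_eq (Nat.card_congr (Equiv.subtypeEquivRight fun M =>
    ⟨fun h => ⟨h, frattini_le_of_index hG h⟩, fun h => h.1⟩))).trans
    (card_index_prime_over hG (frattini G) le_rfl hi)

/-- The number of index `p²` subgroups over `J` is `1` modulo `p` unless `[G : J] ≤ p`. -/
theorem card_index_sq_over (J : Subgroup G) [J.Normal] (hi : p ^ 2 ∣ J.index) :
    Nat.card {K : Subgroup G // K.index = p ^ 2 ∧ J ≤ K} ≡ 1 [MOD p] := by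
  rw [card_index_over J]
  obtain ⟨c, hc⟩ := (hG.to_quotient J).exists_card_eq
  rw [index_eq_card, hc, Nat.pow_dvd_pow_iff_le_right hp.out.one_lt] at hi
  have h := Cfsg.Agent.S3975.result (G := G ⧸ J) p (c - 2) hp.out
    (hc ▸ pow_dvd_pow p (Nat.sub_le c 2))
  refine (modEq_of_eq (Nat.card_congr (Equiv.subtypeEquivRight fun K => ?_))).trans h
  have h1 := card_mul_index K
  rw [hc] at h1
  constructor
  · intro hK
    rw [hK, show p ^ c = p ^ (c - 2) * p ^ 2 by rw [← pow_add, Nat.sub_add_cancel hi]] at h1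
    exact Nat.eq_of_mul_eq_mul_right (pow_pos hp.out.pos 2) h1
  · intro hK
    rw [hK, show p ^ c = p ^ (c - 2) * p ^ 2 by rw [← pow_add, Nat.sub_add_cancel hi]] at h1
    exact Nat.eq_of_mul_eq_mul_left (pow_pos hp.out.pos _) h1

/-- Enumeration principle modulo `p²`. -/
theorem enumeration (hnc : ¬ IsCyclic G) {m k : ℕ} (hm : Nat.card G = p ^ m) (hk : k + 2 ≤ m)
    [Fintype {M : Subgroup G // M.index = p}] :
    ∑ M : {M : Subgroup G // M.index = p}, num p k M.1 ≡ num p k G + p [MOD p ^ 2] := by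
  classical
  haveI := Fintype.ofFinite (Subgroup G)
  set Φ := frattini G
  -- the classes of `H` with `[G : HΦ] ≥ p²`
  let big : Subgroup G → Prop := fun H => p ^ 2 ∣ (H ⊔ Φ).index
  have hsupn : ∀ H : Subgroup G, (H ⊔ Φ).Normal := by
    intro H
    refine ⟨fun x hx g => ?_⟩
    have h1 : g * x * g⁻¹ * x⁻¹ ∈ H ⊔ Φ := by
      refine mem_sup_right ?_
      have := StructC.comm_mem_frattini hG g⁻¹ x⁻¹
      rwa [inv_inv, inv_inv] at this
    have := mul_mem h1 hx
    rwa [inv_mul_cancel_right] at this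
  have hsmall : ∀ H : Subgroup G, Nat.card H = p ^ k → ¬ big H → (H ⊔ Φ).index = p := by
    intro H hH hb
    obtain ⟨c, hc⟩ : ∃ c, (H ⊔ Φ).index = p ^ c := by
      haveI := hsupn H
      have := (hG.to_quotient (H ⊔ Φ)).exists_card_eq
      rwa [← index_eq_card] at this
    simp only [big, hc] at hb
    rcases c with _ | _ | c
    · rw [pow_zero, index_eq_one] at hc
      rw [frattini_nongenerating hc, card_top, hm] at hH
      have := Nat.pow_right_injective hp.out.two_le hH
      omega
    · rw [hc, pow_one]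
    · exact absurd (pow_dvd_pow p (by omega)) hb
  have hover : ∀ (H : Subgroup G) (n : ℕ), (∀ M : Subgroup G, M.index = n → Φ ≤ M) →
      Nat.card {M : Subgroup G // M.index = n ∧ H ≤ M} =
        Nat.card {M : Subgroup G // M.index = n ∧ H ⊔ Φ ≤ M} := fun H n h =>
    Nat.card_congr (Equiv.subtypeEquivRight fun M => ⟨fun hM => ⟨hM.1, sup_le hM.2 (h M hM.1)⟩,
      fun hM => ⟨hM.1, le_sup_left.trans hM.2⟩⟩)
  have hA : ∀ H : Subgroup G, Nat.card H = p ^ k →
      Nat.card {M : Subgroup G // M.index = p ∧ H ≤ M} ≡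
        1 + p * (if big H then 1 else 0) [MOD p ^ 2] := by
    intro H hH
    haveI := hsupn H
    rw [hover H p fun M hM => frattini_le_of_index hG hM]
    by_cases hb : big H
    · rw [if_pos hb, mul_one]
      exact card_index_prime_over hG (H ⊔ Φ) le_sup_right hb
    · rw [if_neg hb, mul_zero, add_zero]
      refine modEq_of_eq (Nat.card_eq_one_iff_exists.mpr
        ⟨⟨H ⊔ Φ, hsmall H hH hb, le_rfl⟩, fun M => Subtype.ext ?_⟩)
      rcases eq_or_lt_of_le M.2.2 with h | h
      · exact h.symm
      · have h2 := (isCoatom_of_index (hsmall H hH hb)).2 _ h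
        have h3 := M.2.1
        rw [h2, index_top] at h3
        exact absurd h3.symm hp.out.ne_one
  have hB : ∀ H : Subgroup G, Nat.card H = p ^ k →
      Nat.card {K : Subgroup G // K.index = p ^ 2 ∧ H ⊔ Φ ≤ K} ≡
        (if big H then 1 else 0) [MOD p] := by
    intro H hH
    haveI := hsupn H
    by_cases hb : big H
    · rw [if_pos hb]
      exact card_index_sq_over hG _ hb
    · rw [if_neg hb]
      refine modEq_of_eq ?_
      haveI : IsEmpty {K : Subgroup G // K.index = p ^ 2 ∧ H ⊔ Φ ≤ K} := ⟨fun K =>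
        hb ((dvd_of_eq K.2.1.symm).trans (index_dvd_of_le K.2.2))⟩
      exact Nat.card_of_isEmpty
  -- double counting
  haveI := Fintype.ofFinite {H : Subgroup G // Nat.card H = p ^ k}
  haveI := Fintype.ofFinite {K : Subgroup G // K.index = p ^ 2 ∧ Φ ≤ K}
  have swap : ∀ (P : Subgroup G → Prop) [Fintype {M : Subgroup G // P M}],
      ∑ M : {M : Subgroup G // P M}, num p k M.1 =
        ∑ H : {H : Subgroup G // Nat.card H = p ^ k},
          Nat.card {M : Subgroup G // P M ∧ H.1 ≤ M} := by
    intro P _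
    simp only [← num_subgroup]
    rw [← Nat.card_sigma, ← Nat.card_sigma]
    exact Nat.card_congr
      { toFun := fun x => ⟨⟨x.2.1, x.2.2.1⟩, ⟨x.1.1, x.1.2, x.2.2.2⟩⟩
        invFun := fun x => ⟨⟨x.2.1, x.2.2.1⟩, ⟨x.1.1, x.1.2, x.2.2.2⟩⟩
        left_inv := fun _ => rfl
        right_inv := fun _ => rfl }
  set β := ∑ H : {H : Subgroup G // Nat.card H = p ^ k}, if big H.1 then 1 else 0 with hβ
  have hsumA : ∑ M : {M : Subgroup G // M.index = p}, num p k M.1 ≡ num p k G + p * β [MOD p ^ 2] := by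
    rw [swap (fun M => M.index = p)]
    refine (Nat.ModEq.sum fun H _ => hA H.1 H.2).trans (modEq_of_eq ?_)
    rw [Finset.sum_add_distrib, ← Finset.mul_sum, Finset.sum_const, Finset.card_univ, smul_eq_mul,
      mul_one, num, Nat.card_eq_fintype_card]
  have hβ1 : β ≡ 1 [MOD p] := by
    have h1 : ∑ K : {K : Subgroup G // K.index = p ^ 2 ∧ Φ ≤ K}, num p k K.1 ≡ β [MOD p] := by
      rw [swap (fun M => M.index = p ^ 2 ∧ Φ ≤ M)]
      refine Nat.ModEq.sum fun H _ => (modEq_of_eq (Nat.card_congr
        (Equiv.subtypeEquivRight fun K => ?_))).trans (hB H.1 H.2)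
      exact ⟨fun h => ⟨h.1.1, sup_le h.2 h.1.2⟩, fun h => ⟨⟨h.1, le_sup_right.trans h.2⟩,
        le_sup_left.trans h.2⟩⟩
    have h2 : ∑ K : {K : Subgroup G // K.index = p ^ 2 ∧ Φ ≤ K}, num p k K.1 ≡
        ∑ _K : {K : Subgroup G // K.index = p ^ 2 ∧ Φ ≤ K}, 1 [MOD p] := by
      refine Nat.ModEq.sum fun K _ => Cfsg.Agent.S3975.result p k hp.out ?_
      obtain ⟨c, hc⟩ := (hG.to_subgroup K.1).exists_card_eq
      have h := card_mul_index K.1
      rw [hc, K.2.1, hm, ← pow_add] at h
      have := Nat.pow_right_injective hp.out.two_le h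
      exact hc ▸ pow_dvd_pow p (by omega)
    refine h1.symm.trans (h2.trans ?_)
    rw [Finset.sum_const, Finset.card_univ, smul_eq_mul, mul_one, ← Nat.card_eq_fintype_card]
    refine card_index_sq_over hG Φ ?_
    obtain ⟨d, hd⟩ : ∃ d, Φ.index = p ^ d := by
      have := (hG.to_quotient Φ).exists_card_eq
      rwa [← index_eq_card] at this
    have h := sq_le_index_frattini hG hnc
    rw [hd] at h ⊢
    exact pow_dvd_pow p ((Nat.pow_le_pow_iff_right hp.out.one_lt).mp h)
  refine hsumA.trans (Nat.ModEq.add_left _ ?_)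
  have := hβ1.mul_left' p
  rwa [mul_one, ← pow_two] at this

/-- Subgroups of maximal order are the subgroups of index `p`. -/
theorem num_top {m k : ℕ} (hm : Nat.card G = p ^ m) (hk : k + 1 = m) :
    num p k G = Nat.card {M : Subgroup G // M.index = p} := by
  refine Nat.card_congr (Equiv.subtypeEquivRight fun M => ?_)
  have h1 := card_mul_index M
  rw [hm, ← hk, pow_succ] at h1
  constructor
  · intro h
    rw [h] at h1
    exact Nat.eq_of_mul_eq_mul_left (pow_pos hp.out.pos k) h1
  · intro h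
    rw [h] at h1
    exact Nat.eq_of_mul_eq_mul_right hp.out.pos h1

end CfsgLib.ClassK.SubCount
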