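import Cfsg.Agent.Lib.ClassK.SympSetting
import Cfsg.Agent.Lib.ClassK.Core

/-!
# `z' ∈ O₂(C(z))` implies `z ∈ O₂(C(z'))` in the symplectic type setting
-/

namespace CfsgLib.ClassK

open Subgroup
open scoped commutatorElement

variable {G : Type*} [Group G] [Finite G]

theorem card_le_two_mul_of_mul_mem {A B : Subgroup G}
    (h : ∀ a ∈ B, a ∉ A → ∀ b ∈ B, b ∉ A → a * b ∈ A) : Nat.card B ≤ 2 * Nat.card A := by
  classical
  by_cases hBA : B ≤ A
  · exact (Subgroup.card_le_of_le hBA).trans (Nat.le_mul_of_pos_left _ two_pos)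
  obtain ⟨a, haB, haA⟩ := SetLike.not_le_iff_exists.1 hBA
  let f : B → Fin 2 × A := fun b =>
    if hb : (b : G) ∈ A then (0, ⟨b, hb⟩) else (1, ⟨(b : G) * a, h b b.2 hb a haB haA⟩)
  have hf : Function.Injective f := by
    intro b c hbc
    simp only [f] at hbc
    split_ifs at hbc with hb hc hc
    · exact Subtype.ext (congrArg Subtype.val (Prod.ext_iff.1 hbc).2 :)
    · exact absurd (Prod.ext_iff.1 hbc).1 (by simp)
    · exact absurd (Prod.ext_iff.1 hbc).1 (by simp)
    · exact Subtype.ext (mul_right_cancel (congrArg Subtype.val (Prod.ext_iff.1 hbc).2 :))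
  have := Nat.card_le_card_of_injective f hf
  rwa [Nat.card_prod, Nat.card_eq_fintype_card (α := Fin 2), Fintype.card_fin] at this

theorem card_sup_zpowers_le {A : Subgroup G} {x : G} (hx : ∀ a ∈ A, Commute x a)
    (hx2 : x ^ 2 = 1) : Nat.card ↥(A ⊔ zpowers x) ≤ 2 * Nat.card A := by
  have hn : zpowers x ≤ normalizer (A : Set G) := zpowers_le.2
    (CfsgLib.Comp.centralizer_le_normalizer _ (mem_centralizer_iff.2 fun a ha => (hx a ha).eq.symm))
  refine (Nat.le_of_dvd (Nat.mul_pos Nat.card_pos Nat.card_pos)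
    (CfsgLib.Comp.card_sup_dvd_mul hn)).trans ?_
  rw [mul_comm, Nat.card_zpowers]
  exact Nat.mul_le_mul_right _ (Nat.le_of_dvd two_pos (orderOf_dvd_of_pow_eq_one hx2))

namespace SympSetting

/-- Two elements acting trivially on the factors of `R ≥ K ≥ N` have commutator trivial on
`R / N`. -/
theorem comm_comm_mem {R : Subgroup G} {z' : G} (S' : SympSetting R z') {K N : Subgroup G}
    (hKR : K ≤ R) (hzN : zpowers z' ≤ N) {e f : G} (he : e ∈ centralizer ({z'} : Set G))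
    (hf : f ∈ centralizer ({z'} : Set G))
    (hw : ∀ w ∈ R, ⁅e, w⁆ ∈ K ∧ ⁅f, w⁆ ∈ K) (hk : ∀ k ∈ K, ⁅e, k⁆ ∈ N ∧ ⁅f, k⁆ ∈ N) :
    ∀ v ∈ R, ⁅⁅e, f⁆, v⁆ ∈ N := by
  intro v hv
  have hfe : f * e ∈ normalizer (R : Set G) := S'.le_normalizer (mul_mem hf he)
  obtain ⟨w, hwR, hB⟩ : ∃ w ∈ R, (f * e) * w * (f * e)⁻¹ = v :=
    ⟨(f * e)⁻¹ * v * (f * e), (mem_normalizer_iff''.1 hfe v).1 hv, by group⟩
  obtain ⟨hγ, hδ⟩ := hw w hwR
  set γ := ⁅e, w⁆ with hγd
  set δ := ⁅f, w⁆ with hδd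
  set a := ⁅e, f⁆ with ha
  have h1 : (e * f) * w * (e * f)⁻¹ = ⁅e, δ⁆ * (δ * γ) * w := by
    simp only [hγd, hδd, commutatorElement_def]; group
  have h2 : v = ⁅f, γ⁆ * (γ * δ) * w := by
    rw [← hB]; simp only [hγd, hδd, commutatorElement_def]; group
  have h3 : a * v * a⁻¹ = (e * f) * w * (e * f)⁻¹ := by
    rw [← hB, ha, commutatorElement_def]; group
  have h4 : ⁅a, v⁆ = ⁅e, δ⁆ * ⁅δ, γ⁆ * (⁅f, γ⁆)⁻¹ := by
    calc ⁅a, v⁆ = (a * v * a⁻¹) * v⁻¹ := commutatorElement_def a v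
      _ = ⁅e, δ⁆ * (δ * γ) * w * (⁅f, γ⁆ * (γ * δ) * w)⁻¹ := by rw [h3, h1, h2]
      _ = _ := by simp only [commutatorElement_def δ γ]; group
  rw [h4]
  exact mul_mem (mul_mem (hk δ hδ).1 (hzN (S'.comm_mem δ (hKR hδ) γ (hKR hγ))))
    (inv_mem (hk γ hγ).2)

variable {Q R : Subgroup G} {z z' : G} (S : SympSetting Q z) (S' : SympSetting R z')
  (hzQ : z' ∈ Q) (hne : z' ≠ z) (hzR : z ∉ R)

include S S' hzQ hne

theorem z'_notMem_center : z' ∉ centralizer (Q : Set G) := fun h =>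
  (S.mem_zpowers_cases (S.involution_mem_zpowers h S'.sq_z)).elim S'.ne_one hne

theorem exists_comm_eq : ∃ q ∈ Q, ⁅q, z'⁆ = z := by
  by_contra! h
  refine z'_notMem_center S S' hzQ hne (mem_centralizer_iff.2 fun q hq => ?_)
  exact commutatorElement_eq_one_iff_mul_comm.1
    ((S.mem_zpowers_cases (S.comm_mem q hq z' hzQ)).resolve_right (h q hq))

theorem card_le_centralizer : Nat.card Q ≤ 2 * Nat.card ↥(Q ⊓ centralizer ({z'} : Set G)) := by
  have h := S.card_step (H := ⊥) hzQ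
  rwa [bot_sup_eq, inf_eq_left.2 (le_centralizer_iff.1 bot_le), zpowers_eq_closure,
    centralizer_closure] at h

theorem centralizer_E_le :
    Q ⊓ centralizer ((Q ⊓ centralizer ({z'} : Set G) : Subgroup G) : Set G) ≤
      centralizer (Q : Set G) ⊔ zpowers z' := by
  have hle : centralizer (Q : Set G) ⊔ zpowers z' ≤ Q := sup_le S.self (zpowers_le.2 hzQ)
  have he : Q ⊓ centralizer ({z'} : Set G) =
      Q ⊓ centralizer ((centralizer (Q : Set G) ⊔ zpowers z' : Subgroup G) : Set G) := by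
    refine le_antisymm (fun x hx => ?_) (inf_le_inf_left Q (centralizer_le ?_))
    · obtain ⟨hxQ, hxz⟩ := mem_inf.1 hx
      have h : centralizer (Q : Set G) ⊔ zpowers z' ≤ centralizer ({x} : Set G) := sup_le
        (centralizer_le (by simpa using hxQ))
        (zpowers_le.2 (mem_centralizer_singleton_iff.2 (mem_centralizer_singleton_iff.1 hxz).symm))
      exact mem_inf.2 ⟨hxQ, mem_centralizer_iff.2 fun y hy =>
        mem_centralizer_singleton_iff.1 (h hy)⟩
    · simpa using (mem_sup_right (mem_zpowers z') : z' ∈ centralizer (Q : Set G) ⊔ zpowers z')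
  rw [he, S.double_centralizer le_sup_left hle]

include hzR

theorem zpowers_inf_eq : zpowers z ⊓ R = ⊥ := by
  refine (eq_bot_iff_forall _).2 fun x hx => ?_
  obtain ⟨h1, h2⟩ := mem_inf.1 hx
  exact (S.mem_zpowers_cases h1).resolve_right fun e => hzR (e ▸ h2)

theorem inf_le_zpowers : Q ⊓ R ≤ zpowers z' := by
  intro x hx
  obtain ⟨hxQ, hxR⟩ := mem_inf.1 hx
  have hbot : ∀ w ∈ zpowers z, w ∈ R → w = 1 := fun w h1 h2 => by
    have : w ∈ zpowers z ⊓ R := mem_inf.2 ⟨h1, h2⟩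
    rwa [zpowers_inf_eq S S' hzQ hne hzR, mem_bot] at this
  have hx2 : x ^ 2 = 1 := hbot _ (S.involution_mem_zpowers (S.sq_mem x hxQ)
    (by rw [← pow_mul]; exact S.pow_four x hxQ)) (pow_mem hxR 2)
  have hxE : x ∈ Q ⊓ centralizer ((Q ⊓ centralizer ({z'} : Set G) : Subgroup G) : Set G) := by
    refine mem_inf.2 ⟨hxQ, mem_centralizer_iff.2 fun e he => ?_⟩
    obtain ⟨heQ, hez⟩ := mem_inf.1 he
    exact commutatorElement_eq_one_iff_mul_comm.1
      (hbot _ (S.comm_mem e heQ x hxQ) (S'.comm_mem_of_mem hez hxR))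
  obtain ⟨s, hs, b, hb, rfl⟩ := CfsgLib.Comp.exists_mul_of_mem_sup (zpowers_le.2
    (CfsgLib.Comp.centralizer_le_normalizer _ (mem_centralizer_iff.2 fun s hs =>
      (mem_centralizer_iff.1 hs z' hzQ).symm))) (centralizer_E_le S S' hzQ hne hxE)
  have hsR : s ∈ R := by
    have := mul_mem hxR (inv_mem ((zpowers_le.2 S'.mem) hb))
    rwa [mul_inv_cancel_right] at this
  have hc : Commute s b :=
    (mem_centralizer_iff.1 hs b ((zpowers_le.2 hzQ) hb)).symm
  have hb2 : b ^ 2 = 1 := by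
    rcases S'.mem_zpowers_cases hb with e | e <;> rw [e]
    exacts [one_pow 2, S'.sq_z]
  have hs2 : s ^ 2 = 1 := by
    rw [hc.mul_pow, hb2, mul_one] at hx2
    exact hx2
  rw [hbot s (S.involution_mem_zpowers hs hs2) hsR, one_mul]
  exact hb

theorem comm_E_P {e p : G} (he : e ∈ Q ⊓ centralizer ({z'} : Set G))
    (hp : p ∈ R ⊓ centralizer ({z} : Set G)) : ⁅e, p⁆ ∈ zpowers z' := by
  obtain ⟨heQ, hez⟩ := mem_inf.1 he
  obtain ⟨hpR, hpz⟩ := mem_inf.1 hp
  refine inf_le_zpowers S S' hzQ hne hzR (mem_inf.2 ⟨?_, S'.comm_mem_of_mem hez hpR⟩)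
  rw [← commutatorElement_inv p e]
  exact inv_mem (S.comm_mem_of_mem hpz heQ)

theorem z_mem_E : z ∈ Q ⊓ centralizer ({z'} : Set G) :=
  mem_inf.2 ⟨S.mem, mem_centralizer_singleton_iff.2 (S.commute_z hzQ).eq.symm⟩

theorem two_le_relIndex : 2 ≤ (R ⊓ centralizer ({z} : Set G)).relIndex R := by
  have h0 : (R ⊓ centralizer ({z} : Set G)).relIndex R ≠ 0 := FiniteIndex.index_ne_zero
  have h1 : (R ⊓ centralizer ({z} : Set G)).relIndex R ≠ 1 := fun h => hzR (S'.self
    (mem_centralizer_iff.2 fun r hr =>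
      mem_centralizer_singleton_iff.1 (mem_inf.1 (relIndex_eq_one.1 h hr)).2))
  omega

/-- The index of `N = R · (C(z) ⊓ C(z'))` in `C(z')`. -/
theorem le_relIndex_sup :
    3 ≤ (R ⊔ centralizer ({z} : Set G) ⊓ centralizer ({z'} : Set G)).relIndex
        (centralizer ({z'} : Set G)) ∧
    (((∃ e ∈ Q ⊓ centralizer ({z'} : Set G), e ^ 2 = z) ∨
      ∃ e ∈ Q ⊓ centralizer ({z'} : Set G), ∃ f ∈ Q ⊓ centralizer ({z'} : Set G), ⁅e, f⁆ = z) →
      (R ⊔ centralizer ({z} : Set G) ⊓ centralizer ({z'} : Set G)).relIndex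
        (centralizer ({z'} : Set G)) ≠ 3) := by
  classical
  haveI : Fact (Nat.Prime 2) := ⟨Nat.prime_two⟩
  set C' := centralizer ({z'} : Set G) with hC'
  set M := centralizer ({z} : Set G) ⊓ C' with hM
  set N := R ⊔ M with hN
  have hzC' : z ∈ C' := (mem_inf.1 (z_mem_E S S' hzQ hne hzR)).2
  have hzM : z ∈ M := mem_inf.2 ⟨S.le_centralizer S.mem, hzC'⟩
  set W := R ⊔ zpowers z with hW
  have hNW : N ≤ normalizer (W : Set G) := by
    refine sup_le (le_sup_left.trans Subgroup.le_normalizer) (CfsgLib.Comp.le_normalizer_sup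
      ((inf_le_right : M ≤ C').trans S'.le_normalizer) ?_)
    refine le_trans ?_ (CfsgLib.Comp.centralizer_le_normalizer _)
    rw [zpowers_eq_closure, centralizer_closure]
    exact inf_le_left
  have core : (⟨z, hzC'⟩ : C') ∈ (N.subgroupOf C').normalCore → False := by
    intro hzcore
    apply hzR
    set K0 := (N.subgroupOf C').normalCore.map C'.subtype with hK0
    have hK0N : K0 ≤ N := (map_mono (normalCore_le _)).trans
      (by rw [subgroupOf_map_subtype]; exact inf_le_left)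
    haveI : (R.subgroupOf C').Normal := normal_subgroupOf_of_le_normalizer S'.le_normalizer
    have hRK0 : R ≤ K0 := (map_subgroupOf_eq_of_le S'.le_centralizer).ge.trans
      (map_mono (normal_le_normalCore.2 (Subgroup.comap_mono le_sup_left)))
    have hWK0 : W ≤ K0 := sup_le hRK0 (zpowers_le.2 ⟨_, hzcore, rfl⟩)
    have hK0C' : K0 ≤ C' := map_subtype_le _
    have hC'n : C' ≤ normalizer (K0 : Set G) := by
      have h1 := Subgroup.le_normalizer_map C'.subtype (H := (N.subgroupOf C').normalCore)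
      rwa [normalizer_eq_top, ← MonoidHom.range_eq_map, range_subtype] at h1
    have hWp : IsPGroup 2 W :=
      S'.isPGroup.to_sup_of_normal_left' (IsPGroup.of_card (n := 1)
        (by rw [S.card_zpowers, pow_one])) (zpowers_le.2 (S'.le_normalizer hzC'))
    haveI : (W.subgroupOf K0).Normal := normal_subgroupOf_of_le_normalizer (hK0N.trans hNW)
    haveI := CfsgLib.Solvable.pCore_characteristic 2 K0
    set O := (Cfsg.pCore 2 K0).map K0.subtype with hO
    have hOR : O ≤ R := S'.maximal O ((map_subtype_le _).trans hK0C')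
      (hC'n.trans (normalizer_le_normalizer_map K0 _))
      ((CfsgLib.Comp.isPGroup_pCore 2 K0).map _)
    refine hOR ((map_subgroupOf_eq_of_le hWK0).ge.trans (map_mono ?_)
      (mem_sup_right (mem_zpowers z)))
    exact le_sSup ⟨inferInstance, hWp.comap_subtype⟩
  have hzN : (⟨z, hzC'⟩ : C') ∈ N.subgroupOf C' := mem_subgroupOf.2 (mem_sup_right hzM)
  have h12 : N.relIndex C' ≠ 1 ∧ N.relIndex C' ≠ 2 := by
    refine ⟨fun h => core ?_, fun h => core ?_⟩
    · haveI : (N.subgroupOf C').Normal := by rw [index_eq_one.1 h]; infer_instance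
      rwa [normalCore_eq_self]
    · haveI : (N.subgroupOf C').Normal := normal_of_index_eq_two h
      rwa [normalCore_eq_self]
  refine ⟨?_, fun hz h3 => core ?_⟩
  · have : N.relIndex C' ≠ 0 := FiniteIndex.index_ne_zero
    omega
  rw [normalCore_eq_ker, MonoidHom.mem_ker]
  set φ := MulAction.toPermHom C' (C' ⧸ N.subgroupOf C') with hφ
  set A := ((Q ⊓ C').subgroupOf C').map φ with hA
  have hAp : IsPGroup 2 A := ((S.isPGroup.to_le inf_le_left).comap_subtype).map _
  obtain ⟨n, hn⟩ := hAp.exists_card_eq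
  have h6 : Nat.card A ∣ 6 := by
    refine (card_subgroup_dvd_card A).trans ?_
    rw [Nat.card_perm, ← index_eq_card, show (N.subgroupOf C').index = 3 from h3]
    decide
  have hn1 : n ≤ 1 := by
    by_contra hn1
    have : 4 ∣ 6 := (pow_dvd_pow 2 (by omega : 2 ≤ n)).trans (hn ▸ h6)
    omega
  have hsq : ∀ a ∈ A, a ^ 2 = 1 := fun a ha => by
    have h1 : orderOf a ∣ 2 := (A.orderOf_dvd_natCard ha).trans
      (by rw [hn]; exact (pow_dvd_pow 2 hn1).trans (by norm_num))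
    exact orderOf_dvd_iff_pow_eq_one.1 h1
  rcases hz with ⟨e, he, hez⟩ | ⟨e, he, f, hf, hef⟩
  · have h1 := hsq _ (mem_map_of_mem φ (show (⟨e, (mem_inf.1 he).2⟩ : C') ∈
      (Q ⊓ C').subgroupOf C' from he))
    rw [← map_pow] at h1
    rw [show (⟨z, hzC'⟩ : C') = ⟨e, (mem_inf.1 he).2⟩ ^ 2 from Subtype.ext hez.symm]
    exact h1
  · set a := φ (⟨e, (mem_inf.1 he).2⟩ : C') with ha
    set b := φ (⟨f, (mem_inf.1 hf).2⟩ : C') with hb
    have haA : a ∈ A := mem_map_of_mem φ (show (⟨e, (mem_inf.1 he).2⟩ : C') ∈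
      (Q ⊓ C').subgroupOf C' from he)
    have hbA : b ∈ A := mem_map_of_mem φ (show (⟨f, (mem_inf.1 hf).2⟩ : C') ∈
      (Q ⊓ C').subgroupOf C' from hf)
    have hinv : ∀ c ∈ A, c⁻¹ = c := fun c hc =>
      inv_eq_of_mul_eq_one_right (by rw [← pow_two, hsq c hc])
    rw [show (⟨z, hzC'⟩ : C') = ⁅(⟨e, (mem_inf.1 he).2⟩ : C'), (⟨f, (mem_inf.1 hf).2⟩ : C')⁆ from
      Subtype.ext hef.symm, map_commutatorElement, ← ha, ← hb, commutatorElement_def, hinv a haA,
      hinv b hbA, mul_assoc (a * b) a b, ← pow_two]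
    exact hsq _ (mul_mem haA hbA)

theorem false_of_isMulCommutative (hcard : Nat.card R = Nat.card Q)
    (hab : ∀ e ∈ Q ⊓ centralizer ({z'} : Set G), ∀ f ∈ Q ⊓ centralizer ({z'} : Set G),
      e * f = f * e)
    (hbound : (centralizer ({z} : Set G) ⊓ centralizer ({z'} : Set G)).relIndex
        (centralizer ({z'} : Set G)) ≤ {x ∈ (Q : Set G) | x ^ 2 = 1 ∧ x ∉ centralizer (Q : Set G)}.ncard)
    (hcount : {x ∈ (Q : Set G) | x ^ 2 = 1 ∧ x ∉ centralizer (Q : Set G)}.ncard ≤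
      2 * ((centralizer (Q : Set G)).relIndex Q - 1))
    (hlow : (R ⊓ centralizer ({z} : Set G)).relIndex R *
        (R ⊔ centralizer ({z} : Set G) ⊓ centralizer ({z'} : Set G)).relIndex
          (centralizer ({z'} : Set G)) ≤
      (centralizer ({z} : Set G) ⊓ centralizer ({z'} : Set G)).relIndex
          (centralizer ({z'} : Set G))) : False := by
  classical
  haveI : Fact (Nat.Prime 2) := ⟨Nat.prime_two⟩
  haveI := S.cyclic
  set S0 := {x ∈ (Q : Set G) | x ^ 2 = 1 ∧ x ∉ centralizer (Q : Set G)} with hS0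
  set Z := centralizer (Q : Set G) with hZ
  have hr := two_le_relIndex S S' hzQ hne hzR
  obtain ⟨h3, h4⟩ := le_relIndex_sup S S' hzQ hne hzR
  set E := Q ⊓ centralizer ({z'} : Set G) with hE
  have hEle : E ≤ Q ⊓ centralizer (E : Set G) :=
    le_inf inf_le_left fun e he => mem_centralizer_iff.2 fun f hf => hab f hf e he
  have hEcard : Nat.card E ≤ 2 * Nat.card Z :=
    (Subgroup.card_le_of_le (hEle.trans (centralizer_E_le S S' hzQ hne))).trans
      (card_sup_zpowers_le (fun a ha => mem_centralizer_iff.1 ha z' hzQ) S'.sq_z)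
  have hQ4 : Nat.card Q ≤ 4 * Nat.card Z := by
    have := card_le_centralizer S S' hzQ hne
    rw [← hE] at this
    omega
  have hidx : Z.relIndex Q ≤ 4 := by
    have := card_mul_relIndex S.self
    rw [← hZ] at this
    rw [← this, mul_comm 4] at hQ4
    exact Nat.le_of_mul_le_mul_left hQ4 Nat.card_pos
  obtain ⟨⟨i, hi⟩, hgen⟩ := IsCyclic.exists_generator (α := Z)
  have hicard : orderOf i = Nat.card Z := by
    rw [← orderOf_eq_card_of_forall_mem_zpowers hgen, Subgroup.orderOf_mk]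
  by_cases hi2 : i ^ 2 = 1
  · -- the centre has order two
    have hZ2 : Nat.card Z ≤ 2 := hicard ▸ Nat.le_of_dvd two_pos (orderOf_dvd_of_pow_eq_one hi2)
    obtain ⟨q, hq, hqz⟩ := exists_comm_eq S S' hzQ hne
    obtain ⟨o, hoQ, ho⟩ : ∃ o ∈ Q, o ^ 2 ≠ 1 := by
      by_contra! h
      have h1 : q⁻¹ = q := inv_eq_of_mul_eq_one_right (by rw [← pow_two, h q hq])
      have h2 : z'⁻¹ = z' := inv_eq_of_mul_eq_one_right (by rw [← pow_two, S'.sq_z])
      have h3 := h (q * z') (mul_mem hq hzQ)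
      rw [commutatorElement_def, h1, h2, mul_assoc (q * z') q z', ← pow_two, h3] at hqz
      exact S.ne_one hqz.symm
    have hsub : S0 ∪ {1, z, o} ⊆ (Q : Set G) := by
      rintro x (hx | hx)
      · exact hx.1
      · rcases hx with rfl | rfl | rfl
        exacts [one_mem Q, S.mem, hoQ]
    have hdisj : Disjoint S0 {1, z, o} := by
      rw [Set.disjoint_left]
      rintro x ⟨-, hx2, hxZ⟩ (rfl | rfl | rfl)
      exacts [hxZ (one_mem _), hxZ S.z_mem_center, ho hx2]
    have hc := Set.ncard_le_ncard hsub (Set.toFinite _)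
    rw [Set.ncard_union_eq hdisj (Set.toFinite _) (Set.toFinite _), ← Nat.card_coe_set_eq (Q : Set G),
      Set.ncard_eq_three.2 ⟨1, z, o, S.ne_one.symm, ?_, ?_, rfl⟩] at hc
    · have hQ8 : Nat.card Q ≤ 8 := by omega
      change _ ≤ Nat.card Q at hc
      have h6 : 2 * 3 ≤ S0.ncard := (Nat.mul_le_mul hr h3).trans (hlow.trans hbound)
      omega
    · rintro rfl; exact ho (one_pow 2)
    · rintro rfl; exact ho S.sq_z
  · -- the centre has order four, and `z` is a square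
    have hiz : i ^ 2 = z := (S.mem_zpowers_cases (S.involution_mem_zpowers (pow_mem hi 2)
      (by rw [← pow_mul]; exact S.pow_four i (S.self hi)))).resolve_left hi2
    have hiE : i ∈ E := mem_inf.2 ⟨S.self hi, mem_centralizer_singleton_iff.2
      (mem_centralizer_iff.1 hi z' hzQ).symm⟩
    have h8 : 2 * 4 ≤ S0.ncard := (Nat.mul_le_mul hr
      (by have := h4 (Or.inl ⟨i, hiE, hiz⟩); omega)).trans (hlow.trans hbound)
    omega

theorem false_of_not_isMulCommutative (hcard : Nat.card R = Nat.card Q)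
    {e₁ f₁ : G} (he₁ : e₁ ∈ Q ⊓ centralizer ({z'} : Set G))
    (hf₁ : f₁ ∈ Q ⊓ centralizer ({z'} : Set G)) (hef : ⁅e₁, f₁⁆ = z)
    (hbound : (centralizer ({z} : Set G) ⊓ centralizer ({z'} : Set G)).relIndex
        (centralizer ({z'} : Set G)) ≤ {x ∈ (Q : Set G) | x ^ 2 = 1 ∧ x ∉ centralizer (Q : Set G)}.ncard)
    (hcount : {x ∈ (Q : Set G) | x ^ 2 = 1 ∧ x ∉ centralizer (Q : Set G)}.ncard ≤
      2 * ((centralizer (Q : Set G)).relIndex Q - 1))
    (hlow : (R ⊓ centralizer ({z} : Set G)).relIndex R *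
        (R ⊔ centralizer ({z} : Set G) ⊓ centralizer ({z'} : Set G)).relIndex
          (centralizer ({z'} : Set G)) ≤
      (centralizer ({z} : Set G) ⊓ centralizer ({z'} : Set G)).relIndex
          (centralizer ({z'} : Set G))) : False := by
  classical
  haveI : Fact (Nat.Prime 2) := ⟨Nat.prime_two⟩
  haveI := S'.cyclic
  set E := Q ⊓ centralizer ({z'} : Set G) with hE
  set P := R ⊓ centralizer ({z} : Set G) with hP
  set ZR := centralizer (R : Set G) with hZR
  have hzC' : z ∈ centralizer ({z'} : Set G) := (mem_inf.1 (z_mem_E S S' hzQ hne hzR)).2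
  have hEC' : ∀ e ∈ E, e ∈ centralizer ({z'} : Set G) := fun e he => (mem_inf.1 he).2
  have hECz : ∀ e ∈ E, Commute e z := fun e he => S.commute_z (mem_inf.1 he).1
  have hz'P : z' ∈ P := mem_inf.2 ⟨S'.mem, S.le_centralizer hzQ⟩
  have hpowP : zpowers z' ≤ P := zpowers_le.2 hz'P
  have hconjR : ∀ e ∈ E, ∀ w ∈ R, e * w * e⁻¹ ∈ R := fun e he w hw =>
    (mem_normalizer_iff.1 (S'.le_normalizer (hEC' e he)) w).1 hw
  have hconj_eq : ∀ e w : G, e * w * e⁻¹ = ⁅e, w⁆ * w := fun e w => by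
    rw [commutatorElement_def]; group
  -- `z` centralizes the centre of `R`
  have hzZR : ∀ s ∈ ZR, Commute z s := by
    obtain ⟨⟨i, hi⟩, hgen⟩ := IsCyclic.exists_generator (α := ZR)
    have hpow : ∀ e ∈ E, ∃ a : ℤ, e * i * e⁻¹ = i ^ a := by
      intro e he
      have h1 := CfsgLib.Comp.le_normalizer_centralizer (S'.le_normalizer) (hEC' e he)
      obtain ⟨a, ha⟩ := mem_zpowers_iff.1 (hgen ⟨_, (mem_normalizer_iff.1 h1 i).1 hi⟩)
      exact ⟨a, (congrArg Subtype.val ha).symm⟩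
    obtain ⟨a, ha⟩ := hpow e₁ he₁
    obtain ⟨b, hb⟩ := hpow f₁ hf₁
    have h1 : e₁ * f₁ * i * (e₁ * f₁)⁻¹ = f₁ * e₁ * i * (f₁ * e₁)⁻¹ := by
      calc e₁ * f₁ * i * (e₁ * f₁)⁻¹ = e₁ * (f₁ * i * f₁⁻¹) * e₁⁻¹ := by group
        _ = (i ^ a) ^ b := by rw [hb, ← conj_zpow, ha]
        _ = (i ^ b) ^ a := by rw [← zpow_mul, ← zpow_mul, mul_comm]
        _ = f₁ * (e₁ * i * e₁⁻¹) * f₁⁻¹ := by rw [ha, ← conj_zpow, hb]
        _ = _ := by group
    set v := f₁ * e₁ with hv
    have hzv : Commute z v := ((hECz f₁ hf₁).mul_left (hECz e₁ he₁)).symm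
    have h2 : e₁ * f₁ = z * v := by rw [← hef, hv, commutatorElement_def]; group
    rw [h2, hzv.eq] at h1
    have hzi : Commute z i := by
      have h3 : v * (z * i * z⁻¹) * v⁻¹ = v * i * v⁻¹ := by rw [← h1]; group
      have h4 : z * i * z⁻¹ = i := mul_left_cancel (mul_right_cancel h3)
      exact mul_inv_eq_iff_eq_mul.1 h4
    intro s hs
    obtain ⟨k, hk⟩ := mem_zpowers_iff.1 (hgen ⟨s, hs⟩)
    have hk' : i ^ k = s := congrArg Subtype.val hk
    exact hk' ▸ hzi.zpow_right k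
  have hZRP : ZR ≤ P := fun s hs =>
    mem_inf.2 ⟨S'.self hs, mem_centralizer_singleton_iff.2 (hzZR s hs).eq.symm⟩
  -- `R₂`
  let R2 : Subgroup G :=
    { carrier := {w | w ∈ R ∧ ⁅z, w⁆ ∈ zpowers z'}
      one_mem' := ⟨one_mem R, by simp⟩
      mul_mem' := by
        rintro a b ⟨ha, ha'⟩ ⟨hb, hb'⟩
        refine ⟨mul_mem ha hb, ?_⟩
        have : ⁅z, a * b⁆ = ⁅z, a⁆ * (a * ⁅z, b⁆ * a⁻¹) := by
          simp only [commutatorElement_def]; group
        rw [this, (show Commute a ⁅z, b⁆ from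
          mem_centralizer_iff.1 (S'.zpowers_le_center hb') a ha).eq, mul_inv_cancel_right]
        exact mul_mem ha' hb'
      inv_mem' := by
        rintro a ⟨ha, ha'⟩
        refine ⟨inv_mem ha, ?_⟩
        have : ⁅z, a⁻¹⁆ = a⁻¹ * ⁅z, a⁆⁻¹ * a := by simp only [commutatorElement_def]; group
        rw [this, (show Commute a⁻¹ ⁅z, a⁆⁻¹ from
          mem_centralizer_iff.1 (S'.zpowers_le_center (inv_mem ha')) a⁻¹ (inv_mem ha)).eq,
          inv_mul_cancel_right]
        exact inv_mem ha' }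
  have hR2 : ∀ w, w ∈ R2 ↔ w ∈ R ∧ ⁅z, w⁆ ∈ zpowers z' := fun w => Iff.rfl
  have hR2R : R2 ≤ R := fun w hw => hw.1
  have hPR2 : P ≤ R2 := fun p hp => ⟨(mem_inf.1 hp).1, by
    rw [commutatorElement_eq_one_iff_mul_comm.2
      (mem_centralizer_singleton_iff.1 (mem_inf.1 hp).2).symm]
    exact one_mem _⟩
  have hR2card : Nat.card R2 ≤ 2 * Nat.card P := by
    refine card_le_two_mul_of_mul_mem fun a ha ha' b hb hb' => ?_
    have hz1 : ∀ c, c ∈ R2 → c ∉ P → ⁅z, c⁆ = z' := fun c hc hc' =>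
      (S'.mem_zpowers_cases hc.2).resolve_left fun e => hc' (mem_inf.2 ⟨hc.1,
        mem_centralizer_singleton_iff.2 (commutatorElement_eq_one_iff_mul_comm.1 e).symm⟩)
    refine mem_inf.2 ⟨mul_mem ha.1 hb.1, mem_centralizer_singleton_iff.2 ?_⟩
    refine (commutatorElement_eq_one_iff_mul_comm.1 ?_).symm
    have : ⁅z, a * b⁆ = ⁅z, a⁆ * (a * ⁅z, b⁆ * a⁻¹) := by
      simp only [commutatorElement_def]; group
    rw [this, hz1 a ha ha', hz1 b hb hb', (S'.commute_z ha.1).eq, mul_inv_cancel_right, ← pow_two,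
      S'.sq_z]
  -- `C₂` and `K`
  set C2 := R ⊓ centralizer (R2 : Set G) with hC2
  set K := R ⊓ centralizer (P : Set G) with hK
  have hC2K : C2 ≤ K := inf_le_inf_left R (centralizer_le hPR2)
  have hZRC2 : ZR ≤ C2 := le_inf S'.self (centralizer_le hR2R)
  have hzinv : ∀ w, z * ⁅z, w⁆ * z⁻¹ = ⁅z, w⁆⁻¹ := fun w => by
    calc z * ⁅z, w⁆ * z⁻¹ = z ^ 2 * w * z⁻¹ * w⁻¹ * z⁻¹ := by
          rw [commutatorElement_def, pow_two]; group
      _ = w * z * w⁻¹ * z⁻¹ := by rw [S.sq_z, one_mul, S.inv_z]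
      _ = _ := by rw [commutatorElement_def]; group
  have hd : ∀ w ∈ R, ⁅z, w⁆ ∈ R2 ⊓ C2 := by
    intro w hw
    have hdR : ⁅z, w⁆ ∈ R := S'.comm_mem_of_mem hzC' hw
    refine mem_inf.2 ⟨⟨hdR, ?_⟩, mem_inf.2 ⟨hdR, mem_centralizer_iff.2 fun r hr => ?_⟩⟩
    · have h1 : ⁅z, ⁅z, w⁆⁆ = (⁅z, w⁆ ^ 2)⁻¹ := by
        rw [commutatorElement_def z ⁅z, w⁆, hzinv, pow_two, mul_inv_rev]
      rw [h1]
      exact inv_mem (S'.involution_mem_zpowers (S'.sq_mem _ hdR)
        (by rw [← pow_mul]; exact S'.pow_four _ hdR))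
    · exact (S'.comm_comm_eq_one hzC' hw hr.1 (S'.zpowers_le_center hr.2)).eq
  set L := closure ((fun w => ⁅z, w⁆) '' (R : Set G)) ⊔ ZR with hL
  have hLle : L ≤ R2 ⊓ C2 := sup_le ((closure_le _).2 (by rintro _ ⟨w, hw, rfl⟩; exact hd w hw))
    (le_inf (hZRP.trans hPR2) hZRC2)
  have hC2L : C2 = L := by
    refine (eq_of_le_of_card_ge (hLle.trans inf_le_right) ?_).symm
    have h1 := S'.card_centralizer_mul (hZRP.trans hPR2) hR2R
    rw [← hC2, ← hZR, ← card_mul_relIndex hR2R, mul_assoc, mul_comm (Nat.card C2)] at h1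
    rw [Nat.eq_of_mul_eq_mul_left Nat.card_pos h1]
    let f : (R ⧸ R2.subgroupOf R) × ZR → L := fun p =>
      ⟨⁅z, (p.1.out : G)⁆ * p.2, mul_mem (mem_sup_left (subset_closure ⟨_, p.1.out.2, rfl⟩))
        (mem_sup_right p.2.2)⟩
    have hf : Function.Injective f := by
      rintro ⟨a, s⟩ ⟨b, t⟩ h
      have h' : ⁅z, (a.out : G)⁆ * s = ⁅z, (b.out : G)⁆ * t := congrArg Subtype.val h
      have hab : a = b := by
        rw [← a.out_eq', ← b.out_eq', QuotientGroup.eq, mem_subgroupOf]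
        show (a.out : G)⁻¹ * (b.out : G) ∈ R2
        set w := (a.out : G) with hw
        set v := w⁻¹ * (b.out : G) with hv
        have hwR : w ∈ R := a.out.2
        have hvR : v ∈ R := mul_mem (inv_mem hwR) b.out.2
        have hu : (s : G) * (t : G)⁻¹ ∈ ZR := mul_mem s.2 (inv_mem t.2)
        set u := (s : G) * (t : G)⁻¹ with hud
        have h2 : ⁅z, (b.out : G)⁆ = ⁅z, w⁆ * u := by
          rw [hud, ← mul_assoc, h', mul_inv_cancel_right]
        have h3 : ⁅z, v⁆ = u := by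
          have e : ⁅z, (b.out : G)⁆ = ⁅z, w⁆ * (w * ⁅z, v⁆ * w⁻¹) := by
            simp only [hv, commutatorElement_def]; group
          rw [e] at h2
          have e2 := mul_left_cancel h2
          calc ⁅z, v⁆ = w⁻¹ * (w * ⁅z, v⁆ * w⁻¹) * w := by group
            _ = w⁻¹ * u * w := by rw [e2]
            _ = u := by rw [mul_assoc, ← mem_centralizer_iff.1 hu w hwR, inv_mul_cancel_left]
        refine ⟨hvR, ?_⟩
        rw [h3]
        refine S'.involution_mem_zpowers hu ?_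
        have h5 := hzinv v
        rw [h3, (hzZR u hu).eq, mul_inv_cancel_right] at h5
        rw [pow_two]
        exact mul_eq_one_iff_eq_inv.2 h5
      subst hab
      exact Prod.ext rfl (Subtype.ext (mul_left_cancel h'))
    have := Nat.card_le_card_of_injective f hf
    rw [Nat.card_prod, ← index_eq_card] at this
    exact this
  have hC2R2 : C2 ≤ R2 := hC2L ▸ hLle.trans inf_le_left
  have hKcard : Nat.card K ≤ 2 * Nat.card C2 := by
    have h1 := S'.card_centralizer_mul (hZRP.trans hPR2) hR2R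
    have h2 := S'.card_centralizer_mul hZRP (inf_le_left : P ≤ R)
    rw [← h1, ← hK, ← hC2] at h2
    refine Nat.le_of_mul_le_mul_right (c := Nat.card P) ?_ Nat.card_pos
    calc Nat.card K * Nat.card P = Nat.card C2 * Nat.card R2 := h2
      _ ≤ Nat.card C2 * (2 * Nat.card P) := Nat.mul_le_mul_left _ hR2card
      _ = _ := by ring
  have hKP : R ⊓ centralizer (K : Set G) = P := S'.double_centralizer hZRP inf_le_left
  have hKab : ∀ A : Subgroup G, A ≤ K → A ≤ P → Nat.card K ≤ 2 * Nat.card A → K ≤ P := by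
    intro A hAK hAP hA
    refine le_trans (le_inf inf_le_left fun k hk => mem_centralizer_iff.2 fun v hv => ?_) hKP.le
    have hcP : ∀ a ∈ A, ∀ x ∈ K, Commute a x := fun a ha x hx =>
      mem_centralizer_iff.1 (mem_inf.1 hx).2 a (hAP ha)
    by_cases hkA : k ∈ A
    · exact (hcP k hkA v hv).eq.symm
    by_cases hvA : v ∈ A
    · exact (hcP v hvA k hk).eq
    · have h1 := (hcP _ (card_le_of_card_le_two hAK hA hk hkA hv hvA) v hv).mul_left (Commute.refl v)
      rw [inv_mul_cancel_right] at h1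
      exact h1.eq.symm
  have hEK : ∀ e ∈ E, ∀ w ∈ R, ⁅e, w⁆ ∈ K := fun e he w hw =>
    mem_inf.2 ⟨S'.comm_mem_of_mem (hEC' e he) hw, mem_centralizer_iff.2 fun p hp =>
      (S'.comm_comm_eq_one (hEC' e he) hw (mem_inf.1 hp).1
        (S'.zpowers_le_center (comm_E_P S S' hzQ hne hzR he hp))).eq⟩
  have hKnot : ¬ K ≤ P := by
    intro hle
    refine hzR (S'.mem_of_comm_mem_zpowers hzC' hzZR fun v hv => ?_)
    have := S'.comm_comm_mem (K := K) (N := zpowers z') inf_le_left le_rfl (hEC' _ he₁) (hEC' _ hf₁)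
      (fun w hw => ⟨hEK _ he₁ w hw, hEK _ hf₁ w hw⟩)
      (fun k hk => ⟨comm_E_P S S' hzQ hne hzR he₁ (hle hk), comm_E_P S S' hzQ hne hzR hf₁ (hle hk)⟩)
      v hv
    rwa [hef] at this
  have hC2not : ¬ C2 ≤ P := fun h => hKnot (hKab C2 hC2K h hKcard)
  obtain ⟨w₀, hw₀, hw₀P⟩ : ∃ w ∈ R, ⁅z, w⁆ ∉ P := by
    by_contra! h
    refine hC2not (hC2L ▸ sup_le ((closure_le _).2 ?_) hZRP)
    rintro _ ⟨w, hw, rfl⟩
    exact h w hw
  -- invariance under `E`
  have hER2 : ∀ e ∈ E, ∀ w ∈ R2, e * w * e⁻¹ ∈ R2 := by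
    intro e he w hw
    refine ⟨hconjR e he w hw.1, ?_⟩
    have h1 : ⁅z, e * w * e⁻¹⁆ = e * ⁅z, w⁆ * e⁻¹ := by
      have hez : e * z * e⁻¹ = z := by rw [(hECz e he).eq, mul_inv_cancel_right]
      conv_lhs => rw [← hez]
      simp only [commutatorElement_def]; group
    rw [h1]
    obtain ⟨j, hj⟩ := mem_zpowers_iff.1 hw.2
    rw [← hj, (Commute.zpow_right (show Commute e z' from
      mem_centralizer_singleton_iff.1 (hEC' e he)) j).eq, mul_inv_cancel_right]
    exact zpow_mem (mem_zpowers _) j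
  have hEC2 : ∀ e ∈ E, ∀ c ∈ C2, e * c * e⁻¹ ∈ C2 := by
    intro e he c hc
    refine mem_inf.2 ⟨hconjR e he c (mem_inf.1 hc).1, mem_centralizer_iff.2 fun r hr => ?_⟩
    have h1 : e⁻¹ * r * e ∈ R2 := by simpa using hER2 e⁻¹ (inv_mem he) r hr
    have h2 := mem_centralizer_iff.1 (mem_inf.1 hc).2 _ h1
    calc r * (e * c * e⁻¹) = e * ((e⁻¹ * r * e) * c) * e⁻¹ := by group
      _ = e * (c * (e⁻¹ * r * e)) * e⁻¹ := by rw [h2]
      _ = _ := by group
  have hEP : ∀ e ∈ E, ∀ p ∈ P, e * p * e⁻¹ ∈ P := fun e he p hp => by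
    rw [hconj_eq]; exact mul_mem (hpowP (comm_E_P S S' hzQ hne hzR he hp)) hp
  have hec : ∀ e ∈ E, ∀ c ∈ C2, ⁅e, c⁆ ∈ P := by
    intro e he c hc
    by_cases hcP : c ∈ P
    · exact hpowP (comm_E_P S S' hzQ hne hzR he hcP)
    · refine card_le_of_card_le_two hPR2 hR2card (hER2 e he c (hC2R2 hc)) (fun h => hcP ?_)
        (hC2R2 hc) hcP
      have h' := hEP e⁻¹ (inv_mem he) _ h
      convert h' using 1
      group
  have hek : ∀ e ∈ E, ∀ k ∈ K, ⁅e, k⁆ ∈ C2 := by
    intro e he k hk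
    by_cases hkC : k ∈ C2
    · exact mul_mem (hEC2 e he k hkC) (inv_mem hkC)
    · have h1 : e * k * e⁻¹ ∈ K := by
        rw [hconj_eq]; exact mul_mem (hEK e he k (mem_inf.1 hk).1) hk
      refine card_le_of_card_le_two hC2K hKcard h1 (fun h => hkC ?_) hk hkC
      have h' := hEC2 e⁻¹ (inv_mem he) _ h
      convert h' using 1
      group
  let E0 : Subgroup G :=
    { carrier := {e | e ∈ E ∧ ∀ k ∈ K, ⁅e, k⁆ ∈ P}
      one_mem' := ⟨one_mem E, fun k _ => by simp⟩
      mul_mem' := by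
        rintro a b ⟨ha, ha'⟩ ⟨hb, hb'⟩
        refine ⟨mul_mem ha hb, fun k hk => ?_⟩
        have : ⁅a * b, k⁆ = a * ⁅b, k⁆ * a⁻¹ * ⁅a, k⁆ := by
          simp only [commutatorElement_def]; group
        rw [this]
        exact mul_mem (hEP a ha _ (hb' k hk)) (ha' k hk)
      inv_mem' := by
        rintro a ⟨ha, ha'⟩
        refine ⟨inv_mem ha, fun k hk => ?_⟩
        have : ⁅a⁻¹, k⁆ = a⁻¹ * ⁅a, k⁆⁻¹ * a⁻¹⁻¹ := by
          simp only [commutatorElement_def]; group
        rw [this]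
        exact hEP _ (inv_mem ha) _ (inv_mem (ha' k hk)) }
  have hprod : ∀ a ∈ E, a ∉ E0 → ∀ b ∈ E, b ∉ E0 → a * b ∈ E0 := by
    have hout : ∀ e ∈ E, e ∉ E0 → ∀ k ∈ K, k ∉ C2 → ⁅e, k⁆ ∉ P := by
      intro e he he' k hk hkC
      obtain ⟨k₁, hk₁, hk₁P⟩ : ∃ k₁ ∈ K, ⁅e, k₁⁆ ∉ P := by
        by_contra! h
        exact he' ⟨he, h⟩
      have hk₁C : k₁ ∉ C2 := fun h => hk₁P (hec e he k₁ h)
      intro hkP
      apply hk₁P
      set c := k * k₁⁻¹ with hc
      have hcC : c ∈ C2 := card_le_of_card_le_two hC2K hKcard hk hkC hk₁ hk₁C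
      have e1 : ⁅e, k⁆ = ⁅e, c⁆ * (⁅c, ⁅e, k₁⁆⁆ * ⁅e, k₁⁆) := by
        simp only [hc, commutatorElement_def]; group
      have h1 : ⁅c, ⁅e, k₁⁆⁆ ∈ P := hpowP (S'.comm_mem c (mem_inf.1 hcC).1 _
        (S'.comm_mem_of_mem (hEC' e he) (mem_inf.1 hk₁).1))
      rw [e1] at hkP
      have h2 := mul_mem (inv_mem h1) (mul_mem (inv_mem (hec e he c hcC)) hkP)
      rwa [inv_mul_cancel_left, inv_mul_cancel_left] at h2
    intro a ha ha' b hb hb'
    refine ⟨mul_mem ha hb, fun k hk => ?_⟩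
    by_cases hkC : k ∈ C2
    · exact hec _ (mul_mem ha hb) k hkC
    have h1 : ⁅a * b, k⁆ = a * ⁅b, k⁆ * a⁻¹ * (⁅a, k⁆⁻¹)⁻¹ := by
      simp only [commutatorElement_def]; group
    rw [h1]
    refine card_le_of_card_le_two hPR2 hR2card (hC2R2 (hEC2 a ha _ (hek b hb k hk)))
      (fun h => hout b hb hb' k hk hkC ?_) (hC2R2 (inv_mem (hek a ha k hk)))
      (fun h => hout a ha ha' k hk hkC (by simpa using inv_mem h))
    have h' := hEP a⁻¹ (inv_mem ha) _ h
    convert h' using 1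
    group
  have hzE0 : z ∈ E0 := by
    rw [← hef, commutatorElement_def]
    by_cases h1 : e₁ ∈ E0 <;> by_cases h2 : f₁ ∈ E0
    · exact mul_mem (mul_mem (mul_mem h1 h2) (inv_mem h1)) (inv_mem h2)
    · rw [mul_assoc (e₁ * f₁), show e₁ * f₁ * (e₁⁻¹ * f₁⁻¹) = e₁ * ((f₁ * e₁⁻¹) * f₁⁻¹) by group]
      refine mul_mem h1 (hprod _ (mul_mem hf₁ (inv_mem he₁)) (fun h => h2 ?_) _ (inv_mem hf₁)
        (fun h => h2 (by simpa using inv_mem h)))
      have := mul_mem h h1
      rwa [inv_mul_cancel_right] at this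
    · refine mul_mem (hprod _ (mul_mem he₁ hf₁) (fun h => h1 ?_) _ (inv_mem he₁)
        (fun h => h1 (by simpa using inv_mem h))) (inv_mem h2)
      have := mul_mem h (inv_mem h2)
      rwa [mul_inv_cancel_right] at this
    · rw [mul_assoc (e₁ * f₁)]
      exact mul_mem (hprod _ he₁ h1 _ hf₁ h2)
        (hprod _ (inv_mem he₁) (fun h => h1 (by simpa using inv_mem h)) _ (inv_mem hf₁)
          (fun h => h2 (by simpa using inv_mem h)))
  have hE0ab : ∀ a ∈ E0, ∀ b ∈ E0, Commute a b := by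
    intro a ha b hb
    refine commutatorElement_eq_one_iff_mul_comm.1
      ((S.mem_zpowers_cases (S.comm_mem a (mem_inf.1 ha.1).1 b (mem_inf.1 hb.1).1)).resolve_right
        fun hab => hw₀P ?_)
    have := S'.comm_comm_mem (K := K) (N := K ⊓ P) inf_le_left
      (le_inf (zpowers_le.2 (mem_inf.2 ⟨S'.mem, mem_centralizer_iff.2 fun p hp =>
        (S'.commute_z (mem_inf.1 hp).1).eq⟩)) hpowP) (hEC' a ha.1) (hEC' b hb.1)
      (fun w hw => ⟨hEK a ha.1 w hw, hEK b hb.1 w hw⟩)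
      (fun k hk => ⟨mem_inf.2 ⟨hC2K (hek a ha.1 k hk), ha.2 k hk⟩,
        mem_inf.2 ⟨hC2K (hek b hb.1 k hk), hb.2 k hk⟩⟩) w₀ hw₀
    rw [hab] at this
    exact (mem_inf.1 this).2
  have hidx : (centralizer (Q : Set G)).relIndex Q ≤ 16 := by
    set Z := centralizer (Q : Set G) with hZ
    set H := E0 ⊔ Z with hH
    have hHQ : H ≤ Q := sup_le (fun e he => (mem_inf.1 he.1).1) S.self
    have hHc : H ≤ centralizer (H : Set G) := by
      have hcc : ∀ s ∈ Z, ∀ a ∈ Q, Commute a s := fun s hs a ha => mem_centralizer_iff.1 hs a ha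
      rw [hH]
      refine sup_le (CfsgLib.Comp.le_centralizer_sup ?_ ?_) (CfsgLib.Comp.le_centralizer_sup ?_ ?_)
      · exact fun a ha => mem_centralizer_iff.2 fun b hb => (hE0ab b hb a ha).eq
      · exact fun a ha => mem_centralizer_iff.2 fun b hb => (hcc b hb a (mem_inf.1 ha.1).1).eq.symm
      · exact fun a ha => mem_centralizer_iff.2 fun b hb => (hcc a ha b (mem_inf.1 hb.1).1).eq
      · exact fun a ha => mem_centralizer_iff.2 fun b hb => (hcc a ha b (S.self hb)).eq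
    have h1 := (Nat.mul_le_mul_right _ (Subgroup.card_le_of_le (le_inf hHQ hHc))).trans
      (S.card_centralizer_mul_le hHQ)
    have h2 : Nat.card E ≤ 2 * Nat.card E0 := card_le_two_mul_of_mul_mem hprod
    have h3 := card_le_centralizer S S' hzQ hne
    rw [← hE] at h3
    have h4 : Nat.card Q ≤ 4 * Nat.card H := by
      have := Subgroup.card_le_of_le (le_sup_left : E0 ≤ H)
      rw [← hH] at this
      omega
    have h5 := card_mul_relIndex S.self
    rw [← hZ] at h5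
    refine Nat.le_of_mul_le_mul_left (?_ : Nat.card Z * Z.relIndex Q ≤ Nat.card Z * 16) Nat.card_pos
    rw [h5]
    refine Nat.le_of_mul_le_mul_right (?_ : Nat.card Q * Nat.card Q ≤ Nat.card Z * 16 * Nat.card Q) Nat.card_pos
    calc Nat.card Q * Nat.card Q ≤ 4 * Nat.card H * (4 * Nat.card H) := Nat.mul_le_mul h4 h4
      _ = 16 * (Nat.card H * Nat.card H) := by ring
      _ ≤ 16 * (Nat.card Q * Nat.card Z) := Nat.mul_le_mul_left _ h1
      _ = _ := by ring
  have hr5 : ¬ P.relIndex R ≤ 4 := by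
    intro hr
    have hKeq : Nat.card K = Nat.card ZR * P.relIndex R := by
      have h1 := S'.card_centralizer_mul hZRP (inf_le_left : P ≤ R)
      rw [← hK, ← hZR, ← card_mul_relIndex (inf_le_left : P ≤ R), mul_assoc,
        mul_comm (Nat.card K)] at h1
      rw [Nat.eq_of_mul_eq_mul_left Nat.card_pos h1, mul_comm]
    by_cases hN : Nat.card K ≤ 2 * Nat.card ↥(K ⊓ P)
    · exact hKnot (hKab _ inf_le_left inf_le_right hN)
    have hNZ : K ⊓ P = ZR := by
      refine (eq_of_le_of_card_ge (le_inf (hZRC2.trans hC2K) hZRP) ?_).symm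
      have h1 := card_mul_relIndex (le_inf (hZRC2.trans hC2K) hZRP : ZR ≤ K ⊓ P)
      rcases Nat.lt_or_ge (ZR.relIndex (K ⊓ P)) 2 with h | h
      · have h0 : ZR.relIndex (K ⊓ P) ≠ 0 := FiniteIndex.index_ne_zero
        rw [show ZR.relIndex (K ⊓ P) = 1 by omega, mul_one] at h1
        exact h1.ge
      · exfalso
        apply hN
        rw [hKeq, ← h1]
        calc Nat.card ZR * P.relIndex R ≤ Nat.card ZR * 4 := Nat.mul_le_mul_left _ hr
          _ = 2 * (Nat.card ZR * 2) := by ring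
          _ ≤ _ := Nat.mul_le_mul_left _ (Nat.mul_le_mul_left _ h)
    apply hw₀P
    rw [← hKP]
    refine mem_inf.2 ⟨S'.comm_mem_of_mem hzC' hw₀, mem_centralizer_iff.2 fun k hk => ?_⟩
    have h1 : ⁅z, k⁆ ∈ ZR := hNZ ▸ mem_inf.2 ⟨hC2K (hek z hzE0.1 k hk), hzE0.2 k hk⟩
    exact (S'.comm_comm_eq_one hzC' hw₀ (mem_inf.1 hk).1 h1).eq
  have h8 : 8 ≤ P.relIndex R := by
    obtain ⟨n, hn⟩ := S'.isPGroup.exists_card_eq
    have hdvd : P.relIndex R ∣ 2 ^ n :=
      hn ▸ Dvd.intro_left _ (card_mul_relIndex (inf_le_left : P ≤ R))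
    obtain ⟨j, -, hj⟩ := (Nat.dvd_prime_pow Nat.prime_two).1 hdvd
    rw [hj] at hr5 ⊢
    by_contra h
    apply hr5
    have : j < 3 := by
      by_contra hj3
      exact h (le_trans (by norm_num) (Nat.pow_le_pow_right two_pos (by omega : 3 ≤ j)))
    calc 2 ^ j ≤ 2 ^ 2 := Nat.pow_le_pow_right two_pos (by omega)
      _ = 4 := by norm_num
  obtain ⟨h3, h4⟩ := le_relIndex_sup S S' hzQ hne hzR
  have h32 : 8 * 4 ≤ 2 * ((centralizer (Q : Set G)).relIndex Q - 1) :=
    (Nat.mul_le_mul h8 (by have := h4 (Or.inr ⟨e₁, he₁, f₁, hf₁, hef⟩); omega)).trans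
      ((hlow.trans hbound).trans hcount)
  omega

omit hzR

/-- The main lemma: `z ∈ O₂(C(z'))`. -/
theorem mem_of_setting (hcard : Nat.card R = Nat.card Q)
    (hcardC : Nat.card (centralizer ({z} : Set G)) = Nat.card (centralizer ({z'} : Set G))) :
    z ∈ R := by
  classical
  by_contra hzR
  set C := centralizer ({z} : Set G) with hC
  set C' := centralizer ({z'} : Set G) with hC'
  set M := C ⊓ C' with hM
  set S0 := {x ∈ (Q : Set G) | x ^ 2 = 1 ∧ x ∉ centralizer (Q : Set G)} with hS0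
  have hlow : (R ⊓ C).relIndex R * (R ⊔ M).relIndex C' ≤ M.relIndex C' := by
    have hsup : R ⊔ M ≤ C' := sup_le S'.le_centralizer inf_le_right
    rw [← relIndex_mul_relIndex M (R ⊔ M) C' le_sup_right hsup]
    refine Nat.mul_le_mul_right _ ?_
    have h1 : (R ⊓ C).relIndex R = M.relIndex R := by
      rw [← inf_relIndex_right M R]
      congr 1
      rw [hM, inf_assoc, inf_eq_right.2 S'.le_centralizer, inf_comm]
    rw [h1]
    exact relIndex_le_of_le_right le_sup_left FiniteIndex.index_ne_zero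
  have hbound : M.relIndex C' ≤ S0.ncard := by
    have heq : M.relIndex C' = M.relIndex C := by
      have h1 := card_mul_relIndex (inf_le_right : M ≤ C')
      have h2 := card_mul_relIndex (inf_le_left : M ≤ C)
      rw [hcardC, ← h1] at h2
      exact (Nat.eq_of_mul_eq_mul_left Nat.card_pos h2).symm
    rw [heq]
    have hmem : ∀ c : C, (c : G) * z' * (c : G)⁻¹ ∈ S0 := fun c => by
      refine ⟨(mem_normalizer_iff.1 (S.le_normalizer c.2) z').1 hzQ, ?_, fun h => ?_⟩
      · rw [conj_pow, S'.sq_z, mul_one, mul_inv_cancel]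
      · have h' := (mem_normalizer_iff.1
          (CfsgLib.Comp.le_normalizer_centralizer S.le_normalizer c.2) z').2 h
        exact z'_notMem_center S S' hzQ hne h'
    let f : C ⧸ M.subgroupOf C → S0 := fun a => ⟨_, hmem a.out⟩
    have hf : Function.Injective f := by
      intro a b hab
      have h : (a.out : G) * z' * (a.out : G)⁻¹ = (b.out : G) * z' * (b.out : G)⁻¹ :=
        congrArg Subtype.val hab
      rw [← a.out_eq', ← b.out_eq', QuotientGroup.eq, mem_subgroupOf]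
      refine mem_inf.2 ⟨((a.out)⁻¹ * b.out).2, mem_centralizer_singleton_iff.2 ?_⟩
      show (a.out : G)⁻¹ * (b.out : G) * z' = z' * ((a.out : G)⁻¹ * (b.out : G))
      calc (a.out : G)⁻¹ * (b.out : G) * z'
          = (a.out : G)⁻¹ * ((b.out : G) * z' * (b.out : G)⁻¹) * (b.out : G) := by group
        _ = (a.out : G)⁻¹ * ((a.out : G) * z' * (a.out : G)⁻¹) * (b.out : G) := by rw [h]
        _ = _ := by group
    have := Nat.card_le_card_of_injective f hf
    rw [← index_eq_card, Nat.card_coe_set_eq] at this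
    exact this
  have hcount : S0.ncard ≤ 2 * ((centralizer (Q : Set G)).relIndex Q - 1) := by
    set Z := centralizer (Q : Set G) with hZ
    haveI : (Z.subgroupOf Q).Normal := normal_subgroupOf_of_le_normalizer
      (CfsgLib.Comp.le_normalizer_centralizer Subgroup.le_normalizer)
    let q := QuotientGroup.mk' (Z.subgroupOf Q)
    let T := {a : Q ⧸ Z.subgroupOf Q // a ≠ 1}
    let π : S0 → T := fun x => ⟨q ⟨x.1, x.2.1⟩, fun h =>
      x.2.2.2 ((QuotientGroup.eq_one_iff (⟨x.1, x.2.1⟩ : Q)).1 h)⟩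
    let ch : T → G := fun a => if h : ∃ x : S0, π x = a then (h.choose : G) else 1
    let f : S0 → T × Fin 2 := fun x => (π x, if (x : G) = ch (π x) then 0 else 1)
    have hf : Function.Injective f := by
      intro x y hxy
      obtain ⟨hπ, hi⟩ := Prod.ext_iff.1 hxy
      simp only [f] at hπ hi
      have hdiff : ∀ u v : S0, π u = π v → (u : G) ≠ v → (v : G) = (u : G) * z := by
        intro u v huv hne'
        have h1 : (⟨u.1, u.2.1⟩ : Q)⁻¹ * ⟨v.1, v.2.1⟩ ∈ Z.subgroupOf Q :=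
          QuotientGroup.eq.1 (congrArg Subtype.val huv)
        have h2 : (u : G)⁻¹ * v ∈ Z := h1
        have hcu : Commute (u : G) ((u : G)⁻¹ * v) := mem_centralizer_iff.1 h2 u u.2.1
        have hsq : ((u : G)⁻¹ * v) ^ 2 = 1 := by
          have h3 : (v : G) ^ 2 = 1 := v.2.2.1
          have h4 : ((u : G) * ((u : G)⁻¹ * v)) ^ 2 = 1 := by rw [mul_inv_cancel_left, h3]
          rwa [hcu.mul_pow, u.2.2.1, one_mul] at h4
        rcases S.mem_zpowers_cases (S.involution_mem_zpowers h2 hsq) with e | e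
        · exact absurd (inv_mul_eq_one.1 e) hne'
        · exact inv_mul_eq_iff_eq_mul.1 e
      obtain ⟨c, hcπ, hc⟩ : ∃ c : S0, π c = π x ∧ ch (π x) = (c : G) := by
        have h : ∃ w : S0, π w = π x := ⟨x, rfl⟩
        exact ⟨h.choose, h.choose_spec, dif_pos h⟩
      rw [← hπ, hc] at hi
      by_contra hne'
      by_cases hx : (x : G) = c
      · rw [if_pos hx] at hi
        by_cases hy : (y : G) = c
        · exact hne' (Subtype.ext (hx.trans hy.symm))
        · rw [if_neg hy] at hi; exact absurd hi (by decide)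
      · rw [if_neg hx] at hi
        by_cases hy : (y : G) = c
        · rw [if_pos hy] at hi; exact absurd hi (by decide)
        · exact hne' (Subtype.ext ((hdiff c x hcπ (fun e => hx e.symm)).trans
            (hdiff c y (hcπ.trans hπ) (fun e => hy e.symm)).symm))
    have h1 := Nat.card_le_card_of_injective f hf
    rw [Nat.card_coe_set_eq, Nat.card_prod, Nat.card_eq_fintype_card (α := Fin 2),
      Fintype.card_fin, mul_comm] at h1
    refine h1.trans (Nat.mul_le_mul_left _ ?_)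
    haveI : Fintype (Q ⧸ Z.subgroupOf Q) := Fintype.ofFinite _
    rw [Nat.card_eq_fintype_card (α := T)]
    simp only [T, Fintype.card_subtype_compl, Fintype.card_subtype_eq]
    rw [← Nat.card_eq_fintype_card, ← index_eq_card]
    rfl
  by_cases hab : ∀ e ∈ Q ⊓ C', ∀ f ∈ Q ⊓ C', e * f = f * e
  · exact false_of_isMulCommutative S S' hzQ hne hzR hcard hab hbound hcount hlow
  · push Not at hab
    obtain ⟨e, he, f, hf, hef⟩ := hab
    refine false_of_not_isMulCommutative S S' hzQ hne hzR hcard he hf ?_ hbound hcount hlow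
    exact (S.mem_zpowers_cases (S.comm_mem e (mem_inf.1 he).1 f (mem_inf.1 hf).1)).resolve_left
      fun h => hef (commutatorElement_eq_one_iff_mul_comm.1 h)

end SympSetting

end CfsgLib.ClassK
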