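import Mathlib.GroupTheory.Nilpotent
import Mathlib.GroupTheory.SpecificGroups.Cyclic
import Cfsg.Agent.Lib.Solvable.Nilpotent
import Cfsg.Prelude.Def_ClassificationK

/-!
# 2-groups of symplectic type and exponent at most four
-/

namespace CfsgLib.ClassK

open Subgroup
open scoped commutatorElement

variable {P : Type*} [Group P] [Finite P]

omit [Finite P] in
/-- The derived group centralizes the second centre. -/
theorem commutator_le_centralizer_upperCentralSeries_two :
    commutator P ≤ centralizer (Subgroup.upperCentralSeries P 2 : Set P) := by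
  set W := Subgroup.upperCentralSeries P 2 with hW
  have h0 : ⁅W, (⊤ : Subgroup P)⁆ ≤ center P := commutator_le.2 fun x hx y _ => by
    have := Subgroup.mem_upperCentralSeries_succ_iff.1 hx y
    rwa [Subgroup.upperCentralSeries_one] at this
  have h1 : ⁅⁅W, (⊤ : Subgroup P)⁆, (⊤ : Subgroup P)⁆ = ⊥ := by
    rw [commutator_eq_bot_iff_le_centralizer]
    refine h0.trans ?_
    rw [coe_top, centralizer_univ]
  have h2 : ⁅⁅(⊤ : Subgroup P), W⁆, (⊤ : Subgroup P)⁆ = ⊥ := by rwa [commutator_comm ⊤ W]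
  have h3 := commutator_commutator_eq_bot_of_rotate h2 h1
  rwa [commutator_eq_bot_iff_le_centralizer, ← _root_.commutator_def] at h3

/-- If the derived group meets the second centre in the centre, it is central. -/
theorem commutator_le_center_of_inf [Group.IsNilpotent P]
    (h : commutator P ⊓ Subgroup.upperCentralSeries P 2 ≤ center P) :
    commutator P ≤ center P := by
  by_contra hne
  set q := QuotientGroup.mk' (center P)
  have hn : ((commutator P).map q) ≠ ⊥ := by
    rw [Ne, Subgroup.map_eq_bot_iff, QuotientGroup.ker_mk']; exact hne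
  haveI : ((commutator P).map q).Normal :=
    Subgroup.Normal.map inferInstance _ (QuotientGroup.mk'_surjective _)
  obtain ⟨⟨_, ⟨y, hy, rfl⟩, hyc⟩, hy1⟩ := Subgroup.ne_bot_iff_exists_ne_one.1
    (CfsgLib.Solvable.normal_inf_center_ne_bot _ hn)
  have hy2 : y ∈ Subgroup.upperCentralSeries P 2 := Subgroup.mem_upperCentralSeries_succ_iff.2 fun w => by
    rw [Subgroup.upperCentralSeries_one, ← QuotientGroup.eq_one_iff, ← QuotientGroup.mk'_apply,
      map_commutatorElement, commutatorElement_eq_one_iff_mul_comm]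
    exact (mem_center_iff.1 hyc (q w)).symm
  exact hy1 (Subtype.ext ((QuotientGroup.eq_one_iff y).2 (h ⟨hy, hy2⟩)))

omit [Finite P] in
/-- In class two and exponent four, commutators square to one. -/
theorem sq_commutator_eq_one (h4 : ∀ x : P, x ^ 4 = 1)
    (hc : ∀ x y : P, ⁅x, y⁆ ∈ center P) (x y : P) : ⁅y, x⁆ ^ 2 = 1 := by
  set k := ⁅y, x⁆ with hk
  have hkc : ∀ w, w * k = k * w := mem_center_iff.1 (hc y x)
  have hyx : y * x = k * (x * y) := by rw [hk, commutatorElement_def]; group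
  have hp2 : (x * y) ^ 2 = k * (x ^ 2 * y ^ 2) := by
    calc (x * y) ^ 2 = x * (y * x) * y := by rw [pow_two]; group
      _ = x * (k * (x * y)) * y := by rw [hyx]
      _ = k * (x ^ 2 * y ^ 2) := by
        rw [← mul_assoc x, hkc x, pow_two, pow_two]; group
  have hyx' : ∀ n : ℕ, y * x ^ n = k ^ n * (x ^ n * y) := by
    intro n
    induction n with
    | zero => simp
    | succ n ih =>
      calc y * x ^ (n + 1) = (y * x ^ n) * x := by rw [pow_succ, mul_assoc]
        _ = k ^ n * x ^ n * (y * x) := by rw [ih]; group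
        _ = k ^ n * (x ^ n * k) * (x * y) := by rw [hyx]; group
        _ = k ^ n * (k * x ^ n) * (x * y) := by rw [hkc]
        _ = k ^ (n + 1) * (x ^ (n + 1) * y) := by rw [pow_succ k, pow_succ x]; group
  have hyx2 : y ^ 2 * x ^ 2 = x ^ 2 * y ^ 2 := by
    calc y ^ 2 * x ^ 2 = y * (y * x ^ 2) := by rw [pow_two y, mul_assoc]
      _ = (y * k ^ 2) * (x ^ 2 * y) := by rw [hyx' 2]; group
      _ = (k ^ 2 * y) * (x ^ 2 * y) := by
        rw [show Commute y (k ^ 2) from (show Commute y k from hkc y).pow_right 2]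
      _ = k ^ 2 * ((y * x ^ 2) * y) := by group
      _ = k ^ 2 * ((k ^ 2 * (x ^ 2 * y)) * y) := by rw [hyx' 2]
      _ = k ^ 4 * (x ^ 2 * (y * y)) := by group
      _ = _ := by rw [h4, one_mul, pow_two y]
  have h := h4 (x * y)
  rw [show (4 : ℕ) = 2 * 2 from rfl, pow_mul, hp2,
    (show Commute k (x ^ 2 * y ^ 2) from (hkc _).symm).mul_pow] at h
  have h' : (x ^ 2 * y ^ 2) ^ 2 = 1 := by
    calc (x ^ 2 * y ^ 2) ^ 2 = x ^ 2 * (y ^ 2 * x ^ 2) * y ^ 2 := by rw [pow_two]; group
      _ = x ^ 2 * (x ^ 2 * y ^ 2) * y ^ 2 := by rw [hyx2]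
      _ = x ^ 4 * y ^ 4 := by group
      _ = 1 := by rw [h4, h4, one_mul]
  rwa [h', mul_one] at h

omit [Finite P] in
/-- A characteristic subgroup of a group of symplectic type is of symplectic type. -/
theorem symplectic_of_characteristic (h : Cfsg.IsOfSymplecticType P) (R : Subgroup P)
    [R.Characteristic] : Cfsg.IsOfSymplecticType R := by
  refine ⟨h.1.to_subgroup R, fun A hA hAc => ?_⟩
  haveI := hA
  haveI := hAc
  have : IsCyclic (A.map R.subtype) := h.2 _ inferInstance inferInstance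
  exact (A.equivMapOfInjective _ R.subtype_injective).isCyclic.2 this

/-- A 2-group of symplectic type and exponent at most four has class at most two. -/
theorem symplectic_commutator_le_center (h : Cfsg.IsOfSymplecticType P)
    (h4 : ∀ x : P, x ^ 4 = 1) : commutator P ≤ center P := by
  haveI : Fact (Nat.Prime 2) := ⟨Nat.prime_two⟩
  haveI : Group.IsNilpotent P := h.1.isNilpotent
  set Y := commutator P ⊓ Subgroup.upperCentralSeries P 2 with hY
  refine commutator_le_center_of_inf ?_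
  rw [← hY]
  by_contra hYc
  haveI hYcomm : IsMulCommutative Y := ⟨⟨fun a b => Subtype.ext (mem_centralizer_iff.1
    (commutator_le_centralizer_upperCentralSeries_two (mem_inf.1 b.2).1) a (mem_inf.1 a.2).2)⟩⟩
  haveI hYcyc : IsCyclic Y := h.2 Y inferInstance hYcomm
  obtain ⟨⟨c, hcY⟩, hcgen⟩ := IsCyclic.exists_generator (α := Y)
  have hYz : Y = zpowers c := by
    refine le_antisymm (fun x hx => ?_) (zpowers_le.2 hcY)
    obtain ⟨i, hi⟩ := mem_zpowers_iff.1 (hcgen ⟨x, hx⟩)
    exact mem_zpowers_iff.2 ⟨i, congrArg Subtype.val hi⟩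
  have hconjY : ∀ s : P, s * c * s⁻¹ ∈ zpowers c := fun s =>
    hYz ▸ Subgroup.Normal.conj_mem inferInstance c hcY s
  have hcases : ∀ w ∈ zpowers c, w = 1 ∨ w = c ∨ w = c ^ 2 ∨ w = c ^ 3 := by
    intro w hw
    obtain ⟨i, rfl⟩ := mem_zpowers_iff.1 hw
    have hi : c ^ i = c ^ (i % 4) := by
      conv_lhs => rw [show i = i % 4 + 4 * (i / 4) by omega]
      rw [zpow_add, zpow_mul, show c ^ (4 : ℤ) = 1 from (zpow_natCast c 4).trans (h4 c), one_zpow,
        mul_one]
    rcases (by omega : i % 4 = 0 ∨ i % 4 = 1 ∨ i % 4 = 2 ∨ i % 4 = 3) with e | e | e | e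
    · left; rw [hi, e, zpow_zero]
    · right; left; rw [hi, e, zpow_one]
    · right; right; left; rw [hi, e]; exact zpow_natCast c 2
    · right; right; right; rw [hi, e]; exact zpow_natCast c 3
  -- elements outside the centralizer invert `c`
  have hinv : ∀ s : P, s * c ≠ c * s → s * c * s⁻¹ = c ^ 3 := by
    intro s hs
    have hs1 : s * c * s⁻¹ ≠ c := fun e => hs (by conv_rhs => rw [← e, inv_mul_cancel_right])
    rcases hcases _ (hconjY s) with e | e | e | e
    · rw [conj_eq_one_iff] at e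
      subst e
      exact absurd (by rw [mul_one, one_mul]) hs
    · exact absurd e hs1
    · exfalso
      have e2 : (s * c * s⁻¹) ^ 2 = 1 := by rw [e, ← pow_mul, h4]
      rw [conj_pow, conj_eq_one_iff] at e2
      rw [e2, conj_eq_one_iff] at e
      subst e
      exact hs1 (by simp)
    · exact e
  obtain ⟨s, hs⟩ : ∃ s : P, s * c ≠ c * s := by
    by_contra! hall
    refine hYc (hYz ▸ zpowers_le.2 (mem_center_iff.2 hall))
  have hc2 : c ^ 2 ≠ 1 := by
    intro e
    apply hs
    have e3 := hinv s hs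
    rw [show (3 : ℕ) = 2 + 1 from rfl, pow_succ, e, one_mul] at e3
    conv_rhs => rw [← e3, inv_mul_cancel_right]
  set R := centralizer (Y : Set P) with hR
  have hmemR : ∀ r : P, r ∈ R ↔ r * c = c * r := by
    intro r
    rw [hR, hYz, zpowers_eq_closure, centralizer_closure, mem_centralizer_singleton_iff]
  have hsR : s ∉ R := fun e => hs ((hmemR s).1 e)
  have htwo : ∀ t, t ∉ R → s⁻¹ * t ∈ R := by
    intro t ht
    rw [hmemR]
    have h1 := hinv t fun e => ht ((hmemR t).2 e)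
    have h2 := hinv s hs
    have h3 : t * c * t⁻¹ = s * c * s⁻¹ := h1.trans h2.symm
    calc s⁻¹ * t * c = s⁻¹ * (t * c * t⁻¹) * t := by group
      _ = s⁻¹ * (s * c * s⁻¹) * t := by rw [h3]
      _ = c * (s⁻¹ * t) := by group
  have hcR : c ∈ R := (hmemR c).2 rfl
  -- the centre of `R` is `⟨c⟩`
  have hZR : ∀ r ∈ R, (∀ w ∈ R, w * r = r * w) → r ∈ zpowers c := by
    intro r hr hall
    set A := R ⊓ centralizer (R : Set P) with hA
    haveI : IsMulCommutative A := ⟨⟨fun a b => Subtype.ext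
      (mem_centralizer_iff.1 (mem_inf.1 b.2).2 a (mem_inf.1 a.2).1)⟩⟩
    haveI : IsCyclic A := h.2 A inferInstance inferInstance
    have hcA : zpowers c ≤ A := zpowers_le.2 (mem_inf.2 ⟨hcR, mem_centralizer_iff.2 fun w hw =>
      (hmemR w).1 hw⟩)
    have hcard : Nat.card A ≤ Nat.card (zpowers c) := by
      obtain ⟨⟨a, ha⟩, hag⟩ := IsCyclic.exists_generator (α := A)
      have hAle : Nat.card A ≤ 4 := by
        rw [← orderOf_eq_card_of_forall_mem_zpowers hag, Subgroup.orderOf_mk]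
        exact Nat.le_of_dvd (by norm_num) (orderOf_dvd_of_pow_eq_one (h4 a))
      refine hAle.trans (le_of_eq ?_)
      rw [Nat.card_zpowers]
      exact (orderOf_eq_prime_pow (p := 2) (n := 1) (by simpa using hc2) (by simpa using h4 c)).symm
    rw [eq_of_le_of_card_ge hcA hcard]
    exact mem_inf.2 ⟨hr, mem_centralizer_iff.2 hall⟩
  -- `R` has class two
  have hRsymp := symplectic_of_characteristic h R
  haveI : Group.IsNilpotent R := (h.1.to_subgroup R).isNilpotent
  have hRclass : commutator R ≤ center R := by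
    refine commutator_le_center_of_inf ?_
    set YR := commutator R ⊓ Subgroup.upperCentralSeries R 2 with hYR
    have hYRc : ∀ a ∈ YR, ∀ b ∈ YR, a * b = b * a := fun a ha b hb =>
      mem_centralizer_iff.1 (commutator_le_centralizer_upperCentralSeries_two (mem_inf.1 hb).1)
        a (mem_inf.1 ha).2
    set A := YR.map R.subtype ⊔ Y with hA
    have hAR : A ≤ R := sup_le (map_subtype_le _) (hYz ▸ zpowers_le.2 hcR)
    haveI : IsMulCommutative A := by
      rw [hA, hYz, show YR.map R.subtype ⊔ zpowers c =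
        closure (((YR.map R.subtype : Subgroup P) : Set P) ∪ {c}) by
          rw [Subgroup.closure_union, Subgroup.closure_eq, zpowers_eq_closure]]
      refine isMulCommutative_closure ?_
      rintro x (⟨a, ha, rfl⟩ | rfl) y (⟨b, hb, rfl⟩ | rfl)
      · exact congrArg Subtype.val (hYRc a ha b hb)
      · exact (hmemR _).1 a.2
      · exact ((hmemR _).1 b.2).symm
      · rfl
    haveI : IsCyclic A := h.2 A inferInstance inferInstance
    intro a ha
    have haA : (a : P) ∈ A := mem_sup_left ⟨a, ha, rfl⟩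
    have hcA : zpowers c ≤ A := hYz ▸ (le_sup_right : Y ≤ A)
    have hcard : Nat.card A ≤ Nat.card (zpowers c) := by
      obtain ⟨⟨b, hb⟩, hbg⟩ := IsCyclic.exists_generator (α := A)
      have hAle : Nat.card A ≤ 4 := by
        rw [← orderOf_eq_card_of_forall_mem_zpowers hbg, Subgroup.orderOf_mk]
        exact Nat.le_of_dvd (by norm_num) (orderOf_dvd_of_pow_eq_one (h4 b))
      refine hAle.trans (le_of_eq ?_)
      rw [Nat.card_zpowers]
      exact (orderOf_eq_prime_pow (p := 2) (n := 1) (by simpa using hc2) (by simpa using h4 c)).symm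
    rw [← eq_of_le_of_card_ge hcA hcard] at haA
    obtain ⟨i, hi⟩ := mem_zpowers_iff.1 haA
    refine mem_center_iff.2 fun w => Subtype.ext ?_
    show (w : P) * a = a * w
    rw [← hi]
    exact Commute.zpow_right ((hmemR _).1 w.2) i
  have hRcen : ∀ x y : R, ⁅x, y⁆ ∈ center R := fun x y =>
    hRclass (_root_.commutator_def R ▸ commutator_mem_commutator (mem_top x) (mem_top y))
  have h4R : ∀ x : R, x ^ 4 = 1 := fun x => Subtype.ext (h4 x)
  set N := zpowers (c ^ 2) with hN
  have hNmem : ∀ w ∈ R, (∀ v ∈ R, v * w = w * v) → w ^ 2 = 1 → w ∈ N := by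
    intro w hw hall hw2
    rcases hcases w (hZR w hw hall) with e | e | e | e
    · exact e ▸ one_mem _
    · exact absurd (e ▸ hw2) hc2
    · exact e ▸ mem_zpowers _
    · rw [e, ← pow_mul, show 3 * 2 = 4 + 2 from rfl, pow_add, h4, one_mul] at hw2
      exact absurd hw2 hc2
  have hcN : ∀ x ∈ R, ∀ y ∈ R, ⁅x, y⁆ ∈ N := by
    intro x hx y hy
    refine hNmem _ ?_ (fun v hv => ?_) ?_
    · exact mul_mem (mul_mem (mul_mem hx hy) (inv_mem hx)) (inv_mem hy)
    · exact congrArg Subtype.val (mem_center_iff.1 (hRcen ⟨x, hx⟩ ⟨y, hy⟩) ⟨v, hv⟩)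
    · exact congrArg Subtype.val (sq_commutator_eq_one h4R hRcen ⟨y, hy⟩ ⟨x, hx⟩)
  have hsqR : ∀ x ∈ R, x ^ 2 ∈ N := by
    intro x hx
    refine hNmem _ (pow_mem hx 2) (fun v hv => ?_) ?_
    · have hk := mem_center_iff.1 (hRcen ⟨v, hv⟩ ⟨x, hx⟩)
      have h2 := sq_commutator_eq_one h4R hRcen ⟨x, hx⟩ ⟨v, hv⟩
      set k := ⁅(⟨v, hv⟩ : R), (⟨x, hx⟩ : R)⁆ with hkdef
      have e : (⟨v, hv⟩ : R) * ⟨x, hx⟩ ^ 2 = k ^ 2 * (⟨x, hx⟩ ^ 2 * ⟨v, hv⟩) := by
        have hvx : (⟨v, hv⟩ : R) * ⟨x, hx⟩ = k * (⟨x, hx⟩ * ⟨v, hv⟩) := by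
          rw [hkdef, commutatorElement_def]; group
        calc (⟨v, hv⟩ : R) * ⟨x, hx⟩ ^ 2 = ((⟨v, hv⟩ : R) * ⟨x, hx⟩) * ⟨x, hx⟩ := by
              rw [pow_two, mul_assoc]
          _ = k * (⟨x, hx⟩ * ((⟨v, hv⟩ : R) * ⟨x, hx⟩)) := by
              conv_lhs => rw [hvx]
              group
          _ = k * ((⟨x, hx⟩ * k) * (⟨x, hx⟩ * ⟨v, hv⟩)) := by
              conv_lhs => rw [hvx]
              group
          _ = k * ((k * ⟨x, hx⟩) * (⟨x, hx⟩ * ⟨v, hv⟩)) := by rw [hk]
          _ = _ := by rw [pow_two, pow_two]; group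
      rw [h2, one_mul] at e
      exact congrArg Subtype.val e
    · rw [← pow_mul, h4]
  -- the commutator with `s` modulo `N`
  haveI hNn : N.Normal := by
    refine ⟨fun w hw v => ?_⟩
    obtain ⟨i, rfl⟩ := mem_zpowers_iff.1 hw
    rw [← conj_zpow]
    refine zpow_mem ?_ i
    rw [← conj_pow]
    by_cases hv : v * c = c * v
    · rw [hv, mul_inv_cancel_right]; exact mem_zpowers _
    · rw [hinv v hv, ← pow_mul]
      exact (pow_mul' c 3 2) ▸ pow_mem (mem_zpowers _) 3
  have hconjR : ∀ v : P, ∀ w ∈ R, v * w * v⁻¹ ∈ R := fun v w hw =>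
    Subgroup.Normal.conj_mem inferInstance w hw v
  set q := QuotientGroup.mk' N with hq
  have hqcomm : ∀ x ∈ R, ∀ y ∈ R, Commute (q x) (q y) := by
    intro x hx y hy
    show q x * q y = q y * q x
    rw [← commutatorElement_eq_one_iff_mul_comm, ← map_commutatorElement]
    exact (QuotientGroup.eq_one_iff _).2 (hcN x hx y hy)
  let ψ : R →* P ⧸ N :=
    { toFun := fun x => q (s * x * s⁻¹) * (q x)⁻¹
      map_one' := by simp
      map_mul' := fun x y => by
        have h1 : Commute (q (s * y * s⁻¹)) (q x)⁻¹ := (hqcomm _ (hconjR s y y.2) _ x.2).inv_right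
        have h2 : Commute (q x)⁻¹ (q y)⁻¹ := (hqcomm _ x.2 _ y.2).inv_inv
        calc q (s * ((x * y : R) : P) * s⁻¹) * (q ((x * y : R) : P))⁻¹
            = q (s * x * s⁻¹) * q (s * y * s⁻¹) * ((q y)⁻¹ * (q x)⁻¹) := by
              rw [← map_mul, Subgroup.coe_mul, map_mul q (x : P) (y : P), mul_inv_rev]
              congr 2; group
          _ = q (s * x * s⁻¹) * (q (s * y * s⁻¹) * (q x)⁻¹) * (q y)⁻¹ := by
              rw [← h2.eq]; group
          _ = _ := by rw [h1.eq]; group }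
  have hψval : ∀ x (hx : x ∈ R), ψ ⟨x, hx⟩ = q (s * x * s⁻¹) * (q x)⁻¹ := fun _ _ => rfl
  -- `s` normalizes the image
  have hψs : ∀ w ∈ ψ.range, q s * w * (q s)⁻¹ ∈ ψ.range := by
    rintro _ ⟨x, rfl⟩
    refine ⟨⟨s * x * s⁻¹, hconjR s x x.2⟩, ?_⟩
    rw [hψval, show ψ x = q (s * x * s⁻¹) * (q x)⁻¹ from rfl]
    simp only [map_mul, map_inv]
    group
  have hgen : ∀ a b : P, q ⁅a, b⁆ ∈ ψ.range := by
    have hRR : ∀ a ∈ R, ∀ b ∈ R, q ⁅a, b⁆ = 1 := fun a ha b hb =>
      (QuotientGroup.eq_one_iff _).2 (hcN a ha b hb)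
    have hsr : ∀ r ∈ R, ∀ b ∈ R, q ⁅s * r, b⁆ ∈ ψ.range := by
      intro r hr b hb
      refine ⟨⟨b, hb⟩, ?_⟩
      rw [hψval, commutatorElement_def]
      have h1 := hqcomm r hr b hb
      calc q (s * b * s⁻¹) * (q b)⁻¹ = q s * q b * (q s)⁻¹ * (q b)⁻¹ := by simp only [map_mul, map_inv]
        _ = q s * (q r * q b * (q r)⁻¹) * (q s)⁻¹ * (q b)⁻¹ := by
            rw [h1.eq, mul_inv_cancel_right]
        _ = _ := by simp only [map_mul, map_inv, mul_inv_rev]; group
    intro a b
    by_cases ha : a ∈ R <;> by_cases hb : b ∈ R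
    · rw [hRR a ha b hb]; exact one_mem _
    · rw [← commutatorElement_inv b a, map_inv]
      refine inv_mem ?_
      rw [show b = s * (s⁻¹ * b) by group]
      exact hsr _ (htwo b hb) a ha
    · rw [show a = s * (s⁻¹ * a) by group]
      exact hsr _ (htwo a ha) b hb
    · set r := s⁻¹ * a with hr
      set r' := s⁻¹ * b with hr'
      have hrR : r ∈ R := htwo a ha
      have hr'R : r' ∈ R := htwo b hb
      have hd : r' * r⁻¹ ∈ R := mul_mem hr'R (inv_mem hrR)
      have key : q ⁅s * r, s * r'⁆ =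
          q s * (q (s * (r' * r⁻¹) * s⁻¹) * (q (r' * r⁻¹))⁻¹) * (q s)⁻¹ := by
        have h1 : Commute (q r) (q (s * (r' * r⁻¹) * s⁻¹)) := hqcomm _ hrR _ (hconjR s _ hd)
        calc q ⁅s * r, s * r'⁆
            = q s * ((q r * q (s * (r' * r⁻¹) * s⁻¹)) * (q r')⁻¹) * (q s)⁻¹ := by
              simp only [commutatorElement_def, map_mul, map_inv, mul_inv_rev]; group
          _ = q s * ((q (s * (r' * r⁻¹) * s⁻¹) * q r) * (q r')⁻¹) * (q s)⁻¹ := by rw [h1.eq]
          _ = _ := by simp only [map_mul, map_inv, mul_inv_rev]; group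
      rw [show a = s * r by rw [hr]; group, show b = s * r' by rw [hr']; group, key]
      exact hψs _ ⟨⟨_, hd⟩, hψval _ hd⟩
  have hsub : commutator P ≤ ψ.range.comap q := by
    rw [_root_.commutator_def]
    exact commutator_le.2 fun a _ b _ => hgen a b
  obtain ⟨⟨x, hx⟩, hxc⟩ := hsub (hY.le.trans inf_le_left hcY)
  rw [hψval, ← map_inv, ← map_mul] at hxc
  obtain ⟨n, hn, hxn⟩ : ∃ n ∈ N, s * x * s⁻¹ = c * n * x := by
    refine ⟨c⁻¹ * (s * x * s⁻¹ * x⁻¹), QuotientGroup.eq.1 hxc.symm, by group⟩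
  have hnsq : n ^ 2 = 1 ∧ Commute n c ∧ Commute n x := by
    obtain ⟨i, rfl⟩ := mem_zpowers_iff.1 hn
    refine ⟨?_, ?_, ?_⟩
    · rw [← zpow_natCast, ← zpow_mul, mul_comm, zpow_mul, zpow_natCast, ← pow_mul, h4, one_zpow]
    · exact ((Commute.refl c).pow_left 2).zpow_left i
    · exact (((show Commute c x from ((hmemR x).1 hx).symm)).pow_left 2).zpow_left i
  have hfix : s * x ^ 2 * s⁻¹ = x ^ 2 := by
    obtain ⟨i, hi⟩ := mem_zpowers_iff.1 (hsqR x hx)
    rw [← hi, ← conj_zpow, ← conj_pow, hinv s hs, ← pow_mul, show 3 * 2 = 4 + 2 from rfl, pow_add,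
      h4, one_mul]
  have hcalc : s * x ^ 2 * s⁻¹ = c ^ 2 * x ^ 2 := by
    rw [← conj_pow, hxn]
    have hcx : Commute c x := ((hmemR x).1 hx).symm
    rw [(hcx.mul_left hnsq.2.2).mul_pow, hnsq.2.1.symm.mul_pow, hnsq.1, mul_one]
  rw [hfix] at hcalc
  exact hc2 (right_eq_mul.1 hcalc)

end CfsgLib.ClassK
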