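import Cfsg.Agent.Lib.Comp.Local
import Cfsg.Agent.Lib.Solvable.PCore
import Cfsg.Agent.Lib.ClassK.Symplectic
import Mathlib.Tactic

/-!
# An involution `z` with `Q = O₂(C(z))` of symplectic type and exponent four, and a conjugate in `Q`
-/

namespace CfsgLib.ClassK

open Subgroup
open scoped commutatorElement

variable {G : Type*} [Group G] [Finite G]

theorem card_mul_relIndex {A B : Subgroup G} (h : A ≤ B) :
    Nat.card A * A.relIndex B = Nat.card B := by
  have := relIndex_mul_relIndex ⊥ A B bot_le h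
  rwa [relIndex_bot_left, relIndex_bot_left] at this

theorem card_le_of_card_le_two {A B : Subgroup G} (hAB : A ≤ B)
    (h : Nat.card B ≤ 2 * Nat.card A) {a b : G} (ha : a ∈ B) (ha' : a ∉ A) (hb : b ∈ B)
    (hb' : b ∉ A) : a * b⁻¹ ∈ A := by
  have h2 : A.relIndex B = 2 := by
    have h1 := card_mul_relIndex hAB
    have h3 : A.relIndex B ≠ 1 := fun e => ha' (relIndex_eq_one.1 e ha)
    have h4 : A.relIndex B ≠ 0 := FiniteIndex.index_ne_zero
    have h5 : A.relIndex B ≤ 2 := by
      have : Nat.card A * A.relIndex B ≤ Nat.card A * 2 := by omega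
      exact Nat.le_of_mul_le_mul_left this Nat.card_pos
    omega
  have := (mul_mem_iff_of_index_two (H := A.subgroupOf B) h2 (a := ⟨a, ha⟩) (b := ⟨b, hb⟩⁻¹)).2
    (by simp [mem_subgroupOf, ha', hb'])
  exact this

/-- The hypotheses: `Q` is the largest normal 2-subgroup of `C(z)`, contains its centralizer, has
cyclic centre, commutators in `⟨z⟩`, central squares and exponent four. -/
structure SympSetting (Q : Subgroup G) (z : G) : Prop where
  sq_z : z ^ 2 = 1
  ne_one : z ≠ 1
  mem : z ∈ Q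
  le_centralizer : Q ≤ centralizer ({z} : Set G)
  le_normalizer : centralizer ({z} : Set G) ≤ normalizer (Q : Set G)
  self : centralizer (Q : Set G) ≤ Q
  maximal : ∀ N : Subgroup G, N ≤ centralizer ({z} : Set G) →
    centralizer ({z} : Set G) ≤ normalizer (N : Set G) → IsPGroup 2 N → N ≤ Q
  isPGroup : IsPGroup 2 Q
  comm_mem : ∀ q ∈ Q, ∀ r ∈ Q, ⁅q, r⁆ ∈ zpowers z
  sq_mem : ∀ q ∈ Q, q ^ 2 ∈ centralizer (Q : Set G)
  pow_four : ∀ q ∈ Q, q ^ 4 = 1
  cyclic : IsCyclic (centralizer (Q : Set G))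

namespace SympSetting

variable {Q : Subgroup G} {z : G} (S : SympSetting Q z)
include S

theorem commute_z {q : G} (hq : q ∈ Q) : Commute q z :=
  mem_centralizer_singleton_iff.1 (S.le_centralizer hq)

theorem z_mem_center : z ∈ centralizer (Q : Set G) :=
  mem_centralizer_iff.2 fun _ hq => (S.commute_z hq).eq

theorem zpowers_le_center : zpowers z ≤ centralizer (Q : Set G) :=
  zpowers_le.2 S.z_mem_center

theorem mem_zpowers_cases {w : G} (hw : w ∈ zpowers z) : w = 1 ∨ w = z := by
  obtain ⟨i, rfl⟩ := mem_zpowers_iff.1 hw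
  rcases Int.even_or_odd' i with ⟨k, rfl | rfl⟩
  · left; rw [zpow_mul, zpow_two, ← pow_two, S.sq_z, one_zpow]
  · right; rw [zpow_add, zpow_mul, zpow_two, ← pow_two, S.sq_z, one_zpow, one_mul, zpow_one]

theorem card_zpowers : Nat.card (zpowers z) = 2 := by
  haveI : Fact (Nat.Prime 2) := ⟨Nat.prime_two⟩
  rw [Nat.card_zpowers, orderOf_eq_prime S.sq_z S.ne_one]

theorem inv_z : z⁻¹ = z := inv_eq_of_mul_eq_one_right (by rw [← pow_two, S.sq_z])

theorem involution_mem_zpowers {x : G} (hx : x ∈ centralizer (Q : Set G)) (hx2 : x ^ 2 = 1) :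
    x ∈ zpowers z := by
  classical
  by_contra hne
  haveI := S.cyclic
  haveI := Fintype.ofFinite (centralizer (Q : Set G))
  have h := IsCyclic.card_pow_eq_one_le (α := centralizer (Q : Set G)) (n := 2) two_pos
  have hx1 : x ≠ 1 := fun e => hne (e ▸ one_mem _)
  have hxz : x ≠ z := fun e => hne (e ▸ mem_zpowers z)
  have hsub : ({1, ⟨x, hx⟩, ⟨z, S.z_mem_center⟩} : Finset (centralizer (Q : Set G))) ⊆
      Finset.univ.filter (fun a => a ^ 2 = 1) := by
    intro a ha
    simp only [Finset.mem_insert, Finset.mem_singleton] at ha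
    rcases ha with rfl | rfl | rfl
    · simp
    · simp only [Finset.mem_filter, Finset.mem_univ, true_and]
      exact Subtype.ext hx2
    · simp only [Finset.mem_filter, Finset.mem_univ, true_and]
      exact Subtype.ext S.sq_z
  have := (Finset.card_le_card hsub).trans h
  rw [Finset.card_insert_of_notMem, Finset.card_pair] at this
  · omega
  · exact fun e => hxz (congrArg Subtype.val e)
  · simp only [Finset.mem_insert, Finset.mem_singleton, not_or]
    exact ⟨fun e => hx1 (congrArg Subtype.val e).symm,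
      fun e => S.ne_one (congrArg Subtype.val e).symm⟩

theorem card_center_le : Nat.card (centralizer (Q : Set G)) ≤ 4 := by
  haveI := S.cyclic
  obtain ⟨⟨a, ha⟩, hag⟩ := IsCyclic.exists_generator (α := centralizer (Q : Set G))
  rw [← orderOf_eq_card_of_forall_mem_zpowers hag, Subgroup.orderOf_mk]
  exact Nat.le_of_dvd (by norm_num) (orderOf_dvd_of_pow_eq_one (S.pow_four a (S.self ha)))

theorem comm_commute {q r w : G} (hq : q ∈ Q) (hr : r ∈ Q) (hw : w ∈ Q) : Commute w ⁅q, r⁆ :=
  mem_centralizer_iff.1 (S.zpowers_le_center (S.comm_mem q hq r hr)) w hw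

theorem comm_mul_left {d w r : G} (hd : d ∈ Q) (hw : w ∈ Q) (hr : r ∈ Q) :
    ⁅d * w, r⁆ = ⁅d, r⁆ * ⁅w, r⁆ := by
  calc ⁅d * w, r⁆ = d * ⁅w, r⁆ * d⁻¹ * ⁅d, r⁆ := by simp only [commutatorElement_def]; group
    _ = ⁅w, r⁆ * ⁅d, r⁆ := by rw [(S.comm_commute hw hr hd).eq, mul_inv_cancel_right]
    _ = _ := (S.comm_commute hw hr (mul_mem (mul_mem (mul_mem hd hr) (inv_mem hd)) (inv_mem hr))).eq.symm

theorem conj_comm {a w r : G} (ha : a ∈ centralizer ({z} : Set G)) (hw : w ∈ Q) (hr : r ∈ Q) :
    a * ⁅w, r⁆ * a⁻¹ = ⁅w, r⁆ := by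
  have hc : Commute a z := mem_centralizer_singleton_iff.1 ha
  rcases S.mem_zpowers_cases (S.comm_mem w hw r hr) with e | e <;> rw [e]
  · rw [mul_one, mul_inv_cancel]
  · rw [hc.eq, mul_inv_cancel_right]

theorem comm_mem_of_mem {a w : G} (ha : a ∈ centralizer ({z} : Set G)) (hw : w ∈ Q) :
    ⁅a, w⁆ ∈ Q :=
  mul_mem ((mem_normalizer_iff.1 (S.le_normalizer ha) w).1 hw) (inv_mem hw)

/-- Invariance of the commutator form. -/
theorem comm_comm_eq_one {a w r : G} (ha : a ∈ centralizer ({z} : Set G)) (hw : w ∈ Q)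
    (hr : r ∈ Q) (har : ⁅a, r⁆ ∈ centralizer (Q : Set G)) : Commute r ⁅a, w⁆ := by
  set d := ⁅a, w⁆ with hd
  have hdQ : d ∈ Q := S.comm_mem_of_mem ha hw
  have h1 : ⁅w, r⁆ = ⁅d * w, r⁆ := by
    conv_lhs => rw [← S.conj_comm ha hw hr]
    have hwa : a * w * a⁻¹ = d * w := by rw [hd, commutatorElement_def]; group
    have hra : a * r * a⁻¹ = ⁅a, r⁆ * r := by rw [commutatorElement_def]; group
    calc a * ⁅w, r⁆ * a⁻¹ = ⁅a * w * a⁻¹, a * r * a⁻¹⁆ := by
          simp only [commutatorElement_def]; group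
      _ = ⁅d * w, ⁅a, r⁆ * r⁆ := by rw [hwa, hra]
      _ = _ := by
        have hs : Commute (d * w) ⁅a, r⁆ := mem_centralizer_iff.1 har _ (mul_mem hdQ hw)
        have hs2 : Commute r ⁅a, r⁆ := mem_centralizer_iff.1 har r hr
        generalize ⁅a, r⁆ = s at hs hs2 ⊢
        generalize d * w = v at hs ⊢
        calc ⁅v, s * r⁆ = (v * s) * r * v⁻¹ * r⁻¹ * s⁻¹ := by
              simp only [commutatorElement_def]; group
          _ = s * ⁅v, r⁆ * s⁻¹ := by rw [hs.eq]; simp only [commutatorElement_def]; group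
          _ = ⁅v, r⁆ := by
            have h3 : Commute s ⁅v, r⁆ :=
              ((hs.symm.mul_right hs2.symm).mul_right hs.symm.inv_right).mul_right hs2.symm.inv_right
            rw [h3.eq, mul_inv_cancel_right]
  rw [S.comm_mul_left hdQ hw hr] at h1
  have h2 : ⁅d, r⁆ = 1 := right_eq_mul.1 h1
  exact (commutatorElement_eq_one_iff_mul_comm.1 h2).symm

theorem card_step {H : Subgroup G} {x : G} (hx : x ∈ Q) :
    Nat.card ↥(Q ⊓ centralizer (H : Set G)) ≤
      2 * Nat.card ↥(Q ⊓ centralizer ((H ⊔ zpowers x : Subgroup G) : Set G)) := by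
  set C := Q ⊓ centralizer (H : Set G) with hC
  set C' := Q ⊓ centralizer ((H ⊔ zpowers x : Subgroup G) : Set G) with hC'
  let φ : C →* zpowers z :=
    { toFun := fun c => ⟨⁅(c : G), x⁆, S.comm_mem c (mem_inf.1 c.2).1 x hx⟩
      map_one' := by ext; simp
      map_mul' := fun a b => Subtype.ext (S.comm_mul_left (mem_inf.1 a.2).1 (mem_inf.1 b.2).1 hx) }
  have hker : φ.ker ≤ C'.subgroupOf C := by
    intro c hc
    have h1 : ⁅(c : G), x⁆ = 1 := congrArg Subtype.val (MonoidHom.mem_ker.1 hc)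
    rw [commutatorElement_eq_one_iff_mul_comm] at h1
    refine mem_subgroupOf.2 (mem_inf.2 ⟨(mem_inf.1 c.2).1, ?_⟩)
    have hle : H ⊔ zpowers x ≤ centralizer ({(c : G)} : Set G) := sup_le
      (fun h hh => mem_centralizer_singleton_iff.2 (mem_centralizer_iff.1 (mem_inf.1 c.2).2 h hh))
      (zpowers_le.2 (mem_centralizer_singleton_iff.2 h1.symm))
    exact mem_centralizer_iff.2 fun h hh => mem_centralizer_singleton_iff.1 (hle hh)
  have hle : C' ≤ C := inf_le_inf_left Q (centralizer_le (SetLike.coe_subset_coe.2 le_sup_left))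
  calc Nat.card C = Nat.card φ.ker * Nat.card φ.range := by
        rw [← φ.ker.card_mul_index, index_ker]
    _ ≤ Nat.card C' * 2 := by
        refine Nat.mul_le_mul ?_ ?_
        · exact (Subgroup.card_le_of_le hker).trans
            (le_of_eq (Nat.card_congr (subgroupOfEquivOfLe hle).toEquiv))
        · exact (Nat.card_le_card_of_injective φ.range.subtype Subtype.val_injective).trans
            S.card_zpowers.le
    _ = _ := mul_comm _ _

theorem card_centralizer_mul_le {H : Subgroup G} (hH : H ≤ Q) :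
    Nat.card ↥(Q ⊓ centralizer (H : Set G)) * Nat.card H ≤
      Nat.card Q * Nat.card (centralizer (Q : Set G)) := by
  induction H using WellFoundedGT.induction with
  | ind H ih =>
    rcases eq_or_lt_of_le hH with rfl | hlt
    · rw [inf_eq_right.2 S.self, mul_comm]
    obtain ⟨x, hxQ, hxH⟩ := SetLike.exists_of_lt hlt
    have hHH' : H < H ⊔ zpowers x :=
      lt_of_le_of_ne le_sup_left fun h => hxH (h ▸ mem_sup_right (mem_zpowers x))
    have hih := ih _ hHH' (sup_le hH (zpowers_le.2 hxQ))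
    have h2 : 2 * Nat.card H ≤ Nat.card ↥(H ⊔ zpowers x) := by
      rw [← card_mul_relIndex hHH'.le, mul_comm]
      refine Nat.mul_le_mul_left _ ?_
      have h0 : H.relIndex (H ⊔ zpowers x) ≠ 0 := FiniteIndex.index_ne_zero
      have h1 : H.relIndex (H ⊔ zpowers x) ≠ 1 := fun h => hHH'.not_ge (relIndex_eq_one.1 h)
      omega
    calc Nat.card ↥(Q ⊓ centralizer (H : Set G)) * Nat.card H
        ≤ 2 * Nat.card ↥(Q ⊓ centralizer ((H ⊔ zpowers x : Subgroup G) : Set G)) * Nat.card H :=
          Nat.mul_le_mul_right _ (S.card_step hxQ)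
      _ = Nat.card ↥(Q ⊓ centralizer ((H ⊔ zpowers x : Subgroup G) : Set G)) * (2 * Nat.card H) := by
          ring
      _ ≤ _ := (Nat.mul_le_mul_left _ h2).trans hih

theorem le_card_centralizer_mul {H : Subgroup G} (hZH : centralizer (Q : Set G) ≤ H) (hH : H ≤ Q) :
    Nat.card Q * Nat.card (centralizer (Q : Set G)) ≤
      Nat.card ↥(Q ⊓ centralizer (H : Set G)) * Nat.card H := by
  induction H using WellFoundedLT.induction with
  | ind H ih =>
    rcases eq_or_lt_of_le hZH with heq | hlt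
    · rw [← heq, inf_eq_left.2 (le_centralizer_iff.1 le_rfl)]
    have hne : (centralizer (Q : Set G)).subgroupOf H ≠ ⊤ := fun h =>
      hlt.not_ge (subgroupOf_eq_top.1 h)
    obtain ⟨M, hM, hZM⟩ := (eq_top_or_exists_le_coatom _).resolve_left hne
    set M' := M.map H.subtype with hM'
    obtain ⟨⟨x, hx⟩, hxM⟩ : ∃ a : H, a ∉ M := by
      by_contra! h
      exact hM.1 (top_le_iff.1 fun x _ => h x)
    have hM'H : M' < H := lt_of_le_of_ne (map_subtype_le M) fun h => hxM (by
      have : x ∈ M' := h.symm ▸ hx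
      obtain ⟨b, hb, hba⟩ := this
      exact (Subtype.ext hba : b = ⟨x, hx⟩) ▸ hb)
    have hgen : M' ⊔ zpowers x = H := by
      refine le_antisymm (sup_le hM'H.le (zpowers_le.2 hx)) ?_
      have h1 : M ⊔ zpowers (⟨x, hx⟩ : H) = ⊤ :=
        hM.2 _ (lt_of_le_of_ne le_sup_left fun h => hxM (h ▸ mem_sup_right (mem_zpowers _)))
      have h2 := congrArg (Subgroup.map H.subtype) h1
      rw [Subgroup.map_sup, MonoidHom.map_zpowers, ← MonoidHom.range_eq_map, range_subtype] at h2
      exact h2.ge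
    have hih := ih M' hM'H ((map_subgroupOf_eq_of_le hZH).ge.trans (map_mono hZM))
      (hM'H.le.trans hH)
    have h2 : 2 * Nat.card M' ≤ Nat.card H := by
      rw [← card_mul_relIndex hM'H.le, mul_comm]
      refine Nat.mul_le_mul_left _ ?_
      have h0 : M'.relIndex H ≠ 0 := FiniteIndex.index_ne_zero
      have h1 : M'.relIndex H ≠ 1 := fun h => hM'H.not_ge (relIndex_eq_one.1 h)
      omega
    have hstep := S.card_step (H := M') (hH hx)
    rw [hgen] at hstep
    calc _ ≤ Nat.card ↥(Q ⊓ centralizer (M' : Set G)) * Nat.card M' := hih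
      _ ≤ 2 * Nat.card ↥(Q ⊓ centralizer (H : Set G)) * Nat.card M' := Nat.mul_le_mul_right _ hstep
      _ = Nat.card ↥(Q ⊓ centralizer (H : Set G)) * (2 * Nat.card M') := by ring
      _ ≤ _ := Nat.mul_le_mul_left _ h2

theorem card_centralizer_mul {H : Subgroup G} (hZH : centralizer (Q : Set G) ≤ H) (hH : H ≤ Q) :
    Nat.card ↥(Q ⊓ centralizer (H : Set G)) * Nat.card H =
      Nat.card Q * Nat.card (centralizer (Q : Set G)) :=
  le_antisymm (S.card_centralizer_mul_le hH) (S.le_card_centralizer_mul hZH hH)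

theorem double_centralizer {H : Subgroup G} (hZH : centralizer (Q : Set G) ≤ H) (hH : H ≤ Q) :
    Q ⊓ centralizer ((Q ⊓ centralizer (H : Set G) : Subgroup G) : Set G) = H := by
  have hle : H ≤ Q ⊓ centralizer ((Q ⊓ centralizer (H : Set G) : Subgroup G) : Set G) :=
    le_inf hH (le_centralizer_iff.1 inf_le_right)
  refine (eq_of_le_of_card_ge hle ?_).symm
  have h1 := S.card_centralizer_mul hZH hH
  have h2 := S.card_centralizer_mul (H := Q ⊓ centralizer (H : Set G))
    (le_inf S.self (centralizer_le hH)) inf_le_left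
  rw [← h1, mul_comm (Nat.card ↥(Q ⊓ centralizer (H : Set G))) (Nat.card H)] at h2
  exact (Nat.eq_of_mul_eq_mul_right Nat.card_pos h2).le

/-- Automorphisms centralizing the centre and `Q / ⟨z⟩` are inner. -/
theorem mem_of_comm_mem_zpowers {a : G} (ha : a ∈ centralizer ({z} : Set G))
    (haZ : ∀ s ∈ centralizer (Q : Set G), Commute a s)
    (h : ∀ w ∈ Q, ⁅a, w⁆ ∈ zpowers z) : a ∈ Q := by
  let φ : Q →* zpowers z :=
    { toFun := fun w => ⟨⁅a, (w : G)⁆, h w w.2⟩
      map_one' := by ext; simp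
      map_mul' := fun v w => by
        ext
        show ⁅a, (v : G) * w⁆ = ⁅a, (v : G)⁆ * ⁅a, (w : G)⁆
        have hc : Commute (v : G) ⁅a, (w : G)⁆ :=
          mem_centralizer_iff.1 (S.zpowers_le_center (h w w.2)) v v.2
        calc ⁅a, (v : G) * w⁆ = ⁅a, (v : G)⁆ * ((v : G) * ⁅a, (w : G)⁆ * (v : G)⁻¹) := by
              simp only [commutatorElement_def]; group
          _ = _ := by rw [hc.eq, mul_inv_cancel_right] }
  set H := φ.ker.map Q.subtype with hH
  have hHmem : ∀ w, w ∈ H ↔ w ∈ Q ∧ Commute a w := by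
    intro w
    constructor
    · rintro ⟨v, hv, rfl⟩
      exact ⟨v.2, commutatorElement_eq_one_iff_mul_comm.1 (congrArg Subtype.val hv)⟩
    · rintro ⟨hw, hc⟩
      exact ⟨⟨w, hw⟩, Subtype.ext (commutatorElement_eq_one_iff_mul_comm.2 hc.eq), rfl⟩
  have hHQ : H ≤ Q := map_subtype_le _
  have hZH : centralizer (Q : Set G) ≤ H := fun s hs => (hHmem s).2 ⟨S.self hs, haZ s hs⟩
  by_cases hQH : Q ≤ H
  · exact S.self (mem_centralizer_iff.2 fun w hw => ((hHmem w).1 (hQH hw)).2.eq.symm)
  obtain ⟨w₀, hw₀, hw₀H⟩ := SetLike.not_le_iff_exists.1 hQH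
  have hcard : Nat.card Q ≤ 2 * Nat.card H := by
    rw [hH, card_map_of_injective Q.subtype_injective, ← φ.ker.card_mul_index, index_ker, mul_comm]
    exact Nat.mul_le_mul_right _
      ((Nat.card_le_card_of_injective φ.range.subtype Subtype.val_injective).trans S.card_zpowers.le)
  obtain ⟨r, hr, hrZ⟩ : ∃ r ∈ Q ⊓ centralizer (H : Set G), r ∉ centralizer (Q : Set G) := by
    by_contra! hall
    have hle : Q ⊓ centralizer (H : Set G) = centralizer (Q : Set G) :=
      le_antisymm hall (le_inf S.self (centralizer_le hHQ))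
    have h1 := S.card_centralizer_mul hZH hHQ
    rw [hle, mul_comm (Nat.card Q)] at h1
    exact hw₀H ((eq_of_le_of_card_ge hHQ (Nat.eq_of_mul_eq_mul_left Nat.card_pos h1).ge) ▸ hw₀)
  have key : ∀ w ∈ Q, ⁅r, w⁆ = ⁅a, w⁆ := by
    intro w hw
    by_cases hwH : w ∈ H
    · rw [commutatorElement_eq_one_iff_mul_comm.2 ((hHmem w).1 hwH).2.eq,
        commutatorElement_eq_one_iff_mul_comm.2 (mem_centralizer_iff.1 hr.2 w hwH).symm]
    · have h1 : ⁅a, w⁆ = z := (S.mem_zpowers_cases (h w hw)).resolve_left fun e =>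
        hwH ((hHmem w).2 ⟨hw, commutatorElement_eq_one_iff_mul_comm.1 e⟩)
      have h2 : ⁅r, w⁆ = z := (S.mem_zpowers_cases (S.comm_mem r hr.1 w hw)).resolve_left fun e => by
        apply hrZ
        have hrw : Commute r w := commutatorElement_eq_one_iff_mul_comm.1 e
        refine mem_centralizer_iff.2 fun v hv => ?_
        by_cases hvH : v ∈ H
        · exact mem_centralizer_iff.1 hr.2 v hvH
        · have h3 : Commute r (v * w⁻¹) :=
            (mem_centralizer_iff.1 hr.2 _ (card_le_of_card_le_two hHQ hcard hv hvH hw hwH)).symm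
          have h4 := h3.mul_right hrw
          rw [inv_mul_cancel_right] at h4
          exact h4.eq.symm
      rw [h1, h2]
  have hmem : r⁻¹ * a ∈ centralizer (Q : Set G) := mem_centralizer_iff.2 fun w hw => by
    have h3 : r * w * r⁻¹ = a * w * a⁻¹ := by
      have := key w hw
      rw [commutatorElement_def, commutatorElement_def] at this
      exact mul_right_cancel this
    calc w * (r⁻¹ * a) = r⁻¹ * (r * w * r⁻¹) * a := by group
      _ = r⁻¹ * (a * w * a⁻¹) * a := by rw [h3]
      _ = r⁻¹ * a * w := by group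
  have := mul_mem hr.1 (S.self hmem)
  rwa [mul_inv_cancel_left] at this

omit S in
theorem centralizer_map_conj (g x : G) :
    (centralizer ({x} : Set G)).map (MulAut.conj g).toMonoidHom =
      centralizer ({g * x * g⁻¹} : Set G) := by
  ext y
  rw [mem_map_equiv, MulAut.conj_symm_apply, mem_centralizer_singleton_iff,
    mem_centralizer_singleton_iff]
  constructor
  · intro h
    calc y * (g * x * g⁻¹) = g * (g⁻¹ * y * g * x) * g⁻¹ := by group
      _ = g * (x * (g⁻¹ * y * g)) * g⁻¹ := by rw [h]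
      _ = _ := by group
  · intro h
    calc g⁻¹ * y * g * x = g⁻¹ * (y * (g * x * g⁻¹)) * g := by group
      _ = g⁻¹ * (g * x * g⁻¹ * y) * g := by rw [h]
      _ = _ := by group

theorem map_conj (g : G) :
    SympSetting (Q.map (MulAut.conj g).toMonoidHom) (g * z * g⁻¹) where
  sq_z := by rw [conj_pow, S.sq_z]; group
  ne_one := fun h => S.ne_one (conj_eq_one_iff.1 h)
  mem := mem_map_of_mem _ S.mem
  le_centralizer := (map_mono S.le_centralizer).trans (centralizer_map_conj g z).le
  le_normalizer := by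
    rw [← centralizer_map_conj]
    exact (map_mono S.le_normalizer).trans (le_normalizer_map _)
  self := by
    intro y hy
    refine ⟨g⁻¹ * y * g, S.self (mem_centralizer_iff.2 fun q hq => ?_), ?_⟩
    · have := mem_centralizer_iff.1 hy _ (mem_map_of_mem (MulAut.conj g).toMonoidHom hq)
      simp only [MulEquiv.coe_toMonoidHom, MulAut.conj_apply] at this
      calc q * (g⁻¹ * y * g) = g⁻¹ * ((g * q * g⁻¹) * y) * g := by group
        _ = g⁻¹ * (y * (g * q * g⁻¹)) * g := by rw [this]
        _ = _ := by group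
    · simp only [MulEquiv.coe_toMonoidHom, MulAut.conj_apply]; group
  maximal := by
    intro N hN hNn hNp
    have hback : ∀ H : Subgroup G, (H.map (MulAut.conj g⁻¹).toMonoidHom).map
        (MulAut.conj g).toMonoidHom = H := fun H => by
      rw [CfsgLib.Coprime.map_conj_conj, mul_inv_cancel, CfsgLib.Comp.map_conj_one]
    have hC : (centralizer ({g * z * g⁻¹} : Set G)).map (MulAut.conj g⁻¹).toMonoidHom =
        centralizer ({z} : Set G) := by
      rw [← centralizer_map_conj, CfsgLib.Coprime.map_conj_conj, inv_mul_cancel,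
        CfsgLib.Comp.map_conj_one]
    have := S.maximal (N.map (MulAut.conj g⁻¹).toMonoidHom) ((map_mono hN).trans hC.le)
      (hC ▸ (map_mono hNn).trans (le_normalizer_map _)) (hNp.map _)
    exact (hback N).ge.trans (map_mono this)
  isPGroup := S.isPGroup.map _
  comm_mem := by
    rintro _ ⟨q, hq, rfl⟩ _ ⟨r, hr, rfl⟩
    rw [← map_commutatorElement]
    obtain ⟨i, hi⟩ := mem_zpowers_iff.1 (S.comm_mem q hq r hr)
    refine mem_zpowers_iff.2 ⟨i, ?_⟩
    rw [← hi, conj_zpow]; rfl
  sq_mem := by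
    rintro _ ⟨q, hq, rfl⟩
    refine mem_centralizer_iff.2 ?_
    rintro _ ⟨r, hr, rfl⟩
    rw [← map_pow, ← map_mul, ← map_mul, mem_centralizer_iff.1 (S.sq_mem q hq) r hr]
  pow_four := by
    rintro _ ⟨q, hq, rfl⟩
    rw [← map_pow, S.pow_four q hq, map_one]
  cyclic := by
    haveI := S.cyclic
    have h : (centralizer (Q : Set G)).map (MulAut.conj g).toMonoidHom =
        centralizer ((Q.map (MulAut.conj g).toMonoidHom : Subgroup G) : Set G) := by
      ext y
      rw [mem_map_equiv, MulAut.conj_symm_apply, mem_centralizer_iff, mem_centralizer_iff]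
      constructor
      · rintro h _ ⟨q, hq, rfl⟩
        show g * q * g⁻¹ * y = y * (g * q * g⁻¹)
        calc g * q * g⁻¹ * y = g * (q * (g⁻¹ * y * g)) * g⁻¹ := by group
          _ = g * (g⁻¹ * y * g * q) * g⁻¹ := by rw [h q hq]
          _ = _ := by group
      · intro h q hq
        have := h _ (mem_map_of_mem (MulAut.conj g).toMonoidHom hq)
        simp only [MulEquiv.coe_toMonoidHom, MulAut.conj_apply] at this
        calc q * (g⁻¹ * y * g) = g⁻¹ * ((g * q * g⁻¹) * y) * g := by group
          _ = g⁻¹ * (y * (g * q * g⁻¹)) * g := by rw [this]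
          _ = _ := by group
    rw [← h]
    exact (equivMapOfInjective _ _ (MulAut.conj g).injective).isCyclic.1 inferInstance

end SympSetting

end CfsgLib.ClassK
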