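import Cfsg.Prelude.Def_OddOrderLocal
import Cfsg.Prelude.Def_Solvable
import Cfsg.Agent.S4116
import Cfsg.Agent.Lib.Coprime.Sylow
import Cfsg.Agent.Lib.Coprime.Generation
import Cfsg.Agent.Lib.Solvable.FixedPointFree
import Cfsg.Agent.Lib.StructC.FrobSemi
import Cfsg.Agent.Lib.StructC.BurnsideBasis
import Cfsg.Agent.Lib.Perm.IcoBridge
import Cfsg.Agent.Lib.PLocal.Section
import Mathlib.GroupTheory.SpecificGroups.Quaternion
import Mathlib.GroupTheory.SpecificGroups.ZGroup

/-!
TI Hall subgroups: Hall property, fixed-point-free representation of the subgroup,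
automorphisms of Frobenius complements.
-/

set_option autoImplicit false

namespace CfsgLib.ClassK.TIHall

open Subgroup
open scoped commutatorElement

universe u

variable {G : Type u} [Group G] [Finite G] {H : Subgroup G}

omit [Finite G] in
/-- An element moving a nontrivial element of a TI subgroup into it normalises it. -/
theorem mem_normalizer_of_conj (hTI : Cfsg.IsTISubset (H : Set G)) {x g : G} (hx : x ∈ H)
    (hx1 : x ≠ 1) (h : g * x * g⁻¹ ∈ H) : g ∈ normalizer (H : Set G) :=
  by_contra fun hg => hx1 (hTI g hg x hx h)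

omit [Finite G] in
/-- Centralisers of nontrivial elements of a TI subgroup normalise it. -/
theorem centralizer_le_normalizer (hTI : Cfsg.IsTISubset (H : Set G)) {x : G} (hx : x ∈ H)
    (hx1 : x ≠ 1) : centralizer ({x} : Set G) ≤ normalizer (H : Set G) := fun g hg =>
  mem_normalizer_of_conj hTI hx hx1 (by
    rw [mem_centralizer_singleton_iff.mp hg, mul_inv_cancel_right]; exact hx)

/-- A subgroup of the normaliser of order prime to the index of a Hall subgroup lies in it. -/
theorem le_of_coprime {U : Subgroup G} (hU : U ≤ normalizer (H : Set G))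
    (hc : (Nat.card U).Coprime (H.subgroupOf (normalizer (H : Set G))).index) : U ≤ H := by
  set M := normalizer (H : Set G)
  have : (H.subgroupOf M).Normal := normal_subgroupOf_of_le_normalizer le_rfl
  have h1 : (H.subgroupOf M).relIndex (U.subgroupOf M) = H.relIndex U :=
    relIndex_subgroupOf hU
  have h2 : H.relIndex U ∣ (H.subgroupOf M).index :=
    h1 ▸ relIndex_dvd_index_of_normal _ _
  exact relIndex_eq_one.mp
    (Nat.eq_one_of_dvd_coprimes hc (relIndex_dvd_card _ _) h2)

/-- A TI subgroup which is a Hall subgroup of its normaliser is a Hall subgroup. -/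
theorem coprime_index (hTI : Cfsg.IsTISubset (H : Set G))
    (hHall : (Nat.card H).Coprime (H.subgroupOf (normalizer (H : Set G))).index) :
    (Nat.card H).Coprime H.index := by
  refine Nat.coprime_of_dvd fun p hp hpH hpi => ?_
  have : Fact p.Prime := ⟨hp⟩
  obtain ⟨P₀⟩ : Nonempty (Sylow p H) := inferInstance
  set P' := (P₀ : Subgroup H).map H.subtype with hP'
  have hP'H : P' ≤ H := map_subtype_le _
  have hP'ne : P' ≠ ⊥ := by
    intro h
    exact P₀.ne_bot_of_dvd_card hpH
      ((map_eq_bot_iff_of_injective _ H.subtype_injective).mp h)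
  obtain ⟨P, hP⟩ := (P₀.isPGroup'.map H.subtype).exists_le_sylow
  have hPH : ∀ y ∈ (P : Subgroup G), y ∈ normalizer (H : Set G) → y ∈ P' := by
    intro y hy hyM
    set U := (P : Subgroup G) ⊓ normalizer (H : Set G)
    have hUp : IsPGroup p U := P.isPGroup'.to_le inf_le_left
    obtain ⟨k, hk⟩ := hUp.exists_card_eq
    have hUH : U ≤ H := le_of_coprime inf_le_right (by
      rw [hk]
      exact Nat.Coprime.pow_left _
        (hHall.coprime_dvd_left hpH))
    have he : U.subgroupOf H = (P₀ : Subgroup H) :=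
      P₀.is_maximal' (hUp.comap_of_injective H.subtype H.subtype_injective) (fun z hz =>
        mem_subgroupOf.mpr (mem_inf.mpr ⟨hP ⟨z, hz, rfl⟩,
          le_normalizer z.2⟩))
    exact ⟨⟨y, hUH ⟨hy, hyM⟩⟩, he ▸ mem_subgroupOf.mpr ⟨hy, hyM⟩, rfl⟩
  have hPP' : (P : Subgroup G) = P' := by
    refine le_antisymm ?_ hP
    by_contra hle
    haveI : Group.IsNilpotent (P : Subgroup G) := P.isPGroup'.isNilpotent
    have hlt : P'.subgroupOf P < ⊤ :=
      lt_top_iff_ne_top.mpr fun h => hle (subgroupOf_eq_top.mp h)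
    obtain ⟨y, hy1, hy2⟩ := SetLike.exists_of_lt
      (normalizerCondition_of_isNilpotent (G := (P : Subgroup G)) _ hlt)
    rw [← subgroupOf_normalizer_eq hP, mem_subgroupOf] at hy1
    refine hy2 (mem_subgroupOf.mpr (hPH y y.2 ?_))
    obtain ⟨z, hz, hz1⟩ := SetLike.exists_of_lt (bot_lt_iff_ne_bot.mpr hP'ne)
    exact mem_normalizer_of_conj hTI (hP'H hz) (fun h => hz1 (mem_bot.mpr h))
      (hP'H ((mem_normalizer_iff.mp hy1 z).mp hz))
  exact P.not_dvd_index (hPP' ▸ hpi.trans (index_dvd_of_le hP'H))

/-- A normal complement of a TI subgroup meets its normaliser inside the centraliser. -/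
theorem inf_normalizer_commute {N : Subgroup G} [hN : N.Normal] (hd : N ⊓ H = ⊥) {k h : G}
    (hk : k ∈ N ⊓ normalizer (H : Set G)) (hh : h ∈ H) : k * h = h * k := by
  have h1 : k * h * k⁻¹ * h⁻¹ ∈ N ⊓ H := by
    refine mem_inf.mpr ⟨?_, mul_mem ((mem_normalizer_iff.mp hk.2 h).mp hh) (inv_mem hh)⟩
    rw [show k * h * k⁻¹ * h⁻¹ = k * (h * k⁻¹ * h⁻¹) by group]
    exact mul_mem hk.1 (hN.conj_mem _ (inv_mem hk.1) h)
  rw [hd, mem_bot] at h1
  exact mul_inv_eq_one.mp (by rw [mul_inv_rev, ← mul_assoc]; exact h1)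

/-- `H` normalises some conjugate of every Sylow subgroup of a normal complement. -/
theorem exists_invariant_sylow (hTI : Cfsg.IsTISubset (H : Set G)) {N : Subgroup G} [N.Normal]
    (hc : N.IsComplement' H) (hco : (Nat.card H).Coprime (Nat.card N)) (l : ℕ) [Fact l.Prime] :
    ∃ L : Subgroup G, L ≤ N ∧ IsPGroup l L ∧ Nat.card L = l ^ (Nat.card N).factorization l ∧
      H ≤ normalizer (L : Set G) := by
  obtain ⟨L₀⟩ : Nonempty (Sylow l N) := inferInstance
  set L' := (L₀ : Subgroup N).map N.subtype with hL'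
  set T := normalizer (L' : Set G) with hT
  have hTN : T ⊔ N = ⊤ := Sylow.normalizer_sup_eq_top L₀
  have hNi : N.index = Nat.card H := hc.symm.index_eq_card
  set M := N.subgroupOf T with hM
  have hMi : M.index = Nat.card H := by
    rw [hM, ← hNi]
    show N.relIndex T = N.index
    rw [← relIndex_sup_right T N, hTN, relIndex_top_right]
  have hMd : Nat.card M ∣ Nat.card N :=
    Nat.dvd_trans (dvd_of_eq (Nat.card_congr (M.equivMapOfInjective _ T.subtype_injective).toEquiv))
      (card_dvd_of_le (by rw [hM, subgroupOf_map_subtype]; exact inf_le_left))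
  obtain ⟨E₀, hE₀⟩ := exists_right_complement'_of_coprime (N := M)
    (hMi ▸ hco.symm.coprime_dvd_left hMd)
  set E := E₀.map T.subtype with hE
  have hEc : Nat.card E = Nat.card H := by
    rw [hE, ← Nat.card_congr (E₀.equivMapOfInjective _ T.subtype_injective).toEquiv,
      ← hE₀.symm.index_eq_card, hMi]
  obtain ⟨g, hg⟩ := Cfsg.Agent.S4116.result H
    (by rw [hc.index_eq_card]; exact hco) hTI E (fun q _ hqd => hEc ▸ hqd)
  have hEeq : E = H.map (MulAut.conj g).toMonoidHom := eq_of_le_of_card_ge hg (by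
    rw [hEc, Coprime.card_map_conj])
  refine ⟨L'.map (MulAut.conj g⁻¹).toMonoidHom, ?_, (L₀.isPGroup'.map _).map _, ?_, ?_⟩
  · rintro _ ⟨y, hy, rfl⟩
    exact (inferInstance : N.Normal).conj_mem _ (map_subtype_le _ hy) g⁻¹
  · rw [Coprime.card_map_conj, hL', card_map_of_injective N.subtype_injective]
    exact L₀.card_eq_multiplicity
  · intro h hh
    have h1 : g * h * g⁻¹ ∈ T := map_subtype_le _ (hEeq.symm ▸ ⟨h, hh, rfl⟩ : g * h * g⁻¹ ∈ E)
    rw [mem_normalizer_iff]
    intro x
    rw [Coprime.mem_map_conj, Coprime.mem_map_conj,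
      show g⁻¹⁻¹ * (h * x * h⁻¹) * g⁻¹ = (g * h * g⁻¹) * (g⁻¹⁻¹ * x * g⁻¹) * (g * h * g⁻¹)⁻¹ by group]
    exact mem_normalizer_iff.mp h1 _

/-- A nonnormal TI subgroup with a normal complement acts fixed-point-freely on some finite group. -/
theorem exists_fpf_of_complement (hTI : Cfsg.IsTISubset (H : Set G)) (hnn : ¬ H.Normal)
    {N : Subgroup G} [N.Normal] (hc : N.IsComplement' H)
    (hco : (Nat.card H).Coprime (Nat.card N)) :
    ∃ (V : Type u) (_ : Group V) (_ : Finite V) (_ : Nontrivial V) (φ : H →* MulAut V),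
      ∀ h : H, h ≠ 1 → ∀ v : V, φ h v = v → v = 1 := by
  have hd : N ⊓ H = ⊥ := hc.disjoint.eq_bot
  set K := N ⊓ normalizer (H : Set G) with hK
  have hrel : K.relIndex N ≠ 1 := by
    intro h
    have hle : N ≤ normalizer (H : Set G) := (relIndex_eq_one.mp h).trans inf_le_right
    refine hnn (normalizer_eq_top_iff.mp (top_le_iff.mp ?_))
    rw [← hc.sup_eq_top]
    exact sup_le hle le_normalizer
  obtain ⟨l, hl, hld⟩ := Nat.exists_prime_and_dvd hrel
  have : Fact l.Prime := ⟨hl⟩
  obtain ⟨L, hLN, hLp, hLcard, hLH⟩ := exists_invariant_sylow hTI hc hco l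
  have hLK : ¬ L ≤ normalizer (H : Set G) := by
    intro h
    have h1 : Nat.card K * K.relIndex N = Nat.card N := by
      rw [← relIndex_bot_left, ← relIndex_bot_left,
        relIndex_mul_relIndex ⊥ K N bot_le inf_le_left]
    have h2 : l ^ ((Nat.card N).factorization l + 1) ∣ Nat.card N := by
      rw [pow_succ, ← hLcard, ← h1]
      exact Nat.mul_dvd_mul (card_dvd_of_le (le_inf hLN h)) hld
    have := (hl.pow_dvd_iff_le_factorization Nat.card_pos.ne').mp h2
    omega
  set C := L ⊓ normalizer (H : Set G) with hC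
  have hCc : ∀ c ∈ C, ∀ h ∈ H, c * h = h * c := fun c hc' h hh =>
    inf_normalizer_commute hd ⟨hLN hc'.1, hc'.2⟩ hh
  set D := L ⊓ normalizer (C : Set G) with hD
  have hCD : C ≤ D := le_inf inf_le_left le_normalizer
  have hDC : ¬ D ≤ C := by
    intro h
    haveI : Group.IsNilpotent L := hLp.isNilpotent
    have hlt : C.subgroupOf L < ⊤ :=
      lt_top_iff_ne_top.mpr fun h' => hLK ((subgroupOf_eq_top.mp h').trans inf_le_right)
    obtain ⟨y, hy1, hy2⟩ := SetLike.exists_of_lt
      (normalizerCondition_of_isNilpotent (G := L) _ hlt)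
    rw [← subgroupOf_normalizer_eq (inf_le_left : C ≤ L), mem_subgroupOf] at hy1
    exact hy2 (mem_subgroupOf.mpr (h ⟨y.2, hy1⟩))
  have hCH : H ≤ normalizer (C : Set G) := by
    intro h hh
    rw [mem_normalizer_iff]
    intro x
    constructor
    · intro hx
      rwa [← hCc x hx h hh, mul_inv_cancel_right]
    · intro hx
      have h2 := hCc _ hx h hh
      rwa [show h * x * h⁻¹ * h = h * x by group, mul_left_cancel_iff.mp
        (show h * x = h * (h * x * h⁻¹) from h2), ] at *
  have hDH : H ≤ normalizer (D : Set G) := by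
    intro h hh
    rw [mem_normalizer_iff]
    intro x
    refine and_congr (mem_normalizer_iff.mp (hLH hh) x) ?_
    show x ∈ normalizer (C : Set G) ↔ _ ∈ normalizer (C : Set G)
    constructor
    · exact fun hx => mul_mem (mul_mem (hCH hh) hx) (inv_mem (hCH hh))
    · intro hx
      have := mul_mem (mul_mem (inv_mem (hCH hh)) hx) (hCH hh)
      rwa [show h⁻¹ * (h * x * h⁻¹) * h = x by group] at this
  set C' := C.subgroupOf D with hC'
  haveI : C'.Normal := normal_subgroupOf_of_le_normalizer inf_le_right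
  let f : H →* MulAut D := Coprime.conjHom hDH
  have hmap : ∀ h : H, C'.map ((f h : D ≃* D) : D →* D) = C' := by
    intro h
    have hfix : ∀ c ∈ C', f h c = c := fun c hc' => Subtype.ext (by
      rw [Coprime.conjHom_apply, ← hCc c hc' h h.2, mul_inv_cancel_right])
    ext x
    refine ⟨?_, fun hx => ⟨x, hx, hfix x hx⟩⟩
    rintro ⟨c, hc', rfl⟩
    show f h c ∈ C'
    rw [hfix c hc']; exact hc'
  let φ : H →* MulAut (D ⧸ C') :=
    { toFun := fun h => QuotientGroup.congr C' C' (f h) (hmap h)
      map_one' := by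
        refine MulEquiv.ext fun v => ?_
        induction v using QuotientGroup.induction_on with
        | H d => simp [QuotientGroup.congr_mk]
      map_mul' := fun a b => by
        refine MulEquiv.ext fun v => ?_
        induction v using QuotientGroup.induction_on with
        | H d => simp [QuotientGroup.congr_mk] }
  have hnt : Nontrivial (D ⧸ C') := by
    rw [QuotientGroup.nontrivial_iff, Ne, subgroupOf_eq_top]
    exact hDC
  refine ⟨D ⧸ C', inferInstance, inferInstance, hnt, φ, fun h hh v hv => ?_⟩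
  obtain ⟨d, rfl⟩ := QuotientGroup.mk_surjective v
  have hh1 : (h : G) ≠ 1 := fun e => hh (Subtype.ext e)
  have hall : ∀ a ∈ zpowers (h : G), (d : G)⁻¹ * a * d * a⁻¹ ∈ C := by
    rintro _ ⟨n, rfl⟩
    have hn : φ (h ^ n) (d : D ⧸ C') = d := by
      have hs : h ∈ ((MulAction.stabilizer (MulAut (D ⧸ C')) (d : D ⧸ C')).comap φ) := hv
      exact zpow_mem hs n
    have h2 : ((d : D ⧸ C')) = ((f (h ^ n) d : D) : D ⧸ C') := hn.symm
    rw [QuotientGroup.eq] at h2
    have h3 := mem_subgroupOf.mp h2
    have h4 : ((f (h ^ n) d : D) : G) = (h : G) ^ n * d * ((h : G) ^ n)⁻¹ :=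
      Coprime.conjHom_apply hDH (h ^ n) d
    simp only [Subgroup.coe_mul, Subgroup.coe_inv, h4] at h3
    simpa [mul_assoc] using h3
  have hDN : D ≤ N := inf_le_left.trans hLN
  have hzH : zpowers (h : G) ≤ H := zpowers_le.mpr h.2
  obtain ⟨n, hn, hnc⟩ := Coprime.exists_mem_centralizer_of_coset
    (hzH.trans hDH) (hzH.trans hCH) hCD
    ((hco.coprime_dvd_left (card_dvd_of_le hzH)).coprime_dvd_right (card_dvd_of_le hDN))
    (Or.inl (inferInstance : Group.IsSolvable (zpowers (h : G)))) d.2 hall
  rw [QuotientGroup.eq_one_iff]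
  refine mem_subgroupOf.mpr ?_
  have h4 : (d : G) * n ∈ C := mem_inf.mpr ⟨mul_mem d.2.1 hn.1,
    centralizer_le_normalizer hTI h.2 hh1
      (centralizer_le (Set.singleton_subset_iff.mpr (mem_zpowers (h : G))) hnc)⟩
  simpa [mul_assoc] using mul_mem h4 (inv_mem hn)

/-- A nonnormal TI subgroup with a normal complement is a Frobenius complement. -/
theorem exists_frobenius_of_complement (hTI : Cfsg.IsTISubset (H : Set G)) (hnn : ¬ H.Normal)
    {N : Subgroup G} [N.Normal] (hc : N.IsComplement' H)
    (hco : (Nat.card H).Coprime (Nat.card N)) :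
    ∃ (F : Type u) (_ : Group F) (_ : Finite F) (C : Subgroup F),
      Cfsg.IsFrobeniusComplement C ∧ Nonempty (H ≃* C) := by
  obtain ⟨V, _, _, _, φ, hφ⟩ := exists_fpf_of_complement hTI hnn hc hco
  have : Nontrivial H := (nontrivial_iff_ne_bot H).mpr fun h => hnn (h ▸ inferInstance)
  exact ⟨SemidirectProduct V H φ, inferInstance,
    Finite.of_equiv _ SemidirectProduct.equivProd.symm, _,
    StructC.semi_isFrobeniusComplement φ hφ,
    ⟨MonoidHom.ofInjective SemidirectProduct.inr_injective⟩⟩

/-- A nonnormal TI subgroup with a normal complement acts fixed-point-freely on an abelian group. -/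
theorem exists_fpf_comm (hTI : Cfsg.IsTISubset (H : Set G)) (hnn : ¬ H.Normal)
    {N : Subgroup G} [N.Normal] (hc : N.IsComplement' H)
    (hco : (Nat.card H).Coprime (Nat.card N)) :
    ∃ (V : Type u) (_ : CommGroup V) (_ : Finite V) (_ : Nontrivial V) (φ : H →* MulAut V),
      ∀ h : H, h ≠ 1 → ∀ v : V, φ h v = v → v = 1 := by
  obtain ⟨F, _, _, C, hC, ⟨e⟩⟩ := exists_frobenius_of_complement hTI hnn hc hco
  obtain ⟨V, φ, hVc, hVne, -, hφ⟩ := Solvable.exists_fpf_abelian hC
  letI : CommGroup V := { (inferInstance : Group V) with mul_comm := hVc.is_comm.comm }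
  exact ⟨V, inferInstance, inferInstance, V.nontrivial_iff_ne_bot.mpr hVne,
    φ.comp e.toMonoidHom, fun h hh => hφ (e h) fun he => hh (e.injective (he.trans (map_one e).symm))⟩

section Complement

variable {X : Type u} [Group X] [Finite X] {V : Type u} [CommGroup V] [Finite V] [Nontrivial V]
  (φ : X →* MulAut V)

/-- A fixed-point-free group with no subgroup `SL(2,5)` is solvable. -/
theorem isSolvable_of_fpf (hfpf : ∀ h : X, h ≠ 1 → ∀ v : V, φ h v = v → v = 1)
    (h25 : ∀ K : Subgroup X,
      ¬ Nonempty (K ≃* Matrix.SpecialLinearGroup (Fin 2) (ZMod 5))) :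
    Group.IsSolvable X := by
  by_contra hns
  obtain ⟨P, hP⟩ := (Set.toFinite {K : Subgroup X | ¬ Group.IsSolvable K}).exists_minimal
    ⟨⊤, fun h => hns (by
      haveI := h
      exact Group.isSolvable_of_surjective (f := (⊤ : Subgroup X).subtype) fun x => ⟨⟨x, mem_top x⟩, rfl⟩)⟩
  have hperf : commutator P = ⊤ := by
    by_contra hne
    have hlt : (commutator P).map P.subtype < P := by
      refine lt_of_le_of_ne (map_subtype_le _) fun h => hne ?_
      refine map_injective P.subtype_injective ?_
      rw [h, ← MonoidHom.range_eq_map, range_subtype]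
    have hs : Group.IsSolvable ((commutator P).map P.subtype : Subgroup X) :=
      by_contra fun h => hlt.not_ge (hP.2 h hlt.le)
    refine hP.prop ?_
    haveI : Group.IsSolvable (commutator P) := Group.isSolvable_of_isSolvable_injective
      (f := ((commutator P).equivMapOfInjective _ P.subtype_injective).toMonoidHom)
      (MulEquiv.injective _)
    exact Group.isSolvable_of_ker_le_range (commutator P).subtype (Abelianization.of (G := P))
      (by rw [Abelianization.ker_of, range_subtype])
  have hne : Nontrivial P := by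
    by_contra h
    rw [not_nontrivial_iff_subsingleton] at h
    exact hP.prop inferInstance
  obtain ⟨L, hL1, hL2, C, hC, he, -⟩ := StructC.exists_frobenius_of_fpf (φ.comp P.subtype)
    (fun h hh => hfpf h fun e => hh (Subtype.ext e))
  exact h25 P (Perm.Ico.perfect_complement ⟨L, hL1, hL2, C, hC, he⟩ hperf)

/-- A finite group with abelian Sylow subgroups acting fixed-point-freely is a Z-group. -/
theorem isZGroup_of_fpf (hfpf : ∀ h : X, h ≠ 1 → ∀ v : V, φ h v = v → v = 1)
    (h2 : ∀ P : Sylow 2 X, IsMulCommutative (P : Subgroup X)) : IsZGroup X := by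
  refine ⟨fun p hp P => ?_⟩
  haveI : Fact p.Prime := ⟨hp⟩
  rcases Solvable.isCyclic_or_quaternion_of_fpf φ hfpf P with h | ⟨rfl, -⟩
  · exact h
  · haveI := h2 P
    exact Solvable.isCyclic_of_fpf φ hfpf _

end Complement

theorem frattini_index_le_of_quaternion {P : Type u} [Group P] [Finite P] (hP : IsPGroup 2 P)
    {n : ℕ} (e : P ≃* QuaternionGroup (2 ^ n)) : Nat.card (P ⧸ frattini P) ≤ 4 := by
  haveI : Fact (Nat.Prime 2) := ⟨Nat.prime_two⟩
  have hsq : ∀ y : P, y * y ∈ frattini P := fun y =>
    pow_two y ▸ StructC.pow_mem_frattini hP y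
  let s : P := e.symm (QuaternionGroup.a 1)
  let t : P := e.symm (QuaternionGroup.xa 0)
  let g : Fin 4 → P ⧸ frattini P := ![((1 : P) : P ⧸ frattini P), (s : P ⧸ frattini P),
    (t : P ⧸ frattini P), ((t * s : P) : P ⧸ frattini P)]
  have hs : ∀ k : ℕ, ((s ^ k : P) : P ⧸ frattini P) = 1 ∨
      ((s ^ k : P) : P ⧸ frattini P) = (s : P ⧸ frattini P) := by
    intro k
    have h1 : (s : P ⧸ frattini P) ^ 2 = 1 := by
      rw [pow_two, ← QuotientGroup.mk_mul, QuotientGroup.eq_one_iff]; exact hsq s
    rw [QuotientGroup.mk_pow, ← Nat.div_add_mod k 2, pow_add, pow_mul, h1, one_pow, one_mul]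
    rcases Nat.mod_two_eq_zero_or_one k with h | h <;> simp [h]
  have hg : Function.Surjective g := by
    intro v
    obtain ⟨y, rfl⟩ := QuotientGroup.mk_surjective v
    haveI : NeZero (2 * 2 ^ n) := ⟨by positivity⟩
    rcases hy : e y with i | i
    · have hy' : y = s ^ i.val := e.injective (by
        simp [s, hy, map_pow, QuaternionGroup.a_one_pow])
      rcases hs i.val with h | h
      · exact ⟨0, by simp [g, hy', h]⟩
      · exact ⟨1, by simp [g, hy', h]⟩
    · have hy' : y = t * s ^ i.val := e.injective (by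
        simp [s, t, hy, map_pow, QuaternionGroup.a_one_pow, QuaternionGroup.xa_mul_a])
      rcases hs i.val with h | h
      · exact ⟨2, by simp [g, hy', QuotientGroup.mk_mul, h]⟩
      · exact ⟨3, by simp [g, hy', QuotientGroup.mk_mul, h]⟩
  exact (Nat.card_le_card_of_surjective g hg).trans (by simp)

/-- An odd order group acting on a group of order at most four has abelian image. -/
theorem commutator_acts_trivially {Q W : Type*} [Group Q] [Finite Q] [Group W] [Finite W]
    (hodd : Odd (Nat.card Q)) (hW : Nat.card W ≤ 4) (f : Q →* MulAut W) (a b : Q) :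
    f ⁅a, b⁆ = 1 := by
  have h1 : Nat.card f.range ∣ Nat.factorial 4 := by
    let r : f.range →* Equiv.Perm W :=
      { toFun := fun s => (s : MulAut W).toEquiv
        map_one' := rfl
        map_mul' := fun _ _ => rfl }
    have hr : Function.Injective r := fun s t h =>
      Subtype.ext (MulEquiv.ext fun w => Equiv.congr_fun h w)
    refine (Subgroup.card_dvd_of_injective r hr).trans ?_
    rw [Nat.card_perm]
    exact Nat.factorial_dvd_factorial hW
  have hfo : Odd (Nat.card f.range) := hodd.of_dvd_nat (Subgroup.card_range_dvd f)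
  have h3 : Nat.card f.range ∣ 3 :=
    Nat.Coprime.dvd_of_dvd_mul_left (hfo.coprime_two_right.pow_right 3) (by
      rwa [show 2 ^ 3 * 3 = Nat.factorial 4 by rfl])
  have hcomm : ∀ x y : f.range, x * y = y * x := by
    rcases (Nat.dvd_prime Nat.prime_three).mp h3 with h | h
    · intro x y
      haveI := (Nat.card_eq_one_iff_unique.mp h).1
      exact Subsingleton.elim _ _
    · haveI : Fact (Nat.Prime 3) := ⟨Nat.prime_three⟩
      haveI := isCyclic_of_prime_card (p := 3) h
      exact Solvable.comm_of_isCyclic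
  have hab : f a * f b = f b * f a :=
    congrArg Subtype.val (hcomm ⟨f a, a, rfl⟩ ⟨f b, b, rfl⟩)
  rw [map_commutatorElement]
  exact commutatorElement_eq_one_iff_mul_comm.mpr hab

/-- Commutators of a coprime group of automorphisms centralise a solvable Frobenius complement. -/
theorem commutator_centralizes {Q : Subgroup G} (hQ : Q ≤ normalizer (H : Set G))
    (hco : (Nat.card Q).Coprime (Nat.card H)) (hs : Group.IsSolvable H)
    {V : Type u} [CommGroup V] [Finite V] [Nontrivial V] (φ : H →* MulAut V)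
    (hfpf : ∀ h : H, h ≠ 1 → ∀ v : V, φ h v = v → v = 1)
    {a b : G} (ha : a ∈ Q) (hb : b ∈ Q) : H ≤ centralizer ({⁅a, b⁆} : Set G) := by
  set Z := H ⊓ centralizer ({⁅a, b⁆} : Set G) with hZ
  suffices h : Nat.card H ∣ Nat.card Z from inf_eq_left.mp
    (eq_of_le_of_card_ge inf_le_left (Nat.le_of_dvd Nat.card_pos h))
  rw [← Nat.factorization_prime_le_iff_dvd Nat.card_pos.ne' Nat.card_pos.ne']
  intro p hp
  haveI : Fact p.Prime := ⟨hp⟩
  obtain ⟨P, hP⟩ := Coprime.exists_invariant_sylow hQ hco (Or.inr hs) p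
  set P' := (P : Subgroup H).map H.subtype with hP'
  refine (hp.pow_dvd_iff_le_factorization Nat.card_pos.ne').mp ?_
  rw [← P.card_eq_multiplicity, ← card_map_of_injective H.subtype_injective]
  refine card_dvd_of_le (le_inf (map_subtype_le _) ?_)
  by_cases hbot : (P : Subgroup H) = ⊥
  · rw [hbot, Subgroup.map_bot]; exact bot_le
  have hpH : p ∣ Nat.card H := by
    obtain ⟨k, hk⟩ := P.isPGroup'.exists_card_eq
    rcases k with _ | k
    · exact absurd (card_eq_one.mp (by rw [hk, pow_zero])) hbot
    · exact (dvd_pow_self p k.succ_ne_zero).trans (hk ▸ card_subgroup_dvd_card _)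
  set r := ⁅a, b⁆ with hr
  have hrQ : r ∈ Q := by
    rw [hr, commutatorElement_def]
    exact mul_mem (mul_mem (mul_mem ha hb) (inv_mem ha)) (inv_mem hb)
  let f : Q →* MulAut P' := Coprime.conjHom hP
  have hcent : r ∈ centralizer (P' : Set G) → P' ≤ centralizer ({r} : Set G) := fun h x hx =>
    mem_centralizer_singleton_iff.mpr (mem_centralizer_iff.mp h x hx)
  rcases Solvable.isCyclic_or_quaternion_of_fpf φ hfpf P with hc | ⟨rfl, n, ⟨e⟩⟩
  · haveI : IsCyclic P' := isCyclic_of_surjective _
      ((P : Subgroup H).equivMapOfInjective _ H.subtype_injective).surjective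
    refine hcent (mem_centralizer_iff.mpr fun x hx => ?_)
    have h1 : f ⁅(⟨a, ha⟩ : Q), ⟨b, hb⟩⁆ = 1 := by
      rw [map_commutatorElement, commutatorElement_eq_one_iff_mul_comm]
      obtain ⟨g, hg⟩ := IsCyclic.exists_generator (α := P')
      refine MulEquiv.ext fun y => ?_
      obtain ⟨i, hi⟩ := mem_zpowers_iff.mp (hg (f ⟨a, ha⟩ g))
      obtain ⟨j, hj⟩ := mem_zpowers_iff.mp (hg (f ⟨b, hb⟩ g))
      obtain ⟨k, rfl⟩ := mem_zpowers_iff.mp (hg y)
      simp only [MulAut.mul_apply, map_zpow, ← hi, ← hj, ← zpow_mul]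
      rw [mul_comm i j]
    have h2 := congrArg (fun w : P' => (w : G)) (MulEquiv.congr_fun h1 ⟨x, hx⟩)
    exact (mul_inv_eq_iff_eq_mul.mp h2).symm
  · have hodd : Odd (Nat.card Q) :=
      Nat.Coprime.odd_of_right (Nat.Coprime.coprime_dvd_right hpH hco)
    have hPp : IsPGroup 2 P' := P.isPGroup'.map _
    have hW : Nat.card (P' ⧸ frattini P') ≤ 4 :=
      frattini_index_le_of_quaternion hPp
        (((P : Subgroup H).equivMapOfInjective _ H.subtype_injective).symm.trans e)
    let f' : Q →* MulAut (P' ⧸ frattini P') :=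
      { toFun := fun q => QuotientGroup.congr _ _ (f q)
          (characteristic_iff_map_eq.mp inferInstance (f q))
        map_one' := by
          refine MulEquiv.ext fun v => ?_
          induction v using QuotientGroup.induction_on with
          | H d =>
            show ((f _ d : P') : P' ⧸ frattini P') = _
            first
              | (rw [map_one]; rfl)
              | (rw [map_mul]; rfl)
        map_mul' := fun x y => by
          refine MulEquiv.ext fun v => ?_
          induction v using QuotientGroup.induction_on with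
          | H d =>
            show ((f _ d : P') : P' ⧸ frattini P') = _
            first
              | (rw [map_one]; rfl)
              | (rw [map_mul]; rfl) }
    refine hcent (PLocal.centralizes_of_trivial_on_frattini_quotient hPp (hP hrQ) ?_ ?_)
    · exact Nat.Coprime.coprime_dvd_left (orderOf_dvd_natCard Q hrQ) hodd.coprime_two_right
    · intro k hk
      have h1 : ((f ⁅(⟨b, hb⟩ : Q), ⟨a, ha⟩⁆ ⟨k, hk⟩ : P') : P' ⧸ frattini P') =
          ((⟨k, hk⟩ : P') : P' ⧸ frattini P') :=
        MulEquiv.congr_fun (commutator_acts_trivially hodd hW f' ⟨b, hb⟩ ⟨a, ha⟩)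
          ((⟨k, hk⟩ : P') : P' ⧸ frattini P')
      refine ⟨_, QuotientGroup.eq.mp h1.symm, ?_⟩
      show k⁻¹ * ((f ⁅(⟨b, hb⟩ : Q), ⟨a, ha⟩⁆ ⟨k, hk⟩ : P') : G) = _
      rw [Coprime.conjHom_apply]
      show k⁻¹ * (⁅b, a⁆ * k * ⁅b, a⁆⁻¹) = k⁻¹ * r⁻¹ * k * r
      rw [hr, commutatorElement_inv, ← commutatorElement_inv b a]
      group

end CfsgLib.ClassK.TIHall
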