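import Cfsg.Agent.Lib.ClassK.TIHall

/-!
Coprime action on a Z-group: the fixed points have order prime to the commutator.
-/

set_option autoImplicit false

namespace CfsgLib.ClassK.TIHall

open Subgroup
open scoped commutatorElement

universe u

variable {G : Type u} [Group G] [Finite G] {H Q : Subgroup G}

/-- Coprime action on a Z-group: `[H,Q]` and `C_H(Q)` have coprime orders. -/
theorem coprime_commutator_fixed (hQ : Q ≤ normalizer (H : Set G))
    (hco : (Nat.card Q).Coprime (Nat.card H)) (hZ : IsZGroup H) :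
    (Nat.card (⁅H, Q⁆ : Subgroup G)).Coprime
      (Nat.card (H ⊓ centralizer (Q : Set G) : Subgroup G)) := by
  classical
  have hs : Group.IsSolvable H := inferInstance
  set M := ⁅H, Q⁆ with hMdef
  set C := H ⊓ centralizer (Q : Set G) with hCdef
  have hMH : M ≤ H := le_normalizer_iff_commutator_le_left.mp hQ
  have hHM : H ≤ normalizer (M : Set G) := normalizer_commutator_ge_left H Q
  have hQM : Q ≤ normalizer (M : Set G) := normalizer_commutator_ge_right H Q
  have hMQ : ⁅M, Q⁆ = M := Coprime.commutator_commutator_eq hQ hco (Or.inr hs)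
  haveI : IsZGroup M := IsZGroup.of_injective (inclusion_injective hMH)
  refine Nat.coprime_of_dvd fun p hp hpM hpC => ?_
  haveI : Fact p.Prime := ⟨hp⟩
  -- an invariant Sylow subgroup of `H`, centralised by `Q`
  obtain ⟨c, hc⟩ := exists_prime_orderOf_dvd_card' p hpC
  have hcQ : Q ≤ centralizer ((zpowers (c : G) : Subgroup G) : Set G) :=
    le_centralizer_iff.mp (zpowers_le.mpr c.2.2)
  obtain ⟨P, hcP, hQP⟩ := Coprime.exists_invariant_sylow_ge (U := zpowers (c : G)) (p := p) hQ hco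
    (Or.inr hs)
    (IsPGroup.of_card (n := 1) (by rw [pow_one, Nat.card_zpowers, orderOf_coe, hc]))
    (zpowers_le.mpr c.2.1) (hcQ.trans (Subgroup.centralizer_le_normalizer _))
  set P' := (P : Subgroup H).map H.subtype with hP'
  haveI hPc : IsCyclic P' := isCyclic_of_surjective _
    ((P : Subgroup H).equivMapOfInjective _ H.subtype_injective).surjective
  have hPQ : P' ≤ centralizer (Q : Set G) := by
    have hb : ⁅P', Q⁆ = ⊥ := by
      by_contra hne
      have hle : ⁅P', Q⁆ ≤ P' := le_normalizer_iff_commutator_le_left.mp hQP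
      have h0 := Coprime.commutator_inf_centralizer_eq_bot (IsCyclic.isMulCommutative : IsMulCommutative P')
        hQP (hco.coprime_dvd_right (card_dvd_of_le (map_subtype_le _)))
      have hpd : p ∣ Nat.card (⁅P', Q⁆ : Subgroup G) := by
        obtain ⟨k, hk⟩ := ((P.isPGroup'.map H.subtype).to_le hle).exists_card_eq
        rcases k with _ | k
        · exact absurd (card_eq_one.mp (by rw [hk, pow_zero])) hne
        · exact hk ▸ dvd_pow_self p k.succ_ne_zero
      obtain ⟨z, hz⟩ := exists_prime_orderOf_dvd_card' p hpd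
      have hcP' : (c : G) ∈ P' := hcP (mem_zpowers _)
      have he := Perm.Ico.cyclic_zpowers_eq (A := P') (x := ⟨z, hle z.2⟩) (c := ⟨c, hcP'⟩)
        (by rw [orderOf_mk, orderOf_mk, orderOf_coe, orderOf_coe, hz, hc])
      obtain ⟨i, hi⟩ := mem_zpowers_iff.mp
        (he ▸ mem_zpowers _ : (⟨z, hle z.2⟩ : P') ∈ zpowers ⟨(c : G), hcP'⟩)
      have hzC : (z : G) ∈ centralizer (Q : Set G) := by
        have h1 := congrArg Subtype.val hi
        simp only [SubgroupClass.coe_zpow] at h1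
        rw [← h1]
        exact zpow_mem (mem_inf.mp c.2).2 i
      have hz1 : (z : G) = 1 := mem_bot.mp (h0 ▸ mem_inf.mpr ⟨z.2, hzC⟩)
      rw [show z = 1 from Subtype.ext hz1, orderOf_one] at hz
      exact hp.one_lt.ne hz
    exact commutator_eq_bot_iff_le_centralizer.mp hb
  -- an element of order `p` of `M` centralised by `Q`
  obtain ⟨y₀, hy₀⟩ := exists_prime_orderOf_dvd_card' p hpM
  obtain ⟨P₁, hP₁⟩ := (IsPGroup.of_card (n := 1) (p := p)
    (by rw [pow_one, Nat.card_zpowers, ← orderOf_coe (⟨(y₀ : G), hMH y₀.2⟩ : H), orderOf_coe y₀,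
      hy₀]) : IsPGroup p (zpowers (⟨(y₀ : G), hMH y₀.2⟩ : H))).exists_le_sylow
  obtain ⟨g, hg⟩ := MulAction.exists_smul_eq H P₁ P
  set y : G := g * y₀ * (g : G)⁻¹ with hy
  have hyM : y ∈ M := (mem_normalizer_iff.mp (hHM g.2) _).mp y₀.2
  have hyP : y ∈ P' := by
    refine ⟨g * ⟨(y₀ : G), hMH y₀.2⟩ * g⁻¹, ?_, rfl⟩
    rw [← hg]
    exact ⟨_, hP₁ (mem_zpowers _), rfl⟩
  have hyord : orderOf (⟨y, hyM⟩ : M) = p := by
    rw [← orderOf_coe]
    show orderOf y = p
    rw [hy, show (g : G) * y₀ * (g : G)⁻¹ = MulAut.conj (g : G) y₀ from rfl,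
      MulEquiv.orderOf_eq, orderOf_coe, hy₀]
  have hyQ : ∀ q ∈ Q, q * y = y * q := fun q hq => mem_centralizer_iff.mp (hPQ hyP) q hq
  -- it lies in the derived subgroup of `M`
  let f : Q →* MulAut M := Coprime.conjHom hQM
  have := Fintype.ofFinite Q
  let θ : M →* Abelianization M :=
    { toFun := fun m => ∏ q : Q, Abelianization.of (f q m)
      map_one' := by simp
      map_mul' := fun a b => by simp [Finset.prod_mul_distrib] }
  have hθ : ∀ m, θ m = 1 := by
    intro m
    have hm : (m : G) ∈ θ.ker.map M.subtype := by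
      refine (hMQ.symm.le.trans (commutator_le.mpr fun a ha q hq => ?_)) m.2
      have hmem : ⁅a, q⁆ ∈ M := hMQ ▸ commutator_mem_commutator ha hq
      refine ⟨⟨_, hmem⟩, ?_, rfl⟩
      show θ _ = 1
      have h2 : (⟨⁅a, q⁆, hmem⟩ : M) = ⟨a, ha⟩ * f ⟨q, hq⟩ ⟨a, ha⟩⁻¹ := by
        apply Subtype.ext
        simp [f, Coprime.conjHom_apply, commutatorElement_def, mul_assoc]
      rw [h2, map_mul]
      have h3 : θ (f ⟨q, hq⟩ (⟨a, ha⟩ : M)⁻¹) = θ (⟨a, ha⟩ : M)⁻¹ := by
        show ∏ q' : Q, _ = ∏ q' : Q, _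
        refine Fintype.prod_equiv (Equiv.mulRight ⟨q, hq⟩) _ _ fun q' => ?_
        simp [MulAut.mul_apply]
      rw [h3, map_inv, mul_inv_cancel]
    obtain ⟨m', hm', e⟩ := hm
    exact Subtype.ext e ▸ hm'
  have hyD : (⟨y, hyM⟩ : M) ∈ commutator M := by
    rw [← Abelianization.ker_of, MonoidHom.mem_ker]
    have h1 : θ ⟨y, hyM⟩ = Abelianization.of (⟨y, hyM⟩ : M) ^ Nat.card Q := by
      have hfix : ∀ q : Q, f q ⟨y, hyM⟩ = ⟨y, hyM⟩ := fun q => Subtype.ext (by
        rw [Coprime.conjHom_apply]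
        show (q : G) * y * (q : G)⁻¹ = y
        rw [hyQ q q.2, mul_inv_cancel_right])
      show ∏ q : Q, _ = _
      simp [hfix, Nat.card_eq_fintype_card]
    have h2 : Abelianization.of (⟨y, hyM⟩ : M) ^ Nat.card Q = 1 := h1.symm.trans (hθ _)
    refine orderOf_eq_one_iff.mp (Nat.eq_one_of_dvd_coprimes
      (hco.coprime_dvd_right ((dvd_of_eq hy₀.symm).trans ((orderOf_dvd_natCard y₀).trans
        (card_dvd_of_le hMH)))) (orderOf_dvd_of_pow_eq_one h2) ?_)
    exact hyord ▸ orderOf_map_dvd _ _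
  -- so `M` centralises it
  haveI : IsCyclic (commutator M) := IsZGroup.isCyclic_commutator M
  haveI hDc : IsCyclic (⁅M, M⁆ : Subgroup G) := by
    rw [← map_subtype_commutator]
    exact isCyclic_of_surjective _
      ((commutator M).equivMapOfInjective _ M.subtype_injective).surjective
  have hyDG : y ∈ ⁅M, M⁆ := by
    rw [← map_subtype_commutator]; exact ⟨_, hyD, rfl⟩
  have hcent : ∀ m ∈ M, m * y = y * m := by
    have hYn : ∀ g : G, g ∈ normalizer (M : Set G) → g * y * g⁻¹ ∈ zpowers y := by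
      intro g hg
      have hgD : g * y * g⁻¹ ∈ ⁅M, M⁆ := by
        have h1 : (⁅M, M⁆ : Subgroup G).map (MulAut.conj g).toMonoidHom = ⁅M, M⁆ := by
          rw [map_commutator, Coprime.map_conj_of_mem_normalizer hg]
        rw [← h1]
        exact ⟨y, hyDG, rfl⟩
      have he := Perm.Ico.cyclic_zpowers_eq (A := (⁅M, M⁆ : Subgroup G))
        (x := ⟨g * y * g⁻¹, hgD⟩) (c := ⟨y, hyDG⟩) (by
          rw [orderOf_mk, orderOf_mk]
          exact MulEquiv.orderOf_eq (MulAut.conj g) y)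
      obtain ⟨i, hi⟩ := mem_zpowers_iff.mp
        (he ▸ mem_zpowers _ : (⟨g * y * g⁻¹, hgD⟩ : (⁅M, M⁆ : Subgroup G)) ∈ zpowers ⟨y, hyDG⟩)
      exact ⟨i, by simpa using congrArg Subtype.val hi⟩
    have hle : M ≤ centralizer ({y} : Set G) := by
      refine hMQ.symm.le.trans (commutator_le.mpr fun m hm q hq => ?_)
      obtain ⟨i, hi⟩ := hYn m (le_normalizer hm)
      refine mem_centralizer_singleton_iff.mpr ?_
      have hqi : q * y ^ i * q⁻¹ = y ^ i := by
        rw [(Commute.zpow_right (hyQ q hq) i).eq, mul_inv_cancel_right]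
      have h1 : q * y * q⁻¹ = y := by rw [hyQ q hq, mul_inv_cancel_right]
      have h2 : m * y * m⁻¹ = y ^ i := hi.symm
      have h3 : ⁅m, q⁆ * y * ⁅m, q⁆⁻¹ = y := by
        have h4 : q⁻¹ * y * q = y := by
          rw [mul_assoc, ← hyQ q hq, inv_mul_cancel_left]
        rw [commutatorElement_def,
          show m * q * m⁻¹ * q⁻¹ * y * (m * q * m⁻¹ * q⁻¹)⁻¹ =
            m * (q * (m⁻¹ * (q⁻¹ * y * q) * m) * q⁻¹) * m⁻¹ by group, h4]
        obtain ⟨j, hj⟩ := hYn m⁻¹ (inv_mem (le_normalizer hm))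
        simp only [inv_inv] at hj
        rw [← hj, (Commute.zpow_right (hyQ q hq) j).eq, mul_inv_cancel_right, hj]
        group
      calc ⁅m, q⁆ * y = (⁅m, q⁆ * y * ⁅m, q⁆⁻¹) * ⁅m, q⁆ := by group
        _ = y * ⁅m, q⁆ := by rw [h3]
    exact fun m hm => mem_centralizer_singleton_iff.mp (hle hm)
  -- transfer to a cyclic Sylow subgroup of `M`
  obtain ⟨S, hS⟩ := (IsPGroup.of_card (p := p) (n := 1)
    (by rw [pow_one, Nat.card_zpowers, hyord]) :
      IsPGroup p (zpowers (⟨y, hyM⟩ : M))).exists_le_sylow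
  haveI : IsMulCommutative (S : Subgroup M) := IsCyclic.isMulCommutative
  letI : CommGroup (S : Subgroup M) :=
    { (inferInstance : Group (S : Subgroup M)) with
      mul_comm := fun a b => (inferInstance : IsMulCommutative (S : Subgroup M)).is_comm.comm a b }
  have hcy : ∀ m : M, m * ⟨y, hyM⟩ = ⟨y, hyM⟩ * m := fun m => Subtype.ext (hcent m m.2)
  have hkey : ∀ (k : ℕ) (g₀ : M), g₀⁻¹ * (⟨y, hyM⟩ : M) ^ k * g₀ ∈ (S : Subgroup M) →
      g₀⁻¹ * (⟨y, hyM⟩ : M) ^ k * g₀ = (⟨y, hyM⟩ : M) ^ k := fun k g₀ _ => by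
    rw [mul_assoc, ← (Commute.pow_right (hcy g₀) k).eq, inv_mul_cancel_left]
  have h := MonoidHom.transfer_eq_pow (MonoidHom.id (S : Subgroup M)) ⟨y, hyM⟩ hkey
  have hker : commutator M ≤ (MonoidHom.transfer (MonoidHom.id (S : Subgroup M))).ker :=
    Abelianization.commutator_subset_ker _
  rw [MonoidHom.mem_ker.mp (hker hyD)] at h
  have h' : (⟨y, hyM⟩ : M) ^ (S : Subgroup M).index = 1 := congrArg Subtype.val h.symm
  have hd := orderOf_dvd_of_pow_eq_one h'
  rw [hyord] at hd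
  exact S.not_dvd_index hd

end CfsgLib.ClassK.TIHall
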