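import Cfsg.Agent.Lib.ClassK.TIHall
import Cfsg.Agent.Lib.Perm.IcoNonsolvable

/-!
Separable groups with a TI Hall subgroup.
-/

set_option autoImplicit false

namespace CfsgLib.ClassK.TIHall

open Subgroup
open scoped commutatorElement

universe u

variable {G : Type u} [Group G] [Finite G] {H : Subgroup G}

theorem not_isSolvable_sl25 :
    ¬ Group.IsSolvable (Matrix.SpecialLinearGroup (Fin 2) (ZMod 5)) := by
  intro hs
  have hperf : commutator Perm.Ico.SL25 = ⊤ := by
    refine eq_top_iff.mpr (Perm.Ico.stdPair_closure ▸ (closure_le _).mpr ?_)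
    have key : ∀ g : Perm.Ico.SL25, g ^ 3 = 1 →
        Perm.Ico.signElt * g * Perm.Ico.signElt⁻¹ = g⁻¹ → g ∈ commutator Perm.Ico.SL25 := by
      intro g hg hs'
      have h : ⁅Perm.Ico.signElt, g⁆ = g := by
        rw [commutatorElement_def, hs']
        calc g⁻¹ * g⁻¹ = g⁻¹ * g⁻¹ * g ^ 3 := by rw [hg, mul_one]
          _ = g := by group
      rw [commutator_def, ← h]
      exact commutator_mem_commutator (mem_top _) (mem_top _)
    rintro _ (rfl | rfl)
    · exact key _ Perm.Ico.stdPair_spec.2.2.2.2.1 Perm.Ico.signElt_spec.1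
    · exact key _ Perm.Ico.stdPair_spec.2.2.2.2.2.2.1 Perm.Ico.signElt_spec.2
  have : Subsingleton Perm.Ico.SL25 := Perm.Ico.subsingleton_of_perfect_solvable hperf hs
  exact Perm.Ico.stdPair_spec.2.2.2.2.2.1 (Subsingleton.elim _ _)

/-- Join of normal subgroups of order prime to `m` has order prime to `m`. -/
theorem coprime_sSup (m : ℕ) {T : Set (Subgroup G)}
    (hT : ∀ K ∈ T, K.Normal ∧ (Nat.card K).Coprime m) :
    (sSup T).Normal ∧ (Nat.card (sSup T : Subgroup G)).Coprime m := by
  induction T, Set.toFinite T using Set.Finite.induction_on with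
  | empty =>
    rw [sSup_empty]
    exact ⟨inferInstance, by simp⟩
  | @insert K T _ _ ih =>
    obtain ⟨hn, hc⟩ := ih fun J hJ => hT J (Set.mem_insert_of_mem _ hJ)
    obtain ⟨hKn, hKc⟩ := hT K (Set.mem_insert _ _)
    haveI := hn
    haveI := hKn
    rw [sSup_insert]
    refine ⟨inferInstance, ?_⟩
    have h : Nat.card (sSup T : Subgroup G) * (sSup T).relIndex (K ⊔ sSup T) =
        Nat.card (K ⊔ sSup T : Subgroup G) := by
      rw [← relIndex_bot_left, ← relIndex_bot_left,
        relIndex_mul_relIndex ⊥ _ _ bot_le le_sup_right]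
    rw [← h, relIndex_sup_right]
    exact hc.mul_left (hKc.coprime_dvd_left (relIndex_dvd_card _ _))

theorem normal_of_sup_normalizer {A B : Subgroup G} (h : A ⊔ B = ⊤) {N : Subgroup G}
    (hA : A ≤ normalizer (N : Set G)) (hB : B ≤ normalizer (N : Set G)) : N.Normal :=
  normalizer_eq_top_iff.mp (top_le_iff.mp (h.symm.le.trans (sup_le hA hB)))

variable (hTI : Cfsg.IsTISubset (H : Set G)) (hnn : ¬ H.Normal)
  (hHall : (Nat.card H).Coprime (H.subgroupOf (normalizer (H : Set G))).index)
  (hsep : ∃ (n : ℕ) (M : Fin (n + 1) → Subgroup G), M 0 = ⊥ ∧ M (Fin.last n) = ⊤ ∧ Monotone M ∧ (∀ i, (M i).Normal) ∧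
    ∀ i : Fin n, (∀ q : ℕ, q.Prime → q ∣ (M i.castSucc).relIndex (M i.succ) → q ∣ Nat.card H) ∨
      ((M i.castSucc).relIndex (M i.succ)).Coprime (Nat.card H))
  {O : Subgroup G} (hO : O = sSup {K : Subgroup G | K.Normal ∧ (Nat.card K).Coprime (Nat.card H)})

include hTI hnn hHall hsep hO

/-- Structure of a separable group with a nonnormal TI Hall subgroup. -/
theorem sep_structure :
    O.Normal ∧ (Nat.card O).Coprime (Nat.card H) ∧ O ⊔ normalizer (H : Set G) = ⊤ ∧
      (O ⊔ H).Normal ∧
      (∃ (V : Type u) (_ : CommGroup V) (_ : Finite V) (_ : Nontrivial V) (φ : H →* MulAut V),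
        ∀ h : H, h ≠ 1 → ∀ v : V, φ h v = v → v = 1) ∧
      ∀ R : Subgroup G, R ≤ centralizer (H : Set G) → normalizer (H : Set G) ≤ normalizer (R : Set G) →
        (Nat.card R).Coprime (Nat.card H) → R ≤ O := by
  have hH := coprime_index hTI hHall
  obtain ⟨hOn, hOc⟩ := hO ▸ coprime_sSup (Nat.card H)
    (T := {K : Subgroup G | K.Normal ∧ (Nat.card K).Coprime (Nat.card H)}) fun K hK => hK
  haveI := hOn
  have hmax : ∀ K : Subgroup G, K.Normal → (Nat.card K).Coprime (Nat.card H) → K ≤ O :=
    fun K h1 h2 => hO ▸ le_sSup ⟨h1, h2⟩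
  obtain ⟨n, M, hM0, hM1, hMmono, hMn, hMstep⟩ := hsep
  have hOtop : O ≠ ⊤ := by
    intro h
    rw [h, card_top] at hOc
    exact hnn ((eq_bot_of_card_eq H (Nat.eq_one_of_dvd_coprimes hOc
      (card_subgroup_dvd_card H) dvd_rfl)) ▸ inferInstance)
  obtain ⟨i, hi1, hi2⟩ : ∃ i : Fin n, M i.castSucc ≤ O ∧ ¬ M i.succ ≤ O := by
    by_contra hno
    simp only [not_exists, not_and, not_not] at hno
    have hall : ∀ i, M i ≤ O := Fin.induction (hM0 ▸ bot_le) hno
    exact hOtop (top_le_iff.mp (hM1 ▸ hall (Fin.last n)))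
  haveI := hMn i.succ
  have hpi : ∀ q : ℕ, q.Prime → q ∣ (M i.castSucc).relIndex (M i.succ) → q ∣ Nat.card H := by
    refine (hMstep i).resolve_right fun hc => hi2 (hmax _ (hMn _) ?_)
    rw [← relIndex_bot_left, ← relIndex_mul_relIndex ⊥ (M i.castSucc) _ bot_le
      (hMmono (Fin.castSucc_le_succ i)), relIndex_bot_left]
    exact (hOc.coprime_dvd_left (card_dvd_of_le hi1)).mul_left hc
  set J := O ⊔ H with hJ
  -- the first π-layer lies in `O H`
  have hMJ : M i.succ ≤ J := by
    rw [← relIndex_eq_one]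
    have h1 : J.relIndex (M i.succ) ∣ (M i.castSucc).relIndex (M i.succ) :=
      relIndex_dvd_of_le_left _ (hi1.trans le_sup_left)
    have h2 : J.relIndex (M i.succ) = J.relIndex (M i.succ ⊔ J) := by
      have a := relIndex_mul_relIndex ⊥ (M i.succ ⊓ J) (M i.succ) bot_le inf_le_left
      have b := relIndex_mul_relIndex ⊥ (M i.succ ⊓ J) J bot_le inf_le_right
      have c := relIndex_mul_relIndex ⊥ (M i.succ) (M i.succ ⊔ J) bot_le le_sup_left
      have d := relIndex_mul_relIndex ⊥ J (M i.succ ⊔ J) bot_le le_sup_right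
      rw [inf_relIndex_left] at a
      rw [inf_relIndex_right] at b
      simp only [relIndex_bot_left] at a b c d
      rw [sup_comm (M i.succ) J, relIndex_sup_right, sup_comm J (M i.succ), ← a] at c
      rw [← b] at d
      refine (Nat.eq_of_mul_eq_mul_left (Nat.mul_pos (Nat.card_pos (α := (M i.succ ⊓ J : Subgroup G)))
        (Nat.pos_of_ne_zero (index_ne_zero_of_finite : (M i.succ).relIndex J ≠ 0))) ?_).symm
      show Nat.card (M i.succ ⊓ J : Subgroup G) * (M i.succ).relIndex J * J.relIndex (M i.succ ⊔ J) =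
        Nat.card (M i.succ ⊓ J : Subgroup G) * (M i.succ).relIndex J * J.relIndex (M i.succ)
      rw [d, ← c]; ring
    refine Nat.eq_one_iff_not_exists_prime_dvd.mpr fun q hq hqd => ?_
    exact hq.one_lt.ne' (Nat.eq_one_of_dvd_coprimes hH (hpi q hq (hqd.trans h1))
      (((h2 ▸ hqd).trans (Dvd.intro _ (relIndex_mul_index (le_sup_right : J ≤ M i.succ ⊔ J)))).trans
        (index_dvd_of_le le_sup_right)))
  -- a Sylow subgroup of that layer lies in `H`
  set M' := M i.succ ⊔ O with hM'
  have hM'J : M' ≤ J := sup_le hMJ le_sup_left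
  have hdisj : O ⊓ H = ⊥ := inf_eq_bot_of_coprime hOc
  have hM'card : Nat.card M' = Nat.card O * Nat.card (M' ⊓ H : Subgroup G) := by
    have h1 : O ⊔ (M' ⊓ H) = M' := by
      refine le_antisymm (sup_le le_sup_right inf_le_left) fun x hx => ?_
      obtain ⟨o, ho, h, hh, rfl⟩ := mem_sup_of_normal_left.mp (hM'J hx)
      refine mul_mem (mem_sup_left ho) (mem_sup_right ⟨?_, hh⟩)
      have := mul_mem (inv_mem (mem_sup_right (S := M i.succ) ho)) hx
      rwa [inv_mul_cancel_left] at this
    have h2 := relIndex_mul_relIndex ⊥ O M' bot_le le_sup_right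
    rw [relIndex_bot_left, relIndex_bot_left] at h2
    rw [← h2]
    congr 1
    conv_lhs => rw [← h1, sup_comm, relIndex_sup_right, ← inf_relIndex_right, inf_comm, inf_assoc, inf_comm H O,
      hdisj, inf_bot_eq, relIndex_bot_left]
  have hne : M' ⊓ H ≠ ⊥ := by
    intro h
    rw [h, card_bot, mul_one] at hM'card
    exact hi2 (le_sup_left.trans (eq_of_le_of_card_ge (le_sup_right : O ≤ M') hM'card.le).ge)
  obtain ⟨p, hp, hpd⟩ := Nat.exists_prime_and_dvd (fun h => hne (card_eq_one.mp h))
  haveI : Fact p.Prime := ⟨hp⟩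
  obtain ⟨P₀⟩ : Nonempty (Sylow p (M' ⊓ H : Subgroup G)) := inferInstance
  set P' := (P₀ : Subgroup (M' ⊓ H : Subgroup G)).map (M' ⊓ H).subtype with hP'
  have hP'M : P' ≤ M' := (map_subtype_le _).trans inf_le_left
  have hP'H : P' ≤ H := (map_subtype_le _).trans inf_le_right
  have hpO : ¬ p ∣ Nat.card O := fun h => hp.one_lt.ne' (Nat.eq_one_of_dvd_coprimes hOc h
    (hpd.trans (card_dvd_of_le inf_le_right)))
  have hP'card : Nat.card (P'.subgroupOf M') = p ^ (Nat.card M').factorization p := by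
    rw [Coprime.card_subgroupOf hP'M, hP', card_map_of_injective (subtype_injective _),
      P₀.card_eq_multiplicity, hM'card, Nat.factorization_mul Nat.card_pos.ne' Nat.card_pos.ne']
    simp [Nat.factorization_eq_zero_of_not_dvd hpO]
  have hfr : normalizer (P' : Set G) ⊔ M' = ⊤ := by
    have h1 := Sylow.normalizer_sup_eq_top (Sylow.ofCard (P'.subgroupOf M') hP'card)
    rwa [Sylow.coe_ofCard, subgroupOf_map_subtype, inf_eq_left.mpr hP'M] at h1
  have hP'ne : P' ≠ ⊥ := fun h => P₀.ne_bot_of_dvd_card hpd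
    ((map_eq_bot_iff_of_injective _ (subtype_injective _)).mp h)
  have hNP : normalizer (P' : Set G) ≤ normalizer (H : Set G) := by
    intro g hg
    obtain ⟨z, hz, hz1⟩ := SetLike.exists_of_lt (bot_lt_iff_ne_bot.mpr hP'ne)
    exact mem_normalizer_of_conj hTI (hP'H hz) (fun h => hz1 (mem_bot.mpr h))
      (hP'H ((mem_normalizer_iff.mp hg z).mp hz))
  have htop : O ⊔ normalizer (H : Set G) = ⊤ := top_le_iff.mp (hfr.symm.le.trans
    (sup_le (hNP.trans le_sup_right) (hM'J.trans (sup_le_sup_left le_normalizer _))))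
  have hJn : J.Normal := normal_of_sup_normalizer htop
    (le_sup_left.trans le_normalizer) (fun g hg => by
      rw [Coprime.mem_normalizer_iff_map_conj, hJ, Subgroup.map_sup, Coprime.map_conj_of_mem_normalizer hg,
        Coprime.map_conj_of_mem_normalizer (normalizer_eq_top (H := O) ▸ mem_top g)])
  refine ⟨hOn, hOc, htop, hJn, ?_, fun R hR hRN hRc => ?_⟩
  · set H' := H.subgroupOf J with hH'
    have hHJ : H ≤ J := le_sup_right
    have hTI' : Cfsg.IsTISubset (H' : Set J) := fun g hg x hx hgx => Subtype.ext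
      (hTI g (fun h => hg (by
        rwa [← mem_subgroupOf, subgroupOf_normalizer_eq hHJ] at h)) x hx hgx)
    have hnn' : ¬ H'.Normal := by
      intro h
      refine hnn (normalizer_eq_top_iff.mp (top_le_iff.mp (htop.symm.le.trans (sup_le ?_ le_rfl))))
      refine (le_sup_left : O ≤ J).trans fun g hg => ?_
      have : (⟨g, hg⟩ : J) ∈ normalizer (H' : Set J) := normalizer_eq_top (H := H') ▸ mem_top _
      rwa [hH', ← subgroupOf_normalizer_eq hHJ, mem_subgroupOf] at this
    have hc : (O.subgroupOf J).IsComplement' H' := by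
      refine isComplement'_of_disjoint_and_mul_eq_univ ?_ ?_
      · rw [disjoint_iff, eq_bot_iff]
        rintro x ⟨h1, h2⟩
        exact Subtype.ext (mem_bot.mp (hdisj ▸ mem_inf.mpr ⟨h1, h2⟩))
      · refine Set.eq_univ_of_forall fun x => ?_
        obtain ⟨o, ho, h, hh, e⟩ := mem_sup_of_normal_left.mp x.2
        exact ⟨⟨o, le_sup_left (b := H) ho⟩, ho, ⟨h, hHJ hh⟩, hh, Subtype.ext e⟩
    obtain ⟨V, _, _, _, φ, hφ⟩ := exists_fpf_comm hTI' hnn' hc (by
      rw [Coprime.card_subgroupOf hHJ, Coprime.card_subgroupOf (le_sup_left : O ≤ J)]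
      exact hOc.symm)
    exact ⟨V, inferInstance, inferInstance, inferInstance,
      φ.comp (subgroupOfEquivOfLe hHJ).symm.toMonoidHom, fun h hh => hφ _ fun e =>
        hh ((subgroupOfEquivOfLe hHJ).symm.injective (e.trans (map_one _).symm))⟩
  · have hOR : (O ⊔ R).Normal := normal_of_sup_normalizer htop
      (le_sup_left.trans le_normalizer) (fun g hg => by
        rw [Coprime.mem_normalizer_iff_map_conj, Subgroup.map_sup, Coprime.map_conj_of_mem_normalizer (hRN hg),
          Coprime.map_conj_of_mem_normalizer (normalizer_eq_top (H := O) ▸ mem_top g)])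
    refine le_sup_right.trans (hmax _ hOR ?_)
    have h1 := relIndex_mul_relIndex ⊥ O (O ⊔ R) bot_le le_sup_left
    rw [relIndex_bot_left, relIndex_bot_left, sup_comm O R, relIndex_sup_right] at h1
    rw [sup_comm, ← h1]
    exact hOc.mul_left (hRc.coprime_dvd_left (relIndex_dvd_card _ _))

omit hTI hnn hHall hsep hO [Finite G] in
theorem le_normalizer_inf_centralizer {Q : Subgroup G}
    (hQ : Q ≤ normalizer (H : Set G)) (hQH' : Q ⊔ H = normalizer (H : Set G)) :
    normalizer (H : Set G) ≤ normalizer ((Q ⊓ centralizer (H : Set G) : Subgroup G) : Set G) := by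
  have hC : normalizer (H : Set G) ≤ normalizer ((centralizer (H : Set G) : Subgroup G) : Set G) := by
    intro g hg
    rw [mem_normalizer_iff]
    intro x
    constructor
    · intro hx
      refine mem_centralizer_iff.mpr fun h hh => ?_
      have := mem_centralizer_iff.mp hx _ ((mem_normalizer_iff''.mp hg h).mp hh)
      calc h * (g * x * g⁻¹) = g * (g⁻¹ * h * g * x) * g⁻¹ := by group
        _ = g * (x * (g⁻¹ * h * g)) * g⁻¹ := by rw [this]
        _ = g * x * g⁻¹ * h := by group
    · intro hx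
      refine mem_centralizer_iff.mpr fun h hh => ?_
      have := mem_centralizer_iff.mp hx _ ((mem_normalizer_iff.mp hg h).mp hh)
      calc h * x = g⁻¹ * (g * h * g⁻¹ * (g * x * g⁻¹)) * g := by group
        _ = g⁻¹ * (g * x * g⁻¹ * (g * h * g⁻¹)) * g := by rw [this]
        _ = x * h := by group
  refine hQH'.symm.le.trans (sup_le (fun g hg => ?_) fun h hh => ?_)
  · rw [mem_normalizer_iff]
    intro x
    refine and_congr (mem_normalizer_iff.mp (le_normalizer hg) x) ?_
    exact mem_normalizer_iff.mp (hC (hQ hg)) x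
  · rw [mem_normalizer_iff]
    intro x
    constructor
    · intro hx
      rwa [mem_centralizer_iff.mp hx.2 h hh, mul_inv_cancel_right]
    · intro hx
      have h2 := mem_centralizer_iff.mp hx.2 h hh
      rw [show h * x * h⁻¹ * h = h * x by group, mul_right_inj] at h2
      rwa [h2] at hx

omit hTI hnn hsep hO in
include hHall in
/-- A complement of a Hall subgroup in its normaliser has coprime order. -/
theorem coprime_complement {Q : Subgroup G} (hQ : Q ≤ normalizer (H : Set G)) (hQH : Q ⊓ H = ⊥) :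
    (Nat.card Q).Coprime (Nat.card H) := by
  set M := normalizer (H : Set G)
  haveI : (H.subgroupOf M).Normal := normal_subgroupOf_of_le_normalizer le_rfl
  have h1 : (H.subgroupOf M).relIndex (Q.subgroupOf M) = H.relIndex Q := relIndex_subgroupOf hQ
  have h2 : H.relIndex Q = Nat.card Q := by
    rw [← inf_relIndex_left, hQH, relIndex_bot_left]
  exact (hHall.coprime_dvd_right (h2 ▸ h1 ▸ relIndex_dvd_index_of_normal _ _)).symm

omit hTI hnn hsep hO in
include hHall in
theorem exists_normalizer_complement : ∃ Q : Subgroup G, Q ≤ normalizer (H : Set G) ∧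
    Q ⊓ H = ⊥ ∧ Q ⊔ H = normalizer (H : Set G) := by
  set M := normalizer (H : Set G)
  haveI : (H.subgroupOf M).Normal := normal_subgroupOf_of_le_normalizer le_rfl
  obtain ⟨E, hE⟩ := exists_right_complement'_of_coprime (N := H.subgroupOf M)
    (by rw [Coprime.card_subgroupOf le_normalizer]; exact hHall)
  refine ⟨E.map M.subtype, map_subtype_le _, ?_, ?_⟩
  · rw [eq_bot_iff]
    rintro _ ⟨⟨y, hy, rfl⟩, hyH⟩
    exact congrArg Subtype.val (disjoint_def.mp hE.symm.disjoint hy hyH)
  · have h := congrArg (Subgroup.map M.subtype) hE.symm.sup_eq_top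
    rwa [Subgroup.map_sup, subgroupOf_map_subtype, inf_eq_left.mpr le_normalizer,
      ← MonoidHom.range_eq_map, range_subtype] at h

/-- Commutators of a complement in the normaliser centralise a solvable TI Hall subgroup and lie in
`O`. -/
theorem commutator_mem {Q : Subgroup G} (hQ : Q ≤ normalizer (H : Set G)) (hQH : Q ⊓ H = ⊥)
    (hQH' : Q ⊔ H = normalizer (H : Set G)) (hs : Group.IsSolvable H) {a b : G} (ha : a ∈ Q)
    (hb : b ∈ Q) : ⁅a, b⁆ ∈ O ∧ ⁅a, b⁆ ∈ centralizer (H : Set G) := by
  obtain ⟨-, -, -, -, ⟨V, _, _, _, φ, hφ⟩, hR⟩ := sep_structure hTI hnn hHall hsep hO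
  have hco := coprime_complement hHall hQ hQH
  have h1 : ⁅a, b⁆ ∈ centralizer (H : Set G) := mem_centralizer_iff.mpr fun h hh =>
    mem_centralizer_singleton_iff.mp (commutator_centralizes hQ hco hs φ hφ ha hb hh)
  refine ⟨hR (Q ⊓ centralizer (H : Set G)) inf_le_right (le_normalizer_inf_centralizer hQ hQH')
    (hco.coprime_dvd_left (card_dvd_of_le inf_le_left)) ⟨?_, h1⟩, h1⟩
  show _ ∈ Q
  rw [commutatorElement_def]
  exact mul_mem (mul_mem (mul_mem ha hb) (inv_mem ha)) (inv_mem hb)

end CfsgLib.ClassK.TIHall
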