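import Cfsg.Agent.Lib.Solvable.Nilpotent
import Mathlib.GroupTheory.Nilpotent
import Mathlib.GroupTheory.Sylow
import Mathlib.Tactic.Group

/-!
# A TI elementary abelian 2-subgroup with a conjugate in the radical of its normalizer
-/

set_option autoImplicit false

namespace CfsgLib.ClassK.TI

open Subgroup

universe u

variable {G : Type u} [Group G]

/-- The conjugate `x K x⁻¹`. -/
def cj (x : G) (K : Subgroup G) : Subgroup G := K.map (MulAut.conj x).toMonoidHom

theorem mem_cj {x : G} {K : Subgroup G} {y : G} : y ∈ cj x K ↔ x⁻¹ * y * x ∈ K := by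
  constructor
  · rintro ⟨k, hk, rfl⟩
    simpa [mul_assoc] using hk
  · exact fun h => ⟨_, h, by simp [mul_assoc]⟩

theorem conj_mem_cj {x : G} {K : Subgroup G} {y : G} : x * y * x⁻¹ ∈ cj x K ↔ y ∈ K := by
  rw [mem_cj, show x⁻¹ * (x * y * x⁻¹) * x = y by group]

theorem cj_one (K : Subgroup G) : cj 1 K = K := by
  ext y; simp [mem_cj]

theorem cj_mul (x y : G) (K : Subgroup G) : cj (x * y) K = cj x (cj y K) := by
  ext z; simp [mem_cj, mul_assoc]

theorem card_cj (x : G) (K : Subgroup G) : Nat.card (cj x K) = Nat.card K :=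
  card_map_of_injective (MulAut.conj x).injective

theorem mem_normalizer_iff_cj {x : G} {K : Subgroup G} :
    x ∈ normalizer (K : Set G) ↔ cj x K = K := by
  rw [mem_normalizer_iff]
  constructor
  · intro h
    ext y
    rw [mem_cj, h, show x * (x⁻¹ * y * x) * x⁻¹ = y by group]
  · intro h y
    conv_rhs => rw [← h]
    rw [conj_mem_cj]

theorem cj_sup (x : G) (K L : Subgroup G) : cj x (K ⊔ L) = cj x K ⊔ cj x L := Subgroup.map_sup _ _ _

theorem cj_mono {x : G} {K L : Subgroup G} (h : K ≤ L) : cj x K ≤ cj x L := Subgroup.map_mono h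

theorem normalizer_cj (x : G) (K : Subgroup G) :
    normalizer (cj x K : Set G) = cj x (normalizer (K : Set G)) := by
  ext y
  rw [mem_cj, mem_normalizer_iff_cj, mem_normalizer_iff_cj, ← cj_mul]
  constructor
  · intro h
    rw [show x⁻¹ * y * x = x⁻¹ * (y * x) by group, cj_mul, h, ← cj_mul, inv_mul_cancel, cj_one]
  · intro h
    rw [show y * x = x * (x⁻¹ * y * x) by group, cj_mul, h]

/-- The commutator `p y p⁻¹ y⁻¹`. -/
def br (p y : G) : G := p * y * p⁻¹ * y⁻¹

theorem br_eq_one {p y : G} : br p y = 1 ↔ p * y = y * p := by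
  rw [br, mul_inv_eq_one, mul_inv_eq_iff_eq_mul]

theorem mul_eq_br_mul (p y : G) : p * y * p⁻¹ = br p y * y := by simp [br]

theorem br_mul_left (a b y : G) : br (a * b) y = a * br b y * a⁻¹ * br a y := by
  unfold br; group

theorem br_mul_right (a y z : G) : br a (y * z) = br a y * (y * br a z * y⁻¹) := by
  unfold br; group

/-- The hypotheses on `V` and `Q = O₂(N(V))`. -/
structure IsTIData (V Q : Subgroup G) : Prop where
  two : IsPGroup 2 Q
  comm : ∀ v ∈ V, ∀ w ∈ V, v * w = w * v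
  sq : ∀ v ∈ V, v * v = 1
  le : Q ≤ normalizer (V : Set G)
  inv : ∀ m ∈ normalizer (V : Set G), ∀ q ∈ Q, m * q * m⁻¹ ∈ Q
  largest : ∀ R : Subgroup G, IsPGroup 2 R → R ≤ normalizer (V : Set G) →
    (∀ m ∈ normalizer (V : Set G), ∀ r ∈ R, m * r * m⁻¹ ∈ R) → R ≤ Q
  selfc : ∀ x ∈ normalizer (V : Set G), (∀ q ∈ Q, x * q = q * x) → x ∈ Q
  maxab : ∀ A : Subgroup G, V ≤ A → A ≤ normalizer (V : Set G) →
    (∀ a ∈ A, ∀ b ∈ A, a * b = b * a) →
    (∀ m ∈ normalizer (V : Set G), ∀ a ∈ A, m * a * m⁻¹ ∈ A) → A = V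
  ti : ∀ (x v : G), v ∈ V → v ≠ 1 → x * v * x⁻¹ ∈ V → x ∈ normalizer (V : Set G)

/-- A conjugate of `V` other than `V`. -/
def IsOther (V A : Subgroup G) : Prop := (∃ x : G, A = cj x V) ∧ A ≠ V

namespace IsTIData

variable [Finite G] {V Q : Subgroup G}

theorem conjugate (h : IsTIData V Q) (x : G) : IsTIData (cj x V) (cj x Q) where
  two := h.two.map _
  comm := by
    intro v hv w hw
    rw [mem_cj] at hv hw
    have := h.comm _ hv _ hw
    calc v * w = x * (x⁻¹ * v * x * (x⁻¹ * w * x)) * x⁻¹ := by group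
      _ = x * (x⁻¹ * w * x * (x⁻¹ * v * x)) * x⁻¹ := by rw [this]
      _ = w * v := by group
  sq := by
    intro v hv
    have := h.sq _ (mem_cj.1 hv)
    calc v * v = x * (x⁻¹ * v * x * (x⁻¹ * v * x)) * x⁻¹ := by group
      _ = 1 := by rw [this]; group
  le := normalizer_cj x V ▸ cj_mono h.le
  inv := by
    intro m hm q hq
    rw [normalizer_cj, mem_cj] at hm
    rw [mem_cj] at hq ⊢
    convert h.inv _ hm _ hq using 1
    group
  largest := by
    intro R hR hRN hRi
    rw [normalizer_cj] at hRN hRi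
    have hle : cj x⁻¹ R ≤ Q := by
      refine h.largest _ (hR.map _) (fun y hy => ?_) fun m hm r hr => ?_
      · rw [mem_cj, inv_inv] at hy
        have := mem_cj.1 (hRN hy)
        rwa [show x⁻¹ * (x * y * x⁻¹) * x = y by group] at this
      · rw [mem_cj, inv_inv] at hr ⊢
        convert hRi (x * m * x⁻¹) (conj_mem_cj.2 hm) _ hr using 1
        group
    have := cj_mono (x := x) hle
    rwa [← cj_mul, mul_inv_cancel, cj_one] at this
  selfc := by
    intro y hy hc
    rw [normalizer_cj, mem_cj] at hy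
    refine mem_cj.2 (h.selfc _ hy fun q hq => ?_)
    have := hc (x * q * x⁻¹) (conj_mem_cj.2 hq)
    calc x⁻¹ * y * x * q = x⁻¹ * (y * (x * q * x⁻¹)) * x := by group
      _ = x⁻¹ * (x * q * x⁻¹ * y) * x := by rw [this]
      _ = q * (x⁻¹ * y * x) := by group
  maxab := by
    intro A hVA hAN hab hAi
    rw [normalizer_cj] at hAN hAi
    have hle : cj x⁻¹ A = V := by
      refine h.maxab _ (fun v hv => ?_) (fun y hy => ?_) (fun a ha b hb => ?_) fun m hm r hr => ?_
      · rw [mem_cj, inv_inv]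
        exact hVA (conj_mem_cj.2 hv)
      · rw [mem_cj, inv_inv] at hy
        have := mem_cj.1 (hAN hy)
        rwa [show x⁻¹ * (x * y * x⁻¹) * x = y by group] at this
      · rw [mem_cj, inv_inv] at ha hb
        have := hab _ ha _ hb
        calc a * b = x⁻¹ * (x * a * x⁻¹ * (x * b * x⁻¹)) * x := by group
          _ = x⁻¹ * (x * b * x⁻¹ * (x * a * x⁻¹)) * x := by rw [this]
          _ = b * a := by group
      · rw [mem_cj, inv_inv] at hr ⊢
        convert hAi (x * m * x⁻¹) (conj_mem_cj.2 hm) _ hr using 1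
        group
    have := congrArg (cj x) hle
    rwa [← cj_mul, mul_inv_cancel, cj_one] at this
  ti := by
    intro y v hv hv1 hyv
    rw [mem_cj] at hv hyv
    rw [normalizer_cj, mem_cj]
    refine h.ti _ _ hv (fun e => hv1 ?_) ?_
    · calc v = x * (x⁻¹ * v * x) * x⁻¹ := by group
        _ = 1 := by rw [e]; group
    · convert hyv using 1
      group

theorem unique {Q' : Subgroup G} (h : IsTIData V Q) (h' : IsTIData V Q') : Q = Q' :=
  le_antisymm (h'.largest Q h.two h.le h.inv) (h.largest Q' h'.two h'.le h'.inv)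

variable (h : IsTIData V Q)
include h

theorem inv_iff {m q : G} (hm : m ∈ normalizer (V : Set G)) : m * q * m⁻¹ ∈ Q ↔ q ∈ Q := by
  refine ⟨fun hq => ?_, h.inv m hm q⟩
  have := h.inv m⁻¹ (inv_mem hm) _ hq
  rwa [show m⁻¹ * (m * q * m⁻¹) * m⁻¹⁻¹ = q by group] at this

theorem inv_eq {v : G} (hv : v ∈ V) : v⁻¹ = v := inv_eq_of_mul_eq_one_left (h.sq v hv)

theorem le_Q : V ≤ Q := by
  refine h.largest V (IsPGroup.iff_orderOf.2 fun v => ?_) le_normalizer
    fun m hm r hr => (mem_normalizer_iff.1 hm r).1 hr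
  have h2 : orderOf v ∣ 2 := orderOf_dvd_of_pow_eq_one (by
    rw [pow_two]; exact Subtype.ext (h.sq v v.2))
  rcases (Nat.dvd_prime Nat.prime_two).1 h2 with e | e
  · exact ⟨0, by rw [e, pow_zero]⟩
  · exact ⟨1, by rw [e, pow_one]⟩

theorem cj_eq_of_mem {x v : G} (hv : v ∈ V) (hv1 : v ≠ 1) (hvx : v ∈ cj x V) : cj x V = V := by
  rw [mem_cj] at hvx
  refine mem_normalizer_iff_cj.1 (inv_mem_iff.1 (h.ti x⁻¹ v hv hv1 ?_))
  rwa [inv_inv]

theorem cj_eq_cj {x y w : G} (hw1 : w ≠ 1) (hx : w ∈ cj x V) (hy : w ∈ cj y V) :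
    cj x V = cj y V := by
  rw [mem_cj] at hy
  have h1 : y⁻¹ * w * y ≠ 1 := fun e => hw1 (by
    calc w = y * (y⁻¹ * w * y) * y⁻¹ := by group
      _ = 1 := by rw [e]; group)
  have h2 : y⁻¹ * w * y ∈ cj (y⁻¹ * x) V := by
    rw [cj_mul, mem_cj]
    convert hx using 1
    group
  have := congrArg (cj y) (h.cj_eq_of_mem hy h1 h2)
  rwa [← cj_mul, mul_inv_cancel_left] at this

theorem centralizer_le {x v : G} (hv : v ∈ V) (hv1 : v ≠ 1) (hx : x * v = v * x) :
    x ∈ normalizer (V : Set G) := by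
  refine h.ti x v hv hv1 ?_
  rwa [hx, mul_inv_cancel_right]

theorem br_mem {x v : G} (hx : x ∈ normalizer (V : Set G)) (hv : v ∈ V) : br x v ∈ V :=
  mul_mem ((mem_normalizer_iff.1 hx v).1 hv) (inv_mem hv)

theorem br_mem' {x v : G} (hx : x ∈ normalizer (V : Set G)) (hv : v ∈ V) : br v x ∈ V := by
  rw [show br v x = v * (x * v⁻¹ * x⁻¹) by unfold br; group]
  exact mul_mem hv ((mem_normalizer_iff.1 hx _).1 (inv_mem hv))

/-- `P = C_Q(V)`. -/
abbrev P' (V Q : Subgroup G) : Subgroup G := Q ⊓ centralizer (V : Set G)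

omit h in
theorem comm_of_P {p v : G} (hp : p ∈ P' V Q) (hv : v ∈ V) : p * v = v * p :=
  (mem_centralizer_iff.1 hp.2 v hv).symm

theorem V_le_P : V ≤ P' V Q :=
  le_inf h.le_Q fun v hv => mem_centralizer_iff.2 fun w hw => h.comm w hw v hv

theorem P_inv {m : G} (hm : m ∈ normalizer (V : Set G)) {p : G} (hp : p ∈ P' V Q) :
    m * p * m⁻¹ ∈ P' V Q := by
  refine ⟨h.inv m hm p hp.1, mem_centralizer_iff.2 fun v hv => ?_⟩
  have hv' : m⁻¹ * v * m ∈ V := by
    have := (mem_normalizer_iff.1 (inv_mem hm) v).1 hv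
    rwa [inv_inv] at this
  have := comm_of_P hp hv'
  calc v * (m * p * m⁻¹) = m * (m⁻¹ * v * m * p) * m⁻¹ := by group
    _ = m * (p * (m⁻¹ * v * m)) * m⁻¹ := by rw [this]
    _ = m * p * m⁻¹ * v := by group

omit h in
theorem P_le_Q : P' V Q ≤ Q := inf_le_left

theorem P_le_N : P' V Q ≤ normalizer (V : Set G) := inf_le_left.trans h.le

theorem center_P {z : G} (hz : z ∈ P' V Q) (hc : ∀ p ∈ P' V Q, z * p = p * z) : z ∈ V := by
  let A : Subgroup G := P' V Q ⊓ centralizer ((P' V Q : Subgroup G) : Set G)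
  have hA : A = V := by
    refine h.maxab A ?_ (inf_le_left.trans h.P_le_N) ?_ ?_
    · exact le_inf h.V_le_P fun v hv => mem_centralizer_iff.2 fun p hp => comm_of_P hp hv
    · exact fun a ha b hb => mem_centralizer_iff.1 hb.2 a ha.1
    · intro m hm a ha
      refine ⟨h.P_inv hm ha.1, mem_centralizer_iff.2 fun p hp => ?_⟩
      have hp' := h.P_inv (inv_mem hm) hp
      rw [inv_inv] at hp'
      have := mem_centralizer_iff.1 ha.2 _ hp'
      calc p * (m * a * m⁻¹) = m * (m⁻¹ * p * m * a) * m⁻¹ := by group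
        _ = m * (a * (m⁻¹ * p * m)) * m⁻¹ := by rw [this]
        _ = m * a * m⁻¹ * p := by group
  exact hA ▸ (⟨hz, mem_centralizer_iff.2 fun p hp => (hc p hp).symm⟩ : z ∈ A)

/-- Commutators and squares of `C_Q(V)` lie in `V`. -/
theorem br_P_mem {p q : G} (hp : p ∈ P' V Q) (hq : q ∈ P' V Q) : br p q ∈ V ∧ p * p ∈ V := by
  set P := P' V Q
  have hnil : Group.IsNilpotent P := (h.two.to_le (P_le_Q (V := V) (Q := Q))).isNilpotent
  let X : Subgroup G :=
    { carrier := {x | x ∈ P ∧ ∀ p ∈ P, br x p ∈ V}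
      one_mem' := ⟨one_mem _, fun p _ => by simp [br]⟩
      mul_mem' := by
        intro a b ha hb
        refine ⟨mul_mem ha.1 hb.1, fun p hp => ?_⟩
        rw [br_mul_left]
        exact mul_mem ((mem_normalizer_iff.1 (h.P_le_N ha.1) _).1 (hb.2 p hp)) (ha.2 p hp)
      inv_mem' := by
        intro a ha
        refine ⟨inv_mem ha.1, fun p hp => ?_⟩
        have h1 := (mem_normalizer_iff.1 (inv_mem (h.P_le_N ha.1)) _).1 (inv_mem (ha.2 p hp))
        convert h1 using 1
        unfold br; group }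
  have hXP : X ≤ P := fun x hx => hx.1
  let E : Subgroup G := P ⊓ centralizer (X : Set G)
  have hXinv : ∀ m ∈ normalizer (V : Set G), ∀ x ∈ X, m * x * m⁻¹ ∈ X := by
    intro m hm x hx
    refine ⟨h.P_inv hm hx.1, fun p hp => ?_⟩
    have hp' := h.P_inv (inv_mem hm) hp
    rw [inv_inv] at hp'
    have h1 := (mem_normalizer_iff.1 hm _).1 (hx.2 _ hp')
    convert h1 using 1
    unfold br; group
  have hEinv : ∀ m ∈ normalizer (V : Set G), ∀ e ∈ E, m * e * m⁻¹ ∈ E := by
    intro m hm e he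
    refine ⟨h.P_inv hm he.1, mem_centralizer_iff.2 fun x hx => ?_⟩
    have hx' := hXinv _ (inv_mem hm) _ hx
    rw [inv_inv] at hx'
    have := mem_centralizer_iff.1 he.2 _ hx'
    calc x * (m * e * m⁻¹) = m * (m⁻¹ * x * m * e) * m⁻¹ := by group
      _ = m * (e * (m⁻¹ * x * m)) * m⁻¹ := by rw [this]
      _ = m * e * m⁻¹ * x := by group
  -- `X ∩ E` is central in `X`, hence in `V`
  have hXE : ∀ x ∈ X, x ∈ E → x ∈ V := by
    intro x hxX hxE
    let A : Subgroup G := X ⊓ E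
    have hVX : V ≤ X := fun v hv => ⟨h.V_le_P hv, fun p hp => by
      rw [br_eq_one.2 (comm_of_P hp hv).symm]; exact one_mem _⟩
    have hA : A = V := by
      refine h.maxab A (le_inf hVX (le_inf h.V_le_P fun v hv => mem_centralizer_iff.2
        fun y hy => comm_of_P hy.1 hv)) (inf_le_left.trans (hXP.trans h.P_le_N)) ?_ ?_
      · exact fun a ha b hb => mem_centralizer_iff.1 hb.2.2 a ha.1
      · exact fun m hm a ha => ⟨hXinv m hm a ha.1, hEinv m hm a ha.2⟩
    exact hA ▸ (⟨hxX, hxE⟩ : x ∈ A)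
  have hEV : E ≤ V := by
    let Vp := V.subgroupOf P
    have hVn : Vp.Normal :=
      ⟨fun v hv p => (mem_normalizer_iff.1 (h.P_le_N p.2) (v : G)).1 hv⟩
    let Ep := E.subgroupOf P
    have hEn : Ep.Normal := ⟨fun e he p => hEinv _ (h.P_le_N p.2) _ he⟩
    by_contra hle
    have hne : Ep.map (QuotientGroup.mk' Vp) ≠ ⊥ := by
      intro e
      apply hle
      intro x hx
      have h1 : QuotientGroup.mk' Vp ⟨x, hx.1⟩ = 1 := by
        rw [← mem_bot, ← e]; exact ⟨⟨x, hx.1⟩, hx, rfl⟩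
      exact (QuotientGroup.eq_one_iff (N := Vp) ⟨x, hx.1⟩).1 h1
    have := hEn.map (QuotientGroup.mk' Vp) (QuotientGroup.mk'_surjective Vp)
    obtain ⟨⟨z, hz⟩, hz1⟩ := ne_bot_iff_exists_ne_one.1
      (CfsgLib.Solvable.normal_inf_center_ne_bot (G := P ⧸ Vp) _ hne)
    obtain ⟨e, he, rfl⟩ := hz.1
    apply hz1
    refine Subtype.ext ?_
    refine (QuotientGroup.eq_one_iff (N := Vp) e).2 (hXE (e : G) ⟨e.2, fun p hp => ?_⟩ he)
    have hc := mem_center_iff.1 hz.2 (QuotientGroup.mk' Vp ⟨p, hp⟩)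
    have h1 : QuotientGroup.mk' Vp (e * ⟨p, hp⟩ * e⁻¹ * ⟨p, hp⟩⁻¹) = 1 := by
      rw [map_mul, map_mul, map_mul, ← hc, map_inv, map_inv]; group
    exact (QuotientGroup.eq_one_iff (N := Vp) _).1 h1
  constructor
  · refine hEV (mem_inf.2 ⟨(mul_mem (mul_mem (mul_mem hp hq) (inv_mem hp)) (inv_mem hq) : br p q ∈ P),
      mem_centralizer_iff.2 fun x hx => ?_⟩)
    have hcom : ∀ r ∈ P, ∀ v ∈ V, r * v = v * r := fun r hr v hv => comm_of_P hr hv
    -- conjugation by `x` fixes a commutator, as it moves `p`, `q` by central elements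
    have ea : x * p * x⁻¹ = br x p * p := mul_eq_br_mul x p
    have eb : x * q * x⁻¹ = br x q * q := mul_eq_br_mul x q
    have ha := hx.2 p hp
    have hb := hx.2 q hq
    have key : x * br p q * x⁻¹ = br p q := by
      calc x * br p q * x⁻¹ = br (x * p * x⁻¹) (x * q * x⁻¹) := by unfold br; group
        _ = br (br x p * p) (br x q * q) := by rw [ea, eb]
        _ = br x p * (br x q * (br p q * (br x q)⁻¹)) * (br x p)⁻¹ *
              br (br x p) (br x q * q) := by
            rw [br_mul_left, br_mul_right, br_eq_one.2 (hcom p hp _ hb), one_mul]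
            group
        _ = br p q := by
            have hpq : br p q ∈ P := mul_mem (mul_mem (mul_mem hp hq) (inv_mem hp)) (inv_mem hq)
            have h2 : br (br x p) (br x q * q) = 1 :=
              br_eq_one.2 (hcom _ (mul_mem (h.V_le_P hb) hq) _ ha).symm
            rw [h2, mul_one, hcom _ hpq _ (inv_mem hb), mul_inv_cancel_left,
              ← hcom _ hpq _ ha, mul_inv_cancel_right]
    exact mul_inv_eq_iff_eq_mul.1 key
  · refine hEV (mem_inf.2 ⟨(mul_mem hp hp : p * p ∈ P), mem_centralizer_iff.2 fun x hx => ?_⟩)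
    have ha := hx.2 p hp
    have key : x * (p * p) * x⁻¹ = p * p := by
      calc x * (p * p) * x⁻¹ = x * p * x⁻¹ * (x * p * x⁻¹) := by group
        _ = br x p * p * (br x p * p) := by rw [mul_eq_br_mul]
        _ = br x p * (p * br x p) * p := by group
        _ = br x p * (br x p * p) * p := by rw [comm_of_P hp ha]
        _ = p * p := by rw [← mul_assoc, h.sq _ ha, one_mul]
    exact mul_inv_eq_iff_eq_mul.1 key

theorem P_comm_V {p q v : G} (hp : p ∈ P' V Q) (hq : q ∈ P' V Q) (hv : v ∈ V) :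
    br p q * v = v * br p q := h.comm _ (h.br_P_mem hp hq).1 v hv

theorem br_hom_left {a b y : G} (ha : a ∈ P' V Q) (hb : b ∈ P' V Q) (hy : y ∈ P' V Q) :
    br (a * b) y = br a y * br b y := by
  rw [br_mul_left, comm_of_P ha (h.br_P_mem hb hy).1, mul_inv_cancel_right,
    h.comm _ (h.br_P_mem hb hy).1 _ (h.br_P_mem ha hy).1]

theorem br_hom_right {a y z : G} (ha : a ∈ P' V Q) (hy : y ∈ P' V Q) (hz : z ∈ P' V Q) :
    br a (y * z) = br a y * br a z := by
  rw [br_mul_right, comm_of_P hy (h.br_P_mem ha hz).1, mul_inv_cancel_right]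

variable {Y : Subgroup G}

theorem disjoint_other (hY : IsOther V Y) {y : G} (hy : y ∈ Y) (hyV : y ∈ V) : y = 1 := by
  obtain ⟨⟨x, rfl⟩, hne⟩ := hY
  by_contra h1
  exact hne (h.cj_eq_of_mem hyV h1 hy)

theorem other_comm (hY : IsOther V Y) {y z : G} (hy : y ∈ Y) (hz : z ∈ Y) : y * z = z * y := by
  obtain ⟨⟨x, rfl⟩, -⟩ := hY
  exact (h.conjugate x).comm y hy z hz

theorem other_sq (hY : IsOther V Y) {y : G} (hy : y ∈ Y) : y * y = 1 := by
  obtain ⟨⟨x, rfl⟩, -⟩ := hY
  exact (h.conjugate x).sq y hy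

theorem other_centralizer_le (hY : IsOther V Y) {x y : G} (hy : y ∈ Y) (hy1 : y ≠ 1)
    (hx : x * y = y * x) : x ∈ normalizer (Y : Set G) := by
  obtain ⟨⟨g, rfl⟩, -⟩ := hY
  exact (h.conjugate g).centralizer_le hy hy1 hx

theorem other_card (hY : IsOther V Y) : Nat.card Y = Nat.card V := by
  obtain ⟨⟨x, rfl⟩, -⟩ := hY
  exact card_cj x V

/-- A conjugate in `Q` centralizes `V`. -/
theorem other_le_P (hY : IsOther V Y) (hYQ : Y ≤ Q) : Y ≤ P' V Q := by
  suffices hyc : ∀ y ∈ Y, ∀ v ∈ V, v * y = y * v from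
    fun y hy => ⟨hYQ hy, mem_centralizer_iff.2 (hyc y hy)⟩
  intro y hy v hv
  by_contra hne
  -- fixed points of a non-identity element centralize `Y`
  have hfix : ∀ u ∈ V, ∀ z ∈ Y, z ≠ 1 → z * u = u * z → ∀ z' ∈ Y, z' * u = u * z' := by
    intro u hu z hz hz1 hzu z' hz'
    have huN := h.other_centralizer_le hY hz hz1 hzu.symm
    have h1 : br z' u ∈ V := h.br_mem (h.le (hYQ hz')) hu
    have h2 : br z' u ∈ Y := by
      rw [show br z' u = z' * (u * z'⁻¹ * u⁻¹) by unfold br; group]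
      exact mul_mem hz' ((mem_normalizer_iff.1 huN _).1 (inv_mem hz'))
    exact br_eq_one.1 (h.disjoint_other hY h2 h1)
  let Z : Subgroup G := V ⊓ centralizer (Y : Set G)
  have hvZ : v ∉ Z := fun hvz => hne (mem_centralizer_iff.1 hvz.2 y hy).symm
  let f : Y → Z := fun z => ⟨br (z : G) v, h.br_mem (h.le (hYQ z.2)) hv, by
    refine mem_centralizer_iff.2 fun z' hz' => ?_
    by_cases hz1 : (z : G) = 1
    · simp [br, hz1]
    refine hfix _ (h.br_mem (h.le (hYQ z.2)) hv) z z.2 hz1 ?_ z' hz'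
    have hm := h.br_mem (h.le (hYQ z.2)) hv
    refine mul_inv_eq_iff_eq_mul.1 ?_
    calc (z : G) * br (z : G) v * (z : G)⁻¹ = z * z * v * ((z : G) * z)⁻¹ * (z * v * (z : G)⁻¹)⁻¹ := by
          unfold br; group
      _ = (br (z : G) v)⁻¹ := by rw [h.other_sq hY z.2]; unfold br; group
      _ = br (z : G) v := h.inv_eq hm⟩
  have hf : Function.Injective f := by
    intro a b hab
    have e : (a : G) * v * (a : G)⁻¹ = b * v * (b : G)⁻¹ := by
      rw [mul_eq_br_mul, mul_eq_br_mul, show br (a : G) v = br (b : G) v from congrArg Subtype.val hab]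
    by_contra hab'
    have h1 : (b : G)⁻¹ * a ≠ 1 := fun h1 => hab' (Subtype.ext (inv_mul_eq_one.1 h1).symm)
    apply hvZ
    refine ⟨hv, mem_centralizer_iff.2 fun z' hz' => hfix v hv _ (mul_mem (inv_mem b.2) a.2) h1 ?_ z' hz'⟩
    calc (b : G)⁻¹ * a * v = (b : G)⁻¹ * (a * v * (a : G)⁻¹) * a := by group
      _ = (b : G)⁻¹ * (b * v * (b : G)⁻¹) * a := by rw [e]
      _ = v * ((b : G)⁻¹ * a) := by group
  have h1 := Nat.card_le_card_of_injective f hf
  rw [h.other_card hY] at h1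
  have h2 : Nat.card V ≤ Nat.card Z := h1
  have hZV : Z = V := eq_of_le_of_card_ge (inf_le_left : Z ≤ V) h2
  exact hvZ (by rw [hZV]; exact hv)

/-- In `C_Q(V)`, commuting with one element of a conjugate means centralizing it. -/
theorem comm_all (hY : IsOther V Y) (hYQ : Y ≤ Q) {r y z : G} (hr : r ∈ P' V Q) (hy : y ∈ Y)
    (hy1 : y ≠ 1) (hry : r * y = y * r) (hz : z ∈ Y) : r * z = z * r := by
  have hzP := h.other_le_P hY hYQ hz
  refine br_eq_one.1 (h.disjoint_other hY ?_ (h.br_P_mem hr hzP).1)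
  exact mul_mem ((mem_normalizer_iff.1 (h.other_centralizer_le hY hy hy1 hry) z).1 hz) (inv_mem hz)

/-- Some conjugate in `Q` does not commute with `Y`. -/
theorem exists_noncommuting (hY : IsOther V Y) (hYQ : Y ≤ Q) :
    ∃ A, IsOther V A ∧ A ≤ Q ∧ ∀ a ∈ A, a ≠ 1 → ∀ y ∈ Y, y ≠ 1 → a * y ≠ y * a := by
  have hcore : ∀ A, IsOther V A → A ≤ Q → (∃ a ∈ A, a ≠ 1 ∧ ∃ y ∈ Y, y ≠ 1 ∧ a * y = y * a) →
      ∀ a ∈ A, ∀ y ∈ Y, a * y = y * a := by
    rintro A hA hAQ ⟨a, ha, ha1, y, hy, hy1, hay⟩ b hb z hz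
    have h1 : ∀ b ∈ A, y * b = b * y :=
      fun b hb => h.comm_all hA hAQ (h.other_le_P hY hYQ hy) ha ha1 hay.symm hb
    exact h.comm_all hY hYQ (h.other_le_P hA hAQ hb) hy hy1 (h1 b hb).symm hz
  by_contra hcon
  simp only [not_exists, not_and, not_forall, not_not] at hcon
  let S : Set G := {x | ∃ m ∈ normalizer (V : Set G), ∃ y ∈ Y, x = m * y * m⁻¹}
  have hmV : ∀ m ∈ normalizer (V : Set G), IsOther V (cj m Y) ∧ cj m Y ≤ Q := by
    intro m hm
    obtain ⟨⟨x, hx⟩, hne⟩ := hY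
    refine ⟨⟨⟨m * x, by rw [hx, ← cj_mul]⟩, fun e => hne ?_⟩, fun y hy => ?_⟩
    · have := congrArg (cj m⁻¹) e
      rwa [← cj_mul, inv_mul_cancel, cj_one, mem_normalizer_iff_cj.1 (inv_mem hm)] at this
    · have := h.inv m hm _ (hYQ (mem_cj.1 hy))
      rwa [show m * (m⁻¹ * y * m) * m⁻¹ = y by group] at this
  have hcomm : ∀ m ∈ normalizer (V : Set G), ∀ y ∈ Y, ∀ z ∈ Y, Commute (m * y * m⁻¹) z := by
    intro m hm y hy z hz
    obtain ⟨a, ha, ha1, w, hw, hw1, e⟩ := hcon _ (hmV m hm).1 (hmV m hm).2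
    exact hcore _ (hmV m hm).1 (hmV m hm).2 ⟨a, ha, ha1, w, hw, hw1, e⟩ _ (conj_mem_cj.2 hy) z hz
  have hSN : ∀ s ∈ S, s ∈ P' V Q := by
    rintro _ ⟨m, hm, y, hy, rfl⟩
    exact h.P_inv hm (h.other_le_P hY hYQ hy)
  let U : Subgroup G := closure ((V : Set G) ∪ S)
  have hgen : ∀ a ∈ (V : Set G) ∪ S, ∀ b ∈ (V : Set G) ∪ S, a * b = b * a := by
    rintro a (ha | ha) b (hb | hb)
    · exact h.comm a ha b hb
    · exact (comm_of_P (hSN b hb) ha).symm
    · exact comm_of_P (hSN a ha) hb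
    · obtain ⟨m, hm, y, hy, rfl⟩ := ha
      obtain ⟨n, hn, z, hz, rfl⟩ := hb
      have := (hcomm (n⁻¹ * m) (mul_mem (inv_mem hn) hm) y hy z hz).map (MulAut.conj n)
      simpa [mul_assoc] using this.eq
  have hU : U = V := by
    refine h.maxab U (fun v hv => subset_closure (Or.inl hv)) ?_ ?_ ?_
    · rw [closure_le]
      rintro a (ha | ha)
      · exact le_normalizer ha
      · exact h.P_le_N (hSN a ha)
    · intro a ha b hb
      have := isMulCommutative_closure hgen
      exact congrArg Subtype.val (this.is_comm.comm (⟨a, ha⟩ : U) ⟨b, hb⟩)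
    · intro m hm a ha
      induction ha using closure_induction with
      | mem a ha =>
        rcases ha with ha | ⟨n, hn, y, hy, rfl⟩
        · exact subset_closure (Or.inl ((mem_normalizer_iff.1 hm a).1 ha))
        · exact subset_closure (Or.inr ⟨m * n, mul_mem hm hn, y, hy, by group⟩)
      | one => simp
      | mul a b _ _ ha hb =>
        rw [show m * (a * b) * m⁻¹ = m * a * m⁻¹ * (m * b * m⁻¹) by group]
        exact mul_mem ha hb
      | inv a _ ha =>
        rw [show m * a⁻¹ * m⁻¹ = (m * a * m⁻¹)⁻¹ by group]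
        exact inv_mem ha
  apply hY.2
  refine eq_of_le_of_card_ge (fun y hy => ?_) (h.other_card hY).ge
  rw [← hU]
  exact subset_closure (Or.inr ⟨1, one_mem _, y, hy, by group⟩)

end IsTIData

end CfsgLib.ClassK.TI
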