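import Cfsg.Agent.Lib.ClassK.TISymm
import Cfsg.Agent.Lib.ClassK.JordanField
import Cfsg.Agent.Lib.Classical.SLGen
import Mathlib.Algebra.Module.ZMod
import Mathlib.RingTheory.LittleWedderburn

/-!
# The group induced on `V V'` is `SL₂`
-/

set_option autoImplicit false

namespace CfsgLib.ClassK

open Matrix

/-- An elementary abelian 2-subgroup in coordinates. -/
theorem exists_coords {G : Type*} [Group G] [Finite G] (V : Subgroup G)
    (hc : ∀ v ∈ V, ∀ w ∈ V, v * w = w * v) (hs : ∀ v ∈ V, v * v = 1) :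
    ∃ (n : ℕ) (f : V → (Fin n → ZMod 2)), Function.Bijective f ∧ ∀ v w, f (v * w) = f v + f w := by
  let _ : CommGroup V := { (inferInstance : Group V) with
    mul_comm := fun a b => Subtype.ext (hc a a.2 b b.2) }
  let _ : Module (ZMod 2) (Additive V) := AddCommGroup.zmodModule fun x => by
    rw [two_nsmul]
    exact congrArg Additive.ofMul (Subtype.ext (hs _ (Additive.toMul x).2) :
      Additive.toMul x * Additive.toMul x = 1)
  have : Module.Finite (ZMod 2) (Additive V) := Module.Finite.of_finite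
  let b := Module.finBasis (ZMod 2) (Additive V)
  exact ⟨_, fun v => b.equivFun (Additive.ofMul v), b.equivFun.bijective.comp Additive.ofMul.bijective,
    fun v w => map_add b.equivFun (Additive.ofMul v) (Additive.ofMul w)⟩

variable {n : ℕ}

local notation "Mat" => Matrix (Fin n) (Fin n) (ZMod 2)

/-- Two additive sets of matrices, each consisting of the inverses of the other's non-zero
elements, the first containing `1`: they coincide and form a field. -/
theorem field_of_inverse_pair (S L : Submodule (ZMod 2) Mat) (h1 : (1 : Mat) ∈ S)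
    (hSL : ∀ s ∈ S, s ≠ 0 → ∃ t ∈ L, t * s = 1) (hLS : ∀ t ∈ L, t ≠ 0 → ∃ s ∈ S, t * s = 1)
    (hc : Nat.card S = 2 ^ n) :
    (∀ s ∈ S, ∀ t ∈ S, s * t = t * s ∧ s * t ∈ S) ∧ L = S := by
  classical
  rcases Nat.eq_zero_or_pos n with hn | hn
  · subst hn
    refine ⟨fun s _ t _ => ⟨Subsingleton.elim _ _,
      Subsingleton.elim (1 : Matrix (Fin 0) (Fin 0) (ZMod 2)) (s * t) ▸ h1⟩, ?_⟩
    ext x
    rw [Subsingleton.elim x 0]
    exact iff_of_true (zero_mem _) (zero_mem _)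
  have : Nonempty (Fin n) := ⟨⟨0, hn⟩⟩
  have hchar : ∀ M : Mat, M + M = 0 := fun M => by
    ext a c
    exact CharTwo.add_self_eq_zero (M a c)
  have hinv : ∀ s ∈ S, s ≠ 0 → IsUnit s.det := fun s hs hs0 => by
    obtain ⟨t, -, e⟩ := hSL s hs hs0
    exact (Matrix.isUnit_iff_isUnit_det s).1 (IsUnit.of_mul_eq_one_right _ e)
  have hhua : ∀ s ∈ S, ∀ t ∈ L, s * t * s ∈ S := by
    intro s hs t ht
    by_cases hs0 : s = 0
    · simp [hs0]
    by_cases ht0 : t = 0
    · simp [ht0]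
    obtain ⟨ti, hti, et⟩ := hLS t ht ht0
    obtain ⟨si, hsi, es⟩ := hSL s hs hs0
    have et' : ti * t = 1 := mul_eq_one_comm.1 et
    by_cases hu0 : ti + s = 0
    · have : ti = s := by
        calc ti = ti + (s + s) := by rw [hchar, add_zero]
          _ = s := by rw [← add_assoc, hu0, zero_add]
      rw [← this, et', one_mul]
      exact hti
    obtain ⟨ui, hui, eu⟩ := hSL _ (S.add_mem hti hs) hu0
    have eu' : (ti + s) * ui = 1 := mul_eq_one_comm.1 eu
    have hx : si + ui = si * ti * ui := by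
      calc si + ui = si * ((ti + s) * ui) + si * s * ui := by rw [eu', es, mul_one, one_mul]
        _ = si * (ti + (s + s)) * ui := by noncomm_ring
        _ = si * ti * ui := by rw [hchar, add_zero]
    have hxy : (si + ui) * ((ti + s) * t * s) = 1 := by
      calc (si + ui) * ((ti + s) * t * s) = si * ti * (ui * (ti + s)) * t * s := by
            rw [hx]; simp only [mul_assoc]
        _ = si * (ti * t) * s := by rw [eu, mul_one]; simp only [mul_assoc]
        _ = 1 := by rw [et', mul_one, es]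
    have hx0 : si + ui ≠ 0 := fun e => by rw [e, zero_mul] at hxy; exact zero_ne_one hxy
    obtain ⟨xi, hxi, ex⟩ := hLS _ (L.add_mem hsi hui) hx0
    have : xi = (ti + s) * t * s := (left_inv_eq_right_inv (mul_eq_one_comm.1 ex) hxy)
    rw [this, add_mul, add_mul, et', one_mul] at hxi
    have h2 := S.add_mem hs hxi
    rwa [← add_assoc, hchar, zero_add] at h2
  have hle : L ≤ S := fun t ht => by simpa using hhua 1 h1 t ht
  have hLeq : L = S := by
    let f : S → L := fun s => if h0 : (s : Mat) = 0 then 0 else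
      ⟨_, (hSL s s.2 h0).choose_spec.1⟩
    have hf : Function.Injective f := by
      intro s s' hss
      apply Subtype.ext
      simp only [f] at hss
      split_ifs at hss with ha hb hb
      · rw [ha, hb]
      · have := (hSL s' s'.2 hb).choose_spec.2
        have h0 : (0 : Mat) = (hSL s' s'.2 hb).choose := congrArg Subtype.val hss
        rw [← h0, zero_mul] at this
        exact absurd this zero_ne_one
      · have := (hSL s s.2 ha).choose_spec.2
        have h0 : (hSL s s.2 ha).choose = (0 : Mat) := congrArg Subtype.val hss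
        rw [h0, zero_mul] at this
        exact absurd this zero_ne_one
      · have e : (hSL s s.2 ha).choose = (hSL s' s'.2 hb).choose := congrArg Subtype.val hss
        have h1' := (hSL s s.2 ha).choose_spec.2
        have h2' := (hSL s' s'.2 hb).choose_spec.2
        rw [e] at h1'
        exact left_inv_eq_right_inv (mul_eq_one_comm.1 h1') h2'
    refine SetLike.coe_injective (Set.eq_of_subset_of_ncard_le hle ?_ (Set.toFinite _))
    rw [← Nat.card_coe_set_eq, ← Nat.card_coe_set_eq]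
    exact Nat.card_le_card_of_injective f hf
  exact ⟨mul_comm_mem_of_spread S h1 (fun s hs t ht => hhua s hs t (hLeq ▸ ht)) hinv hc, hLeq⟩

namespace TI

open Subgroup

universe u

variable {G : Type u} [Group G] [Finite G] {V Q : Subgroup G}

namespace IsTIData

theorem sl_quotient (h : IsTIData V Q) {g : G} (hY : IsOther V (cj g V)) (hYQ : cj g V ≤ Q)
    (H : Subgroup G) (hH : H = P' V Q ⊔ cj g (P' V Q))
    (hN : ((centralizer ((V ⊔ cj g V : Subgroup G) : Set G)).subgroupOf H).Normal) :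
    ∃ (F : Type) (_ : Field F) (_ : Fintype F), Fintype.card F = Nat.card V ∧
      Nonempty (H ⧸ (centralizer ((V ⊔ cj g V : Subgroup G) : Set G)).subgroupOf H ≃*
        Matrix.SpecialLinearGroup (Fin 2) F) := by
  classical
  set Y := cj g V with hYdef
  set Q₁ := cj g Q
  set P := P' V Q
  set P₁ := P' Y Q₁ with hP₁
  have hP₁' : cj g P = P₁ := by
    rw [hP₁]
    ext y
    simp only [mem_cj, P, P', mem_inf, Q₁, hYdef, mem_centralizer_iff]
    refine and_congr_right' ⟨fun H w hw => ?_, fun H w hw => ?_⟩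
    · have := H _ (mem_cj.1 hw)
      calc w * y = g * (g⁻¹ * w * g * (g⁻¹ * y * g)) * g⁻¹ := by group
        _ = g * (g⁻¹ * y * g * (g⁻¹ * w * g)) * g⁻¹ := by rw [this]
        _ = y * w := by group
    · have := H (g * w * g⁻¹) (conj_mem_cj.2 hw)
      calc w * (g⁻¹ * y * g) = g⁻¹ * (g * w * g⁻¹ * y) * g := by group
        _ = g⁻¹ * (y * (g * w * g⁻¹)) * g := by rw [this]
        _ = g⁻¹ * y * g * w := by group
  rw [hP₁'] at hH
  subst hH
  have h₁ : IsTIData Y Q₁ := h.conjugate g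
  have hV₁ : IsOther Y V := ⟨⟨g⁻¹, by rw [hYdef, ← cj_mul, inv_mul_cancel, cj_one]⟩, hY.2.symm⟩
  have hVQ₁ : V ≤ Q₁ := h.le_cj_Q g hY hYQ
  obtain ⟨A, hA, hAQ, hnc⟩ := h.exists_noncommuting hY hYQ
  obtain ⟨B, hB, hBQ, hnc'⟩ := h₁.exists_noncommuting hV₁ hVQ₁
  have hAP : ∀ {a}, a ∈ A → a ∈ P := fun ha => h.other_le_P hA hAQ ha
  have hBP : ∀ {b}, b ∈ B → b ∈ P₁ := fun hb => h₁.other_le_P hB hBQ hb
  have hYP : ∀ {y}, y ∈ Y → y ∈ P := fun hy => h.other_le_P hY hYQ hy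
  have hVP : ∀ {v}, v ∈ V → v ∈ P₁ := fun hv => h₁.other_le_P hV₁ hVQ₁ hv
  have hVY := h.comm_V_other hY hYQ
  have huniq : ∀ {v v' y y' : G}, v ∈ V → v' ∈ V → y ∈ Y → y' ∈ Y → v * y = v' * y' →
      v = v' ∧ y = y' := by
    intro v v' y y' hv hv' hy hy' e
    have e1 : v'⁻¹ * v = y' * y⁻¹ := by
      calc v'⁻¹ * v = v'⁻¹ * (v * y) * y⁻¹ := by group
        _ = y' * y⁻¹ := by rw [e]; group
    have h0 := h.disjoint_other hY (e1 ▸ mul_mem hy' (inv_mem hy) : v'⁻¹ * v ∈ Y)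
      (mul_mem (inv_mem hv') hv)
    obtain rfl : v' = v := inv_mul_eq_one.1 h0
    exact ⟨rfl, mul_left_cancel e⟩
  -- each of the two pairings is the inverse of the other
  have hinv : ∀ a ∈ A, ∀ b ∈ B, ∀ y₀ ∈ Y, y₀ ≠ 1 → br a y₀ ≠ 1 → br b (br a y₀) = y₀ →
      ∀ y ∈ Y, br b (br a y) = y := by
    intro a ha b hb y₀ hy₀ hy₀1 hv₀ hb0 y hy
    have hw : br a y₀ * y₀ ≠ 1 := fun e => hy₀1 (huniq (h.br_P_mem (hAP ha) (hYP hy₀)).1
      (one_mem V) hy₀ (one_mem Y) (by rw [e, one_mul])).2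
    have hm1 : br a y₀ * y₀ ∈ cj (a * g) V := by
      rw [cj_mul, ← mul_eq_br_mul]; exact conj_mem_cj.2 hy₀
    have hm2 : br a y₀ * y₀ ∈ cj b V := by
      have hv₀V := (h.br_P_mem (hAP ha) (hYP hy₀)).1
      have : br a y₀ * y₀ = b * br a y₀ * b⁻¹ := by
        rw [mul_eq_br_mul b, hb0, hVY _ hv₀V _ hy₀]
      rw [this]; exact conj_mem_cj.2 hv₀V
    have heq := h.cj_eq_cj hw hm1 hm2
    have hm3 : br a y * y ∈ cj b V := by
      rw [← heq, cj_mul, ← mul_eq_br_mul]; exact conj_mem_cj.2 hy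
    obtain ⟨v', hv', e⟩ := hm3
    have e' : br a y * y = v' * br b v' := by
      rw [← e, hVY v' hv' _ (h₁.br_P_mem (hBP hb) (hVP hv')).1]
      exact mul_eq_br_mul b v'
    obtain ⟨e1, e2⟩ := huniq (h.br_P_mem (hAP ha) (hYP hy)).1 hv' hy
      (h₁.br_P_mem (hBP hb) (hVP hv')).1 e'
    rw [e1, ← e2]
  obtain ⟨y₀, hy₀, hy₀1⟩ := h.exists_ne_one hY
  have hbr1 : ∀ a ∈ A, a ≠ 1 → ∀ y ∈ Y, y ≠ 1 → br a y ≠ 1 :=
    fun a ha ha1 y hy hy1 e => hnc a ha ha1 y hy hy1 (br_eq_one.1 e)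
  have hbr1' : ∀ b ∈ B, b ≠ 1 → ∀ v ∈ V, v ≠ 1 → br b v ≠ 1 :=
    fun b hb hb1 v hv hv1 e => hnc' b hb hb1 v hv hv1 (br_eq_one.1 e)
  have hAB : ∀ a ∈ A, a ≠ 1 → ∃ b ∈ B, ∀ y ∈ Y, br b (br a y) = y := by
    intro a ha ha1
    have hv₀ := (h.br_P_mem (hAP ha) (hYP hy₀)).1
    obtain ⟨b, hb, e⟩ := h₁.exists_br_left hB hBQ hV₁ hVQ₁ hnc' hv₀ (hbr1 a ha ha1 y₀ hy₀ hy₀1) hy₀
    exact ⟨b, hb, hinv a ha b hb y₀ hy₀ hy₀1 (hbr1 a ha ha1 y₀ hy₀ hy₀1) e⟩
  have hBA : ∀ b ∈ B, b ≠ 1 → ∃ a ∈ A, ∀ y ∈ Y, br b (br a y) = y := by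
    intro b hb hb1
    obtain ⟨a₁, ha₁, ha₁1⟩ := h.exists_ne_one hA
    have hv₀ := (h.br_P_mem (hAP ha₁) (hYP hy₀)).1
    have hv₀1 := hbr1 a₁ ha₁ ha₁1 y₀ hy₀ hy₀1
    have hy₁ := (h₁.br_P_mem (hBP hb) (hVP hv₀)).1
    have hy₁1 := hbr1' b hb hb1 _ hv₀ hv₀1
    obtain ⟨a, ha, e⟩ := h.exists_br_left hA hAQ hY hYQ hnc hy₁ hy₁1 hv₀
    exact ⟨a, ha, hinv a ha b hb _ hy₁ hy₁1 (e.symm ▸ hv₀1) (by rw [e])⟩
  obtain ⟨a₀, ha₀, ha₀1⟩ := h.exists_ne_one hA
  obtain ⟨n, f, hf, hfadd⟩ := exists_coords V h.comm h.sq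
  -- coordinates on `Y`
  let θ : Y → V := fun y => ⟨br a₀ y, (h.br_P_mem (hAP ha₀) (hYP y.2)).1⟩
  have hθ : Function.Bijective θ := by
    refine Function.Injective.bijective_of_nat_card_le (fun y z hyz => ?_) (h.other_card hY).ge
    have e : br a₀ (y : G) = br a₀ (z : G) := congrArg Subtype.val hyz
    by_contra hne
    refine hnc a₀ ha₀ ha₀1 ((z : G) * y) (mul_mem z.2 y.2) (fun h1 => hne (Subtype.ext ?_))
      (br_eq_one.1 ?_)
    · calc (y : G) = (z : G) * z * y := by rw [h.other_sq hY z.2, one_mul]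
        _ = z := by rw [mul_assoc, h1, mul_one]
    · rw [h.br_hom_right (hAP ha₀) (hYP z.2) (hYP y.2), e]
      exact h.sq _ (h.br_P_mem (hAP ha₀) (hYP z.2)).1
  have hθmul : ∀ y z, θ (y * z) = θ y * θ z := fun y z =>
    Subtype.ext (h.br_hom_right (hAP ha₀) (hYP y.2) (hYP z.2))
  let cV : (Fin n → ZMod 2) → V := (Equiv.ofBijective f hf).symm
  let cY : (Fin n → ZMod 2) → Y := fun u => (Equiv.ofBijective θ hθ).symm (cV u)
  have hcV : ∀ u, f (cV u) = u := (Equiv.ofBijective f hf).apply_symm_apply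
  have hcV' : ∀ v, cV (f v) = v := (Equiv.ofBijective f hf).symm_apply_apply
  have hθY : ∀ u, θ (cY u) = cV u := fun u => (Equiv.ofBijective θ hθ).apply_symm_apply _
  have hcY' : ∀ y, cY (f (θ y)) = y := fun y => by
    show (Equiv.ofBijective θ hθ).symm (cV (f (θ y))) = y
    rw [hcV']
    exact (Equiv.ofBijective θ hθ).symm_apply_apply y
  have hcVadd : ∀ u w, cV (u + w) = cV u * cV w := fun u w => hf.1 (by rw [hfadd, hcV, hcV, hcV])
  have hcYadd : ∀ u w, cY (u + w) = cY u * cY w := fun u w =>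
    hθ.1 (by rw [hθmul, hθY, hθY, hθY, hcVadd])
  -- the matrices
  let sfun : P → (Fin n → ZMod 2) →+ (Fin n → ZMod 2) := fun p =>
    AddMonoidHom.mk' (fun u => f ⟨br p (cY u), (h.br_P_mem p.2 (hYP (cY u).2)).1⟩) fun u w => by
      rw [← hfadd]
      refine congrArg f (Subtype.ext ?_)
      show br (p : G) (cY (u + w)) = br (p : G) (cY u) * br (p : G) (cY w)
      rw [hcYadd]
      exact h.br_hom_right p.2 (hYP (cY u).2) (hYP (cY w).2)
  let tfun : P₁ → (Fin n → ZMod 2) →+ (Fin n → ZMod 2) := fun p =>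
    AddMonoidHom.mk' (fun u => f (θ ⟨br p (cV u), (h₁.br_P_mem p.2 (hVP (cV u).2)).1⟩))
      fun u w => by
      rw [← hfadd, ← hθmul]
      refine congrArg f (congrArg θ (Subtype.ext ?_))
      show br (p : G) (cV (u + w)) = br (p : G) (cV u) * br (p : G) (cV w)
      rw [hcVadd]
      exact h₁.br_hom_right p.2 (hVP (cV u).2) (hVP (cV w).2)
  let sM : P → Matrix (Fin n) (Fin n) (ZMod 2) := fun p =>
    LinearMap.toMatrix' ((sfun p).toZModLinearMap 2)
  let tM : P₁ → Matrix (Fin n) (Fin n) (ZMod 2) := fun p =>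
    LinearMap.toMatrix' ((tfun p).toZModLinearMap 2)
  have hsM : ∀ p u, sM p *ᵥ u = f ⟨br p (cY u), (h.br_P_mem p.2 (hYP (cY u).2)).1⟩ := fun p u => by
    rw [← Matrix.toLin'_apply, Matrix.toLin'_toMatrix']; rfl
  have htM : ∀ p u, tM p *ᵥ u = f (θ ⟨br p (cV u), (h₁.br_P_mem p.2 (hVP (cV u).2)).1⟩) :=
    fun p u => by rw [← Matrix.toLin'_apply, Matrix.toLin'_toMatrix']; rfl
  have hf1 : f 1 = 0 := by
    have := hfadd 1 1
    rw [mul_one] at this
    exact left_eq_add.1 this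
  have hsadd : ∀ p q, sM (p * q) = sM p + sM q := fun p q => by
    refine Matrix.ext_iff_mulVec.2 fun u => ?_
    rw [add_mulVec, hsM, hsM, hsM, ← hfadd]
    exact congrArg f (Subtype.ext (h.br_hom_left p.2 q.2 (hYP (cY u).2)))
  have htadd : ∀ p q, tM (p * q) = tM p + tM q := fun p q => by
    refine Matrix.ext_iff_mulVec.2 fun u => ?_
    rw [add_mulVec, htM, htM, htM, ← hfadd, ← hθmul]
    exact congrArg f (congrArg θ (Subtype.ext (h₁.br_hom_left p.2 q.2 (hVP (cV u).2))))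
  have hmulid : ∀ (p : P) (q : P₁), (∀ y ∈ Y, br (q : G) (br (p : G) y) = y) → tM q * sM p = 1 := by
    intro p q hpq
    refine Matrix.ext_iff_mulVec.2 fun u => ?_
    rw [← mulVec_mulVec, one_mulVec, hsM, htM]
    conv_rhs => rw [← hcV u, ← hθY u]
    refine congrArg f (congrArg θ (Subtype.ext ?_))
    show br (q : G) (cV (f _)) = _
    rw [hcV']
    exact hpq _ (cY u).2
  have hs0 : sM 1 = 0 := by
    have := hsadd 1 1
    rw [mul_one] at this
    exact left_eq_add.1 this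
  have ht0 : tM 1 = 0 := by
    have := htadd 1 1
    rw [mul_one] at this
    exact left_eq_add.1 this
  let sA : A → Matrix (Fin n) (Fin n) (ZMod 2) := fun a => sM ⟨a, hAP a.2⟩
  let tB : B → Matrix (Fin n) (Fin n) (ZMod 2) := fun b => tM ⟨b, hBP b.2⟩
  let S : Submodule (ZMod 2) (Matrix (Fin n) (Fin n) (ZMod 2)) :=
    { carrier := Set.range sA
      zero_mem' := ⟨1, hs0⟩
      add_mem' := by
        rintro _ _ ⟨a, rfl⟩ ⟨b, rfl⟩
        exact ⟨a * b, hsadd ⟨a, hAP a.2⟩ ⟨b, hAP b.2⟩⟩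
      smul_mem' := by
        rintro c _ ⟨a, rfl⟩
        revert c
        intro c
        rcases (by decide : ∀ c : ZMod 2, c = 0 ∨ c = 1) c with rfl | rfl
        · exact ⟨1, by rw [zero_smul]; exact hs0⟩
        · exact ⟨a, (one_smul _ _).symm⟩ }
  let L : Submodule (ZMod 2) (Matrix (Fin n) (Fin n) (ZMod 2)) :=
    { carrier := Set.range tB
      zero_mem' := ⟨1, ht0⟩
      add_mem' := by
        rintro _ _ ⟨a, rfl⟩ ⟨b, rfl⟩
        exact ⟨a * b, htadd ⟨a, hBP a.2⟩ ⟨b, hBP b.2⟩⟩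
      smul_mem' := by
        rintro c _ ⟨a, rfl⟩
        rcases (by decide : ∀ c : ZMod 2, c = 0 ∨ c = 1) c with rfl | rfl
        · exact ⟨1, by rw [zero_smul]; exact ht0⟩
        · exact ⟨a, (one_smul _ _).symm⟩ }
  have h1S : (1 : Matrix (Fin n) (Fin n) (ZMod 2)) ∈ S := by
    refine ⟨⟨a₀, ha₀⟩, Matrix.ext_iff_mulVec.2 fun u => ?_⟩
    rw [one_mulVec, hsM]
    exact (congrArg f (hθY u)).trans (hcV u)
  have hsinj : Function.Injective sA := by
    intro a b hab
    by_contra hne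
    have h0 : sA (b * a) = 0 := by
      show sM ⟨_, _⟩ = 0
      rw [show sM ⟨(b * a : A), hAP (b * a : A).2⟩ = sA b + sA a from hsadd ⟨b, hAP b.2⟩ ⟨a, hAP a.2⟩,
        hab]
      ext i j
      exact CharTwo.add_self_eq_zero (sA b i j)
    have h2 := congrArg (· *ᵥ (f (θ ⟨y₀, hy₀⟩))) h0
    simp only [zero_mulVec, sA] at h2
    rw [hsM, ← hf1] at h2
    have h3 := congrArg Subtype.val (hf.1 h2)
    simp only [hcY'] at h3
    refine hbr1 _ (b * a : A).2 (fun e => hne (Subtype.ext ?_)) y₀ hy₀ hy₀1 h3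
    calc (a : G) = (b : G) * b * a := by rw [h.other_sq hA b.2, one_mul]
      _ = b := by rw [mul_assoc, show (b : G) * a = 1 from e, mul_one]
  have hScard : Nat.card S = 2 ^ n := by
    rw [show Nat.card S = Nat.card (Set.range sA) from rfl, Nat.card_range_of_injective hsinj,
      h.other_card hA, Nat.card_eq_of_bijective f hf, Nat.card_eq_fintype_card, Fintype.card_fun,
      ZMod.card, Fintype.card_fin]
  have hSL : ∀ s ∈ S, s ≠ 0 → ∃ t ∈ L, t * s = 1 := by
    rintro _ ⟨a, rfl⟩ hne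
    have ha1 : (a : G) ≠ 1 := fun e => hne (by rw [show a = 1 from Subtype.ext e]; exact hs0)
    obtain ⟨b, hb, e⟩ := hAB a a.2 ha1
    exact ⟨tB ⟨b, hb⟩, ⟨_, rfl⟩, hmulid ⟨a, hAP a.2⟩ ⟨b, hBP hb⟩ e⟩
  have hLS : ∀ t ∈ L, t ≠ 0 → ∃ s ∈ S, t * s = 1 := by
    rintro _ ⟨b, rfl⟩ hne
    have hb1 : (b : G) ≠ 1 := fun e => hne (by rw [show b = 1 from Subtype.ext e]; exact ht0)
    obtain ⟨a, ha, e⟩ := hBA b b.2 hb1
    exact ⟨sA ⟨a, ha⟩, ⟨_, rfl⟩, hmulid ⟨a, hAP ha⟩ ⟨b, hBP b.2⟩ e⟩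
  obtain ⟨hmul, hLeq⟩ := field_of_inverse_pair S L h1S hSL hLS hScard
  let R : Subring (Matrix (Fin n) (Fin n) (ZMod 2)) :=
    { carrier := S
      mul_mem' := fun {a b} ha hb => (hmul a ha b hb).2
      one_mem' := h1S
      add_mem' := S.add_mem
      zero_mem' := S.zero_mem
      neg_mem' := S.neg_mem }
  have hn : 0 < n := by
    rcases Nat.eq_zero_or_pos n with hn | hn
    · exfalso
      apply hbr1 a₀ ha₀ ha₀1 y₀ hy₀ hy₀1
      have : θ ⟨y₀, hy₀⟩ = 1 := hf.1 (funext fun i => absurd i.2 (by omega))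
      exact congrArg Subtype.val this
    · exact hn
  have : Nonempty (Fin n) := ⟨⟨0, hn⟩⟩
  have hfield : IsField R :=
    { exists_pair_ne := ⟨0, 1, fun e => zero_ne_one (congrArg Subtype.val e)⟩
      mul_comm := fun a b => Subtype.ext (hmul _ a.2 _ b.2).1
      mul_inv_cancel := fun {a} ha => by
        obtain ⟨t, ht, e⟩ := hSL (a : Matrix (Fin n) (Fin n) (ZMod 2)) a.2
          fun h0 => ha (Subtype.ext h0)
        exact ⟨⟨t, show t ∈ S from hLeq ▸ ht⟩, Subtype.ext (mul_eq_one_comm.1 e)⟩ }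
  let _ : Field R := hfield.toField
  let _ : Fintype R := Fintype.ofFinite R
  refine ⟨R, inferInstance, inferInstance, ?_, ?_⟩
  · rw [← Nat.card_eq_fintype_card, show Nat.card R = Nat.card S from rfl, hScard,
      Nat.card_eq_of_bijective f hf, Nat.card_eq_fintype_card, Fintype.card_fun, ZMod.card,
      Fintype.card_fin]
  let u₀ : Fin n → ZMod 2 := fun _ => 1
  have hu₀ : u₀ ≠ 0 := fun e => one_ne_zero (congrFun e ⟨0, hn⟩ : (1 : ZMod 2) = 0)
  let χ : R → (Fin n → ZMod 2) := fun s => (s : Matrix (Fin n) (Fin n) (ZMod 2)) *ᵥ u₀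
  have hχadd : ∀ s t, χ (s + t) = χ s + χ t := fun s t => add_mulVec _ _ _
  have hχmul : ∀ s t : R, χ (s * t) = (s : Matrix (Fin n) (Fin n) (ZMod 2)) *ᵥ χ t :=
    fun s t => (mulVec_mulVec _ _ _).symm
  have hχ : Function.Bijective χ := by
    refine Function.Injective.bijective_of_nat_card_le (fun s t hst => ?_) ?_
    · by_contra hne
      obtain ⟨t', ht', e⟩ := hSL _ (S.sub_mem s.2 t.2) (fun h0 => hne (Subtype.ext (sub_eq_zero.1 h0)))
      refine hu₀ ?_
      rw [← one_mulVec u₀, ← e, ← mulVec_mulVec, sub_mulVec, show ((s : Matrix (Fin n) (Fin n)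
        (ZMod 2)) *ᵥ u₀) = (t : Matrix (Fin n) (Fin n) (ZMod 2)) *ᵥ u₀ from hst, sub_self,
        mulVec_zero]
    · rw [show Nat.card R = Nat.card S from rfl, hScard, Nat.card_eq_fintype_card, Fintype.card_fun,
        ZMod.card, Fintype.card_fin]
  let W := V ⊔ Y
  let ι : (Fin 2 → R) → W := fun u => ⟨(cV (χ (u 0)) : G) * (cY (χ (u 1)) : G),
    mul_mem (mem_sup_left (cV _).2) (mem_sup_right (cY _).2)⟩
  have hι : Function.Bijective ι := by
    refine ⟨fun u w e => ?_, fun w => ?_⟩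
    · obtain ⟨e1, e2⟩ := huniq (cV (χ (u 0))).2 (cV (χ (w 0))).2 (cY (χ (u 1))).2 (cY (χ (w 1))).2
        (congrArg Subtype.val e)
      have e1' := congrArg f (Subtype.ext e1)
      rw [hcV, hcV] at e1'
      have e2' := congrArg f (congrArg θ (Subtype.ext e2 : cY (χ (u 1)) = cY (χ (w 1))))
      rw [hθY, hθY, hcV, hcV] at e2'
      funext i
      fin_cases i
      · exact hχ.1 e1'
      · exact hχ.1 e2'
    · obtain ⟨v, hv, y, hy, e⟩ := (mem_sup_of_comm hVY).1 w.2
      obtain ⟨r, hr⟩ := hχ.2 (f ⟨v, hv⟩)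
      obtain ⟨r', hr'⟩ := hχ.2 (f (θ ⟨y, hy⟩))
      refine ⟨![r, r'], Subtype.ext ?_⟩
      show (cV (χ r) : G) * (cY (χ r') : G) = (w : G)
      rw [hr, hr', hcV', hcY', e]
  let ε : (Fin 2 → R) ≃ W := Equiv.ofBijective ι hι
  let ρN : normalizer (W : Set G) →* Equiv.Perm (Fin 2 → R) :=
    ε.symm.permCongrHom.toMonoidHom.comp
      ((MulAction.toPermHom (MulAut W) W).comp W.normalizerMonoidHom)
  have hρN : ∀ (k : normalizer (W : Set G)) u w,
      (k : G) * (ι u : G) * (k : G)⁻¹ = (ι w : G) → ρN k u = w := by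
    intro k u w e
    show ε.symm (W.normalizerMonoidHom k (ε u)) = w
    rw [Equiv.symm_apply_eq]
    exact Subtype.ext e
  let σ : Matrix.SpecialLinearGroup (Fin 2) R →* Equiv.Perm (Fin 2 → R) :=
    MulAction.toPermHom _ _
  have hσ : Function.Injective σ := fun M N e =>
    CfsgLib.Classical.sl_ext_smul fun w => congrArg (fun π : Equiv.Perm (Fin 2 → R) => π w) e
  have hPW : P ≤ normalizer (W : Set G) := by
    intro p hp
    refine mem_normalizer_fintype fun w hw => ?_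
    obtain ⟨v, hv, y, hy, rfl⟩ := (mem_sup_of_comm hVY).1 hw
    rw [show p * (v * y) * p⁻¹ = p * v * p⁻¹ * (p * y * p⁻¹) by group, comm_of_P hp hv,
      mul_inv_cancel_right, mul_eq_br_mul]
    exact mul_mem (mem_sup_left hv) (mul_mem (mem_sup_left (h.br_P_mem hp (hYP hy)).1) (mem_sup_right hy))
  have hP₁W : P₁ ≤ normalizer (W : Set G) := by
    intro p hp
    refine mem_normalizer_fintype fun w hw => ?_
    obtain ⟨v, hv, y, hy, rfl⟩ := (mem_sup_of_comm hVY).1 hw
    rw [show p * (v * y) * p⁻¹ = p * v * p⁻¹ * (p * y * p⁻¹) by group, comm_of_P hp hy,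
      mul_inv_cancel_right, mul_eq_br_mul]
    exact mul_mem (mul_mem (mem_sup_right (h₁.br_P_mem hp (hVP hv)).1) (mem_sup_left hv)) (mem_sup_right hy)
  have hHW : P ⊔ P₁ ≤ normalizer (W : Set G) := sup_le hPW hP₁W
  -- the two kinds of transvections
  have hact : ∀ (p : P) (r : R), sM p = r → ρN ⟨p, hPW p.2⟩ =
      σ (Matrix.SpecialLinearGroup.transvection (show (0 : Fin 2) ≠ 1 by decide) r) := by
    intro p r hr
    ext u : 1
    refine hρN _ _ _ ?_
    show (p : G) * ((cV (χ (u 0)) : G) * (cY (χ (u 1)) : G)) * (p : G)⁻¹ =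
      (cV (χ ((Matrix.SpecialLinearGroup.transvection (show (0 : Fin 2) ≠ 1 by decide) r • u) 0)) : G) *
      (cY (χ ((Matrix.SpecialLinearGroup.transvection (show (0 : Fin 2) ≠ 1 by decide) r • u) 1)) : G)
    rw [CfsgLib.Classical.transvection_smul_apply, CfsgLib.Classical.transvection_smul_apply,
      if_pos rfl, if_neg (by decide), hχadd, hcVadd, hχmul, ← hr, hsM, hcV']
    have hc : ∀ v : V, (p : G) * v = v * p := fun v => comm_of_P p.2 v.2
    calc (p : G) * ((cV (χ (u 0)) : G) * (cY (χ (u 1)) : G)) * (p : G)⁻¹ =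
          ((p : G) * (cV (χ (u 0)) : G) * (p : G)⁻¹) * ((p : G) * (cY (χ (u 1)) : G) * (p : G)⁻¹) := by
          group
      _ = (cV (χ (u 0)) : G) * (br (p : G) (cY (χ (u 1))) * (cY (χ (u 1)) : G)) := by
          rw [hc, mul_inv_cancel_right, mul_eq_br_mul]
      _ = _ := (mul_assoc _ _ _).symm
  have hact₁ : ∀ (p : P₁) (r : R), tM p = r → ρN ⟨p, hP₁W p.2⟩ =
      σ (Matrix.SpecialLinearGroup.transvection (show (1 : Fin 2) ≠ 0 by decide) r) := by
    intro p r hr
    ext u : 1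
    refine hρN _ _ _ ?_
    show (p : G) * ((cV (χ (u 0)) : G) * (cY (χ (u 1)) : G)) * (p : G)⁻¹ =
      (cV (χ ((Matrix.SpecialLinearGroup.transvection (show (1 : Fin 2) ≠ 0 by decide) r • u) 0)) : G) *
      (cY (χ ((Matrix.SpecialLinearGroup.transvection (show (1 : Fin 2) ≠ 0 by decide) r • u) 1)) : G)
    rw [CfsgLib.Classical.transvection_smul_apply, CfsgLib.Classical.transvection_smul_apply,
      if_neg (by decide), if_pos rfl, hχadd, hcYadd, hχmul, ← hr, htM, hcY']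
    have hc : ∀ y : Y, (p : G) * y = y * p := fun y => comm_of_P p.2 y.2
    set v := cV (χ (u 0))
    set y := cY (χ (u 1))
    set b := br (p : G) v
    have hb : b ∈ Y := (h₁.br_P_mem p.2 (hVP v.2)).1
    calc (p : G) * ((v : G) * y) * (p : G)⁻¹ =
          ((p : G) * v * (p : G)⁻¹) * ((p : G) * y * (p : G)⁻¹) := by group
      _ = (b * v) * y := by rw [hc, mul_inv_cancel_right, mul_eq_br_mul]
      _ = (v : G) * (b * y) := by rw [← hVY _ v.2 _ hb, mul_assoc]
      _ = (v : G) * ((y : G) * b) := by rw [h.other_comm hY hb y.2]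
  have hsmem : ∀ p : P, sM p ∈ S := by
    intro p
    obtain ⟨a, ha, hap, hc⟩ := h.exists_mul_centralizes hA hAQ hY hYQ hnc p.2
    have e : p = ⟨a, hAP ha⟩ * ⟨a * p, hap⟩ := Subtype.ext (by
      show (p : G) = a * (a * p); rw [← mul_assoc, h.other_sq hA ha, one_mul])
    have h0 : sM ⟨a * p, hap⟩ = 0 := by
      refine Matrix.ext_iff_mulVec.2 fun u => ?_
      rw [zero_mulVec, hsM, ← hf1]
      exact congrArg f (Subtype.ext (br_eq_one.2 (hc _ (cY u).2)))
    rw [e, hsadd, h0, add_zero]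
    exact ⟨⟨a, ha⟩, rfl⟩
  have htmem : ∀ p : P₁, tM p ∈ S := by
    intro p
    obtain ⟨b, hb, hbp, hc⟩ := h₁.exists_mul_centralizes hB hBQ hV₁ hVQ₁ hnc' p.2
    have e : p = ⟨b, hBP hb⟩ * ⟨b * p, hbp⟩ := Subtype.ext (by
      show (p : G) = b * (b * p); rw [← mul_assoc, h₁.other_sq hB hb, one_mul])
    have h0 : tM ⟨b * p, hbp⟩ = 0 := by
      refine Matrix.ext_iff_mulVec.2 fun u => ?_
      rw [zero_mulVec, htM, ← hf1]
      refine congrArg f (Subtype.ext ?_)
      show br a₀ (br (b * (p : G)) (cV u)) = 1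
      rw [br_eq_one.2 (hc _ (cV u).2)]
      simp [br]
    rw [e, htadd, h0, add_zero, ← hLeq]
    exact ⟨⟨b, hb⟩, rfl⟩
  let ρ : (P ⊔ P₁ : Subgroup G) →* Equiv.Perm (Fin 2 → R) := ρN.comp (inclusion hHW)
  have hker : ρ.ker = (centralizer (W : Set G)).subgroupOf (P ⊔ P₁) := by
    ext k
    rw [MonoidHom.mem_ker, mem_subgroupOf]
    have hk : inclusion hHW k ∈ W.normalizerMonoidHom.ker ↔ (k : G) ∈ centralizer (W : Set G) := by
      rw [normalizerMonoidHom_ker, mem_subgroupOf]; rfl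
    rw [← hk, MonoidHom.mem_ker]
    constructor
    · intro e
      ext w
      have := congrArg (fun π : Equiv.Perm (Fin 2 → R) => π (ε.symm w)) e
      simp only [Equiv.Perm.coe_one, id_eq] at this
      have h2 : ε.symm (W.normalizerMonoidHom (inclusion hHW k) (ε (ε.symm w))) = ε.symm w := this
      rw [Equiv.apply_symm_apply] at h2
      exact congrArg Subtype.val (ε.symm.injective h2)
    · intro e
      show ρN (inclusion hHW k) = 1
      ext u : 1
      show ε.symm (W.normalizerMonoidHom (inclusion hHW k) (ε u)) = u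
      rw [e]
      exact ε.symm_apply_apply u
  have hrange : ρ.range = σ.range := by
    apply le_antisymm
    · have hle : P ⊔ P₁ ≤ (σ.range.comap ρN).map (normalizer (W : Set G)).subtype := by
        refine sup_le (fun p hp => ?_) fun p hp => ?_
        · exact ⟨⟨p, hPW hp⟩, ⟨_, (hact ⟨p, hp⟩ ⟨_, hsmem ⟨p, hp⟩⟩ rfl).symm⟩, rfl⟩
        · exact ⟨⟨p, hP₁W hp⟩, ⟨_, (hact₁ ⟨p, hp⟩ ⟨_, htmem ⟨p, hp⟩⟩ rfl).symm⟩, rfl⟩
      rintro _ ⟨k, rfl⟩
      obtain ⟨m, hm, e⟩ := hle k.2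
      have : m = inclusion hHW k := Subtype.ext e
      have h2 : ρN m ∈ σ.range := hm
      rwa [this] at h2
    · rintro _ ⟨M, rfl⟩
      have htop : ρ.range.comap σ = ⊤ := by
        refine CfsgLib.Classical.sl_transvection_induction _ fun i j hij c => ?_
        obtain ⟨a, ha⟩ : (c : Matrix (Fin n) (Fin n) (ZMod 2)) ∈ S := c.2
        obtain ⟨b, hb⟩ : (c : Matrix (Fin n) (Fin n) (ZMod 2)) ∈ L := hLeq.symm ▸ c.2
        fin_cases i <;> fin_cases j
        · exact absurd rfl hij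
        · exact ⟨⟨a, mem_sup_left (hAP a.2)⟩, hact ⟨a, hAP a.2⟩ c ha⟩
        · exact ⟨⟨b, mem_sup_right (hBP b.2)⟩, hact₁ ⟨b, hBP b.2⟩ c hb⟩
        · exact absurd rfl hij
      exact htop.ge (mem_top M)
  exact ⟨(QuotientGroup.quotientMulEquivOfEq hker.symm).trans
    ((QuotientGroup.quotientKerEquivRange ρ).trans
      ((MulEquiv.subgroupCongr hrange).trans (MonoidHom.ofInjective hσ).symm))⟩

end IsTIData

end TI

end CfsgLib.ClassK
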