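import Cfsg.Agent.Lib.ClassK.TIRadical

/-!
# The radical relation between commuting conjugates of a TI subgroup is symmetric
-/

set_option autoImplicit false

namespace CfsgLib.ClassK.TI

open Subgroup

universe u

variable {G : Type u} [Group G]

theorem mem_sup_of_comm {V Y : Subgroup G} (hc : ∀ v ∈ V, ∀ y ∈ Y, v * y = y * v) {w : G} :
    w ∈ V ⊔ Y ↔ ∃ v ∈ V, ∃ y ∈ Y, w = v * y := by
  refine ⟨fun hw => ?_, ?_⟩
  · let S : Subgroup G :=
      { carrier := {w | ∃ v ∈ V, ∃ y ∈ Y, w = v * y}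
        one_mem' := ⟨1, one_mem _, 1, one_mem _, (mul_one 1).symm⟩
        mul_mem' := by
          rintro _ _ ⟨v, hv, y, hy, rfl⟩ ⟨v', hv', y', hy', rfl⟩
          exact ⟨v * v', mul_mem hv hv', y * y', mul_mem hy hy', by
            rw [mul_assoc, ← mul_assoc y, ← hc v' hv' y hy]; group⟩
        inv_mem' := by
          rintro _ ⟨v, hv, y, hy, rfl⟩
          exact ⟨v⁻¹, inv_mem hv, y⁻¹, inv_mem hy, by
            rw [mul_inv_rev, hc _ (inv_mem hv) _ (inv_mem hy)]⟩ }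
    have hle : V ⊔ Y ≤ S := sup_le (fun v hv => ⟨v, hv, 1, one_mem _, (mul_one v).symm⟩)
      (fun y hy => ⟨1, one_mem _, y, hy, (one_mul y).symm⟩)
    exact hle hw
  · rintro ⟨v, hv, y, hy, rfl⟩
    exact mul_mem (mem_sup_left hv) (mem_sup_right hy)

namespace IsTIData

variable [Finite G] {V Q : Subgroup G} (h : IsTIData V Q) {Y A : Subgroup G}
include h

theorem comm_V_other (hY : IsOther V Y) (hYQ : Y ≤ Q) : ∀ v ∈ V, ∀ y ∈ Y, v * y = y * v :=
  fun _ hv _ hy => (comm_of_P (h.other_le_P hY hYQ hy) hv).symm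

theorem exists_ne_one (hY : IsOther V Y) : ∃ y ∈ Y, y ≠ 1 := by
  by_contra hcon
  simp only [not_exists, not_and, not_not] at hcon
  have hb : Y = ⊥ := (eq_bot_iff_forall _).2 hcon
  have h1 := h.other_card hY
  rw [hb, card_bot] at h1
  exact hY.2 (hb.trans (card_eq_one.1 h1.symm).symm)

theorem exists_br_left (hA : IsOther V A) (hAQ : A ≤ Q) (hY : IsOther V Y) (hYQ : Y ≤ Q)
    (hnc : ∀ a ∈ A, a ≠ 1 → ∀ y ∈ Y, y ≠ 1 → a * y ≠ y * a) {y v : G} (hy : y ∈ Y) (hy1 : y ≠ 1)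
    (hv : v ∈ V) : ∃ a ∈ A, br a y = v := by
  have hyP := h.other_le_P hY hYQ hy
  have hAP : ∀ {a}, a ∈ A → a ∈ P' V Q := fun ha => h.other_le_P hA hAQ ha
  let f : A → V := fun a => ⟨br a y, (h.br_P_mem (hAP a.2) hyP).1⟩
  have hf : Function.Injective f := by
    intro a b hab
    have e : br (a : G) y = br (b : G) y := congrArg Subtype.val hab
    by_contra hne
    refine hnc ((b : G) * a) (mul_mem b.2 a.2) (fun h1 => hne (Subtype.ext ?_)) y hy hy1
      (br_eq_one.1 ?_)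
    · calc (a : G) = (b : G) * b * a := by rw [h.other_sq hA b.2, one_mul]
        _ = b := by rw [mul_assoc, h1, mul_one]
    · rw [h.br_hom_left (hAP b.2) (hAP a.2) hyP, e]
      exact h.sq _ (h.br_P_mem (hAP b.2) hyP).1
  obtain ⟨a, ha⟩ := (hf.bijective_of_nat_card_le (h.other_card hA).ge).2 ⟨v, hv⟩
  exact ⟨a, a.2, congrArg Subtype.val ha⟩

theorem exists_br_right (hA : IsOther V A) (hAQ : A ≤ Q) (hY : IsOther V Y) (hYQ : Y ≤ Q)
    (hnc : ∀ a ∈ A, a ≠ 1 → ∀ y ∈ Y, y ≠ 1 → a * y ≠ y * a) {a v : G} (ha : a ∈ A) (ha1 : a ≠ 1)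
    (hv : v ∈ V) : ∃ y ∈ Y, br a y = v := by
  have haP := h.other_le_P hA hAQ ha
  have hYP : ∀ {y}, y ∈ Y → y ∈ P' V Q := fun hy => h.other_le_P hY hYQ hy
  let f : Y → V := fun y => ⟨br a y, (h.br_P_mem haP (hYP y.2)).1⟩
  have hf : Function.Injective f := by
    intro y z hyz
    have e : br a (y : G) = br a (z : G) := congrArg Subtype.val hyz
    by_contra hne
    refine hnc a ha ha1 ((z : G) * y) (mul_mem z.2 y.2) (fun h1 => hne (Subtype.ext ?_))
      (br_eq_one.1 ?_)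
    · calc (y : G) = (z : G) * z * y := by rw [h.other_sq hY z.2, one_mul]
        _ = z := by rw [mul_assoc, h1, mul_one]
    · rw [h.br_hom_right haP (hYP z.2) (hYP y.2), e]
      exact h.sq _ (h.br_P_mem haP (hYP z.2)).1
  obtain ⟨y, hy⟩ := (hf.bijective_of_nat_card_le (h.other_card hY).ge).2 ⟨v, hv⟩
  exact ⟨y, y.2, congrArg Subtype.val hy⟩

/-- `P = A C_P(Y)`. -/
theorem exists_mul_centralizes (hA : IsOther V A) (hAQ : A ≤ Q) (hY : IsOther V Y) (hYQ : Y ≤ Q)
    (hnc : ∀ a ∈ A, a ≠ 1 → ∀ y ∈ Y, y ≠ 1 → a * y ≠ y * a) {p : G} (hp : p ∈ P' V Q) :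
    ∃ a ∈ A, a * p ∈ P' V Q ∧ ∀ y ∈ Y, (a * p) * y = y * (a * p) := by
  obtain ⟨y₀, hy₀, hy₀1⟩ := h.exists_ne_one hY
  have hyP := h.other_le_P hY hYQ hy₀
  obtain ⟨a, ha, e⟩ := h.exists_br_left hA hAQ hY hYQ hnc hy₀ hy₀1 (h.br_P_mem hp hyP).1
  have haP := h.other_le_P hA hAQ ha
  refine ⟨a, ha, mul_mem haP hp, fun y hy => h.comm_all hY hYQ (mul_mem haP hp) hy₀ hy₀1 ?_ hy⟩
  refine br_eq_one.1 ?_
  rw [h.br_hom_left haP hp hyP, e]
  exact h.sq _ (h.br_P_mem hp hyP).1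

/-- `C_P(C_P(Y)) ≤ V Y`. -/
theorem mem_sup_of_commutes (hA : IsOther V A) (hAQ : A ≤ Q) (hY : IsOther V Y) (hYQ : Y ≤ Q)
    (hnc : ∀ a ∈ A, a ≠ 1 → ∀ y ∈ Y, y ≠ 1 → a * y ≠ y * a) {r : G} (hr : r ∈ P' V Q)
    (hd : ∀ d ∈ P' V Q, (∀ y ∈ Y, d * y = y * d) → r * d = d * r) :
    ∃ v ∈ V, ∃ y ∈ Y, r = v * y := by
  obtain ⟨a₀, ha₀, ha₀1⟩ := h.exists_ne_one hA
  have haP := h.other_le_P hA hAQ ha₀
  obtain ⟨y, hy, e⟩ := h.exists_br_right hA hAQ hY hYQ hnc ha₀ ha₀1 (h.br_P_mem haP hr).1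
  have hyP := h.other_le_P hY hYQ hy
  have hry := mul_mem hr hyP
  have h0 : r * y * a₀ = a₀ * (r * y) := by
    refine (br_eq_one.1 ?_).symm
    rw [h.br_hom_right haP hr hyP, e]
    exact h.sq _ (h.br_P_mem haP hr).1
  have hall : ∀ a ∈ A, r * y * a = a * (r * y) := fun a ha =>
    h.comm_all hA hAQ hry ha₀ ha₀1 h0 ha
  refine ⟨r * y, h.center_P hry fun p hp => ?_, y, hy, by rw [mul_assoc, h.other_sq hY hy, mul_one]⟩
  obtain ⟨a, ha, hap, hc⟩ := h.exists_mul_centralizes hA hAQ hY hYQ hnc hp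
  have hcd : r * y * (a * p) = a * p * (r * y) :=
    (Commute.mul_left (hd _ hap hc) (hc y hy).symm : Commute (r * y) (a * p))
  have h2 : Commute (r * y) (a * (a * p)) := Commute.mul_right (hall a ha) hcd
  rwa [← mul_assoc, h.other_sq hA ha, one_mul] at h2

/-- An element of `N(V)` centralizing `C_Q(V)` lies in `V`. -/
theorem mem_V_of_centralizes_P {x : G} (hx : x ∈ normalizer (V : Set G))
    (hc : ∀ p ∈ P' V Q, x * p = p * x) : x ∈ V := by
  let L : Subgroup G := normalizer (V : Set G) ⊓ centralizer ((P' V Q : Subgroup G) : Set G)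
  have hL : ∀ y ∈ L, y * y ∈ Q := by
    intro y hy
    have hyP : ∀ p ∈ P' V Q, y * p = p * y := fun p hp => (mem_centralizer_iff.1 hy.2 p hp).symm
    refine h.selfc _ (mul_mem hy.1 hy.1) fun q hq => ?_
    set c := br y q with hcdef
    have hcV : c ∈ V := by
      have hcQ : c ∈ Q := mul_mem (h.inv y hy.1 q hq) (inv_mem hq)
      have hcP : ∀ p ∈ P' V Q, c * p = p * c := by
        intro p hp
        have hq' := h.P_inv (inv_mem (h.le hq)) hp
        rw [inv_inv] at hq'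
        refine mul_inv_eq_iff_eq_mul.1 ?_
        calc c * p * c⁻¹ = y * q * y⁻¹ * (q⁻¹ * p * q * y) * q⁻¹ * y⁻¹ := by
              rw [hcdef]; unfold br; group
          _ = y * q * y⁻¹ * (y * (q⁻¹ * p * q)) * q⁻¹ * y⁻¹ := by rw [hyP _ hq']
          _ = y * p * y⁻¹ := by group
          _ = p := by rw [hyP p hp, mul_inv_cancel_right]
      exact h.center_P ⟨hcQ, mem_centralizer_iff.2 fun v hv => (hcP v (h.V_le_P hv)).symm⟩ hcP
    have hyc : y * c * y⁻¹ = c := by rw [hyP c (h.V_le_P hcV), mul_inv_cancel_right]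
    calc y * y * q = y * (y * q * y⁻¹) * y⁻¹ * (y * y) := by group
      _ = y * (c * q) * y⁻¹ * (y * y) := by rw [mul_eq_br_mul y q]
      _ = y * c * y⁻¹ * (y * q * y⁻¹) * (y * y) := by group
      _ = c * c * q * (y * y) := by rw [hyc, mul_eq_br_mul y q, ← hcdef]; group
      _ = q * (y * y) := by rw [h.sq c hcV, one_mul]
  have hLQ : L ≤ Q := by
    refine h.largest L (fun y => ?_) inf_le_left fun m hm y hy => ?_
    · obtain ⟨k, hk⟩ := h.two ⟨_, hL y y.2⟩
      refine ⟨k + 1, Subtype.ext ?_⟩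
      have h1 := congrArg Subtype.val hk
      simp only [SubgroupClass.coe_pow, OneMemClass.coe_one] at h1 ⊢
      rwa [pow_succ', pow_mul, pow_two]
    · refine mem_inf.2 ⟨mul_mem (mul_mem hm (mem_inf.1 hy).1) (inv_mem hm),
        mem_centralizer_iff.2 fun p hp => ?_⟩
      have hp' := h.P_inv (inv_mem hm) hp
      rw [inv_inv] at hp'
      have := mem_centralizer_iff.1 hy.2 _ hp'
      calc p * (m * y * m⁻¹) = m * (m⁻¹ * p * m * y) * m⁻¹ := by group
        _ = m * (y * (m⁻¹ * p * m)) * m⁻¹ := by rw [this]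
        _ = m * y * m⁻¹ * p := by group
  have hxL : x ∈ L := ⟨hx, mem_centralizer_iff.2 fun p hp => (hc p hp).symm⟩
  exact h.center_P ⟨hLQ hxL, mem_centralizer_iff.2 fun v hv => (hc v (h.V_le_P hv)).symm⟩ hc

/-- Elements of `N(V)` stabilizing `V ≤ P` lie in `Q`. -/
theorem mem_Q_of_stabilizes {x : G} (hx : x ∈ normalizer (V : Set G))
    (hxV : ∀ v ∈ V, x * v = v * x) (hxP : ∀ p ∈ P' V Q, br p x ∈ V) : x ∈ Q := by
  let S : Subgroup G :=
    { carrier := {x | x ∈ normalizer (V : Set G) ∧ (∀ v ∈ V, x * v = v * x) ∧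
        ∀ p ∈ P' V Q, br p x ∈ V}
      one_mem' := ⟨one_mem _, fun v _ => by simp, fun p _ => by simp [br]⟩
      mul_mem' := by
        rintro a b ⟨ha1, ha2, ha3⟩ ⟨hb1, hb2, hb3⟩
        refine ⟨mul_mem ha1 hb1, fun v hv => Commute.mul_left (ha2 v hv) (hb2 v hv), fun p hp => ?_⟩
        rw [br_mul_right]
        exact mul_mem (ha3 p hp) ((mem_normalizer_iff.1 ha1 _).1 (hb3 p hp))
      inv_mem' := by
        rintro a ⟨ha1, ha2, ha3⟩
        refine ⟨inv_mem ha1, fun v hv => Commute.inv_left (ha2 v hv), fun p hp => ?_⟩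
        have h1 := (mem_normalizer_iff.1 (inv_mem ha1) _).1 (inv_mem (ha3 p hp))
        convert h1 using 1
        unfold br; group }
  have hSQ : S ≤ Q := by
    refine h.largest S (fun y => ?_) (fun y hy => hy.1) fun m hm y hy => ?_
    · have hy2 : (y : G) * y ∈ V := by
        refine h.mem_V_of_centralizes_P (mul_mem y.2.1 y.2.1) fun p hp => ?_
        have hm := y.2.2.2 p hp
        refine (mul_inv_eq_iff_eq_mul.1 ?_).symm
        calc p * ((y : G) * y) * p⁻¹ = p * (y : G) * p⁻¹ * (p * y * p⁻¹) := by group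
          _ = br p y * y * (br p y * y) := by rw [mul_eq_br_mul]
          _ = br p y * (y * br p y) * y := by group
          _ = br p y * br p y * (y * y) := by rw [y.2.2.1 _ hm]; group
          _ = y * y := by rw [h.sq _ hm, one_mul]
      refine ⟨2, Subtype.ext ?_⟩
      rw [SubgroupClass.coe_pow, OneMemClass.coe_one, show (2 : ℕ) ^ 2 = 2 * 2 by norm_num, pow_mul,
        pow_two, pow_two]
      exact h.sq _ hy2
    · obtain ⟨hy1, hy2, hy3⟩ := hy
      refine ⟨mul_mem (mul_mem hm hy1) (inv_mem hm), fun v hv => ?_, fun p hp => ?_⟩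
      · have hv' := (mem_normalizer_iff.1 (inv_mem hm) v).1 hv
        rw [inv_inv] at hv'
        calc m * y * m⁻¹ * v = m * (y * (m⁻¹ * v * m)) * m⁻¹ := by group
          _ = m * (m⁻¹ * v * m * y) * m⁻¹ := by rw [hy2 _ hv']
          _ = v * (m * y * m⁻¹) := by group
      · have hp' := h.P_inv (inv_mem hm) hp
        rw [inv_inv] at hp'
        have h1 := (mem_normalizer_iff.1 hm _).1 (hy3 _ hp')
        convert h1 using 1
        unfold br; group
  exact hSQ ⟨hx, hxV, hxP⟩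

/-- An involution of `C(V)` in `N(V)` centralizing `C_P(Y)` lies in `V Y`. -/
theorem involution_mem_sup (hA : IsOther V A) (hAQ : A ≤ Q) (hY : IsOther V Y) (hYQ : Y ≤ Q)
    (hnc : ∀ a ∈ A, a ≠ 1 → ∀ y ∈ Y, y ≠ 1 → a * y ≠ y * a) {e : G}
    (he : e ∈ normalizer (V : Set G)) (he2 : e * e = 1) (heV : ∀ v ∈ V, e * v = v * e)
    (hd : ∀ d ∈ P' V Q, (∀ y ∈ Y, d * y = y * d) → e * d = d * e) :
    ∃ v ∈ V, ∃ y ∈ Y, e = v * y := by
  have hei : e⁻¹ = e := inv_eq_of_mul_eq_one_left he2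
  have hbrA : ∀ a ∈ A, br a e ∈ V := by
    intro a ha
    have haP := h.other_le_P hA hAQ ha
    have hai : a⁻¹ = a := inv_eq_of_mul_eq_one_left (h.other_sq hA ha)
    have hb : e * a * e⁻¹ ∈ P' V Q := h.P_inv he haP
    have hm : br a e = a * (e * a * e⁻¹) := by unfold br; rw [hai]; group
    have hmP : br a e ∈ P' V Q := hm ▸ mul_mem haP hb
    obtain ⟨v, hv, y, hy, hvy⟩ := h.mem_sup_of_commutes hA hAQ hY hYQ hnc hmP fun d hd1 hd2 => by
      refine br_eq_one.1 ?_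
      rw [hm, h.br_hom_left haP hb hd1]
      have hed : e * d * e⁻¹ = d := by rw [hd d hd1 hd2, mul_inv_cancel_right]
      have h1 : br (e * a * e⁻¹) d = br a d := by
        have hv' : br a d ∈ V := (h.br_P_mem haP hd1).1
        calc br (e * a * e⁻¹) d = br (e * a * e⁻¹) (e * d * e⁻¹) := by rw [hed]
          _ = e * br a d * e⁻¹ := by unfold br; group
          _ = br a d := by rw [heV _ hv', mul_inv_cancel_right]
      rw [h1]
      exact h.sq _ (h.br_P_mem haP hd1).1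
    by_cases ha1 : a = 1
    · simp [br, ha1]
    have hyP := h.other_le_P hY hYQ hy
    have h2 : a * br a e = br a e * a := by
      have hsq : br a e * br a e = 1 := by
        have hc : Commute y v := (comm_of_P hyP hv : y * v = v * y)
        calc br a e * br a e = v * (y * v) * y := by rw [hvy]; group
          _ = (v * v) * (y * y) := by rw [hc.eq]; group
          _ = 1 := by rw [h.sq v hv, h.other_sq hY hy, one_mul]
      refine mul_inv_eq_iff_eq_mul.1 ?_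
      calc a * br a e * a⁻¹ = (a * a) * e * a⁻¹ * e⁻¹ * a⁻¹ := by unfold br; group
        _ = (br a e)⁻¹ := by rw [h.other_sq hA ha, hai]; unfold br; simp only [mul_inv_rev, hai, hei]; group
        _ = br a e := inv_eq_of_mul_eq_one_left hsq
    by_cases hy1 : y = 1
    · rw [hvy, hy1, mul_one]; exact hv
    · exfalso
      rw [hvy] at h2
      have hav : a * v = v * a := comm_of_P haP hv
      refine hnc a ha ha1 y hy hy1 (mul_left_cancel (a := v) ?_)
      rw [← mul_assoc, ← hav, mul_assoc, h2, mul_assoc]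
  have hP : ∀ p ∈ P' V Q, br p e ∈ V := by
    intro p hp
    obtain ⟨a, ha, hap, hc⟩ := h.exists_mul_centralizes hA hAQ hY hYQ hnc hp
    have hpe : p = a * (a * p) := by rw [← mul_assoc, h.other_sq hA ha, one_mul]
    rw [hpe, br_mul_left, br_eq_one.2 (hd _ hap hc).symm, mul_one, mul_inv_cancel, one_mul]
    exact hbrA a ha
  have heP : e ∈ P' V Q := ⟨h.mem_Q_of_stabilizes he heV hP,
    mem_centralizer_iff.2 fun v hv => (heV v hv).symm⟩
  exact h.mem_sup_of_commutes hA hAQ hY hYQ hnc heP hd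

/-- The radical relation is symmetric. -/
theorem le_cj_Q (x : G) (hY : IsOther V (cj x V)) (hYQ : cj x V ≤ Q) : V ≤ cj x Q := by
  set Y := cj x V with hYdef
  set Q₁ := cj x Q
  have h₁ : IsTIData Y Q₁ := h.conjugate x
  have : Fact (Nat.Prime 2) := ⟨Nat.prime_two⟩
  obtain ⟨A, hA, hAQ, hnc⟩ := h.exists_noncommuting hY hYQ
  have hVY := h.comm_V_other hY hYQ
  have hVN : V ≤ normalizer (Y : Set G) := fun v hv => by
    obtain ⟨y, hy, hy1⟩ := h.exists_ne_one hY
    exact h.other_centralizer_le hY hy hy1 (hVY v hv y hy)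
  have hYN : Y ≤ normalizer (V : Set G) := hYQ.trans h.le
  -- `C(Y)` in the radical of `N(Y)` does not normalize `V`
  obtain ⟨p₁, hp₁, hp₁V⟩ : ∃ p ∈ P' Y Q₁, p ∉ normalizer (V : Set G) := by
    by_contra hcon
    simp only [not_exists, not_and, not_not] at hcon
    have hex : ∃ u ∈ V, u ∈ P' Y Q₁ ∧ u ≠ 1 := by
      by_contra hno
      simp only [not_exists, not_and, not_not] at hno
      obtain ⟨⟨w, hw⟩, hw1⟩ := ne_bot_iff_exists_ne_one.1 (show V ≠ ⊥ by
        obtain ⟨y, hy, hy1⟩ := h.exists_ne_one hY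
        intro hb
        rw [mem_cj, hb, mem_bot] at hy
        exact hy1 (by
          calc y = x * (x⁻¹ * y * x) * x⁻¹ := by group
            _ = 1 := by rw [hy]; group))
      apply hw1
      refine Subtype.ext (h.disjoint_other hY (h₁.mem_V_of_centralizes_P (hVN hw) fun p hp => ?_) hw)
      refine br_eq_one.1 (hno _ (h.br_mem' (hcon p hp) hw) ?_)
      exact mul_mem (h₁.P_inv (hVN hw) hp) (inv_mem hp)
    obtain ⟨u, huV, huP, hu1⟩ := hex
    refine hu1 (h.disjoint_other hY (h₁.center_P huP fun p hp => ?_) huV)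
    refine (br_eq_one.1 (h.disjoint_other hY ?_ (h.br_mem (hcon p hp) huV))).symm
    exact (h₁.br_P_mem hp huP).1
  -- a Sylow 2-subgroup of `N(V) ∩ N(Y)`
  set H₀ := normalizer (V : Set G) ⊓ normalizer (Y : Set G)
  obtain ⟨S⟩ := (inferInstance : Nonempty (Sylow 2 H₀))
  set T₀ := (S : Subgroup H₀).map H₀.subtype
  have hT₀ : IsPGroup 2 T₀ := S.2.map _
  have hT₀H : T₀ ≤ H₀ := map_subtype_le _
  have hnormal : ∀ R : Subgroup G, IsPGroup 2 R → R ≤ H₀ →
      (∀ m ∈ H₀, ∀ r ∈ R, m * r * m⁻¹ ∈ R) → R ≤ T₀ := by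
    intro R hR hRH hRi r hr
    have : (R.subgroupOf H₀).Normal := ⟨fun r hr m => hRi m m.2 r hr⟩
    have hp : IsPGroup 2 (R.subgroupOf H₀) := hR.of_equiv (subgroupOfEquivOfLe hRH).symm
    have hsup : IsPGroup 2 (R.subgroupOf H₀ ⊔ (S : Subgroup H₀) : Subgroup H₀) :=
      hp.to_sup_of_normal_left S.2
    exact ⟨⟨r, hRH hr⟩, (S.3 hsup le_sup_right) ▸ mem_sup_left (show (⟨r, hRH hr⟩ : H₀) ∈
      R.subgroupOf H₀ from hr), rfl⟩
  have hmax : ∀ R : Subgroup G, IsPGroup 2 R → R ≤ H₀ → T₀ ≤ R → R ≤ T₀ := by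
    intro R hR hRH hTR r hr
    have hp : IsPGroup 2 (R.subgroupOf H₀) := hR.of_equiv (subgroupOfEquivOfLe hRH).symm
    have hle : (S : Subgroup H₀) ≤ R.subgroupOf H₀ := fun s hs => hTR ⟨s, hs, rfl⟩
    exact ⟨⟨r, hRH hr⟩, (S.3 hp hle) ▸ (show (⟨r, hRH hr⟩ : H₀) ∈ R.subgroupOf H₀ from hr), rfl⟩
  have hVT : V ≤ T₀ := hnormal V (h.two.to_le h.le_Q) (le_inf le_normalizer hVN)
    fun m hm r hr => (mem_normalizer_iff.1 hm.1 r).1 hr
  let D : Subgroup G := P' V Q ⊓ centralizer (Y : Set G)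
  have hDT : D ≤ T₀ := by
    refine hnormal D (h.two.to_le (inf_le_left.trans inf_le_left))
      (fun d hd => ⟨h.P_le_N hd.1, ?_⟩) fun m hm d hd => ⟨h.P_inv hm.1 hd.1, ?_⟩
    · obtain ⟨y, hy, hy1⟩ := h.exists_ne_one hY
      exact h.other_centralizer_le hY hy hy1 (mem_centralizer_iff.1 hd.2 y hy).symm
    · refine mem_centralizer_iff.2 fun y hy => ?_
      have hy' := (mem_normalizer_iff.1 (inv_mem hm.2) y).1 hy
      rw [inv_inv] at hy'
      have := mem_centralizer_iff.1 hd.2 _ hy'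
      calc y * (m * d * m⁻¹) = m * (m⁻¹ * y * m * d) * m⁻¹ := by group
        _ = m * (d * (m⁻¹ * y * m)) * m⁻¹ := by rw [this]
        _ = m * d * m⁻¹ * y := by group
  set K := T₀ ⊔ P' Y Q₁
  have hK : IsPGroup 2 K := hT₀.to_sup_of_normal_right' (h₁.two.to_le inf_le_left)
    fun t ht => mem_normalizer_fintype fun p hp => h₁.P_inv (hT₀H ht).2 hp
  have hKN : K ≤ normalizer (Y : Set G) := sup_le (hT₀H.trans inf_le_right) h₁.P_le_N
  have hlt : T₀.subgroupOf K ≠ ⊤ := fun e => hp₁V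
    (hT₀H ((subgroupOf_eq_top.1 e) (mem_sup_right hp₁))).1
  have := hK.isNilpotent
  obtain ⟨g, hg, hgT⟩ := SetLike.exists_of_lt
    (Group.normalizerCondition_of_isNilpotent (G := K) _ (lt_top_iff_ne_top.2 hlt))
  have hgn : ∀ t : G, t ∈ T₀ → (g : G) * t * (g : G)⁻¹ ∈ T₀ := fun t ht =>
    (mem_normalizer_iff.1 hg ⟨t, mem_sup_left ht⟩).1 ht
  have hgn' : ∀ t : G, t ∈ T₀ → (g : G)⁻¹ * t * (g : G) ∈ T₀ := fun t ht => by
    have := (mem_normalizer_iff.1 (inv_mem hg) ⟨t, mem_sup_left ht⟩).1 ht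
    rwa [inv_inv] at this
  have hgV : cj (g : G) V ≠ V := by
    intro e
    apply hgT
    refine mem_subgroupOf.2 (hmax (K ⊓ normalizer (V : Set G)) (hK.to_le inf_le_left)
      (le_inf inf_le_right (inf_le_left.trans hKN)) (le_inf le_sup_left (hT₀H.trans inf_le_left)) ?_)
    exact ⟨g.2, mem_normalizer_iff_cj.2 e⟩
  -- a central involution of `T₀` in the conjugate of `V`
  have hZT : cj (g : G) V ≤ T₀ := fun y hy => by
    have := hgn _ (hVT (mem_cj.1 hy))
    rwa [show (g : G) * ((g : G)⁻¹ * y * (g : G)) * (g : G)⁻¹ = y by group] at this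
  have : ((cj (g : G) V).subgroupOf T₀).Normal := ⟨fun y hy t => by
    rw [mem_subgroupOf, mem_cj] at hy ⊢
    have h1 := (mem_normalizer_iff.1 (hT₀H (hgn' t t.2)).1 _).1 hy
    convert h1 using 1
    simp only [coe_mul, InvMemClass.coe_inv]
    group⟩
  have hne : (cj (g : G) V).subgroupOf T₀ ≠ ⊥ := by
    rw [Ne, subgroupOf_eq_bot, disjoint_iff, inf_eq_left.2 hZT]
    intro e
    have h1 := card_cj (g : G) V
    rw [e, card_bot] at h1
    exact hgV (e.trans (card_eq_one.1 h1.symm).symm)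
  have := hT₀.isNilpotent
  obtain ⟨⟨⟨e, heT⟩, heV, hecen⟩, he1⟩ := ne_bot_iff_exists_ne_one.1
    (CfsgLib.Solvable.normal_inf_center_ne_bot (G := T₀) _ hne)
  have he1' : e ≠ 1 := fun h0 => he1 (Subtype.ext (Subtype.ext h0))
  have hcomm : ∀ t ∈ T₀, e * t = t * e := fun t ht =>
    (congrArg Subtype.val (mem_center_iff.1 hecen ⟨t, ht⟩)).symm
  replace heV : e ∈ cj (g : G) V := heV
  obtain ⟨v, hv, y, hy, rfl⟩ := h.involution_mem_sup hA hAQ hY hYQ hnc (hT₀H heT).1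
    ((h.conjugate (g : G)).sq _ heV) (fun v hv => hcomm v (hVT hv))
    (fun d hd1 hd2 => hcomm d (hDT ⟨hd1, mem_centralizer_iff.2 fun y hy => (hd2 y hy).symm⟩))
  have hy1 : y ≠ 1 := by
    rintro rfl
    rw [mul_one] at heV he1'
    exact hgV (h.cj_eq_of_mem hv he1' heV)
  obtain ⟨a, ha, hav⟩ := h.exists_br_left hA hAQ hY hYQ hnc hy hy1 hv
  have haP := h.other_le_P hA hAQ ha
  -- the conjugate is `Y` moved by `a`
  have hVa : cj (g : G) V = cj (a * x) V := by
    refine h.cj_eq_cj he1' heV ?_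
    rw [cj_mul, ← hYdef, mem_cj, ← hav]
    rw [show a⁻¹ * (br a y * y) * a = y by unfold br; group]
    exact hy
  have hgY : cj (g : G) Y = Y := mem_normalizer_iff_cj.1 (hKN g.2)
  have hQg : cj (g : G) Q = cj (a * x) Q :=
    (hVa ▸ h.conjugate (g : G) : IsTIData (cj (a * x) V) (cj (g : G) Q)).unique (h.conjugate (a * x))
  have hYa : cj a Y ≤ Q₁ := by
    have h1 := cj_mono (x := (g : G)) hYQ
    rw [hgY, hQg, cj_mul] at h1
    intro w hw
    have h2 : a * w * a⁻¹ ∈ Y := by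
      have := mem_cj.1 hw
      rwa [inv_eq_of_mul_eq_one_left (h.other_sq hA ha)] at this ⊢
    have h3 := mem_cj.1 (h1 h2)
    rwa [show a⁻¹ * (a * w * a⁻¹) * a = w by group] at h3
  intro v' hv'
  by_cases ha1 : a = 1
  · exfalso
    rw [ha1, one_mul, ← hYdef] at hVa
    exact hY.2 (by
      have := congrArg (cj (g : G)⁻¹) (hVa.trans hgY.symm)
      rwa [← cj_mul, inv_mul_cancel, cj_one, ← cj_mul, inv_mul_cancel, cj_one, eq_comm] at this)
  obtain ⟨y', hy', e'⟩ := h.exists_br_right hA hAQ hY hYQ hnc ha ha1 hv'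
  rw [← e', br]
  exact mul_mem (hYa (conj_mem_cj.2 hy')) (inv_mem (h₁.le_Q hy'))

end IsTIData

end CfsgLib.ClassK.TI
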