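import Mathlib

/-!
Lower bound for the index of proper subgroups of a simple group of order 126000 with trivial-intersection
Sylow 5-subgroups satisfying a few relations (the group `PSU(3,5)`).
-/

set_option autoImplicit false
set_option linter.unusedSectionVars false
set_option linter.style.haveILetI false

namespace CfsgLib.ClassK.UFive

open Subgroup
open scoped Pointwise

section TI

variable {X : Type*} [Group X] [Finite X] {p : ℕ} [Fact p.Prime]

/-- Distinct Sylow subgroups meet trivially. -/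
def IsTI (p : ℕ) (X : Type*) [Group X] : Prop :=
  ∀ P Q : Sylow p X, ∀ x ∈ (P : Subgroup X), x ∈ (Q : Subgroup X) → x ≠ 1 → P = Q

theorem IsTI.subgroup (hTI : IsTI p X) (H : Subgroup X) : IsTI p ↥H := by
  intro Q Q' x hx hx' hx1
  obtain ⟨P, hP⟩ := (Q.2.map H.subtype).exists_le_sylow
  obtain ⟨P', hP'⟩ := (Q'.2.map H.subtype).exists_le_sylow
  have hPP : P = P' := hTI P P' x (hP ⟨x, hx, rfl⟩) (hP' ⟨x, hx', rfl⟩) (fun h => hx1 (Subtype.ext h))
  subst hPP
  have hp : IsPGroup p ↥((P : Subgroup X).subgroupOf H) := P.2.comap_subtype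
  have h1 := Q.is_maximal' hp (fun a ha => hP ⟨a, ha, rfl⟩)
  have h2 := Q'.is_maximal' hp (fun a ha => hP' ⟨a, ha, rfl⟩)
  exact Sylow.ext (h1.symm.trans h2)

/-- With trivial intersections the number of Sylow subgroups is one modulo their order. -/
theorem IsTI.card_modEq (hTI : IsTI p X) (Q : Sylow p X) :
    ∃ m, Nat.card (Sylow p X) = 1 + Nat.card ↥(Q : Subgroup X) * m := by
  classical
  letI : MulAction ↥(Q : Subgroup X) {R : Sylow p X // R ≠ Q} :=
    { smul := fun x R => ⟨(x : X) • R.1, fun h => R.2 (by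
        have hQ : (x : X) • Q = Q := Sylow.smul_eq_iff_mem_normalizer.2 (le_normalizer x.2)
        exact smul_left_cancel _ (h.trans hQ.symm))⟩
      one_smul := fun R => Subtype.ext (one_smul X R.1)
      mul_smul := fun x y R => Subtype.ext (mul_smul (x : X) (y : X) R.1) }
  have hfree : ∀ R : {R : Sylow p X // R ≠ Q}, MulAction.stabilizer ↥(Q : Subgroup X) R = ⊥ := by
    intro R
    rw [Subgroup.eq_bot_iff_forall]
    intro x hx
    have h1 : (x : X) ∈ normalizer ((R.1 : Subgroup X) : Set X) :=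
      Sylow.smul_eq_iff_mem_normalizer.1 (congrArg Subtype.val hx)
    have h2 : (x : X) ∈ (Q : Subgroup X) ⊓ (R.1 : Subgroup X) := by
      rw [← Q.2.inf_normalizer_sylow R.1]; exact ⟨x.2, h1⟩
    by_contra h3
    exact R.2 (hTI R.1 Q x h2.2 h2.1 (fun h => h3 (Subtype.ext h)))
  haveI : Fintype (Sylow p X) := Fintype.ofFinite _
  have h := Nat.card_congr (MulAction.selfEquivOrbitsQuotientProd (G := ↥(Q : Subgroup X)) hfree)
  rw [Nat.card_prod] at h
  refine ⟨Nat.card (MulAction.orbitRel.Quotient ↥(Q : Subgroup X) {R : Sylow p X // R ≠ Q}), ?_⟩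
  rw [Nat.mul_comm, ← h, Nat.card_eq_fintype_card, Nat.card_eq_fintype_card,
    Fintype.card_subtype_compl, Fintype.card_subtype_eq]
  have : 0 < Fintype.card (Sylow p X) := Fintype.card_pos_iff.2 ⟨Q⟩
  omega

end TI

/-- The relations used. -/
structure Setup (G : Type*) [Group G] where
  simple : IsSimpleGroup G
  card_eq : Nat.card G = 126000
  ti : IsTI 5 G
  u₁ : G
  u₂ : G
  w : G
  h : G
  pow₁ : u₁ ^ 5 = 1
  pow₂ : u₂ ^ 5 = 1
  z_ne : u₁ * u₂ * u₁⁻¹ * u₂⁻¹ ≠ 1
  z_pow : (u₁ * u₂ * u₁⁻¹ * u₂⁻¹) ^ 5 = 1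
  comm₁ : Commute (u₁ * u₂ * u₁⁻¹ * u₂⁻¹) u₁
  comm₂ : Commute (u₁ * u₂ * u₁⁻¹ * u₂⁻¹) u₂
  comm_h : Commute (u₁ * u₂ * u₁⁻¹ * u₂⁻¹) (h * (u₁ * u₂ * u₁⁻¹ * u₂⁻¹) * h⁻¹)
  irr₂ : ¬ Commute (h * u₂ * h⁻¹) u₂
  irr₁ : ∀ b : Fin 5, ¬ Commute (h * (u₂ ^ (b : ℕ) * u₁) * h⁻¹) (u₂ ^ (b : ℕ) * u₁)
  w_spec : ¬ Commute (u₁ * u₂ * u₁⁻¹ * u₂⁻¹) (w * u₁ * w⁻¹)

variable {G : Type*} [Group G] [Finite G]

instance fact_five : Fact (Nat.Prime 5) := ⟨by norm_num⟩

/-- A strictly larger 5-subgroup is at least five times as large. -/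
theorem five_mul_le {A B : Subgroup G} (hB : IsPGroup 5 ↥B) (hlt : A < B) :
    5 * Nat.card A ≤ Nat.card B := by
  have h1 := Subgroup.card_mul_index (A.subgroupOf B)
  rw [Nat.card_congr (Subgroup.subgroupOfEquivOfLe hlt.le).toEquiv] at h1
  obtain ⟨k, hk⟩ := hB.index (A.subgroupOf B)
  have hne : (A.subgroupOf B).index ≠ 1 := by
    rw [Ne, Subgroup.index_eq_one, Subgroup.subgroupOf_eq_top]
    exact not_le_of_gt hlt
  rcases k with _ | k
  · exact absurd hk hne
  · have : 5 ≤ (A.subgroupOf B).index := hk ▸ Nat.le_self_pow (by omega) 5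
    calc 5 * Nat.card A = Nat.card A * 5 := Nat.mul_comm _ _
      _ ≤ Nat.card A * (A.subgroupOf B).index := Nat.mul_le_mul le_rfl this
      _ = Nat.card B := h1

variable (S : Setup G)

/-- The central element. -/
abbrev z (S : Setup G) : G := S.u₁ * S.u₂ * S.u₁⁻¹ * S.u₂⁻¹

include S in
theorem card_sylow_sub (P : Sylow 5 G) : Nat.card ↥(P : Subgroup G) = 125 := by
  rw [P.card_eq_multiplicity, S.card_eq]
  have : (126000 : ℕ).factorization 5 = 3 := by
    rw [show (126000 : ℕ) = 5 ^ 3 * 1008 by norm_num,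
      Nat.factorization_mul (by norm_num) (by norm_num), Finsupp.add_apply,
      Nat.Prime.factorization_pow (by norm_num),
      Nat.factorization_eq_zero_of_not_dvd (n := 1008) (p := 5) (by norm_num)]
    simp
  rw [this]; norm_num

theorem mem_normalizer_zpowers {a b : G} (hc : Commute a b) :
    b ∈ normalizer (zpowers a : Set G) := by
  rw [mem_normalizer_iff]
  intro x
  have key : ∀ y ∈ zpowers a, b * y * b⁻¹ = y := fun y hy => by
    obtain ⟨k, rfl⟩ := hy
    show b * a ^ k * b⁻¹ = a ^ k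
    rw [(hc.zpow_left k).eq.symm, mul_inv_cancel_right]
  constructor
  · intro hx; rw [key x hx]; exact hx
  · intro hx
    have h1 := key _ hx
    have h2 : b * x * b⁻¹ = x := mul_left_cancel (mul_right_cancel h1)
    rwa [h2] at hx

theorem exists_P0 : ∃ P : Sylow 5 G, S.u₁ ∈ (P : Subgroup G) ∧ S.u₂ ∈ (P : Subgroup G) ∧
    z S ∈ (P : Subgroup G) := by
  have key : ∀ u : G, u ^ 5 = 1 → Commute (z S) u → ∃ P : Sylow 5 G, u ∈ (P : Subgroup G) ∧
      z S ∈ (P : Subgroup G) := by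
    intro u hu hc
    have hz : ∀ v : G, v ^ 5 = 1 → IsPGroup 5 ↥(zpowers v) := fun v hv g => by
      obtain ⟨k, hk⟩ := g.2
      refine ⟨1, Subtype.ext ?_⟩
      rw [SubmonoidClass.coe_pow, OneMemClass.coe_one, pow_one, ← hk]
      show (v ^ k) ^ 5 = 1
      rw [← zpow_natCast, zpow_comm, zpow_natCast, hv, one_zpow]
    have hp : IsPGroup 5 ↥(zpowers u ⊔ zpowers (z S)) :=
      IsPGroup.to_sup_of_normal_right' (hz u hu) (hz _ S.z_pow) (zpowers_le.2 (mem_normalizer_zpowers hc))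
    obtain ⟨P, hP⟩ := hp.exists_le_sylow
    exact ⟨P, hP (mem_sup_left (mem_zpowers u)), hP (mem_sup_right (mem_zpowers _))⟩
  obtain ⟨P, hP1, hPz⟩ := key S.u₁ S.pow₁ S.comm₁
  obtain ⟨P', hP2, hPz'⟩ := key S.u₂ S.pow₂ S.comm₂
  obtain rfl := S.ti P P' _ hPz hPz' S.z_ne
  exact ⟨P, hP1, hP2, hPz⟩

include S in
theorem card_sylow : Nat.card (Sylow 5 G) = 126 := by
  haveI := S.simple
  obtain ⟨P⟩ : Nonempty (Sylow 5 G) := inferInstance
  obtain ⟨m, hm⟩ := S.ti.card_modEq P
  rw [card_sylow_sub S P] at hm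
  have hdvd := P.card_dvd_index
  have hidx : (P : Subgroup G).index = 1008 := by
    have := (P : Subgroup G).index_mul_card
    rw [card_sylow_sub S P, S.card_eq] at this
    omega
  rw [hidx, hm] at hdvd
  have hne : m ≠ 0 := by
    intro h0
    rw [h0, mul_zero, add_zero, P.card_eq_index_normalizer, Subgroup.index_eq_one] at hm
    haveI : (P : Subgroup G).Normal := Subgroup.normalizer_eq_top_iff.1 hm
    rcases this.eq_bot_or_eq_top with h | h
    · have := card_sylow_sub S P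
      rw [h, Subgroup.card_bot] at this
      omega
    · have := card_sylow_sub S P
      rw [h, Subgroup.card_top, S.card_eq] at this
      omega
  have hle : m ≤ 8 := by
    have := Nat.le_of_dvd (by norm_num) hdvd
    omega
  rw [hm]
  interval_cases m <;> first | rfl | omega

include S in
theorem card_normalizer (P : Sylow 5 G) :
    Nat.card ↥(normalizer ((P : Subgroup G) : Set G)) = 1000 := by
  have h := (normalizer ((P : Subgroup G) : Set G)).index_mul_card
  rw [show (normalizer ((P : Subgroup G) : Set G)).index = 126 from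
    P.card_eq_index_normalizer.symm.trans (card_sylow S), S.card_eq] at h
  omega

/-- The structure of the distinguished Sylow subgroup. -/
theorem sylow_struct {P : Sylow 5 G} (h1 : S.u₁ ∈ (P : Subgroup G)) (h2 : S.u₂ ∈ (P : Subgroup G))
    (hz : z S ∈ (P : Subgroup G)) :
    (∀ x ∈ (P : Subgroup G), Commute (z S) x) ∧
    (∀ x ∈ (P : Subgroup G), ∀ y ∈ (P : Subgroup G), x * y * x⁻¹ * y⁻¹ ∈ zpowers (z S)) ∧
    (∀ c ∈ (P : Subgroup G), Commute c S.u₁ → Commute c S.u₂ → c ∈ zpowers (z S)) := by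
  have hP : IsPGroup 5 ↥(P : Subgroup G) := P.2
  have hnc : ¬ Commute S.u₁ S.u₂ := fun hc => S.z_ne (by rw [hc.eq]; group)
  have hz5 : Nat.card ↥(zpowers (z S)) = 5 := by
    rw [Nat.card_zpowers]; exact orderOf_eq_prime S.z_pow S.z_ne
  have hZle : zpowers (z S) ≤ (P : Subgroup G) := zpowers_le.2 hz
  have hlt1 : zpowers (z S) < zpowers (z S) ⊔ zpowers S.u₁ := by
    refine lt_of_le_of_ne le_sup_left fun he => hnc ?_
    obtain ⟨k, hk⟩ : S.u₁ ∈ zpowers (z S) := he ▸ mem_sup_right (mem_zpowers _)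
    have h5 : Commute (z S) S.u₂ := S.comm₂
    exact hk ▸ h5.zpow_left k
  set A := zpowers (z S) ⊔ zpowers S.u₁ with hA
  have hAle : A ≤ (P : Subgroup G) := sup_le hZle (zpowers_le.2 h1)
  have hAc : A ≤ centralizer {S.u₁} :=
    sup_le (zpowers_le.2 (mem_centralizer_singleton_iff.2 S.comm₁.eq))
      (zpowers_le.2 (mem_centralizer_singleton_iff.2 rfl))
  have hlt2 : A < A ⊔ zpowers S.u₂ := by
    refine lt_of_le_of_ne le_sup_left fun he => hnc ?_
    have : S.u₂ ∈ A := he ▸ mem_sup_right (mem_zpowers _)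
    exact (mem_centralizer_singleton_iff.1 (hAc this)).symm
  have hBle : A ⊔ zpowers S.u₂ ≤ (P : Subgroup G) := sup_le hAle (zpowers_le.2 h2)
  have c1 := five_mul_le (hP.to_le hAle) hlt1
  have c2 := five_mul_le (hP.to_le hBle) hlt2
  have hPB : A ⊔ zpowers S.u₂ = (P : Subgroup G) :=
    Subgroup.eq_of_le_of_card_ge hBle (by rw [card_sylow_sub S P]; omega)
  have hcent : ∀ x ∈ (P : Subgroup G), Commute (z S) x := by
    intro x hx
    have hle : A ⊔ zpowers S.u₂ ≤ centralizer {z S} :=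
      sup_le (sup_le (zpowers_le.2 (mem_centralizer_singleton_iff.2 rfl))
        (zpowers_le.2 (mem_centralizer_singleton_iff.2 S.comm₁.eq.symm)))
        (zpowers_le.2 (mem_centralizer_singleton_iff.2 S.comm₂.eq.symm))
    exact (mem_centralizer_singleton_iff.1 (hle (hPB.symm ▸ hx))).symm
  refine ⟨hcent, ?_, ?_⟩
  · have hN : (zpowers (z S)).subgroupOf (P : Subgroup G) |>.Normal := by
      refine ⟨fun n hn g => ?_⟩
      rw [mem_subgroupOf] at hn ⊢
      obtain ⟨k, hk⟩ := hn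
      refine ⟨k, ?_⟩
      simp only [Subgroup.coe_mul, InvMemClass.coe_inv, ← hk]
      rw [← ((hcent _ g.2).zpow_left k).eq, mul_inv_cancel_right]
    have hq : Nat.card (↥(P : Subgroup G) ⧸ (zpowers (z S)).subgroupOf (P : Subgroup G)) = 5 ^ 2 := by
      have := Subgroup.card_mul_index ((zpowers (z S)).subgroupOf (P : Subgroup G))
      rw [Nat.card_congr (Subgroup.subgroupOfEquivOfLe hZle).toEquiv, hz5, card_sylow_sub S P] at this
      rw [← Subgroup.index_eq_card]
      omega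
    intro x hx y hy
    have := IsPGroup.commutative_of_card_eq_prime_sq hq (QuotientGroup.mk' _ ⟨x, hx⟩)
      (QuotientGroup.mk' _ ⟨y, hy⟩)
    have h6 : QuotientGroup.mk' ((zpowers (z S)).subgroupOf (P : Subgroup G))
        ((⟨x, hx⟩ : ↥(P : Subgroup G)) * ⟨y, hy⟩ * ⟨x, hx⟩⁻¹ * ⟨y, hy⟩⁻¹) = 1 := by
      rw [map_mul, map_mul, map_mul, map_inv, map_inv, this]; group
    have h7 := (QuotientGroup.eq_one_iff _).1 h6
    simpa [mem_subgroupOf] using h7
  · intro c hc hc1 hc2
    by_contra hcz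
    have hlt : zpowers (z S) < zpowers (z S) ⊔ zpowers c :=
      lt_of_le_of_ne le_sup_left fun he => hcz (he ▸ mem_sup_right (mem_zpowers _))
    set C := zpowers (z S) ⊔ zpowers c
    have hCle : C ≤ (P : Subgroup G) := sup_le hZle (zpowers_le.2 hc)
    have hCc : ∀ u, u = S.u₁ ∨ u = S.u₂ → C ≤ centralizer {u} := by
      intro u hu
      refine sup_le (zpowers_le.2 (mem_centralizer_singleton_iff.2 ?_))
        (zpowers_le.2 (mem_centralizer_singleton_iff.2 ?_)) <;> rcases hu with rfl | rfl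
      exacts [S.comm₁.eq, S.comm₂.eq, hc1.eq, hc2.eq]
    have hCC : C ≤ centralizer (C : Set G) := by
      have hcz' : Commute (z S) c := hcent c hc
      refine sup_le (zpowers_le.2 ?_) (zpowers_le.2 ?_) <;> rw [mem_centralizer_iff] <;> intro y hy
      · exact ((hcent y (hCle hy)).eq).symm
      · have : C ≤ centralizer {c} := sup_le (zpowers_le.2 (mem_centralizer_singleton_iff.2 hcz'.eq))
          (zpowers_le.2 (mem_centralizer_singleton_iff.2 rfl))
        exact mem_centralizer_singleton_iff.1 (this hy)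
    have hu : S.u₁ ∉ C := fun h => hnc (mem_centralizer_singleton_iff.1 (hCc _ (Or.inr rfl) h))
    have hlt' : C < C ⊔ zpowers S.u₁ :=
      lt_of_le_of_ne le_sup_left fun he => hu (he ▸ mem_sup_right (mem_zpowers _))
    have hle' : C ⊔ zpowers S.u₁ ≤ (P : Subgroup G) := sup_le hCle (zpowers_le.2 h1)
    have d1 := five_mul_le (hP.to_le hCle) hlt
    have d2 := five_mul_le (hP.to_le hle') hlt'
    have hall : C ⊔ zpowers S.u₁ = (P : Subgroup G) :=
      Subgroup.eq_of_le_of_card_ge hle' (by rw [card_sylow_sub S P]; omega)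
    have h1c : C ⊔ zpowers S.u₁ ≤ centralizer {S.u₁} :=
      sup_le (hCc _ (Or.inl rfl)) (zpowers_le.2 (mem_centralizer_singleton_iff.2 rfl))
    exact hnc (mem_centralizer_singleton_iff.1 (h1c (hall.symm ▸ h2))).symm

end CfsgLib.ClassK.UFive
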