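import Mathlib
import Cfsg.Agent.Lib.ClassK.UThreeFiveSylow

/-!
Proper subgroups of `PSU(3,5)` have index at least 50, in the abstract setting of `UFive.Setup`.
-/

set_option autoImplicit false
set_option linter.unusedSectionVars false
set_option linter.style.haveILetI false

namespace CfsgLib.ClassK.UFive

open Subgroup
open scoped Pointwise

variable {G : Type*} [Group G] [Finite G] (S : Setup G)

/-- Every subgroup of small index contains the commutator of the distinguished pair. -/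
theorem z_mem_of_small {P : Sylow 5 G} (h1 : S.u₁ ∈ (P : Subgroup G)) (h2 : S.u₂ ∈ (P : Subgroup G))
    (H : Subgroup G) (hidx : H.index < 25) : z S ∈ H := by
  set A := H.subgroupOf (P : Subgroup G)
  obtain ⟨k, hk⟩ := P.2.index A
  have hle : A.index ≤ H.index := by
    have h := Subgroup.relIndex_le_of_le_right (H := H) (le_top : (P : Subgroup G) ≤ ⊤)
      (by rw [H.relIndex_top_right]; exact Subgroup.index_ne_zero_of_finite)
    rwa [H.relIndex_top_right] at h
  have hk1 : k ≤ 1 := by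
    by_contra hk'
    have : 25 ≤ A.index := hk ▸ (show 25 = 5 ^ 2 by norm_num) ▸ Nat.pow_le_pow_right (by norm_num) (by omega)
    omega
  have hzz : (⟨z S, mul_mem (mul_mem (mul_mem h1 h2) (inv_mem h1)) (inv_mem h2)⟩ : ↥(P : Subgroup G)) =
      ⟨S.u₁, h1⟩ * ⟨S.u₂, h2⟩ * ⟨S.u₁, h1⟩⁻¹ * ⟨S.u₂, h2⟩⁻¹ := rfl
  have hmem : (⟨S.u₁, h1⟩ * ⟨S.u₂, h2⟩ * ⟨S.u₁, h1⟩⁻¹ * ⟨S.u₂, h2⟩⁻¹ : ↥(P : Subgroup G)) ∈ A := by
    interval_cases k
    · rw [pow_zero, Subgroup.index_eq_one] at hk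
      rw [hk]; exact Subgroup.mem_top _
    · haveI : A.Normal := Subgroup.normal_of_index_eq_minFac_card (by
        rw [hk, card_sylow_sub S P]
        exact (by norm_num : (5 : ℕ) ^ 1 = Nat.minFac (5 ^ 3)).trans (by norm_num))
      haveI : IsCyclic (↥(P : Subgroup G) ⧸ A) := isCyclic_of_prime_card (p := 5) (by
        rw [← Subgroup.index_eq_card, hk]; norm_num)
      refine (QuotientGroup.eq_one_iff _).1 ?_
      show QuotientGroup.mk' A _ = 1
      letI := IsCyclic.commGroup (α := ↥(P : Subgroup G) ⧸ A)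
      rw [map_mul, map_mul, map_mul, map_inv, map_inv, mul_comm (QuotientGroup.mk' A _) (QuotientGroup.mk' A _)]
      group
  rw [← hzz] at hmem
  exact mem_subgroupOf.1 hmem

include S in
theorem lt25 (H : Subgroup G) (hH : H ≠ ⊤) : 25 ≤ H.index := by
  haveI := S.simple
  by_contra hlt
  obtain ⟨P, h1, h2, -⟩ := exists_P0 S
  have hcore : z S ∈ H.normalCore := by
    intro b
    have h := z_mem_of_small S h1 h2 (H.map (MulAut.conj b⁻¹).toMonoidHom) (by
      have := Subgroup.index_map_equiv H (MulAut.conj b⁻¹)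
      exact lt_of_eq_of_lt this (by omega))
    obtain ⟨x, hx, hxz⟩ := h
    have : x = b * z S * b⁻¹ := by
      rw [← hxz]; simp [mul_assoc]
    exact this ▸ hx
  rcases (inferInstance : H.normalCore.Normal).eq_bot_or_eq_top with h | h
  · exact S.z_ne (Subgroup.mem_bot.1 (h ▸ hcore))
  · exact hH (top_le_iff.1 (h ▸ H.normalCore_le))

include S in
/-- Numerical data of the Sylow subgroups of a subgroup. -/
theorem sub_data (H : Subgroup G) (R : Sylow 5 ↥H) (hR : (R : Subgroup ↥H) ≠ ⊥) :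
    ∃ s N m : ℕ, s = Nat.card (Sylow 5 ↥H) ∧
      N = Nat.card ↥(normalizer ((R : Subgroup ↥H) : Set ↥H)) ∧
      s * N = Nat.card ↥H ∧ N ∣ 1000 ∧ s ≤ 126 ∧ s = 1 + Nat.card ↥(R : Subgroup ↥H) * m ∧
      Nat.card ↥(R : Subgroup ↥H) ∣ N ∧
      ∃ P : Sylow 5 G, (R : Subgroup ↥H).map H.subtype ≤ (P : Subgroup G) ∧
        (normalizer ((R : Subgroup ↥H) : Set ↥H)).map H.subtype ≤
          normalizer ((P : Subgroup G) : Set G) := by
  obtain ⟨m, hm⟩ := (S.ti.subgroup H).card_modEq R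
  obtain ⟨x, hx, hx1⟩ : ∃ x ∈ (R : Subgroup ↥H), x ≠ 1 := by
    by_contra hc
    push Not at hc
    exact hR ((Subgroup.eq_bot_iff_forall _).2 hc)
  have hsup : ∀ T : Sylow 5 ↥H, ∃ P : Sylow 5 G, (T : Subgroup ↥H).map H.subtype ≤ (P : Subgroup G) :=
    fun T => (T.2.map H.subtype).exists_le_sylow
  choose f hf using hsup
  have hinj : Function.Injective f := by
    intro T T' he
    have hp : IsPGroup 5 ↥((f T : Subgroup G).subgroupOf H) := (f T).2.comap_subtype
    have h1 := T.is_maximal' hp (fun a ha => hf T ⟨a, ha, rfl⟩)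
    have h2 := T'.is_maximal' hp (fun a ha => he ▸ hf T' ⟨a, ha, rfl⟩)
    exact Sylow.ext (h1.symm.trans h2)
  have hN : (normalizer ((R : Subgroup ↥H) : Set ↥H)).map H.subtype ≤
      normalizer ((f R : Subgroup G) : Set G) := by
    rintro _ ⟨a, ha, rfl⟩
    apply Sylow.smul_eq_iff_mem_normalizer.1
    refine S.ti _ _ ((a * x * a⁻¹ : ↥H) : G) ?_ (hf R ⟨_, (mem_normalizer_iff.1 ha x).1 hx, rfl⟩)
      (fun h => hx1 ?_)
    · rw [Sylow.smul_def, Sylow.pointwise_smul_def]
      exact ⟨(x : G), hf R ⟨x, hx, rfl⟩, by simp⟩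
    · have h' : a * x * a⁻¹ = 1 := Subtype.ext h
      exact conj_eq_one_iff.1 h'
  refine ⟨_, _, m, rfl, rfl, ?_, ?_, ?_, hm, Subgroup.card_dvd_of_le le_normalizer, f R, hf R, hN⟩
  · rw [R.card_eq_index_normalizer]
    exact Subgroup.index_mul_card _
  · have h := Subgroup.card_dvd_of_le hN
    rwa [Subgroup.card_map_of_injective (Subgroup.subtype_injective H), card_normalizer S] at h
  · rw [← card_sylow S]
    exact Nat.card_le_card_of_injective f hinj

include S in
theorem card_sylow_of (H : Subgroup G) (R : Sylow 5 ↥H) :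
    Nat.card ↥(R : Subgroup ↥H) = 5 ^ (Nat.card ↥H).factorization 5 := R.card_eq_multiplicity

/-- The arithmetic of the possible indices. -/
theorem arith {n s N m r : ℕ} (hn : n < 50) (h25 : 25 ≤ n) (hdvd : n ∣ 126000)
    (hsN : s * N = 126000 / n) (hN : N ∣ 1000) (hs : s ≤ 126) (hm : s = 1 + r * m)
    (hr : r = 5 ^ (126000 / n).factorization 5) :
    (n = 25 ∧ r = 5 ∧ s = 126 ∧ N = 40) ∨ (n = 40 ∧ r = 25 ∧ s = 126 ∧ N = 25) := by
  have hfac : ∀ a k c : ℕ, a = 5 ^ k * c → ¬ 5 ∣ c → a.factorization 5 = k := by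
    intro a k c ha hc
    have hc0 : c ≠ 0 := fun h => hc (h ▸ dvd_zero 5)
    rw [ha, Nat.factorization_mul (by positivity) hc0, Finsupp.add_apply,
      Nat.Prime.factorization_pow (by norm_num), Nat.factorization_eq_zero_of_not_dvd hc]
    simp
  have hex : n = 25 ∨ n = 28 ∨ n = 30 ∨ n = 35 ∨ n = 36 ∨ n = 40 ∨ n = 42 ∨ n = 45 ∨ n = 48 := by
    interval_cases n <;> omega
  have key : ∀ M r' : ℕ, s * N = M → r = r' → ∀ s' < 127, s = s' → s' ∣ M ∧ M / s' ∣ 1000 ∧ s' % r' = 1 % r' := by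
    intro M r' hM hr' s' _ hs'
    subst hs' hr'
    refine ⟨⟨N, hM.symm⟩, ?_, ?_⟩
    · rcases Nat.eq_zero_or_pos s with h | h
      · omega
      · rw [← hM, Nat.mul_div_cancel_left _ h]; exact hN
    · rw [hm, Nat.add_mul_mod_self_left]
  rcases hex with rfl | rfl | rfl | rfl | rfl | rfl | rfl | rfl | rfl
  all_goals norm_num at hsN hr
  · rw [hfac 5040 1 1008 (by norm_num) (by norm_num), pow_one] at hr
    have h := key _ _ hsN hr s (by omega) rfl
    have : ∀ s' < 127, s' ∣ 5040 ∧ 5040 / s' ∣ 1000 ∧ s' % 5 = 1 % 5 → s' = 126 := by decide +kernel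
    have := this s (by omega) h
    subst this
    exact Or.inl ⟨rfl, hr, rfl, by omega⟩
  · rw [hfac 4500 3 36 (by norm_num) (by norm_num)] at hr
    have : ∀ s' < 127, ¬ (s' ∣ 4500 ∧ 4500 / s' ∣ 1000 ∧ s' % 125 = 1 % 125) := by decide +kernel
    exact absurd (key _ _ hsN hr s (by omega) rfl) (this s (by omega))
  · rw [hfac 4200 2 168 (by norm_num) (by norm_num)] at hr
    have : ∀ s' < 127, ¬ (s' ∣ 4200 ∧ 4200 / s' ∣ 1000 ∧ s' % 25 = 1 % 25) := by decide +kernel
    exact absurd (key _ _ hsN hr s (by omega) rfl) (this s (by omega))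
  · rw [hfac 3600 2 144 (by norm_num) (by norm_num)] at hr
    have : ∀ s' < 127, ¬ (s' ∣ 3600 ∧ 3600 / s' ∣ 1000 ∧ s' % 25 = 1 % 25) := by decide +kernel
    exact absurd (key _ _ hsN hr s (by omega) rfl) (this s (by omega))
  · rw [hfac 3500 3 28 (by norm_num) (by norm_num)] at hr
    have : ∀ s' < 127, ¬ (s' ∣ 3500 ∧ 3500 / s' ∣ 1000 ∧ s' % 125 = 1 % 125) := by decide +kernel
    exact absurd (key _ _ hsN hr s (by omega) rfl) (this s (by omega))
  · rw [hfac 3150 2 126 (by norm_num) (by norm_num)] at hr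
    have h := key _ _ hsN hr s (by omega) rfl
    have h3 : ∀ s' < 127, s' ∣ 3150 ∧ 3150 / s' ∣ 1000 ∧ s' % 25 = 1 % 25 → s' = 126 := by
      decide +kernel
    have := h3 s (by omega) h
    subst this
    exact Or.inr ⟨rfl, hr, rfl, by omega⟩
  · rw [hfac 3000 3 24 (by norm_num) (by norm_num)] at hr
    have : ∀ s' < 127, ¬ (s' ∣ 3000 ∧ 3000 / s' ∣ 1000 ∧ s' % 125 = 1 % 125) := by decide +kernel
    exact absurd (key _ _ hsN hr s (by omega) rfl) (this s (by omega))
  · rw [hfac 2800 2 112 (by norm_num) (by norm_num)] at hr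
    have : ∀ s' < 127, ¬ (s' ∣ 2800 ∧ 2800 / s' ∣ 1000 ∧ s' % 25 = 1 % 25) := by decide +kernel
    exact absurd (key _ _ hsN hr s (by omega) rfl) (this s (by omega))
  · rw [hfac 2625 3 21 (by norm_num) (by norm_num)] at hr
    have : ∀ s' < 127, ¬ (s' ∣ 2625 ∧ 2625 / s' ∣ 1000 ∧ s' % 125 = 1 % 125) := by decide +kernel
    exact absurd (key _ _ hsN hr s (by omega) rfl) (this s (by omega))

end CfsgLib.ClassK.UFive
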