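import Mathlib
import Cfsg.Agent.Lib.ClassK.UThreeFiveBound

/-!
Proper subgroups of `PSU(3,5)` have index at least 50: the two exceptional numerical cases, and generation.
-/

set_option autoImplicit false
set_option linter.unusedSectionVars false
set_option linter.style.haveILetI false

namespace CfsgLib.ClassK.UFive

open Subgroup
open scoped Pointwise

variable {G : Type*} [Group G] [Finite G] (S : Setup G)

include S in
/-- No subgroup of index 40. -/
theorem not_forty (H : Subgroup G) (hn : Nat.card ↥H = 3150) (R : Sylow 5 ↥H)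
    (hr : Nat.card ↥(R : Subgroup ↥H) = 25) (hs : Nat.card (Sylow 5 ↥H) = 126) : False := by
  classical
  haveI : Fact (Nat.Prime 7) := ⟨by norm_num⟩
  have hT7 : ∀ T : Sylow 7 ↥H, Nat.card ↥(T : Subgroup ↥H) = 7 := by
    intro T
    rw [T.card_eq_multiplicity, hn, show (3150 : ℕ) = 7 ^ 1 * 450 by norm_num,
      Nat.factorization_mul (by norm_num) (by norm_num), Finsupp.add_apply,
      Nat.Prime.factorization_pow (by norm_num),
      Nat.factorization_eq_zero_of_not_dvd (n := 450) (p := 7) (by norm_num)]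
    simp
  have hTI := S.ti.subgroup H
  have hR : ∀ T : Sylow 5 ↥H, Nat.card ↥(T : Subgroup ↥H) = 25 := fun T => by
    rw [card_sylow_of S H T, ← card_sylow_of S H R, hr]
  haveI := Fintype.ofFinite (Sylow 5 ↥H)
  haveI := Fintype.ofFinite (Sylow 7 ↥H)
  let A := Σ T : Sylow 5 ↥H, {x : ↥(T : Subgroup ↥H) // x ≠ 1}
  let B := Σ T : Sylow 7 ↥H, {x : ↥(T : Subgroup ↥H) // x ≠ 1}
  have hsub : ∀ (α : Type _) [Group α] [Finite α] (k : ℕ), Nat.card α = k →
      Nat.card {x : α // x ≠ 1} = k - 1 := by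
    intro α _ _ k hk
    haveI := Fintype.ofFinite α
    rw [Nat.card_eq_fintype_card, Fintype.card_subtype_compl, Fintype.card_subtype_eq,
      ← Nat.card_eq_fintype_card, hk]
  have hcA : Nat.card A = 126 * 24 := by
    rw [Nat.card_sigma, Finset.sum_congr rfl (fun T _ => hsub _ 25 (hR T)), Finset.sum_const,
      Finset.card_univ, ← Nat.card_eq_fintype_card, hs]
    norm_num
  have hcB : Nat.card B = Nat.card (Sylow 7 ↥H) * 6 := by
    rw [Nat.card_sigma, Finset.sum_congr rfl (fun T _ => hsub _ 7 (hT7 T)), Finset.sum_const,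
      Finset.card_univ, ← Nat.card_eq_fintype_card]
    rfl
  let F : A ⊕ B → ↥H := Sum.elim (fun a => a.2.1.1) (fun b => b.2.1.1)
  have hF : Function.Injective F := by
    have hpow5 : ∀ a : A, (a.2.1.1 : ↥H) ^ 25 = 1 := fun a => by
      have := pow_card_eq_one' (x := a.2.1)
      rw [hR a.1] at this
      exact congrArg Subtype.val this
    have hpow7 : ∀ b : B, (b.2.1.1 : ↥H) ^ 7 = 1 := fun b => by
      have := pow_card_eq_one' (x := b.2.1)
      rw [hT7 b.1] at this
      exact congrArg Subtype.val this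
    have hcross : ∀ (a : A) (b : B), a.2.1.1 ≠ b.2.1.1 := by
      intro a b he
      have h1 := hpow5 a
      have h2 := hpow7 b
      rw [← he] at h2
      refine a.2.2 (Subtype.ext ?_)
      have h3 := pow_gcd_eq_one.2 (⟨h1, h2⟩ : (a.2.1.1 : ↥H) ^ 25 = 1 ∧ (a.2.1.1 : ↥H) ^ 7 = 1)
      norm_num at h3
      exact congrArg Subtype.val h3
    rintro (⟨T, x, hx⟩ | ⟨T, x, hx⟩) (⟨T', y, hy⟩ | ⟨T', y, hy⟩) he <;>
      simp only [F, Sum.elim_inl, Sum.elim_inr] at he
    · have hTT : T = T' := hTI T T' _ x.2 (he ▸ y.2) (fun h => hx (Subtype.ext h))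
      subst hTT
      obtain rfl : x = y := Subtype.ext he
      rfl
    · exact absurd he (hcross ⟨T, x, hx⟩ ⟨T', y, hy⟩)
    · exact absurd he.symm (hcross ⟨T', y, hy⟩ ⟨T, x, hx⟩)
    · have hx1 : x.1 ≠ (1 : ↥H) := fun h => hx (Subtype.ext h)
      have hTT : T = T' := by
        have key : ∀ U : Sylow 7 ↥H, x.1 ∈ (U : Subgroup ↥H) → (U : Subgroup ↥H) = zpowers x.1 := by
          intro U hU
          refine (Subgroup.eq_of_le_of_card_ge (zpowers_le.2 hU) ?_).symm
          rw [hT7 U, Nat.card_zpowers, orderOf_eq_prime (hpow7 ⟨T, x, hx⟩) hx1]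
        exact Sylow.ext ((key T x.2).trans (key T' (he ▸ y.2)).symm)
      subst hTT
      obtain rfl : x = y := Subtype.ext he
      rfl
  have hle := Nat.card_le_card_of_injective F hF
  rw [Nat.card_sum, hcA, hcB, hn] at hle
  obtain ⟨T⟩ : Nonempty (Sylow 7 ↥H) := inferInstance
  have h7dvd : Nat.card (Sylow 7 ↥H) ∣ 450 := by
    have := T.card_dvd_index
    have h2 := (T : Subgroup ↥H).index_mul_card
    rw [hT7 T, hn] at h2
    rwa [show (T : Subgroup ↥H).index = 450 by omega] at this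
  have h7mod := card_sylow_modEq_one 7 ↥H
  unfold Nat.ModEq at h7mod
  have hN5 : 5 ∣ Nat.card ↥(normalizer ((T : Subgroup ↥H) : Set ↥H)) := by
    have h := (normalizer ((T : Subgroup ↥H) : Set ↥H)).index_mul_card
    rw [show (normalizer ((T : Subgroup ↥H) : Set ↥H)).index = Nat.card (Sylow 7 ↥H) from
      T.card_eq_index_normalizer.symm, hn] at h
    have : Nat.card (Sylow 7 ↥H) = 1 ∨ Nat.card (Sylow 7 ↥H) = 15 := by
      have : Nat.card (Sylow 7 ↥H) ≤ 21 := by omega
      interval_cases Nat.card (Sylow 7 ↥H) <;> omega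
    rcases this with e | e <;> rw [e] at h <;> omega
  obtain ⟨y, hy⟩ := exists_prime_orderOf_dvd_card' 5 hN5
  obtain ⟨t, ht⟩ : ∃ t ∈ (T : Subgroup ↥H), t ≠ 1 := by
    by_contra hc
    push Not at hc
    have := hT7 T
    rw [(Subgroup.eq_bot_iff_forall _).2 hc, Subgroup.card_bot] at this
    omega
  have ht7 : orderOf t = 7 := by
    have := pow_card_eq_one' (x := (⟨t, ht.1⟩ : ↥(T : Subgroup ↥H)))
    rw [hT7 T] at this
    exact orderOf_eq_prime (congrArg Subtype.val this) ht.2
  have hTz : (T : Subgroup ↥H) = zpowers t :=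
    (Subgroup.eq_of_le_of_card_ge (zpowers_le.2 ht.1) (by rw [hT7 T, Nat.card_zpowers, ht7])).symm
  have hcomm : Commute (y : ↥H) t := by
    have hmem : (y : ↥H) * t * (y : ↥H)⁻¹ ∈ zpowers t := hTz ▸ (mem_normalizer_iff.1 y.2 t).1 ht.1
    obtain ⟨k, hk, hkt⟩ := (mem_powers_iff_mem_range_orderOf (x := t)).1
      ((isOfFinOrder_of_finite t).mem_powers_iff_mem_zpowers.2 hmem) |> Finset.mem_image.1
    simp only [Finset.mem_range, ht7] at hk
    have hiter : ∀ j : ℕ, (y : ↥H) ^ j * t * ((y : ↥H) ^ j)⁻¹ = t ^ k ^ j := by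
      intro j
      induction j with
      | zero => simp
      | succ j ih =>
        calc (y : ↥H) ^ (j + 1) * t * ((y : ↥H) ^ (j + 1))⁻¹
            = (y : ↥H) * ((y : ↥H) ^ j * t * ((y : ↥H) ^ j)⁻¹) * (y : ↥H)⁻¹ := by
              rw [pow_succ']; group
          _ = ((y : ↥H) * t * (y : ↥H)⁻¹) ^ k ^ j := by rw [ih, conj_pow]
          _ = t ^ k ^ (j + 1) := by rw [← hkt, ← pow_mul, pow_succ']
    have h5 := hiter 5
    have hy5 : (y : ↥H) ^ 5 = 1 := by
      rw [← hy, ← Subgroup.orderOf_coe]; exact pow_orderOf_eq_one _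
    rw [hy5, one_mul, inv_one, mul_one] at h5
    have hmod : k ^ 5 % 7 = 1 := by
      have := pow_eq_pow_iff_modEq.1 (h5.symm.trans (pow_one t).symm)
      rw [ht7] at this
      exact this
    have hk1 : k = 1 := by interval_cases k <;> first | rfl | (exfalso; revert hmod; norm_num)
    rw [hk1, pow_one] at hkt
    exact mul_inv_eq_iff_eq_mul.1 hkt.symm
  obtain ⟨Py, hPy⟩ := (IsPGroup.of_card (p := 5) (n := 1) (by
    rw [Nat.card_zpowers, Subgroup.orderOf_coe, Subgroup.orderOf_coe, hy]; norm_num) :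
    IsPGroup 5 ↥(zpowers ((y : ↥H) : G))).exists_le_sylow
  have hy1 : ((y : ↥H) : G) ≠ 1 := fun h => by
    have : orderOf y = 1 := orderOf_eq_one_iff.2 (Subtype.ext (Subtype.ext h))
    omega
  have htn : (t : G) ∈ normalizer ((Py : Subgroup G) : Set G) := by
    apply Sylow.smul_eq_iff_mem_normalizer.1
    refine S.ti _ _ ((y : ↥H) : G) ?_ (hPy (mem_zpowers _)) hy1
    rw [Sylow.smul_def, Sylow.pointwise_smul_def]
    refine ⟨((y : ↥H) : G), hPy (mem_zpowers _), ?_⟩
    have h := congrArg Subtype.val hcomm.symm.eq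
    simp only [Subgroup.coe_mul] at h
    simp [h]
  have h := orderOf_dvd_natCard (⟨(t : G), htn⟩ : ↥(normalizer ((Py : Subgroup G) : Set G)))
  have e : orderOf (⟨(t : G), htn⟩ : ↥(normalizer ((Py : Subgroup G) : Set G))) = orderOf (t : G) :=
    (Subgroup.orderOf_coe _).symm
  rw [e, card_normalizer S, Subgroup.orderOf_coe, ht7] at h
  omega

end CfsgLib.ClassK.UFive
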