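import Mathlib
import Cfsg.Agent.Lib.ClassK.UThreeFiveIndex

/-!
Proper subgroups of `PSU(3,5)` have index at least 50: index 25, the main bound, and generation.
-/

set_option autoImplicit false
set_option linter.unusedSectionVars false
set_option linter.style.haveILetI false

namespace CfsgLib.ClassK.UFive

open Subgroup
open scoped Pointwise

variable {G : Type*} [Group G] [Finite G] (S : Setup G)

theorem isPGroup_zpowers {v : G} (hv : v ^ 5 = 1) : IsPGroup 5 ↥(zpowers v) := fun g => by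
  obtain ⟨k, hk⟩ := g.2
  refine ⟨1, Subtype.ext ?_⟩
  rw [SubmonoidClass.coe_pow, OneMemClass.coe_one, pow_one, ← hk]
  show (v ^ k) ^ 5 = 1
  rw [← zpow_natCast, zpow_comm, zpow_natCast, hv, one_zpow]

include S in
theorem card_z : Nat.card ↥(zpowers (z S)) = 5 := by
  rw [Nat.card_zpowers]; exact orderOf_eq_prime S.z_pow S.z_ne

theorem h_mem_normalizer {P : Sylow 5 G} (hz : z S ∈ (P : Subgroup G)) :
    S.h ∈ normalizer ((P : Subgroup G) : Set G) := by
  apply Sylow.smul_eq_iff_mem_normalizer.1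
  set x := S.h * z S * S.h⁻¹ with hx
  have hx1 : x ≠ 1 := fun h => S.z_ne (conj_eq_one_iff.1 h)
  have hx5 : x ^ 5 = 1 := by rw [hx, conj_pow, S.z_pow, mul_one, mul_inv_cancel]
  obtain ⟨P', hP'⟩ := (IsPGroup.to_sup_of_normal_right' (isPGroup_zpowers hx5) (isPGroup_zpowers S.z_pow)
    (zpowers_le.2 (mem_normalizer_zpowers S.comm_h))).exists_le_sylow
  have e : P' = P := S.ti P' P _ (hP' (mem_sup_right (mem_zpowers _))) hz S.z_ne
  refine S.ti _ _ x ?_ (e ▸ hP' (mem_sup_left (mem_zpowers _))) hx1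
  rw [Sylow.smul_def, Sylow.pointwise_smul_def]
  exact ⟨z S, hz, by simp [x, z, mul_assoc]⟩

include S in
/-- No subgroup of index 25. -/
theorem not_twentyfive (H : Subgroup G) (hH : H ≠ ⊤) (hidx : H.index = 25) (R : Sylow 5 ↥H)
    (hr : Nat.card ↥(R : Subgroup ↥H) = 5) {P : Sylow 5 G} (h1 : S.u₁ ∈ (P : Subgroup G))
    (h2 : S.u₂ ∈ (P : Subgroup G)) (hz : z S ∈ (P : Subgroup G))
    (hRP : (R : Subgroup ↥H).map H.subtype ≤ (P : Subgroup G))
    (hN : Nat.card ↥(normalizer ((R : Subgroup ↥H) : Set ↥H)) = 40)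
    (hNP : (normalizer ((R : Subgroup ↥H) : Set ↥H)).map H.subtype ≤
      normalizer ((P : Subgroup G) : Set G)) : False := by
  classical
  haveI := S.simple
  have hh := h_mem_normalizer S hz
  obtain ⟨hcent, hcomm, hcz⟩ := sylow_struct S h1 h2 hz
  have hzc : ∀ x ∈ (P : Subgroup G), ∀ c ∈ zpowers (z S), Commute c x := by
    rintro x hx _ ⟨k, rfl⟩
    exact (hcent x hx).zpow_left k
  set Q := (R : Subgroup ↥H).map H.subtype with hQdef
  have hQ5 : Nat.card ↥Q = 5 := by
    rw [hQdef, Subgroup.card_map_of_injective (Subgroup.subtype_injective H), hr]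
  -- `Q` is the intersection with `H`
  have hPH : ∀ x ∈ (P : Subgroup G), x ∈ H → x ∈ Q := by
    intro x hx hxH
    have hp : IsPGroup 5 ↥((P : Subgroup G).subgroupOf H) := P.2.comap_subtype
    have h := R.is_maximal' hp (fun a ha => hRP ⟨a, ha, rfl⟩)
    exact ⟨⟨x, hxH⟩, (show (P : Subgroup G).subgroupOf H = (R : Subgroup ↥H) from h) ▸ hx, rfl⟩
  obtain ⟨q, hq, hq1⟩ : ∃ q ∈ Q, q ≠ 1 := by
    by_contra hc
    push Not at hc
    rw [(Subgroup.eq_bot_iff_forall _).2 hc, Subgroup.card_bot] at hQ5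
    omega
  -- `Q` is not central: otherwise it lies in every conjugate of `H`
  have hqz : q ∉ zpowers (z S) := by
    intro hqz
    have hle : Nat.card ↥(H.subgroupOf (P : Subgroup G)) = 5 := by
      refine (Nat.card_congr
        { toFun := fun a => ⟨(a.1 : G), hPH _ a.1.2 a.2⟩
          invFun := fun a => ⟨⟨(a : G), hRP a.2⟩, by
            rw [mem_subgroupOf]
            obtain ⟨b, -, hb⟩ := a.2
            show (a : G) ∈ H
            rw [← hb]; exact b.2⟩
          left_inv := fun a => rfl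
          right_inv := fun a => rfl }).trans hQ5
    have hrel : (H.subgroupOf (P : Subgroup G)).index = 25 := by
      have := Subgroup.card_mul_index (H.subgroupOf (P : Subgroup G))
      rw [hle, card_sylow_sub S P] at this
      omega
    have hcov : ∀ g : G, ∃ p ∈ (P : Subgroup G), p⁻¹ * g ∈ H := by
      let f : ↥(P : Subgroup G) ⧸ H.subgroupOf (P : Subgroup G) → G ⧸ H :=
        Quotient.map' (fun a => (a : G)) (fun a b hab => by
          rw [QuotientGroup.leftRel_apply] at hab ⊢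
          exact hab)
      have hf : Function.Injective f := by
        rintro ⟨a⟩ ⟨b⟩ hab
        refine QuotientGroup.eq.2 ?_
        have h : ((a : G))⁻¹ * (b : G) ∈ H :=
          QuotientGroup.eq.1 (show ((a : G) : G ⧸ H) = ((b : G) : G ⧸ H) from hab)
        simpa [mem_subgroupOf] using h
      have hb : Function.Bijective f := (Nat.bijective_iff_injective_and_card f).2 ⟨hf, by
        rw [← Subgroup.index_eq_card, ← Subgroup.index_eq_card, hidx]; exact hrel⟩
      intro g
      obtain ⟨⟨a⟩, ha⟩ := hb.2 (QuotientGroup.mk g)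
      exact ⟨a, a.2, QuotientGroup.eq.1 (show ((a : G) : G ⧸ H) = (g : G ⧸ H) from ha)⟩
    have hcore : q ∈ H.normalCore := by
      intro b
      obtain ⟨p, hp, hph⟩ := hcov b⁻¹
      have hqp : Commute q p := hzc p hp q hqz
      obtain ⟨a, -, ha⟩ := hq
      have hqH : q ∈ H := ha ▸ a.2
      have := H.mul_mem (H.mul_mem (H.inv_mem hph) hqH) hph
      convert this using 1
      calc b * q * b⁻¹ = (p⁻¹ * b⁻¹)⁻¹ * (p⁻¹ * q * p) * (p⁻¹ * b⁻¹) := by group
        _ = (p⁻¹ * b⁻¹)⁻¹ * q * (p⁻¹ * b⁻¹) := by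
          rw [show p⁻¹ * q * p = q by rw [mul_assoc, hqp.eq, inv_mul_cancel_left]]
    rcases (inferInstance : H.normalCore.Normal).eq_bot_or_eq_top with h | h
    · exact hq1 (Subgroup.mem_bot.1 (h ▸ hcore))
    · exact hH (top_le_iff.1 (h ▸ H.normalCore_le))
  -- the abelian subgroup `Z Q`
  set A := zpowers (z S) ⊔ Q with hA
  have hzA : ∀ a ∈ zpowers (z S), a ∈ A := fun a ha => mem_sup_left ha
  have hAle : A ≤ (P : Subgroup G) := sup_le (zpowers_le.2 hz) hRP
  have hQz : Q = zpowers q := (Subgroup.eq_of_le_of_card_ge (zpowers_le.2 hq) (by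
    have : q ^ 5 = 1 := by
      have := pow_card_eq_one' (x := (⟨q, hq⟩ : ↥Q))
      rw [hQ5] at this
      exact congrArg Subtype.val this
    rw [hQ5, Nat.card_zpowers, orderOf_eq_prime this hq1])).symm
  have hAc : ∀ a ∈ A, ∀ b ∈ A, Commute a b := by
    have h3 : A ≤ centralizer {q} := sup_le (zpowers_le.2 (mem_centralizer_singleton_iff.2
        (hcent q (hRP hq)).eq)) (hQz ▸ zpowers_le.2 (mem_centralizer_singleton_iff.2 rfl))
    have hle : A ≤ centralizer (A : Set G) := by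
      refine sup_le (fun a ha => ?_) ?_
      · rw [mem_centralizer_iff]
        intro y hy
        exact ((hzc y (hAle hy) a ha).eq).symm
      · rw [hQz, zpowers_le, mem_centralizer_iff]
        intro y hy
        exact mem_centralizer_singleton_iff.1 (h3 hy)
    intro a ha b hb
    exact (mem_centralizer_iff.1 (hle ha) b hb).symm
  set A' := A.subgroupOf (P : Subgroup G) with hA'
  have hconjA : ∀ p ∈ (P : Subgroup G), ∀ a ∈ A, p * a * p⁻¹ ∈ A := fun p hp a ha => by
    rw [show p * a * p⁻¹ = (p * a * p⁻¹ * a⁻¹) * a by group]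
    exact A.mul_mem (hzA _ (hcomm p hp a (hAle ha))) ha
  -- `h` is a product of an element of `P` and an element normalising `Q`
  obtain ⟨p, hp, k, hk, hpk⟩ : ∃ p ∈ (P : Subgroup G),
      ∃ k ∈ (normalizer ((R : Subgroup ↥H) : Set ↥H)).map H.subtype, S.h = p * k := by
    set K := (normalizer ((R : Subgroup ↥H) : Set ↥H)).map H.subtype with hK
    set N := normalizer ((P : Subgroup G) : Set G)
    have hcK : Nat.card ↥K = 40 := by
      rw [hK, Subgroup.card_map_of_injective (Subgroup.subtype_injective H), hN]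
    let PN := (P : Subgroup G).subgroupOf N
    haveI : PN.Normal := (Subgroup.normal_subgroupOf_iff_le_normalizer le_normalizer).2 le_rfl
    let φ : ↥K →* ↥N ⧸ PN := (QuotientGroup.mk' PN).comp (Subgroup.inclusion hNP)
    have hker : Nat.card ↥φ.ker ≤ 5 := by
      rw [← hQ5]
      refine Nat.card_le_card_of_injective
        (fun a : ↥φ.ker => (⟨((a.1 : ↥K) : G), hPH _ (mem_subgroupOf.1 ((QuotientGroup.eq_one_iff (N := PN) (Subgroup.inclusion hNP a.1)).1 a.2)) (by
          obtain ⟨b, -, hb⟩ := (a.1 : ↥K).2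
          rw [← hb]; exact b.2)⟩ : ↥Q)) (fun a b hab => ?_)
      exact Subtype.ext (Subtype.ext (congrArg (fun x : ↥Q => (x : G)) hab))
    have hq8 : Nat.card (↥N ⧸ PN) = 8 := by
      have := Subgroup.card_mul_index PN
      rw [Nat.card_congr (Subgroup.subgroupOfEquivOfLe (le_normalizer : (P : Subgroup G) ≤ N)).toEquiv,
        card_sylow_sub S P, card_normalizer S P] at this
      rw [← Subgroup.index_eq_card]; omega
    have hrange : φ.range = ⊤ := by
      refine Subgroup.eq_top_of_le_card _ ?_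
      have := φ.ker.card_mul_index
      rw [Subgroup.index_ker, hcK] at this
      rw [hq8]
      have h5 : Nat.card ↥φ.ker * Nat.card ↥φ.range ≤ 5 * Nat.card ↥φ.range :=
        Nat.mul_le_mul hker le_rfl
      omega
    have hmem : QuotientGroup.mk' PN ⟨S.h, hh⟩ ∈ φ.range := by rw [hrange]; exact Subgroup.mem_top _
    obtain ⟨k, hk⟩ := hmem
    refine ⟨S.h * (k : G)⁻¹, ?_, k, k.2, by group⟩
    have hrev := QuotientGroup.eq.1 hk
    have h2' : (k : G)⁻¹ * S.h ∈ (P : Subgroup G) := hrev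
    have h' := (mem_normalizer_iff.1 (hNP k.2) _).1 h2'
    rwa [mul_inv_cancel_left] at h'
  -- hence `h` normalises `A`
  have hkA : ∀ a ∈ A, k * a * k⁻¹ ∈ A := by
    obtain ⟨k', hk', rfl⟩ := hk
    have hkP := hNP ⟨k', hk', rfl⟩
    have hle : A ≤ A.comap (MulAut.conj (H.subtype k')).toMonoidHom := by
      refine sup_le (zpowers_le.2 ?_) ?_
      · rw [mem_comap]
        apply hzA
        show H.subtype k' * z S * (H.subtype k')⁻¹ ∈ zpowers (z S)
        have key : ∀ u ∈ (P : Subgroup G), Commute (H.subtype k' * z S * (H.subtype k')⁻¹) u := by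
          intro u hu
          have hu' : (H.subtype k')⁻¹ * u * H.subtype k' ∈ (P : Subgroup G) := by
            have := (mem_normalizer_iff.1 (inv_mem hkP) u).1 hu
            rwa [inv_inv] at this
          have := (hcent _ hu').map (MulAut.conj (H.subtype k'))
          simpa [mul_assoc] using this
        exact hcz _ ((mem_normalizer_iff.1 hkP _).1 hz) (key _ h1) (key _ h2)
      · rintro _ ⟨r, hr', rfl⟩
        exact mem_sup_right ⟨k' * r * k'⁻¹, (mem_normalizer_iff.1 hk' r).1 hr', by simp⟩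
    exact fun a ha => hle ha
  have hhA : ∀ a ∈ A, S.h * a * S.h⁻¹ ∈ A := fun a ha => by
    rw [hpk, show p * k * a * (p * k)⁻¹ = p * (k * a * k⁻¹) * p⁻¹ by group]
    exact hconjA p hp _ (hkA a ha)
  -- a generator outside the centre
  by_cases h2A : S.u₂ ∈ A
  · exact S.irr₂ (hAc _ (hhA _ h2A) _ h2A)
  haveI : A'.Normal := ⟨fun n hn g => hconjA g g.2 n hn⟩
  have hA5 : Nat.card (↥(P : Subgroup G) ⧸ A') = 5 := by
    rw [← Subgroup.index_eq_card]
    have hlt : zpowers (z S) < A :=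
      lt_of_le_of_ne le_sup_left fun he => hqz (he ▸ mem_sup_right hq)
    have c1 := five_mul_le (P.2.to_le hAle) hlt
    rw [card_z S] at c1
    have h := Subgroup.card_mul_index A'
    rw [Nat.card_congr (Subgroup.subgroupOfEquivOfLe hAle).toEquiv, card_sylow_sub S P] at h
    obtain ⟨j, hj⟩ := P.2.index A'
    rw [hj] at h ⊢
    have hj1 : j ≤ 1 := by
      by_contra hj'
      have : 5 ^ 2 ≤ 5 ^ j := Nat.pow_le_pow_right (by norm_num) (by omega)
      nlinarith
    interval_cases j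
    · refine absurd ?_ h2A
      rw [pow_zero, Subgroup.index_eq_one] at hj
      exact mem_subgroupOf.1 (hj ▸ Subgroup.mem_top (⟨S.u₂, h2⟩ : ↥(P : Subgroup G)))
    · rfl
  have hne : QuotientGroup.mk' A' ⟨S.u₂, h2⟩ ≠ 1 := fun h =>
    h2A (mem_subgroupOf.1 ((QuotientGroup.eq_one_iff _).1 h))
  have hord : orderOf (QuotientGroup.mk' A' ⟨S.u₂, h2⟩) = 5 := by
    have h := orderOf_dvd_natCard (QuotientGroup.mk' A' ⟨S.u₂, h2⟩)
    rw [hA5] at h
    exact ((Nat.dvd_prime (by norm_num)).1 h).resolve_left (fun h => hne (orderOf_eq_one_iff.1 h))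
  obtain ⟨b, hb⟩ : ∃ b : Fin 5,
      QuotientGroup.mk' A' ⟨S.u₂, h2⟩ ^ (b : ℕ) * QuotientGroup.mk' A' ⟨S.u₁, h1⟩ = 1 := by
    have hb : Function.Bijective (fun b : Fin 5 => QuotientGroup.mk' A' ⟨S.u₂, h2⟩ ^ (b : ℕ)) :=
      (Nat.bijective_iff_injective_and_card _).2 ⟨fun i j hij => Fin.ext
        (pow_injOn_Iio_orderOf (by rw [Set.mem_Iio, hord]; exact i.2) (by rw [Set.mem_Iio, hord]; exact j.2) hij), by
        rw [hA5]; simp⟩
    obtain ⟨b, hb⟩ := hb.2 (QuotientGroup.mk' A' ⟨S.u₁, h1⟩)⁻¹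
    exact ⟨b, by rw [show QuotientGroup.mk' A' ⟨S.u₂, h2⟩ ^ (b : ℕ) = _ from hb, inv_mul_cancel]⟩
  have hmem : S.u₂ ^ (b : ℕ) * S.u₁ ∈ A := by
    have h : QuotientGroup.mk' A' (⟨S.u₂, h2⟩ ^ (b : ℕ) * ⟨S.u₁, h1⟩) = 1 := by
      rw [map_mul, map_pow]; exact hb
    simpa [mem_subgroupOf, A'] using (QuotientGroup.eq_one_iff _).1 h
  exact S.irr₁ b (hAc _ (hhA _ hmem) _ hmem)

include S in
/-- Every proper subgroup has index at least 50. -/
theorem fifty_le (H : Subgroup G) (hH : H ≠ ⊤) : 50 ≤ H.index := by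
  by_contra hlt
  have h25 := lt25 S H hH
  obtain ⟨P, h1, h2, hz⟩ := exists_P0 S
  have hcard := H.index_mul_card
  rw [S.card_eq] at hcard
  have hdvd : H.index ∣ 126000 := ⟨_, hcard.symm⟩
  have hquot : Nat.card ↥H = 126000 / H.index :=
    (Nat.div_eq_of_eq_mul_right (by omega) hcard.symm).symm
  have h5 : 5 ∣ 126000 / H.index := by
    have : ∀ n < 50, 25 ≤ n → n ∣ 126000 → 5 ∣ 126000 / n := by decide +kernel
    exact this _ (by omega) h25 hdvd
  -- data of one Sylow subgroup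
  have data : ∀ (H' : Subgroup G), H'.index = H.index → ∀ R : Sylow 5 ↥H',
      ∃ P' : Sylow 5 G, (R : Subgroup ↥H').map H'.subtype ≤ (P' : Subgroup G) ∧
        (normalizer ((R : Subgroup ↥H') : Set ↥H')).map H'.subtype ≤
          normalizer ((P' : Subgroup G) : Set G) ∧
        ((H.index = 25 ∧ Nat.card ↥(R : Subgroup ↥H') = 5 ∧
            Nat.card ↥(normalizer ((R : Subgroup ↥H') : Set ↥H')) = 40) ∨
          (H.index = 40 ∧ Nat.card ↥(R : Subgroup ↥H') = 25 ∧ Nat.card (Sylow 5 ↥H') = 126)) := by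
    intro H' he R
    have hc' : Nat.card ↥H' = 126000 / H.index := by
      have := H'.index_mul_card
      rw [he, S.card_eq] at this
      exact (Nat.div_eq_of_eq_mul_right (by omega) this.symm).symm
    have hr := card_sylow_of S H' R
    have hne : (R : Subgroup ↥H') ≠ ⊥ := by
      intro hb
      rw [hb, Subgroup.card_bot, hc'] at hr
      have := Nat.Prime.factorization_pos_of_dvd (by norm_num : Nat.Prime 5)
        (hquot ▸ Nat.card_pos.ne') h5
      have : 5 ^ 1 ≤ 5 ^ (126000 / H.index).factorization 5 := Nat.pow_le_pow_right (by norm_num) this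
      omega
    obtain ⟨s, N, m, hs, hN, hsN, hN1, hs126, hm, -, P', hP', hNP'⟩ := sub_data S H' R hne
    rw [hc'] at hsN hr
    refine ⟨P', hP', hNP', ?_⟩
    rcases arith (by omega) h25 hdvd hsN hN1 hs126 hm hr with ⟨a, b, -, d⟩ | ⟨a, b, c, -⟩
    · exact Or.inl ⟨a, b, hN ▸ d⟩
    · exact Or.inr ⟨a, b, hs ▸ c⟩
  obtain ⟨R⟩ : Nonempty (Sylow 5 ↥H) := inferInstance
  obtain ⟨P', hP', -, h | h⟩ := data H rfl R
  · -- move a Sylow subgroup into the distinguished one
    obtain ⟨g, hg⟩ := MulAction.exists_smul_eq G P' P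
    set H' := H.map (MulAut.conj g).toMonoidHom with hH'
    have he : H'.index = H.index := Subgroup.index_map_equiv H (MulAut.conj g)
    obtain ⟨x, hx, hx1⟩ : ∃ x ∈ (R : Subgroup ↥H), x ≠ 1 := by
      by_contra hc
      push Not at hc
      have := h.2.1
      rw [(Subgroup.eq_bot_iff_forall _).2 hc, Subgroup.card_bot] at this
      omega
    have hxH : g * (x : G) * g⁻¹ ∈ H' := ⟨x, x.2, by simp⟩
    have hxP : g * (x : G) * g⁻¹ ∈ (P : Subgroup G) := by
      rw [← hg, Sylow.smul_def, Sylow.pointwise_smul_def]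
      exact ⟨(x : G), hP' ⟨x, hx, rfl⟩, by simp⟩
    have hp5 : IsPGroup 5 ↥((P : Subgroup G).subgroupOf H') := P.2.comap_subtype
    obtain ⟨R', hR'⟩ := hp5.exists_le_sylow
    obtain ⟨P'', hP'', hN'', hd⟩ := data H' he R'
    have hxR : (⟨_, hxH⟩ : ↥H') ∈ (R' : Subgroup ↥H') := hR' hxP
    have hPP : P'' = P := S.ti P'' P _ (hP'' ⟨⟨_, hxH⟩, hxR, rfl⟩) hxP
      (fun h' => hx1 (Subtype.ext (conj_eq_one_iff.1 h')))
    subst hPP
    rcases hd with ⟨a, b, d⟩ | ⟨a, -, -⟩
    · refine not_twentyfive S H' (fun ht => ?_) (he.trans a) R' b h1 h2 hz hP'' d hN''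
      rw [ht, Subgroup.index_top] at he
      omega
    · omega
  · have h3150 : Nat.card ↥H = 3150 := by rw [hquot, h.1]
    exact not_forty S H h3150 R h.2.1 h.2.2

include S in
/-- The three elements generate. -/
theorem generate (L : Subgroup G) (h1 : S.u₁ ∈ L) (h2 : S.u₂ ∈ L) (hw : S.w ∈ L) : L = ⊤ := by
  by_contra hL
  have h50 := fifty_le S L hL
  obtain ⟨P, p1, p2, pz⟩ := exists_P0 S
  obtain ⟨hcent, -, hcz⟩ := sylow_struct S p1 p2 pz
  have hzL : z S ∈ L := L.mul_mem (L.mul_mem (L.mul_mem h1 h2) (L.inv_mem h1)) (L.inv_mem h2)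
  -- the whole of `P` is in `L`
  have hPL : (P : Subgroup G) ≤ L := by
    have hP : IsPGroup 5 ↥(P : Subgroup G) := P.2
    set C := (P : Subgroup G) ⊓ L
    have hC1 : S.u₁ ∈ C := ⟨p1, h1⟩
    have hC2 : S.u₂ ∈ C := ⟨p2, h2⟩
    have hnc : ¬ Commute S.u₁ S.u₂ := fun hc => S.z_ne (by
      show S.u₁ * S.u₂ * S.u₁⁻¹ * S.u₂⁻¹ = 1
      rw [hc.eq]; group)
    set A := zpowers (z S) ⊔ zpowers S.u₁
    have hA : A ≤ centralizer {S.u₁} :=
      sup_le (zpowers_le.2 (mem_centralizer_singleton_iff.2 S.comm₁.eq))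
        (zpowers_le.2 (mem_centralizer_singleton_iff.2 rfl))
    have hAC : A ≤ C := sup_le (zpowers_le.2 ⟨pz, hzL⟩) (zpowers_le.2 hC1)
    have l1 : zpowers (z S) < A := lt_of_le_of_ne le_sup_left fun he => by
      obtain ⟨k, hk⟩ : S.u₁ ∈ zpowers (z S) := he ▸ mem_sup_right (mem_zpowers _)
      have h5 : Commute (z S) S.u₂ := S.comm₂
      exact hnc (hk ▸ h5.zpow_left k)
    have l2 : A < C := lt_of_le_of_ne hAC fun he =>
      hnc (mem_centralizer_singleton_iff.1 (hA (he ▸ hC2))).symm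
    have c1 := five_mul_le (hP.to_le (hAC.trans inf_le_left)) l1
    have c2 : 5 * Nat.card ↥A ≤ Nat.card ↥C := five_mul_le (hP.to_le inf_le_left) l2
    rw [card_z S] at c1
    have h125 : Nat.card ↥(P : Subgroup G) ≤ Nat.card ↥C := by rw [card_sylow_sub S P]; omega
    have : C = (P : Subgroup G) :=
      Subgroup.eq_of_le_of_card_ge (inf_le_left : C ≤ (P : Subgroup G)) h125
    exact this ▸ inf_le_right
  obtain ⟨R, hR⟩ := (P.2.comap_subtype :
    IsPGroup 5 ↥((P : Subgroup G).subgroupOf L)).exists_le_sylow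
  have hzR : (⟨z S, hzL⟩ : ↥L) ∈ (R : Subgroup ↥L) := hR pz
  have hne : (R : Subgroup ↥L) ≠ ⊥ := by
    intro hb
    rw [hb, Subgroup.mem_bot] at hzR
    exact S.z_ne (congrArg Subtype.val hzR)
  obtain ⟨s, N, m, hs, hN, hsN, hN1, hs126, hm, hRN, P', hP', hNP'⟩ := sub_data S L R hne
  have hPP : P' = P := S.ti P' P _ (hP' ⟨⟨z S, hzL⟩, hzR, rfl⟩) pz S.z_ne
  subst hPP
  have hR125 : Nat.card ↥(R : Subgroup ↥L) = 125 := by
    refine le_antisymm ?_ ?_
    · rw [← card_sylow_sub S P', ← Subgroup.card_map_of_injective (Subgroup.subtype_injective L)]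
      exact Subgroup.card_le_of_le hP'
    · rw [← card_sylow_sub S P', ← Nat.card_congr (Subgroup.subgroupOfEquivOfLe hPL).toEquiv]
      exact Subgroup.card_le_of_le hR
  have hidx := L.index_mul_card
  rw [S.card_eq, ← hsN] at hidx
  rw [hR125] at hm hRN
  have hs1 : s = 1 := by
    rcases m with _ | _ | m
    · omega
    · exfalso
      have hs' : s = 126 := by omega
      subst hs'
      have hN0 : N ≠ 0 := fun h => by rw [h, mul_zero, mul_zero] at hidx; omega
      have h125 : 125 ≤ N := Nat.le_of_dvd (Nat.pos_of_ne_zero hN0) hRN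
      have : 50 * (126 * 125) ≤ L.index * (126 * N) :=
        Nat.mul_le_mul h50 (Nat.mul_le_mul le_rfl h125)
      omega
    · omega
  have htop : normalizer ((R : Subgroup ↥L) : Set ↥L) = ⊤ := by
    refine Subgroup.eq_top_of_le_card _ ?_
    rw [← hN, ← hsN, hs1, one_mul]
  have hwN : S.w ∈ normalizer ((P' : Subgroup G) : Set G) :=
    hNP' ⟨⟨S.w, hw⟩, htop ▸ Subgroup.mem_top _, rfl⟩
  exact S.w_spec (hcent _ ((mem_normalizer_iff.1 hwN _).1 p1))

end CfsgLib.ClassK.UFive
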