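import Cfsg.Agent.Lib.ClassK.UThreeFiveModel
import Cfsg.Agent.Lib.ClassK.UThreeFiveData

/-!
Kernel checks of the data for `PSU(3,5)`.
-/

set_option autoImplicit false

namespace CfsgLib.ClassK.UFive.Chk

open Model Dat

def gen : ℕ → M3
  | 0 => m1
  | 1 => m2
  | _ => mw

def pt (j : ℕ) : V3 :=
  let c := (ptsN >>> (15 * j)) % 32768
  (c % 32, c / 32 % 32, c / 1024)

def pi' (g j : ℕ) : ℕ := (perm g >>> (10 * j)) % 1024
def rho (g j : ℕ) : ℕ := (permInv g >>> (10 * j)) % 1024
def sg (g i : ℕ) : ℕ := (sigma g >>> (6 * i)) % 64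

/-- Scaling constant to the normal form. -/
def coef (v : V3) : ℕ := if v.1 != 0 then cI v.1 else if v.2.1 != 0 then cI v.2.1 else cI v.2.2

def ptOK (g j : ℕ) : Bool :=
  let w := mv (gen g) (pt j)
  let c := coef w
  decide (pi' g j < 525) && decide (c < 25) && (c != 0) && (sm c w == pt (pi' g j)) &&
    decide (rho g j < 525) && (pi' g (rho g j) == j)

def setOK (g i : ℕ) : Bool :=
  let a := mask i
  let b := mask (sg g i)
  decide (sg g i < 50) && (List.range 525).all fun j => a.testBit j == b.testBit (pi' g j)

theorem pt_check : ((List.range 3).all fun g => (List.range 525).all fun j => ptOK g j) = true := by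
  decide +kernel

theorem set_check : ((List.range 3).all fun g => (List.range 50).all fun i => setOK g i) = true := by
  decide +kernel

/-- Cross product test: the two points differ. -/
def differ (u v : V3) : Bool :=
  Model.rowTest ne₁
    (cM u.1 v.2.1, cM u.1 v.2.2, cM u.2.1 v.2.2) (cM u.2.1 v.1, cM u.2.2 v.1, cM u.2.2 v.2.1)

theorem moved_check : (decide (sg 0 0 < 50) && decide (witness < 525) && (mask (sg 0 0)).testBit witness &&
    (List.range 525).all fun k => !(mask 0).testBit k || differ (pt witness) (pt k)) = true := by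
  decide +kernel

end CfsgLib.ClassK.UFive.Chk
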