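import Mathlib
import Cfsg.Prelude.Def_Classical
import Cfsg.Agent.Lib.ClassK.UThreeFiveCases
import Cfsg.Agent.Lib.ClassK.UThreeFiveChecks
import Cfsg.Agent.Lib.Classical.UnitaryGen
import Cfsg.Agent.Lib.Classical.HermOrder
import Cfsg.Agent.Lib.KnownA.QdFree
import Cfsg.Agent.Lib.KnownC.AutPSUBasic

/-!
The smallest index of a proper subgroup of `PSU(3,5)` is 50.
-/

set_option autoImplicit false
set_option linter.unusedSectionVars false
set_option linter.style.haveILetI false

namespace CfsgLib.ClassK.UFive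

open Subgroup
open scoped Pointwise

/-- Groups with product-closed `p`-elements in local normalisers have trivial Sylow intersections. -/
theorem isTI_of_closed {p : ℕ} [Fact p.Prime] {G : Type*} [Group G] [Finite G]
    (hcl : ∀ T : Subgroup G, IsPGroup p ↥T → T ≠ ⊥ → ∀ x y, x ∈ normalizer (T : Set G) →
      y ∈ normalizer (T : Set G) → KnownA.QdFree.IsPElt p x → KnownA.QdFree.IsPElt p y →
      KnownA.QdFree.IsPElt p (x * y)) : IsTI p G := by
  classical
  have step : ∀ (K T : Subgroup G), IsPGroup p ↥K → T < K → ∃ x ∈ K, x ∈ normalizer (T : Set G) ∧ x ∉ T := by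
    intro K T hK hlt
    haveI := hK.isNilpotent
    have h1 : T.subgroupOf K < ⊤ := lt_top_iff_ne_top.2 fun h =>
      not_le_of_gt hlt (Subgroup.subgroupOf_eq_top.1 h)
    obtain ⟨x, hx, hxT⟩ := SetLike.exists_of_lt (normalizerCondition_of_isNilpotent (T.subgroupOf K) h1)
    refine ⟨x, x.2, ?_, fun h => hxT (mem_subgroupOf.2 h)⟩
    rw [mem_normalizer_iff]
    intro a
    constructor
    · intro ha
      have := (mem_normalizer_iff.1 hx ⟨a, hlt.le ha⟩).1 ha
      exact this
    · intro ha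
      have haK : a ∈ K := by
        have := K.mul_mem (K.mul_mem (K.inv_mem x.2) (hlt.le ha)) x.2
        simpa [mul_assoc] using this
      exact (mem_normalizer_iff.1 hx ⟨a, haK⟩).2 ha
  intro P Q x hxP hxQ hx1
  by_contra hne
  let A := {R : Sylow p G // R ≠ P ∧ ∃ y ∈ (P : Subgroup G) ⊓ (R : Subgroup G), y ≠ 1}
  haveI : Nonempty A := ⟨⟨Q, fun h => hne h.symm, x, ⟨hxP, hxQ⟩, hx1⟩⟩
  obtain ⟨⟨R, hRP, y, hy, hy1⟩, hmax⟩ :=
    Finite.exists_max (fun R : A => Nat.card ↥((P : Subgroup G) ⊓ (R.1 : Subgroup G)))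
  set T := (P : Subgroup G) ⊓ (R : Subgroup G) with hT
  have hTne : T ≠ ⊥ := fun h => hy1 (Subgroup.mem_bot.1 (h ▸ hy))
  have hTp : IsPGroup p ↥T := P.2.to_le inf_le_left
  -- the `p`-elements of the normaliser
  let W : Subgroup G :=
    { carrier := {g | g ∈ normalizer (T : Set G) ∧ KnownA.QdFree.IsPElt p g}
      mul_mem' := fun {a b} ha hb => ⟨mul_mem ha.1 hb.1, hcl T hTp hTne a b ha.1 hb.1 ha.2 hb.2⟩
      one_mem' := ⟨one_mem _, 0, one_pow _⟩
      inv_mem' := fun {a} ha => ⟨inv_mem ha.1, ha.2.imp fun k hk => by rw [inv_pow, hk, inv_one]⟩ }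
  have hW : IsPGroup p ↥W := fun g => g.2.2.imp fun k hk => Subtype.ext hk
  obtain ⟨M, hM⟩ := hW.exists_le_sylow
  have hTP : T < (P : Subgroup G) := lt_of_le_of_ne inf_le_left fun h => hRP
    (Sylow.ext (P.is_maximal' R.2 (h ▸ (inf_le_right : T ≤ (R : Subgroup G)))))
  have hTR : T < (R : Subgroup G) := lt_of_le_of_ne inf_le_right fun h => hRP
    (Sylow.ext (R.is_maximal' P.2 (h ▸ (inf_le_left : T ≤ (P : Subgroup G))))).symm
  have hle : ∀ (K : Sylow p G), T ≤ (K : Subgroup G) → T ≤ (M : Subgroup G) := fun K _ a ha =>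
    hM ⟨le_normalizer ha, KnownA.QdFree.isPElt_of_mem hTp ha⟩
  have bigger : ∀ (K : Sylow p G), T < (K : Subgroup G) →
      Nat.card ↥T < Nat.card ↥((K : Subgroup G) ⊓ (M : Subgroup G)) := by
    intro K hK
    obtain ⟨a, haK, haN, haT⟩ := step _ _ K.2 hK
    have haM : a ∈ (M : Subgroup G) := hM ⟨haN, KnownA.QdFree.isPElt_of_mem K.2 haK⟩
    exact natCard_lt_of_lt' (lt_of_le_of_ne (le_inf hK.le (hle K hK.le))
      fun h => haT (h.symm ▸ ⟨haK, haM⟩))
  have hMP : M = P := by
    by_contra hMP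
    have h : Nat.card ↥((P : Subgroup G) ⊓ (M : Subgroup G)) ≤ Nat.card ↥T :=
      hmax ⟨M, hMP, y, ⟨hy.1, hle P hTP.le hy⟩, hy1⟩
    have := bigger P hTP
    omega
  subst hMP
  have := bigger R hTR
  rw [inf_comm] at this
  exact lt_irrefl _ this
where
  natCard_lt_of_lt' {G : Type _} [Group G] [Finite G] {A B : Subgroup G} (h : A < B) :
      Nat.card ↥A < Nat.card ↥B :=
    lt_of_not_ge fun hge => h.ne (Subgroup.eq_of_le_of_card_ge h.le hge)

variable {F : Type*} [Field F] [Fintype F]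

theorem exists_root (hF : Fintype.card F = 25) : CharP F 5 ∧ ∃ s : F, s * s = 2 := by
  obtain ⟨p, hp⟩ := CharP.exists F
  obtain ⟨n, hn, hn'⟩ := FiniteField.card F p
  have h5 : (5 : ℕ) ∣ p := (by norm_num : Nat.Prime 5).dvd_of_dvd_pow (m := p) (n := n)
    (by rw [← hn', hF]; norm_num)
  obtain rfl : (5 : ℕ) = p := (Nat.prime_dvd_prime_iff_eq (by norm_num) hn).1 h5
  refine ⟨hp, ?_⟩
  obtain ⟨g, hg⟩ := IsCyclic.exists_ofOrder_eq_natCard (α := Fˣ)
  rw [Nat.card_units, Nat.card_eq_fintype_card, hF] at hg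
  have h24 : (g : F) ^ 24 = 1 := by
    rw [← Units.val_pow_eq_pow_val, ← show orderOf g = 24 by omega, pow_orderOf_eq_one, Units.val_one]
  have hne : (g : F) ^ 12 ≠ 1 := fun h => by
    have : orderOf g ∣ 12 := orderOf_dvd_of_pow_eq_one (Units.ext (by simpa using h))
    have := Nat.le_of_dvd (by norm_num) this
    omega
  have h12 : (g : F) ^ 12 = -1 :=
    (mul_self_eq_one_iff.1 (by rw [← pow_add]; exact h24)).resolve_left hne
  have h5' : (5 : F) = 0 := by exact_mod_cast CharP.cast_eq_zero F 5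
  -- `g ^ 6` squares to `-1 = 4`, so it is `2` or `3`; a square root of it or of its negative
  have hsq : ((g : F) ^ 6 - 2) * ((g : F) ^ 6 + 2) = 0 := by linear_combination h12 - h5'
  rcases mul_eq_zero.1 hsq with h | h
  · exact ⟨(g : F) ^ 3, by linear_combination h⟩
  · exact ⟨2 * (g : F) ^ 3, by linear_combination 4 * h - 2 * h5'⟩

theorem card_psu_five (hF : Fintype.card F = 25) : Nat.card (Cfsg.PSU 3 F 5) = 126000 := by
  have hF' : Fintype.card F = 5 ^ 2 := by rw [hF]; norm_num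
  have h1 := CfsgLib.Classical.card_psu_mul hF' (n := 3) (by norm_num)
  rw [CfsgLib.Classical.card_gu hF'] at h1
  simp [Finset.prod_range_succ, Nat.even_iff] at h1
  omega

open Model in
theorem exists_setup (hF : Fintype.card F = 25) [CharP F 5] {s : F} (hs : s * s = 2) :
    ∃ (S : Setup (Cfsg.PSU 3 F 5)) (g : ℕ → Cfsg.SU 3 F 5),
      (∀ i < 3, Rep s (g i) (Chk.gen i)) ∧
      S.u₁ = (g 0 : Cfsg.PSU 3 F 5) ∧ S.u₂ = (g 1 : Cfsg.PSU 3 F 5) ∧ S.w = (g 2 : Cfsg.PSU 3 F 5) := by
  have hF' : Fintype.card F = 5 ^ 2 := by rw [hF]; norm_num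
  haveI : Fact (Nat.Prime 5) := ⟨by norm_num⟩
  set a := su hs hF' Dat.m1 (by decide +kernel) (by decide +kernel)
  set b := su hs hF' Dat.m2 (by decide +kernel) (by decide +kernel)
  set w := su hs hF' Dat.mw (by decide +kernel) (by decide +kernel)
  set h := su hs hF' Dat.mh (by decide +kernel) (by decide +kernel)
  have ra : Rep s a Dat.m1 := rep_su hs hF' _ _ _
  have rb : Rep s b Dat.m2 := rep_su hs hF' _ _ _
  have rw' : Rep s w Dat.mw := rep_su hs hF' _ _ _
  have rh : Rep s h Dat.mh := rep_su hs hF' _ _ _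
  have ria : Rep s a⁻¹ (ct Dat.m1) := rep_inv hs ra (by decide +kernel)
  have rib : Rep s b⁻¹ (ct Dat.m2) := rep_inv hs rb (by decide +kernel)
  have rih : Rep s h⁻¹ (ct Dat.mh) := rep_inv hs rh (by decide +kernel)
  have riw : Rep s w⁻¹ (ct Dat.mw) := rep_inv hs rw' (by decide +kernel)
  have rz : Rep s (a * b * a⁻¹ * b⁻¹) (mmul (mmul (mmul Dat.m1 Dat.m2) (ct Dat.m1)) (ct Dat.m2)) :=
    rep_mul hs (rep_mul hs (rep_mul hs ra rb) ria) rib
  let π := QuotientGroup.mk' (Subgroup.center (Cfsg.SU 3 F 5))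
  have ncomm : ∀ {x y : Cfsg.SU 3 F 5} {A B : M3}, Rep s x A → Rep s y B →
      mmul A (ct A) = one → mmul B (ct B) = one →
      notScal (mmul (mmul (mmul A B) (ct A)) (ct B)) = true → ¬ Commute (π x) (π y) := by
    intro x y A B hx hy h1 h2 h3 hc
    refine not_center hs hF' (rep_mul hs (rep_mul hs (rep_mul hs hx hy) (rep_inv hs hx h1))
      (rep_inv hs hy h2)) h3 ((QuotientGroup.eq_one_iff _).1 ?_)
    show π (x * y * x⁻¹ * y⁻¹) = 1
    rw [map_mul, map_mul, map_mul, map_inv, map_inv, hc.eq]; group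
  have comm : ∀ {x y : Cfsg.SU 3 F 5} {A B : M3}, Rep s x A → Rep s y B →
      mmul A B = mmul B A → Commute (π x) (π y) := by
    intro x y A B hx hy h
    exact (show Commute x y from rep_eq (rep_mul hs hx hy) (rep_mul hs hy hx) h).map π
  have p5 : ∀ {x : Cfsg.SU 3 F 5} {A : M3}, Rep s x A → powM A 5 = one → (π x) ^ 5 = 1 := by
    intro x A hx h
    rw [← map_pow, show x ^ 5 = 1 from rep_eq (rep_pow hs hx 5) rep_one h, map_one]
  have hsim : IsSimpleGroup (Cfsg.PSU 3 F 5) :=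
    CfsgLib.Classical.isSimpleGroup_psu hF' le_rfl (fun h => by omega)
  have hTI : IsTI 5 (Cfsg.PSU 3 F 5) := isTI_of_closed fun T hT hne x y hx hy hxp hyp =>
    KnownA.QdFree.closed (CfsgLib.KnownC.psuCtx hF' (le_refl 3) (fun h => by omega)) (by simp)
      (CfsgLib.KnownC.psuQ hF' (le_refl 3) (fun h => by omega)) T hT hne x y hx hy hxp hyp
  let gg : ℕ → Cfsg.SU 3 F 5
    | 0 => a
    | 1 => b
    | _ => w
  refine ⟨{
    simple := hsim
    card_eq := card_psu_five hF
    ti := hTI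
    u₁ := π a
    u₂ := π b
    w := π w
    h := π h
    pow₁ := p5 ra (by decide +kernel)
    pow₂ := p5 rb (by decide +kernel)
    z_ne := ?_
    z_pow := ?_
    comm₁ := ?_
    comm₂ := ?_
    comm_h := ?_
    irr₂ := ?_
    irr₁ := ?_
    w_spec := ?_ }, gg, ?_, rfl, rfl, rfl⟩
  all_goals (try simp only [← map_mul, ← map_inv, ← map_pow])
  · intro hz
    exact not_center hs hF' rz (by decide +kernel) ((QuotientGroup.eq_one_iff _).1 hz)
  · rw [map_pow]; exact p5 rz (by decide +kernel)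
  · exact comm rz ra (by decide +kernel)
  · exact comm rz rb (by decide +kernel)
  · exact comm rz (rep_mul hs (rep_mul hs rh rz) rih) (by decide +kernel)
  · exact ncomm (rep_mul hs (rep_mul hs rh rb) rih) rb (by decide +kernel) (by decide +kernel)
      (by decide +kernel)
  · intro k
    have rk := rep_mul hs (rep_pow hs rb (k : ℕ)) ra
    have key : ∀ k : Fin 5,
        mmul (mmul (mmul Dat.mh (mmul (powM Dat.m2 (k : ℕ)) Dat.m1)) (ct Dat.mh))
          (ct (mmul (mmul Dat.mh (mmul (powM Dat.m2 (k : ℕ)) Dat.m1)) (ct Dat.mh))) = one ∧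
        mmul (mmul (powM Dat.m2 (k : ℕ)) Dat.m1) (ct (mmul (powM Dat.m2 (k : ℕ)) Dat.m1)) = one ∧
        notScal (mmul (mmul (mmul (mmul (mmul Dat.mh (mmul (powM Dat.m2 (k : ℕ)) Dat.m1)) (ct Dat.mh))
          (mmul (powM Dat.m2 (k : ℕ)) Dat.m1))
          (ct (mmul (mmul Dat.mh (mmul (powM Dat.m2 (k : ℕ)) Dat.m1)) (ct Dat.mh))))
          (ct (mmul (powM Dat.m2 (k : ℕ)) Dat.m1))) = true := by decide +kernel
    try simp only [← map_pow, ← map_mul, ← map_inv]
    exact ncomm (rep_mul hs (rep_mul hs rh rk) rih) rk (key k).1 (key k).2.1 (key k).2.2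
  · exact ncomm rz (rep_mul hs (rep_mul hs rw' ra) riw) (by decide +kernel) (by decide +kernel)
      (by decide +kernel)
  · intro i hi
    interval_cases i
    exacts [ra, rb, rw']

/-- Sets of subspaces, with the action of `SU(3,5)`. -/
def Fam (F : Type*) [Field F] [Fintype F] := Set (Submodule F (Fin 3 → F))

/-- Action on sets of subspaces. -/
def Fam.act (k : Cfsg.SU 3 F 5) (X : Fam F) : Fam F :=
  (fun W : Submodule F (Fin 3 → F) => W.map (Matrix.mulVecLin (k.1 : Matrix (Fin 3) (Fin 3) F))) ''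
    (show Set (Submodule F (Fin 3 → F)) from X)

instance CfsgLib_ClassK_UFive_famAction : MulAction (Cfsg.SU 3 F 5) (Fam F) where
  smul := Fam.act
  one_smul X := by
    show (fun W : Submodule F (Fin 3 → F) => W.map (Matrix.mulVecLin _)) '' _ = X
    simp
    rfl
  mul_smul k l X := by
    show (fun W : Submodule F (Fin 3 → F) => W.map (Matrix.mulVecLin _)) '' _ =
      (fun W : Submodule F (Fin 3 → F) => W.map (Matrix.mulVecLin _)) '' ((fun W : Submodule F (Fin 3 → F) =>
        W.map (Matrix.mulVecLin _)) '' _)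
    rw [Set.image_image]
    simp [Matrix.mulVecLin_mul, Submodule.map_comp]

open Model in
/-- A subgroup of index exactly 50. -/
theorem exists_fifty (hF : Fintype.card F = 25) [CharP F 5] {s : F} (hs : s * s = 2) :
    ∃ H : Subgroup (Cfsg.PSU 3 F 5), H.index = 50 := by
  classical
  have hF' : Fintype.card F = 5 ^ 2 := by rw [hF]; norm_num
  obtain ⟨S, g, hg, e1, e2, e3⟩ := exists_setup hF hs
  let π := QuotientGroup.mk' (Subgroup.center (Cfsg.SU 3 F 5))
  let ln : V3 → Submodule F (Fin 3 → F) := fun v => Submodule.span F {vec s v}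
  let BS : ℕ → Set (Submodule F (Fin 3 → F)) := fun i =>
    {W | ∃ j < 525, (Dat.mask i).testBit j = true ∧ W = ln (Chk.pt j)}
  let B : ℕ → Fam F := BS
  -- the generators permute the family
  have hpt : ∀ i < 3, ∀ j < 525, Chk.pi' i j < 525 ∧ Chk.rho i j < 525 ∧ Chk.pi' i (Chk.rho i j) = j ∧
      (ln (Chk.pt j)).map (Matrix.mulVecLin ((g i).1 : Matrix (Fin 3) (Fin 3) F)) =
        ln (Chk.pt (Chk.pi' i j)) := by
    intro i hi j hj
    have h := List.all_eq_true.1 (List.all_eq_true.1 Chk.pt_check i (List.mem_range.2 hi)) j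
      (List.mem_range.2 hj)
    simp only [Chk.ptOK, Bool.and_eq_true, decide_eq_true_eq, beq_iff_eq, bne_iff_ne] at h
    obtain ⟨⟨⟨⟨⟨h1, h2⟩, h3⟩, h4⟩, h5⟩, h6⟩ := h
    refine ⟨h1, h5, h6, ?_⟩
    show Submodule.map _ (Submodule.span F {vec s (Chk.pt j)}) = _
    rw [Submodule.map_span, Set.image_singleton, Matrix.mulVecLin_apply, hg i hi, ← vec_mv hs]
    show _ = Submodule.span F {vec s (Chk.pt (Chk.pi' i j))}
    rw [← h4, vec_sm hs]
    exact (Submodule.span_singleton_smul_eq (isUnit_iff_ne_zero.2 (φ_ne_zero hs h2 h3)) _).symm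
  have hgen : ∀ i < 3, ∀ k < 50, ∃ l < 50, g i • B k = B l := by
    intro i hi k hk
    have h := List.all_eq_true.1 (List.all_eq_true.1 Chk.set_check i (List.mem_range.2 hi)) k
      (List.mem_range.2 hk)
    simp only [Chk.setOK, Bool.and_eq_true, decide_eq_true_eq, List.all_eq_true, List.mem_range,
      beq_iff_eq] at h
    refine ⟨Chk.sg i k, h.1, ?_⟩
    show (fun W => W.map (Matrix.mulVecLin ((g i).1 : Matrix (Fin 3) (Fin 3) F))) '' BS k = BS _
    ext W
    constructor
    · rintro ⟨_, ⟨j, hj, hjk, rfl⟩, rfl⟩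
      exact ⟨_, (hpt i hi j hj).1, (h.2 j hj).symm.trans hjk, (hpt i hi j hj).2.2.2⟩
    · rintro ⟨j, hj, hjk, rfl⟩
      obtain ⟨-, hr, hrj, -⟩ := hpt i hi j hj
      refine ⟨ln (Chk.pt (Chk.rho i j)), ⟨_, hr, ?_, rfl⟩, ?_⟩
      · rw [h.2 _ hr, hrj]; exact hjk
      · rw [← congrArg (fun j => ln (Chk.pt j)) hrj]
        exact (hpt i hi _ hr).2.2.2
  let D : Subgroup (Cfsg.SU 3 F 5) :=
    { carrier := {k | (∀ i < 50, ∃ l < 50, k • B i = B l) ∧ (∀ i < 50, ∃ l < 50, k⁻¹ • B i = B l)}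
      one_mem' := ⟨fun i hi => ⟨i, hi, one_smul _ _⟩, fun i hi => ⟨i, hi, by rw [inv_one, one_smul]⟩⟩
      mul_mem' := fun {a b} ha hb => ⟨fun i hi => by
          obtain ⟨l, hl, hl'⟩ := hb.1 i hi
          obtain ⟨m, hm, hm'⟩ := ha.1 l hl
          exact ⟨m, hm, by rw [mul_smul, hl', hm']⟩, fun i hi => by
          obtain ⟨l, hl, hl'⟩ := ha.2 i hi
          obtain ⟨m, hm, hm'⟩ := hb.2 l hl
          exact ⟨m, hm, by rw [_root_.mul_inv_rev, mul_smul, hl', hm']⟩⟩
      inv_mem' := fun {a} ha => ⟨ha.2, by rw [inv_inv]; exact ha.1⟩ }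
  haveI : Finite (Cfsg.SU 3 F 5) := inferInstance
  have hmemD : ∀ k : Cfsg.SU 3 F 5, (∀ i < 50, ∃ l < 50, k • B i = B l) → k ∈ D := by
    intro k hk
    refine ⟨hk, ?_⟩
    obtain ⟨n, hn, hkn⟩ := (isOfFinOrder_of_finite k).exists_pow_eq_one
    have hp : ∀ m i, i < 50 → ∃ l < 50, k ^ m • B i = B l := by
      intro m
      induction m with
      | zero => exact fun i hi => ⟨i, hi, by rw [pow_zero, one_smul]⟩
      | succ m ih =>
        intro i hi
        obtain ⟨l, hl, hl'⟩ := hk i hi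
        obtain ⟨o, ho, ho'⟩ := ih l hl
        exact ⟨o, ho, by rw [pow_succ, mul_smul, hl', ho']⟩
    have : k⁻¹ = k ^ (n - 1) := inv_eq_of_mul_eq_one_right (by
      rw [← pow_succ', Nat.sub_add_cancel hn, hkn])
    rw [this]
    exact hp (n - 1)
  -- central elements fix every set
  have hcen : ∀ k ∈ Subgroup.center (Cfsg.SU 3 F 5), ∀ i, k • B i = B i := by
    intro k hk i
    obtain ⟨a, ha, hr⟩ := center_rep hs hF' hk
    have ha0 : φ s a ≠ 0 := by
      rcases ha with rfl | rfl | rfl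
      all_goals exact φ_ne_zero hs (by decide) (by decide)
    show (fun W => W.map (Matrix.mulVecLin (k.1 : Matrix (Fin 3) (Fin 3) F))) '' BS i = BS i
    have e : ∀ v, (ln v).map (Matrix.mulVecLin (k.1 : Matrix (Fin 3) (Fin 3) F)) = ln v := by
      intro v
      show Submodule.map _ (Submodule.span F {vec s v}) = _
      rw [Submodule.map_span, Set.image_singleton, Matrix.mulVecLin_apply, hr, mat_scal,
        Matrix.smul_mulVec, Matrix.one_mulVec]
      exact Submodule.span_singleton_smul_eq (isUnit_iff_ne_zero.2 ha0) _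
    ext W
    constructor
    · rintro ⟨_, ⟨j, hj, hji, rfl⟩, rfl⟩
      exact ⟨j, hj, hji, e _⟩
    · rintro ⟨j, hj, hji, rfl⟩
      exact ⟨_, ⟨j, hj, hji, rfl⟩, e _⟩
  have hcD : Subgroup.center (Cfsg.SU 3 F 5) ≤ D := fun k hk =>
    hmemD k fun i hi => ⟨i, hi, hcen k hk i⟩
  have hDtop : D = ⊤ := by
    have hL : D.map π = ⊤ := by
      apply generate S
      · exact e1 ▸ ⟨g 0, hmemD _ (hgen 0 (by norm_num)), rfl⟩
      · exact e2 ▸ ⟨g 1, hmemD _ (hgen 1 (by norm_num)), rfl⟩
      · exact e3 ▸ ⟨g 2, hmemD _ (hgen 2 (by norm_num)), rfl⟩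
    refine eq_top_iff.2 fun k _ => ?_
    obtain ⟨d, hd, hdk⟩ : π k ∈ D.map π := hL ▸ Subgroup.mem_top _
    have h := hcD (QuotientGroup.eq.1 (show ((d : Cfsg.SU 3 F 5) : Cfsg.PSU 3 F 5) = k from hdk))
    simpa using D.mul_mem hd h
  set H0 := MulAction.stabilizer (Cfsg.SU 3 F 5) (B 0)
  have hker : π.ker ≤ H0 := by
    rw [QuotientGroup.ker_mk']
    exact fun k hk => hcen k hk 0
  refine ⟨H0.map π, ?_⟩
  have hidx : (H0.map π).index = H0.index :=
    Subgroup.index_map_eq (H := H0) (QuotientGroup.mk'_surjective _) hker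
  have hle : H0.index ≤ 50 := by
    rw [MulAction.index_stabilizer]
    calc (MulAction.orbit (Cfsg.SU 3 F 5) (B 0)).ncard
        ≤ (((Finset.range 50).image B : Finset (Fam F)) : Set (Fam F)).ncard := by
          refine Set.ncard_le_ncard ?_ (Finset.finite_toSet _)
          rintro _ ⟨k, rfl⟩
          obtain ⟨l, hl, hl'⟩ := ((hDtop ▸ Subgroup.mem_top k : k ∈ D)).1 0 (by norm_num)
          simp only [Finset.coe_image, Set.mem_image, Finset.mem_coe, Finset.mem_range]
          exact ⟨l, hl, hl'.symm⟩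
      _ ≤ 50 := by
          rw [Set.ncard_coe_finset]
          exact Finset.card_image_le.trans (Finset.card_range 50).le
  have hne : H0.map π ≠ ⊤ := by
    intro htop
    rw [htop, Subgroup.index_top] at hidx
    have hfix : g 0 • B 0 = B 0 := by
      have : H0 = ⊤ := Subgroup.index_eq_one.1 hidx.symm
      have h' : g 0 ∈ H0 := by rw [this]; exact Subgroup.mem_top _
      exact MulAction.mem_stabilizer_iff.1 h'
    have hmv := Chk.moved_check
    simp only [Bool.and_eq_true, decide_eq_true_eq, List.all_eq_true, List.mem_range,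
      Bool.or_eq_true, Bool.not_eq_true'] at hmv
    obtain ⟨⟨⟨hs0, hwit⟩, hwb⟩, hdiff⟩ := hmv
    have hset := List.all_eq_true.1 (List.all_eq_true.1 Chk.set_check 0 (List.mem_range.2 (by norm_num)))
      0 (List.mem_range.2 (by norm_num))
    simp only [Chk.setOK, Bool.and_eq_true, decide_eq_true_eq, List.all_eq_true, List.mem_range,
      beq_iff_eq] at hset
    obtain ⟨-, hr, hrj, hmap⟩ := hpt 0 (by norm_num) Dat.witness hwit
    have hfix' : (fun W : Submodule F (Fin 3 → F) =>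
        W.map (Matrix.mulVecLin ((g 0).1 : Matrix (Fin 3) (Fin 3) F))) '' BS 0 = BS 0 := hfix
    have hmem : ln (Chk.pt Dat.witness) ∈ (fun W : Submodule F (Fin 3 → F) =>
        W.map (Matrix.mulVecLin ((g 0).1 : Matrix (Fin 3) (Fin 3) F))) '' BS 0 := by
      refine ⟨ln (Chk.pt (Chk.rho 0 Dat.witness)), ⟨_, hr, ?_, rfl⟩, ?_⟩
      · rw [hset.2 _ hr, hrj]; exact hwb
      · have := (hpt 0 (by norm_num) _ hr).2.2.2
        rw [hrj] at this
        exact this
    rw [hfix'] at hmem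
    obtain ⟨k, hk, hkb, hln⟩ := hmem
    rcases hdiff k hk with h | h
    · rw [hkb] at h; exact Bool.noConfusion h
    · have hmem' : vec s (Chk.pt Dat.witness) ∈ ln (Chk.pt k) :=
        hln ▸ Submodule.mem_span_singleton_self _
      obtain ⟨a, ha⟩ := Submodule.mem_span_singleton.1 hmem'
      have h0 : a * φ s (Chk.pt k).1 = φ s (Chk.pt Dat.witness).1 := by
        have := congrFun ha 0
        simpa [vec] using this
      have h1 : a * φ s (Chk.pt k).2.1 = φ s (Chk.pt Dat.witness).2.1 := by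
        have := congrFun ha 1
        simpa [vec] using this
      have h2 : a * φ s (Chk.pt k).2.2 = φ s (Chk.pt Dat.witness).2.2 := by
        have := congrFun ha 2
        simpa [vec] using this
      simp only [Chk.differ, Model.rowTest, Bool.or_eq_true] at h
      rcases h with (h | h) | h
      all_goals refine φ_ne hs h ?_
      all_goals rw [φ_cM hs, φ_cM hs]
      · rw [← h0, ← h1]; ring
      · rw [← h0, ← h2]; ring
      · rw [← h1, ← h2]; ring
  have := fifty_le S _ hne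
  omega

end CfsgLib.ClassK.UFive
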