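import Mathlib
import Cfsg.Prelude.Def_Classical
import Cfsg.Agent.Lib.Classical.SUCenter

/-!
Computable model of three-dimensional matrices over the field of 25 elements.
-/

set_option autoImplicit false
set_option linter.unusedSectionVars false

namespace CfsgLib.ClassK.UFive.Model

open Matrix

/-- Sum of codes. -/
def cA (x y : ℕ) : ℕ := (x % 5 + y % 5) % 5 + 5 * ((x / 5 + y / 5) % 5)

/-- Product of codes. -/
def cM (x y : ℕ) : ℕ :=
  (x % 5 * (y % 5) + 2 * (x / 5) * (y / 5)) % 5 + 5 * ((x % 5 * (y / 5) + x / 5 * (y % 5)) % 5)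

/-- Conjugation. -/
def cC (x : ℕ) : ℕ := x % 5 + 5 * (4 * (x / 5) % 5)

/-- Inverse. -/
def cI (x : ℕ) : ℕ := cM (cC x) (((x % 5) * (x % 5) + 3 * (x / 5) * (x / 5)) ^ 3 % 5)

abbrev V3 : Type := ℕ × ℕ × ℕ
abbrev M3 : Type := V3 × V3 × V3

def dot (r v : V3) : ℕ := cA (cA (cM r.1 v.1) (cM r.2.1 v.2.1)) (cM r.2.2 v.2.2)
def mv (M : M3) (v : V3) : V3 := (dot M.1 v, dot M.2.1 v, dot M.2.2 v)
def sm (a : ℕ) (v : V3) : V3 := (cM a v.1, cM a v.2.1, cM a v.2.2)
def tr (M : M3) : M3 :=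
  ((M.1.1, M.2.1.1, M.2.2.1), (M.1.2.1, M.2.1.2.1, M.2.2.2.1), (M.1.2.2, M.2.1.2.2, M.2.2.2.2))
def cjV (v : V3) : V3 := (cC v.1, cC v.2.1, cC v.2.2)
def cj (M : M3) : M3 := (cjV M.1, cjV M.2.1, cjV M.2.2)
def ct (M : M3) : M3 := cj (tr M)
def mmul (A B : M3) : M3 := (mv (tr B) A.1, mv (tr B) A.2.1, mv (tr B) A.2.2)
def scal (a : ℕ) : M3 := ((a, 0, 0), (0, a, 0), (0, 0, a))
def one : M3 := scal 1
def powM (A : M3) : ℕ → M3
  | 0 => one
  | k + 1 => mmul (powM A k) A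
def det (M : M3) : ℕ :=
  cA (cA (cA (cM (cM M.1.1 M.2.1.2.1) M.2.2.2.2) (cM (cM M.1.2.1 M.2.1.2.2) M.2.2.1))
      (cM (cM M.1.2.2 M.2.1.1) M.2.2.2.1))
    (cM 4 (cA (cA (cM (cM M.1.2.2 M.2.1.2.1) M.2.2.1) (cM (cM M.1.1 M.2.1.2.2) M.2.2.2.1))
      (cM (cM M.1.2.1 M.2.1.1) M.2.2.2.2)))
def rowTest (f : ℕ → ℕ → Bool) (u v : V3) : Bool := f u.1 v.1 || f u.2.1 v.2.1 || f u.2.2 v.2.2
/-- Two codes which certainly give different elements. -/
def ne₁ (x y : ℕ) : Bool := decide (x < 25) && decide (y < 25) && !(x == y)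
def neM (A B : M3) : Bool := rowTest ne₁ A.1 B.1 || rowTest ne₁ A.2.1 B.2.1 || rowTest ne₁ A.2.2 B.2.2

variable {F : Type*} [Field F] (s : F)

/-- The element of a code. -/
def φ (x : ℕ) : F := ((x % 5 : ℕ) : F) + ((x / 5 : ℕ) : F) * s

def vec (v : V3) : Fin 3 → F := ![φ s v.1, φ s v.2.1, φ s v.2.2]
def mat (M : M3) : Matrix (Fin 3) (Fin 3) F := Matrix.of ![vec s M.1, vec s M.2.1, vec s M.2.2]

variable {s} [CharP F 5] (hs : s * s = 2)

theorem cast_mod (n : ℕ) : ((n % 5 : ℕ) : F) = (n : F) := (CharP.cast_eq_mod F 5 n).symm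

theorem φ_code (a b : ℕ) : φ s (a % 5 + 5 * (b % 5)) = (a : F) + (b : F) * s := by
  have h1 : (a % 5 + 5 * (b % 5)) % 5 = a % 5 := by omega
  have h2 : (a % 5 + 5 * (b % 5)) / 5 = b % 5 := by omega
  rw [φ, h1, h2, cast_mod, cast_mod]

theorem φ_zero : φ s 0 = 0 := by simp [φ]
theorem φ_one : φ s 1 = 1 := by simp [φ]

theorem φ_cA (x y : ℕ) : φ s (cA x y) = φ s x + φ s y := by
  rw [cA, φ_code]; simp only [φ, Nat.cast_add]; ring

include hs

theorem φ_cM (x y : ℕ) : φ s (cM x y) = φ s x * φ s y := by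
  rw [cM, φ_code]; simp only [φ, Nat.cast_add, Nat.cast_mul]
  push_cast
  linear_combination -(((x / 5 : ℕ) : F) * ((y / 5 : ℕ) : F)) * hs

theorem five_eq : (5 : F) = 0 := by exact_mod_cast CharP.cast_eq_zero F 5

theorem φ_cC (x : ℕ) : φ s (cC x) = φ s x ^ 5 := by
  haveI : Fact (Nat.Prime 5) := ⟨by norm_num⟩
  have e : ∀ n : ℕ, ((n : F)) ^ 5 = (n : F) := fun n => by
    have := map_natCast (frobenius F 5) n
    rwa [frobenius_def] at this
  have e5 : s ^ 5 = 4 * s := by linear_combination (s ^ 3 + 2 * s) * hs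
  rw [cC, φ_code, φ, add_pow_char, mul_pow, e, e, e5, cast_mod]
  push_cast
  ring

theorem φ_four_mul (x : ℕ) : φ s (cM 4 x) = -φ s x := by
  rw [φ_cM hs, show φ s 4 = (4 : F) by simp [φ]]
  linear_combination φ s x * five_eq hs

theorem φ_ne_zero {x : ℕ} (hx : x < 25) (h0 : x ≠ 0) : φ s x ≠ 0 := by
  have h : ∀ y < 25, y ≠ 0 → cM y (cI y) = 1 := by decide +kernel
  intro hc
  have := φ_cM hs x (cI x)
  rw [h x hx h0, φ_one, hc, zero_mul] at this
  exact one_ne_zero this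

theorem φ_ne {x y : ℕ} (h : ne₁ x y = true) : φ s x ≠ φ s y := by
  simp only [ne₁, Bool.and_eq_true, decide_eq_true_eq, Bool.not_eq_true', beq_eq_false_iff_ne] at h
  have hd : ∀ x < 25, ∀ y < 25, x ≠ y → cA x (cM 4 y) < 25 ∧ cA x (cM 4 y) ≠ 0 := by decide +kernel
  obtain ⟨h1, h2⟩ := hd x h.1.1 y h.1.2 h.2
  intro hc
  refine φ_ne_zero hs h1 h2 ?_
  rw [φ_cA, φ_four_mul hs, hc, add_neg_cancel]

theorem dot_eq (r v : V3) : φ s (dot r v) = vec s r ⬝ᵥ vec s v := by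
  simp [dot, vec, dotProduct, Fin.sum_univ_three, φ_cA, φ_cM hs]

theorem vec_mv (M : M3) (v : V3) : vec s (mv M v) = mat s M *ᵥ vec s v := by
  funext i
  fin_cases i <;> simp [mat, vec, mv, dot, Matrix.mulVec, dotProduct, Fin.sum_univ_three, φ_cA, φ_cM hs]

theorem vec_sm (a : ℕ) (v : V3) : vec s (sm a v) = φ s a • vec s v := by
  funext i; fin_cases i <;> simp [sm, vec, φ_cM hs]

omit hs in
theorem mat_tr (M : M3) : mat s (tr M) = (mat s M)ᵀ := by
  ext i j; fin_cases i <;> fin_cases j <;> simp [mat, vec, tr]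

theorem mat_mmul (A B : M3) : mat s (mmul A B) = mat s A * mat s B := by
  ext i j
  fin_cases i <;> fin_cases j <;>
    simp [mat, vec, mmul, mv, tr, dot, Matrix.mul_apply, Fin.sum_univ_three, φ_cA, φ_cM hs] <;> ring

omit hs in
theorem mat_scal (a : ℕ) : mat s (scal a) = φ s a • (1 : Matrix (Fin 3) (Fin 3) F) := by
  ext i j; fin_cases i <;> fin_cases j <;> simp [mat, vec, scal, φ_zero]

theorem mat_det (M : M3) : (mat s M).det = φ s (det M) := by
  rw [Matrix.det_fin_three]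
  simp only [det, φ_cA, φ_four_mul hs, φ_cM hs]
  simp [mat, vec]
  ring

theorem mat_ne {A B : M3} (h : neM A B = true) : mat s A ≠ mat s B := by
  intro hc
  have e : ∀ i j, mat s A i j = mat s B i j := fun i j => by rw [hc]
  simp only [neM, rowTest, Bool.or_eq_true] at h
  rcases h with (((h | h) | h) | ((h | h) | h)) | ((h | h) | h)
  · exact φ_ne hs h (by simpa [mat, vec] using e 0 0)
  · exact φ_ne hs h (by simpa [mat, vec] using e 0 1)
  · exact φ_ne hs h (by simpa [mat, vec] using e 0 2)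
  · exact φ_ne hs h (by simpa [mat, vec] using e 1 0)
  · exact φ_ne hs h (by simpa [mat, vec] using e 1 1)
  · exact φ_ne hs h (by simpa [mat, vec] using e 1 2)
  · exact φ_ne hs h (by simpa [mat, vec] using e 2 0)
  · exact φ_ne hs h (by simpa [mat, vec] using e 2 1)
  · exact φ_ne hs h (by simpa [mat, vec] using e 2 2)

variable [Fintype F] (hF : Fintype.card F = 5 ^ 2)

include hF in
theorem mat_cj (M : M3) : mat s (cj M) = (mat s M).map (CfsgLib.Classical.qFrob hF) := by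
  ext i j
  fin_cases i <;> fin_cases j <;>
    simp [mat, vec, cj, cjV, φ_cC hs, CfsgLib.Classical.qFrob_apply]

/-- The element of `SU(3,5)` with matrix code `M`. -/
def su (M : M3) (hd : det M = 1) (hu : mmul (tr M) (cj M) = one) : Cfsg.SU 3 F 5 :=
  ⟨⟨mat s M, by rw [mat_det hs, hd, φ_one]⟩, (CfsgLib.Classical.mem_su_iff hF _).2 (by
    show (mat s M)ᵀ * (mat s M).map (CfsgLib.Classical.qFrob hF) = 1
    rw [← mat_cj hs hF, ← mat_tr, ← mat_mmul hs, hu, one, mat_scal, φ_one, one_smul])⟩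

variable (s) in
omit hs in
/-- `g` has matrix code `M`. -/
def Rep (g : Cfsg.SU 3 F 5) (M : M3) : Prop :=
  (g.1 : Matrix (Fin 3) (Fin 3) F) = mat s M

theorem rep_su (M : M3) (hd : det M = 1) (hu : mmul (tr M) (cj M) = one) : Rep s (su hs hF M hd hu) M :=
  rfl

omit hs in
theorem rep_one : Rep s (1 : Cfsg.SU 3 F 5) one := by
  rw [Rep, one, mat_scal, φ_one, one_smul]; rfl

theorem rep_mul {g k : Cfsg.SU 3 F 5} {A B : M3} (hg : Rep s g A) (hk : Rep s k B) :
    Rep s (g * k) (mmul A B) := by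
  rw [Rep, mat_mmul hs, ← hg, ← hk]; rfl

theorem rep_inv {g : Cfsg.SU 3 F 5} {A : M3} (hg : Rep s g A) (hu : mmul A (ct A) = one) :
    Rep s g⁻¹ (ct A) := by
  have h1 : (g.1 : Matrix (Fin 3) (Fin 3) F) * mat s (ct A) = 1 := by
    rw [hg, ← mat_mmul hs, hu, one, mat_scal, φ_one, one_smul]
  have h2 : ((g⁻¹ : Cfsg.SU 3 F 5).1 : Matrix (Fin 3) (Fin 3) F) *
      (g.1 : Matrix (Fin 3) (Fin 3) F) = 1 := by
    rw [← Matrix.SpecialLinearGroup.coe_mul, ← Subgroup.coe_mul, inv_mul_cancel]; rfl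
  exact left_inv_eq_right_inv h2 h1

theorem rep_pow {g : Cfsg.SU 3 F 5} {A : M3} (hg : Rep s g A) : ∀ k, Rep s (g ^ k) (powM A k)
  | 0 => by rw [pow_zero]; exact rep_one
  | k + 1 => by rw [pow_succ]; exact rep_mul hs (rep_pow hg k) hg

omit hs in
theorem rep_eq {g k : Cfsg.SU 3 F 5} {A B : M3} (hg : Rep s g A) (hk : Rep s k B) (h : A = B) :
    g = k := by
  subst h; exact Subtype.ext (Subtype.ext (hg.trans hk.symm))

/-- The centre of `SU(3,5)`. -/
theorem center_rep (hF : Fintype.card F = 5 ^ 2) {c : Cfsg.SU 3 F 5} (hc : c ∈ Subgroup.center (Cfsg.SU 3 F 5)) :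
    ∃ a, (a = 1 ∨ a = 17 ∨ a = cM 17 17) ∧ Rep s c (scal a) := by
  classical
  set w := su hs hF (scal 17) (by decide +kernel) (by decide +kernel)
  have hw : Rep s w (scal 17) := rep_su hs hF _ _ _
  have hwc : w ∈ Subgroup.center (Cfsg.SU 3 F 5) := by
    rw [Subgroup.mem_center_iff]
    intro g
    refine Subtype.ext (Subtype.ext ?_)
    simp only [Subgroup.coe_mul, Matrix.SpecialLinearGroup.coe_mul]
    rw [show (w.1 : Matrix (Fin 3) (Fin 3) F) = mat s (scal 17) from hw, mat_scal,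
      Matrix.mul_smul, Matrix.smul_mul, Matrix.mul_one, Matrix.one_mul]
  have h3 : w ^ 3 = 1 := rep_eq (rep_pow hs hw 3) rep_one (by decide +kernel)
  have h1 : w ≠ 1 := fun h => mat_ne hs (A := scal 17) (B := one) (by decide +kernel)
    (hw.symm.trans ((congrArg (fun g : Cfsg.SU 3 F 5 => (g.1 : Matrix (Fin 3) (Fin 3) F)) h).trans rep_one))
  have hcard := CfsgLib.Classical.card_center_su hF (n := 3) (by norm_num)
  haveI : Fact (Nat.Prime 3) := ⟨by norm_num⟩
  have htop : Subgroup.zpowers w = Subgroup.center (Cfsg.SU 3 F 5) :=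
    Subgroup.eq_of_le_of_card_ge (Subgroup.zpowers_le.2 hwc) (by
      rw [hcard, Nat.card_zpowers, orderOf_eq_prime h3 h1]; norm_num)
  rw [← htop, ← mem_powers_iff_mem_zpowers, mem_powers_iff_mem_range_orderOf,
    orderOf_eq_prime h3 h1, Finset.mem_image] at hc
  obtain ⟨k, hk, rfl⟩ := hc
  rw [Finset.mem_range] at hk
  interval_cases k
  · exact ⟨1, Or.inl rfl, by rw [pow_zero]; exact rep_one⟩
  · exact ⟨17, Or.inr (Or.inl rfl), by rw [pow_one]; exact hw⟩
  · exact ⟨cM 17 17, Or.inr (Or.inr rfl), by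
      rw [pow_two]
      have := rep_mul hs hw hw
      rwa [show mmul (scal 17) (scal 17) = scal (cM 17 17) by decide +kernel] at this⟩

/-- Non-central elements. -/
def notScal (A : M3) : Bool := neM A one && neM A (scal 17) && neM A (scal (cM 17 17))

theorem not_center (hF : Fintype.card F = 5 ^ 2) {g : Cfsg.SU 3 F 5} {A : M3} (hg : Rep s g A)
    (h : notScal A = true) : g ∉ Subgroup.center (Cfsg.SU 3 F 5) := by
  simp only [notScal, Bool.and_eq_true] at h
  intro hc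
  obtain ⟨a, ha, hr⟩ := center_rep hs hF hc
  have e := hg.symm.trans hr
  rcases ha with rfl | rfl | rfl
  exacts [mat_ne hs h.1.1 e, mat_ne hs h.1.2 e, mat_ne hs h.2 e]

end CfsgLib.ClassK.UFive.Model
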