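import Mathlib.Combinatorics.SimpleGraph.Extremal.Turan
import Mathlib.GroupTheory.Frattini
import Cfsg.Agent.Lib.StructC.BurnsideBasis

/-!
A `p`-group of upper unitriangular `e × e` matrices over `ZMod p` needs at most `e² / 4`
generators.
-/

set_option autoImplicit false

namespace CfsgLib.ClassK.UniGen

open Subgroup Finset
open scoped commutatorElement

variable {e : ℕ} {p : ℕ} [hp : Fact p.Prime]

/-- The weight of a position. -/
def wt (i j : Fin e) : ℕ := 2 ^ (j : ℕ) - 2 ^ (i : ℕ)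

theorem wt_pos {i j : Fin e} (h : i < j) : 0 < wt i j :=
  Nat.sub_pos_of_lt (Nat.pow_lt_pow_right one_lt_two h)

theorem wt_add {i l j : Fin e} (h1 : i < l) (h2 : l < j) : wt i l + wt l j = wt i j := by
  have a : 2 ^ (i : ℕ) < 2 ^ (l : ℕ) := Nat.pow_lt_pow_right one_lt_two h1
  have b : 2 ^ (l : ℕ) < 2 ^ (j : ℕ) := Nat.pow_lt_pow_right one_lt_two h2
  unfold wt
  omega

theorem wt_lt_two_pow (i j : Fin e) : wt i j < 2 ^ e :=
  (Nat.sub_le _ _).trans_lt (Nat.pow_lt_pow_right one_lt_two j.isLt)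

theorem wt_inj {i j k l : Fin e} (hij : i < j) (hkl : k < l) (h : wt i j = wt k l) :
    i = k ∧ j = l := by
  have key : ∀ {i j k l : Fin e}, i < j → k < l → wt i j = wt k l → ¬ (i : ℕ) < k := by
    intro i j k l hij hkl h hik
    have hd : 2 ^ ((i : ℕ) + 1) ∣ wt k l := Nat.dvd_sub
      (pow_dvd_pow 2 (by omega)) (pow_dvd_pow 2 (by omega))
    rw [← h] at hd
    have hd2 : 2 ^ ((i : ℕ) + 1) ∣ 2 ^ (j : ℕ) := pow_dvd_pow 2 (by omega)
    have hle : 2 ^ (i : ℕ) ≤ 2 ^ (j : ℕ) := Nat.pow_le_pow_right two_pos (by omega)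
    have h3 := Nat.dvd_sub hd2 hd
    rw [show 2 ^ (j : ℕ) - wt i j = 2 ^ (i : ℕ) from Nat.sub_sub_self hle,
      Nat.pow_dvd_pow_iff_le_right one_lt_two] at h3
    omega
  have h1 := key hij hkl h
  have h2 := key hkl hij h.symm
  have hik : i = k := Fin.ext (by omega)
  subst hik
  refine ⟨rfl, Fin.ext (Nat.pow_right_injective le_rfl ?_)⟩
  have a : 2 ^ (i : ℕ) < 2 ^ (j : ℕ) := Nat.pow_lt_pow_right one_lt_two hij
  have b : 2 ^ (i : ℕ) < 2 ^ (l : ℕ) := Nat.pow_lt_pow_right one_lt_two hkl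
  unfold wt at h
  show 2 ^ (j : ℕ) = 2 ^ (l : ℕ)
  omega

/-- A family of pairs with no composite pair has at most `e² / 4` members. -/
theorem card_le_of_no_composite (C : Finset (Fin e × Fin e)) (hlt : ∀ x ∈ C, x.1 < x.2)
    (hno : ∀ a b c : Fin e, (a, b) ∈ C → (b, c) ∈ C → (a, c) ∉ C) :
    C.card ≤ e ^ 2 / 4 := by
  classical
  let Γ : SimpleGraph (Fin e) :=
    { Adj := fun a b => (a, b) ∈ C ∨ (b, a) ∈ C
      symm := ⟨fun _ _ h => Or.symm h⟩
      loopless := ⟨fun a h => by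
        rcases h with h | h <;> exact lt_irrefl _ (hlt _ h)⟩ }
  have hcf : Γ.CliqueFree (2 + 1) := by
    intro s hs
    obtain ⟨a, b, c, hab, hac, hbc, -⟩ := SimpleGraph.is3Clique_iff.mp hs
    rcases hab with h1 | h1 <;> rcases hac with h2 | h2 <;> rcases hbc with h3 | h3 <;>
      first
        | exact hno a b c h1 h3 h2
        | exact hno a c b h2 h3 h1
        | exact hno b a c h1 h2 h3
        | exact hno b c a h3 h2 h1
        | exact hno c a b h2 h1 h3
        | exact hno c b a h3 h1 h2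
        | (have := hlt _ h1; have := hlt _ h2; have := hlt _ h3; simp only at *; omega)
  refine le_trans ?_ ((SimpleGraph.CliqueFree.card_edgeFinset_le hcf).trans ?_)
  · refine Finset.card_le_card_of_injOn (fun x => s(x.1, x.2)) (fun x hx => ?_) ?_
    · simp only [SimpleGraph.coe_edgeFinset, SimpleGraph.mem_edgeSet]
      exact Or.inl hx
    · intro x hx y hy hxy
      rcases Sym2.eq_iff.mp hxy with ⟨h1, h2⟩ | ⟨h1, h2⟩
      · exact Prod.ext h1 h2
      · have := hlt x hx
        have := hlt y hy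
        rw [h1, h2] at *
        omega
  · simp only [Fintype.card_fin]
    rw [Nat.choose_eq_zero_of_lt (Nat.mod_lt _ two_pos), Nat.add_zero, show (2 - 1 : ℕ) = 1 from rfl, mul_one, show (2 * 2 : ℕ) = 4 from rfl]
    exact Nat.div_le_div_right (Nat.sub_le _ _)

variable {H : Type*} [Group H] (ρ : H →* Matrix (Fin e) (Fin e) (ZMod p))
  (hρ : ∀ g a b, b ≤ a → ρ g a b = if a = b then 1 else 0)

include hρ

theorem map_mul_apply (g h : H) {s t : Fin e} (hst : s < t) :
    ρ (g * h) s t = ρ g s t + ρ h s t + ∑ r ∈ Finset.Ioo s t, ρ g s r * ρ h r t := by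
  classical
  rw [map_mul, Matrix.mul_apply,
    ← Finset.sum_subset (Finset.subset_univ (insert s (insert t (Finset.Ioo s t)))) (fun r _ hr => ?_),
    Finset.sum_insert (by simp [hst.ne]), Finset.sum_insert (by simp),
    hρ g s s le_rfl, hρ h t t le_rfl, if_pos rfl, if_pos rfl, one_mul, mul_one]
  · ring
  · simp only [Finset.mem_insert, Finset.mem_Ioo, not_or, not_and] at hr
    rcases lt_or_gt_of_ne hr.1 with h1 | h1
    · rw [hρ g s r h1.le, if_neg (Ne.symm h1.ne), zero_mul]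
    · have h2 : t < r := lt_of_le_of_ne (not_lt.mp (hr.2.2 h1)) (Ne.symm hr.2.1)
      rw [hρ h r t h2.le, if_neg (Ne.symm h2.ne), mul_zero]

/-- Entries of weight below `w` vanish. -/
def Lev (w : ℕ) (g : H) : Prop := ∀ s t : Fin e, s < t → wt s t < w → ρ g s t = 0

theorem lev_apply_mul {w : ℕ} {g h : H} (hg : Lev ρ w g) (hh : Lev ρ w h) {s t : Fin e}
    (hst : s < t) (hw : wt s t ≤ w) : ρ (g * h) s t = ρ g s t + ρ h s t := by
  rw [map_mul_apply ρ hρ g h hst, Finset.sum_eq_zero, add_zero]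
  intro r hr
  rw [Finset.mem_Ioo] at hr
  have := wt_pos hr.2
  rw [hg s r hr.1 (by have := wt_add hr.1 hr.2; omega), zero_mul]

theorem lev_mul {w : ℕ} {g h : H} (hg : Lev ρ w g) (hh : Lev ρ w h) : Lev ρ w (g * h) := by
  intro s t hst hw
  rw [lev_apply_mul ρ hρ hg hh hst hw.le, hg s t hst hw, hh s t hst hw, add_zero]

theorem lev_pow {w : ℕ} {g : H} (hg : Lev ρ w g) (n : ℕ) :
    Lev ρ w (g ^ n) ∧ ∀ s t : Fin e, s < t → wt s t ≤ w → ρ (g ^ n) s t = n * ρ g s t := by
  induction n with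
  | zero =>
    refine ⟨fun s t hst _ => ?_, fun s t hst _ => ?_⟩ <;>
      simp [Matrix.one_apply, hst.ne]
  | succ n ih =>
    refine ⟨pow_succ g n ▸ lev_mul ρ hρ ih.1 hg, fun s t hst hw => ?_⟩
    rw [pow_succ, lev_apply_mul ρ hρ ih.1 hg hst hw, ih.2 s t hst hw]
    push_cast
    ring

/-- The leading term of a commutator. -/
theorem commutator_leading {w₁ w₂ : ℕ} {g h : H} (hg : Lev ρ w₁ g) (hh : Lev ρ w₂ h)
    {i l j : Fin e} (hil : i < l) (hlj : l < j) (h1 : wt i l = w₁) (h2 : wt l j = w₂) :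
    Lev ρ (w₁ + w₂) ⁅g, h⁆ ∧ ρ ⁅g, h⁆ i j = ρ g i l * ρ h l j := by
  have hgh : ⁅g, h⁆ * (h * g) = g * h := by rw [commutatorElement_def]; group
  -- the difference of the two products
  let X : Fin e → Fin e → ZMod p := fun s t =>
    ∑ r ∈ Finset.Ioo s t, (ρ g s r * ρ h r t - ρ h s r * ρ g r t)
  have hX0 : ∀ s t, s < t → wt s t < w₁ + w₂ → X s t = 0 := by
    intro s t hst hw
    refine Finset.sum_eq_zero fun r hr => ?_
    rw [Finset.mem_Ioo] at hr
    have hadd := wt_add hr.1 hr.2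
    have a : ρ g s r * ρ h r t = 0 := by
      by_cases hh' : wt s r < w₁
      · rw [hg s r hr.1 hh', zero_mul]
      · rw [hh r t hr.2 (by omega), mul_zero]
    have b : ρ h s r * ρ g r t = 0 := by
      by_cases hh' : wt s r < w₂
      · rw [hh s r hr.1 hh', zero_mul]
      · rw [hg r t hr.2 (by omega), mul_zero]
    rw [a, b, sub_zero]
  have hind : ∀ n s t, s < t → wt s t = n → n ≤ w₁ + w₂ → ρ ⁅g, h⁆ s t = X s t := by
    intro n
    induction n using Nat.strong_induction_on with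
    | _ n ih => ?_
    intro s t hst hn hw
    have e1 := map_mul_apply ρ hρ ⁅g, h⁆ (h * g) hst
    rw [hgh, map_mul_apply ρ hρ g h hst] at e1
    have hsum : ∑ r ∈ Finset.Ioo s t, ρ ⁅g, h⁆ s r * ρ (h * g) r t = 0 := by
      refine Finset.sum_eq_zero fun r hr => ?_
      rw [Finset.mem_Ioo] at hr
      have hadd := wt_add hr.1 hr.2
      have := wt_pos hr.2
      rw [ih (wt s r) (by omega) s r hr.1 rfl (by omega), hX0 s r hr.1 (by omega), zero_mul]
    rw [hsum, map_mul_apply ρ hρ h g hst] at e1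
    simp only [X, Finset.sum_sub_distrib]
    linear_combination -e1
  refine ⟨fun s t hst hw => (hind _ s t hst rfl hw.le).trans (hX0 s t hst hw), ?_⟩
  have hw : wt i j = w₁ + w₂ := by rw [← h1, ← h2, wt_add hil hlj]
  rw [hind _ i j (hil.trans hlj) hw le_rfl]
  simp only [X, Finset.sum_sub_distrib]
  rw [Finset.sum_eq_single l, Finset.sum_eq_zero, sub_zero]
  · intro r hr
    rw [Finset.mem_Ioo] at hr
    have hadd := wt_add hr.1 hr.2
    by_cases hh' : wt i r < w₂
    · rw [hh i r hr.1 hh', zero_mul]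
    by_cases hg' : wt r j < w₁
    · rw [hg r j hr.2 hg', mul_zero]
    have := (wt_inj hr.1 hlj (by omega)).1
    exact absurd this hil.ne
  · intro r hr hrl
    rw [Finset.mem_Ioo] at hr
    have hadd := wt_add hr.1 hr.2
    by_cases hg' : wt i r < w₁
    · rw [hg i r hr.1 hg', zero_mul]
    by_cases hh' : wt r j < w₂
    · rw [hh r j hr.2 hh', mul_zero]
    exact absurd (wt_inj hr.1 hil (by omega)).2 hrl
  · intro hl
    exact absurd (Finset.mem_Ioo.mpr ⟨hil, hlj⟩) hl

/-- At most `e² / 4` elements generate a unitriangular `p`-group modulo the kernel. -/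
theorem exists_gens [Finite H] (hH : IsPGroup p H) :
    ∃ S : Finset H, S.card ≤ e ^ 2 / 4 ∧ Subgroup.closure (S : Set H) ⊔ ρ.ker = ⊤ := by
  classical
  let Lead : Fin e → Fin e → Prop := fun i j =>
    i < j ∧ ∃ g, Lev ρ (wt i j) g ∧ ρ g i j ≠ 0
  let C : Finset (Fin e × Fin e) := Finset.univ.filter fun x =>
    Lead x.1 x.2 ∧ ¬ ∃ l, Lead x.1 l ∧ Lead l x.2
  have hpick : ∀ x : Fin e × Fin e, ∃ g : H, x ∈ C → Lev ρ (wt x.1 x.2) g ∧ ρ g x.1 x.2 ≠ 0 := by
    intro x
    by_cases hx : x ∈ C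
    · obtain ⟨g, hg⟩ := (Finset.mem_filter.mp hx).2.1.2
      exact ⟨g, fun _ => hg⟩
    · exact ⟨1, fun h => absurd h hx⟩
  choose f hf using hpick
  refine ⟨C.image f, Finset.card_image_le.trans (card_le_of_no_composite C
    (fun x hx => (Finset.mem_filter.mp hx).2.1.1) fun a b c h1 h2 h3 =>
      (Finset.mem_filter.mp h3).2.2 ⟨b, (Finset.mem_filter.mp h1).2.1,
        (Finset.mem_filter.mp h2).2.1⟩), ?_⟩
  refine frattini_nongenerating ?_
  set T := Subgroup.closure ((C.image f : Finset H) : Set H) ⊔ ρ.ker ⊔ frattini H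
  have main : ∀ d w, w + d = 2 ^ e → ∀ g, Lev ρ w g → g ∈ T := by
    intro d
    induction d with
    | zero =>
      intro w hw g hg
      refine mem_sup_left (mem_sup_right (MonoidHom.mem_ker.mpr (Matrix.ext fun a b => ?_)))
      rw [Matrix.one_apply]
      rcases lt_or_ge a b with h | h
      · rw [if_neg h.ne, hg a b h (by have := wt_lt_two_pow a b; omega)]
      · exact hρ g a b h
    | succ d ih =>
      intro w hw g hg
      by_cases hex : ∃ i j : Fin e, i < j ∧ wt i j = w ∧ ρ g i j ≠ 0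
      swap
      · refine ih (w + 1) (by omega) g fun s t hst hst' => ?_
        rcases Nat.lt_succ_iff_lt_or_eq.mp hst' with h | h
        · exact hg s t hst h
        · by_contra hne; exact hex ⟨s, t, hst, h, hne⟩
      obtain ⟨i, j, hij, hwij, hne⟩ := hex
      subst hwij
      -- an element of `T` with the same leading position
      obtain ⟨c, hcT, hc, hc0⟩ : ∃ c ∈ T, Lev ρ (wt i j) c ∧ ρ c i j ≠ 0 := by
        by_cases hl : ∃ l, Lead i l ∧ Lead l j
        · obtain ⟨l, ⟨hil, a, ha, ha0⟩, hlj, b, hb, hb0⟩ := hl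
          obtain ⟨h1, h2⟩ := commutator_leading ρ hρ ha hb hil hlj rfl rfl
          refine ⟨⁅a, b⁆, mem_sup_right ?_, wt_add hil hlj ▸ h1, h2 ▸ mul_ne_zero ha0 hb0⟩
          have := StructC.comm_mem_frattini hH a⁻¹ b⁻¹
          rwa [inv_inv, inv_inv, ← commutatorElement_def] at this
        · have hxC : (i, j) ∈ C :=
            Finset.mem_filter.mpr ⟨Finset.mem_univ _, ⟨hij, g, hg, hne⟩, hl⟩
          exact ⟨f (i, j), mem_sup_left (mem_sup_left (subset_closure
            (Finset.mem_coe.mpr (Finset.mem_image_of_mem f hxC)))), hf (i, j) hxC⟩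
      set n := (-(ρ g i j) / ρ c i j).val
      obtain ⟨hcn, hcn'⟩ := lev_pow ρ hρ hc n
      have hgc : g * c ^ n ∈ T := by
        refine ih (wt i j + 1) (by omega) _ fun s t hst hst' => ?_
        rcases Nat.lt_succ_iff_lt_or_eq.mp hst' with h | h
        · exact lev_mul ρ hρ hg hcn s t hst h
        · obtain ⟨rfl, rfl⟩ := wt_inj hst hij h
          rw [lev_apply_mul ρ hρ hg hcn hst le_rfl, hcn' s t hst le_rfl, ZMod.natCast_zmod_val,
            div_mul_cancel₀ _ hc0, add_neg_cancel]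
      rw [← mul_inv_cancel_right g (c ^ n)]
      exact mul_mem hgc (inv_mem (pow_mem hcT n))
  exact eq_top_iff.mpr fun g _ => main (2 ^ e) 0 (Nat.zero_add _) g fun s t _ h => absurd h (Nat.not_lt_zero _)

end CfsgLib.ClassK.UniGen
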