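import Cfsg.Agent.Lib.ClassK.ZNPair

/-!
The four-groups of two sides without a common `2`-local do not commute.
-/

set_option autoImplicit false
set_option linter.unusedSectionVars false

namespace CfsgLib.ClassK.ZN

open Cfsg Subgroup CfsgLib.PLocal
open scoped commutatorElement

universe u

variable {G : Type u} [Group G] [Finite G]

namespace Pair

variable {T : Subgroup G} {K : Bool → Subgroup G} (p : Pair T K)

local notation "Γ" => (K false ⊔ T) ⊔ (K true ⊔ T)

include p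

theorem cj_Y {c : Bool} {g : G} (hg : g ∈ K c ⊔ T) : cj g (Yof T (K c)) = Yof T (K c) :=
  cj_eq_self ((p.side c).P_le_normY hg)

section Word

variable (hc : wOf (K false) ≤ centralizer (wOf (K true) : Set G))
include hc

theorem Y_le_Q_other (i : Bool) : Yof T (K i) ≤ Qof T (K (!i)) := by
  refine le_inf (p.side i).Y_le_T (sup_le (le_centralizer_iff.1 (p.side !i).W_le_centralizerZ) ?_)
  cases i
  exacts [hc, le_centralizer_iff.1 hc]

theorem Y_commute (i j : Bool) : Yof T (K j) ≤ centralizer (Yof T (K i) : Set G) := by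
  cases i <;> cases j
  · exact elemAb_le_centralizer (p.side false).elemY
  · exact (p.Y_le_Q_other hc true).trans ((p.side false).Q_centralizes_Y p.T_centralizes)
  · exact (p.Y_le_Q_other hc false).trans ((p.side true).Q_centralizes_Y p.T_centralizes)
  · exact elemAb_le_centralizer (p.side true).elemY

theorem minimal_props {n : ℕ}
    (hmin : ∀ l : List G, l.length < n → (∀ x ∈ l, ∃ c, x ∈ K c ⊔ T) →
      ∀ i j, cj l.prod (Yof T (K j)) ≤ centralizer (Yof T (K i) : Set G))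
    {l : List G} (hl : ∀ x ∈ l, ∃ c, x ∈ K c ⊔ T) (hlen : l.length ≤ n) {i j : Bool}
    (hfail : ¬ cj l.prod (Yof T (K j)) ≤ centralizer (Yof T (K i) : Set G)) :
    cj l.prod (Yof T (K j)) ≤ T ∧ cj l.prod (Wz T (K j)) = Wz T (K i) ∧
      (∃ h t, l = h :: t ∧ h ∈ K (!i) ⊔ T) ∧
      ∃ l₀ q, l = l₀ ++ [q] ∧ q ∈ K (!j) ⊔ T := by
  have hZ := p.T_centralizes
  have hne : l ≠ [] := by
    rintro rfl
    rw [List.prod_nil, cj_one] at hfail
    exact hfail (p.Y_commute hc i j)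
  obtain ⟨h, t, rfl⟩ := List.exists_cons_of_ne_nil hne
  obtain ⟨c, hh⟩ := hl h List.mem_cons_self
  have ht : t.length < n := by simp only [List.length_cons] at hlen; omega
  have htw : ∀ x ∈ t, ∃ c, x ∈ K c ⊔ T := fun x hx => hl x (List.mem_cons_of_mem h hx)
  have hh' : h ∈ K (!i) ⊔ T := by
    by_cases hci : c = i
    · refine absurd ?_ hfail
      subst hci
      have h1 := cj_mono (g := h) (hmin t ht htw c j)
      rwa [cj_centralizer, p.cj_Y hh, cj_cj, ← List.prod_cons] at h1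
    · have e : c = !i := by cases c <;> cases i <;> simp_all
      exact e ▸ hh
  obtain ⟨l₀, q, hlq⟩ : ∃ l₀ q, h :: t = l₀ ++ [q] :=
    ⟨_, _, (List.dropLast_append_getLast (l := h :: t) (by simp)).symm⟩
  obtain ⟨c', hq⟩ := hl q (by rw [hlq]; simp)
  have hl₀ : l₀.length < n := by
    have := congrArg List.length hlq
    simp only [List.length_cons, List.length_append, List.length_nil] at this hlen
    omega
  have hl₀w : ∀ x ∈ l₀, ∃ c, x ∈ K c ⊔ T := fun x hx => hl x (by rw [hlq]; simp [hx])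
  have hprod : (h :: t).prod = l₀.prod * q := by rw [hlq, List.prod_append, List.prod_singleton]
  have hq' : q ∈ K (!j) ⊔ T := by
    by_cases hcj : c' = j
    · refine absurd ?_ hfail
      subst hcj
      rw [hprod, ← cj_cj, p.cj_Y hq]
      exact hmin l₀ hl₀ hl₀w i c'
    · have e : c' = !j := by cases c' <;> cases j <;> simp_all
      exact e ▸ hq
  have hle : cj (h :: t).prod (Yof T (K j)) ≤ T := by
    have h1 := cj_mono (g := h) (hmin t ht htw (!i) j)
    rw [cj_centralizer, p.cj_Y hh', cj_cj, ← List.prod_cons] at h1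
    have h2 : cj (h :: t).prod (Yof T (K j)) ≤ cj 1 (Qof T (K (!i))) :=
      p.le_Qof (isPGroup_cj _ ((p.side j).pT.to_le (p.side j).Y_le_T)) (by rw [cj_one]; exact h1)
    rw [cj_one] at h2
    exact h2.trans inf_le_left
  have hle' : Yof T (K i) ≤ cj (h :: t).prod T := by
    have h1 := p.le_Qof ((p.side i).pT.to_le (p.side i).Y_le_T)
      (le_centralizer_iff.1 (hmin l₀ hl₀ hl₀w i (!j)))
    rw [hprod, ← cj_cj]
    refine h1.trans (cj_mono ?_)
    rw [← cj_eq_self ((p.side (!j)).P_le_normQ hq')]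
    exact cj_mono inf_le_left
  refine ⟨hle, ?_, ⟨h, t, rfl, hh'⟩, ⟨l₀, q, hlq, hq'⟩⟩
  obtain ⟨y, hy, hyc⟩ := SetLike.not_le_iff_exists.1 hfail
  obtain ⟨r, hr, hne⟩ : ∃ r ∈ Yof T (K i), ⁅y, r⁆ ≠ 1 := by
    by_contra! hcon
    exact hyc fun r hr => (commutatorElement_eq_one_iff_mul_comm.1 (hcon r hr)).symm
  set g := (h :: t).prod
  have h1 : ⁅y, r⁆ ∈ Wz T (K i) := (p.side i).commutator_mem hZ (hle hy) hr
  have h2 : ⁅y, r⁆ ∈ cj g (Wz T (K j)) := by
    refine mem_cj.2 ?_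
    rw [show g⁻¹ * ⁅y, r⁆ * g = ⁅g⁻¹ * r * g, g⁻¹ * y * g⁆⁻¹ by
      simp only [commutatorElement_def]; group]
    exact inv_mem ((p.side j).commutator_mem hZ (mem_cj.1 (hle' hr)) (mem_cj.1 hy))
  have hg : ∀ L : Subgroup G, Nat.card L = 2 → ⁅y, r⁆ ∈ L → zpowers ⁅y, r⁆ = L := fun L hL hm =>
    eq_of_le_of_card_ge (zpowers_le.2 hm) (by
      rw [hL, Nat.card_zpowers]
      have h0 := orderOf_pos ⁅y, r⁆
      rcases Nat.lt_or_ge (orderOf ⁅y, r⁆) 2 with h3 | h3
      · exact absurd (orderOf_eq_one_iff.1 (by omega)) hne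
      · exact h3)
  rw [← hg _ (p.side i).card_Wz h1, hg _ (by rw [card_cj]; exact (p.side j).card_Wz) h2]

/-- A failing word with a good first index is impossible. -/
theorem good_false {n : ℕ}
    (hmin : ∀ l : List G, l.length < n → (∀ x ∈ l, ∃ c, x ∈ K c ⊔ T) →
      ∀ i j, cj l.prod (Yof T (K j)) ≤ centralizer (Yof T (K i) : Set G))
    {l : List G} (hl : ∀ x ∈ l, ∃ c, x ∈ K c ⊔ T) (hlen : l.length ≤ n) {i j : Bool}
    (hfail : ¬ cj l.prod (Yof T (K j)) ≤ centralizer (Yof T (K i) : Set G))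
    (hgood : ¬ Wz T (K (!i)) ≤ centralizer (K i : Set G)) : False := by
  have hZ := p.T_centralizes
  obtain ⟨hgT, hgW, ⟨h, t, hlt, hh⟩, ⟨l₀, q, hlq, hq⟩⟩ := p.minimal_props hc hmin hl hlen hfail
  have hprod : l.prod = l₀.prod * q := by rw [hlq, List.prod_append, List.prod_singleton]
  set o := !j with ho
  set s := p.side i
  set s' := p.side (!i)
  obtain ⟨y, hy, hyc⟩ := SetLike.not_le_iff_exists.1 hfail
  have hyQ : y ∉ Qof T (K i) := fun e => hyc (s.Q_centralizes_Y hZ e)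
  have hyT : y ∈ T := hgT hy
  obtain ⟨w', hw', hw'1, hz', -, -⟩ := s'.exists_point
  have hw'z : w' ∈ Wz T (K (!i)) := hz' ▸ mem_zpowers w'
  have hw'c : w' ∉ Zc T (K i) := fun e => hgood (by rw [hz', zpowers_le]; exact e.2)
  obtain ⟨w, hw, hw1, hz, -, -⟩ := s.exists_point
  have hwz : w ∈ Wz T (K i) := hz ▸ mem_zpowers w
  have hl₀w : ∀ x ∈ l₀, ∃ c, x ∈ K c ⊔ T := fun x hx => hl x (by rw [hlq]; simp [hx])
  have key : ∀ r ∈ K i ⊔ T, ∀ u ∈ Yof T (K (!i)), ⁅r * u * r⁻¹, y⁆ ∈ Yof T (K i) := by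
    intro r hr u hu
    have hyo : cj l.prod (Yof T (K j)) ≤ cj l₀.prod (Qof T (K o)) := by
      rw [hprod, ← cj_cj]
      refine cj_mono ?_
      rw [← cj_eq_self ((p.side o).P_le_normQ hq)]
      refine cj_mono ?_
      have := p.Y_le_Q_other hc j
      exact this
    by_cases hcom : cj r (Yof T (K (!i))) ≤ centralizer (cj l₀.prod (Yof T (K o)) : Set G)
    · have h1 := p.le_Qof (isPGroup_cj r (s'.pT.to_le s'.Y_le_T)) hcom (conj_mem_cj hu : r * u * r⁻¹ ∈ _)
      have h2 : r * u * r⁻¹ ∈ cj l.prod T := by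
        rw [hprod, ← cj_cj]
        refine cj_mono ?_ h1
        rw [← cj_eq_self ((p.side o).P_le_normQ hq)]
        exact cj_mono inf_le_left
      have h3 : ⁅r * u * r⁻¹, y⁆ ∈ cj l.prod (Wz T (K j)) := by
        refine mem_cj.2 ?_
        rw [show l.prod⁻¹ * ⁅r * u * r⁻¹, y⁆ * l.prod =
          ⁅l.prod⁻¹ * (r * u * r⁻¹) * l.prod, l.prod⁻¹ * y * l.prod⁆ by
          simp only [commutatorElement_def]; group]
        exact (p.side j).commutator_mem hZ (mem_cj.1 h2) (mem_cj.1 hy)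
      rw [hgW] at h3
      exact mem_sup_left h3.1
    · exfalso
      set l' := r⁻¹ :: l₀ with hl'
      have hl'w : ∀ x ∈ l', ∃ c, x ∈ K c ⊔ T := fun x hx => by
        rcases List.mem_cons.1 hx with rfl | hx
        exacts [⟨i, inv_mem hr⟩, hl₀w x hx]
      have hlen' : l'.length ≤ n := by
        rw [hlq, List.length_append, List.length_singleton] at hlen
        simpa [hl'] using hlen
      have hfail' : ¬ cj l'.prod (Yof T (K o)) ≤ centralizer (Yof T (K (!i)) : Set G) := by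
        intro e
        apply hcom
        have h1 := cj_mono (g := r) e
        rw [cj_centralizer, hl', List.prod_cons, cj_cj, mul_inv_cancel_left] at h1
        exact le_centralizer_iff.1 h1
      obtain ⟨-, hW', -, -⟩ := p.minimal_props hc hmin hl'w hlen' hfail'
      -- `r w' r⁻¹` lies over the last side, hence commutes with `y`
      have hrw : r * w' * r⁻¹ ∈ cj l₀.prod (Yof T (K o)) := by
        have h1 : w' ∈ cj l'.prod (Wz T (K o)) := hW'.symm ▸ hw'z
        have h2 := conj_mem_cj (g := r) h1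
        rw [hl', List.prod_cons, cj_cj, mul_inv_cancel_left] at h2
        exact cj_mono (inf_le_left.trans le_sup_left) h2
      have hfix : y * (r * w' * r⁻¹) * y⁻¹ = r * w' * r⁻¹ := by
        have h1 : y ∈ centralizer (cj l₀.prod (Yof T (K o)) : Set G) := by
          rw [← cj_centralizer]
          exact cj_mono ((p.side o).Q_centralizes_Y hZ) (hyo hy)
        exact mul_inv_eq_iff_eq_mul.2 (h1 _ hrw).symm
      have hrY : r * w' * r⁻¹ ∈ Yof T (K i) :=
        (mem_normalizer_iff.1 (s.P_le_normY hr) w').1 (mem_sup_left hw'z.1)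
      have hrZ := s.fixed_mem_Z hZ hyT hyQ hrY hfix
      -- write `w' = z w`
      obtain ⟨z, hzc, v, hv, hzv⟩ := CfsgLib.Comp.exists_mul_of_mem_sup
        (((inf_le_left : Wz T (K i) ≤ Zof T).trans
          (elemAb_le_centralizer (elemAb_omegaCenterOf _))).trans
          ((centralizer_le (SetLike.coe_subset_coe.2 inf_le_left)).trans
            (centralizer_le_normalizer _)))
        (s.decompZ.ge hw'z.1 : w' ∈ Zc T (K i) ⊔ Wz T (K i))
      replace hv : v ∈ Wz T (K i) := hv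
      rw [hz] at hv
      rcases mem_zpowers_of_sq (s.sqW w hw) hv with rfl | rfl
      · exact hw'c (by rw [← hzv, mul_one]; exact hzc)
      have hrz : r * z * r⁻¹ = z := by
        have hrC : r ∈ centralizer ({z} : Set G) := by
          refine (sup_le ?_ ?_ : K i ⊔ T ≤ centralizer ({z} : Set G)) hr
          · exact fun k hk => mem_centralizer_singleton_iff.2 (hzc.2 k hk)
          · exact hZ.trans (centralizer_le (Set.singleton_subset_iff.2 hzc.1))
        rw [mul_inv_eq_iff_eq_mul]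
        exact mem_centralizer_singleton_iff.1 hrC
      have hrv : r * v * r⁻¹ = v := by
        have h1 : r * v * r⁻¹ ∈ Wz T (K i) := by
          refine mem_inf.2 ⟨?_, (mem_normalizer_iff.1 (s.P_le_normW hr) v).1 hw⟩
          have e : r * v * r⁻¹ = z⁻¹ * (r * w' * r⁻¹) := by
            calc r * v * r⁻¹ = (r * z * r⁻¹)⁻¹ * (r * (z * v) * r⁻¹) := by group
              _ = _ := by rw [hrz, hzv]
          rw [e]
          exact mul_mem (inv_mem hzc.1) hrZ
        rw [hz] at h1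
        rcases mem_zpowers_of_sq (s.sqW v hw) h1 with e | e
        · exact absurd (conj_eq_one_iff.1 e) hw1
        · exact e
      have hrT : r ∈ T := s.mem_T_of_fix hwz hw1 hr hrv
      -- then a shorter word fails
      cases l₀ with
      | nil =>
        refine hfail' ?_
        rw [hl', List.prod_cons, List.prod_nil, mul_one,
          p.cj_Y (mem_sup_right (inv_mem hrT) : r⁻¹ ∈ K o ⊔ T)]
        exact p.Y_commute hc (!i) o
      | cons h₀ t₀ =>
        have hh₀ : h₀ = h := by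
          rw [hlt] at hlq
          exact (List.cons_eq_cons.1 hlq).1.symm
        refine hfail' ?_
        rw [hl', List.prod_cons, List.prod_cons, ← mul_assoc, ← List.prod_cons]
        refine hmin _ (by simp [hl'] at hlen' ⊢; omega) (fun x hx => ?_) (!i) o
        rcases List.mem_cons.1 hx with rfl | hx
        · exact ⟨!i, mul_mem (mem_sup_right (inv_mem hrT)) (hh₀ ▸ hh)⟩
        · exact hl₀w x (List.mem_cons_of_mem h₀ hx)
  obtain ⟨u, hu, hu1, huw⟩ := exists_mem_ne s'.cardW w'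
  have huQ : u ∈ Qof T (K i) := by
    have := p.Y_le_Q_other hc (!i) (mem_sup_right hu : u ∈ Yof T (K (!i)))
    rwa [Bool.not_not] at this
  have huZ : u ∉ Zof T := fun e => by
    have h1 : u ∈ Wz T (K (!i)) := ⟨e, hu⟩
    rw [hz'] at h1
    exact (mem_zpowers_of_sq (s'.sqW w' hw') h1).elim hu1 huw
  obtain ⟨q₀, hq₀, hq₀'⟩ := p.exists_mem_Q_not_mem i
  obtain ⟨e, he, heQ, heY⟩ := s.exists_commutator_mem hZ (u := u) hyT hyQ
    fun r hr => key r hr u (mem_sup_right hu)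
  have hcomm0 : ⁅q₀, u⁆ = w' := s'.commutator_eq hZ hw'z hw'1 hq₀.1 hq₀' hu huZ
  have hq' : e * q₀ * e⁻¹ ∈ Qof T (K i) :=
    (mem_normalizer_iff.1 (s.P_le_normQ (mem_sup_left he)) q₀).1 hq₀
  set y₀ := ⁅e, u⁆
  have hcy : e * q₀ * e⁻¹ * y₀ = y₀ * (e * q₀ * e⁻¹) :=
    (s.Q_centralizes_Y hZ hq' y₀ heY).symm
  have hew : e * w' * e⁻¹ = ⁅e * q₀ * e⁻¹, u⁆ := by
    rw [← hcomm0]
    have hcu : y₀ * ⁅e * q₀ * e⁻¹, u⁆ * y₀⁻¹ = ⁅e * q₀ * e⁻¹, u⁆ := by
      rw [mul_inv_eq_iff_eq_mul]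
      refine (s.Q_centralizes_Y hZ ?_ y₀ heY)
      exact mul_mem (mul_mem (mul_mem hq' huQ) (inv_mem hq')) (inv_mem huQ)
    calc e * ⁅q₀, u⁆ * e⁻¹ = ⁅e * q₀ * e⁻¹, y₀ * u⁆ := by
          simp only [y₀, commutatorElement_def]; group
      _ = (e * q₀ * e⁻¹ * y₀) * (e * q₀ * e⁻¹)⁻¹ * y₀⁻¹ * (y₀ * ⁅e * q₀ * e⁻¹, u⁆ * y₀⁻¹) := by
          simp only [commutatorElement_def]; group
      _ = _ := by rw [hcy, hcu]; group
  have h1 := s'.commutator_mem hZ hq'.1 (mem_sup_right hu : u ∈ Yof T (K (!i)))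
  rw [← hew, hz'] at h1
  rcases mem_zpowers_of_sq (s'.sqW w' hw') h1 with e' | e'
  · exact hw'1 (conj_eq_one_iff.1 e')
  · exact hw'c (s.mem_Zc_of_fix he heQ hw'z.1 e')

/-- The bad case. -/
theorem bad_false {i : Bool} {Kc : Subgroup G} (sc : Side T Kc)
    (hWc : Wz T (K i) ≤ centralizer (Kc : Set G)) {k : G} (hk : k ∈ Kc ⊔ T)
    (hne : ¬ cj k (Yof T (K i)) ≤ centralizer (Yof T (K i) : Set G)) : False := by
  have hZ := p.T_centralizes
  set s := p.side i
  obtain ⟨w, hw, hw1, hz, hfix, -⟩ := s.exists_point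
  have hwz : w ∈ Wz T (K i) := hz ▸ mem_zpowers w
  have hwsq : w * w = 1 := s.sqW w hw
  have hwc : ∀ g ∈ Kc ⊔ T, g * w * g⁻¹ = w := by
    intro g hg
    rw [mul_inv_eq_iff_eq_mul]
    refine mem_centralizer_singleton_iff.1 ((sup_le ?_ ?_ : Kc ⊔ T ≤ centralizer ({w} : Set G)) hg)
    · exact fun x hx => mem_centralizer_singleton_iff.2 (hWc hwz x hx)
    · exact hZ.trans (centralizer_le (Set.singleton_subset_iff.2 hwz.1))
  -- the four-groups commute
  have hWW : wOf (K i) ≤ centralizer (wOf Kc : Set G) := by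
    by_contra hcon
    have h1 := Wz_eq_of_noncomm sc s hZ hcon
    obtain ⟨wc, hwc', hwc1, hzc, -, -⟩ := sc.exists_point
    have h2 : wc ∈ Wz T Kc := hzc ▸ mem_zpowers wc
    have h3 : wc ∈ Zc T Kc ⊓ wOf Kc := ⟨⟨h2.1, hWc (h1 ▸ h2)⟩, hwc'⟩
    rw [sc.inf_Zc_W] at h3
    exact hwc1 (mem_bot.1 h3)
  have hYQc : Yof T (K i) ≤ Qof T Kc :=
    le_inf s.Y_le_T (sup_le (le_centralizer_iff.1 sc.W_le_centralizerZ) hWW)
  have hkY : cj k (Yof T (K i)) ≤ Qof T Kc := by
    rw [← cj_eq_self (sc.P_le_normQ hk)]; exact cj_mono hYQc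
  have hkT : k ∉ T := fun e => hne (by
    rw [p.cj_Y (mem_sup_right e : k ∈ K i ⊔ T)]
    exact p.Y_commute hc i i)
  obtain ⟨r, hr, hr1, hrw⟩ := exists_mem_ne s.cardW w
  have hYgen : Yof T (K i) = Zof T ⊔ zpowers r := by
    refine le_antisymm (sup_le le_sup_left ?_) (sup_le le_sup_left
      ((zpowers_le.2 hr).trans le_sup_right))
    exact four_le_zpowers_sup s.cardW s.sqW hw hr hw1 hr1 (Ne.symm hrw) (mem_sup_left hwz.1)
      (mem_sup_right (mem_zpowers r))
  have hZQc : ∀ m ∈ Kc ⊔ T, cj m (Zof T) ≤ Yof T Kc := fun m hm => by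
    rw [← cj_eq_self (sc.P_le_normY hm)]; exact cj_mono le_sup_left
  -- the conjugate involution
  set v := k * r * k⁻¹ with hvdef
  have hvY : v ∈ cj k (Yof T (K i)) := conj_mem_cj (mem_sup_right hr)
  have hvQc : v ∈ Qof T Kc := hkY hvY
  have hWcQ : Yof T Kc ≤ Qof T (K i) :=
    le_inf sc.Y_le_T (sup_le (le_centralizer_iff.1 s.W_le_centralizerZ) (le_centralizer_iff.1 hWW))
  have hvQ : v ∉ Qof T (K i) := fun e => hne (by
    refine le_trans ?_ (s.Q_centralizes_Y hZ)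
    rw [hYgen, cj_sup, cj, cj, MonoidHom.map_zpowers]
    exact sup_le ((hZQc k hk).trans hWcQ) (zpowers_le.2 e))
  obtain ⟨t, ht, htc⟩ : ∃ t ∈ Qof T (K i), t ∉ Qof T Kc := by
    by_contra! hcon
    have heq : Qof T (K i) = Qof T Kc := eq_of_le_of_card_ge hcon (by
      have := s.card_T; have := sc.card_T; omega)
    exact hvQ (heq.ge hvQc)
  have hrsq : r * r = 1 := s.sqW r hr
  have hvsq : v * v = 1 := by
    rw [hvdef, show k * r * k⁻¹ * (k * r * k⁻¹) = k * (r * r) * k⁻¹ by group, hrsq]; group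
  set v' := t * v * t⁻¹ with hv'def
  have hv'sq : v' * v' = 1 := by
    rw [hv'def, show t * v * t⁻¹ * (t * v * t⁻¹) = t * (v * v) * t⁻¹ by group, hvsq]; group
  have htP : t ∈ Kc ⊔ T := mem_sup_right ht.1
  -- commutators with the conjugates of `Y` lie in the point
  have hcomm : ∀ m ∈ Kc ⊔ T, ∀ x ∈ cj m (Yof T (K i)), ∀ q ∈ Qof T Kc, ⁅q, x⁆ ∈ zpowers w := by
    intro m hm x hx q hq
    have hx' := mem_cj.1 hx
    have hq' : m⁻¹ * q * m ∈ Qof T Kc := by
      simpa using (mem_normalizer_iff.1 (sc.P_le_normQ (inv_mem hm)) q).1 hq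
    have h1 := s.commutator_mem hZ hq'.1 hx'
    rw [hz] at h1
    rcases mem_zpowers_of_sq hwsq h1 with e | e
    · rw [show ⁅q, x⁆ = m * ⁅m⁻¹ * q * m, m⁻¹ * x * m⁆ * m⁻¹ by
        simp only [commutatorElement_def]; group, e, mul_one, mul_inv_cancel]
      exact one_mem _
    · rw [show ⁅q, x⁆ = m * ⁅m⁻¹ * q * m, m⁻¹ * x * m⁆ * m⁻¹ by
        simp only [commutatorElement_def]; group, e, hwc m hm]
      exact mem_zpowers _
  have hv'Y : v' ∈ cj (t * k) (Yof T (K i)) := by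
    rw [← cj_cj]; exact conj_mem_cj hvY
  have hv'Qc : v' ∈ Qof T Kc :=
    (mem_normalizer_iff.1 (sc.P_le_normQ htP) v).1 hvQc
  -- `v'` and `v` do not commute
  set m := k⁻¹ * t * k with hmdef
  have hmP : m ∈ Kc ⊔ T := mul_mem (mul_mem (inv_mem hk) htP) hk
  have hmT : m ∉ T := by
    intro hm
    apply htc
    refine mem_inf.2 ⟨ht.1, ?_⟩
    by_contra htW
    -- `t` would fix the two points `w_c` and its image under `k`
    obtain ⟨wc, hwc', hwc1, hzc, hfixc, huniq⟩ := sc.exists_point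
    have hkw := (mem_normalizer_iff.1 (sc.P_le_normW hk) wc).1 hwc'
    have e : t * (k * wc * k⁻¹) * t⁻¹ = k * wc * k⁻¹ := by
      calc t * (k * wc * k⁻¹) * t⁻¹ = k * (m * wc * m⁻¹) * k⁻¹ := by rw [hmdef]; group
        _ = _ := by rw [hfixc m hm]
    rcases huniq t ht.1 (fun e' => htW e'.2) _ hkw e with h1 | h1
    · exact hwc1 (conj_eq_one_iff.1 h1)
    · exact hkT (sc.mem_T_of_fix (hzc ▸ mem_zpowers wc) hwc1 hk h1)
  have hnc : ⁅v', v⁆ ≠ 1 := by
    intro e
    have hrm : m * r * m⁻¹ ∈ centralizer ({r} : Set G) := by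
      rw [mem_centralizer_singleton_iff, ← commutatorElement_eq_one_iff_mul_comm]
      have e2 : ⁅m * r * m⁻¹, r⁆ = k⁻¹ * ⁅v', v⁆ * k := by
        rw [hv'def, hvdef, hmdef]; simp only [commutatorElement_def]; group
      rw [e2, e]; group
    have hmY : cj m (Yof T (K i)) ≤ centralizer (Yof T (K i) : Set G) := by
      rw [hYgen, cj_sup, cj, cj, MonoidHom.map_zpowers]
      refine sup_le ?_ (zpowers_le.2 ?_)
      · rw [← hYgen]
        exact ((hZQc m hmP).trans hWcQ).trans (s.Q_centralizes_Y hZ)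
      · have h1 : Zof T ⊔ zpowers r ≤ centralizer ({m * r * m⁻¹} : Set G) := by
          refine sup_le (fun z hzZ => ?_) (zpowers_le.2 ?_)
          · rw [mem_centralizer_singleton_iff]
            have hmr : m * r * m⁻¹ ∈ T := by
              have := (mem_normalizer_iff.1 (sc.P_le_normQ hmP) r).1 (hYQc (mem_sup_right hr))
              exact this.1
            exact hZ hmr z hzZ
          · exact mem_centralizer_singleton_iff.2 (mem_centralizer_singleton_iff.1 hrm).symm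
        exact fun x hx => mem_centralizer_singleton_iff.1 (h1 hx)
    obtain ⟨a, ha, b, hb, hk'⟩ := sc.exists_double_coset hk hmP hkT hmT
    apply hne
    rw [hk', ← cj_cj, ← cj_cj, p.cj_Y (mem_sup_right hb : b ∈ K i ⊔ T)]
    have h2 := cj_mono (g := a) hmY
    rwa [cj_centralizer, p.cj_Y (mem_sup_right ha : a ∈ K i ⊔ T)] at h2
  set u := v' * v with hudef
  have hu2 : u * u = w := by
    have e : u * u = ⁅v', v⁆ := by
      rw [hudef, commutatorElement_def, inv_eq_of_mul_eq_one_right hv'sq,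
        inv_eq_of_mul_eq_one_right hvsq]
      group
    rw [e]
    exact (mem_zpowers_of_sq hwsq (hcomm k hk v hvY v' hv'Qc)).resolve_left hnc
  have huQc : u ∈ Qof T Kc := mul_mem hv'Qc hvQc
  have huQ : u ∈ Qof T (K i) := by
    rw [hudef, hv'def, show t * v * t⁻¹ * v = t * (v * t⁻¹ * v⁻¹) * (v * v) by group, hvsq, mul_one]
    exact mul_mem ht ((mem_normalizer_iff.1 (s.P_le_normQ (mem_sup_right hvQc.1)) _).1 (inv_mem ht))
  have huq : ∀ q ∈ Qof T (K i), ⁅q, u⁆ ∈ zpowers w := by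
    let B : Subgroup G :=
      { carrier := {q | q ∈ T ∧ ⁅q, u⁆ ∈ zpowers w}
        one_mem' := ⟨one_mem _, by rw [commutatorElement_one_left]; exact one_mem _⟩
        mul_mem' := fun {a b} ha hb => ⟨mul_mem ha.1 hb.1, by
          rw [show ⁅a * b, u⁆ = a * ⁅b, u⁆ * a⁻¹ * ⁅a, u⁆ by
            simp only [commutatorElement_def]; group]
          refine mul_mem ?_ ha.2
          rcases mem_zpowers_of_sq hwsq hb.2 with e | e
          · rw [e, mul_one, mul_inv_cancel]; exact one_mem _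
          · rw [e, hfix a ha.1]; exact mem_zpowers _⟩
        inv_mem' := fun {a} ha => ⟨inv_mem ha.1, by
          rw [show ⁅a⁻¹, u⁆ = a⁻¹ * ⁅a, u⁆⁻¹ * a⁻¹⁻¹ by simp only [commutatorElement_def]; group]
          rcases mem_zpowers_of_sq hwsq ha.2 with e | e
          · rw [e, inv_one, mul_one, mul_inv_cancel]; exact one_mem _
          · rw [e, inv_eq_of_mul_eq_one_right hwsq, hfix _ (inv_mem ha.1)]; exact mem_zpowers _⟩ }
    have hQB : Qof T Kc ≤ B := fun q hq => ⟨hq.1, by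
      rw [hudef, show ⁅q, v' * v⁆ = ⁅q, v'⁆ * (v' * ⁅q, v⁆ * v'⁻¹) by
        simp only [commutatorElement_def]; group]
      refine mul_mem (hcomm (t * k) (mul_mem htP hk) v' hv'Y q hq) ?_
      rcases mem_zpowers_of_sq hwsq (hcomm k hk v hvY q hq) with e | e
      · rw [e, mul_one, mul_inv_cancel]; exact one_mem _
      · rw [e, hfix v' hv'Qc.1]; exact mem_zpowers _⟩
    have htt : t * t ∈ Qof T Kc := sc.mul_mem_Q ht.1 ht.1 htc htc
    have htB : t ∈ B := ⟨ht.1, by
      have e : ⁅t, u⁆ = ⁅t * t, v⁆ * (u * u)⁻¹ := by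
        have e0 : ⁅t * t, v⁆ = t * u * t⁻¹ * u := by
          rw [hudef, hv'def, show t * (t * v * t⁻¹ * v) * t⁻¹ * (t * v * t⁻¹ * v) =
            t * t * v * t⁻¹ * (v * v) * t⁻¹ * v by group, hvsq, commutatorElement_def,
            inv_eq_of_mul_eq_one_right hvsq]
          group
        rw [e0, commutatorElement_def]; group
      rw [e, hu2]
      exact mul_mem (hcomm k hk v hvY _ htt) (inv_mem (mem_zpowers w))⟩
    intro q hq
    by_cases hqc : q ∈ Qof T Kc
    · exact (hQB hqc).2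
    · have h1 := B.mul_mem (B.inv_mem htB)
        (hQB (sc.mul_mem_Q ht.1 hq.1 htc hqc) : t * q ∈ B)
      rw [inv_mul_cancel_left] at h1
      exact h1.2
  have key : ∀ x ∈ K i ⊔ T, ⁅x * u * x⁻¹, v⁆ ∈ Yof T (K i) := by
    intro x hx
    have hxu : x * u * x⁻¹ ∈ Qof T (K i) := (mem_normalizer_iff.1 (s.P_le_normQ hx) u).1 huQ
    by_cases hxc : x * u * x⁻¹ ∈ Qof T Kc
    · have h1 := hcomm k hk v hvY _ hxc
      rw [← hz] at h1
      exact mem_sup_left h1.1
    exfalso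
    obtain ⟨wc, hwc', hwc1, hzc, -, -⟩ := sc.exists_point
    have hwcz : wc ∈ Wz T Kc := hzc ▸ mem_zpowers wc
    obtain ⟨a, ha, ha1, haw⟩ := exists_mem_ne sc.cardW wc
    have haZ : a ∉ Zof T := fun e => by
      have h1 : a ∈ Wz T Kc := ⟨e, ha⟩
      rw [hzc] at h1
      exact (mem_zpowers_of_sq (sc.sqW wc hwc') h1).elim ha1 haw
    have h2 := sc.commutator_eq hZ hwcz hwc1 hxu.1 hxc ha haZ
    have ha' : x⁻¹ * a * x ∈ Qof T (K i) := by
      simpa using (mem_normalizer_iff.1 (s.P_le_normQ (inv_mem hx)) a).1 (hWcQ (mem_sup_right ha))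
    have h4 : x⁻¹ * wc * x ∈ zpowers w := by
      have e : x⁻¹ * wc * x = ⁅x⁻¹ * a * x, u⁆⁻¹ := by
        rw [← h2]; simp only [commutatorElement_def]; group
      rw [e]
      exact inv_mem (huq _ ha')
    have h5 : wc ∈ cj x (zpowers w) := mem_cj.2 h4
    have h6 : wc ∈ Wz T (K i) := mem_inf.2 ⟨hwcz.1, by
      rw [← cj_eq_self (s.P_le_normW hx)]
      exact cj_mono (zpowers_le.2 hw) h5⟩
    have h7 : wc ∈ Zc T Kc ⊓ wOf Kc := ⟨⟨hwcz.1, hWc h6⟩, hwc'⟩
    rw [sc.inf_Zc_W] at h7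
    exact hwc1 (mem_bot.1 h7)
  obtain ⟨e, he, heQ, heY⟩ := s.exists_commutator_mem hZ hvQc.1 hvQ key
  have hcy : u * ⁅e, u⁆ = ⁅e, u⁆ * u := (s.Q_centralizes_Y hZ huQ _ heY).symm
  have hy2 : ⁅e, u⁆ * ⁅e, u⁆ = 1 := by rw [← pow_two]; exact s.elemY.2 _ heY
  have hew : e * w * e⁻¹ = w := by
    calc e * w * e⁻¹ = (⁅e, u⁆ * u) * (⁅e, u⁆ * u) := by
          rw [← hu2]; simp only [commutatorElement_def]; group
      _ = ⁅e, u⁆ * (u * ⁅e, u⁆) * u := by group
      _ = (⁅e, u⁆ * ⁅e, u⁆) * (u * u) := by rw [hcy]; group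
      _ = w := by rw [hy2, hu2, one_mul]
  have h8 : w ∈ Zc T (K i) ⊓ wOf (K i) := ⟨s.mem_Zc_of_fix he heQ hwz.1 hew, hw⟩
  rw [s.inf_Zc_W] at h8
  exact hw1 (mem_bot.1 h8)

end Word

/-- The four-groups of the two sides do not commute. -/
theorem not_commute
    (hbad : ∀ i j : Bool, Wz T (K (!i)) ≤ centralizer (K i : Set G) → ∀ g ∈ Γ,
      cj g (Wz T (K j)) = Wz T (K i) →
      ¬ cj g (Yof T (K j)) ≤ centralizer (Yof T (K i) : Set G) →
      ∃ Kc, Side T Kc ∧ Wz T (K i) ≤ centralizer (Kc : Set G) ∧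
        ∃ k ∈ Kc ⊔ T, ¬ cj k (Yof T (K i)) ≤ centralizer (Yof T (K i) : Set G)) :
    ¬ wOf (K false) ≤ centralizer (wOf (K true) : Set G) := by
  intro hc
  classical
  have hex : ∃ n, ∃ l : List G, l.length = n ∧ (∀ x ∈ l, ∃ c, x ∈ K c ⊔ T) ∧
      ∃ i j, ¬ cj l.prod (Yof T (K j)) ≤ centralizer (Yof T (K i) : Set G) := by
    obtain ⟨l, hl, h⟩ := p.exists_failing_word
    exact ⟨_, l, rfl, hl, h⟩
  obtain ⟨l, hlen, hl, i, j, hfail⟩ := Nat.find_spec hex
  have hmin : ∀ l' : List G, l'.length < Nat.find hex → (∀ x ∈ l', ∃ c, x ∈ K c ⊔ T) →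
      ∀ i j, cj l'.prod (Yof T (K j)) ≤ centralizer (Yof T (K i) : Set G) := by
    intro l' hlt hl' i j
    by_contra hne
    exact Nat.find_min hex hlt ⟨l', rfl, hl', i, j, hne⟩
  by_cases hgood : Wz T (K (!i)) ≤ centralizer (K i : Set G)
  · obtain ⟨-, hW, -, -⟩ := p.minimal_props hc hmin hl hlen.le hfail
    obtain ⟨Kc, sc, hWc, k, hk, hne⟩ := hbad i j hgood l.prod
      (list_prod_mem fun x hx => (hl x hx).elim fun c hx' => p.mem_of_side hx') hW hfail
    exact p.bad_false hc sc hWc hk hne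
  · exact p.good_false hc hmin hl hlen.le hfail hgood

end Pair

end CfsgLib.ClassK.ZN
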