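import Cfsg.Agent.Lib.ClassK.ZNLocal
import Cfsg.Agent.Lib.Comp.FFStructure
import Cfsg.Agent.Lib.Comp.FFAmbient
import Cfsg.Agent.Lib.Comp.FFOrbit

/-!
The action of the Thompson subgroup of `L ∈ 𝓛(T)` on `Ω₁(Z(O₂(L)))`: a product of copies of `S₃`,
each moving one plane, expressed inside `G`.
-/

set_option autoImplicit false
set_option linter.unusedSectionVars false

namespace CfsgLib.ClassK.ZN

open Cfsg Subgroup CfsgLib.PLocal CfsgLib.Comp
open scoped commutatorElement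

universe u

variable {G : Type u} [Group G] [Finite G]

/-- The coordinates of `L`: elements `d i` of the odd part and involutions `a i` of `J(T)`. -/
structure Frame (T L P : Subgroup G) {ι : Type u} (a d : ι → G) : Prop where
  P_le : P ≤ L
  L_le_normP : L ≤ normalizer (P : Set G)
  O_le : pCoreOf 2 L ≤ P
  P_le_JL : P ≤ thompsonSubgroupOf 2 L ⊔ pCoreOf 2 L
  JL_le : thompsonSubgroupOf 2 L ≤ P ⊔ thompsonSubgroupOf 2 T
  comm : ∀ g ∈ P, ∀ k ∈ P, ⁅g, k⁆ ∈ Xof L
  two : ∀ R : Subgroup G, IsPGroup 2 R → R ≤ P → R ≤ pCoreOf 2 L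
  a_mem : ∀ i, a i ∈ thompsonSubgroupOf 2 T
  a_sq : ∀ i, a i * a i = 1
  d_mem : ∀ i, d i ∈ P
  d_not : ∀ i, d i ∉ Xof L
  d_cube : ∀ i, d i ^ 3 ∈ Xof L
  d_odd : ∀ i, Odd (orderOf (d i))
  plane : ∀ i, Nat.card ↥(⁅Vof L, zpowers (d i)⁆) = 4
  inv : ∀ i, a i * d i * (a i)⁻¹ * d i ∈ Xof L
  coord : ∀ g ∈ P, ∀ i, ∃ n : ℤ, ⁅g, a i⁆ * d i ^ n ∈ Xof L
  other : ∀ i k, i ≠ k → ⁅d i, a k⁆ ∈ Xof L
  sep : ∀ g ∈ P, (∀ i, ⁅g, a i⁆ ∈ Xof L) → g ∈ Xof L
  stable : ∀ i, ∀ g ∈ thompsonSubgroupOf 2 L,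
    g * d i * g⁻¹ * (d i)⁻¹ ∈ Xof L ∨ g * d i * g⁻¹ * d i ∈ Xof L

theorem card_eq_commutator_mul_fix {X : Type*} [Group X] [Finite X] {A V : Subgroup X}
    (hV : IsElementaryAbelian 2 V) (hA : A ≤ normalizer (V : Set X)) (hodd : Odd (Nat.card A)) :
    Nat.card V = Nat.card ↥(⁅V, A⁆) * Nat.card ↥(V ⊓ centralizer (A : Set X)) := by
  obtain ⟨n, hn⟩ := (elemAb_isPGroup hV).exists_card_eq
  have hcop : (Nat.card A).Coprime (Nat.card V) := hn ▸ Nat.Coprime.pow_right n hodd.coprime_two_right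
  have h1 := CfsgLib.Coprime.commutator_sup_centralizer hA hcop
    (Or.inr (by haveI := (elemAb_isPGroup hV).isNilpotent; infer_instance))
  have h2 : ⁅V, A⁆ ≤ V := le_normalizer_iff_commutator_le_left.1 hA
  conv_lhs => rw [← h1]
  refine CfsgLib.Coprime.card_sup_of_inf_eq_bot ?_ ?_
  · exact ((inf_le_left : _ ≤ V).trans (elemAb_le_centralizer hV)).trans
      ((centralizer_le h2).trans (Subgroup.centralizer_le_normalizer _))
  · rw [inf_comm]
    refine le_bot_iff.1 ?_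
    rw [← CfsgLib.Coprime.commutator_inf_centralizer_eq_bot hV.1 hA hcop]
    exact inf_le_inf_left _ inf_le_right

theorem mem_subgroupOf_centralizer {W : Subgroup G} {L : Subgroup G} (hW : W ≤ L) {x : L} :
    x ∈ centralizer ((W.subgroupOf L : Subgroup L) : Set L) ↔ (x : G) ∈ centralizer (W : Set G) :=
  ⟨fun h w hw => congrArg Subtype.val (h ⟨w, hW hw⟩ hw), fun h w hw => Subtype.ext (h _ hw)⟩

theorem Over.exists_frame {T L : Subgroup G} (h : Over T L) :
    ∃ (ι : Type u) (_ : Finite ι) (_ : Nonempty ι) (P : Subgroup G) (a d : ι → G),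
      Frame T L P a d := by
  classical
  haveI hp2 : Fact (Nat.Prime 2) := ⟨Nat.prime_two⟩
  set V' : Subgroup L := (Vof L).subgroupOf L with hV'def
  haveI : V'.Normal := CfsgLib.Coprime.normal_subgroupOf_of_le_normalizer h.L_le_normV
  have hV' : IsElementaryAbelian 2 V' := elemAb_comap_of_injective L.subtype_injective h.elemV
  have hC : ∀ {x : L}, x ∈ centralizer (V' : Set L) ↔ (x : G) ∈ Xof L := fun {x} =>
    (mem_subgroupOf_centralizer h.V_le_L).trans ⟨fun e => ⟨x.2, e⟩, fun e => e.2⟩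
  have hsep : IsPSolvable 2 L := by
    obtain ⟨k, hk⟩ := CfsgLib.PLength.isPSolvable_of_isSolvable (p := 2) _ L le_rfl h.sol
    exact hk.isPSolvable
  have hO : pCore 2 (L ⧸ centralizer (V' : Set L)) = ⊥ := by
    set P0 := (pCore 2 (L ⧸ centralizer (V' : Set L))).comap (QuotientGroup.mk' (centralizer (V' : Set L)))
      with hP0
    haveI : (pCore 2 (L ⧸ centralizer (V' : Set L))).Normal := CfsgLib.Solvable.pCore_normal 2 _
    haveI : P0.Normal := Normal.comap inferInstance _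
    have hle : P0.map L.subtype ≤ Xof L ⊔ T := by
      rintro _ ⟨x, hx, rfl⟩
      set Tp : Sylow 2 L := (h.pT.of_equiv (subgroupOfEquivOfLe h.T_le).symm).toSylow
        (fun h2 => (Nat.not_even_iff_odd.2 h.mem.1.2.2) (even_iff_two_dvd.2 h2))
      have h1 := CfsgLib.Amalgam.pCore_le_sylow (Sylow.mapSurjective
        (QuotientGroup.mk'_surjective (centralizer (V' : Set L))) Tp) hx
      obtain ⟨t, ht, he⟩ := h1
      have h2 : t⁻¹ * x ∈ centralizer (V' : Set L) := QuotientGroup.eq.1 he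
      rw [show L.subtype x = (t : G) * ((t⁻¹ * x : L) : G) by simp]
      exact mul_mem (mem_sup_right ht) (mem_sup_left (hC.1 h2))
    have hn : L ≤ normalizer ((P0.map L.subtype : Subgroup G) : Set G) := by
      have := le_normalizer_map (H := P0) L.subtype
      rwa [normalizer_eq_top_iff.2 inferInstance, ← MonoidHom.range_eq_map, range_subtype] at this
    have hXP : Xof L ≤ P0.map L.subtype := fun x hx => ⟨⟨x, hx.1⟩, by
      show QuotientGroup.mk' (centralizer (V' : Set L)) ⟨x, hx.1⟩ ∈ pCore 2 _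
      rw [show QuotientGroup.mk' (centralizer (V' : Set L)) ⟨x, hx.1⟩ = 1 from
        (QuotientGroup.eq_one_iff _).2 (hC.2 hx)]
      exact one_mem _, rfl⟩
    have hPX := h.eq_X_of_normal hXP hle hn
    refine (Subgroup.eq_bot_iff_forall _).2 fun q hq => ?_
    obtain ⟨x, rfl⟩ := QuotientGroup.mk'_surjective (centralizer (V' : Set L)) q
    exact (QuotientGroup.eq_one_iff _).2 (hC.2 (hPX.le ⟨x, hq, rfl⟩))
  have S := FF.setup_amb V' hV' hsep hO
  have hS3 := FF.JH_eq_iSup (p := 2) V' hV'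
  set ρ := FF.rho V'
  set Vb := FF.Vb V'
  set H := FF.JH V' 2 with hHdef
  have hρ : ∀ {x : L}, ρ x = 1 ↔ (x : G) ∈ Xof L := fun {x} => by
    rw [← MonoidHom.mem_ker, FF.rho_ker]; exact hC
  set PH := FF.PH 2 H with hPHdef
  set J' : Subgroup L := (thompsonSubgroupOf 2 T).subgroupOf L with hJ'
  have hmaxL : ∀ {A : Subgroup G}, A ∈ maxElemIn 2 T →
      A.subgroupOf L ∈ maxElementaryAbelianSubgroups 2 L := by
    intro A hA
    refine ⟨elemAb_comap_of_injective L.subtype_injective hA.2.1, fun B hB => ?_⟩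
    have h1 := (h.maxElemIn_L hA).2.2 (B.map L.subtype) (map_subtype_le B) (elemAb_map _ hB)
    rwa [card_map_of_injective L.subtype_injective,
      ← CfsgLib.Coprime.card_subgroupOf (hA.1.trans h.T_le)] at h1
  -- the factors met by the images of the members of `A(T)`
  set 𝔅 : Set (Subgroup (FF.Amb V')) :=
    {B | FF.Atom 2 Vb H B ∧ ∃ A ∈ maxElemIn 2 T, B ≤ (A.subgroupOf L).map ρ} with h𝔅
  set s : Finset (Subgroup (FF.Amb V')) := ((FF.Ec 2 H) '' 𝔅).toFinite.toFinset with hs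
  have hsmem : ∀ {E}, E ∈ s ↔ ∃ B ∈ 𝔅, FF.Ec 2 H B = E := fun {E} => by simp [hs]
  have hs' : ∀ E ∈ s, ∃ A, FF.Atom 2 Vb H A ∧ E = FF.Ec 2 H A := fun E hE => by
    obtain ⟨B, hB, e⟩ := hsmem.1 hE; exact ⟨B, hB.1, e.symm⟩
  have hHn : H ≤ normalizer ((s.sup id : Subgroup (FF.Amb V')) : Set (FF.Amb V')) := by
    intro g hg
    refine mem_normalizer_of_cj ?_
    refine eq_of_le_of_card_ge ?_ (card_cj g _).ge
    rw [cj, map_le_iff_le_comap]
    refine Finset.sup_le fun E hE => ?_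
    obtain ⟨A, hA, rfl⟩ := hs' E hE
    rw [← map_le_iff_le_comap]
    exact (cj_eq_self ((FF.factorData S hS3 hA).norm hg)).le.trans (Finset.le_sup (f := id) hE)
  have hJ'X : J'.map ρ ≤ s.sup id := by
    rw [map_le_iff_le_comap]
    intro x hx
    have h1 : thompsonSubgroupOf 2 T ≤ ((s.sup id).comap ρ).map L.subtype := by
      rw [thompsonOf_eq]
      refine sSup_le fun A hA => ?_
      obtain ⟨t, ht, hte⟩ := FF.exists_atom_family S
        (FF.map_maxElem_le_JH V' (hmaxL hA)) (FF.best_map V' hV' (hmaxL hA))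
      intro y hy
      refine ⟨⟨y, h.T_le (hA.1 hy)⟩, ?_, rfl⟩
      have h2 : ρ ⟨y, h.T_le (hA.1 hy)⟩ ∈ t.sup id := by
        rw [hte]; exact mem_map_of_mem _ hy
      refine (show t.sup id ≤ s.sup id from Finset.sup_le fun B hB => ?_) h2
      exact (le_sup_right : B ≤ FF.Ec 2 H B).trans
        (Finset.le_sup (f := id) (hsmem.2 ⟨B, ⟨(ht B hB).2, A, hA, (ht B hB).1⟩, rfl⟩))
    obtain ⟨y, hy, hye⟩ := h1 hx
    rwa [← L.subtype_injective hye]
  have hJH : J'.map ρ ≤ H := by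
    refine map_mono fun x hx => ?_
    obtain ⟨y, hy, hye⟩ := h.J_le_JL hx
    rwa [← L.subtype_injective hye]
  have hHsup : H ≤ s.sup id := by
    rw [hHdef, FF.JH, thompsonSubgroup, map_le_iff_le_comap]
    refine sSup_le fun A hA x hx => ?_
    have hA' : A.map L.subtype ∈ maxElemIn 2 L := by rw [maxElemIn_eq_image]; exact ⟨A, hA, rfl⟩
    obtain ⟨g, hg, hAg⟩ := h.exists_maxElemIn_cj hA'
    obtain ⟨j, hj, hgj⟩ := h.exists_cj_J hg
    have h2 := hAg (mem_map_of_mem L.subtype hx)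
    rw [hgj, mem_cj] at h2
    have hjL : j ∈ L := thompsonOf_le L hj
    have h3 : (⟨j, hjL⟩⁻¹ * x * ⟨j, hjL⟩ : L) ∈ J' := h2
    have h4 := hJ'X (mem_map_of_mem ρ h3)
    have h5 : ρ ⟨j, hjL⟩ ∈ H := by
      refine mem_map_of_mem ρ ?_
      obtain ⟨y, hy, hye⟩ := hj
      rwa [show (⟨j, hjL⟩ : L) = y from L.subtype_injective hye.symm]
    have h6 := (mem_normalizer_iff.1 (hHn h5) _).1 h4
    show ρ x ∈ s.sup id
    convert h6 using 1
    simp [mul_assoc]
  -- choose one atom for each factor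
  have hch : ∀ E : {E // E ∈ s}, ∃ B, B ∈ 𝔅 ∧ FF.Ec 2 H B = E.1 := fun E => hsmem.1 E.2
  choose B hB hBE using hch
  have hBne : ∀ i k, i ≠ k → FF.Ec 2 H (B k) ≠ FF.Ec 2 H (B i) := fun i k hne e =>
    hne (Subtype.ext (by rw [← hBE i, ← hBE k, e]))
  have hcore : ∀ i, Nat.card ↥(FF.Ec 2 H (B i) ⊓ PH) = 3 := fun i => by
    obtain ⟨x, hx, hnc⟩ := FF.exists_not_centralizing S (hB i).1
    rw [FF.Ec_eq_pair S (hB i).1 hx hnc, FF.card_pair_inf_PH S (hB i).1 hx hnc]
    rfl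
  set Q' : Subgroup (FF.Amb V') := ⨆ i, B i with hQ'
  set P' : Subgroup (FF.Amb V') := ⨆ i, (FF.Ec 2 H (B i) ⊓ PH) with hP'
  have hP'PH : P' ≤ PH := iSup_le fun i => inf_le_right
  have hQ'H : Q' ≤ H := iSup_le fun i => (hB i).1.1
  have hcommE : ∀ i k, i ≠ k → FF.Ec 2 H (B k) ≤ centralizer (FF.Ec 2 H (B i) : Set (FF.Amb V')) :=
    fun i k hne => by
      rw [← commutator_eq_bot_iff_le_centralizer, Subgroup.commutator_comm]
      exact le_bot_iff.1 ((commutator_mono le_rfl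
        (FF.other_le_Fc S hS3 (hB i).1 (hB k).1 (hBne i k hne))).trans
        (FF.factorData S hS3 (hB i).1).comm.le)
  have hBc : ∀ i, B i ≤ centralizer (B i : Set (FF.Amb V')) := fun i =>
    elemAb_le_centralizer (FF.elem_of_best S (hB i).1.1 (hB i).1.2.2)
  have hQ'e : ∀ s' : Finset {E // E ∈ s}, IsElementaryAbelian 2 (s'.sup B) := by
    intro s'
    induction s' using Finset.induction_on with
    | empty => rw [Finset.sup_empty]; exact elemAb_bot
    | @insert i s' _ ih =>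
      rw [Finset.sup_insert]
      refine elemAb_sup (FF.elem_of_best S (hB i).1.1 (hB i).1.2.2) ih (le_centralizer_iff.1 ?_)
      refine Finset.sup_le fun k _ => ?_
      by_cases hne : i = k
      · rw [hne]; exact hBc k
      · exact le_sup_right.trans ((hcommE i k hne).trans
          (centralizer_le (le_sup_right : B i ≤ FF.Ec 2 H (B i))))
  have hQ'2 : IsPGroup 2 Q' := by
    have : Q' = (Finset.univ : Finset {E // E ∈ s}).sup B :=
      le_antisymm (iSup_le fun i => Finset.le_sup (Finset.mem_univ i))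
        (Finset.sup_le fun i _ => le_iSup B i)
    rw [this]; exact elemAb_isPGroup (hQ'e _)
  have hHle : H ≤ P' ⊔ Q' := by
    refine hHsup.trans (Finset.sup_le fun E hE => ?_)
    rw [show (id E : Subgroup (FF.Amb V')) = FF.Ec 2 H (B ⟨E, hE⟩) from (hBE ⟨E, hE⟩).symm]
    refine sup_le ?_ ((le_iSup B _).trans le_sup_right)
    refine le_trans ?_ ((le_iSup (fun i => FF.Ec 2 H (B i) ⊓ PH) ⟨E, hE⟩).trans le_sup_left)
    exact le_inf le_sup_left
      (le_normalizer_iff_commutator_le_left.1 ((hB ⟨E, hE⟩).1.1.trans FF.le_normalizer_PH))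
  have hQ'P' : Q' ≤ normalizer (P' : Set (FF.Amb V')) :=
    CfsgLib.Comp.le_normalizer_iSup _ fun i => hQ'H.trans
      (FF.le_normalizer_inf (FF.factorData S hS3 (hB i).1).norm FF.le_normalizer_PH)
  have hPHeq : PH = P' := by
    refine le_antisymm (fun x hx => ?_) hP'PH
    obtain ⟨p, hp, q, hq, rfl⟩ := CfsgLib.Comp.exists_mul_of_mem_sup hQ'P' (hHle (FF.PH_le hx))
    have hq' : q ∈ Q' ⊓ PH := ⟨hq, (mul_mem_cancel_left (hP'PH hp)).1 hx⟩
    rw [FF.isPGroup_inf_PH hQ'2, mem_bot] at hq'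
    rw [hq', mul_one]; exact hp
  have hPHc : PH ≤ centralizer (PH : Set (FF.Amb V')) := by
    rw [hPHeq]
    refine iSup_le fun i => le_centralizer_iff.1 (iSup_le fun k => ?_)
    by_cases hne : i = k
    · rw [hne]
      haveI : Fact (Nat.Prime 3) := ⟨Nat.prime_three⟩
      haveI : IsCyclic ↥(FF.Ec 2 H (B k) ⊓ PH) := isCyclic_of_prime_card (hcore k)
      exact le_centralizer_iff_isMulCommutative.2 inferInstance
    · exact inf_le_left.trans ((hcommE i k hne).trans (centralizer_le inf_le_left))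
  -- coordinates
  have hdata : ∀ i, ∃ (a : L) (d : L), (a : G) ∈ thompsonSubgroupOf 2 T ∧ a * a = 1 ∧
      ρ a ∈ B i ∧ ρ a ≠ 1 ∧ zpowers (ρ a) = B i ∧ d ∈ thompsonSubgroup 2 L ∧ Odd (orderOf d) ∧
      ρ d ∈ FF.Ec 2 H (B i) ⊓ PH ∧ ρ d ≠ 1 ∧ zpowers (ρ d) = FF.Ec 2 H (B i) ⊓ PH := by
    intro i
    obtain ⟨A, hA, hBA⟩ := (hB i).2
    obtain ⟨b, hb, hb1⟩ := (Subgroup.ne_bot_iff_exists_ne_one.1 (FF.ne_bot_of_atom (hB i).1))
      |> fun ⟨b, hb⟩ => (⟨(b : FF.Amb V'), b.2, fun e => hb (Subtype.ext e)⟩ :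
        ∃ b ∈ B i, b ≠ 1)
    obtain ⟨a, ha, rfl⟩ := hBA hb
    obtain ⟨c, hc, hc1⟩ : ∃ c ∈ FF.Ec 2 H (B i) ⊓ PH, c ≠ 1 := by
      by_contra! hcon
      have h0 := hcore i
      rw [(Subgroup.eq_bot_iff_forall _).2 hcon, Subgroup.card_bot] at h0
      omega
    haveI : Fact (Nat.Prime 3) := ⟨Nat.prime_three⟩
    have hc3 : c ^ 3 = 1 := by
      rw [← hcore i, ← orderOf_dvd_iff_pow_eq_one]; exact Subgroup.orderOf_dvd_natCard _ hc
    obtain ⟨y, hy, rfl⟩ : c ∈ H := FF.PH_le hc.2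
    obtain ⟨k, o, ho, hk⟩ := Nat.exists_eq_two_pow_mul_odd (orderOf_pos y).ne'
    have hd1 : ρ (y ^ 2 ^ k) ≠ 1 := by
      rw [map_pow]
      intro e
      have := (Nat.Coprime.pow_right k (by norm_num : Nat.Coprime 3 2))
      exact hc1 ((orderOf_eq_one_iff).1 (Nat.eq_one_of_dvd_coprimes this
        (orderOf_dvd_iff_pow_eq_one.2 hc3) (orderOf_dvd_iff_pow_eq_one.2 e)))
    have hd : ρ (y ^ 2 ^ k) ∈ FF.Ec 2 H (B i) ⊓ PH := by rw [map_pow]; exact pow_mem hc _
    refine ⟨a, y ^ 2 ^ k, le_thompsonOf hA ha, Subtype.ext (by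
      show (a : G) * a = 1
      rw [← pow_two]; exact hA.2.1.2 _ ha), hb, hb1, ?_, pow_mem hy _, ?_, hd, hd1, ?_⟩
    · exact (FF.eq_bot_or_eq_of_atom (hB i).1 (zpowers_le.2 hb)).resolve_left
        (fun e => hb1 (zpowers_eq_bot.1 e))
    · rw [orderOf_pow' _ (by positivity), hk, Nat.gcd_eq_right (dvd_mul_right _ _),
        Nat.mul_div_cancel_left _ (by positivity)]
      exact ho
    · refine eq_of_le_of_card_ge (zpowers_le.2 hd) ?_
      rw [hcore i, Nat.card_zpowers]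
      have h3 : orderOf (ρ (y ^ 2 ^ k)) ∣ 3 := hcore i ▸ Subgroup.orderOf_dvd_natCard _ hd
      exact ((Nat.dvd_prime Nat.prime_three).1 h3).resolve_left
        (fun e => hd1 (orderOf_eq_one_iff.1 e)) |>.ge
  choose a d haJ ha2 haB ha1 hza hdJ hdodd hdC hd1 hzd using hdata
  set P1 : Subgroup L := ((PH.comap ρ) ⊓ thompsonSubgroup 2 L) ⊔ pCore 2 L with hP1
  have hρO : ∀ {x : L}, x ∈ pCore 2 L → ρ x = 1 := fun {x} hx => hρ.2 (h.O_le_X ⟨x, hx, rfl⟩)
  have hP1PH : P1 ≤ PH.comap ρ := sup_le inf_le_left fun x hx => by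
    rw [mem_comap, hρO hx]; exact one_mem _
  haveI : (thompsonSubgroup 2 L).Characteristic := thompson_characteristic
  have hmemP : ∀ {g : G}, g ∈ P1.map L.subtype → ∃ x : L, (x : G) = g ∧ ρ x ∈ PH := by
    rintro _ ⟨x, hx, rfl⟩; exact ⟨x, rfl, hP1PH hx⟩
  refine ⟨{E // E ∈ s}, inferInstance, ?_, P1.map L.subtype, fun i => (a i : G), fun i => (d i : G),
    { P_le := map_subtype_le _
      L_le_normP := ?_
      O_le := map_mono le_sup_right
      P_le_JL := ?_
      JL_le := ?_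
      comm := ?_
      two := ?_
      a_mem := haJ
      a_sq := fun i => congrArg Subtype.val (ha2 i)
      d_mem := fun i => mem_map_of_mem _ (mem_sup_left ⟨(hdC i).2, hdJ i⟩)
      d_not := fun i hd => hd1 i (hρ.2 hd)
      d_cube := ?_
      d_odd := fun i => by rw [Subgroup.orderOf_coe]; exact hdodd i
      plane := ?_
      inv := ?_
      coord := ?_
      other := ?_
      sep := ?_
      stable := ?_ }⟩
  · rw [nonempty_subtype]
    by_contra! hcon
    have hse : s = ∅ := Finset.eq_empty_of_forall_notMem hcon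
    refine h.not_J_le_X fun x hx => ?_
    have h1 : ρ (⟨x, h.J_le_L hx⟩ : L) ∈ s.sup id := hJ'X (mem_map_of_mem ρ hx)
    rw [hse, Finset.sup_empty, mem_bot] at h1
    exact hρ.1 h1
  · -- normality
    have hHρ : ∀ x : L, ρ x ∈ normalizer (PH : Set (FF.Amb V')) := by
      intro x
      refine mem_normalizer_of_cj ?_
      have hH : cj (ρ x) H = H := by
        rw [hHdef, FF.JH, cj, ← CfsgLib.Coprime.map_conj_map,
          CfsgLib.Coprime.map_conj_of_mem_normalizer]
        rw [normalizer_eq_top_iff.2 inferInstance]; exact mem_top x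
      exact FF.PH_map hH
    haveI : ((PH.comap ρ) ⊓ thompsonSubgroup 2 L).Normal := by
      haveI : (PH.comap ρ).Normal := ⟨fun y hy g => by
        rw [mem_comap, map_mul, map_mul, map_inv]; exact (mem_normalizer_iff.1 (hHρ g) _).1 hy⟩
      infer_instance
    haveI : (pCore 2 L).Normal := CfsgLib.Solvable.pCore_normal 2 L
    haveI : P1.Normal := inferInstanceAs ((_ ⊔ _ : Subgroup L)).Normal
    have := le_normalizer_map (H := P1) L.subtype
    rwa [normalizer_eq_top_iff.2 inferInstance, ← MonoidHom.range_eq_map, range_subtype] at this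
  · rw [Subgroup.map_sup]
    exact sup_le_sup (map_mono inf_le_right) le_rfl
  · intro g hg
    obtain ⟨y, hy, rfl⟩ := hg
    have hyH : ρ y ∈ H := mem_map_of_mem ρ hy
    obtain ⟨p, hp, q, hq, hpq⟩ := CfsgLib.Comp.exists_mul_of_mem_sup hQ'P' (hHle hyH)
    have hqJ : Q' ≤ J'.map ρ := iSup_le fun i => by
      rw [← hza i, zpowers_le]; exact mem_map_of_mem ρ (haJ i)
    obtain ⟨j, hj, rfl⟩ := hqJ hq
    have hjT : j ∈ thompsonSubgroup 2 L := by
      obtain ⟨z, hz, hze⟩ := h.J_le_JL hj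
      rwa [← L.subtype_injective hze]
    have h1 : y * j⁻¹ ∈ P1 := by
      refine mem_sup_left (mem_inf.2 ⟨?_, mul_mem hy (inv_mem hjT)⟩)
      show ρ (y * j⁻¹) ∈ PH
      rw [map_mul, map_inv, ← hpq, mul_inv_cancel_right]
      exact hP'PH hp
    rw [show L.subtype y = L.subtype (y * j⁻¹) * (j : G) by simp]
    exact mul_mem (mem_sup_left (mem_map_of_mem _ h1)) (mem_sup_right hj)
  · intro g hg k hk
    obtain ⟨x, rfl, hx⟩ := hmemP hg
    obtain ⟨y, rfl, hy⟩ := hmemP hk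
    refine (hρ (x := ⁅x, y⁆)).1 ?_
    rw [map_commutatorElement, commutatorElement_eq_one_iff_mul_comm]
    exact (hPHc hx _ hy).symm
  · intro R hR hRP
    refine h.le_O_of_le_X hR fun g hg => ?_
    obtain ⟨x, rfl, hx⟩ := hmemP (hRP hg)
    have h2 : IsPGroup 2 ↥(zpowers (ρ x)) := by
      obtain ⟨n, hn⟩ := hR ⟨_, hg⟩
      rintro ⟨y, m, rfl⟩
      refine ⟨n, Subtype.ext ?_⟩
      have hxn : x ^ 2 ^ n = 1 := Subtype.ext (by simpa using congrArg Subtype.val hn)
      show (ρ x ^ m) ^ 2 ^ n = 1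
      rw [← zpow_natCast, ← zpow_mul, mul_comm, zpow_mul, zpow_natCast, ← map_pow, hxn, map_one,
        one_zpow]
    have h3 : ρ x ∈ zpowers (ρ x) ⊓ PH := ⟨mem_zpowers _, hx⟩
    rw [FF.isPGroup_inf_PH h2, mem_bot] at h3
    exact hρ.1 h3
  · intro i
    refine (hρ (x := d i ^ 3)).1 ?_
    rw [map_pow, ← hcore i, ← orderOf_dvd_iff_pow_eq_one]
    exact Subgroup.orderOf_dvd_natCard _ (hdC i)
  · intro i
    have hcA := card_eq_commutator_mul_fix (A := zpowers (d i : G)) h.elemV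
      (zpowers_le.2 (h.L_le_normV (d i).2))
      (by rw [Nat.card_zpowers, Subgroup.orderOf_coe]; exact hdodd i)
    have hcB := card_eq_commutator_mul_fix (A := FF.Ec 2 H (B i) ⊓ PH) S.elem
      ((inf_le_right.trans FF.PH_le).trans S.norm) (by rw [hcore i]; exact ⟨1, rfl⟩)
    rw [(FF.ecData S (hB i).1).core, (FF.ecData S (hB i).1).card] at hcB
    have hm : (zpowers (d i)).map ρ = FF.Ec 2 H (B i) ⊓ PH := by
      rw [MonoidHom.map_zpowers, hzd i]
    have hVc : Nat.card ↥Vb = Nat.card V' :=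
      (Nat.card_congr (MonoidHom.ofInjective (FF.iota_injective V')).toEquiv).symm
    rw [← hm, FF.card_fix_map, hVc, CfsgLib.Coprime.card_subgroupOf h.V_le_L] at hcB
    have hfix : Nat.card ↥(V' ⊓ centralizer (zpowers (d i) : Set L)) =
        Nat.card ↥(Vof L ⊓ centralizer (zpowers (d i : G) : Set G)) := by
      rw [← card_map_of_injective (f := L.subtype) L.subtype_injective]
      congr 1
      refine congrArg (fun W : Subgroup G => ↥W) ?_
      ext g
      constructor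
      · rintro ⟨x, ⟨hx, hxc⟩, rfl⟩
        refine ⟨hx, ?_⟩
        rintro _ ⟨m, rfl⟩
        simpa using congrArg Subtype.val (hxc _ ⟨m, rfl⟩)
      · rintro ⟨hg, hgc⟩
        refine ⟨⟨g, h.V_le_L hg⟩, ⟨hg, ?_⟩, rfl⟩
        rintro _ ⟨m, rfl⟩
        exact Subtype.ext (by simpa using hgc _ ⟨m, rfl⟩)
    rw [hfix, hcA] at hcB
    exact (Nat.eq_of_mul_eq_mul_right Nat.card_pos hcB).trans (by norm_num)
  · -- the involution inverts the odd element
    intro i
    refine (hρ (x := a i * d i * (a i)⁻¹ * d i)).1 ?_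
    rw [map_mul, map_mul, map_mul, map_inv]
    have hnorm : ρ (a i) ∈ normalizer ((FF.Ec 2 H (B i) ⊓ PH : Subgroup (FF.Amb V')) :
        Set (FF.Amb V')) :=
      FF.le_normalizer_inf (FF.factorData S hS3 (hB i).1).norm FF.le_normalizer_PH
        ((hB i).1.1 (haB i))
    have himg := (mem_normalizer_iff.1 hnorm _).1 (hdC i)
    rw [← hzd i] at himg
    obtain ⟨m, hm⟩ := himg
    replace hm : ρ (d i) ^ m = ρ (a i) * ρ (d i) * (ρ (a i))⁻¹ := hm
    have h3 : ρ (d i) ^ (3 : ℕ) = 1 := by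
      rw [← hcore i, ← orderOf_dvd_iff_pow_eq_one]
      exact Subgroup.orderOf_dvd_natCard _ (hdC i)
    have hcases : m % 3 = 0 ∨ m % 3 = 1 ∨ m % 3 = 2 := by omega
    have hmod : ρ (d i) ^ m = ρ (d i) ^ (m % 3) := by
      conv_lhs => rw [← Int.emod_add_mul_ediv m 3]
      rw [zpow_add, zpow_mul, zpow_ofNat, h3, one_zpow, mul_one]
    rw [← hm, hmod]
    rcases hcases with e | e | e
    · exfalso
      rw [hmod, e, zpow_zero] at hm
      exact hd1 i (conj_eq_one_iff.1 hm.symm)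
    · exfalso
      rw [hmod, e, zpow_one] at hm
      -- then the atom centralizes its core and `Ec` is abelian
      have hc : ρ (d i) * ρ (a i) = ρ (a i) * ρ (d i) := eq_mul_inv_iff_mul_eq.1 hm
      have h0 : FF.Ec 2 H (B i) ⊓ PH ≤ centralizer (B i : Set (FF.Amb V')) := by
        rw [← hzd i, zpowers_le, ← hza i, zpowers_eq_closure, centralizer_closure,
          mem_centralizer_singleton_iff]
        exact hc
      obtain ⟨x, hx, hnc⟩ := FF.exists_not_centralizing S (hB i).1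
      refine hnc fun b hb => ?_
      have h7 : ⁅x, b⁆ ∈ FF.Ec 2 H (B i) ⊓ PH := ⟨mem_sup_left (commutator_mem_commutator hx hb),
        le_normalizer_iff_commutator_le_left.1 ((hB i).1.1.trans FF.le_normalizer_PH)
          (commutator_mem_commutator hx hb)⟩
      have h8 : b * ⁅x, b⁆ = ⁅x, b⁆ * b := h0 h7 b hb
      have hb2 : b * b = 1 := by
        rw [← pow_two]; exact (FF.elem_of_best S (hB i).1.1 (hB i).1.2.2).2 b hb
      have h9 : ⁅x, b⁆ * ⁅x, b⁆ = 1 := by
        have e1 : (⁅x, b⁆ * b) * (⁅x, b⁆ * b) = 1 := by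
          rw [show ⁅x, b⁆ * b = x * b * x⁻¹ by rw [commutatorElement_def]; group,
            show x * b * x⁻¹ * (x * b * x⁻¹) = x * (b * b) * x⁻¹ by group, hb2, mul_one,
            mul_inv_cancel]
        rw [mul_assoc, ← mul_assoc b, h8, mul_assoc, hb2, mul_one] at e1
        exact e1
      have h10 : ⁅x, b⁆ = 1 := by
        have h11 : ⁅x, b⁆ ^ 3 = 1 := by
          rw [← hcore i, ← orderOf_dvd_iff_pow_eq_one]; exact Subgroup.orderOf_dvd_natCard _ h7
        rwa [pow_succ, pow_two, h9, one_mul] at h11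
      exact (commutatorElement_eq_one_iff_mul_comm.1 h10).symm
    · rw [e, ← zpow_add_one]
      rw [show (2 : ℤ) + 1 = (3 : ℕ) by norm_num, zpow_natCast, h3]
  · intro g hg i
    obtain ⟨x, rfl, hx⟩ := hmemP hg
    have hmem : ρ ⁅x, a i⁆ ∈ FF.Ec 2 H (B i) ⊓ PH := by
      rw [map_commutatorElement]
      refine mem_inf.2 ⟨?_, ?_⟩
      · rw [commutatorElement_def]
        exact mul_mem ((mem_normalizer_iff.1
          ((FF.factorData S hS3 (hB i).1).norm (FF.PH_le hx)) _).1 (mem_sup_right (haB i)))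
          (inv_mem (mem_sup_right (haB i)))
      · exact le_normalizer_iff_commutator_le_left.1 ((hB i).1.1.trans FF.le_normalizer_PH)
          (commutator_mem_commutator hx (haB i))
    rw [← hzd i] at hmem
    obtain ⟨n, hn⟩ := hmem
    refine ⟨-n, (hρ (x := ⁅x, a i⁆ * d i ^ (-n))).1 ?_⟩
    rw [map_mul, map_zpow, ← hn, ← zpow_add, add_neg_cancel, zpow_zero]
  · intro i k hne
    refine (hρ (x := ⁅d i, a k⁆)).1 ?_
    rw [map_commutatorElement, commutatorElement_eq_one_iff_mul_comm]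
    exact (hcommE k i (Ne.symm hne) (hdC i).1 _ (mem_sup_right (haB k))).symm
  · intro g hg hga
    obtain ⟨x, rfl, hx⟩ := hmemP hg
    refine hρ.1 ?_
    have hcen : H ≤ centralizer ({ρ x} : Set (FF.Amb V')) := by
      refine hHle.trans (sup_le (fun y hy => ?_) ?_)
      · exact mem_centralizer_singleton_iff.2 (hPHc (hP'PH hy) _ hx).symm
      · refine iSup_le fun i => ?_
        rw [← hza i, zpowers_le, mem_centralizer_singleton_iff]
        have h1 : ρ ⁅x, a i⁆ = 1 := hρ.2 (hga i)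
        rw [map_commutatorElement, commutatorElement_eq_one_iff_mul_comm] at h1
        exact h1.symm
    have hxH : ρ x ∈ H := FF.PH_le hx
    have hplane : s.sup (fun E => ⁅Vb, E⁆) ≤ centralizer ({ρ x} : Set (FF.Amb V')) := by
      refine Finset.sup_le fun E hE => ?_
      rw [← show FF.Ec 2 H (B ⟨E, hE⟩) = E from hBE ⟨E, hE⟩]
      set i : {E // E ∈ s} := ⟨E, hE⟩
      have hd := FF.ecData S (hB i).1
      set W := ⁅Vb, FF.Ec 2 H (B i)⁆ with hW
      have hWV : W ≤ Vb := le_normalizer_iff_commutator_le_left.1 (hd.le.trans S.norm)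
      have hW4 : Nat.card W = 4 := by rw [hd.card]; rfl
      have hW2 : ∀ w ∈ W, w * w = 1 := fun w hw => by rw [← pow_two]; exact S.elem.2 w (hWV hw)
      have hBW : B i ≤ normalizer (W : Set (FF.Amb V')) :=
        (hB i).1.1.trans (FF.factorData S hS3 (hB i).1).normU
      have hWp : IsPGroup 2 W := (elemAb_isPGroup S.elem).to_le hWV
      obtain ⟨⟨w, hw, hwB⟩, hw1⟩ := Subgroup.ne_bot_iff_exists_ne_one.1
        (CfsgLib.Amalgam.inf_centralizer_ne_bot
          (elemAb_isPGroup (FF.elem_of_best S (hB i).1.1 (hB i).1.2.2)) hWp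
          (fun e => by rw [e, Subgroup.card_bot] at hW4; omega) hBW)
      replace hw1 : w ≠ 1 := fun e => hw1 (Subtype.ext e)
      have hxodd : Odd (orderOf (ρ x)) := by
        rw [← Nat.not_even_iff_odd, even_iff_two_dvd]
        intro h2
        exact FF.not_dvd_card_PH (p := 2) (H := H) (h2.trans (Subgroup.orderOf_dvd_natCard _ hx))
      have hbx : ρ (a i) * ρ x = ρ x * ρ (a i) :=
        mem_centralizer_singleton_iff.1 (hcen ((hB i).1.1 (haB i)))
      have hxW : ρ x ∈ normalizer (W : Set (FF.Amb V')) := (FF.factorData S hS3 (hB i).1).normU hxH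
      have haW : ρ (a i) ∈ normalizer (W : Set (FF.Amb V')) := hBW (haB i)
      have hanot : ρ (a i) ∉ centralizer (W : Set (FF.Amb V')) := fun hc => ha1 i
        (mem_bot.1 (hd.faith.le ⟨mem_sup_right (haB i), hc⟩))
      have hwx : ρ x * w * (ρ x)⁻¹ = w := by
        have hw' := (mem_normalizer_iff.1 hxW w).1 hw
        have haw : ρ (a i) * w * (ρ (a i))⁻¹ = w := mul_inv_eq_iff_eq_mul.2 (hwB _ (haB i))
        have hfx : ρ (a i) * (ρ x * w * (ρ x)⁻¹) * (ρ (a i))⁻¹ = ρ x * w * (ρ x)⁻¹ := by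
          calc ρ (a i) * (ρ x * w * (ρ x)⁻¹) * (ρ (a i))⁻¹
              = (ρ (a i) * ρ x) * w * (ρ (a i) * ρ x)⁻¹ := by group
            _ = ρ x * (ρ (a i) * w * (ρ (a i))⁻¹) * (ρ x)⁻¹ := by rw [hbx]; group
            _ = _ := by rw [haw]
        by_contra hne
        exact hanot (mem_centralizer_four hW4 hW2 hw hw' hw1
          (fun e => hw1 (conj_eq_one_iff.1 e)) (Ne.symm hne) haw hfx)
      have hxc := four_odd_fix hW4 hW2 hxW hxodd hw hw1 hwx
      exact fun v hv => mem_centralizer_singleton_iff.2 (hxc v hv)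
    have hVx : Vb ≤ centralizer ({ρ x} : Set (FF.Amb V')) := by
      refine (FF.planes_finset S hS3 s hs').2.trans (sup_le hplane fun v hv => ?_)
      exact mem_centralizer_singleton_iff.2 (hv.2 _ (hHsup hxH)).symm
    exact mem_bot.1 (S.faith.le ⟨hxH, fun v hv => mem_centralizer_singleton_iff.1 (hVx hv)⟩)
  · intro i g hg
    obtain ⟨y, hy, rfl⟩ := hg
    have hyH : ρ y ∈ H := mem_map_of_mem ρ hy
    have himg := (mem_normalizer_iff.1 (FF.le_normalizer_inf (FF.factorData S hS3 (hB i).1).norm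
      FF.le_normalizer_PH hyH) _).1 (hdC i)
    rw [← hzd i] at himg
    obtain ⟨m, hm⟩ := himg
    replace hm : ρ (d i) ^ m = ρ y * ρ (d i) * (ρ y)⁻¹ := hm
    have h3 : ρ (d i) ^ (3 : ℕ) = 1 := by
      rw [← hcore i, ← orderOf_dvd_iff_pow_eq_one]
      exact Subgroup.orderOf_dvd_natCard _ (hdC i)
    have hcases : m % 3 = 0 ∨ m % 3 = 1 ∨ m % 3 = 2 := by omega
    have hmod : ρ (d i) ^ m = ρ (d i) ^ (m % 3) := by
      conv_lhs => rw [← Int.emod_add_mul_ediv m 3]
      rw [zpow_add, zpow_mul, zpow_ofNat, h3, one_zpow, mul_one]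
    rw [hmod] at hm
    rcases hcases with e | e | e <;> rw [e] at hm
    · rw [zpow_zero] at hm; exact absurd (conj_eq_one_iff.1 hm.symm) (hd1 i)
    · refine Or.inl ((hρ (x := y * d i * y⁻¹ * (d i)⁻¹)).1 ?_)
      rw [zpow_one] at hm
      rw [map_mul, map_mul, map_mul, map_inv, map_inv, ← hm, mul_inv_cancel]
    · refine Or.inr ((hρ (x := y * d i * y⁻¹ * d i)).1 ?_)
      rw [map_mul, map_mul, map_mul, map_inv, ← hm, ← zpow_add_one,
        show (2 : ℤ) + 1 = (3 : ℕ) by norm_num, zpow_natCast, h3]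

end CfsgLib.ClassK.ZN
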