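import Cfsg.Prelude.Def_JComponents
import Cfsg.Agent.Lib.PLocal.Thompson
import Cfsg.Agent.Lib.Amalgam.CharP
import Cfsg.Agent.Lib.Amalgam.WeaklyClosed
import Cfsg.Agent.Lib.PGroup.Uniserial
import Cfsg.Agent.Lib.Comp.Normalize

/-!
Conjugation calculus, largest elementary abelian subgroups, four-groups and abelian groups with a
single nontrivial fixed point, used for the `J(T)`-component cluster.
-/

set_option autoImplicit false
set_option linter.unusedSectionVars false

namespace CfsgLib.ClassK.ZN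

open Cfsg Subgroup CfsgLib.PLocal
open scoped commutatorElement

variable {G : Type*} [Group G]

/-- `g H g⁻¹`. -/
abbrev cj (g : G) (H : Subgroup G) : Subgroup G := H.map (MulAut.conj g).toMonoidHom

theorem mem_cj {g x : G} {H : Subgroup G} : x ∈ cj g H ↔ g⁻¹ * x * g ∈ H := by
  rw [cj, mem_map_equiv]
  simp [MulAut.conj_symm_apply]

theorem conj_mem_cj {g x : G} {H : Subgroup G} (h : x ∈ H) : g * x * g⁻¹ ∈ cj g H := ⟨x, h, rfl⟩

theorem cj_cj (g h : G) (H : Subgroup G) : cj g (cj h H) = cj (g * h) H :=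
  CfsgLib.Coprime.map_conj_conj g h H

theorem cj_one (H : Subgroup G) : cj 1 H = H := CfsgLib.Comp.map_conj_one H

theorem cj_inv_cj (g : G) (H : Subgroup G) : cj g⁻¹ (cj g H) = H := by
  rw [cj_cj, inv_mul_cancel, cj_one]

theorem cj_cj_inv (g : G) (H : Subgroup G) : cj g (cj g⁻¹ H) = H := by
  rw [cj_cj, mul_inv_cancel, cj_one]

theorem cj_mono {g : G} {H K : Subgroup G} (h : H ≤ K) : cj g H ≤ cj g K := map_mono h

theorem cj_le_iff {g : G} {H K : Subgroup G} : cj g H ≤ K ↔ H ≤ cj g⁻¹ K := by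
  constructor
  · intro h; have := cj_mono (g := g⁻¹) h; rwa [cj_inv_cj] at this
  · intro h; have := cj_mono (g := g) h; rwa [cj_cj_inv] at this

theorem cj_eq_self {g : G} {H : Subgroup G} (h : g ∈ normalizer (H : Set G)) : cj g H = H :=
  CfsgLib.Coprime.map_conj_of_mem_normalizer h

theorem mem_normalizer_of_cj {g : G} {H : Subgroup G} (h : cj g H = H) :
    g ∈ normalizer (H : Set G) := by
  rw [mem_normalizer_iff]
  intro x
  conv_rhs => rw [← h, mem_cj]
  simp [mul_assoc]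

theorem card_cj (g : G) (H : Subgroup G) : Nat.card ↥(cj g H) = Nat.card H :=
  CfsgLib.Coprime.card_map_conj g H

theorem cj_sup (g : G) (H K : Subgroup G) : cj g (H ⊔ K) = cj g H ⊔ cj g K := Subgroup.map_sup _ _ _

theorem cj_inf (g : G) (H K : Subgroup G) : cj g (H ⊓ K) = cj g H ⊓ cj g K :=
  Subgroup.map_inf _ _ _ (MulEquiv.injective _)

theorem cj_commutator (g : G) (H K : Subgroup G) : cj g ⁅H, K⁆ = ⁅cj g H, cj g K⁆ :=
  map_commutator _ _ _

theorem cj_centralizer (g : G) (S : Subgroup G) :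
    cj g (centralizer (S : Set G)) = centralizer (cj g S : Set G) := by
  ext x
  rw [mem_cj, mem_centralizer_iff, mem_centralizer_iff]
  constructor
  · rintro h _ ⟨s, hs, rfl⟩
    show g * s * g⁻¹ * x = x * (g * s * g⁻¹)
    calc g * s * g⁻¹ * x = g * (s * (g⁻¹ * x * g)) * g⁻¹ := by group
      _ = _ := by rw [h s hs]; group
  · intro h s hs
    have h1 : g * s * g⁻¹ * x = x * (g * s * g⁻¹) := h _ ⟨s, hs, rfl⟩
    calc s * (g⁻¹ * x * g) = g⁻¹ * (g * s * g⁻¹ * x) * g := by group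
      _ = _ := by rw [h1]; group

theorem cj_omegaCenterOf (g : G) (X : Subgroup G) :
    cj g (omegaCenterOf X) = omegaCenterOf (cj g X) := by
  unfold Cfsg.omegaCenterOf
  rw [cj, omegaOne_map_equiv, ← cj, cj_inf, cj_centralizer]

theorem cj_pCoreOf (p : ℕ) (g : G) (H : Subgroup G) : cj g (pCoreOf p H) = pCoreOf p (cj g H) :=
  (CfsgLib.Amalgam.pCoreOf_map _ (MulEquiv.injective _) H).symm

theorem cj_wOf (g : G) (K : Subgroup G) : cj g (wOf K) = wOf (cj g K) := by
  unfold Cfsg.wOf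
  rw [cj_commutator, cj_omegaCenterOf, cj_pCoreOf]

theorem cj_thompson (g : G) (U : Subgroup G) :
    cj g (thompsonSubgroupOf 2 U) = thompsonSubgroupOf 2 (cj g U) := thompsonOf_map_conj g U

theorem normalizer_le_normalizer_omegaCenterOf (X : Subgroup G) :
    normalizer (X : Set G) ≤ normalizer (omegaCenterOf X : Set G) := fun g hg =>
  mem_normalizer_of_cj (by rw [cj_omegaCenterOf, cj_eq_self hg])

theorem normalizer_le_normalizer_pCoreOf (p : ℕ) (X : Subgroup G) :
    normalizer (X : Set G) ≤ normalizer (pCoreOf p X : Set G) := fun g hg =>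
  mem_normalizer_of_cj (by rw [cj_pCoreOf, cj_eq_self hg])

theorem normalizer_le_normalizer_wOf (K : Subgroup G) :
    normalizer (K : Set G) ≤ normalizer (wOf K : Set G) := fun g hg =>
  mem_normalizer_of_cj (by rw [cj_wOf, cj_eq_self hg])

theorem isPGroup_cj {p : ℕ} (g : G) {H : Subgroup G} (h : IsPGroup p H) : IsPGroup p ↥(cj g H) :=
  h.map _

theorem isSylowTwoIn_cj {g : G} {S L : Subgroup G} (h : IsSylowTwoIn S L) :
    IsSylowTwoIn (cj g S) (cj g L) :=
  ⟨cj_mono h.1, isPGroup_cj g h.2.1,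
    by rw [cj, cj, relIndex_map_map_of_injective _ _ (MulEquiv.injective _)]; exact h.2.2⟩

theorem le_centralizer_self_omegaCenterOf (X : Subgroup G) :
    X ≤ centralizer (omegaCenterOf X : Set G) :=
  fun _ hx _ hy => ((omegaOne_le 2 _ hy).2 _ hx).symm

theorem omegaCenterOf_le (X : Subgroup G) : omegaCenterOf X ≤ X :=
  (omegaOne_le 2 _).trans inf_le_left

theorem elemAb_omegaCenterOf (X : Subgroup G) : IsElementaryAbelian 2 (omegaCenterOf X) :=
  omegaCenter_elemAb X

theorem mem_omegaCenterOf {X : Subgroup G} {x : G} (hx : x ∈ X) (hx2 : x ^ 2 = 1)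
    (hc : x ∈ centralizer (X : Set G)) : x ∈ omegaCenterOf X :=
  subset_closure ⟨⟨hx, hc⟩, hx2⟩

theorem le_omegaCenterOf {X A : Subgroup G} (hA : IsElementaryAbelian 2 A) (h : A ≤ X)
    (hc : A ≤ centralizer (X : Set G)) : A ≤ omegaCenterOf X := fun a ha =>
  mem_omegaCenterOf (h ha) (hA.2 a ha) (hc ha)

theorem centralizer_union (H K : Subgroup G) :
    centralizer ((H : Set G) ⊔ (K : Set G)) = centralizer ((H ⊔ K : Subgroup G) : Set G) := by
  rw [sup_eq_closure, centralizer_closure]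
  rfl

section Finite

variable [Finite G]

/-! ### Largest elementary abelian subgroups -/

theorem card_eq_aOrd {U A : Subgroup G} (hA : A ∈ maxElemIn 2 U) :
    Nat.card A = maxElemAbelianOrder U := by
  have h : (fun B : Subgroup ↥U => Nat.card ↥B) '' maxElementaryAbelianSubgroups 2 ↥U =
      {Nat.card A} := by
    ext n
    rw [Set.mem_singleton_iff]
    constructor
    · rintro ⟨B, hB, rfl⟩
      have hB' : B.map U.subtype ∈ maxElemIn 2 U := by
        rw [maxElemIn_eq_image]; exact ⟨B, hB, rfl⟩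
      have h1 := hB'.2.2 A hA.1 hA.2.1
      have h2 := hA.2.2 _ hB'.1 hB'.2.1
      rw [card_map_of_injective U.subtype_injective] at h1 h2
      exact le_antisymm h2 h1
    · rintro rfl
      rw [maxElemIn_eq_image] at hA
      obtain ⟨B, hB, rfl⟩ := hA
      exact ⟨B, hB, (card_map_of_injective U.subtype_injective).symm⟩
  rw [maxElemAbelianOrder, h, csSup_singleton]

theorem card_le_aOrd {U B : Subgroup G} (h : B ≤ U) (hB : IsElementaryAbelian 2 B) :
    Nat.card B ≤ maxElemAbelianOrder U := by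
  obtain ⟨A, hA⟩ := exists_maxElemIn 2 U
  rw [← card_eq_aOrd hA]
  exact hA.2.2 B h hB

theorem mem_maxElemIn_of_card {U A : Subgroup G} (h : A ≤ U) (hA : IsElementaryAbelian 2 A)
    (hc : maxElemAbelianOrder U ≤ Nat.card A) : A ∈ maxElemIn 2 U :=
  ⟨h, hA, fun _ hB hBe => (card_le_aOrd hB hBe).trans hc⟩

theorem aOrd_le_of_thompson_le {T U : Subgroup G} (h : thompsonSubgroupOf 2 T ≤ U) :
    maxElemAbelianOrder T ≤ maxElemAbelianOrder U := by
  obtain ⟨A, hA⟩ := exists_maxElemIn 2 T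
  rw [← card_eq_aOrd hA]
  exact card_le_aOrd ((le_thompsonOf hA).trans h) hA.2.1

theorem thompson_le_thompson {T U : Subgroup G} (h : thompsonSubgroupOf 2 T ≤ U)
    (ha : maxElemAbelianOrder U ≤ maxElemAbelianOrder T) :
    thompsonSubgroupOf 2 T ≤ thompsonSubgroupOf 2 U := by
  rw [thompsonOf_eq]
  exact sSup_le fun A hA => le_thompsonOf
    (mem_maxElemIn_of_card ((le_thompsonOf hA).trans h) hA.2.1 (ha.trans (card_eq_aOrd hA).ge))

theorem thompson_eq_thompson {T U : Subgroup G} (h : thompsonSubgroupOf 2 T ≤ U)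
    (ha : maxElemAbelianOrder U ≤ maxElemAbelianOrder T)
    (hc : Nat.card (thompsonSubgroupOf 2 U) ≤ Nat.card (thompsonSubgroupOf 2 T)) :
    thompsonSubgroupOf 2 U = thompsonSubgroupOf 2 T :=
  (eq_of_le_of_card_ge (thompson_le_thompson h ha) hc).symm

theorem aOrd_congr {T U : Subgroup G} (h : thompsonSubgroupOf 2 T = thompsonSubgroupOf 2 U) :
    maxElemAbelianOrder T = maxElemAbelianOrder U :=
  le_antisymm (aOrd_le_of_thompson_le (h.le.trans (thompsonOf_le U)))
    (aOrd_le_of_thompson_le (h.ge.trans (thompsonOf_le T)))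

theorem aOrd_cj (g : G) (U : Subgroup G) :
    maxElemAbelianOrder (cj g U) = maxElemAbelianOrder U := by
  refine le_antisymm ?_ ?_
  · obtain ⟨A, hA⟩ := exists_maxElemIn 2 (cj g U)
    rw [← card_eq_aOrd hA, ← card_cj g⁻¹ A]
    exact card_le_aOrd (by have := cj_mono (g := g⁻¹) hA.1; rwa [cj_inv_cj] at this)
      (elemAb_map _ hA.2.1)
  · obtain ⟨A, hA⟩ := exists_maxElemIn 2 U
    rw [← card_eq_aOrd hA, ← card_cj g A]
    exact card_le_aOrd (cj_mono hA.1) (elemAb_map _ hA.2.1)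

/-- `J(T)` is the Thompson subgroup of every conjugate of `T` containing it. -/
theorem thompson_cj_of_le {g : G} {T : Subgroup G} (h : thompsonSubgroupOf 2 T ≤ cj g T) :
    thompsonSubgroupOf 2 (cj g T) = thompsonSubgroupOf 2 T :=
  thompson_eq_thompson h (aOrd_cj g T).le (by rw [← cj_thompson, card_cj])

theorem omegaCenterThompson_le {T A : Subgroup G} (hA : A ∈ maxElemIn 2 T) :
    omegaCenterOf (thompsonSubgroupOf 2 T) ≤ A :=
  omega_centerThompsonOf_le_maxElemIn hA

theorem isSylowTwoIn_sylow {L : Subgroup G} (P : Sylow 2 L) :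
    IsSylowTwoIn ((P : Subgroup L).map L.subtype) L := by
  refine ⟨map_subtype_le _, P.isPGroup'.map _, ?_⟩
  have := Nat.not_even_iff_odd.1 (fun he => P.not_dvd_index (even_iff_two_dvd.1 he))
  rwa [relIndex, subgroupOf_map_subtype_eq]
where
  subgroupOf_map_subtype_eq {L : Subgroup G} {P : Subgroup L} :
      (P.map L.subtype).subgroupOf L = P := comap_map_eq_self_of_injective L.subtype_injective P

/-- every `2`-subgroup of `L` lies in a Sylow `2`-subgroup of `L`. -/
theorem exists_isSylowTwoIn {L R : Subgroup G} (hR : IsPGroup 2 R) (hRL : R ≤ L) :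
    ∃ S : Subgroup G, IsSylowTwoIn S L ∧ R ≤ S := by
  obtain ⟨P, hP⟩ := (hR.of_equiv (subgroupOfEquivOfLe hRL).symm).exists_le_sylow
  exact ⟨(P : Subgroup L).map L.subtype, isSylowTwoIn_sylow P, fun x hx =>
    ⟨⟨x, hRL hx⟩, hP hx, rfl⟩⟩

theorem isSylowTwoIn_conj {L S S' : Subgroup G} (h : IsSylowTwoIn S L) (h' : IsSylowTwoIn S' L) :
    ∃ g ∈ L, cj g S = S' := by
  have hs : ∀ {U : Subgroup G}, IsSylowTwoIn U L → ∃ P : Sylow 2 L, (P : Subgroup L) = U.subgroupOf L :=
    fun {U} hU => ⟨(hU.2.1.of_equiv (subgroupOfEquivOfLe hU.1).symm).toSylow (fun h2 =>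
      (Nat.not_even_iff_odd.2 hU.2.2) (even_iff_two_dvd.2 h2)), rfl⟩
  obtain ⟨P, hP⟩ := hs h
  obtain ⟨P', hP'⟩ := hs h'
  obtain ⟨g, hg⟩ := MulAction.exists_smul_eq L P P'
  refine ⟨g, g.2, ?_⟩
  have e := congrArg (fun P : Sylow 2 L => (P : Subgroup L).map L.subtype) hg
  simp only [hP', map_subgroupOf_eq_of_le h'.1] at e
  rw [← e, Sylow.coe_subgroup_smul, hP, cj]
  conv_lhs => rw [← map_subgroupOf_eq_of_le h.1]
  ext x
  constructor
  · rintro ⟨_, ⟨y, hy, rfl⟩, rfl⟩
    exact ⟨MulAut.conj g • y, smul_mem_pointwise_smul y (MulAut.conj g) _ hy, rfl⟩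
  · rintro ⟨z, hz, rfl⟩
    obtain ⟨y, hy, rfl⟩ := hz
    exact ⟨_, ⟨y, hy, rfl⟩, rfl⟩

theorem exists_cj_of_isSylowTwoIn {L S R : Subgroup G} (h : IsSylowTwoIn S L) (hR : IsPGroup 2 R)
    (hRL : R ≤ L) : ∃ g ∈ L, R ≤ cj g S := by
  obtain ⟨S', hS', hRS⟩ := exists_isSylowTwoIn hR hRL
  obtain ⟨g, hg, e⟩ := isSylowTwoIn_conj h hS'
  exact ⟨g, hg, e ▸ hRS⟩

/-! ### Four-groups -/

theorem exists_mem_ne {W : Subgroup G} (hW : Nat.card W = 4) (w : G) :
    ∃ v ∈ W, v ≠ 1 ∧ v ≠ w := by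
  by_contra! h
  have : (W : Set G) ⊆ {1, w} := fun v hv => by
    by_cases h1 : v = 1
    · exact Or.inl h1
    · exact Or.inr (h v hv h1)
  have h2 := Nat.card_mono (Set.toFinite _) this
  have h3 : Nat.card ({1, w} : Set G) ≤ 2 := by
    rw [Nat.card_coe_set_eq]; exact (Set.ncard_insert_le _ _).trans (by simp)
  have h4 : Nat.card (W : Set G) = 4 := hW
  omega

/-- A four-group is covered by any two distinct involutions of it. -/
theorem four_cases {W : Subgroup G} (hW : Nat.card W = 4) (hW2 : ∀ w ∈ W, w * w = 1) {a b : G}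
    (ha : a ∈ W) (hb : b ∈ W) (ha1 : a ≠ 1) (hb1 : b ≠ 1) (hab : a ≠ b) {x : G} (hx : x ∈ W) :
    x = 1 ∨ x = a ∨ x = b ∨ x = a * b := by
  classical
  by_contra hcon
  simp only [not_or] at hcon
  obtain ⟨h1, h2, h3, h4⟩ := hcon
  have hai : a⁻¹ = a := inv_eq_of_mul_eq_one_right (hW2 a ha)
  have hsub : ((↑({1, a, b, a * b, x} : Finset G)) : Set G) ⊆ (W : Set G) := by
    intro y hy
    simp only [Finset.coe_insert, Finset.coe_singleton, Set.mem_insert_iff,
      Set.mem_singleton_iff] at hy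
    rcases hy with rfl | rfl | rfl | rfl | rfl
    exacts [one_mem _, ha, hb, mul_mem ha hb, hx]
  have hab1 : a * b ≠ 1 := fun e => hab (by rw [← inv_eq_of_mul_eq_one_right e, hai])
  have haba : a * b ≠ a := fun e => hb1 (by simpa using e)
  have habb : a * b ≠ b := fun e => ha1 (by simpa using e)
  have hc : ({1, a, b, a * b, x} : Finset G).card = 5 := by
    simp [ha1.symm, hb1.symm, hab, hab1.symm, haba.symm, habb.symm, Ne.symm h1, Ne.symm h2,
      Ne.symm h3, Ne.symm h4]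
  have h5 := Nat.card_mono (Set.toFinite _) hsub
  rw [Nat.card_coe_set_eq, Set.ncard_coe_finset, hc] at h5
  have h6 : Nat.card (W : Set G) = 4 := hW
  omega

theorem four_le_zpowers_sup {W : Subgroup G} (hW : Nat.card W = 4) (hW2 : ∀ w ∈ W, w * w = 1)
    {a b : G} (ha : a ∈ W) (hb : b ∈ W) (ha1 : a ≠ 1) (hb1 : b ≠ 1) (hab : a ≠ b)
    {U : Subgroup G} (haU : a ∈ U) (hbU : b ∈ U) : W ≤ U := fun x hx => by
  rcases four_cases hW hW2 ha hb ha1 hb1 hab hx with rfl | rfl | rfl | rfl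
  exacts [one_mem _, haU, hbU, mul_mem haU hbU]

theorem mem_centralizer_four {W : Subgroup G} (hW : Nat.card W = 4) (hW2 : ∀ w ∈ W, w * w = 1)
    {a b x : G} (ha : a ∈ W) (hb : b ∈ W) (ha1 : a ≠ 1) (hb1 : b ≠ 1) (hab : a ≠ b)
    (hxa : x * a * x⁻¹ = a) (hxb : x * b * x⁻¹ = b) : x ∈ centralizer (W : Set G) := by
  have h : W ≤ centralizer ({x} : Set G) := four_le_zpowers_sup hW hW2 ha hb ha1 hb1 hab
    (mem_centralizer_singleton_iff.2 ((mul_inv_eq_iff_eq_mul.1 hxa).symm))
    (mem_centralizer_singleton_iff.2 ((mul_inv_eq_iff_eq_mul.1 hxb).symm))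
  exact fun w hw => mem_centralizer_singleton_iff.1 (h hw)

/-- An element fixing one point of a four-group and moving another. -/
theorem four_move {W : Subgroup G} (hW : Nat.card W = 4) (hW2 : ∀ w ∈ W, w * w = 1) {x w v : G}
    (hxN : x ∈ normalizer (W : Set G)) (hw : w ∈ W) (hw1 : w ≠ 1) (hv : v ∈ W) (hv1 : v ≠ 1)
    (hvw : v ≠ w) (hxw : x * w * x⁻¹ = w) (hxc : x ∉ centralizer (W : Set G)) :
    x * v * x⁻¹ = w * v := by
  have hxv : x * v * x⁻¹ ∈ W := (mem_normalizer_iff.1 hxN v).1 hv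
  rcases four_cases hW hW2 hw hv hw1 hv1 (Ne.symm hvw) hxv with h | h | h | h
  · exact absurd (conj_eq_one_iff.1 h) hv1
  · exact absurd (mul_left_cancel (mul_right_cancel (h.trans hxw.symm))) hvw
  · exact absurd (mem_centralizer_four hW hW2 hw hv hw1 hv1 (Ne.symm hvw) hxw h) hxc
  · exact h

/-- Two such elements multiply into the centralizer. -/
theorem four_mul_mem {W : Subgroup G} (hW : Nat.card W = 4) (hW2 : ∀ w ∈ W, w * w = 1) {x y w : G}
    (hxN : x ∈ normalizer (W : Set G)) (hyN : y ∈ normalizer (W : Set G))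
    (hw : w ∈ W) (hw1 : w ≠ 1) (hxw : x * w * x⁻¹ = w) (hyw : y * w * y⁻¹ = w)
    (hxc : x ∉ centralizer (W : Set G)) (hyc : y ∉ centralizer (W : Set G)) :
    x * y ∈ centralizer (W : Set G) := by
  obtain ⟨v, hv, hv1, hvw⟩ := exists_mem_ne hW w
  refine mem_centralizer_four hW hW2 hw hv hw1 hv1 (Ne.symm hvw) ?_ ?_
  · calc x * y * w * (x * y)⁻¹ = x * (y * w * y⁻¹) * x⁻¹ := by group
      _ = w := by rw [hyw, hxw]
  · have h1 := four_move hW hW2 hxN hw hw1 hv hv1 hvw hxw hxc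
    have h2 := four_move hW hW2 hyN hw hw1 hv hv1 hvw hyw hyc
    calc x * y * v * (x * y)⁻¹ = x * (y * v * y⁻¹) * x⁻¹ := by group
      _ = x * (w * v) * x⁻¹ := by rw [h2]
      _ = (x * w * x⁻¹) * (x * v * x⁻¹) := by group
      _ = v := by rw [hxw, h1, ← mul_assoc, hW2 w hw, one_mul]

/-- An element of odd order fixing a point of a four-group centralizes it. -/
theorem four_odd_fix {W : Subgroup G} (hW : Nat.card W = 4) (hW2 : ∀ w ∈ W, w * w = 1) {x w : G}
    (hxN : x ∈ normalizer (W : Set G)) (hx : Odd (orderOf x)) (hw : w ∈ W) (hw1 : w ≠ 1)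
    (hxw : x * w * x⁻¹ = w) : x ∈ centralizer (W : Set G) := by
  by_contra hxc
  have h2 := four_mul_mem hW hW2 hxN hxN hw hw1 hxw hxw hxc hxc
  obtain ⟨m, hm⟩ := hx
  apply hxc
  have e : x = ((x * x) ^ m)⁻¹ := by
    rw [eq_inv_iff_mul_eq_one, ← pow_two, ← pow_mul, ← pow_succ', ← hm, pow_orderOf_eq_one]
  rw [e]
  exact inv_mem (pow_mem h2 m)

/-- A `2`-group moving a four-group fixes exactly one involution of it. -/
theorem four_fixed {W R : Subgroup G} (hW : Nat.card W = 4) (hW2 : ∀ w ∈ W, w * w = 1)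
    (hR : IsPGroup 2 R) (hRW : R ≤ normalizer (W : Set G)) :
    ∃ w ∈ W, w ≠ 1 ∧ (∀ r ∈ R, r * w * r⁻¹ = w) ∧
      ∀ x ∈ R, x ∉ centralizer (W : Set G) → ∀ v ∈ W, x * v * x⁻¹ = v → v = 1 ∨ v = w := by
  have hWp : IsPGroup 2 W := IsPGroup.of_card (n := 2) (by rw [hW]; norm_num)
  have hW1 : W ≠ ⊥ := fun e => by rw [e, Subgroup.card_bot] at hW; omega
  obtain ⟨⟨w, hw⟩, hw1⟩ := Subgroup.ne_bot_iff_exists_ne_one.1
    (CfsgLib.Amalgam.inf_centralizer_ne_bot hR hWp hW1 hRW)
  replace hw1 : w ≠ 1 := fun e => hw1 (Subtype.ext e)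
  have hfix : ∀ r ∈ R, r * w * r⁻¹ = w := fun r hr => by
    rw [mul_inv_eq_iff_eq_mul]; exact hw.2 r hr
  refine ⟨w, hw.1, hw1, hfix, fun x hx hxc v hv hxv => ?_⟩
  by_contra hcon
  rw [not_or] at hcon
  exact hxc (mem_centralizer_four hW hW2 hw.1 hv hw1 hcon.1 (Ne.symm hcon.2) (hfix x hx) hxv)

/-- An index two subgroup containing a given proper subgroup of an elementary abelian group. -/
theorem exists_hyperplane {M N : Subgroup G} (hM : IsElementaryAbelian 2 M) (hN : N < M) :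
    ∃ M' : Subgroup G, N ≤ M' ∧ M' < M ∧ Nat.card M = 2 * Nat.card M' := by
  classical
  obtain ⟨M', hM', hmax⟩ := Set.exists_max_image {X : Subgroup G | N ≤ X ∧ X < M}
    (fun X => Nat.card X) (Set.toFinite _) ⟨N, le_rfl, hN⟩
  refine ⟨M', hM'.1, hM'.2, ?_⟩
  obtain ⟨x, hxM, hx⟩ := SetLike.exists_of_lt hM'.2
  have he : M' ⊔ zpowers x = M := by
    refine (sup_le hM'.2.le (zpowers_le.2 hxM)).lt_or_eq.resolve_left fun hlt => hx ?_
    have h1 := hmax _ ⟨hM'.1.trans le_sup_left, hlt⟩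
    have h2 : M' = M' ⊔ zpowers x := eq_of_le_of_card_ge le_sup_left h1
    rw [h2]
    exact mem_sup_right (mem_zpowers x)
  have hn : zpowers x ≤ normalizer (M' : Set G) :=
    ((zpowers_le.2 hxM).trans (elemAb_le_centralizer hM)).trans
      ((centralizer_le hM'.2.le).trans (centralizer_le_normalizer _))
  have hd : zpowers x ⊓ M' = ⊥ := (Subgroup.eq_bot_iff_forall _).2 fun y ⟨hy, hyM⟩ => by
    obtain ⟨n, rfl⟩ := hy
    rcases Int.even_or_odd n with ⟨m, rfl⟩ | ⟨m, rfl⟩
    · show x ^ (m + m) = 1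
      rw [← two_mul, zpow_mul, show x ^ (2 : ℤ) = 1 by rw [zpow_ofNat]; exact hM.2 x hxM, one_zpow]
    · exfalso
      apply hx
      have : x ^ (2 * m + 1) = x := by
        rw [zpow_add, zpow_mul, show x ^ (2 : ℤ) = 1 by rw [zpow_ofNat]; exact hM.2 x hxM, one_zpow,
          one_mul, zpow_one]
      rwa [← this]
  have hc := CfsgLib.Coprime.card_sup_of_inf_eq_bot hn hd
  rw [he, Nat.card_zpowers, orderOf_eq_prime (hM.2 x hxM) (fun e => hx (e ▸ one_mem _))] at hc
  rw [hc, mul_comm]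

/-- An abelian `2`-group with a unique nontrivial fixed point on an elementary abelian group `M`
has image of order at most `|M| / 2`. -/
theorem card_abelian_fix_two {A : Subgroup G} (hA : IsPGroup 2 A)
    (hAc : A ≤ centralizer (A : Set G)) :
    ∀ {M : Subgroup G}, IsElementaryAbelian 2 M → A ≤ normalizer (M : Set G) → M ≠ ⊥ →
      Nat.card ↥(M ⊓ centralizer (A : Set G)) ≤ 2 →
      2 * (A ⊓ centralizer (M : Set G)).relIndex A ≤ Nat.card M := by
  intro M
  induction hn : Nat.card M using Nat.strong_induction_on generalizing M with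
  | _ n ih =>
    subst hn
    intro hM hAM hM1 hfix
    have hMp : IsPGroup 2 M := elemAb_isPGroup hM
    have hcl : ⁅M, A⁆ ≤ M := le_normalizer_iff_commutator_le_left.1 hAM
    obtain ⟨M', hM', hlt, hcard⟩ := exists_hyperplane hM
      (lt_of_le_of_ne hcl (CfsgLib.PGroup.commutator_ne_self hMp hA le_rfl hAM hM1))
    by_cases hM'1 : M' = ⊥
    · rw [hcard, hM'1, Subgroup.card_bot]
      have : A ⊓ centralizer (M : Set G) = A := inf_eq_left.2 (le_centralizer_iff.1 (by
        rw [← commutator_eq_bot_iff_le_centralizer]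
        exact le_bot_iff.1 (hM'1 ▸ hM')))
      rw [this, relIndex_self]
    have hAM' : A ≤ normalizer (M' : Set G) := le_normalizer_iff_commutator_le_left.2
      ((commutator_mono hlt.le le_rfl).trans hM')
    have hlt' : Nat.card M' < Nat.card M := by
      have : 0 < Nat.card M' := Nat.card_pos
      omega
    have hfix' : Nat.card ↥(M' ⊓ centralizer (A : Set G)) ≤ 2 :=
      (Subgroup.card_le_of_le (inf_le_inf_right _ hlt.le)).trans hfix
    have h1 := ih _ hlt' rfl (elemAb_mono hM hlt.le) hAM' hM'1 hfix'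
    obtain ⟨x, hxM, hx⟩ := SetLike.exists_of_lt hlt
    set B := A ⊓ centralizer (M' : Set G) with hB
    have hval : ∀ b ∈ B, ⁅b, x⁆ ∈ M ⊓ centralizer (A : Set G) := by
      intro b hb
      have hbM' : ⁅b, x⁆ ∈ M' := hM' (by
        rw [Subgroup.commutator_comm]; exact commutator_mem_commutator hb.1 hxM)
      refine ⟨hlt.le hbM', fun a ha => ?_⟩
      have h1 : a * x * a⁻¹ * x⁻¹ ∈ M' := hM' (by
        rw [Subgroup.commutator_comm]
        have := commutator_mem_commutator (H₁ := A) (H₂ := M) ha hxM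
        rwa [commutatorElement_def] at this)
      have hbfix : ∀ m ∈ M', b * m * b⁻¹ = m := fun m hm => by
        rw [mul_inv_eq_iff_eq_mul]; exact (hb.2 m hm).symm
      have hab : a * b = b * a := hAc hb.1 a ha
      have hx2 : ∀ m ∈ M', m * x = x * m := fun m hm => elemAb_comm hM (hlt.le hm) hxM
      suffices a * ⁅b, x⁆ * a⁻¹ = ⁅b, x⁆ from mul_inv_eq_iff_eq_mul.1 this
      calc a * ⁅b, x⁆ * a⁻¹ = (a * b) * x * (a * b)⁻¹ * (a * x * a⁻¹)⁻¹ := by
            rw [commutatorElement_def]; group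
        _ = (b * a) * x * (b * a)⁻¹ * (a * x * a⁻¹)⁻¹ := by rw [hab]
        _ = (b * (a * x * a⁻¹ * x⁻¹) * b⁻¹) * (b * x * b⁻¹) * (a * x * a⁻¹)⁻¹ := by group
        _ = (a * x * a⁻¹ * x⁻¹) * (b * x * b⁻¹) * x⁻¹ * (a * x * a⁻¹ * x⁻¹)⁻¹ := by
            rw [hbfix _ h1]; group
        _ = ⁅b, x⁆ := by
            rw [mul_assoc (a * x * a⁻¹ * x⁻¹), ← commutatorElement_def b x,
              elemAb_comm hM (hlt.le h1) (hlt.le hbM'), mul_inv_cancel_right]
    have hker : ∀ b ∈ B, ⁅b, x⁆ = 1 → b ∈ A ⊓ centralizer (M : Set G) := by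
      intro b hb he
      refine ⟨hb.1, ?_⟩
      have hle : M' ⊔ zpowers x ≤ centralizer ({b} : Set G) := sup_le
        (fun m hm => mem_centralizer_singleton_iff.2 (hb.2 m hm))
        (zpowers_le.2 (mem_centralizer_singleton_iff.2
          (commutatorElement_eq_one_iff_mul_comm.1 he).symm))
      have hgen : M' ⊔ zpowers x = M := by
        refine eq_of_le_of_card_ge (sup_le hlt.le (zpowers_le.2 hxM)) ?_
        have h2 : M'.relIndex (M' ⊔ zpowers x) * Nat.card M' = Nat.card ↥(M' ⊔ zpowers x) := by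
          have := relIndex_mul_relIndex ⊥ M' (M' ⊔ zpowers x) bot_le le_sup_left
          rwa [relIndex_bot_left, relIndex_bot_left, mul_comm] at this
        have h3 : M'.relIndex (M' ⊔ zpowers x) ≠ 1 := fun e =>
          hx (relIndex_eq_one.1 e (mem_sup_right (mem_zpowers x)))
        have h4 : 0 < M'.relIndex (M' ⊔ zpowers x) := Nat.pos_of_ne_zero fun e => by
          rw [e, zero_mul] at h2; exact (Nat.card_pos (α := ↥(M' ⊔ zpowers x))).ne' h2.symm
        rw [hcard, ← h2]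
        exact Nat.mul_le_mul_right _ (by omega)
      exact fun m hm => mem_centralizer_singleton_iff.1 (hle (hgen.ge hm))
    have h2 : (A ⊓ centralizer (M : Set G)).relIndex B ≤ 2 := by
      let f : B → ↥(M ⊓ centralizer (A : Set G)) := fun b => ⟨⁅(b : G), x⁆, hval b b.2⟩
      have hinj : ∀ b c : B, f b = f c → (c : G)⁻¹ * b ∈ A ⊓ centralizer (M : Set G) := by
        intro b c hbc
        have e : b.1 * x * b.1⁻¹ * x⁻¹ = c.1 * x * c.1⁻¹ * x⁻¹ := congrArg Subtype.val hbc
        refine hker _ (mul_mem (inv_mem c.2) b.2) ?_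
        rw [commutatorElement_def, show c.1⁻¹ * b.1 * x * (c.1⁻¹ * b.1)⁻¹ * x⁻¹ =
          c.1⁻¹ * (b.1 * x * b.1⁻¹ * x⁻¹) * (x * c.1 * x⁻¹) by group, e]
        group
      let g : ↥B ⧸ (A ⊓ centralizer (M : Set G)).subgroupOf B → ↥(M ⊓ centralizer (A : Set G)) :=
        fun q => f q.out
      have hg : Function.Injective g := by
        intro q r hqr
        rw [← QuotientGroup.out_eq' q, ← QuotientGroup.out_eq' r, eq_comm, QuotientGroup.eq,
          mem_subgroupOf]
        simpa using hinj q.out r.out hqr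
      exact le_trans (le_of_eq_of_le (by rw [relIndex, index]) (Nat.card_le_card_of_injective g hg)) hfix
    have h3 := relIndex_mul_relIndex (A ⊓ centralizer (M : Set G)) B A
      (inf_le_inf_left _ (centralizer_le hlt.le)) inf_le_left
    rw [← h3, hcard]
    have h4 := Nat.mul_le_mul h2 (le_refl (B.relIndex A))
    omega

end Finite

end CfsgLib.ClassK.ZN
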