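import Cfsg.Agent.Lib.ClassK.ZNBase
import Cfsg.Agent.Lib.Coprime.Generation
import Cfsg.Agent.Lib.PLocal.Replace

/-!
The inner structure of a `J(T)`-component: its action on the attached four-group, the bound on
`[Ω₁(Z(O₂(K))), K]` from the first two axioms alone, and the position of the four-group in `J(T)`.
-/

set_option autoImplicit false
set_option linter.unusedSectionVars false

namespace CfsgLib.ClassK.ZN

open Cfsg Subgroup CfsgLib.PLocal
open scoped commutatorElement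

variable {G : Type*} [Group G]

local notation "Jt" => thompsonSubgroupOf 2

theorem le_normalizer_of_commutator_eq {K J : Subgroup G} (h : ⁅K, J⁆ = K) :
    J ≤ normalizer (K : Set G) := by
  conv_rhs => rw [← h, Subgroup.commutator_comm]
  exact normalizer_commutator_ge_left J K

theorem isJComponent_congr {T T' K : Subgroup G} (h : Jt T' = Jt T) (hK : IsJComponent T K) :
    IsJComponent T' K := by
  unfold IsJComponent at hK ⊢
  rw [h]; exact hK

theorem isJComponent_cj {T K : Subgroup G} (g : G) (hK : IsJComponent T K) :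
    IsJComponent (cj g T) (cj g K) := by
  obtain ⟨hgen, hcomm, hind, hsyl, h4, h2⟩ := hK
  refine ⟨?_, by rw [← cj_thompson, ← cj_commutator, hcomm], ?_, ?_, ?_, ?_⟩
  · refine le_antisymm ((closure_le _).2 fun x hx => hx.1) ?_
    conv_lhs => rw [cj, ← hgen, MonoidHom.map_closure]
    refine closure_mono ?_
    rintro _ ⟨x, ⟨hx, hxo⟩, rfl⟩
    refine ⟨⟨x, hx, rfl⟩, ?_⟩
    rwa [MulEquiv.coe_toMonoidHom, MulEquiv.orderOf_eq]
  · rw [← cj_pCoreOf, cj, cj, relIndex_map_map_of_injective _ _ (MulEquiv.injective _), hind]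
  · intro S hS hJS
    rw [← cj_thompson, ← cj_sup] at hS
    rw [← cj_thompson] at hJS ⊢
    have h1 := isSylowTwoIn_cj (g := g⁻¹) hS
    rw [cj_inv_cj] at h1
    have h2 := hsyl _ h1 (by have := cj_mono (g := g⁻¹) hJS; rwa [cj_inv_cj] at this)
    rw [← h2, cj_thompson, cj_cj_inv]
  · rw [← cj_wOf, card_cj]; exact h4
  · rw [← cj_wOf]
    rintro _ ⟨w, hw, rfl⟩
    rw [← map_mul, h2 w hw, map_one]

variable [Finite G]

theorem _root_.CfsgLib.ClassK.ZN.sylowTwoIn_eq {S L P : Subgroup G} (hS : IsSylowTwoIn S L)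
    (hP : IsPGroup 2 P) (hSP : S ≤ P) (hPL : P ≤ L) : P = S := by
  obtain ⟨n, hn⟩ := hP.exists_card_eq
  have h1 : S.relIndex P ∣ 2 ^ n := hn ▸ relIndex_dvd_card S P
  have h2 : S.relIndex P ∣ S.relIndex L := ⟨_, (relIndex_mul_relIndex S P L hSP hPL).symm⟩
  have h3 : S.relIndex P = 1 :=
    Nat.eq_one_of_dvd_coprimes (Nat.Coprime.pow_left n hS.2.2.coprime_two_left) h1 h2
  exact le_antisymm (relIndex_eq_one.1 h3) hSP

theorem le_sylowTwoIn {S L P : Subgroup G} (hS : IsSylowTwoIn S L) (hP : IsPGroup 2 P) (hPL : P ≤ L)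
    (hn : L ≤ normalizer (P : Set G)) : P ≤ S := by
  have h := sylowTwoIn_eq hS (hP.to_sup_of_normal_left' hS.2.1 (hS.1.trans hn)) le_sup_right
    (sup_le hPL hS.1)
  exact le_sup_left.trans h.le

theorem mem_of_odd_of_sup {K J : Subgroup G} (hJK : J ≤ normalizer (K : Set G)) (hJ : IsPGroup 2 J)
    {x : G} (hx : x ∈ K ⊔ J) (hxo : Odd (orderOf x)) : x ∈ K := by
  rw [← SetLike.mem_coe, Subgroup.coe_mul_of_right_le_normalizer_left K J hJK] at hx
  obtain ⟨k, hk, j, hj, rfl⟩ := hx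
  show k * j ∈ K
  replace hxo : Odd (orderOf (k * j)) := hxo
  have hpow : ∀ n : ℕ, (k * j) ^ n * (j ^ n)⁻¹ ∈ K := by
    intro n
    induction n with
    | zero => simp
    | succ n ih =>
      have : (k * j) ^ (n + 1) * (j ^ (n + 1))⁻¹ = ((k * j) ^ n * (j ^ n)⁻¹) * (j ^ n * k * (j ^ n)⁻¹) := by
        rw [pow_succ, pow_succ']; group
      rw [this]
      exact mul_mem ih ((Subgroup.mem_normalizer_iff.1 (pow_mem (hJK hj) n) k).1 hk)
  obtain ⟨a, ha⟩ := hJ ⟨j, hj⟩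
  have hk2 := hpow (2 ^ a)
  rw [show j ^ (2 ^ a) = 1 from congrArg Subtype.val ha, inv_one, mul_one] at hk2
  obtain ⟨m, hm⟩ := exists_pow_eq_self_of_coprime (n := 2 ^ a) (x := k * j)
    (Nat.Coprime.pow_left a hxo.coprime_two_left)
  rw [← hm]
  exact pow_mem hk2 m

/-- The first two axioms of a `J(T)`-component. -/
structure Pre (T K : Subgroup G) : Prop where
  pT : IsPGroup 2 T
  gen : Subgroup.closure {g : G | g ∈ K ∧ Odd (orderOf g)} = K
  comm : ⁅K, Jt T⁆ = K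
  index : (pCoreOf 2 K).relIndex K = 3
  syl : ∀ S : Subgroup G, IsSylowTwoIn S (K ⊔ Jt T) → Jt T ≤ S → Jt S = Jt T

theorem pre_of_isJComponent {T K : Subgroup G} (hT : IsPGroup 2 T) (h : IsJComponent T K) :
    Pre T K := ⟨hT, h.1, h.2.1, h.2.2.1, h.2.2.2.1⟩

namespace Pre

variable {T K : Subgroup G}

local notation "Qk" => pCoreOf 2 K
local notation "Rk" => pCoreOf 2 (K ⊔ thompsonSubgroupOf 2 T)
local notation "S0" => pCoreOf 2 K ⊔ thompsonSubgroupOf 2 T
local notation "J" => thompsonSubgroupOf 2 T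

variable (h : Pre T K)
include h

theorem pJ : IsPGroup 2 J := h.pT.to_le (thompsonOf_le T)

theorem J_le_normK : J ≤ normalizer (K : Set G) := le_normalizer_of_commutator_eq h.comm

theorem le_of_odd_le {U : Subgroup G} (hU : ∀ x ∈ K, Odd (orderOf x) → x ∈ U) : K ≤ U := by
  conv_lhs => rw [← h.gen]
  exact (closure_le _).2 fun x hx => hU x hx.1 hx.2

theorem mem_of_odd {x : G} (hx : x ∈ K ⊔ J) (hxo : Odd (orderOf x)) : x ∈ K :=
  mem_of_odd_of_sup h.J_le_normK h.pJ hx hxo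

theorem pQ : IsPGroup 2 Qk := CfsgLib.Amalgam.isPGroup_pCoreOf K

theorem Q_le : Qk ≤ K := CfsgLib.Amalgam.pCoreOf_le K

theorem K_le_normQ : K ≤ normalizer (Qk : Set G) := CfsgLib.Amalgam.le_normalizer_pCoreOf K

theorem J_le_normQ : J ≤ normalizer (Qk : Set G) :=
  h.J_le_normK.trans (normalizer_le_normalizer_pCoreOf 2 K)

theorem sylowQ : IsSylowTwoIn Qk K := ⟨h.Q_le, h.pQ, by rw [h.index]; exact ⟨1, rfl⟩⟩

theorem le_Q {P : Subgroup G} (hP : IsPGroup 2 P) (hPK : P ≤ K) : P ≤ Qk := by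
  have e := sylowTwoIn_eq h.sylowQ (h.pQ.to_sup_of_normal_left' hP (hPK.trans h.K_le_normQ))
    le_sup_left (sup_le h.Q_le hPK)
  exact le_sup_right.trans e.le

theorem exists_d : ∃ d ∈ K, orderOf d = 3 ∧ d ∉ Qk := by
  have h3 : 3 ∣ Nat.card K := by
    rw [← h.index]; exact relIndex_dvd_card _ _
  haveI : Fact (Nat.Prime 3) := ⟨Nat.prime_three⟩
  obtain ⟨⟨d, hd⟩, ho⟩ := exists_prime_orderOf_dvd_card' 3 h3
  rw [Subgroup.orderOf_mk] at ho
  refine ⟨d, hd, ho, fun hdQ => ?_⟩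
  obtain ⟨n, hn⟩ := h.pQ.exists_card_eq
  have h1 := Subgroup.orderOf_dvd_natCard Qk hdQ
  rw [ho, hn] at h1
  have := (Nat.prime_dvd_prime_iff_eq Nat.prime_three Nat.prime_two).1 (Nat.prime_three.dvd_of_dvd_pow h1)
  omega

theorem K_eq {d : G} (hd : d ∈ K) (hdQ : d ∉ Qk) : Qk ⊔ zpowers d = K := by
  have h1 := relIndex_mul_relIndex Qk (Qk ⊔ zpowers d) K le_sup_left
    (sup_le h.Q_le (zpowers_le.2 hd))
  rw [h.index] at h1
  rcases (Nat.dvd_prime Nat.prime_three).1 ⟨_, h1.symm⟩ with e | e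
  · exact absurd (relIndex_eq_one.1 e (mem_sup_right (mem_zpowers d))) hdQ
  · rw [e] at h1
    exact le_antisymm (sup_le h.Q_le (zpowers_le.2 hd)) (relIndex_eq_one.1 (by omega))

theorem coset_cases {d : G} (hd : d ∈ K) (hd3 : orderOf d = 3) (hdQ : d ∉ Qk) {k : G} (hk : k ∈ K) :
    k ∈ Qk ∨ k * d⁻¹ ∈ Qk ∨ k * d ∈ Qk := by
  rw [← h.K_eq hd hdQ] at hk
  obtain ⟨q, hq, x, hx, rfl⟩ := CfsgLib.Comp.exists_mul_of_mem_sup
    (zpowers_le.2 (h.K_le_normQ hd)) hk
  obtain ⟨n, rfl⟩ := hx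
  show q * d ^ n ∈ _ ∨ q * d ^ n * d⁻¹ ∈ _ ∨ q * d ^ n * d ∈ _
  rw [← zpow_mod_orderOf d n, hd3]
  have h1 : n % ((3 : ℕ) : ℤ) = 0 ∨ n % ((3 : ℕ) : ℤ) = 1 ∨ n % ((3 : ℕ) : ℤ) = 2 := by omega
  rcases h1 with e | e | e <;> rw [e]
  · exact Or.inl (by simpa using hq)
  · exact Or.inr (Or.inl (by simpa [mul_assoc] using hq))
  · refine Or.inr (Or.inr ?_)
    have e3 : d ^ (2 : ℤ) * d = 1 := by
      rw [zpow_ofNat, ← pow_succ, show 2 + 1 = orderOf d from hd3.symm, pow_orderOf_eq_one]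
    rw [mul_assoc, e3, mul_one]; exact hq

theorem pS0 : IsPGroup 2 ↥S0 :=
  IsPGroup.to_sup_of_normal_left' h.pQ h.pJ h.J_le_normQ

theorem S0_le : S0 ≤ K ⊔ J := sup_le_sup_right h.Q_le _

theorem sylowS0 : IsSylowTwoIn S0 (K ⊔ J) := by
  refine ⟨h.S0_le, h.pS0, ?_⟩
  obtain ⟨d, hd, hd3, hdQ⟩ := h.exists_d
  obtain ⟨S, hS, hle⟩ := exists_isSylowTwoIn h.pS0 h.S0_le
  suffices S ≤ S0 by rw [le_antisymm hle this]; exact hS.2.2
  intro x hx
  obtain ⟨k, hk, j, hj, rfl⟩ := CfsgLib.Comp.exists_mul_of_mem_sup h.J_le_normK (hS.1 hx)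
  have hk' : k ∈ S := (mul_mem_cancel_right (hle (mem_sup_right hj))).1 hx
  exact mul_mem (mem_sup_left (h.le_Q (hS.2.1.to_le inf_le_right) inf_le_left
    (⟨hk, hk'⟩ : k ∈ K ⊓ S))) (mem_sup_right hj)

theorem thompsonS0 : Jt S0 = J := h.syl _ h.sylowS0 le_sup_right

theorem pR : IsPGroup 2 Rk := CfsgLib.Amalgam.isPGroup_pCoreOf _

theorem KJ_le_normR : K ⊔ J ≤ normalizer (Rk : Set G) := CfsgLib.Amalgam.le_normalizer_pCoreOf _

theorem R_le_S0 : Rk ≤ S0 :=
  le_sylowTwoIn h.sylowS0 h.pR (CfsgLib.Amalgam.pCoreOf_le _) h.KJ_le_normR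

theorem Q_le_R : Qk ≤ Rk :=
  CfsgLib.Amalgam.le_pCoreOf (h.Q_le.trans le_sup_left) (sup_le h.K_le_normQ h.J_le_normQ) h.pQ

theorem commutator_mem_Q {x k : G} (hx : x ∈ Rk) (hk : k ∈ K) : ⁅k, x⁆ ∈ Qk := by
  refine h.le_Q (h.pR.to_le inf_le_right) inf_le_left (mem_inf.2 ⟨?_, ?_⟩ : ⁅k, x⁆ ∈ K ⊓ Rk)
  · rw [commutatorElement_def, mul_assoc k, mul_assoc k]
    refine mul_mem hk ((mem_normalizer_iff.1 ?_ _).1 (inv_mem hk))
    exact sup_le le_normalizer h.J_le_normK (CfsgLib.Amalgam.pCoreOf_le _ hx)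
  · exact mul_mem ((mem_normalizer_iff.1 (h.KJ_le_normR (mem_sup_left hk)) x).1 hx) (inv_mem hx)

/-- An element of `Q J` acting trivially on `K / Q` lies in the core of `⟨K, J⟩`. -/
theorem mem_R_of_forall {x : G} (hx : x ∈ S0) (hc : ∀ k ∈ K, ⁅k, x⁆ ∈ Qk) : x ∈ Rk := by
  let C : Subgroup G :=
    { carrier := {y | y ∈ normalizer (Qk : Set G) ∧ ∀ k ∈ K, ⁅k, y⁆ ∈ Qk}
      one_mem' := ⟨one_mem _, fun k _ => by rw [commutatorElement_one_right]; exact one_mem _⟩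
      mul_mem' := fun {a b} ha hb => ⟨mul_mem ha.1 hb.1, fun k hk => by
        rw [show ⁅k, a * b⁆ = ⁅k, a⁆ * (a * ⁅k, b⁆ * a⁻¹) by simp only [commutatorElement_def]; group]
        exact mul_mem (ha.2 k hk) ((mem_normalizer_iff.1 ha.1 _).1 (hb.2 k hk))⟩
      inv_mem' := fun {a} ha => ⟨inv_mem ha.1, fun k hk => by
        rw [show ⁅k, a⁻¹⁆ = a⁻¹ * ⁅k, a⁆⁻¹ * (a⁻¹)⁻¹ by simp only [commutatorElement_def]; group]
        exact (mem_normalizer_iff.1 (inv_mem ha.1) _).1 (inv_mem (ha.2 k hk))⟩ }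
  have hQC : ∀ q ∈ Qk, q ∈ C := fun q hq => ⟨le_normalizer hq, fun k hk =>
    mul_mem ((mem_normalizer_iff.1 (h.K_le_normQ hk) q).1 hq) (inv_mem hq)⟩
  have key : ∀ g ∈ K ⊔ J, ∀ y ∈ S0 ⊓ C, g * y * g⁻¹ ∈ S0 ⊓ C := by
    have hS : ∀ s ∈ S0, ∀ y ∈ S0 ⊓ C, s * y * s⁻¹ ∈ S0 ⊓ C := by
      rintro s hs y ⟨hy, hyN, hyC⟩
      have hsK : s ∈ normalizer (K : Set G) := sup_le (h.Q_le.trans le_normalizer) h.J_le_normK hs
      have hsQ : s ∈ normalizer (Qk : Set G) := normalizer_le_normalizer_pCoreOf 2 K hsK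
      refine ⟨(S0).mul_mem ((S0).mul_mem hs hy) ((S0).inv_mem hs), ?_, fun k hk => ?_⟩
      · exact (normalizer (Qk : Set G)).mul_mem ((normalizer (Qk : Set G)).mul_mem hsQ hyN)
          ((normalizer (Qk : Set G)).inv_mem hsQ)
      have h1 := hyC (s⁻¹ * k * s) (by simpa using (mem_normalizer_iff.1 (inv_mem hsK) k).1 hk)
      have h2 := (mem_normalizer_iff.1 hsQ _).1 h1
      convert h2 using 1
      simp only [commutatorElement_def]; group
    intro g hg y hy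
    obtain ⟨k, hk, j, hj, rfl⟩ := CfsgLib.Comp.exists_mul_of_mem_sup h.J_le_normK hg
    have h1 := hS j (mem_sup_right hj) y hy
    have h2 := h1.2.2 k hk
    rw [show k * j * y * (k * j)⁻¹ = ⁅k, j * y * j⁻¹⁆ * (j * y * j⁻¹) by
      simp only [commutatorElement_def]; group]
    exact mul_mem ⟨mem_sup_left h2, hQC _ h2⟩ h1
  have hle : S0 ⊓ C ≤ Rk := CfsgLib.Amalgam.le_pCoreOf (inf_le_left.trans h.S0_le) (fun g hg =>
    mem_normalizer_iff.2 fun y => ⟨key g hg y, fun hy => by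
      simpa [mul_assoc] using key g⁻¹ (inv_mem hg) _ hy⟩) (h.pS0.to_le inf_le_left)
  exact hle ⟨hx, sup_le h.K_le_normQ h.J_le_normQ (h.S0_le hx), hc⟩

theorem exists_not_mem_R : ∃ A ∈ maxElemIn 2 T, ∃ a ∈ A, a ∉ Rk := by
  by_contra! hcon
  obtain ⟨d, hd, hd3, hdQ⟩ := h.exists_d
  have hJR : J ≤ Rk := by
    exact (thompsonOf_eq T).le.trans (sSup_le fun A hA => hcon A hA)
  refine hdQ ?_
  have h1 : ⁅K, J⁆ ≤ Qk := commutator_le.2 fun k hk j hj => h.commutator_mem_Q (hJR hj) hk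
  rw [h.comm] at h1
  exact h1 hd

/-- elements of `Q J` outside the core invert `K` modulo `Q`. -/
theorem inverts {x d : G} (hx : x ∈ S0) (hxR : x ∉ Rk) (hd : d ∈ K) (hd3 : orderOf d = 3) :
    x * d * x⁻¹ * d ∈ Qk := by
  by_cases hdQ : d ∈ Qk
  · refine mul_mem ((mem_normalizer_iff.1 ?_ d).1 hdQ) hdQ
    exact sup_le h.K_le_normQ h.J_le_normQ (h.S0_le hx)
  have hxK : x ∈ normalizer (K : Set G) := sup_le le_normalizer h.J_le_normK (h.S0_le hx)
  have hxQ : x ∈ normalizer (Qk : Set G) := normalizer_le_normalizer_pCoreOf 2 K hxK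
  rcases h.coset_cases hd hd3 hdQ ((mem_normalizer_iff.1 hxK d).1 hd) with e | e | e
  · exact absurd ((mem_normalizer_iff.1 hxQ d).2 e) hdQ
  · exfalso
    apply hxR
    refine h.mem_R_of_forall hx fun k hk => ?_
    have hdx : ⁅d, x⁆ ∈ Qk := by
      rw [show ⁅d, x⁆ = (x * d * x⁻¹ * d⁻¹)⁻¹ by rw [commutatorElement_def]; group]
      exact inv_mem e
    let D : Subgroup G :=
      { carrier := {g | g ∈ normalizer (Qk : Set G) ∧ ⁅g, x⁆ ∈ Qk}
        one_mem' := ⟨one_mem _, by rw [commutatorElement_one_left]; exact one_mem _⟩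
        mul_mem' := fun {a b} ha hb => ⟨mul_mem ha.1 hb.1, by
          rw [show ⁅a * b, x⁆ = a * ⁅b, x⁆ * a⁻¹ * ⁅a, x⁆ by simp only [commutatorElement_def]; group]
          exact mul_mem ((mem_normalizer_iff.1 ha.1 _).1 hb.2) ha.2⟩
        inv_mem' := fun {a} ha => ⟨inv_mem ha.1, by
          rw [show ⁅a⁻¹, x⁆ = a⁻¹ * ⁅a, x⁆⁻¹ * (a⁻¹)⁻¹ by simp only [commutatorElement_def]; group]
          exact (mem_normalizer_iff.1 (inv_mem ha.1) _).1 (inv_mem ha.2)⟩ }
    have hQD : Qk ≤ D := fun q hq => ⟨le_normalizer hq, by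
      rw [commutatorElement_def, mul_assoc q, mul_assoc q]
      exact mul_mem hq ((mem_normalizer_iff.1 hxQ _).1 (inv_mem hq))⟩
    have hdD : d ∈ D := ⟨h.K_le_normQ hd, hdx⟩
    rw [← h.K_eq hd hdQ] at hk
    exact ((sup_le hQD (zpowers_le.2 hdD)) hk).2
  · exact e

theorem mul_mem_R {x y : G} (hx : x ∈ S0) (hy : y ∈ S0) (hxR : x ∉ Rk) (hyR : y ∉ Rk) :
    x * y ∈ Rk := by
  by_contra hcon
  obtain ⟨d, hd, hd3, hdQ⟩ := h.exists_d
  have hd' : d⁻¹ ∈ K := inv_mem hd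
  have h1 := h.inverts (mul_mem hx hy) hcon hd hd3
  have h2 := h.inverts hy hyR hd hd3
  have hxQ : x ∈ normalizer (Qk : Set G) := sup_le h.K_le_normQ h.J_le_normQ (h.S0_le hx)
  have h3 := (mem_normalizer_iff.1 hxQ _).1 h2
  have h4 := h.inverts hx hxR hd hd3
  -- modulo `Q`: `(xy) d (xy)⁻¹ ≡ d`, so `d² ∈ Q`
  have h5 : x * y * d * (x * y)⁻¹ * (x * d * x⁻¹) ∈ Qk := by convert h3 using 1; group
  have h6 : d⁻¹ * (x * d * x⁻¹) ∈ Qk := by
    have := mul_mem (inv_mem h1) h5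
    convert this using 1; group
  have h8 : d * d ∈ Qk := by
    have h7 := (mem_normalizer_iff.1 (inv_mem (h.K_le_normQ hd)) _).1 h6
    -- `d⁻¹ (d⁻¹ x d x⁻¹) d ∈ Q`
    have h10 := mul_mem h4 (inv_mem h7)
    convert h10 using 1
    group
    simp [pow_two]
  apply hdQ
  have h9 := mul_mem h8 h8
  rwa [show d * d * (d * d) = d ^ 4 by simp [pow_succ, mul_assoc],
    show d ^ 4 = d by rw [pow_succ, ← hd3, pow_orderOf_eq_one, one_mul]] at h9

/-! ### The attached group `W` -/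

local notation "Wk" => wOf K

theorem W_le_omega : Wk ≤ omegaCenterOf Qk :=
  le_normalizer_iff_commutator_le_left.1
    (h.K_le_normQ.trans (normalizer_le_normalizer_omegaCenterOf Qk))

theorem W_le_Q : Wk ≤ Qk := h.W_le_omega.trans (omegaCenterOf_le _)

theorem W_le_K : Wk ≤ K := h.W_le_Q.trans h.Q_le

theorem elemW : IsElementaryAbelian 2 Wk := elemAb_mono (elemAb_omegaCenterOf _) h.W_le_omega

theorem Q_centralizes_W : Qk ≤ centralizer (Wk : Set G) :=
  (le_centralizer_self_omegaCenterOf _).trans (centralizer_le h.W_le_omega)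

theorem KJ_le_normW : K ⊔ J ≤ normalizer (Wk : Set G) :=
  (sup_le le_normalizer h.J_le_normK).trans (normalizer_le_normalizer_wOf K)

theorem commutator_d {d : G} (hd : d ∈ K) (hdQ : d ∉ Qk) :
    ⁅omegaCenterOf Qk, zpowers d⁆ = Wk := by
  refine le_antisymm (commutator_mono le_rfl (zpowers_le.2 hd)) (commutator_le.2 fun e he k hk => ?_)
  rw [← h.K_eq hd hdQ] at hk
  obtain ⟨q, hq, x, hx, rfl⟩ := CfsgLib.Comp.exists_mul_of_mem_sup
    (zpowers_le.2 (h.K_le_normQ hd)) hk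
  have hn := (zpowers_le.2 (h.K_le_normQ hd)).trans (normalizer_le_normalizer_omegaCenterOf Qk) hx
  have h1 : x * e⁻¹ * x⁻¹ ∈ omegaCenterOf Qk := (mem_normalizer_iff.1 hn _).1 (inv_mem he)
  have hc := le_centralizer_self_omegaCenterOf _ hq _ h1
  rw [show ⁅e, q * x⁆ = e * (q * (x * e⁻¹ * x⁻¹)) * q⁻¹ by rw [commutatorElement_def]; group, ← hc,
    show e * (x * e⁻¹ * x⁻¹ * q) * q⁻¹ = ⁅e, x⁆ by rw [commutatorElement_def]; group]
  exact commutator_mem_commutator he hx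

/-- An element of `K` of order three fixes no nontrivial element of `W`. -/
theorem fix_eq_one {d : G} (hd : d ∈ K) (hd3 : orderOf d = 3) {w : G} (hw : w ∈ Wk)
    (hdw : d * w * d⁻¹ = w) : w = 1 := by
  have hdQ : d ∉ Qk := by
    intro hdQ
    obtain ⟨n, hn⟩ := h.pQ.exists_card_eq
    have h1 := Subgroup.orderOf_dvd_natCard Qk hdQ
    rw [hd3, hn] at h1
    have := (Nat.prime_dvd_prime_iff_eq Nat.prime_three Nat.prime_two).1
      (Nat.prime_three.dvd_of_dvd_pow h1)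
    omega
  have h1 : w ∈ ⁅omegaCenterOf Qk, zpowers d⁆ ⊓ centralizer (zpowers d : Set G) := by
    refine ⟨by rw [h.commutator_d hd hdQ]; exact hw, ?_⟩
    show w ∈ centralizer (zpowers d : Set G)
    rw [zpowers_eq_closure, centralizer_closure, mem_centralizer_singleton_iff]
    exact (mul_inv_eq_iff_eq_mul.1 hdw).symm
  rw [CfsgLib.Coprime.commutator_inf_centralizer_eq_bot (elemAb_omegaCenterOf Qk).1
    ((zpowers_le.2 (h.K_le_normQ hd)).trans (normalizer_le_normalizer_omegaCenterOf Qk))] at h1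
  · exact mem_bot.1 h1
  · obtain ⟨n, hn⟩ := (elemAb_isPGroup (elemAb_omegaCenterOf Qk)).exists_card_eq
    rw [hn, Nat.card_zpowers, hd3]
    exact Nat.Coprime.pow_right n (by norm_num)

theorem R_conj_fix {r d w : G} (hr : r ∈ Rk) (hd : d ∈ K) (hw : w ∈ Wk)
    (hrw : r * w * r⁻¹ = w) : r * (d * w * d⁻¹) * r⁻¹ = d * w * d⁻¹ := by
  have h1 := h.commutator_mem_Q hr hd
  have hdw : d * w * d⁻¹ ∈ Wk := (mem_normalizer_iff.1 (h.KJ_le_normW (mem_sup_left hd)) w).1 hw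
  have h2 := h.Q_centralizes_W (inv_mem h1) _ hdw
  calc r * (d * w * d⁻¹) * r⁻¹ = ⁅d, r⁆⁻¹ * (d * (r * w * r⁻¹) * d⁻¹) * ⁅d, r⁆ := by
        rw [commutatorElement_def]; group
    _ = d * w * d⁻¹ := by rw [hrw, ← h2]; group

/-- Outside the core one inverts `d` on `W`. -/
theorem S0_conj {x d w : G} (hx : x ∈ S0) (hxR : x ∉ Rk) (hd : d ∈ K) (hd3 : orderOf d = 3)
    (hw : w ∈ Wk) (hxw : x * w * x⁻¹ = w) :
    x * (d * w * d⁻¹) * x⁻¹ = d⁻¹ * w * d := by
  have h1 := h.inverts hx hxR hd hd3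
  have hdw : d⁻¹ * w * d ∈ Wk := by
    simpa using (mem_normalizer_iff.1 (h.KJ_le_normW (mem_sup_left (inv_mem hd))) w).1 hw
  have h2 := h.Q_centralizes_W h1 _ hdw
  calc x * (d * w * d⁻¹) * x⁻¹
      = (x * d * x⁻¹ * d) * (d⁻¹ * (x * w * x⁻¹) * d) * (x * d * x⁻¹ * d)⁻¹ := by group
    _ = d⁻¹ * w * d := by rw [hxw, ← h2]; group

/-- The first two axioms already bound `W` by a four-group. -/
theorem card_wOf_le : Nat.card Wk ≤ 4 := by
  obtain ⟨d, hd, hd3, hdQ⟩ := h.exists_d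
  obtain ⟨A, hA, a, haA, haR⟩ := h.exists_not_mem_R
  have hAJ : A ≤ J := le_thompsonOf hA
  have hAS : A ≤ S0 := hAJ.trans le_sup_right
  have ha2 : a ^ 2 = 1 := hA.2.1.2 a haA
  have haS : a ∈ S0 := hAS haA
  have haW : a ∈ normalizer (Wk : Set G) := h.KJ_le_normW (h.S0_le haS)
  have hWc : Wk ≤ centralizer (Wk : Set G) := elemAb_le_centralizer h.elemW
  set M := Wk ⊓ centralizer (zpowers a : Set G) with hMdef
  set A0 := A ⊓ Rk with hA0def
  -- `|W| ≤ |M|²`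
  have hquad : ⁅⁅Wk, zpowers a⁆, zpowers a⁆ = ⊥ := by
    refine quad_of_elem hWc haW fun v hv => ?_
    have hv2 : v⁻¹ = v := inv_eq_of_mul_eq_one_right (by rw [← pow_two]; exact h.elemW.2 v hv)
    have hai : a⁻¹ = a := inv_eq_of_mul_eq_one_right (by rw [← pow_two]; exact ha2)
    have h1 : a * v * a ∈ Wk := by
      have h3 := (mem_normalizer_iff.1 haW v).1 hv
      rwa [hai] at h3
    have h2 := elemAb_comm h.elemW hv h1
    show a * ⁅a, v⁆ = ⁅a, v⁆ * a
    have haa : a * a = 1 := by rw [← pow_two]; exact ha2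
    rw [commutatorElement_def, hai, hv2]
    calc a * (a * v * a * v) = (a * a) * (v * a * v) := by group
      _ = v * a * v := by rw [haa, one_mul]
      _ = v * (a * v * a) * a := by simp only [mul_assoc, haa, mul_one]
      _ = _ := by rw [h2]
  have hWM : Nat.card Wk ≤ Nat.card M ^ 2 := card_le_sq_of_quad hWc haW hquad
  -- `M` meets `d M d⁻¹` trivially
  have hMd : M ⊓ cj d M = ⊥ := by
    refine (Subgroup.eq_bot_iff_forall _).2 fun x hx => ?_
    obtain ⟨⟨hxW, hxa⟩, y, ⟨hyW, hya⟩, hxy⟩ := hx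
    replace hxy : d * y * d⁻¹ = x := hxy
    have ex : a * x * a⁻¹ = x := mul_inv_eq_iff_eq_mul.2 (hxa a (mem_zpowers a))
    have ey : a * y * a⁻¹ = y := mul_inv_eq_iff_eq_mul.2 (hya a (mem_zpowers a))
    have h1 := h.S0_conj haS haR hd hd3 hyW ey
    rw [hxy, ex, ← hxy] at h1
    have h2 : d * y * d⁻¹ = d⁻¹ * y * d := h1
    have h3 : d ^ 3 = 1 := by rw [← hd3, pow_orderOf_eq_one]
    have h4 : d * y * d⁻¹ = y := by
      calc d * y * d⁻¹ = d⁻¹ * y * d := h2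
        _ = d⁻¹ * (d⁻¹ * (d * y * d⁻¹) * d) * d := by group
        _ = d⁻¹ * (d⁻¹ * (d⁻¹ * y * d) * d) * d := by rw [h2]
        _ = (d ^ 3)⁻¹ * y * d ^ 3 := by simp [pow_succ, mul_assoc]
        _ = y := by rw [h3]; simp
    rw [← hxy, h4]; exact h.fix_eq_one hd hd3 hyW h4
  have hMW : M ≤ Wk := inf_le_left
  have hdMW : cj d M ≤ Wk :=
    (cj_mono hMW).trans (cj_eq_self (h.KJ_le_normW (mem_sup_left hd))).le
  have hsup : M ⊔ cj d M = Wk := by
    refine eq_of_le_of_card_ge (sup_le hMW hdMW) (hWM.trans_eq ?_)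
    rw [CfsgLib.Coprime.card_sup_of_inf_eq_bot
      ((hdMW.trans hWc).trans ((centralizer_le hMW).trans (centralizer_le_normalizer _)))
      (by rw [inf_comm]; exact hMd), card_cj, pow_two]
  -- sizes
  have hA0 : IsElementaryAbelian 2 A0 := elemAb_mono hA.2.1 inf_le_left
  have hA0R : A0 ≤ Rk := inf_le_right
  have hAc : ∀ {x : G}, x ∈ centralizer (A0 : Set G) → x ∈ centralizer (zpowers a : Set G) →
      x ∈ centralizer (A : Set G) := by
    intro x hx hxa b hb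
    by_cases hbR : b ∈ Rk
    · exact hx b ⟨hb, hbR⟩
    have h1 : b * a ∈ A0 := ⟨mul_mem hb haA, h.mul_mem_R (hAS hb) haS hbR haR⟩
    have e : b = b * a * a⁻¹ := by group
    have hcx : x ∈ centralizer ({b * a, a} : Set G) := by
      rintro y (hy | hy) <;> rw [hy]
      exacts [hx _ h1, hxa _ (mem_zpowers a)]
    have hb' : b ∈ centralizer ({x} : Set G) := by
      rw [e]
      exact mul_mem (mem_centralizer_singleton_iff.2 (hcx _ (Or.inl rfl)))
        (inv_mem (mem_centralizer_singleton_iff.2 (hcx _ (Or.inr rfl))))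
    exact mem_centralizer_singleton_iff.1 hb'
  set F := M ⊓ centralizer (A0 : Set G) with hFdef
  have hFA : F ≤ centralizer (A : Set G) := fun x hx => hAc hx.2 hx.1.2
  have hcardA : Nat.card A ≤ 2 * Nat.card A0 := by
    have h1 := relIndex_mul_relIndex ⊥ A0 A bot_le inf_le_left
    rw [relIndex_bot_left, relIndex_bot_left] at h1
    have h2 : A0.relIndex A ≤ 2 := by
      classical
      let g : ↥A ⧸ A0.subgroupOf A → Bool := fun q => decide ((q.out : G) ∈ Rk)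
      have hg : Function.Injective g := by
        intro q r hqr
        rw [← QuotientGroup.out_eq' q, ← QuotientGroup.out_eq' r, QuotientGroup.eq, mem_subgroupOf]
        refine ⟨(q.out⁻¹ * r.out).2, ?_⟩
        have hqr' : (q.out : G) ∈ Rk ↔ (r.out : G) ∈ Rk := by simpa [g] using hqr
        show (q.out : G)⁻¹ * r.out ∈ Rk
        by_cases hq : (q.out : G) ∈ Rk
        · exact mul_mem (inv_mem hq) (hqr'.1 hq)
        · exact h.mul_mem_R (inv_mem (hAS q.out.2)) (hAS r.out.2)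
            (fun e => hq (inv_inv (q.out : G) ▸ inv_mem e)) (fun e => hq (hqr'.2 e))
      have := Nat.card_le_card_of_injective g hg
      simpa [Subgroup.relIndex, Subgroup.index] using this
    rw [← h1, mul_comm 2]
    exact Nat.mul_le_mul_left _ h2
  have hbound : ∀ {B : Subgroup G}, IsElementaryAbelian 2 B → B ≤ S0 →
      Nat.card B ≤ 2 * Nat.card A0 := fun hB hBS => by
    refine (card_le_aOrd hBS hB).trans ?_
    rw [aOrd_congr h.thompsonS0, ← card_eq_aOrd hA]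
    exact hcardA
  have hdF : cj d F ≤ centralizer (A0 : Set G) := by
    rintro _ ⟨y, hy, rfl⟩ b hb
    exact mul_inv_eq_iff_eq_mul.1
      (h.R_conj_fix (hA0R hb) hd hy.1.1 (mul_inv_eq_iff_eq_mul.2 (hy.2 b hb)))
  have hfix : Nat.card F ≤ 2 := by
    set D := F ⊔ cj d F
    have hDW : D ≤ Wk := sup_le (inf_le_left.trans hMW) ((cj_mono inf_le_left).trans hdMW)
    have hDA : D ≤ centralizer (A0 : Set G) := sup_le inf_le_right hdF
    have hDcard : Nat.card D = Nat.card F * Nat.card F := by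
      show Nat.card ↥(F ⊔ cj d F) = _
      rw [CfsgLib.Coprime.card_sup_of_inf_eq_bot
        ((((cj_mono inf_le_left).trans hdMW).trans hWc).trans
          ((centralizer_le (inf_le_left.trans hMW)).trans (centralizer_le_normalizer _)))
        (le_bot_iff.1 ((inf_le_inf (cj_mono inf_le_left) inf_le_left).trans
          (inf_comm M (cj d M) ▸ hMd.le))), card_cj]
    have h1 := hbound (elemAb_sup hA0 (elemAb_mono h.elemW hDW) (le_centralizer_iff.1 hDA))
      (sup_le (inf_le_left.trans hAS) (hDW.trans (h.W_le_Q.trans le_sup_left)))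
    have h2 : A0 ⊓ D ≤ F := fun x hx =>
      ⟨⟨hDW hx.2, fun y hy => elemAb_comm hA.2.1 (zpowers_le.2 haA hy) hx.1.1⟩, hDA hx.2⟩
    have h3 := card_mul_le_card_sup_mul_inf A0 D
    have h4 : Nat.card ↥(A0 ⊓ D) ≤ Nat.card F := Subgroup.card_le_of_le h2
    rw [hDcard] at h3
    have h5 : Nat.card A0 * (Nat.card F * Nat.card F) ≤ Nat.card A0 * (2 * Nat.card F) := by
      calc _ ≤ _ := h3
        _ ≤ 2 * Nat.card A0 * Nat.card F := Nat.mul_le_mul h1 h4
        _ = _ := by ring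
    have h6 := Nat.le_of_mul_le_mul_left h5 Nat.card_pos
    exact Nat.le_of_mul_le_mul_right h6 Nat.card_pos
  by_cases hM1 : M = ⊥
  · rw [hM1, Subgroup.card_bot] at hWM; omega
  have hA0M : A0 ≤ normalizer (M : Set G) := by
    refine le_trans ?_ Subgroup.inf_normalizer_le_normalizer_inf
    exact le_inf ((inf_le_left.trans hAS).trans (h.S0_le.trans h.KJ_le_normW))
      (((inf_le_left : A0 ≤ A).trans ((elemAb_le_centralizer hA.2.1).trans
        (centralizer_le (zpowers_le.2 haA)))).trans le_normalizer)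
  have habel := card_abelian_fix_two (elemAb_isPGroup hA0) (elemAb_le_centralizer hA0)
    (elemAb_mono h.elemW hMW) hA0M hM1 hfix
  set C' := A0 ⊓ centralizer (M : Set G)
  have hC'W : C' ≤ centralizer (Wk : Set G) := by
    refine le_centralizer_iff.1 ?_
    rw [← hsup]
    refine sup_le (le_centralizer_iff.1 inf_le_right) ?_
    rintro _ ⟨y, hy, rfl⟩ b hb
    exact mul_inv_eq_iff_eq_mul.1
      (h.R_conj_fix (hA0R hb.1) hd hy.1 (mul_inv_eq_iff_eq_mul.2 (hb.2 y hy).symm))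
  have h1 := hbound (elemAb_sup (elemAb_mono hA0 inf_le_left) h.elemW hC'W)
    (sup_le (inf_le_left.trans (inf_le_left.trans hAS)) (h.W_le_Q.trans le_sup_left))
  have h2 := card_mul_le_card_sup_mul_inf C' Wk
  have h3 : Nat.card ↥(C' ⊓ Wk) ≤ 2 := by
    refine le_trans (Subgroup.card_le_of_le ?_) hfix
    exact fun x hx => ⟨⟨hx.2, fun y hy => elemAb_comm hA.2.1 (zpowers_le.2 haA hy) hx.1.1.1⟩,
      fun y hy => elemAb_comm hA0 hy hx.1.1⟩
  have h4 := relIndex_mul_relIndex ⊥ C' A0 bot_le inf_le_left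
  rw [relIndex_bot_left, relIndex_bot_left] at h4
  have hW2 : Nat.card M * Nat.card M ≤ Nat.card Wk := by
    rw [← hsup, CfsgLib.Coprime.card_sup_of_inf_eq_bot
      ((hdMW.trans hWc).trans ((centralizer_le hMW).trans (centralizer_le_normalizer _)))
      (by rw [inf_comm]; exact hMd), card_cj]
  have h5 : Nat.card C' * (Nat.card M * Nat.card M) ≤ Nat.card C' * (2 * Nat.card M) := by
    calc _ ≤ Nat.card C' * Nat.card Wk := Nat.mul_le_mul_left _ hW2
      _ ≤ _ := h2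
      _ ≤ 2 * Nat.card A0 * 2 := Nat.mul_le_mul h1 h3
      _ = Nat.card C' * (2 * (2 * C'.relIndex A0)) := by rw [← h4]; ring
      _ ≤ _ := Nat.mul_le_mul_left _ (Nat.mul_le_mul_left _ habel)
  have h6 := Nat.le_of_mul_le_mul_right (Nat.le_of_mul_le_mul_left h5 Nat.card_pos) Nat.card_pos
  calc Nat.card Wk ≤ Nat.card M ^ 2 := hWM
    _ ≤ 2 ^ 2 := Nat.pow_le_pow_left h6 2

end Pre

end CfsgLib.ClassK.ZN
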