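import Cfsg.Agent.Lib.ClassK.ZNComp

/-!
`J(T)`-components: the four-group sits in `J(T)`, and `Ω₁(Z(J(T)))` splits over it.
-/

set_option autoImplicit false
set_option linter.unusedSectionVars false

namespace CfsgLib.ClassK.ZN

open Cfsg Subgroup CfsgLib.PLocal
open scoped commutatorElement

variable {G : Type*} [Group G] [Finite G]

namespace Comp

variable {T K : Subgroup G}

local notation "Qk" => pCoreOf 2 K
local notation "Rk" => pCoreOf 2 (K ⊔ thompsonSubgroupOf 2 T)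
local notation "S0" => pCoreOf 2 K ⊔ thompsonSubgroupOf 2 T
local notation "J" => thompsonSubgroupOf 2 T
local notation "Wk" => wOf K
local notation "Z0" => omegaCenterOf (thompsonSubgroupOf 2 T)

variable (hT : IsPGroup 2 T) (hK : IsJComponent T K)
include hT hK

theorem pre : Pre T K := pre_of_isJComponent hT hK

theorem cardW : Nat.card Wk = 4 := hK.2.2.2.2.1

theorem sqW : ∀ w ∈ Wk, w * w = 1 := hK.2.2.2.2.2

theorem W_ne_bot : Wk ≠ ⊥ := fun e => by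
  have h := cardW hT hK
  rw [e, Subgroup.card_bot] at h
  omega

theorem not_mem_centralizer_of_not_mem_R {x : G} (hx : x ∈ S0) (hxR : x ∉ Rk) :
    x ∉ centralizer (Wk : Set G) := by
  intro hxc
  have h := pre hT hK
  obtain ⟨d, hd, hd3, hdQ⟩ := h.exists_d
  obtain ⟨w, hw, hw1, -⟩ := exists_mem_ne (cardW hT hK) 1
  have hfix : ∀ v ∈ Wk, x * v * x⁻¹ = v := fun v hv => mul_inv_eq_iff_eq_mul.2 (hxc v hv).symm
  have h1 := h.S0_conj hx hxR hd hd3 hw (hfix w hw)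
  rw [hfix _ ((mem_normalizer_iff.1 (h.KJ_le_normW (mem_sup_left hd)) w).1 hw)] at h1
  have h4 : d * w * d⁻¹ = w := by
    have h3 : d ^ 3 = 1 := by rw [← hd3, pow_orderOf_eq_one]
    calc d * w * d⁻¹ = d⁻¹ * w * d := h1
      _ = d⁻¹ * (d⁻¹ * (d * w * d⁻¹) * d) * d := by group
      _ = d⁻¹ * (d⁻¹ * (d⁻¹ * w * d) * d) * d := by rw [h1]
      _ = (d ^ 3)⁻¹ * w * d ^ 3 := by simp [pow_succ, mul_assoc]
      _ = w := by rw [h3]; simp
  exact hw1 (h.fix_eq_one hd hd3 hw h4)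

theorem R_le_centralizer : Rk ≤ centralizer (Wk : Set G) := by
  intro r hr
  have h := pre hT hK
  obtain ⟨d, hd, hd3, hdQ⟩ := h.exists_d
  have hRW : Rk ≤ normalizer (Wk : Set G) :=
    (CfsgLib.Amalgam.pCoreOf_le _).trans h.KJ_le_normW
  obtain ⟨w, hw, hw1, hfix, -⟩ := four_fixed (cardW hT hK) (sqW hT hK) h.pR hRW
  have hdw : d * w * d⁻¹ ∈ Wk := (mem_normalizer_iff.1 (h.KJ_le_normW (mem_sup_left hd)) w).1 hw
  exact mem_centralizer_four (cardW hT hK) (sqW hT hK) hw hdw hw1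
    (fun e => hw1 (conj_eq_one_iff.1 e)) (fun e => hw1 (h.fix_eq_one hd hd3 hw e.symm))
    (hfix r hr) (h.R_conj_fix hr hd hw (hfix r hr))

/-- The kernel of `⟨K, J(T)⟩` on `W` is its core. -/
theorem R_eq : (K ⊔ J) ⊓ centralizer (Wk : Set G) = Rk := by
  refine le_antisymm ?_ (le_inf (CfsgLib.Amalgam.pCoreOf_le _) (R_le_centralizer hT hK))
  rintro x ⟨hx, hxc⟩
  have h := pre hT hK
  obtain ⟨k, hk, j, hj, rfl⟩ := CfsgLib.Comp.exists_mul_of_mem_sup h.J_le_normK hx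
  obtain ⟨d, hd, hd3, hdQ⟩ := h.exists_d
  -- split `k j = (k q⁻¹) (q j)` along the cosets of `Q`
  have hjS : j ∈ S0 := mem_sup_right hj
  rcases h.coset_cases hd hd3 hdQ hk with hq | hq | hq
  · by_contra hR
    exact not_mem_centralizer_of_not_mem_R hT hK (mul_mem (mem_sup_left hq) hjS) hR hxc
  all_goals
    exfalso
    obtain ⟨w, hw, hw1, hfix, -⟩ := four_fixed (cardW hT hK) (sqW hT hK) h.pS0
      (h.S0_le.trans h.KJ_le_normW)
    have hfw : k * j * w * (k * j)⁻¹ = w := mul_inv_eq_iff_eq_mul.2 (hxc w hw).symm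
    have hkw : k * w * k⁻¹ = w := by
      calc k * w * k⁻¹ = k * (j * w * j⁻¹) * k⁻¹ := by rw [hfix j hjS]
        _ = w := by rw [show k * (j * w * j⁻¹) * k⁻¹ = k * j * w * (k * j)⁻¹ by group, hfw]
  · have e : d * w * d⁻¹ = w := by
      calc d * w * d⁻¹ = (k * d⁻¹) * (d * w * d⁻¹) * (k * d⁻¹)⁻¹ := by
            rw [← h.Q_centralizes_W hq _
              ((mem_normalizer_iff.1 (h.KJ_le_normW (mem_sup_left hd)) w).1 hw)]; group
        _ = w := by rw [show k * d⁻¹ * (d * w * d⁻¹) * (k * d⁻¹)⁻¹ = k * w * k⁻¹ by group, hkw]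
    exact hw1 (h.fix_eq_one hd hd3 hw e)
  · have hw' : d⁻¹ * w * d ∈ Wk := by
      simpa using (mem_normalizer_iff.1 (h.KJ_le_normW (mem_sup_left (inv_mem hd))) w).1 hw
    have e : d⁻¹ * w * d = w := by
      calc d⁻¹ * w * d = (k * d) * (d⁻¹ * w * d) * (k * d)⁻¹ := by
            rw [← h.Q_centralizes_W hq _ hw']; group
        _ = w := by rw [show k * d * (d⁻¹ * w * d) * (k * d)⁻¹ = k * w * k⁻¹ by group, hkw]
    refine hw1 (h.fix_eq_one hd hd3 hw ?_)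
    conv_lhs => rw [← e]
    group

theorem K_inf_centralizer : K ⊓ centralizer (Wk : Set G) = Qk := by
  have h := pre hT hK
  refine le_antisymm ?_ (le_inf h.Q_le h.Q_centralizes_W)
  rintro x ⟨hx, hxc⟩
  exact h.le_Q (h.pR.to_le inf_le_right) inf_le_left
    (mem_inf.2 ⟨hx, (R_eq hT hK).le ⟨mem_sup_left hx, hxc⟩⟩ : x ∈ K ⊓ Rk)

/-- The point of `W` fixed by `J(T)`. -/
theorem exists_w0 : ∃ w ∈ Wk, w ≠ 1 ∧ (∀ r ∈ S0, r * w * r⁻¹ = w) ∧
    ∀ x ∈ S0, x ∉ Rk → ∀ v ∈ Wk, x * v * x⁻¹ = v → v = 1 ∨ v = w := by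
  have h := pre hT hK
  obtain ⟨w, hw, hw1, hfix, huniq⟩ := four_fixed (cardW hT hK) (sqW hT hK) h.pS0
    (h.S0_le.trans h.KJ_le_normW)
  exact ⟨w, hw, hw1, hfix, fun x hx hxR => huniq x hx (not_mem_centralizer_of_not_mem_R hT hK hx hxR)⟩

theorem inf_centralizer_J_eq {w : G} (hw : w ∈ Wk) (hw1 : w ≠ 1)
    (hfix : ∀ r ∈ S0, r * w * r⁻¹ = w)
    (huniq : ∀ x ∈ S0, x ∉ Rk → ∀ v ∈ Wk, x * v * x⁻¹ = v → v = 1 ∨ v = w) :
    Wk ⊓ centralizer (J : Set G) = zpowers w := by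
  refine le_antisymm ?_ (zpowers_le.2 ⟨hw, fun r hr => ?_⟩)
  · rintro v ⟨hv, hvc⟩
    obtain ⟨A, hA, a, ha, haR⟩ := (pre hT hK).exists_not_mem_R
    have haJ : a ∈ J := le_thompsonOf hA ha
    rcases huniq a (mem_sup_right haJ) haR v hv (mul_inv_eq_iff_eq_mul.2 (hvc a haJ)) with rfl | rfl
    exacts [one_mem _, mem_zpowers _]
  · exact mul_inv_eq_iff_eq_mul.1 (hfix r (mem_sup_right hr))

theorem card_inf_centralizer_J : Nat.card ↥(Wk ⊓ centralizer (J : Set G)) = 2 := by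
  obtain ⟨w, hw, hw1, hfix, huniq⟩ := exists_w0 hT hK
  rw [inf_centralizer_J_eq hT hK hw hw1 hfix huniq, Nat.card_zpowers]
  exact orderOf_eq_prime (by rw [pow_two]; exact sqW hT hK w hw) hw1

/-- For a member `A ⊄ R`, the group `(A ∩ R) W` is again a largest elementary abelian subgroup. -/
theorem sup_mem_maxElemIn {A : Subgroup G} (hA : A ∈ maxElemIn 2 T) (hAR : ¬ A ≤ Rk) :
    (A ⊓ Rk) ⊔ Wk ∈ maxElemIn 2 (S0) ∧ Nat.card ↥(A ⊓ Wk) ≤ 2 ∧
      Nat.card A = 2 * Nat.card ↥(A ⊓ Rk) := by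
  have h := pre hT hK
  obtain ⟨a, ha, haR⟩ := SetLike.not_le_iff_exists.1 hAR
  have hAS : A ≤ S0 := (le_thompsonOf hA).trans le_sup_right
  obtain ⟨w, hw, hw1, hfix, huniq⟩ := exists_w0 hT hK
  have hAW : Nat.card ↥(A ⊓ Wk) ≤ 2 := by
    refine le_trans (Subgroup.card_le_of_le (K := zpowers w) fun v hv => ?_) ?_
    · rcases huniq a (hAS ha) haR v hv.2
        (mul_inv_eq_iff_eq_mul.2 (elemAb_comm hA.2.1 ha hv.1)) with rfl | rfl
      exacts [one_mem _, mem_zpowers _]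
    · rw [Nat.card_zpowers]
      exact orderOf_le_of_pow_eq_one (by norm_num) (by rw [pow_two]; exact sqW hT hK w hw)
  have hcard : Nat.card A = 2 * Nat.card ↥(A ⊓ Rk) := by
    have h1 := relIndex_mul_relIndex ⊥ (A ⊓ Rk) A bot_le inf_le_left
    rw [relIndex_bot_left, relIndex_bot_left] at h1
    rw [← h1, mul_comm]
    congr 1
    rw [relIndex, index_eq_two_iff]
    refine ⟨⟨a, ha⟩, fun b => ?_⟩
    simp only [mem_subgroupOf, Subgroup.coe_mul]
    by_cases hb : (b : G) ∈ Rk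
    · exact Or.inr ⟨⟨b.2, hb⟩, fun hba => haR ((mul_mem_cancel_left hb).1 hba.2)⟩
    · exact Or.inl ⟨⟨mul_mem b.2 ha, h.mul_mem_R (hAS b.2) (hAS ha) hb haR⟩, fun hb' => hb hb'.2⟩
  refine ⟨mem_maxElemIn_of_card ?_ ?_ ?_, hAW, hcard⟩
  · exact sup_le (inf_le_left.trans hAS) (h.W_le_Q.trans le_sup_left)
  · exact elemAb_sup (elemAb_mono hA.2.1 inf_le_left) h.elemW
      (inf_le_right.trans (R_le_centralizer hT hK))
  · rw [aOrd_congr h.thompsonS0, ← card_eq_aOrd hA, hcard]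
    have h2 := card_mul_le_card_sup_mul_inf (A ⊓ Rk) Wk
    have h3 : Nat.card ↥(A ⊓ Rk ⊓ Wk) ≤ 2 :=
      (Subgroup.card_le_of_le (inf_le_inf_right _ inf_le_left)).trans hAW
    rw [cardW hT hK] at h2
    have h4 := h2.trans (Nat.mul_le_mul_left _ h3)
    omega

theorem W_le_J : Wk ≤ J := by
  have h := pre hT hK
  obtain ⟨A, hA, a, ha, haR⟩ := h.exists_not_mem_R
  rw [← h.thompsonS0]
  exact le_sup_right.trans (le_thompsonOf (sup_mem_maxElemIn hT hK hA fun e => haR (e ha)).1)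

theorem W_le_T : Wk ≤ T := (W_le_J hT hK).trans (thompsonOf_le T)

theorem Z0_inf_W : Z0 ⊓ Wk = Wk ⊓ centralizer (J : Set G) := by
  refine le_antisymm (fun x hx => ⟨hx.2, (omegaOne_le 2 _ hx.1).2⟩) fun x hx => ⟨?_, hx.1⟩
  exact mem_omegaCenterOf (W_le_J hT hK hx.1) (by rw [pow_two]; exact sqW hT hK x hx.1) hx.2

/-- Every element of `Ω₁(Z(J(T)))` is, up to the fixed point of `W`, central in `⟨K, J(T)⟩`. -/
theorem Z0_decomp : (Z0 ⊓ ((K ⊔ J) ⊓ centralizer ((K ⊔ J : Subgroup G) : Set G))) ⊔ (Z0 ⊓ Wk) =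
    Z0 := by
  have h := pre hT hK
  refine le_antisymm (sup_le inf_le_left inf_le_left) fun z hz => ?_
  obtain ⟨d, hd, hd3, hdQ⟩ := h.exists_d
  obtain ⟨A, hA, a, haA, haR⟩ := h.exists_not_mem_R
  have haJ : a ∈ J := le_thompsonOf hA haA
  have hAR : ¬ A ≤ Rk := fun e => haR (e haA)
  -- the maximal members inside `R` and their common centre
  obtain ⟨hB, -, -⟩ := sup_mem_maxElemIn hT hK hA hAR
  have hBR : A ⊓ Rk ⊔ Wk ≤ Rk := sup_le inf_le_right (h.W_le_Q.trans h.Q_le_R)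
  set J1 := thompsonSubgroupOf 2 Rk with hJ1
  set Y := omegaCenterOf J1 with hY
  have hBmem : A ⊓ Rk ⊔ Wk ∈ maxElemIn 2 Rk :=
    (maxElemIn_of_le h.R_le_S0 hB hBR).2 ⟨hB, hBR⟩
  have hnY : K ⊔ J ≤ normalizer (Y : Set G) :=
    h.KJ_le_normR.trans ((normalizer_le_normalizer_thompsonOf _).trans
      (normalizer_le_normalizer_omegaCenterOf _))
  have hWY : Wk ≤ Y := by
    refine le_omegaCenterOf h.elemW (le_sup_right.trans (le_thompsonOf hBmem)) ?_
    rw [le_centralizer_iff]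
    exact (thompsonOf_le _).trans (R_le_centralizer hT hK)
  have hYB : Y ≤ A ⊓ Rk ⊔ Wk := omegaCenterThompson_le hBmem
  have hzJ : ∀ j ∈ J, j * z * j⁻¹ = z := fun j hj =>
    mul_inv_eq_iff_eq_mul.2 (le_centralizer_self_omegaCenterOf J hj z hz).symm
  have hzA : z ∈ A := omegaCenterThompson_le hA hz
  have hzR : z ∈ Rk := by
    refine (R_eq hT hK).le ⟨mem_sup_right (omegaCenterOf_le _ hz), fun v hv => ?_⟩
    exact le_centralizer_self_omegaCenterOf J (W_le_J hT hK hv) z hz |>.symm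
  have hzY : z ∈ Y := by
    refine mem_omegaCenterOf (le_thompsonOf hBmem (mem_sup_left ⟨hzA, hzR⟩))
      ((elemAb_omegaCenterOf J).2 z hz) ?_
    intro x hx
    have hxJ : x ∈ J := by
      rw [← h.thompsonS0]
      refine thompson_le_thompson ((thompsonOf_le _).trans h.R_le_S0) ?_ hx
      rw [← card_eq_aOrd hBmem, ← card_eq_aOrd hB]
    exact (le_centralizer_self_omegaCenterOf J hxJ z hz).symm
  -- the group acts trivially on `Y / W`
  let D : Subgroup G :=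
    { carrier := {g | g ∈ normalizer (Y : Set G) ∧ g ∈ normalizer (Wk : Set G) ∧
        ∀ y ∈ Y, g * y * g⁻¹ * y⁻¹ ∈ Wk}
      one_mem' := ⟨one_mem _, one_mem _, fun y _ => by simp⟩
      mul_mem' := fun {g k} hg hk => ⟨mul_mem hg.1 hk.1, mul_mem hg.2.1 hk.2.1, fun y hy => by
        rw [show g * k * y * (g * k)⁻¹ * y⁻¹ =
          g * (k * y * k⁻¹ * y⁻¹) * g⁻¹ * (g * y * g⁻¹ * y⁻¹) by group]
        exact mul_mem ((mem_normalizer_iff.1 hg.2.1 _).1 (hk.2.2 y hy)) (hg.2.2 y hy)⟩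
      inv_mem' := fun {g} hg => ⟨inv_mem hg.1, inv_mem hg.2.1, fun y hy => by
        have hy' : g⁻¹ * y * g ∈ Y := by simpa using (mem_normalizer_iff.1 (inv_mem hg.1) y).1 hy
        have := inv_mem (hg.2.2 _ hy')
        convert this using 1
        group⟩ }
  have hJD : J ≤ D := by
    rw [thompsonOf_eq]
    refine sSup_le fun B hB' b hb => ?_
    have hbJ : b ∈ J := le_thompsonOf hB' hb
    refine ⟨hnY (mem_sup_right hbJ), h.KJ_le_normW (mem_sup_right hbJ), fun y hy => ?_⟩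
    have hC : ∃ B' : Subgroup G, B' ∈ maxElemIn 2 Rk ∧ ∀ x ∈ B', b * x * b⁻¹ * x⁻¹ ∈ Wk := by
      by_cases hBR' : B ≤ Rk
      · refine ⟨B, mem_maxElemIn_of_card hBR' hB'.2.1 ?_, fun x hx => ?_⟩
        · rw [← card_eq_aOrd hBmem, card_eq_aOrd hB, aOrd_congr h.thompsonS0, ← card_eq_aOrd hB']
        · rw [mul_inv_eq_iff_eq_mul.2 (elemAb_comm hB'.2.1 hb hx), mul_inv_cancel]; exact one_mem _
      · obtain ⟨hB'', -, -⟩ := sup_mem_maxElemIn hT hK hB' hBR'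
        refine ⟨_, (maxElemIn_of_le h.R_le_S0 hB (hBR)).2
          ⟨hB'', sup_le inf_le_right (h.W_le_Q.trans h.Q_le_R)⟩, fun x hx => ?_⟩
        obtain ⟨u, hu, v, hv, rfl⟩ := (CfsgLib.Coprime.mem_sup_of_le_normalizer
          ((le_centralizer_iff.1 (inf_le_right.trans (R_le_centralizer hT hK))).trans
            (centralizer_le_normalizer _) :
              Wk ≤ normalizer ((B ⊓ Rk : Subgroup G) : Set G))).1 hx
        have h1 : b * u * b⁻¹ = u := mul_inv_eq_iff_eq_mul.2 (elemAb_comm hB'.2.1 hb hu.1)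
        have h2 : u * (b * v * b⁻¹) = (b * v * b⁻¹) * u :=
          R_le_centralizer hT hK hu.2 _
            ((mem_normalizer_iff.1 (h.KJ_le_normW (mem_sup_right hbJ)) v).1 hv) |>.symm
        rw [show b * (u * v) * b⁻¹ * (u * v)⁻¹ = (b * u * b⁻¹) * (b * v * b⁻¹) * v⁻¹ * u⁻¹ by group,
          h1, h2, show b * v * b⁻¹ * u * v⁻¹ * u⁻¹ = b * v * b⁻¹ * (u * v⁻¹ * u⁻¹) by group]
        refine mul_mem ((mem_normalizer_iff.1 (h.KJ_le_normW (mem_sup_right hbJ)) v).1 hv) ?_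
        rw [show u * v⁻¹ * u⁻¹ = v⁻¹ from mul_inv_eq_iff_eq_mul.2
          (R_le_centralizer hT hK hu.2 _ (inv_mem hv)).symm]
        exact inv_mem hv
    obtain ⟨B', hB'm, hx⟩ := hC
    exact hx y (omegaCenterThompson_le hB'm hy)
  have hDnorm : ∀ g ∈ K, ∀ x ∈ D, g * x * g⁻¹ ∈ D := by
    rintro g hg x ⟨hx1, hx2, hx3⟩
    have hgY : g ∈ normalizer (Y : Set G) := hnY (mem_sup_left hg)
    have hgW : g ∈ normalizer (Wk : Set G) := h.KJ_le_normW (mem_sup_left hg)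
    refine ⟨mul_mem (mul_mem hgY hx1) (inv_mem hgY), mul_mem (mul_mem hgW hx2) (inv_mem hgW),
      fun y hy => ?_⟩
    have hy' : g⁻¹ * y * g ∈ Y := by simpa using (mem_normalizer_iff.1 (inv_mem hgY) y).1 hy
    have := (mem_normalizer_iff.1 hgW _).1 (hx3 _ hy')
    convert this using 1
    group
  have hKD : K ≤ D := by
    conv_lhs => rw [← h.comm]
    refine commutator_le.2 fun k hk j hj => ?_
    exact D.mul_mem (hDnorm k hk j (hJD hj)) (D.inv_mem (hJD hj))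
  have hYc : Y ≤ centralizer (Y : Set G) := elemAb_le_centralizer (elemAb_omegaCenterOf J1)
  have hcomm : ∀ u ∈ Y, ∀ v ∈ Y, u * v = v * u := fun u hu v hv => (hYc hv u hu)
  have hdY : d ∈ normalizer (Y : Set G) := hnY (mem_sup_left hd)
  obtain ⟨v, hv, hveq⟩ : ∃ v ∈ Wk, d * (z * v) * d⁻¹ = z * v := by
    -- on `W` the map `v ↦ [d, v]` is onto
    have h1 : d * z * d⁻¹ * z⁻¹ ∈ Wk := (hKD hd).2.2 z hzY
    let f : Wk → Wk := fun v => ⟨d * (v : G) * d⁻¹ * (v : G)⁻¹,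
      mul_mem ((mem_normalizer_iff.1 (h.KJ_le_normW (mem_sup_left hd)) _).1 v.2) (inv_mem v.2)⟩
    have hf : Function.Injective f := by
      intro u v huv
      have e : d * (u : G) * d⁻¹ * (u : G)⁻¹ = d * (v : G) * d⁻¹ * (v : G)⁻¹ := congrArg Subtype.val huv
      have hfix1 : d * ((v : G)⁻¹ * u) * d⁻¹ = (v : G)⁻¹ * u := by
        calc d * ((v : G)⁻¹ * u) * d⁻¹
            = (d * (v : G) * d⁻¹)⁻¹ * (d * u * d⁻¹ * (u : G)⁻¹) * u := by group
          _ = _ := by rw [e]; group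
      exact Subtype.ext (inv_mul_eq_one.1 (h.fix_eq_one hd hd3 (mul_mem (inv_mem v.2) u.2) hfix1)).symm
    obtain ⟨v, hv⟩ := (Finite.injective_iff_surjective.1 hf) ⟨_, inv_mem h1⟩
    have hv' : d * (v : G) * d⁻¹ * (v : G)⁻¹ = (d * z * d⁻¹ * z⁻¹)⁻¹ := congrArg Subtype.val hv
    refine ⟨v, v.2, ?_⟩
    have hzv := hcomm z hzY _ (hWY ((mem_normalizer_iff.1 (h.KJ_le_normW (mem_sup_left hd)) _).1 v.2))
    calc d * (z * v) * d⁻¹ = (d * z * d⁻¹ * z⁻¹) * (z * (d * v * d⁻¹)) := by group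
      _ = (d * z * d⁻¹ * z⁻¹) * ((d * v * d⁻¹ * (v : G)⁻¹) * (v * z)) := by rw [hzv]; group
      _ = z * v := by rw [hv', mul_inv_cancel_left, hcomm _ (hWY v.2) z hzY]
  set y := z * v with hydef
  have hyY : y ∈ Y := mul_mem hzY (hWY hv)
  -- the elements of `R` kill `y`
  have hrfix : ∀ r ∈ Rk, r * z * r⁻¹ = z → r * y * r⁻¹ = y := by
    intro r hr hrz
    rw [hydef, show r * (z * v) * r⁻¹ = (r * z * r⁻¹) * (r * v * r⁻¹) by group, hrz,
      mul_inv_eq_iff_eq_mul.2 (R_le_centralizer hT hK hr v hv).symm]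
  have hJRz : ∀ r ∈ J, r ∈ Rk → r * y * r⁻¹ = y := fun r hr hrR => hrfix r hrR (hzJ r hr)
  have haS : a ∈ S0 := mem_sup_right haJ
  have hRy : ∀ r ∈ Rk, r * y * r⁻¹ = y := by
    intro r hr
    -- `e r := [r, y]` is additive in `r` and equivariant
    have he : ∀ s ∈ Rk, ⁅s, y⁆ ∈ Wk := fun s hs =>
      (sup_le hKD hJD (CfsgLib.Amalgam.pCoreOf_le _ hs)).2.2 y hyY
    have hequ : ∀ s ∈ Rk, ⁅d * s * d⁻¹, y⁆ = d * ⁅s, y⁆ * d⁻¹ := fun s hs => by
      conv_lhs => rw [← hveq]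
      simp only [commutatorElement_def]; group
    -- `[r, a] ∈ J ∩ R`
    have hra : ∀ s ∈ Rk, ⁅a, s⁆ ∈ J ∧ ⁅a, s⁆ ∈ Rk := fun s hs => by
      refine ⟨?_, ?_⟩
      · rw [commutatorElement_def, mul_assoc a, mul_assoc a]
        refine mul_mem haJ ((mem_normalizer_iff.1 ?_ _).1 (inv_mem haJ))
        have := normalizer_le_normalizer_thompsonOf (p := 2) S0 (le_normalizer (h.R_le_S0 hs))
        rwa [h.thompsonS0] at this
      · exact mul_mem ((mem_normalizer_iff.1 (h.KJ_le_normR (mem_sup_right haJ)) s).1 hs) (inv_mem hs)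
    have hay : a * y * a⁻¹ = z * (a * v * a⁻¹) := by
      rw [hydef, show a * (z * v) * a⁻¹ = (a * z * a⁻¹) * (a * v * a⁻¹) by group, hzJ a haJ]
    -- `[r, y]` is fixed by `a`
    have hfixa : ∀ s ∈ Rk, a * ⁅s, y⁆ * a⁻¹ = ⁅s, y⁆ := by
      intro s hs
      have hav : a * v * a⁻¹ ∈ Wk := (mem_normalizer_iff.1 (h.KJ_le_normW (mem_sup_right haJ)) v).1 hv
      set u := ⁅a, s⁆ with hu
      have h1 := hJRz u (hra s hs).1 (hra s hs).2
      have hsR : a * s * a⁻¹ = u * s := by rw [hu, commutatorElement_def]; group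
      have h3 : ⁅s, a * y * a⁻¹⁆ = ⁅s, y⁆ := by
        rw [hay, hydef]
        have e1 : ∀ x ∈ Wk, ⁅s, z * x⁆ = ⁅s, z⁆ := fun x hx => by
          rw [commutatorElement_def, commutatorElement_def, show s * (z * x) * s⁻¹ * (z * x)⁻¹ =
            s * z * s⁻¹ * ((s * x * s⁻¹) * x⁻¹) * z⁻¹ by group,
            mul_inv_eq_iff_eq_mul.2 (R_le_centralizer hT hK hs x hx).symm, mul_inv_cancel, mul_one]
        rw [e1 _ hav, e1 _ hv]
      calc a * ⁅s, y⁆ * a⁻¹ = ⁅u * s, a * y * a⁻¹⁆ := by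
            rw [← hsR]; simp only [commutatorElement_def]; group
        _ = u * ⁅s, a * y * a⁻¹⁆ * u⁻¹ * ⁅u, a * y * a⁻¹⁆ := by
            simp only [commutatorElement_def]; group
        _ = ⁅s, y⁆ := by
          have h4 : ⁅u, a * y * a⁻¹⁆ = 1 := by
            rw [commutatorElement_def, hay, show u * (z * (a * v * a⁻¹)) * u⁻¹ =
              (u * z * u⁻¹) * (u * (a * v * a⁻¹) * u⁻¹) by group, hzJ u (hra s hs).1,
              mul_inv_eq_iff_eq_mul.2 (R_le_centralizer hT hK (hra s hs).2 _ hav).symm,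
              mul_inv_cancel]
          rw [h4, mul_one, h3, mul_inv_eq_iff_eq_mul.2
            (R_le_centralizer hT hK (hra s hs).2 _ (he s hs)).symm]
    rw [mul_inv_eq_iff_eq_mul, ← commutatorElement_eq_one_iff_mul_comm]
    have hdr : d * r * d⁻¹ ∈ Rk := (mem_normalizer_iff.1 (h.KJ_le_normR (mem_sup_left hd)) r).1 hr
    obtain ⟨w, hw, hw1, hfix, huniq⟩ := exists_w0 hT hK
    rcases huniq a haS haR _ (he r hr) (hfixa r hr) with e | e
    · exact e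
    rcases huniq a haS haR _ (he _ hdr) (hfixa _ hdr) with e' | e'
    · rw [hequ r hr, conj_eq_one_iff] at e'; exact e'
    · rw [hequ r hr, e] at e'
      exact absurd (h.fix_eq_one hd hd3 hw e') hw1
  -- `y` is centralized by `⟨K, J⟩`
  have hyK : ∀ k ∈ K, k * y * k⁻¹ = y := by
    intro k hk
    have hle : K ≤ centralizer ({y} : Set G) := by
      rw [← h.K_eq hd hdQ]
      refine sup_le (fun q hq => mem_centralizer_singleton_iff.2
        (mul_inv_eq_iff_eq_mul.1 (hRy q (h.Q_le_R hq)))) (zpowers_le.2 ?_)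
      exact mem_centralizer_singleton_iff.2 (mul_inv_eq_iff_eq_mul.1 hveq)
    exact mul_inv_eq_iff_eq_mul.2 (mem_centralizer_singleton_iff.1 (hle hk))
  have hyJ : ∀ j ∈ J, j * y * j⁻¹ = y := by
    intro j hj
    by_cases hjR : j ∈ Rk
    · exact hRy j hjR
    have hjS : j ∈ S0 := mem_sup_right hj
    have hW1 : y⁻¹ * (j * y * j⁻¹) ∈ Wk := by
      rw [hydef, show (z * v)⁻¹ * (j * (z * v) * j⁻¹) = v⁻¹ * (z⁻¹ * (j * z * j⁻¹)) * (j * v * j⁻¹) by
        group, hzJ j hj, inv_mul_cancel, mul_one]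
      exact mul_mem (inv_mem hv) ((mem_normalizer_iff.1 (h.KJ_le_normW (mem_sup_right hj)) v).1 hv)
    have h2 : d * (j * y * j⁻¹) * d⁻¹ = j * y * j⁻¹ := by
      have hjd : j⁻¹ * d * j ∈ K := by
        simpa using (mem_normalizer_iff.1 (h.J_le_normK (inv_mem hj)) d).1 hd
      calc d * (j * y * j⁻¹) * d⁻¹ = j * ((j⁻¹ * d * j) * y * (j⁻¹ * d * j)⁻¹) * j⁻¹ := by group
        _ = _ := by rw [hyK _ hjd]
    have h3 : d * (y⁻¹ * (j * y * j⁻¹)) * d⁻¹ = y⁻¹ * (j * y * j⁻¹) := by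
      calc d * (y⁻¹ * (j * y * j⁻¹)) * d⁻¹ = (d * y * d⁻¹)⁻¹ * (d * (j * y * j⁻¹) * d⁻¹) := by group
        _ = _ := by rw [hveq, h2]
    exact (inv_mul_eq_one.1 (h.fix_eq_one hd hd3 hW1 h3)).symm
  have hyJm : y ∈ J := mul_mem (omegaCenterOf_le _ hz) (W_le_J hT hK hv)
  have hyc : y ∈ centralizer ((K ⊔ J : Subgroup G) : Set G) := by
    intro g hg
    have hle : K ⊔ J ≤ centralizer ({y} : Set G) := sup_le
      (fun k hk => mem_centralizer_singleton_iff.2 (mul_inv_eq_iff_eq_mul.1 (hyK k hk)))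
      (fun j hj => mem_centralizer_singleton_iff.2 (mul_inv_eq_iff_eq_mul.1 (hyJ j hj)))
    exact mem_centralizer_singleton_iff.1 (hle hg)
  have hy2 : y ^ 2 = 1 := (elemAb_omegaCenterOf J1).2 y hyY
  have hyZ : y ∈ Z0 := mem_omegaCenterOf hyJm hy2 (centralizer_le (le_sup_right : thompsonSubgroupOf 2 T ≤ K ⊔ thompsonSubgroupOf 2 T) hyc)
  have hvZ : v ∈ Z0 ⊓ Wk := by
    refine ⟨?_, hv⟩
    have := mul_mem (inv_mem hz) hyZ
    rwa [hydef, inv_mul_cancel_left] at this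
  rw [show z = y * v⁻¹ by rw [hydef, mul_inv_cancel_right]]
  exact mul_mem (mem_sup_left ⟨hyZ, mem_sup_right hyJm, hyc⟩) (mem_sup_right (inv_mem hvZ))

end Comp

end CfsgLib.ClassK.ZN
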