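import Cfsg.Agent.Lib.ClassK.ZNWorld

/-!
Two invariant members of a family without shared `2`-locals: their four-groups do not commute.
-/

set_option autoImplicit false
set_option linter.unusedSectionVars false

namespace CfsgLib.ClassK.ZN

open Cfsg Subgroup CfsgLib.PLocal
open scoped commutatorElement

universe u

variable {G : Type u} [Group G] [Finite G]

theorem Side.exists_conj_point {T K : Subgroup G} (s : Side T K) {w : G} (hw : w ∈ Wz T K)
    (hw1 : w ≠ 1) {v : G} (hv : v ∈ wOf K) (hv1 : v ≠ 1) :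
    ∃ q ∈ K ⊔ T, q * w * q⁻¹ = v := by
  obtain ⟨d, hd, hd3, -⟩ := s.pre.exists_d
  have hdN := s.P_le_normW (mem_sup_left hd : d ∈ K ⊔ T)
  have hdw := (mem_normalizer_iff.1 hdN w).1 hw.2
  have hd2 := (mem_normalizer_iff.1 hdN _).1 hdw
  have hne : d * w * d⁻¹ ≠ w := fun e => hw1 (s.pre.fix_eq_one hd hd3 hw.2 e)
  have hne2 : d * (d * w * d⁻¹) * d⁻¹ ≠ w := fun e => hne (by
    have e3 : d * (d * (d * w * d⁻¹) * d⁻¹) * d⁻¹ = w := by
      rw [show d * (d * (d * w * d⁻¹) * d⁻¹) * d⁻¹ = d ^ 3 * w * (d ^ 3)⁻¹ by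
        simp only [pow_succ, pow_zero, one_mul]; group,
        show d ^ 3 = 1 by rw [← hd3, pow_orderOf_eq_one]]
      group
    rwa [e] at e3)
  have hdw1 : d * w * d⁻¹ ≠ 1 := fun e => hw1 (conj_eq_one_iff.1 e)
  rcases four_cases s.cardW s.sqW hw.2 hdw hw1 hdw1 (Ne.symm hne) hv with e | e | e | e
  · exact absurd e hv1
  · exact ⟨1, one_mem _, by rw [e]; group⟩
  · exact ⟨d, mem_sup_left hd, e.symm⟩
  · refine ⟨d * d, mem_sup_left (mul_mem hd hd), ?_⟩
    rw [e]
    rcases four_cases s.cardW s.sqW hw.2 hdw hw1 hdw1 (Ne.symm hne) hd2 with h | h | h | h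
    · exact absurd (conj_eq_one_iff.1 (conj_eq_one_iff.1 h)) hw1
    · exact absurd h hne2
    · exact absurd (mul_left_cancel (mul_right_cancel h)) hne
    · rw [← h]; group

namespace World

variable {T Z : Subgroup G} {p : Subgroup G → Prop} (W : World T p Z)

local notation "J" => thompsonSubgroupOf 2 T

include W

section PairCase

variable {K : Bool → Subgroup G} (hK : ∀ b, Mem T p (K b)) (P : Pair T K)
include hK P

/-- An element of `N(J(T))` mapping one point to another maps the member onto the other. -/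
theorem cj_eq_of_point {i j : Bool} (hc : Nat.card (Zc T (K i)) = 2)
    (hb : Wz T (K (!i)) ≤ centralizer (K i : Set G)) {n : G} (hn : n ∈ normalizer (J : Set G))
    (h : cj n (Wz T (K j)) = Wz T (K i)) : cj n (K j) = K i := by
  have hcc : ∀ M, Mem T p M → Nat.card (Zc T M) = 2 := fun M hM => by
    rw [W.card_Zc_eq hM (hK i)]; exact hc
  obtain ⟨hwo, hdo, -, -⟩ := W.exists_point (hK !i)
  obtain ⟨hwi, hdi, hZi, -⟩ := W.exists_point (hK i)
  have hcard : Nat.card (Zof T) = 4 := by rw [hZi, hc]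
  have eio : Wz T (K (!i)) = Zc T (K i) :=
    eq_of_le_of_card_ge (le_inf inf_le_left hb) (by rw [hc, hwo])
  set M := cj n (K j)
  have hM : Mem T p M := W.mem_cj_of hn (hK j)
  have hMw : Wz T M = Wz T (K i) := by rw [← W.cj_Wz hn, h]
  have hMd := (W.exists_point hM).2.1
  by_contra hne
  have h1 : Zc T M ≠ Zc T (K i) := fun e => hne (W.eq_of_Zc_eq hM (hK i) (hcc M hM) e)
  have h2 : Zc T M ≠ Wz T (K i) := fun e => by
    rw [hMw, e, inf_idem] at hMd
    rw [hMd, Subgroup.card_bot] at hwi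
    omega
  -- the subgroups of order two of `Ω₁(Z(J(T)))` are three
  have hpts : ∀ A : Subgroup G, A ≤ Zof T → Nat.card A = 2 → A ≠ Zc T (K i) → A ≠ Wz T (K i) →
      A = Zc T M := by
    intro A hA hA2 hA1 hA3
    have hgen : ∀ B : Subgroup G, B ≤ Zof T → Nat.card B = 2 →
        ∃ x ∈ B, x ≠ 1 ∧ B = zpowers x := by
      intro B hB hB2
      obtain ⟨⟨x, hx⟩, hx1⟩ := Subgroup.ne_bot_iff_exists_ne_one.1
        (fun e => by rw [e, Subgroup.card_bot] at hB2; omega : B ≠ ⊥)
      have hx0 : x ≠ 1 := fun e => hx1 (Subtype.ext e)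
      refine ⟨x, hx, hx0, (eq_of_le_of_card_ge (zpowers_le.2 hx) ?_).symm⟩
      rw [hB2, Nat.card_zpowers, orderOf_eq_prime ((elemAb_omegaCenterOf _).2 x (hB hx)) hx0]
    obtain ⟨a, ha, ha1, hae⟩ := hgen (Zc T (K i)) inf_le_left hc
    obtain ⟨b, hb', hb1, hbe⟩ := hgen (Wz T (K i)) inf_le_left hwi
    obtain ⟨x, hx, hx1, hxe⟩ := hgen A hA hA2
    obtain ⟨y, hy, hy1, hye⟩ := hgen (Zc T M) inf_le_left (hcc M hM)
    have hab : a ≠ b := fun e => by
      have : a ∈ Zc T (K i) ⊓ Wz T (K i) := ⟨ha, e ▸ hb'⟩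
      rw [hdi] at this
      exact ha1 (mem_bot.1 this)
    have hsq : ∀ x ∈ Zof T, x * x = 1 := fun x hx => by
      rw [← pow_two]; exact (elemAb_omegaCenterOf _).2 x hx
    have key : ∀ z ∈ Zof T, z ≠ 1 → z ≠ a → z ≠ b → z = a * b := fun z hz h3 h4 h5 =>
      (four_cases hcard hsq ha.1 hb'.1 ha1 hb1 hab hz).resolve_left h3
        |>.resolve_left h4 |>.resolve_left h5
    rw [hxe, hye, key x (hA hx) hx1 (fun e => hA1 (by rw [hxe, hae, e]))
      (fun e => hA3 (by rw [hxe, hbe, e])), key y hy.1 hy1 (fun e => h1 (by rw [hye, hae, e]))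
      (fun e => h2 (by rw [hye, hbe, e]))]
  have h3 : Zc T (K (!i)) ≠ Zc T (K i) := fun e => by
    rw [e, ← eio, inf_idem] at hdo
    rw [hdo, Subgroup.card_bot] at hwo
    omega
  by_cases h4 : Zc T (K (!i)) = Wz T (K i)
  · cases i <;> cases j
    all_goals simp only [Bool.not_false, Bool.not_true] at *
    · -- `j = i`
      have e1 : cj n (K true) = K true := by
        refine W.eq_of_Zc_eq (W.mem_cj_of hn (hK true)) (hK true) ?_ ?_
        · exact hcc _ (W.mem_cj_of hn (hK true))
        · rw [← W.cj_Zc hn, h4, h]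
      refine h1 ?_
      show Zc T (cj n (K false)) = Zc T (K false)
      rw [← eio, ← W.cj_Zc hn, ← eio, W.cj_Wz hn, e1]
    · -- `j = o`
      have e0 : Zc T (cj n (K false)) = Wz T (K false) := by
        rw [← W.cj_Zc hn, ← eio, h]
      have e1 : cj n (K false) = K true :=
        W.eq_of_Zc_eq (W.mem_cj_of hn (hK false)) (hK true) (hcc _ (W.mem_cj_of hn (hK false)))
          (by rw [e0, h4])
      have e2 : Zc T M = Wz T (K true) := by
        show Zc T (cj n (K true)) = _
        rw [← W.cj_Zc hn, h4, W.cj_Wz hn, e1]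
      exact h1 (e2.trans eio)
    · have e0 : Zc T (cj n (K true)) = Wz T (K true) := by
        rw [← W.cj_Zc hn, ← eio, h]
      have e1 : cj n (K true) = K false :=
        W.eq_of_Zc_eq (W.mem_cj_of hn (hK true)) (hK false) (hcc _ (W.mem_cj_of hn (hK true)))
          (by rw [e0, h4])
      have e2 : Zc T M = Wz T (K false) := by
        show Zc T (cj n (K false)) = _
        rw [← W.cj_Zc hn, h4, W.cj_Wz hn, e1]
      exact h1 (e2.trans eio)
    · have e1 : cj n (K false) = K false := by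
        refine W.eq_of_Zc_eq (W.mem_cj_of hn (hK false)) (hK false) ?_ ?_
        · exact hcc _ (W.mem_cj_of hn (hK false))
        · rw [← W.cj_Zc hn, h4, h]
      refine h1 ?_
      show Zc T (cj n (K true)) = Zc T (K true)
      rw [← eio, ← W.cj_Zc hn, ← eio, W.cj_Wz hn, e1]
  · have h5 : M = K (!i) := W.eq_of_Zc_eq hM (hK !i) (hcc M hM)
      (hpts _ inf_le_left (hcc _ (hK !i)) h3 h4).symm
    rw [h5, eio] at hMw
    rw [← hMw, inf_idem] at hdi
    rw [hdi, Subgroup.card_bot] at hc
    omega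

/-- The four-groups do not commute. -/
theorem not_commute_pair (hns : NoShare T p)
    (cover : ∀ i, Wz T (K (!i)) ≤ centralizer (K i : Set G) →
      (∃ M, Mem T p M ∧ Wz T (K i) ≤ centralizer (M : Set G)) ∨
      (normalizer (Wz T (K i) : Set G) ≤ normalizer (J : Set G) ∧
        IsSylowTwoIn T (normalizer (Wz T (K i) : Set G)))) :
    ¬ wOf (K false) ≤ centralizer (wOf (K true) : Set G) := by
  refine P.not_commute fun i j hb g _ hg hne => ?_
  have hZT := P.T_centralizes
  obtain ⟨hwi, -, hZi, -⟩ := W.exists_point (hK i)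
  have hc : Nat.card (Zc T (K i)) = 2 := by
    have h1 := P.card_Zc_le i
    have h2 : Nat.card (Wz T (K (!i))) ≤ Nat.card (Zc T (K i)) :=
      card_le_of_le (le_inf inf_le_left hb)
    have h3 := (W.exists_point (hK !i)).1
    omega
  have hWne : Wz T (K i) ≠ ⊥ := fun e => by rw [e, Subgroup.card_bot] at hwi; omega
  set N := normalizer (Wz T (K i) : Set G) with hNdef
  have hTN : ∀ A : Subgroup G, A ≤ Zof T → T ≤ normalizer (A : Set G) := fun A hA =>
    hZT.trans ((centralizer_le (SetLike.coe_subset_coe.2 hA)).trans (centralizer_le_normalizer _))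
  have hgT : cj g T ≤ N := by
    rw [hNdef, ← hg, ← cj_normalizer]
    exact cj_mono (hTN _ inf_le_left)
  have hsyl : IsSylowTwoIn T N := by
    rcases cover i hb with ⟨M, hM, hMw⟩ | ⟨-, h⟩
    · have hMN : M ≤ N := (le_centralizer_iff.1 hMw).trans (centralizer_le_normalizer _)
      exact W.syl _ ⟨_, (elemAb_isPGroup (elemAb_omegaCenterOf _)).to_le inf_le_left,
        hWne, rfl⟩ M hM.1 hM.2 hMN (hTN _ inf_le_left)
    · exact h
  obtain ⟨x, hx, hxT⟩ := exists_cj_of_isSylowTwoIn hsyl (isPGroup_cj g W.pT) hgT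
  have hgx : cj g T = cj x T := eq_of_le_of_card_ge hxT (by rw [card_cj, card_cj])
  have hnT : x⁻¹ * g ∈ normalizer (T : Set G) := mem_normalizer_of_cj (by
    rw [← cj_cj, hgx, cj_inv_cj])
  have hnJ : x⁻¹ * g ∈ normalizer (J : Set G) := normalizer_le_normalizer_thompsonOf T hnT
  have hn := W.cj_eq_of_point hK P hc hb hnJ (i := i) (j := j) (by
    rw [← cj_cj, hg, cj_eq_self (inv_mem hx)])
  have hxY : cj g (Yof T (K j)) = cj x (Yof T (K i)) := by
    conv_rhs => rw [← hn, ← W.cj_Yof hnJ, cj_cj, mul_inv_cancel_left]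
  rcases cover i hb with ⟨M, hM, hMw⟩ | ⟨hNJ, -⟩
  · have hTM : T ≤ normalizer (M : Set G) :=
      W.T_le_normalizer hZT hM (by rw [W.card_Zc_eq hM (hK i)]; exact hc)
    have sM := W.side hM hTM
    refine ⟨M, sM, hMw, ?_⟩
    have hMN : M ≤ N := (le_centralizer_iff.1 hMw).trans (centralizer_le_normalizer _)
    have hxM : x ∈ normalizer (M : Set G) := W.le_normalizer_of_noShare hns hM
      ⟨_, (elemAb_isPGroup (elemAb_omegaCenterOf _)).to_le inf_le_left,
        hWne, rfl⟩ hMN
      ((thompsonOf_le T).trans (hTN _ inf_le_left)) hx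
    obtain ⟨wM, hwM, hwM1, hzM, hfixM, -⟩ := sM.exists_point
    have hwMz : wM ∈ Wz T M := hzM ▸ mem_zpowers wM
    have hxW := normalizer_le_normalizer_wOf M hxM
    obtain ⟨q, hq, hqw⟩ := sM.exists_conj_point hwMz hwM1
      ((mem_normalizer_iff.1 hxW wM).1 hwM) fun e => hwM1 (conj_eq_one_iff.1 e)
    refine ⟨q, hq, ?_⟩
    -- `q⁻¹ x` centralizes `Ω₁(Z(J(T)))`
    set c := q⁻¹ * x
    have hqN : q ∈ N := (sup_le hMN (hTN _ inf_le_left) : M ⊔ T ≤ N) hq
    have hcM : c ∈ normalizer (M : Set G) := mul_mem (inv_mem (sM.P_le_normK hq)) hxM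
    have hcN : c ∈ N := mul_mem (inv_mem hqN) hx
    have hcw : c * wM * c⁻¹ = wM := by
      calc c * wM * c⁻¹ = q⁻¹ * (x * wM * x⁻¹) * q := by simp only [c]; group
        _ = q⁻¹ * (q * wM * q⁻¹) * q := by rw [hqw]
        _ = wM := by group
    have hcC : c ∈ centralizer (Zof T : Set G) := by
      have hle : Zof T ≤ centralizer ({c} : Set G) := by
        rw [← (W.exists_point hM).2.2.2]
        refine sup_le ?_ ?_
        · have e : Zc T M = Wz T (K i) := (eq_of_le_of_card_ge (le_inf inf_le_left hMw)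
            (by rw [hwi, W.card_Zc_eq hM (hK i), hc])).symm
          rw [e]
          intro u hu
          rw [mem_centralizer_singleton_iff]
          by_cases hu1 : u = 1
          · subst hu1; group
          have h1 : zpowers u = Wz T (K i) := eq_of_le_of_card_ge (zpowers_le.2 hu) (by
            rw [hwi, Nat.card_zpowers,
              orderOf_eq_prime ((elemAb_omegaCenterOf _).2 u hu.1) hu1])
          rcases mem_zpowers_of_sq (by rw [← pow_two]; exact (elemAb_omegaCenterOf _).2 u hu.1)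
            (h1 ▸ (mem_normalizer_iff.1 hcN u).1 hu) with e' | e'
          · exact absurd (conj_eq_one_iff.1 e') hu1
          · exact (mul_inv_eq_iff_eq_mul.1 e').symm
        · rw [hzM, zpowers_le, mem_centralizer_singleton_iff]
          exact (mul_inv_eq_iff_eq_mul.1 hcw).symm
      exact fun z hz => mem_centralizer_singleton_iff.1 (hle hz)
    have hcJ : c ∈ normalizer (J : Set G) := by
      refine normalizer_le_normalizer_thompsonOf T (mem_normalizer_of_cj ?_)
      obtain ⟨B, hB, hBle⟩ := W.big_Zof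
      have hcT : cj c T ≤ centralizer (Zof T : Set G) := by
        have := cj_mono (g := c) hZT
        rwa [cj_centralizer, cj_eq_self (centralizer_le_normalizer _ hcC)] at this
      have h2 : cj c T ⊔ T = T := by
        refine sylowTwoIn_eq sM.syl (hB.to_le (sup_le (hBle _ (isPGroup_cj c W.pT) hcT)
          (hBle _ W.pT hZT))) le_sup_right (sup_le ?_ hTM)
        rw [← cj_eq_self (le_normalizer hcM)]
        exact cj_mono hTM
      exact eq_of_le_of_card_ge (le_sup_left.trans h2.le) (card_cj _ _).ge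
    have hcK : cj c (K i) = K i := W.cj_eq_of_point hK P hc hb hcJ (i := i) (j := i) (cj_eq_self hcN)
    have e : cj x (Yof T (K i)) = cj q (Yof T (K i)) := by
      conv_rhs => rw [← hcK, ← W.cj_Yof hcJ, cj_cj, show q * c = x by simp only [c]; group]
    rwa [← e, ← hxY]
  · refine absurd ?_ hne
    have hxJ := hNJ hx
    have hxK : cj x (K i) = K i := W.cj_eq_of_point hK P hc hb hxJ (i := i) (j := i) (cj_eq_self hx)
    rw [hxY, W.cj_Yof hxJ, hxK]
    exact elemAb_le_centralizer (P.side i).elemY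

end PairCase

end World

end CfsgLib.ClassK.ZN
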