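import Cfsg.Agent.Lib.ClassK.ZNProper
import Cfsg.Agent.S2947
import Cfsg.Agent.Lib.Invol.Strong

/-!
For `T = S` the components of `S` do not all share `2`-locals.
-/

set_option autoImplicit false
set_option linter.unusedSectionVars false

namespace CfsgLib.ClassK.ZN

open Cfsg Subgroup CfsgLib.PLocal
open scoped commutatorElement

universe u

variable {G : Type u} [Group G] [Finite G]

theorem exists_maxStraddling {M : Subgroup G} (h : (straddlingTwoSubgroups M).Nonempty) :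
    (maxStraddlingTwoSubgroups M).Nonempty := by
  obtain ⟨T₁, hT₁, hm₁⟩ := Set.exists_max_image _ (fun T : Subgroup G => maxElemAbelianOrder T)
    (Set.toFinite _) h
  obtain ⟨T₂, ⟨hT₂, ha₂⟩, hm₂⟩ := Set.exists_max_image
    {T ∈ straddlingTwoSubgroups M | maxElemAbelianOrder T = maxElemAbelianOrder T₁}
    (fun T : Subgroup G => Nat.card (thompsonSubgroupOf 2 T)) (Set.toFinite _) ⟨T₁, hT₁, rfl⟩
  obtain ⟨T₃, ⟨hT₃, ha₃, hj₃⟩, hm₃⟩ := Set.exists_max_image
    {T ∈ straddlingTwoSubgroups M | maxElemAbelianOrder T = maxElemAbelianOrder T₁ ∧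
      Nat.card (thompsonSubgroupOf 2 T) = Nat.card (thompsonSubgroupOf 2 T₂)}
    (fun T : Subgroup G => Nat.card T) (Set.toFinite _) ⟨T₂, hT₂, ha₂, rfl⟩
  refine ⟨T₃, hT₃, fun T hT => ⟨ha₃ ▸ hm₁ T hT, fun e => ?_⟩⟩
  rw [ha₃] at e
  exact ⟨hj₃ ▸ hm₂ T ⟨hT, e⟩, fun e' => hm₃ T ⟨hT, e, e'.trans hj₃⟩⟩

theorem exists_normal_four {P V : Subgroup G} (hP : IsPGroup 2 P) (hV : IsElementaryAbelian 2 V)
    (hVP : V ≤ P) (hn : P ≤ normalizer (V : Set G)) (hc : 4 ≤ Nat.card V) {z : G} (hz : z ∈ V)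
    (hz1 : z ≠ 1) (hzc : P ≤ centralizer ({z} : Set G)) :
    ∃ F : Subgroup G, F ≤ V ∧ Nat.card F = 4 ∧ z ∈ F ∧
      ∀ g ∈ P, ∀ f ∈ F, ⁅g, f⁆ ∈ zpowers z := by
  have : Fact (Nat.Prime 2) := ⟨Nat.prime_two⟩
  set Zp : Subgroup P := (zpowers z).subgroupOf P
  have hPz : P ≤ normalizer (zpowers z : Set G) := by
    refine (le_trans ?_ (centralizer_le_normalizer _))
    rw [le_centralizer_iff, zpowers_le]
    exact fun g hg => mem_centralizer_singleton_iff.1 (hzc hg)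
  have : Zp.Normal := CfsgLib.Coprime.normal_subgroupOf_of_le_normalizer hPz
  let π := QuotientGroup.mk' Zp
  set Vq := (V.subgroupOf P).map π
  have hzo : orderOf z = 2 := orderOf_eq_prime (hV.2 z hz) hz1
  have hne : Vq ≠ ⊥ := by
    intro e
    rw [Subgroup.map_eq_bot_iff, QuotientGroup.ker_mk'] at e
    have h1 : V ≤ zpowers z := fun v hv => e (x := ⟨v, hVP hv⟩) hv
    have := card_le_of_le h1
    rw [Nat.card_zpowers, hzo] at this
    omega
  have hqp : IsPGroup 2 (P ⧸ Zp) := hP.to_quotient Zp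
  have hnV : (V.subgroupOf P).Normal := CfsgLib.Coprime.normal_subgroupOf_of_le_normalizer hn
  obtain ⟨⟨vq, hvq, hvc⟩, hv1⟩ := Subgroup.ne_bot_iff_exists_ne_one.1
    (CfsgLib.Amalgam.inf_centralizer_ne_bot (p := 2) (Q := (⊤ : Subgroup (P ⧸ Zp)))
      (hqp.to_subgroup _) (hqp.to_subgroup Vq) hne (by
        have : Vq.Normal := Subgroup.Normal.map hnV π (QuotientGroup.mk'_surjective _)
        rw [normalizer_eq_top]))
  obtain ⟨v, hv, rfl⟩ := hvq
  have hvz : (v : G) ∉ zpowers z := fun e => hv1 (Subtype.ext ((QuotientGroup.eq_one_iff v).2 e))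
  let B : Subgroup G :=
    { carrier := {f | f ∈ V ∧ ∀ g ∈ P, ⁅g, f⁆ ∈ zpowers z}
      one_mem' := ⟨one_mem _, fun g _ => by rw [commutatorElement_one_right]; exact one_mem _⟩
      mul_mem' := fun {a b} ha hb => ⟨mul_mem ha.1 hb.1, fun g hg => by
        rw [show ⁅g, a * b⁆ = ⁅g, a⁆ * (a * ⁅g, b⁆ * a⁻¹) by
          simp only [commutatorElement_def]; group]
        exact mul_mem (ha.2 g hg) ((mem_normalizer_iff.1 (hPz (hVP ha.1)) _).1 (hb.2 g hg))⟩
      inv_mem' := fun {a} ha => ⟨inv_mem ha.1, fun g hg => by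
        rw [show ⁅g, a⁻¹⁆ = a⁻¹ * ⁅g, a⁆⁻¹ * a⁻¹⁻¹ by simp only [commutatorElement_def]; group]
        exact (mem_normalizer_iff.1 (hPz (hVP (inv_mem ha.1))) _).1 (inv_mem (ha.2 g hg))⟩ }
  have hzB : z ∈ B := ⟨hz, fun g hg => by
    rw [show ⁅g, z⁆ = 1 from commutatorElement_eq_one_iff_mul_comm.2
      (mem_centralizer_singleton_iff.1 (hzc hg))]
    exact one_mem _⟩
  have hvB : (v : G) ∈ B := ⟨hv, fun g hg => by
    have h1 : π ⁅(⟨g, hg⟩ : P), v⁆ = 1 := by
      rw [map_commutatorElement, commutatorElement_eq_one_iff_mul_comm]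
      exact hvc (π ⟨g, hg⟩) (mem_top _)
    have h2 : ⁅(⟨g, hg⟩ : P), v⁆ ∈ Zp := (QuotientGroup.eq_one_iff _).1 h1
    exact h2⟩
  refine ⟨zpowers z ⊔ zpowers (v : G), sup_le (zpowers_le.2 hz) (zpowers_le.2 hv), ?_,
    mem_sup_left (mem_zpowers z), fun g hg f hf =>
      ((sup_le (zpowers_le.2 hzB) (zpowers_le.2 hvB) : _ ≤ B) hf).2 g hg⟩
  have hvo : orderOf (v : G) = 2 :=
    orderOf_eq_prime (hV.2 _ hv) fun e => hvz (e ▸ one_mem _)
  rw [CfsgLib.Coprime.card_sup_of_inf_eq_bot (zpowers_le.2 (hPz v.2)) ?_, Nat.card_zpowers,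
    Nat.card_zpowers, hzo, hvo]
  refine (Subgroup.eq_bot_iff_forall _).2 fun y hy => ?_
  rcases mem_zpowers_of_sq (by rw [← pow_two]; exact hV.2 _ hv) hy.1 with e | e
  · exact e
  · exact absurd (e ▸ hy.2) hvz

namespace World

variable {T Z : Subgroup G} {p : Subgroup G → Prop} (W : World T p Z)
include W

theorem over_self {N : Subgroup G} (hN : IsTwoLocal N) {K : Subgroup G} (hK : Mem T p K)
    (hKN : K ≤ N) (hTN : T ≤ N) : Over T N := by
  obtain ⟨T₁, hJ, h⟩ := W.exists_over hN hK hKN ((thompsonOf_le T).trans hTN)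
  exact over_of_zn W.sol W.cen ⟨W.syl N hN K hK.1 hK.2 hKN hTN, hJ ▸ h.mem.2.1, h.mem.2.2⟩ W.T_ne

end World

namespace LtPair

variable {S : Sylow 2 G} {M T K : Subgroup G} {x : G} (q : LtPair S T K M x) (c : Setup G S M)
  (hT : T ∈ maxStraddlingTwoSubgroups M) (hlt : T < (S : Subgroup G))
include q c hT hlt

/-- `T` is the centralizer in `S` of `Ω₁(Z(J(T)))` of order four. -/
theorem centralizer_inf_le (hZ : Nat.card (Zc T K) = 2) :
    (S : Subgroup G) ⊓ centralizer (Zof T : Set G) ≤ T := by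
  have W := c.world_out hT hlt.le
  have hZT : T ≤ centralizer (Zof T : Set G) := q.pair.T_centralizes
  refine (eq_of_normalizer_inf_le (R := T) (P := (S : Subgroup G) ⊓ centralizer (Zof T : Set G))
    (S.isPGroup'.to_le inf_le_left) (le_inf hlt.le hZT) fun u hu => ?_).ge
  obtain ⟨⟨huS, huC⟩, huN⟩ := mem_inf.1 hu
  have huJ := normalizer_le_normalizer_thompsonOf (p := 2) T huN
  have huK : u ∈ normalizer (K : Set G) := by
    refine mem_normalizer_of_cj (W.eq_of_Zc_eq (W.mem_cj_of huJ q.mem₁) q.mem₁ ?_ ?_)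
    · rw [← W.cj_Zc huJ, card_cj]; exact hZ
    · rw [← W.cj_Zc huJ]
      exact cj_eq_self (centralizer_le_normalizer _
        (centralizer_le (SetLike.coe_subset_coe.2 inf_le_left) huC))
  have h1 := sylowTwoIn_eq (W.side q.mem₁ q.inv₁).syl
    (S.isPGroup'.to_le (sup_le hlt.le (zpowers_le.2 huS))) le_sup_left
    (sup_le q.inv₁ (zpowers_le.2 huK))
  exact h1 ▸ mem_sup_right (mem_zpowers u)

end LtPair

namespace Setup

variable {S : Sylow 2 G} {M : Subgroup G} (c : Setup G S M)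
include c

theorem not_allShare_all (hT : (S : Subgroup G) ∈ maxStraddlingTwoSubgroups M) :
    ¬ AllShare (S : Subgroup G) (allP (G := G)) := by
  intro hA
  have hS1 : (S : Subgroup G) ≠ ⊥ := c.T_ne_bot hT
  have W := c.world_all hS1
  obtain ⟨K₀, ⟨hK₀, -⟩, -⟩ := c.exists_mem_out hT
  obtain ⟨L, hL, hJL, hKL⟩ := W.exists_local_of_allShare hA ⟨hK₀, trivial⟩
  have c' : Setup G S L := ⟨c.char2, c.sol, c.cen, c.core, hL, hJL⟩
  have hO : Over (S : Subgroup G) L := W.over_self hL ⟨hK₀, trivial⟩ (hKL K₀ ⟨hK₀, trivial⟩) c'.S_le_M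
  -- all components of a conjugate of `S` in `L` lie in `L`
  have hall : ∀ m ∈ L, ∀ K, IsJComponent (cj m (S : Subgroup G)) K → K ≤ L := by
    intro m hm K hK
    have h1 := isJComponent_cj m⁻¹ hK
    rw [cj_inv_cj] at h1
    have h2 := cj_mono (g := m) (hKL _ ⟨h1, trivial⟩)
    rwa [cj_cj_inv, cj_eq_self (le_normalizer hm)] at h2
  -- `L` is not strongly embedded
  have hne : (straddlingTwoSubgroups L).Nonempty := by
    rw [Set.nonempty_iff_ne_empty]
    intro he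
    have hse := (Cfsg.Agent.S2947.result c.char2 c.sol c.cen c.core S L hL hJL).2 he
    obtain ⟨A, hA, hAO⟩ : ∃ A ∈ maxElemIn 2 (S : Subgroup G), ¬ A ≤ pCoreOf 2 L := by
      by_contra! hcon
      exact hO.mem.2.1 (by rw [thompsonOf_eq]; exact sSup_le hcon)
    obtain ⟨a, ha, haO⟩ := SetLike.not_le_iff_exists.1 hAO
    have haL : a ∈ L := c'.S_le_M (hA.1 ha)
    have hao : orderOf a = 2 := orderOf_eq_prime (hA.2.1.2 a ha) fun e => haO (e ▸ one_mem _)
    obtain ⟨⟨z, hz⟩, hz1⟩ := Subgroup.ne_bot_iff_exists_ne_one.1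
      (omegaCenterOf_ne_bot' hO.pO (pCoreOf_ne_bot_of_mem hO.mem hS1))
    have hzo : orderOf z = 2 :=
      orderOf_eq_prime ((elemAb_omegaCenterOf _).2 z hz) fun e => hz1 (Subtype.ext e)
    obtain ⟨g, hg⟩ := isConj_iff.1 (CfsgLib.Invol.se_isConj hse hzo hao)
    have hgL : g ∈ L := CfsgLib.Invol.se_mem_of_conj hse hzo
      (CfsgLib.Amalgam.pCoreOf_le L (omegaCenterOf_le _ hz)) (hg ▸ haL)
    exact haO (hg ▸ (mem_normalizer_iff.1 (hO.L_le_normO hgL) z).1 (omegaCenterOf_le _ hz))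
  obtain ⟨T', hT'⟩ := exists_maxStraddling hne
  obtain ⟨S', c'', hTS, m, hm, hS'⟩ := c'.exists_setup (c'.pT hT') (c'.T_le_M hT')
  have hallS : ∀ K, IsJComponent (S' : Subgroup G) K → K ≤ L := fun K hK =>
    hall m hm K (hS' ▸ hK)
  obtain ⟨K₁, hK₁, hK₁c⟩ := c''.exists_mem_out hT'
  rcases eq_or_lt_of_le hTS with heq | hlt
  · exact hK₁.2 (hallS K₁ (heq ▸ hK₁.1))
  have W' := c''.world_out hT' hlt.le
  have hns := c''.noShare_out_of_lt hT' hlt
  obtain ⟨x, q⟩ := exists_ltPair c'' hT' hlt hK₁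
    (W'.T_le_normalizer_of_core hns hK₁ hK₁c)
  have P := q.pair
  have hnc : ¬ wOf K₁ ≤ centralizer (wOf (cj x K₁) : Set G) := q.ncomm
  have hxY : cj x (Yof T' K₁) = Yof T' (cj x K₁) := q.cj_Y₁ c'' hT' hlt
  have hxY' : cj x (Yof T' (cj x K₁)) = Yof T' K₁ := by
    rw [← hxY, cj_cj]
    exact cj_eq_self ((P.side false).P_le_normY (mem_sup_right q.x_sq))
  -- `L` over `S'`
  have hS'1 : (S' : Subgroup G) ≠ ⊥ := fun e => c'.T_ne_bot hT' (le_bot_iff.1 (hTS.trans e.le))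
  have WS := c''.world_all hS'1
  have hKS : Mem (S' : Subgroup G) (allP (G := G)) (cj m K₀) :=
    ⟨hS' ▸ isJComponent_cj m hK₀, trivial⟩
  have hO' : Over (S' : Subgroup G) L := WS.over_self hL hKS (hallS _ hKS.1) c''.S_le_M
  obtain ⟨⟨z, hz⟩, hz1⟩ := Subgroup.ne_bot_iff_exists_ne_one.1 W'.Z_ne
  replace hz1 : z ≠ 1 := fun e => hz1 (Subtype.ext e)
  have hzS : (S' : Subgroup G) ≤ centralizer ({z} : Set G) :=
    (sylow_le_centralizer_Z S').trans (centralizer_le (Set.singleton_subset_iff.2 hz))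
  have hVS : Vof L ≤ (S' : Subgroup G) := hO'.V_le_O.trans hO'.O_le_T
  have hV4 : 4 ≤ Nat.card (Vof L) := by
    obtain ⟨ι, -, -, Q, a, d, hf⟩ := hO'.exists_frame
    rw [← Comp.cardW S'.isPGroup' hKS.1]
    exact card_le_of_le (hf.W_le_V hO' hKS.1 (hallS _ hKS.1))
  obtain ⟨F, hFV, hF4, hzF, hFc⟩ := exists_normal_four S'.isPGroup' hO'.elemV hVS
    (c''.S_le_M.trans hO'.L_le_normV) hV4 (omegaCenter_sylow_le hO'.mem S' le_rfl hz) hz1 hzS
  have hFe : IsElementaryAbelian 2 F := elemAb_mono hO'.elemV hFV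
  have hFn : (S' : Subgroup G) ≤ normalizer (F : Set G) := fun g hg => by
    refine mem_normalizer_of_cj (eq_of_le_of_card_ge ?_ (card_cj _ _).ge)
    rintro _ ⟨f, hf, rfl⟩
    show g * f * g⁻¹ ∈ F
    rw [show g * f * g⁻¹ = ⁅g, f⁆ * f by rw [commutatorElement_def]; group]
    exact mul_mem ((zpowers_le.2 hzF) (hFc g hg f hf)) hf
  -- `F ≤ T'`
  have hFT : F ≤ T' := fun f hf => by
    have hfS : f ∈ (S' : Subgroup G) := hVS (hFV hf)
    have hfY : f ∈ normalizer (Yof T' K₁ : Set G) := by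
      refine mem_normalizer_of_cj (eq_of_le_of_card_ge ?_ (card_cj _ _).ge)
      rintro _ ⟨y, hy, rfl⟩
      show f * y * f⁻¹ ∈ _
      rw [show f * y * f⁻¹ = ⁅y, f⁆⁻¹ * y by rw [commutatorElement_def]; group]
      refine mul_mem (inv_mem ((zpowers_le.2 (mem_sup_left (W'.Z_le hz))) (hFc y ?_ f hf))) hy
      exact hlt.le ((P.side false).Y_le_T hy)
    have hYne : Yof T' K₁ ≠ ⊥ := fun e =>
      Comp.W_ne_bot (c'.pT hT') hK₁.1 (le_bot_iff.1 (le_sup_right.trans e.le))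
    have hle : normalizer (Yof T' K₁ : Set G) ≤ normalizer (K₁ : Set G) :=
      W'.le_normalizer_of_noShare hns hK₁
        ⟨_, elemAb_isPGroup (P.side false).elemY, hYne, rfl⟩
        (le_sup_left.trans (P.side false).P_le_normY)
        ((thompsonOf_le T').trans (le_sup_right.trans (P.side false).P_le_normY))
    have h1 := sylowTwoIn_eq (W'.side hK₁ q.inv₁).syl
      (S'.isPGroup'.to_le (sup_le hlt.le (zpowers_le.2 hfS))) le_sup_left
      (sup_le q.inv₁ (zpowers_le.2 (hle hfY)))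
    exact h1 ▸ mem_sup_right (mem_zpowers f)
  have hxF : cj x F = F := cj_eq_self (hFn q.x_mem)
  have hFZ : F ≤ Zof T' := by
    rw [← P.Y_inf hnc]
    rcases P.elem_le hnc hFe hFT with h | h
    · refine le_inf h ?_
      rw [← hxF]
      exact (cj_mono h).trans hxY.le
    · refine le_inf ?_ h
      rw [← hxF]
      exact (cj_mono h).trans hxY'.le
  have hZc2 : Nat.card (Zc T' K₁) = 2 ∧ Nat.card (Zof T') = 4 := by
    have h1 := card_le_of_le hFZ
    have h2 : Nat.card (Zc T' K₁) ≤ 2 := P.card_Zc_le false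
    have h3 : Nat.card (Zof T') = 2 * Nat.card (Zc T' K₁) := (P.side false).card_Z
    omega
  have hFeq : F = Zof T' := eq_of_le_of_card_ge hFZ (by rw [hF4, hZc2.2])
  have hC := q.centralizer_inf_le c'' hT' hlt hZc2.1
  -- the Thompson subgroup of `S'` is not inside `T'`
  obtain ⟨A, hA', hAT⟩ : ∃ A ∈ maxElemIn 2 (S' : Subgroup G), ¬ A ≤ T' := by
    by_contra! hcon
    have h1 : thompsonSubgroupOf 2 (S' : Subgroup G) ≤ T' := by
      rw [thompsonOf_eq]; exact sSup_le hcon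
    exact hK₁.2 (hallS K₁ (isJComponent_congr (thompsonOf_eq_of_le h1 hlt.le).symm hK₁.1))
  obtain ⟨a, ha, haT⟩ := SetLike.not_le_iff_exists.1 hAT
  have hsq : ∀ y ∈ Zof T', y * y = 1 := fun y hy => by
    rw [← pow_two]; exact (elemAb_omegaCenterOf _).2 y hy
  have hfixz : ∀ g ∈ (S' : Subgroup G), g * z * g⁻¹ = z := fun g hg =>
    mul_inv_eq_iff_eq_mul.2 (mem_centralizer_singleton_iff.1 (hzS hg))
  have hout : ∀ g ∈ (S' : Subgroup G), g ∉ T' →
      g ∈ normalizer (Zof T' : Set G) ∧ g ∉ centralizer (Zof T' : Set G) :=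
    fun g hg hgT => ⟨hFeq ▸ hFn hg, fun e => hgT (hC ⟨hg, e⟩)⟩
  have hmul : ∀ g ∈ (S' : Subgroup G), g ∉ T' → ∀ k ∈ (S' : Subgroup G), k ∉ T' → g * k ∈ T' :=
    fun g hg hgT k hk hkT => hC ⟨mul_mem hg hk, four_mul_mem hZc2.2 hsq (hout g hg hgT).1
      (hout k hk hkT).1 (W'.Z_le hz) hz1 (hfixz g hg) (hfixz k hk) (hout g hg hgT).2
      (hout k hk hkT).2⟩
  have haS : a ∈ (S' : Subgroup G) := hA'.1 ha
  -- `a` interchanges the two groups
  have haY : cj a (Yof T' K₁) = Yof T' (cj x K₁) ∧ cj a (Yof T' (cj x K₁)) = Yof T' K₁ := by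
    have ht := hmul a haS haT x q.x_mem q.x_not
    have e : a = (a * x) * (x * x)⁻¹ * x := by group
    have ht' : a * x * (x * x)⁻¹ ∈ T' := mul_mem ht (inv_mem q.x_sq)
    constructor
    · rw [e, ← cj_cj, hxY]
      exact cj_eq_self ((P.side true).P_le_normY (mem_sup_right ht'))
    · rw [e, ← cj_cj, hxY']
      exact cj_eq_self ((P.side false).P_le_normY (mem_sup_right ht'))
  set E := A ⊓ T'
  have hcardA : Nat.card A = 2 * Nat.card E := by
    have h1 := relIndex_mul_relIndex ⊥ E A bot_le inf_le_left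
    rw [relIndex_bot_left, relIndex_bot_left] at h1
    rw [← h1, mul_comm]
    congr 1
    rw [relIndex, index_eq_two_iff]
    refine ⟨⟨a, ha⟩, fun b => ?_⟩
    simp only [mem_subgroupOf, Subgroup.coe_mul]
    by_cases hb : (b : G) ∈ T'
    · exact Or.inr ⟨⟨b.2, hb⟩, fun e => haT ((mul_mem_cancel_left hb).1 e.2)⟩
    · exact Or.inl ⟨⟨mul_mem b.2 ha, hmul b (hA'.1 b.2) hb a haS haT⟩, fun e => hb e.2⟩
  have hA8 : 8 ≤ Nat.card A := by
    have h1 : Nat.card (Yof T' K₁) = 8 := by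
      have h1 : Nat.card (Yof T' K₁) = 4 * Nat.card (Zc T' K₁) := (P.side false).card_Y
      rw [h1, hZc2.1]
    rw [card_eq_aOrd hA', ← h1]
    exact card_le_aOrd ((P.side false).Y_le_T.trans hlt.le) (P.side false).elemY
  have haE : cj a E = E := cj_eq_self (centralizer_le_normalizer _
    (fun y hy => elemAb_comm hA'.2.1 hy.1 ha))
  have hEZ : E ≤ Zof T' := by
    rw [← P.Y_inf hnc]
    rcases P.elem_le hnc (elemAb_mono hA'.2.1 inf_le_left) inf_le_right with h | h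
    · refine le_inf h ?_
      rw [← haE]
      exact (cj_mono h).trans haY.1.le
    · refine le_inf ?_ h
      rw [← haE]
      exact (cj_mono h).trans haY.2.le
  have hEeq : E = Zof T' := eq_of_le_of_card_ge hEZ (by rw [hZc2.2]; omega)
  exact (hout a haS haT).2 fun y hy => elemAb_comm hA'.2.1 ((hEeq.ge hy).1) ha

theorem noShare_all (hT : (S : Subgroup G) ∈ maxStraddlingTwoSubgroups M) :
    NoShare (S : Subgroup G) (allP (G := G)) :=
  (c.world_all (c.T_ne_bot hT)).noShare_of_not_allShare (c.not_allShare_all hT)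

theorem noShare_out {T : Subgroup G} (hT : T ∈ maxStraddlingTwoSubgroups M)
    (hTS : T ≤ (S : Subgroup G)) : NoShare T (outP M) := by
  rcases eq_or_lt_of_le hTS with rfl | hlt
  · exact fun K K' hK hK' h => c.noShare_all hT K K' ⟨hK.1, trivial⟩ ⟨hK'.1, trivial⟩ h
  · exact c.noShare_out_of_lt hT hlt

end Setup

end CfsgLib.ClassK.ZN
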