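import Cfsg.Agent.Lib.ClassK.ZNOver

/-!
Every coordinate of a member of `𝓛(T)` carries a `J(T)`-component.
-/

set_option autoImplicit false
set_option linter.unusedSectionVars false

namespace CfsgLib.ClassK.ZN

open Cfsg Subgroup CfsgLib.PLocal
open scoped commutatorElement

universe u

variable {G : Type u} [Group G] [Finite G]

namespace Frame

variable {T L P : Subgroup G} {ι : Type u} {a d : ι → G}
variable (hf : Frame T L P a d) (h : Over T L)

local notation "O" => pCoreOf 2 L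
local notation "V" => Vof L
local notation "X" => Xof L
local notation "J" => thompsonSubgroupOf 2 T
local notation "JL" => thompsonSubgroupOf 2 L

include hf h

/-- A `J(T)`-component over the coordinate `i`. -/
theorem exists_component (i : ι) :
    ∃ K : Subgroup G, IsJComponent T K ∧ K ≤ L ∧ K ≤ X ⊔ zpowers (d i) := by
  have haL : a i ∈ L := h.J_le_L (hf.a_mem i)
  have hdP := hf.d_mem i
  have hdL : d i ∈ L := hf.P_le hdP
  have hnX : ∀ g ∈ L, ∀ q ∈ X, g * q * g⁻¹ ∈ X := fun g hg q hq =>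
    (mem_normalizer_iff.1 (h.L_le_normX hg) q).1 hq
  have hnO : ∀ g ∈ L, ∀ q ∈ O, g * q * g⁻¹ ∈ O := fun g hg q hq =>
    (mem_normalizer_iff.1 (h.L_le_normO hg) q).1 hq
  set c := ⁅d i, a i⁆ with hcdef
  have hcP : c ∈ P := by
    rw [hcdef, commutatorElement_def, show d i * a i * (d i)⁻¹ * (a i)⁻¹ =
      d i * (a i * (d i)⁻¹ * (a i)⁻¹) by group]
    exact mul_mem hdP ((mem_normalizer_iff.1 (hf.L_le_normP haL) _).1 (inv_mem hdP))
  have hcL : c ∈ L := hf.P_le hcP
  have hcd : c * d i ∈ X := by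
    have h2 := hnX _ hdL _ (inv_mem (hnX _ hdL _ (hf.inv i)))
    have h3 : c * d i = d i * (d i * (a i * d i * (a i)⁻¹ * d i) * (d i)⁻¹)⁻¹ * (d i)⁻¹ * d i ^ 3 := by
      have hai : (a i)⁻¹ = a i := inv_eq_of_mul_eq_one_right (hf.a_sq i)
      rw [hcdef, commutatorElement_def]
      simp only [mul_inv_rev, hai, inv_inv]
      group
    rw [h3]; exact mul_mem h2 (hf.d_cube i)
  have hcD : c ∈ X ⊔ zpowers (d i) := by
    have := mul_mem (mem_sup_left hcd : c * d i ∈ X ⊔ zpowers (d i))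
      (mem_sup_right (inv_mem (mem_zpowers (d i))))
    rwa [mul_inv_cancel_right] at this
  have hcX : c ∉ X := fun e => hf.d_not i (by
    have := mul_mem (inv_mem e) hcd; rwa [inv_mul_cancel_left] at this)
  have hca : a i * c * (a i)⁻¹ = c⁻¹ := by
    have hai : (a i)⁻¹ = a i := inv_eq_of_mul_eq_one_right (hf.a_sq i)
    rw [hcdef, commutatorElement_inv, commutatorElement_def, commutatorElement_def, hai]
    simp only [mul_assoc, hf.a_sq i, mul_one]
  -- `J(T)` normalizes `O ⟨c⟩`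
  have hc3X : c ^ 3 ∈ X := by
    obtain ⟨x, hx, z, hz, hxz⟩ := CfsgLib.Comp.exists_mul_of_mem_sup
      (zpowers_le.2 (h.L_le_normX hdL)) hcD
    have hπ : ∀ g ∈ L, ∀ g' ∈ L, g' * g⁻¹ ∈ X → (g ^ 3 ∈ X → g' ^ 3 ∈ X) := by
      intro g hg g' hg' hd hg3
      rw [show g' ^ 3 = (g' * g⁻¹) * (g * (g' * g⁻¹) * g⁻¹) * (g ^ 2 * (g' * g⁻¹) * (g ^ 2)⁻¹) * g ^ 3 by
        simp only [pow_succ, pow_zero, one_mul]; group]
      exact mul_mem (mul_mem (mul_mem hd (hnX g hg _ hd)) (hnX _ (pow_mem hg 2) _ hd)) hg3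
    refine hπ (d i)⁻¹ (inv_mem hdL) c hcL (by simpa using hcd) ?_
    rw [inv_pow]; exact inv_mem (hf.d_cube i)
  have hJn : ∀ j ∈ J, j * c * j⁻¹ * c⁻¹ ∈ O ∨ j * c * j⁻¹ * c ∈ O := by
    have hXPO : ∀ x ∈ X, ∀ j ∈ J, j * x * j⁻¹ * x⁻¹ ∈ O := fun x hx j hj => by
      have := h.commutator_X_T hx (thompsonOf_le T hj)
      rw [show j * x * j⁻¹ * x⁻¹ = ⁅x, j⁆⁻¹ by rw [commutatorElement_def]; group]
      exact inv_mem this
    -- the case where `j` fixes `c` modulo `X`
    have hfix : ∀ j ∈ J, j * c * j⁻¹ * c⁻¹ ∈ X → j * c * j⁻¹ * c⁻¹ ∈ O := by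
      intro j hj hx
      have hjL : j ∈ L := h.J_le_L hj
      set x := j * c * j⁻¹ * c⁻¹ with hxdef
      have hn : ∀ n : ℕ, (x ^ n)⁻¹ * (j ^ n * c * (j ^ n)⁻¹ * c⁻¹) ∈ O := by
        intro n
        induction n with
        | zero => simp
        | succ n ih =>
          set E := (x ^ n)⁻¹ * (j ^ n * c * (j ^ n)⁻¹ * c⁻¹)
          have h1 : j * E * j⁻¹ ∈ O := hnO j hjL _ ih
          have h2 : j * x ^ n * j⁻¹ * (x ^ n)⁻¹ ∈ O := hXPO _ (pow_mem hx n) j hj
          have h3 : (x ^ n)⁻¹ * (j * x ^ n * j⁻¹) ∈ O := by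
            have := hnO _ (inv_mem (pow_mem hx.1 n)) _ h2
            convert this using 1
            group
          have h4 := mul_mem h3 h1
          have h5 := hnO _ (inv_mem hx.1) _ h4
          convert h5 using 1
          have e1 : (x ^ (n + 1))⁻¹ = x⁻¹ * (x ^ n)⁻¹ := by rw [pow_succ, mul_inv_rev]
          rw [e1]
          simp only [E, hxdef, pow_succ' j, mul_inv_rev]
          group
      obtain ⟨k, hk⟩ := h.pT ⟨j, thompsonOf_le T hj⟩
      have hjk : j ^ 2 ^ k = 1 := congrArg Subtype.val hk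
      have h6 := hn (2 ^ k)
      rw [hjk] at h6
      have h7 : x ^ 2 ^ k ∈ O := by
        have := inv_mem h6
        convert this using 1
        group
      have hxP : x ∈ P := mul_mem ((mem_normalizer_iff.1 (hf.L_le_normP hjL) c).1 hcP) (inv_mem hcP)
      obtain ⟨m, hm⟩ := h.pO ⟨_, h7⟩
      have hz : IsPGroup 2 ↥(zpowers x) := by
        rintro ⟨z, t, rfl⟩
        refine ⟨k + m, Subtype.ext ?_⟩
        show (x ^ t) ^ 2 ^ (k + m) = 1
        rw [← zpow_natCast, ← zpow_mul, mul_comm, zpow_mul, zpow_natCast, pow_add, pow_mul,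
          show (x ^ 2 ^ k) ^ 2 ^ m = 1 from congrArg Subtype.val hm, one_zpow]
      exact hf.two _ hz (zpowers_le.2 hxP) (mem_zpowers _)
    intro j hj
    rcases hf.stable i j (h.J_le_JL hj) with e | e
    · left
      refine hfix j hj ?_
      -- `c ≡ d⁻¹` modulo `X`
      rw [show j * c * j⁻¹ * c⁻¹ = (j * (c * d i) * j⁻¹) *
          ((d i)⁻¹ * (j * d i * j⁻¹ * (d i)⁻¹)⁻¹ * (d i)⁻¹⁻¹) * (c * d i)⁻¹ by group]
      exact mul_mem (mul_mem (hnX j (h.J_le_L hj) _ hcd) (hnX _ (inv_mem hdL) _ (inv_mem e)))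
        (inv_mem hcd)
    · right
      have hai : (a i)⁻¹ = a i := inv_eq_of_mul_eq_one_right (hf.a_sq i)
      have hf1 : j * c * j⁻¹ * c ∈ X := by
        rw [show j * c * j⁻¹ * c = (j * (c * d i) * j⁻¹) *
            (d i * ((j * d i * j⁻¹ * d i)⁻¹ * (c * d i)) * (d i)⁻¹) by group]
        exact mul_mem (hnX j (h.J_le_L hj) _ hcd) (hnX _ hdL _ (mul_mem (inv_mem e) hcd))
      have hgJ : a i * j ∈ J := mul_mem (hf.a_mem i) hj
      have hg : a i * j * c * (a i * j)⁻¹ * c⁻¹ ∈ X := by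
        rw [show a i * j * c * (a i * j)⁻¹ * c⁻¹ =
          (a i * (j * c * j⁻¹ * c) * (a i)⁻¹) * (a i * c * (a i)⁻¹)⁻¹ * c⁻¹ by group, hca, inv_inv,
          mul_inv_cancel_right]
        exact hnX _ haL _ hf1
      have h5 := hnO _ (inv_mem haL) _ (hfix _ hgJ hg)
      convert h5 using 1
      calc j * c * j⁻¹ * c = j * c * j⁻¹ * (a i * c * (a i)⁻¹)⁻¹ := by rw [hca, inv_inv]
        _ = _ := by rw [hai]; group; simp [hai, hf.a_sq i]
  -- the odd generator
  have hc3 : c ^ 3 ∈ O := by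
    have h1 : a i * c ^ 3 * (a i)⁻¹ * (c ^ 3)⁻¹ ∈ O := by
      have := inv_mem (h.commutator_X_T hc3X (thompsonOf_le T (hf.a_mem i)))
      convert this using 1
      simp only [commutatorElement_def]; group
    rw [← conj_pow, hca, inv_pow, ← mul_inv_rev] at h1
    have h2 : c ^ 3 * c ^ 3 ∈ O := inv_mem_iff.1 h1
    have hz : IsPGroup 2 ↥(zpowers (c ^ 3)) := by
      obtain ⟨n, hn⟩ := h.pO ⟨_, h2⟩
      rintro ⟨z, t, rfl⟩
      refine ⟨n + 1, Subtype.ext ?_⟩
      show ((c ^ 3) ^ t) ^ 2 ^ (n + 1) = 1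
      rw [← zpow_natCast, ← zpow_mul, mul_comm, zpow_mul, zpow_natCast, pow_succ' 2 n, pow_mul,
        pow_two, show (c ^ 3 * c ^ 3) ^ 2 ^ n = 1 from congrArg Subtype.val hn, one_zpow]
    exact hf.two _ hz (zpowers_le.2 (pow_mem hcP 3)) (mem_zpowers _)
  obtain ⟨k, o, ho, hk⟩ := Nat.exists_eq_two_pow_mul_odd (orderOf_pos c).ne'
  set e := c ^ 2 ^ k with hedef
  have heodd : Odd (orderOf e) := by
    rw [hedef, orderOf_pow' _ (by positivity), hk, Nat.gcd_eq_right (dvd_mul_right _ _),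
      Nat.mul_div_cancel_left _ (by positivity)]
    exact ho
  have heU : ∀ U : Subgroup G, e ∈ U → c ^ 3 ∈ U → c ∈ U := by
    intro U h1 h2
    have hr : 2 ^ k % 3 = 1 ∨ 2 ^ k % 3 = 2 := by
      have hne : 2 ^ k % 3 ≠ 0 := fun hh => by
        have := (Nat.prime_dvd_prime_iff_eq Nat.prime_three Nat.prime_two).1
          (Nat.prime_three.dvd_of_dvd_pow (Nat.dvd_of_mod_eq_zero hh))
        omega
      omega
    have h3 : c ^ (2 ^ k % 3) ∈ U := by
      have h4 : c ^ (2 ^ k % 3) = e * ((c ^ 3) ^ (2 ^ k / 3))⁻¹ := by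
        rw [eq_mul_inv_iff_mul_eq, ← pow_mul, ← pow_add, Nat.mod_add_div]
      rw [h4]; exact mul_mem h1 (inv_mem (pow_mem h2 _))
    rcases hr with hh | hh <;> rw [hh] at h3
    · rwa [pow_one] at h3
    · have := mul_mem (inv_mem h3) h2
      rwa [pow_succ c 2, inv_mul_cancel_left] at this
  have heO : e ∉ O := fun he => hcX (h.O_le_X (heU _ he hc3))
  have he3 : e ^ 3 = 1 := by
    have h1 : e ^ 3 ∈ O := by
      rw [hedef, ← pow_mul, mul_comm, pow_mul]; exact pow_mem hc3 _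
    refine CfsgLib.Amalgam.eq_one_of_coprime_of_mem h.pO ?_ h1
    exact Nat.Coprime.coprime_dvd_left (orderOf_pow_dvd 3) heodd.coprime_two_right
  haveI : Fact (Nat.Prime 3) := ⟨Nat.prime_three⟩
  have heord : orderOf e = 3 := orderOf_eq_prime he3 (fun he => heO (he ▸ one_mem _))
  set N := O ⊔ zpowers c with hNdef
  have hNe : N = O ⊔ zpowers e := by
    refine le_antisymm (sup_le le_sup_left (zpowers_le.2 ?_)) (sup_le le_sup_left ?_)
    · exact heU _ (mem_sup_right (mem_zpowers _)) (mem_sup_left hc3)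
    · exact zpowers_le.2 (pow_mem (mem_sup_right (mem_zpowers _)) _)
  have hNL : N ≤ L := sup_le (CfsgLib.Amalgam.pCoreOf_le L) (zpowers_le.2 hcL)
  have hNP : N ≤ P := sup_le hf.O_le (zpowers_le.2 hcP)
  have hNX : N ≤ X ⊔ zpowers (d i) := sup_le (h.O_le_X.trans le_sup_left) (zpowers_le.2 hcD)
  have hJN : J ≤ normalizer (N : Set G) := fun j hj => by
    refine mem_normalizer_of_cj (eq_of_le_of_card_ge ?_ (card_cj _ _).ge)
    rw [cj, map_le_iff_le_comap]
    refine sup_le (fun o ho => mem_sup_left (hnO j (h.J_le_L hj) o ho)) (zpowers_le.2 ?_)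
    show j * c * j⁻¹ ∈ N
    rcases hJn j hj with h1 | h1
    · have := mul_mem (mem_sup_left h1 : _ ∈ N) (mem_sup_right (mem_zpowers c))
      rwa [inv_mul_cancel_right] at this
    · have := mul_mem (mem_sup_left h1 : _ ∈ N) (mem_sup_right (inv_mem (mem_zpowers c)))
      rwa [mul_inv_cancel_right] at this
  set K := closure {g : G | g ∈ N ∧ Odd (orderOf g)} with hKdef
  have hKN : K ≤ N := (closure_le _).2 fun g hg => hg.1
  have hnK : normalizer (N : Set G) ≤ normalizer (K : Set G) := fun g hg => by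
    refine mem_normalizer_of_cj (eq_of_le_of_card_ge ?_ (card_cj _ _).ge)
    rw [cj, hKdef, MonoidHom.map_closure]
    refine closure_mono ?_
    rintro _ ⟨x, ⟨hx, hxo⟩, rfl⟩
    refine ⟨(mem_normalizer_iff.1 hg x).1 hx, ?_⟩
    rwa [MulEquiv.coe_toMonoidHom, MulEquiv.orderOf_eq]
  have hJK : J ≤ normalizer (K : Set G) := hJN.trans hnK
  have hOK : O ≤ normalizer (K : Set G) := (le_sup_left.trans le_normalizer).trans hnK
  have heK : e ∈ K := subset_closure ⟨by rw [hNe]; exact mem_sup_right (mem_zpowers _), heodd⟩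
  have hgen : closure {g : G | g ∈ K ∧ Odd (orderOf g)} = K :=
    le_antisymm ((closure_le _).2 fun g hg => hg.1)
      ((closure_le _).2 fun g hg => subset_closure ⟨subset_closure hg, hg.2⟩)
  have hKL : K ≤ L := hKN.trans hNL
  have hea : ⁅e, a i⁆ = e * e := by
    have h1 : a i * e⁻¹ * (a i)⁻¹ = e := by
      rw [hedef, ← inv_pow, ← conj_pow]
      congr 1
      rw [show a i * c⁻¹ * (a i)⁻¹ = (a i * c * (a i)⁻¹)⁻¹ by group, hca, inv_inv]
    rw [commutatorElement_def, show e * a i * e⁻¹ * (a i)⁻¹ = e * (a i * e⁻¹ * (a i)⁻¹) by group, h1]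
  have hcomm : ⁅K, J⁆ = K := by
    refine le_antisymm (le_normalizer_iff_commutator_le_left.1 hJK) ?_
    have hOK1 : O ≤ normalizer ((⁅K, J⁆ : Subgroup G) : Set G) := by
      intro o ho
      refine mem_normalizer_of_cj ?_
      rw [cj_commutator, cj_eq_self (hOK ho), cj_eq_self (h.O_le_normJ ho)]
    have he1 : e ∈ ⁅K, J⁆ := by
      have := pow_mem (commutator_mem_commutator heK (hf.a_mem i)) 2
      rw [hea, show (e * e) ^ 2 = e ^ 3 * e by rw [pow_succ e 2, pow_two, pow_two]; group, he3,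
        one_mul] at this
      exact this
    conv_lhs => rw [← hgen]
    rw [closure_le]
    rintro g ⟨hg, hgo⟩
    refine h.mem_of_odd_O hOK1 ?_ hgo
    exact (hKN.trans (hNe.le.trans (sup_le le_sup_right
      ((zpowers_le.2 he1).trans le_sup_left)))) hg
  have hQ : pCoreOf 2 K = K ⊓ O := by
    refine le_antisymm (le_inf (CfsgLib.Amalgam.pCoreOf_le K)
      (hf.two _ (CfsgLib.Amalgam.isPGroup_pCoreOf K) ((CfsgLib.Amalgam.pCoreOf_le K).trans
        (hKN.trans hNP)))) ?_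
    refine CfsgLib.Amalgam.le_pCoreOf inf_le_left ?_ (h.pO.to_le inf_le_right)
    exact (le_inf le_normalizer (hKL.trans h.L_le_normO)).trans
      Subgroup.inf_normalizer_le_normalizer_inf
  have hindex : (pCoreOf 2 K).relIndex K = 3 := by
    have hsup : zpowers e ⊔ pCoreOf 2 K = K := by
      refine le_antisymm (sup_le (zpowers_le.2 heK) (CfsgLib.Amalgam.pCoreOf_le K)) fun g hg => ?_
      have h1 := hKN hg
      rw [hNe] at h1
      obtain ⟨o, ho, z, hz, rfl⟩ := CfsgLib.Comp.exists_mul_of_mem_sup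
        (zpowers_le.2 (h.L_le_normO (hKL heK))) h1
      have hzK : z ∈ K := zpowers_le.2 heK hz
      refine mul_mem (mem_sup_right ?_) (mem_sup_left hz)
      rw [hQ]
      exact ⟨(mul_mem_cancel_right hzK).1 hg, ho⟩
    have hinf : zpowers e ⊓ pCoreOf 2 K = ⊥ := by
      refine (Subgroup.eq_bot_iff_forall _).2 fun z hz => ?_
      refine CfsgLib.Amalgam.eq_one_of_coprime_of_mem (CfsgLib.Amalgam.isPGroup_pCoreOf K) ?_ hz.2
      refine Nat.Coprime.coprime_dvd_left (?_ : orderOf z ∣ 3) (by norm_num)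
      have := Subgroup.orderOf_dvd_natCard _ hz.1
      rwa [Nat.card_zpowers, heord] at this
    have hn : zpowers e ≤ normalizer (pCoreOf 2 K : Set G) :=
      (zpowers_le.2 heK).trans (CfsgLib.Amalgam.le_normalizer_pCoreOf K)
    have h1 := CfsgLib.Coprime.card_sup_of_inf_eq_bot hn hinf
    rw [sup_comm, hsup, Nat.card_zpowers, heord] at h1
    have h2 := relIndex_mul_relIndex ⊥ (pCoreOf 2 K) K bot_le (CfsgLib.Amalgam.pCoreOf_le K)
    rw [relIndex_bot_left, relIndex_bot_left, h1] at h2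
    exact Nat.eq_of_mul_eq_mul_left Nat.card_pos h2
  have hpre : Pre T K := ⟨h.pT, hgen, hcomm, hindex, fun S hS hJS => by
    obtain ⟨g, hg, hSg⟩ := exists_cj_of_isSylowTwoIn h.mem.1 hS.2.1
      (hS.1.trans (sup_le hKL h.J_le_L))
    have h1 := h.thompson_sylow (hJS.trans hSg)
    rw [← h1]
    exact thompsonOf_eq_of_le (by rw [h1]; exact hJS) hSg⟩
  refine ⟨K, ⟨hgen, hcomm, hindex, hpre.syl, le_antisymm hpre.card_wOf_le ?_,
    fun w hw => by rw [← pow_two]; exact hpre.elemW.2 w hw⟩, hKL, hKN.trans hNX⟩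
  -- the plane of the coordinate lies in `W`
  rw [← hf.plane i]
  refine card_le_of_le ?_
  have hCE : ∀ v ∈ V, ⁅v, e⁆ ∈ wOf K := by
    intro v hv
    have hvO : v ∈ O := h.V_le_O hv
    have hcQ : ∀ u ∈ V, ⁅u, e⁆ ∈ pCoreOf 2 K ∧ ⁅u, e⁆ ∈ V := by
      intro u hu
      have h2 : ⁅u, e⁆ ∈ V := by
        rw [commutatorElement_def, show u * e * u⁻¹ * e⁻¹ = u * (e * u⁻¹ * e⁻¹) by group]
        exact mul_mem hu ((mem_normalizer_iff.1 (h.L_le_normV (hKL heK)) _).1 (inv_mem hu))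
      refine ⟨?_, h2⟩
      rw [hQ]
      refine mem_inf.2 ⟨?_, h.V_le_O h2⟩
      exact mul_mem ((mem_normalizer_iff.1 (hOK (h.V_le_O hu)) e).1 heK) (inv_mem heK)
    have hu : ∀ u ∈ V, ⁅u, e⁆ ∈ omegaCenterOf (pCoreOf 2 K) := fun u hu => by
      refine mem_omegaCenterOf (hcQ u hu).1 (h.elemV.2 _ (hcQ u hu).2) ?_
      refine centralizer_le (hQ.le.trans inf_le_right) ?_
      exact (le_centralizer_iff.1 (le_centralizer_self_omegaCenterOf O)) (hcQ u hu).2
    -- `[v, e]` is a commutator of commutators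
    have h1 : ⁅v, e⁆ ∈ ⁅⁅V, zpowers e⁆, zpowers e⁆ := by
      obtain ⟨n, hn⟩ := (elemAb_isPGroup h.elemV).exists_card_eq
      rw [CfsgLib.Coprime.commutator_commutator_eq (zpowers_le.2 (h.L_le_normV (hKL heK)))
        (by rw [hn, Nat.card_zpowers, heord]; exact Nat.Coprime.pow_right n (by norm_num))
        (Or.inr (by haveI := (elemAb_isPGroup h.elemV).isNilpotent; infer_instance))]
      exact commutator_mem_commutator hv (mem_zpowers _)
    refine commutator_mono ?_ (zpowers_le.2 heK) h1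
    refine commutator_le.2 fun u huV z hz => ?_
    obtain ⟨m, rfl⟩ := hz
    -- reduce to the generator
    let U : Subgroup G :=
      { carrier := {g | g ∈ K ∧ ∀ u ∈ V, ⁅u, g⁆ ∈ omegaCenterOf (pCoreOf 2 K)}
        one_mem' := ⟨one_mem _, fun u _ => by rw [commutatorElement_one_right]; exact one_mem _⟩
        mul_mem' := fun {g k} hg hk => ⟨mul_mem hg.1 hk.1, fun u hu' => by
          rw [show ⁅u, g * k⁆ = ⁅u, g⁆ * (g * ⁅u, k⁆ * g⁻¹) by simp only [commutatorElement_def]; group]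
          exact mul_mem (hg.2 u hu') ((mem_normalizer_iff.1 (normalizer_le_normalizer_omegaCenterOf _
            (CfsgLib.Amalgam.le_normalizer_pCoreOf K hg.1)) _).1 (hk.2 u hu'))⟩
        inv_mem' := fun {g} hg => ⟨inv_mem hg.1, fun u hu' => by
          rw [show ⁅u, g⁻¹⁆ = g⁻¹ * ⁅u, g⁆⁻¹ * (g⁻¹)⁻¹ by simp only [commutatorElement_def]; group]
          exact (mem_normalizer_iff.1 (normalizer_le_normalizer_omegaCenterOf _
            (CfsgLib.Amalgam.le_normalizer_pCoreOf K (inv_mem hg.1))) _).1 (inv_mem (hg.2 u hu'))⟩ }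
    exact (U.zpow_mem (⟨heK, hu⟩ : e ∈ U) m).2 u huV
  refine commutator_le.2 fun v hv z hz => ?_
  have hzX : z ∈ X ⊔ zpowers e := by
    refine (zpowers_le.2 ?_ : zpowers (d i) ≤ X ⊔ zpowers e) hz
    have hc' : c ∈ X ⊔ zpowers e := heU _ (mem_sup_right (mem_zpowers _)) (mem_sup_left hc3X)
    have := mul_mem (inv_mem hc') (mem_sup_left hcd : c * d i ∈ X ⊔ zpowers e)
    rwa [inv_mul_cancel_left] at this
  obtain ⟨x, hx, y, hy, rfl⟩ := CfsgLib.Comp.exists_mul_of_mem_sup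
    (zpowers_le.2 (h.L_le_normX (hKL heK))) hzX
  have hyW : ∀ y ∈ zpowers e, ⁅v, y⁆ ∈ wOf K ∧ y ∈ K := by
    intro y hy
    have hyK := zpowers_le.2 heK hy
    refine ⟨?_, hyK⟩
    let U : Subgroup G :=
      { carrier := {g | g ∈ K ∧ ∀ u ∈ V, ⁅u, g⁆ ∈ wOf K}
        one_mem' := ⟨one_mem _, fun u _ => by rw [commutatorElement_one_right]; exact one_mem _⟩
        mul_mem' := fun {g k} hg hk => ⟨mul_mem hg.1 hk.1, fun u hu' => by
          rw [show ⁅u, g * k⁆ = ⁅u, g⁆ * (g * ⁅u, k⁆ * g⁻¹) by simp only [commutatorElement_def]; group]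
          exact mul_mem (hg.2 u hu') ((mem_normalizer_iff.1
            (normalizer_le_normalizer_wOf K (le_normalizer hg.1)) _).1 (hk.2 u hu'))⟩
        inv_mem' := fun {g} hg => ⟨inv_mem hg.1, fun u hu' => by
          rw [show ⁅u, g⁻¹⁆ = g⁻¹ * ⁅u, g⁆⁻¹ * (g⁻¹)⁻¹ by simp only [commutatorElement_def]; group]
          exact (mem_normalizer_iff.1 (normalizer_le_normalizer_wOf K (le_normalizer (inv_mem hg.1)))
            _).1 (inv_mem (hg.2 u hu'))⟩ }
    have h0 : zpowers e ≤ U := zpowers_le.2 (show e ∈ U from ⟨heK, hCE⟩)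
    exact (h0 hy).2 v hv
  have h1 : y * v⁻¹ * y⁻¹ ∈ V :=
    (mem_normalizer_iff.1 (h.L_le_normV (hKL (hyW y hy).2)) _).1 (inv_mem hv)
  rw [show ⁅v, x * y⁆ = v * (x * (y * v⁻¹ * y⁻¹) * x⁻¹) by rw [commutatorElement_def]; group,
    mul_inv_eq_iff_eq_mul.2 (hx.2 _ h1).symm,
    show v * (y * v⁻¹ * y⁻¹) = ⁅v, y⁆ by rw [commutatorElement_def]; group]
  exact (hyW y hy).1


end Frame

end CfsgLib.ClassK.ZN
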