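import Cfsg.Agent.Lib.ClassK.ZNProper

/-!
The shape of the groups `⟨K, T⟩` of a small amalgam.
-/

set_option autoImplicit false
set_option linter.unusedSectionVars false

namespace CfsgLib.ClassK.ZN

open Cfsg Subgroup CfsgLib.PLocal
open scoped commutatorElement

universe u

variable {G : Type u} [Group G] [Finite G]

namespace Side

variable {T K : Subgroup G} (s : Side T K)
include s

theorem relIndex_T : T.relIndex (K ⊔ T) = 3 := by
  obtain ⟨w, hw, hw1, hz, hfix, -⟩ := s.exists_point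
  have hwz : w ∈ Wz T K := hz ▸ mem_zpowers w
  set P := K ⊔ T
  let f₀ : P → {v : G // v ∈ (wOf K : Set G) \ {1}} := fun g =>
    ⟨(g : G) * w * (g : G)⁻¹, (mem_normalizer_iff.1 (s.P_le_normW g.2) w).1 hw,
      fun e => hw1 (conj_eq_one_iff.1 e)⟩
  have hf₀ : ∀ g k : P, QuotientGroup.leftRel (T.subgroupOf P) g k → f₀ g = f₀ k := by
    intro g k h
    rw [QuotientGroup.leftRel_apply, mem_subgroupOf] at h
    refine Subtype.ext ?_
    show (g : G) * w * (g : G)⁻¹ = (k : G) * w * (k : G)⁻¹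
    calc (g : G) * w * (g : G)⁻¹
        = g * (((g⁻¹ * k : P) : G) * w * ((g⁻¹ * k : P) : G)⁻¹) * (g : G)⁻¹ := by rw [hfix _ h]
      _ = _ := by simp only [Subgroup.coe_mul, Subgroup.coe_inv]; group
  let f : P ⧸ T.subgroupOf P → {v : G // v ∈ (wOf K : Set G) \ {1}} := Quotient.lift f₀ hf₀
  have hinj : Function.Injective f := by
    intro a b
    induction a using QuotientGroup.induction_on with
    | _ g => induction b using QuotientGroup.induction_on with
      | _ k =>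
        intro e
        have e' : (g : G) * w * (g : G)⁻¹ = (k : G) * w * (k : G)⁻¹ := congrArg Subtype.val e
        refine QuotientGroup.eq.2 (mem_subgroupOf.2 (s.mem_T_of_fix hwz hw1 (g⁻¹ * k).2 ?_))
        calc ((g⁻¹ * k : P) : G) * w * ((g⁻¹ * k : P) : G)⁻¹
            = (g : G)⁻¹ * ((k : G) * w * (k : G)⁻¹) * g := by
              simp only [Subgroup.coe_mul, Subgroup.coe_inv]; group
          _ = w := by rw [← e']; group
  have hsurj : Function.Surjective f := by
    rintro ⟨v, hv, hv1⟩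
    obtain ⟨d, hd, hd3, -⟩ := s.pre.exists_d
    have hdN := s.P_le_normW (mem_sup_left hd : d ∈ K ⊔ T)
    have hdw := (mem_normalizer_iff.1 hdN w).1 hw
    have hne : d * w * d⁻¹ ≠ w := fun e => hw1 (s.pre.fix_eq_one hd hd3 hw e)
    rcases four_cases s.cardW s.sqW hw hdw hw1 (fun e => hw1 (conj_eq_one_iff.1 e)) (Ne.symm hne) hv
      with e | e | e | e
    · exact absurd e hv1
    · exact ⟨((1 : P) : P ⧸ T.subgroupOf P), Subtype.ext (by
        show (1 : G) * w * (1 : G)⁻¹ = v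
        rw [e]; group)⟩
    · exact ⟨((⟨d, mem_sup_left hd⟩ : P) : P ⧸ T.subgroupOf P), Subtype.ext e.symm⟩
    · refine ⟨((⟨d * d, mem_sup_left (mul_mem hd hd)⟩ : P) : P ⧸ T.subgroupOf P), Subtype.ext ?_⟩
      show d * d * w * (d * d)⁻¹ = v
      have hd2 := (mem_normalizer_iff.1 hdN _).1 hdw
      have h3 : d ^ 3 = 1 := by rw [← hd3, pow_orderOf_eq_one]
      rw [e, show d * d * w * (d * d)⁻¹ = d * (d * w * d⁻¹) * d⁻¹ by group]
      rcases four_cases s.cardW s.sqW hw hdw hw1 (fun e => hw1 (conj_eq_one_iff.1 e)) (Ne.symm hne)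
        hd2 with h | h | h | h
      · exact absurd (conj_eq_one_iff.1 (conj_eq_one_iff.1 h)) hw1
      · refine absurd ?_ hne
        have e3 : d * (d * (d * w * d⁻¹) * d⁻¹) * d⁻¹ = w := by
          rw [show d * (d * (d * w * d⁻¹) * d⁻¹) * d⁻¹ = d ^ 3 * w * (d ^ 3)⁻¹ by
            simp only [pow_succ, pow_zero, one_mul]; group, h3]
          group
        rwa [h] at e3
      · exact absurd (mul_left_cancel (mul_right_cancel h)) hne
      · exact h
  rw [relIndex, Subgroup.index, Nat.card_congr (Equiv.ofBijective f ⟨hinj, hsurj⟩),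
    Nat.card_coe_set_eq, Set.ncard_sdiff_singleton_of_mem (one_mem _)]
  have : (wOf K : Set G).ncard = 4 := by rw [← Nat.card_coe_set_eq]; exact s.cardW
  omega

theorem sylow_P : IsSylowTwoIn T (K ⊔ T) := ⟨le_sup_right, s.pT, by rw [s.relIndex_T]; decide⟩

theorem exists_d_moving {t : G} (ht : t ∈ T) (htQ : t ∉ Qof T K) {d : G} (hd : d ∈ K)
    (hd3 : orderOf d = 3) : ⁅d, t⁆ ∉ Qof T K := by
  intro hc
  obtain ⟨w, hw, hw1, -, hfix, huniq⟩ := s.exists_point
  have hdw := (mem_normalizer_iff.1 (s.P_le_normW (mem_sup_left hd)) w).1 hw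
  have e : t * (d * w * d⁻¹) * t⁻¹ = d * w * d⁻¹ := by
    calc t * (d * w * d⁻¹) * t⁻¹ = ⁅d, t⁆⁻¹ * (d * (t * w * t⁻¹) * d⁻¹) * ⁅d, t⁆ := by
          rw [commutatorElement_def]; group
      _ = d * w * d⁻¹ := by
          rw [hfix t ht, ← (inv_mem hc : ⁅d, t⁆⁻¹ ∈ Qof T K).2 _ hdw]; group
  rcases huniq t ht htQ _ hdw e with h | h
  · exact hw1 (conj_eq_one_iff.1 h)
  · exact hw1 (s.pre.fix_eq_one hd hd3 hw h)

theorem core_P : pCoreOf 2 (K ⊔ T) = Qof T K := by
  refine le_antisymm ?_ (CfsgLib.Amalgam.le_pCoreOf (inf_le_left.trans le_sup_right) s.P_le_normQ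
    (s.pT.to_le inf_le_left))
  intro r hr
  have hrT : r ∈ T := le_sylowTwoIn_core s.sylow_P hr
  refine ⟨hrT, ?_⟩
  by_contra hc
  obtain ⟨d, hd, hd3, -⟩ := s.pre.exists_d
  refine s.exists_d_moving hrT (fun e => hc e.2) hd hd3 ?_
  have h1 : ⁅d, r⁆ ∈ K ⊓ pCoreOf 2 (K ⊔ T) := by
    refine mem_inf.2 ⟨?_, ?_⟩
    · rw [commutatorElement_def, show d * r * d⁻¹ * r⁻¹ = d * (r * d⁻¹ * r⁻¹) by group]
      exact mul_mem hd ((mem_normalizer_iff.1 (s.T_le_normK hrT) _).1 (inv_mem hd))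
    · exact mul_mem ((mem_normalizer_iff.1 (CfsgLib.Amalgam.le_normalizer_pCoreOf _
        (mem_sup_left hd)) r).1 hr) (inv_mem hr)
  have h2 : ⁅d, r⁆ ∈ pCoreOf 2 K :=
    s.pre.le_Q ((CfsgLib.Amalgam.isPGroup_pCoreOf _).to_le inf_le_right) inf_le_left h1
  exact ⟨s.QK_le_T h2, s.pre.Q_centralizes_W h2⟩

theorem relIndex_core : (pCoreOf 2 (K ⊔ T)).relIndex (K ⊔ T) = 6 := by
  rw [s.core_P, ← relIndex_mul_relIndex (Qof T K) T (K ⊔ T) inf_le_left le_sup_right, s.relIndex_T]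
  have h1 := relIndex_mul_relIndex ⊥ (Qof T K) T bot_le inf_le_left
  rw [relIndex_bot_left, relIndex_bot_left, s.card_T, mul_comm 2] at h1
  rw [Nat.eq_of_mul_eq_mul_left Nat.card_pos h1]

theorem not_commutator_le : ¬ ⁅K ⊔ T, K ⊔ T⁆ ≤ pCoreOf 2 (K ⊔ T) := by
  intro hle
  rw [s.core_P] at hle
  obtain ⟨t, ht, htQ⟩ := s.exists_not_mem_Q
  obtain ⟨d, hd, hd3, -⟩ := s.pre.exists_d
  exact s.exists_d_moving ht htQ hd hd3
    (hle (commutator_mem_commutator (mem_sup_left hd) (mem_sup_right ht)))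

theorem card_P : Nat.card ↥(K ⊔ T) = 3 * Nat.card T := by
  have h1 := relIndex_mul_relIndex ⊥ T (K ⊔ T) bot_le le_sup_right
  rw [relIndex_bot_left, relIndex_bot_left, s.relIndex_T] at h1
  rw [← h1, mul_comm]

theorem centralizer_core_P_le :
    centralizer (pCoreOf 2 (K ⊔ T) : Set G) ≤ pCoreOf 2 (K ⊔ T) := by
  rw [s.core_P]; exact s.centralizer_Q_le

/-- With `C_T(W) = Ω₁(Z(J(T))) W`, an element of `N(K)` centralizing `Ω₁(Z(J(T)))` lies in `T`. -/
theorem mem_T_of_centralizes (hZ : T ≤ centralizer (Zof T : Set G))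
    (hQY : Qof T K = Yof T K) {g : G} (hg : g ∈ normalizer (K : Set G))
    (hgZ : g ∈ centralizer (Zof T : Set G)) : g ∈ T := by
  obtain ⟨w, hw, hw1, hz, hfix, -⟩ := s.exists_point
  have hwz : w ∈ Wz T K := hz ▸ mem_zpowers w
  have hgW := normalizer_le_normalizer_wOf K hg
  have hgw : g * w * g⁻¹ = w := mul_inv_eq_iff_eq_mul.2 (hgZ w hwz.1).symm
  have key : ∀ k, k ∈ centralizer (Zof T : Set G) → k ∈ centralizer (wOf K : Set G) → k ∈ T := by
    intro k hk hk'
    refine (s.centralizer_Q_le ?_).1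
    rw [hQY]
    have h1 : Yof T K ≤ centralizer ({k} : Set G) :=
      sup_le (fun y hy => mem_centralizer_singleton_iff.2 (hk y hy))
        (fun y hy => mem_centralizer_singleton_iff.2 (hk' y hy))
    exact fun y hy => mem_centralizer_singleton_iff.1 (h1 hy)
  by_cases hgc : g ∈ centralizer (wOf K : Set G)
  · exact key g hgZ hgc
  obtain ⟨t, ht, htQ⟩ := s.exists_not_mem_Q
  have h1 := key (g * t) (mul_mem hgZ (hZ ht)) (four_mul_mem s.cardW s.sqW hgW
    (s.P_le_normW (mem_sup_right ht)) hw hw1 hgw (hfix t ht) hgc fun e => htQ ⟨ht, e⟩)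
  exact (mul_mem_cancel_right ht).1 h1

end Side

namespace Pair

variable {T : Subgroup G} {K : Bool → Subgroup G} (p : Pair T K)
include p

theorem swap : Pair T (fun b => K (!b)) where
  side := fun b => p.side (!b)
  noCommon := fun R hR h => p.noCommon R hR fun b => by simpa using h (!b)
  big := p.big

variable (h : ¬ wOf (K false) ≤ centralizer (wOf (K true) : Set G))
include h

theorem ncomm_swap : ¬ wOf (K (!false)) ≤ centralizer (wOf (K (!true)) : Set G) :=
  fun e => h (le_centralizer_iff.1 e)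

/-- `N(K) = ⟨K, T⟩`. -/
theorem normalizer_eq (b : Bool) : normalizer (K b : Set G) = K b ⊔ T := by
  set s := p.side b
  refine le_antisymm (fun g hg => ?_) s.P_le_normK
  obtain ⟨w, hw, hw1, hz, -, -⟩ := s.exists_point
  have hwz : w ∈ Wz T (K b) := hz ▸ mem_zpowers w
  have hgW := normalizer_le_normalizer_wOf (K b) hg
  obtain ⟨q, hq, hqw⟩ : ∃ q ∈ K b ⊔ T, q * w * q⁻¹ = g * w * g⁻¹ := by
    obtain ⟨d, hd, hd3, -⟩ := s.pre.exists_d
    exact s.exists_conj_point hwz hw1 ((mem_normalizer_iff.1 hgW w).1 hw)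
      fun e => hw1 (conj_eq_one_iff.1 e)
  have hc : q⁻¹ * g ∈ normalizer (K b : Set G) := mul_mem (inv_mem (s.P_le_normK hq)) hg
  have hcw : q⁻¹ * g * w * (q⁻¹ * g)⁻¹ = w := by
    calc q⁻¹ * g * w * (q⁻¹ * g)⁻¹ = q⁻¹ * (g * w * g⁻¹) * q := by group
      _ = q⁻¹ * (q * w * q⁻¹) * q := by rw [hqw]
      _ = w := by group
  have hcC : q⁻¹ * g ∈ centralizer (Zof T : Set G) := by
    have hle : Zof T ≤ centralizer ({q⁻¹ * g} : Set G) := by
      rw [← s.decompZ]
      refine sup_le (fun x hx => ?_) ?_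
      · rw [mem_centralizer_singleton_iff]
        by_cases hx1 : x = 1
        · subst hx1; group
        -- `q⁻¹ g` normalizes the centralizer of `K` in `C_T(W) = Ω₁(Z(J(T))) W`
        have hgen : zpowers x = Zc T (K b) := eq_of_le_of_card_ge (zpowers_le.2 hx) (by
          rw [Nat.card_zpowers, orderOf_eq_prime ((elemAb_omegaCenterOf _).2 x hx.1) hx1]
          exact p.card_Zc_le b)
        have hZc : Zc T (K b) = Qof T (K b) ⊓ centralizer (K b : Set G) := by
          rw [p.Q_eq_Y h b]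
          refine le_antisymm (inf_le_inf_right _ le_sup_left) fun y hy => ⟨?_, hy.2⟩
          obtain ⟨z, hzc, v, hv, rfl⟩ := CfsgLib.Comp.exists_mul_of_mem_sup
            (s.W_le_centralizerZ.trans ((centralizer_le (SetLike.coe_subset_coe.2 inf_le_left)).trans
              (centralizer_le_normalizer _))) (s.Y_eq.ge hy.1 : y ∈ Zc T (K b) ⊔ wOf (K b))
          have hvK : v ∈ centralizer (K b : Set G) := (mul_mem_cancel_left (mem_inf.1 hzc).2).1 hy.2
          obtain ⟨d, hd, hd3, -⟩ := s.pre.exists_d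
          have hv1 := s.pre.fix_eq_one hd hd3 hv (mul_inv_eq_iff_eq_mul.2 (hvK d hd))
          rw [hv1, mul_one]; exact hzc.1
        have hN : q⁻¹ * g ∈ normalizer (Zc T (K b) : Set G) := by
          rw [hZc]
          refine inf_normalizer_le_normalizer_inf ⟨?_, CfsgLib.Comp.normalizer_le_normalizer_centralizer _ hc⟩
          have hQ : Qof T (K b) = pCoreOf 2 (normalizer (K b : Set G)) := by
            refine le_antisymm ?_ s.core_le_Q
            -- `C_T(W)` is abelian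
            refine le_trans (le_centralizer_iff.1 ?_) s.cen
            refine s.core_le_Q.trans ?_
            rw [p.Q_eq_Y h b]
            exact elemAb_le_centralizer s.elemY
          rw [hQ]
          exact CfsgLib.Amalgam.le_normalizer_pCoreOf _ hc
        rcases mem_zpowers_of_sq (by rw [← pow_two]; exact (elemAb_omegaCenterOf _).2 x hx.1)
          (hgen ▸ (mem_normalizer_iff.1 hN x).1 hx) with e | e
        · exact absurd (conj_eq_one_iff.1 e) hx1
        · exact (mul_inv_eq_iff_eq_mul.1 e).symm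
      · rw [hz, zpowers_le, mem_centralizer_singleton_iff]
        exact (mul_inv_eq_iff_eq_mul.1 hcw).symm
    exact fun z hz => mem_centralizer_singleton_iff.1 (hle hz)
  have h2 := s.mem_T_of_centralizes p.T_centralizes (p.Q_eq_Y h b) hc hcC
  have := mul_mem hq (mem_sup_right h2 : q⁻¹ * g ∈ K b ⊔ T)
  rwa [mul_inv_cancel_left] at this

theorem iso_aux :
    (Nat.card (Zc T (K false)) = 1 → Nonempty (↥(K false ⊔ T) ≃* Equiv.Perm (Fin 4))) ∧
    (Nat.card (Zc T (K false)) = 2 →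
      Nonempty (↥(K false ⊔ T) ≃* Equiv.Perm (Fin 4) × Multiplicative (ZMod 2))) := by
  have hZ := p.T_centralizes
  set s := p.side false
  set P := K false ⊔ T
  set Wg := wOf (K false)
  obtain ⟨v, hv, hvQ, hvT⟩ := p.exists_outer h
  have hv2 : v * v = 1 := (p.side true).sqW v hv
  obtain ⟨d₀, hd₀, hd₀3, -⟩ := s.pre.exists_d
  set y := ⁅v, d₀⁆ with hydef
  have hyK : y ∈ K false :=
    mul_mem ((mem_normalizer_iff.1 (s.T_le_normK hvT) d₀).1 hd₀) (inv_mem hd₀)
  have hyQ : y ∉ pCoreOf 2 (K false) := fun e => s.exists_d_moving hvT hvQ hd₀ hd₀3 (by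
    rw [← commutatorElement_inv]
    exact inv_mem ⟨s.QK_le_T e, s.pre.Q_centralizes_W e⟩)
  have hyinv : v * y * v⁻¹ = y⁻¹ := by
    rw [hydef, commutatorElement_inv, commutatorElement_def, commutatorElement_def,
      inv_eq_of_mul_eq_one_right hv2,
      show v * (v * d₀ * v * d₀⁻¹) * v = (v * v) * d₀ * v * d₀⁻¹ * v by group, hv2, one_mul]
  have : ((pCoreOf 2 (K false)).subgroupOf (K false)).Normal :=
    CfsgLib.Coprime.normal_subgroupOf_of_le_normalizer s.pre.K_le_normQ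
  have hy3 : y ^ 3 ∈ pCoreOf 2 (K false) := by
    have h3 := Subgroup.pow_index_mem ((pCoreOf 2 (K false)).subgroupOf (K false)) ⟨y, hyK⟩
    rw [show ((pCoreOf 2 (K false)).subgroupOf (K false)).index = 3 from s.pre.index,
      mem_subgroupOf] at h3
    simpa using h3
  have hy6 : y ^ 6 = 1 := by
    have h4 : y ^ 3 ∈ Qof T (K false) := ⟨s.QK_le_T hy3, s.pre.Q_centralizes_W hy3⟩
    rw [p.Q_eq_Y h false] at h4
    rw [show 6 = 3 * 2 from rfl, pow_mul]
    exact s.elemY.2 _ h4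
  set d := y ^ 4 with hddef
  have hdK : d ∈ K false := pow_mem hyK 4
  have hd1 : d ≠ 1 := fun e => hyQ (by
    have h1 : y = y ^ 4 * (y ^ 3)⁻¹ := by rw [pow_succ y 3]; group
    rw [h1, show y ^ 4 = 1 from e, one_mul]
    exact inv_mem hy3)
  have : Fact (Nat.Prime 3) := ⟨Nat.prime_three⟩
  have : Fact (Nat.Prime 2) := ⟨Nat.prime_two⟩
  have hd3 : orderOf d = 3 := orderOf_eq_prime
    (by rw [hddef, ← pow_mul, show 4 * 3 = 6 * 2 from rfl, pow_mul, hy6, one_pow]) hd1
  have hdinv : v * d * v⁻¹ = d⁻¹ := by rw [hddef, ← conj_pow, hyinv, inv_pow]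
  have hvn : v ∈ normalizer (zpowers d : Set G) := by
    refine mem_normalizer_of_cj ?_
    rw [cj, MonoidHom.map_zpowers]
    show zpowers (v * d * v⁻¹) = _
    rw [hdinv, zpowers_inv]
  have hvo : orderOf v = 2 :=
    orderOf_eq_prime (by rw [pow_two]; exact hv2) fun e => hvQ (e ▸ one_mem _)
  set H := zpowers d ⊔ zpowers v
  have hvd : v ∉ zpowers d := fun e => by
    have h1 := Subgroup.orderOf_dvd_natCard _ e
    rw [Nat.card_zpowers, hd3, hvo] at h1
    omega
  have hHcard : Nat.card H = 6 := by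
    rw [CfsgLib.Coprime.card_sup_of_inf_eq_bot (zpowers_le.2 hvn) ?_, Nat.card_zpowers,
      Nat.card_zpowers, hd3, hvo]
    refine (Subgroup.eq_bot_iff_forall _).2 fun a ha => ?_
    rcases mem_zpowers_of_sq hv2 ha.1 with e | e
    · exact e
    · exact absurd (e ▸ ha.2) hvd
  obtain ⟨w, hw, hw1, hz, hfix, -⟩ := s.exists_point
  have hwz : w ∈ Wz T (K false) := hz ▸ mem_zpowers w
  have hdP : zpowers d ≤ P := zpowers_le.2 (mem_sup_left hdK)
  have hdT : ∀ a ∈ zpowers d, a ∈ T → a = 1 := fun a ha haT => by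
    refine CfsgLib.Amalgam.eq_one_of_coprime_of_mem s.pT ?_ haT
    have h1 := Subgroup.orderOf_dvd_natCard _ ha
    rw [Nat.card_zpowers, hd3] at h1
    exact Nat.Coprime.coprime_dvd_left h1 (by norm_num)
  have hHC : ∀ x ∈ H, x ∈ centralizer (Wg : Set G) → x = 1 := by
    intro x hx hxc
    obtain ⟨a, ha, b, hb, rfl⟩ := CfsgLib.Comp.exists_mul_of_mem_sup (zpowers_le.2 hvn) hx
    have hab : (a * b) * w * (a * b)⁻¹ = w := mul_inv_eq_iff_eq_mul.2 (hxc w hw).symm
    have hbT : b ∈ T := zpowers_le.2 hvT hb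
    have haT : a ∈ T := s.mem_T_of_fix hwz hw1 (hdP ha) (by
      calc a * w * a⁻¹ = a * (b * w * b⁻¹) * a⁻¹ := by rw [hfix b hbT]
        _ = (a * b) * w * (a * b)⁻¹ := by group
        _ = w := hab)
    have ha1 := hdT a ha haT
    subst ha1
    rw [one_mul] at hxc ⊢
    rcases mem_zpowers_of_sq hv2 hb with e | e
    · exact e
    · exact absurd (show v ∈ Qof T (K false) from ⟨hvT, e ▸ hxc⟩) hvQ
  have hHP : H ≤ P := sup_le hdP (zpowers_le.2 (mem_sup_right hvT))
  have hWC : Wg ≤ centralizer (Wg : Set G) := elemAb_le_centralizer s.pre.elemW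
  have hWH : H ⊓ Wg = ⊥ := (Subgroup.eq_bot_iff_forall _).2 fun x hx => hHC x hx.1 (hWC hx.2)
  set B := Wg ⊔ H
  have hBcard : Nat.card B = 24 := by
    rw [CfsgLib.Coprime.card_sup_of_inf_eq_bot (hHP.trans s.P_le_normW) hWH, hHcard, s.cardW]
  set H' := H.subgroupOf B
  have hcore : H'.normalCore = ⊥ := by
    refine (Subgroup.eq_bot_iff_forall _).2 fun x hx => ?_
    have hxH : (x : G) ∈ H := mem_subgroupOf.1 (H'.normalCore_le hx)
    refine Subtype.ext (hHC x hxH fun u hu => ?_)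
    have h1 : u * (x : G) * u⁻¹ ∈ H :=
      mem_subgroupOf.1 (H'.normalCore_le (H'.normalCore_normal.conj_mem x hx ⟨u, mem_sup_left hu⟩))
    have h2 : u * (x : G) * u⁻¹ * (x : G)⁻¹ ∈ H ⊓ Wg := mem_inf.2 ⟨mul_mem h1 (inv_mem hxH), by
      rw [show u * (x : G) * u⁻¹ * (x : G)⁻¹ = u * ((x : G) * u⁻¹ * (x : G)⁻¹) by group]
      exact mul_mem hu ((mem_normalizer_iff.1 (s.P_le_normW (hHP hxH)) _).1 (inv_mem hu))⟩
    rw [hWH, mem_bot] at h2
    exact mul_inv_eq_iff_eq_mul.1 (mul_inv_eq_one.1 h2)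
  have hindex : H'.index = 4 := by
    have h1 := H'.card_mul_index
    rw [show Nat.card H' = 6 by
      rw [Nat.card_congr (subgroupOfEquivOfLe (le_sup_right : H ≤ B)).toEquiv, hHcard], hBcard] at h1
    omega
  let φ := MulAction.toPermHom B (B ⧸ H')
  have hφ : Function.Injective φ := by
    rw [← MonoidHom.ker_eq_bot_iff, ← normalCore_eq_ker]; exact hcore
  have hq4 : Nat.card (B ⧸ H') = 4 := hindex
  have hφb : Function.Bijective φ := hφ.bijective_of_nat_card_le (by
    rw [Nat.card_perm, hq4, hBcard]; decide)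
  let eB : B ≃* Equiv.Perm (Fin 4) :=
    (MulEquiv.ofBijective φ hφb).trans (Equiv.permCongrHom (Finite.equivFinOfCardEq hq4))
  have hBP : B ≤ P := sup_le (s.pre.W_le_K.trans le_sup_left) hHP
  have hPcard : Nat.card P = 24 * Nat.card (Zc T (K false)) := by
    rw [s.card_P, p.card_T h, s.card_Z]; ring
  refine ⟨fun h1 => ?_, fun h2 => ?_⟩
  · have hBeq : B = P := eq_of_le_of_card_ge hBP (by rw [hPcard, h1, hBcard])
    exact ⟨(MulEquiv.subgroupCongr hBeq.symm).trans eB⟩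
  set Z₁ := Zc T (K false)
  have hPc : P ≤ centralizer (Z₁ : Set G) :=
    sup_le (le_centralizer_iff.1 inf_le_right)
      (hZ.trans (centralizer_le (SetLike.coe_subset_coe.2 inf_le_left)))
  have hinf : ∀ b ∈ B, b ∈ Z₁ → b = 1 := by
    intro b hb hbZ
    obtain ⟨u, hu, x, hx, rfl⟩ := CfsgLib.Comp.exists_mul_of_mem_sup (hHP.trans s.P_le_normW) hb
    have hxc : x ∈ centralizer (Wg : Set G) := by
      refine (mul_mem_cancel_left (hWC hu)).1 ?_
      exact le_centralizer_iff.1 (s.W_le_centralizerZ) (inf_le_left (a := Zof T) hbZ)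
    have hx1 := hHC x hx hxc
    subst hx1
    rw [mul_one] at hbZ ⊢
    have : u ∈ Zc T (K false) ⊓ Wg := ⟨hbZ, hu⟩
    rw [s.inf_Zc_W] at this
    exact mem_bot.1 this
  have hcomm : ∀ b ∈ B, ∀ z ∈ Z₁, b * z = z * b := fun b hb z hz' => (hPc (hBP hb) z hz').symm
  have hZP : Z₁ ≤ P := inf_le_left.trans (s.Z_le_T.trans le_sup_right)
  let f : B × Z₁ →* P :=
    MonoidHom.mk' (fun x => ⟨(x.1 : G) * (x.2 : G), mul_mem (hBP x.1.2) (hZP x.2.2)⟩)
      fun a b => Subtype.ext (by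
        show (a.1 : G) * b.1 * ((a.2 : G) * b.2) = (a.1 : G) * a.2 * ((b.1 : G) * b.2)
        rw [mul_assoc (a.1 : G), ← mul_assoc (b.1 : G), hcomm _ b.1.2 _ a.2.2, mul_assoc,
          mul_assoc (a.1 : G)])
  have hf : Function.Injective f := by
    rw [← MonoidHom.ker_eq_bot_iff]
    refine (Subgroup.eq_bot_iff_forall _).2 fun x hx => ?_
    have e : (x.1 : G) * (x.2 : G) = 1 := congrArg Subtype.val (MonoidHom.mem_ker.1 hx)
    have h1 : (x.1 : G) = 1 := hinf _ x.1.2 (by rw [eq_inv_of_mul_eq_one_left e]; exact inv_mem x.2.2)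
    rw [h1, one_mul] at e
    exact Prod.ext (Subtype.ext h1) (Subtype.ext e)
  have hfb : Function.Bijective f := hf.bijective_of_nat_card_le (by
    rw [Nat.card_prod, hPcard, hBcard])
  exact ⟨(MulEquiv.ofBijective f hfb).symm.trans (eB.prodCongr
    (mulEquivOfPrimeCardEq (p := 2) h2 (by simp)))⟩

theorem iso (b : Bool) :
    (Nat.card (Zc T (K b)) = 1 → Nonempty (↥(K b ⊔ T) ≃* Equiv.Perm (Fin 4))) ∧
    (Nat.card (Zc T (K b)) = 2 →
      Nonempty (↥(K b ⊔ T) ≃* Equiv.Perm (Fin 4) × Multiplicative (ZMod 2))) := by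
  cases b
  · exact p.iso_aux h
  · exact p.swap.iso_aux (p.ncomm_swap h)

end Pair

end CfsgLib.ClassK.ZN
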