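import Cfsg.Agent.Lib.ClassK.ZNUnique
import Cfsg.Agent.Lib.ClassK.ZNShape

/-!
The two-component amalgam of a maximal straddling subgroup.
-/

set_option autoImplicit false
set_option linter.unusedSectionVars false

namespace CfsgLib.ClassK.ZN

open Cfsg Subgroup CfsgLib.PLocal
open scoped commutatorElement

universe u

variable {G : Type u} [Group G] [Finite G]

/-- An amalgam of two components over `T`, with the uniqueness of their maximal `2`-locals. -/
structure Duo (T : Subgroup G) (K : Bool → Subgroup G) : Prop where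
  pair : Pair T K
  ncomm : ¬ wOf (K false) ≤ centralizer (wOf (K true) : Set G)
  ne : normalizer (K false : Set G) ≠ normalizer (K true : Set G)
  max : ∀ b, IsMaximalTwoLocal (normalizer (K b : Set G)) ∧
    ∀ L' : Subgroup G, IsMaximalTwoLocal L' → K b ⊔ thompsonSubgroupOf 2 T ≤ L' →
      L' = normalizer (K b : Set G)
  Zbot : ∀ b, ⁅omegaCenterOf T, K b ⊔ T⁆ ≠ ⊥

theorem normalizer_le_centralizer_of_card_two {A : Subgroup G} (hA : Nat.card A = 2) :
    normalizer (A : Set G) ≤ centralizer (A : Set G) := by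
  intro g hg a ha
  by_cases ha1 : a = 1
  · subst ha1; simp
  have hsq : a * a = 1 := by
    have h1 := Subgroup.orderOf_dvd_natCard A ha
    rw [hA] at h1
    rw [← pow_two]
    exact orderOf_dvd_iff_pow_eq_one.1 h1
  have h1 : zpowers a = A := eq_of_le_of_card_ge (zpowers_le.2 ha) (by
    rw [hA, Nat.card_zpowers, orderOf_eq_prime (by rw [pow_two]; exact hsq) ha1])
  have h2 : g * a * g⁻¹ ∈ zpowers a := by rw [h1]; exact (mem_normalizer_iff.1 hg a).1 ha
  rcases mem_zpowers_of_sq hsq h2 with e | e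
  · exact absurd (conj_eq_one_iff.1 e) ha1
  · exact (mul_inv_eq_iff_eq_mul.1 e).symm

namespace World

variable {T Z : Subgroup G} {p : Subgroup G → Prop} (W : World T p Z)
include W

theorem mk_duo {K₁ K₂ : Subgroup G} (hns : NoShare T p) (h₁ : Mem T p K₁) (h₂ : Mem T p K₂)
    (hne : K₁ ≠ K₂) (P : Pair T (fun b => if b then K₂ else K₁))
    (hnc : ¬ wOf K₁ ≤ centralizer (wOf K₂ : Set G)) :
    Duo T (fun b => if b then K₂ else K₁) where
  pair := P
  ncomm := hnc
  ne := fun e => hne (hns _ _ h₁ h₂ ⟨_, W.isTwoLocal_normalizer h₁, le_normalizer,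
    le_normalizer.trans e.ge, (pre_of_isJComponent W.pT h₁.1).J_le_normK⟩)
  max := fun b => by
    cases b
    exacts [W.isMaximal hns h₁, W.isMaximal hns h₂]
  Zbot := fun b hb => by
    have hm : Mem T p ((fun b => if b then K₂ else K₁) b) := by cases b <;> assumption
    rw [commutator_eq_bot_iff_le_centralizer] at hb
    refine W.Z_not _ hm.1 hm.2 ?_
    refine le_centralizer_iff.1 (((le_omegaCenterOf (elemAb_mono (elemAb_omegaCenterOf _) W.Z_le)
      ((W.Z_le.trans (omegaCenterOf_le _)).trans (thompsonOf_le T))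
      (le_centralizer_iff.1 W.T_cen)).trans hb).trans ?_)
    exact centralizer_le (SetLike.coe_subset_coe.2 le_sup_left)

end World

namespace Setup

variable {S : Sylow 2 G} {M : Subgroup G} (c : Setup G S M)
include c

theorem duo_of_eq (hT : (S : Subgroup G) ∈ maxStraddlingTwoSubgroups M) :
    ∃ K, Duo (S : Subgroup G) K := by
  have hS1 : (S : Subgroup G) ≠ ⊥ := c.T_ne_bot hT
  have W := c.world_all hS1
  have hns := c.noShare_all hT
  obtain ⟨K, ⟨hK, -⟩, hKc⟩ := c.exists_mem_out hT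
  have hm : Mem (S : Subgroup G) allP K := ⟨hK, trivial⟩
  have hTK := W.T_le_normalizer_of_core hns hm hKc
  have s := W.side hm hTK
  obtain ⟨K₂, hm₂, hne⟩ : ∃ K₂, Mem (S : Subgroup G) allP K₂ ∧ K₂ ≠ K := by
    by_contra! hcon
    refine c.not_allShare_all hT fun A B hA hB => ?_
    rw [hcon A hA, hcon B hB]
    exact ⟨_, W.isTwoLocal_normalizer hm, le_normalizer, le_normalizer,
      (pre_of_isJComponent W.pT hK).J_le_normK⟩
  have hc2 := W.Zc_card_le_two (c.not_allShare_all hT) hm
  have hZT := s.card_Zc_le_two_centralizes hc2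
  have hTK₂ : (S : Subgroup G) ≤ normalizer (K₂ : Set G) := by
    by_cases hc : Nat.card (Zc (S : Subgroup G) K) = 2
    · exact W.T_le_normalizer hZT hm₂ (by rw [W.card_Zc_eq hm₂ hm]; exact hc)
    -- `|Ω₁(Z(J(S)))| = 2`
    have hc1 : Nat.card (Zc (S : Subgroup G) K) = 1 := by
      have : 0 < Nat.card (Zc (S : Subgroup G) K) := Nat.card_pos
      omega
    have hZ2 : Nat.card (Zof (S : Subgroup G)) = 2 := by
      have h1 : Nat.card (Zof (S : Subgroup G)) = 2 * Nat.card (Zc (S : Subgroup G) K) := s.card_Z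
      omega
    have hZeq : omegaCenterOf (S : Subgroup G) = Zof (S : Subgroup G) := by
      refine le_antisymm W.Z_le (le_omegaCenterOf (elemAb_omegaCenterOf _) s.Z_le_T
        (le_centralizer_iff.1 hZT))
    have hNJ : normalizer (thompsonSubgroupOf 2 (S : Subgroup G) : Set G) ≤
        normalizer ((S : Subgroup G) : Set G) := by
      refine le_trans ?_ (c.cen S)
      rw [hZeq]
      exact (normalizer_le_normalizer_omegaCenterOf _).trans
        (normalizer_le_centralizer_of_card_two hZ2)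
    by_contra hnot
    have hc₂ := pre_of_isJComponent W.pT hm₂.1
    obtain ⟨T₂, hT₂, hJT₂⟩ := exists_isSylowTwoIn hc₂.pJ hc₂.J_le_normK
    have hJ : thompsonSubgroupOf 2 T₂ = thompsonSubgroupOf 2 (S : Subgroup G) :=
      W.thompson _ (W.isTwoLocal_normalizer hm₂) K₂ hm₂.1 hm₂.2 le_normalizer T₂ hJT₂ hT₂
    have hT₂S : T₂ ≤ (S : Subgroup G) := le_sylow_of_le_normalizer S hT₂.2.1 (by
      refine le_trans ?_ hNJ
      rw [← hJ]
      exact le_normalizer.trans (normalizer_le_normalizer_thompsonOf T₂))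
    have hlt : T₂ < (S : Subgroup G) := lt_of_le_of_ne hT₂S fun e => hnot (e ▸ hT₂.1)
    obtain ⟨x, hx, hxT⟩ := SetLike.exists_of_lt (lt_inf_normalizer_of_lt S.isPGroup' hlt)
    have hxJ : x ∈ normalizer (thompsonSubgroupOf 2 (S : Subgroup G) : Set G) :=
      normalizer_le_normalizer_thompsonOf _ (le_normalizer hx.1)
    have hm₃ := W.mem_cj_of hxJ hm₂
    have hne₃ : K₂ ≠ cj x K₂ := fun e => hxT (by
      have h1 := sylowTwoIn_eq hT₂ (S.isPGroup'.to_le (sup_le hT₂S (zpowers_le.2 hx.1)))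
        le_sup_left (sup_le hT₂.1 (zpowers_le.2 (mem_normalizer_of_cj e.symm)))
      exact h1 ▸ mem_sup_right (mem_zpowers x))
    have hT₃ : IsSylowTwoIn T₂ (normalizer (cj x K₂ : Set G)) := by
      have h1 := isSylowTwoIn_cj (g := x) hT₂
      rwa [cj_eq_self hx.2, cj_normalizer] at h1
    have hcen : ∀ A, Mem (S : Subgroup G) allP A →
        centralizer (pCoreOf 2 (normalizer (A : Set G)) : Set G) ≤
          pCoreOf 2 (normalizer (A : Set G)) := fun A hA => by
      rw [W.normalizer_eq hA]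
      exact centralizer_core_le W.char2 (elemAb_isPGroup (pre_of_isJComponent W.pT hA.1).elemW)
        (Comp.W_ne_bot W.pT hA.1)
    have hZ₂ : Zof T₂ = Zof (S : Subgroup G) := by
      show omegaCenterOf _ = omegaCenterOf _
      rw [hJ]
    have s₂ : Side T₂ K₂ :=
      ⟨hT₂.2.1, isJComponent_congr hJ hm₂.1, (W.normalizer_eq hm₂).ge, hT₂, hcen _ hm₂⟩
    have s₃ : Side T₂ (cj x K₂) :=
      ⟨hT₂.2.1, isJComponent_congr hJ hm₃.1, (W.normalizer_eq hm₃).ge, hT₃, hcen _ hm₃⟩
    have P : Pair T₂ (fun b => if b then cj x K₂ else K₂) :=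
      { side := fun b => by cases b <;> simpa
        noCommon := fun R hR h => by
          by_contra hR1
          have h1 : K₂ ⊔ T₂ ≤ normalizer (R : Set G) := h false
          have h2 : cj x K₂ ⊔ T₂ ≤ normalizer (R : Set G) := h true
          exact hne₃ (hns _ _ hm₂ hm₃ ⟨_, ⟨R, hR, hR1, rfl⟩, le_sup_left.trans h1,
            le_sup_left.trans h2, hJT₂.trans (le_sup_right.trans h1)⟩)
        big := by rw [hZ₂]; exact W.big_Zof }
    have hcard1 : ∀ b : Bool, Nat.card (Zc T₂ (if b then cj x K₂ else K₂)) = 1 := fun b => by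
      have h1 : Nat.card (Zof T₂) = 2 * Nat.card (Zc T₂ (if b then cj x K₂ else K₂)) :=
        (P.side b).card_Z
      rw [hZ₂, hZ2] at h1
      omega
    have hncomm : ¬ wOf K₂ ≤ centralizer (wOf (cj x K₂) : Set G) := by
      have key := P.not_commute
      simp only [Bool.false_eq_true, if_false, if_true] at key
      refine key fun i j hb => absurd hb fun hb => ?_
      have h1 : Nat.card (Wz T₂ (if (!i) then cj x K₂ else K₂)) ≤
          Nat.card (Zc T₂ (if i then cj x K₂ else K₂)) := card_le_of_le (le_inf inf_le_left hb)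
      rw [(P.side (!i)).card_Wz] at h1
      have h2 := hcard1 i
      omega
    have hWT : wOf K ≤ T₂ := (Comp.W_le_J W.pT hK).trans hJT₂
    have hYW : ∀ b : Bool, Yof T₂ (if b then cj x K₂ else K₂) = wOf (if b then cj x K₂ else K₂) := fun b =>
      (eq_of_le_of_card_ge le_sup_right (by
        rw [(P.side b).card_Y, hcard1 b, (P.side b).cardW])).symm
    have hWK : normalizer (K : Set G) = normalizer (K₂ : Set G) ∨
        normalizer (K : Set G) = normalizer (cj x K₂ : Set G) := by
      rcases P.elem_le hncomm s.pre.elemW hWT with h | h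
      · left
        rw [W.normalizer_eq hm, W.normalizer_eq hm₂]
        rw [hYW false] at h
        have e : wOf K = wOf K₂ := eq_of_le_of_card_ge h (by
          rw [s₂.cardW, s.cardW])
        rw [e]
      · right
        rw [W.normalizer_eq hm, W.normalizer_eq hm₃]
        rw [hYW true] at h
        have e : wOf K = wOf (cj x K₂) := eq_of_le_of_card_ge h (by
          rw [s₃.cardW, s.cardW])
        rw [e]
    rcases hWK with e | e
    · exact hnot (e ▸ hTK)
    · refine hnot ?_
      have h1 : cj x⁻¹ (S : Subgroup G) ≤ cj x⁻¹ (normalizer (cj x K₂ : Set G)) :=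
        cj_mono (e ▸ hTK)
      rwa [cj_normalizer, cj_inv_cj, cj_eq_self (inv_mem (le_normalizer hx.1))] at h1
  have hnsh : ¬ Share (S : Subgroup G) K K₂ := fun e => hne (hns _ _ hm hm₂ e).symm
  have P := W.pair hnsh s (W.side hm₂ hTK₂)
  refine ⟨_, W.mk_duo hns hm hm₂ (Ne.symm hne) P ?_⟩
  have key := W.not_commute_pair (K := fun b => if b then K₂ else K)
    (fun b => by cases b <;> simpa) P hns
  simp only [Bool.false_eq_true, if_false, if_true] at key
  refine key fun i _ => ?_
  set A := if i then K₂ else K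
  have hA : Mem (S : Subgroup G) allP A := by cases i <;> assumption
  obtain ⟨hwA, -, -, -⟩ := W.exists_point hA
  set N := normalizer (Wz (S : Subgroup G) A : Set G)
  have hTN : (S : Subgroup G) ≤ N := hZT.trans
    ((centralizer_le (SetLike.coe_subset_coe.2 inf_le_left)).trans (centralizer_le_normalizer _))
  have hNl : IsTwoLocal N :=
    ⟨_, (elemAb_isPGroup (elemAb_omegaCenterOf _)).to_le inf_le_left,
      fun e => by
        have h : Nat.card ↥(Zof (S : Subgroup G) ⊓ wOf A) = 2 := hwA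
        rw [e, Subgroup.card_bot] at h; omega, rfl⟩
  by_cases hex : ∃ B, Mem (S : Subgroup G) allP B ∧ B ≤ N
  · obtain ⟨B, hB, hBN⟩ := hex
    exact Or.inl ⟨B, hB, le_centralizer_iff.1 (hBN.trans (normalizer_le_centralizer_of_card_two hwA))⟩
  refine Or.inr ⟨?_, isSylowTwoIn_sylowG S hTN⟩
  by_contra hnle
  have hJO : ¬ thompsonSubgroupOf 2 (S : Subgroup G) ≤ pCoreOf 2 N := fun hle => hnle (by
    have h1 : thompsonSubgroupOf 2 (pCoreOf 2 N) = thompsonSubgroupOf 2 (S : Subgroup G) :=
      thompsonOf_eq_of_le hle (le_sylowTwoIn_core (isSylowTwoIn_sylowG S hTN))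
    rw [← h1]
    exact (CfsgLib.Amalgam.le_normalizer_pCoreOf N).trans (normalizer_le_normalizer_thompsonOf _))
  have hcenN : centralizer (pCoreOf 2 N : Set G) ≤ pCoreOf 2 N := by
    obtain ⟨R, hR, hR1, hNR⟩ := hNl
    rw [hNR]; exact centralizer_core_le W.char2 hR hR1
  have ho : Over (S : Subgroup G) N :=
    over_of_zn W.sol W.cen ⟨isSylowTwoIn_sylowG S hTN, hJO, hcenN⟩ hS1
  obtain ⟨ι, -, ⟨j⟩, Q, a, d, hf⟩ := ho.exists_frame
  obtain ⟨B, hB, hBN, -⟩ := hf.exists_component ho j
  exact hex ⟨B, ⟨hB, trivial⟩, hBN⟩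

theorem duo_of_lt {T : Subgroup G} (hT : T ∈ maxStraddlingTwoSubgroups M)
    (hlt : T < (S : Subgroup G)) : ∃ K, Duo T K := by
  have W := c.world_out hT hlt.le
  have hns := c.noShare_out_of_lt hT hlt
  obtain ⟨K, hK, hKc⟩ := c.exists_mem_out hT
  obtain ⟨x, q⟩ := exists_ltPair c hT hlt hK (W.T_le_normalizer_of_core hns hK hKc)
  exact ⟨_, W.mk_duo hns hK q.mem₂ q.ne.symm q.pair q.ncomm⟩

theorem exists_duo {T : Subgroup G} (hT : T ∈ maxStraddlingTwoSubgroups M) : ∃ K, Duo T K := by
  obtain ⟨S', c', hTS, -⟩ := c.exists_setup (c.pT hT) (c.T_le_M hT)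
  rcases eq_or_lt_of_le hTS with rfl | hlt
  · exact c'.duo_of_eq hT
  · exact c'.duo_of_lt hT hlt

theorem center_cases {T K : Subgroup G} (hT : T ∈ maxStraddlingTwoSubgroups M)
    (hTS : T ≤ (S : Subgroup G)) (hK : K ∈ jComponentsOutside M T) :
    Zof T ⊓ wOf K ≠ ⊥ ∧
      ((omegaCenterOf (S : Subgroup G) = Zof T ∧ Nat.card (Zof T) = 2) ∨
        (omegaCenterOf (S : Subgroup G) = Zof T ∧ Nat.card (Zof T) = 4 ∧ T = (S : Subgroup G)) ∨
        (omegaCenterOf T = Zof T ∧ Nat.card (Zof T) = 4 ∧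
          (normalizer (K : Set G) ⊓ centralizer (Zof T : Set G)).relIndex
            (normalizer (Zof T : Set G)) = 2)) := by
  have W := c.world_out hT hTS
  have hns := c.noShare_out hT hTS
  have hm : Mem T (outP M) K := ⟨hK.1.1, hK.2.1⟩
  have hTK := W.T_le_normalizer_of_core hns hm hK.2.2
  have s := W.side hm hTK
  refine ⟨fun e => by
    have h : Nat.card ↥(Zof T ⊓ wOf K) = 2 := (W.exists_point hm).1
    rw [e, Subgroup.card_bot] at h; omega, ?_⟩
  rcases eq_or_lt_of_le hTS with heq | hlt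
  · subst heq
    have hc2 := (c.world_all (c.T_ne_bot hT)).Zc_card_le_two (c.not_allShare_all hT)
      (K := K) ⟨hm.1, trivial⟩
    have hZT := s.card_Zc_le_two_centralizes hc2
    have hZeq : omegaCenterOf (S : Subgroup G) = Zof (S : Subgroup G) :=
      le_antisymm W.Z_le (le_omegaCenterOf (elemAb_omegaCenterOf _) s.Z_le_T
        (le_centralizer_iff.1 hZT))
    have h1 : Nat.card (Zof (S : Subgroup G)) = 2 * Nat.card (Zc (S : Subgroup G) K) := s.card_Z
    have h2 : 0 < Nat.card (Zc (S : Subgroup G) K) := Nat.card_pos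
    rcases (show Nat.card (Zc (S : Subgroup G) K) = 1 ∨ Nat.card (Zc (S : Subgroup G) K) = 2 by omega)
      with e | e
    · exact Or.inl ⟨hZeq, by omega⟩
    · exact Or.inr (Or.inl ⟨hZeq, by omega, rfl⟩)
  obtain ⟨x, q⟩ := exists_ltPair c hT hlt hm hTK
  have P := q.pair
  have hZT : T ≤ centralizer (Zof T : Set G) := P.T_centralizes
  have hc2 : Nat.card (Zc T K) ≤ 2 := P.card_Zc_le false
  have h1 : Nat.card (Zof T) = 2 * Nat.card (Zc T K) := s.card_Z
  have h2 : 0 < Nat.card (Zc T K) := Nat.card_pos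
  obtain ⟨⟨z, hz⟩, hz1⟩ := Subgroup.ne_bot_iff_exists_ne_one.1 W.Z_ne
  replace hz1 : z ≠ 1 := fun e => hz1 (Subtype.ext e)
  rcases (show Nat.card (Zc T K) = 1 ∨ Nat.card (Zc T K) = 2 by omega) with hc | hc
  · refine Or.inl ⟨eq_of_le_of_card_ge W.Z_le ?_, by omega⟩
    rw [show Nat.card (Zof T) = 2 by omega]
    have h3 := card_le_of_le (zpowers_le.2 hz : zpowers z ≤ omegaCenterOf (S : Subgroup G))
    rwa [Nat.card_zpowers, orderOf_eq_prime ((elemAb_omegaCenterOf _).2 z hz) hz1] at h3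
  refine Or.inr (Or.inr ⟨le_antisymm (omegaCenter_le_Zof le_rfl (omegaCenterOf_le _))
    (le_omegaCenterOf (elemAb_omegaCenterOf _) s.Z_le_T (le_centralizer_iff.1 hZT)), by omega, ?_⟩)
  have hZ4 : Nat.card (Zof T) = 4 := by omega
  have hC := q.centralizer_inf_le c hT hlt hc
  have hsq : ∀ y ∈ Zof T, y * y = 1 := fun y hy => by
    rw [← pow_two]; exact (elemAb_omegaCenterOf _).2 y hy
  -- `C(Ω₁(Z(J(T)))) = T`
  set B := centralizer (Zof T : Set G)
  have hBS : B ≤ normalizer ((S : Subgroup G) : Set G) :=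
    (centralizer_le (SetLike.coe_subset_coe.2 W.Z_le)).trans (c.cen S)
  have hBT : B = T := by
    refine le_antisymm (fun g hg => ?_) hZT
    have hgT : g ∈ normalizer (T : Set G) := by
      have hSB : (S : Subgroup G) ⊓ B = T := le_antisymm hC (le_inf hlt.le hZT)
      refine mem_normalizer_of_cj ?_
      conv_lhs => rw [← hSB]
      rw [cj_inf, cj_eq_self (hBS hg), cj_eq_self (le_normalizer hg), hSB]
    have hgJ := normalizer_le_normalizer_thompsonOf (p := 2) T hgT
    have hgK : g ∈ normalizer (K : Set G) := by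
      refine mem_normalizer_of_cj (W.eq_of_Zc_eq (W.mem_cj_of hgJ hm) hm ?_ ?_)
      · rw [← W.cj_Zc hgJ, card_cj]; exact hc
      · rw [← W.cj_Zc hgJ]
        exact cj_eq_self (centralizer_le_normalizer _
          (centralizer_le (SetLike.coe_subset_coe.2 inf_le_left) hg))
    exact s.mem_T_of_centralizes hZT (P.Q_eq_Y q.ncomm false) hgK hg
  -- the points
  have hxJ := q.x_normJ c hT hlt
  have hxN : x ∈ normalizer (Zof T : Set G) := normalizer_le_normalizer_omegaCenterOf _ hxJ
  have hxB : x ∉ B := fun e => q.x_not (hBT ▸ e)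
  obtain ⟨w, hw, hw1, hwz, -, -⟩ := s.exists_point
  have hwZ : w ∈ Wz T K := hwz ▸ mem_zpowers w
  have hxw : x * w * x⁻¹ = w := q.point_fix c hT hlt w hwZ
  obtain ⟨⟨a, ha⟩, ha1⟩ := Subgroup.ne_bot_iff_exists_ne_one.1
    (fun e => by
      have h := hc
      rw [e, Subgroup.card_bot] at h; omega : Zc T K ≠ ⊥)
  replace ha1 : a ≠ 1 := fun e => ha1 (Subtype.ext e)
  have haw : a ≠ w := fun e => hw1 (by
    have h : w ∈ Zc T K ⊓ wOf K := ⟨e ▸ ha, hw⟩
    rw [s.inf_Zc_W] at h
    exact mem_bot.1 h)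
  -- `Z` is the point
  have hzw : z = w := by
    by_contra hne
    exact hxB (mem_centralizer_four hZ4 hsq hwZ.1 (W.Z_le hz) hw1 hz1 (Ne.symm hne) hxw
      (mul_inv_eq_iff_eq_mul.2 ((sylow_le_centralizer_Z S q.x_mem) z hz).symm))
  have hZw : omegaCenterOf (S : Subgroup G) ≤ zpowers w := fun y hy => by
    by_cases hy1 : y = 1
    · subst hy1; exact one_mem _
    by_contra hyw
    exact hxB (mem_centralizer_four hZ4 hsq hwZ.1 (W.Z_le hy) hw1 hy1
      (fun e => hyw (e ▸ mem_zpowers w)) hxw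
      (mul_inv_eq_iff_eq_mul.2 ((sylow_le_centralizer_Z S q.x_mem) y hy).symm))
  -- no element of `N(Ω₁(Z(J(T))))` moves the point
  have hgw : ∀ g ∈ normalizer (Zof T : Set G), g * w * g⁻¹ = w := by
    intro g hg
    have hgT : g ∈ normalizer (T : Set G) := by
      rw [← hBT]
      exact CfsgLib.Comp.normalizer_le_normalizer_centralizer _ hg
    have hgJ := normalizer_le_normalizer_thompsonOf (p := 2) T hgT
    have hmove : ∀ A, Mem T (outP M) A → ∀ y ∈ Zc T A, g * y * g⁻¹ ≠ w := by
      intro A hA y hy e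
      have h3 := W.mem_cj_of hgJ hA
      refine W.Z_not _ h3.1 h3.2 (le_centralizer_iff.1 (hZw.trans ?_))
      rw [zpowers_le, ← e]
      have h4 : g * y * g⁻¹ ∈ Zc T (cj g A) := W.cj_Zc hgJ A ▸ conj_mem_cj hy
      exact h4.2
    have hb : x * a * x⁻¹ ∈ Zc T (cj x K) := W.cj_Zc hxJ K ▸ conj_mem_cj ha
    have hb1 : x * a * x⁻¹ ≠ 1 := fun e => ha1 (conj_eq_one_iff.1 e)
    have hbw : x * a * x⁻¹ ≠ w := fun e => haw (by
      calc a = x⁻¹ * (x * a * x⁻¹) * x := by group
        _ = x⁻¹ * (x * w * x⁻¹) * x := by rw [e, hxw]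
        _ = w := by group)
    have hba : x * a * x⁻¹ ≠ a := fun e =>
      hxB (mem_centralizer_four hZ4 hsq hwZ.1 ha.1 hw1 ha1 (Ne.symm haw) hxw e)
    have hga := (mem_normalizer_iff.1 hg a).1 ha.1
    have hgb := (mem_normalizer_iff.1 hg _).1 hb.1
    have hab : a * (x * a * x⁻¹) = w := by
      rcases four_cases hZ4 hsq ha.1 hb.1 ha1 hb1 (Ne.symm hba) hwZ.1 with e | e | e | e
      · exact absurd e hw1
      · exact absurd e.symm haw
      · exact absurd e.symm hbw
      · exact e.symm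
    rcases four_cases hZ4 hsq ha.1 hb.1 ha1 hb1 (Ne.symm hba)
      ((mem_normalizer_iff.1 hg w).1 hwZ.1) with e | e | e | e
    · exact absurd (conj_eq_one_iff.1 e) hw1
    · exfalso
      -- then one of the two others goes to `w`
      rcases four_cases hZ4 hsq ha.1 hb.1 ha1 hb1 (Ne.symm hba) hga with e' | e' | e' | e'
      · exact ha1 (conj_eq_one_iff.1 e')
      · exact haw (mul_left_cancel (mul_right_cancel (e'.trans e.symm)))
      · rcases four_cases hZ4 hsq ha.1 hb.1 ha1 hb1 (Ne.symm hba) hgb with e'' | e'' | e'' | e''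
        · exact hb1 (conj_eq_one_iff.1 e'')
        · exact hbw (mul_left_cancel (mul_right_cancel (e''.trans e.symm)))
        · exact hba (mul_left_cancel (mul_right_cancel (e''.trans e'.symm)))
        · exact hmove _ q.mem₂ _ hb (e''.trans hab)
      · exact hmove _ hm _ ha (e'.trans hab)
    · exfalso
      rcases four_cases hZ4 hsq ha.1 hb.1 ha1 hb1 (Ne.symm hba) hga with e' | e' | e' | e'
      · exact ha1 (conj_eq_one_iff.1 e')
      · rcases four_cases hZ4 hsq ha.1 hb.1 ha1 hb1 (Ne.symm hba) hgb with e'' | e'' | e'' | e''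
        · exact hb1 (conj_eq_one_iff.1 e'')
        · exact hba (mul_left_cancel (mul_right_cancel (e''.trans e'.symm)))
        · exact hbw (mul_left_cancel (mul_right_cancel (e''.trans e.symm)))
        · exact hmove _ q.mem₂ _ hb (e''.trans hab)
      · exact haw (mul_left_cancel (mul_right_cancel (e'.trans e.symm)))
      · exact hmove _ hm _ ha (e'.trans hab)
    · exact e.trans hab
  have hLB : normalizer (K : Set G) ⊓ B = B := inf_eq_right.2 (by rw [hBT]; exact hTK)
  rw [hLB, relIndex, index_eq_two_iff]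
  refine ⟨⟨x, hxN⟩, fun g => ?_⟩
  simp only [mem_subgroupOf, Subgroup.coe_mul]
  by_cases hgB : (g : G) ∈ B
  · exact Or.inr ⟨hgB, fun e => hxB ((mul_mem_cancel_left hgB).1 e)⟩
  · exact Or.inl ⟨four_mul_mem hZ4 hsq g.2 hxN hwZ.1 hw1 (hgw g g.2) hxw hgB hxB, fun e => hgB e⟩

end Setup

end CfsgLib.ClassK.ZN
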