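import Cfsg.Agent.Lib.Transfer.Thompson
import Mathlib.GroupTheory.PGroup

/-!
A transfer argument: an involution whose fusion in a Sylow `2`-subgroup stays in one coset of a
normal subgroup of index at most four does not lie in the subgroup generated by odd-order elements.
-/

set_option autoImplicit false

namespace CfsgLib.ClassK.ZN

open Subgroup

universe u

variable {G : Type u} [Group G] [Finite G]

theorem commute_of_card_le_four {Q : Type u} [Group Q] [Finite Q] (hQ : IsPGroup 2 Q)
    (h : Nat.card Q ≤ 4) (a b : Q) : a * b = b * a := by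
  haveI : Fact (Nat.Prime 2) := ⟨Nat.prime_two⟩
  obtain ⟨k, hk⟩ := IsPGroup.iff_card.1 hQ
  rcases (show k = 0 ∨ k = 1 ∨ k = 2 ∨ 3 ≤ k by omega) with rfl | rfl | rfl | hk3
  · rw [pow_zero] at hk
    haveI := (Nat.card_eq_one_iff_unique.1 hk).1
    exact Subsingleton.elim _ _
  · rw [pow_one] at hk
    haveI : IsCyclic Q := isCyclic_of_prime_card hk
    let _ : CommGroup Q := IsCyclic.commGroup
    exact mul_comm a b
  · exact (IsPGroup.isMulCommutative_of_card_eq_prime_sq hk).is_comm.comm a b
  · have := Nat.pow_le_pow_right (show 2 > 0 by norm_num) hk3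
    omega

theorem not_mem_oddGen_of_fusion (P : Sylow 2 G) {D : Subgroup G}
    (hn : (P : Subgroup G) ≤ normalizer (D : Set G)) (hD : D.relIndex (P : Subgroup G) ≤ 4)
    {u : G} (huP : u ∈ (P : Subgroup G)) (hu : u * u = 1) (huD : u ∉ D)
    (hfus : ∀ g : G, g⁻¹ * u * g ∈ (P : Subgroup G) → g⁻¹ * u * g * u⁻¹ ∈ D) :
    u ∉ closure {g : G | Odd (orderOf g)} := by
  classical
  haveI : Fact (Nat.Prime 2) := ⟨Nat.prime_two⟩
  set D' : Subgroup (P : Subgroup G) := D.subgroupOf (P : Subgroup G)
  haveI : D'.Normal := by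
    refine ⟨fun x hx y => ?_⟩
    rw [mem_subgroupOf] at hx ⊢
    exact (mem_normalizer_iff.1 (hn y.2) x).1 hx
  have hQ : IsPGroup 2 ((P : Subgroup G) ⧸ D') := P.isPGroup'.to_quotient D'
  let _ : CommGroup ((P : Subgroup G) ⧸ D') :=
    { (inferInstance : Group ((P : Subgroup G) ⧸ D')) with
      mul_comm := commute_of_card_le_four hQ (by rw [← index_eq_card]; exact hD) }
  let f : (P : Subgroup G) →* (P : Subgroup G) ⧸ D' := QuotientGroup.mk' D'
  set t := f ⟨u, huP⟩ with ht
  have ht2 : t ^ 2 = 1 := by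
    rw [ht, ← map_pow, show (⟨u, huP⟩ : (P : Subgroup G)) ^ 2 = 1 from
      Subtype.ext (by rw [Subgroup.coe_pow, pow_two]; exact hu), map_one]
  have ht1 : t ≠ 1 := fun e => huD (mem_subgroupOf.1 ((QuotientGroup.eq_one_iff _).1 e))
  let τ := MonoidHom.transfer f
  have hmain : τ u = t := by
    let _ : Fintype (Quotient (MulAction.orbitRel (zpowers u) (G ⧸ (P : Subgroup G)))) :=
      Fintype.ofFinite _
    change MonoidHom.transfer f u = t
    rw [MonoidHom.transfer_eq_prod_quotient_orbitRel_zpowers_quot]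
    let m : Quotient (MulAction.orbitRel (zpowers u) (G ⧸ (P : Subgroup G))) → ℕ :=
      fun q => Function.minimalPeriod (u • ·) q.out
    have hval : ∀ q, f ⟨q.out.out⁻¹ * u ^ m q * q.out.out,
        QuotientGroup.out_conj_pow_minimalPeriod_mem _ u q.out⟩ = t ^ m q := by
      intro q
      have hm : m q ∣ orderOf u := by
        apply Function.IsPeriodicPt.minimalPeriod_dvd
        change ((u • ·)^[orderOf u]) q.out = q.out
        simp only [smul_iterate, pow_orderOf_eq_one, one_smul]
      have hm2 : m q ∣ 2 :=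
        hm.trans (orderOf_dvd_of_pow_eq_one (by rw [pow_two]; exact hu))
      have hmem := QuotientGroup.out_conj_pow_minimalPeriod_mem (P : Subgroup G) u q.out
      rcases (Nat.dvd_prime Nat.prime_two).1 hm2 with hm1 | hm2'
      · have e1 : t ^ m q = t := by rw [hm1, pow_one]
        rw [e1]
        have hmem' : q.out.out⁻¹ * u * q.out.out ∈ (P : Subgroup G) := by
          have h' : q.out.out⁻¹ * u ^ m q * q.out.out ∈ (P : Subgroup G) := hmem
          simpa only [hm1, pow_one] using h'
        refine (QuotientGroup.eq.2 (mem_subgroupOf.2 ?_)).symm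
        have hd := hfus _ hmem'
        show u⁻¹ * (q.out.out⁻¹ * u ^ m q * q.out.out) ∈ D
        rw [hm1, pow_one]
        have := (mem_normalizer_iff.1 (hn (inv_mem huP)) _).1 hd
        rwa [show u⁻¹ * (q.out.out⁻¹ * u * q.out.out * u⁻¹) * u⁻¹⁻¹ =
          u⁻¹ * (q.out.out⁻¹ * u * q.out.out) by group] at this
      · rw [show t ^ m q = 1 by rw [hm2', ht2]]
        refine (QuotientGroup.eq_one_iff _).2 (mem_subgroupOf.2 ?_)
        show q.out.out⁻¹ * u ^ m q * q.out.out ∈ D
        rw [hm2', pow_two, hu, mul_one, inv_mul_cancel]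
        exact one_mem _
    rw [Finset.prod_congr rfl fun q _ => hval q, Finset.prod_pow_eq_pow_sum,
      ← index_eq_sum_minimalPeriod (P : Subgroup G) u]
    obtain ⟨j, hj⟩ : Odd (P : Subgroup G).index :=
      Nat.not_even_iff_odd.1 fun h => P.not_dvd_index (even_iff_two_dvd.1 h)
    rw [hj, pow_succ, pow_mul, ht2, one_pow, one_mul]
  intro hu'
  have hle : closure {g : G | Odd (orderOf g)} ≤ τ.ker := by
    refine (closure_le _).2 fun g hg => ?_
    rw [SetLike.mem_coe, MonoidHom.mem_ker]
    obtain ⟨k, hk⟩ := hQ (τ g)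
    refine orderOf_eq_one_iff.1 (Nat.eq_one_of_dvd_coprimes ?_ (orderOf_map_dvd τ g)
      (orderOf_dvd_of_pow_eq_one hk))
    exact (Nat.coprime_two_right.2 hg).pow_right k
  exact ht1 (hmain ▸ MonoidHom.mem_ker.1 (hle hu'))

end CfsgLib.ClassK.ZN
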