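import Cfsg.Agent.Lib.ClassK.ZNFinal
import Cfsg.Agent.Lib.ClassK.ZNTransfer

/-!
The two-component amalgam with `|Ω₁(Z(J(T)))| = 4`: the centres of the sides lie outside the
subgroup generated by the elements of odd order.
-/

set_option autoImplicit false
set_option linter.unusedSectionVars false

namespace CfsgLib.ClassK.ZN

open Cfsg Subgroup CfsgLib.PLocal
open scoped commutatorElement

universe u

variable {G : Type u} [Group G] [Finite G]

/-- Every `2`-local lies in a maximal one. -/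
theorem exists_maximalTwoLocal {N : Subgroup G} (hN : IsTwoLocal N) :
    ∃ L : Subgroup G, IsMaximalTwoLocal L ∧ N ≤ L := by
  obtain ⟨L, hNL, hL, hmax⟩ :=
    Set.Finite.exists_le_maximal (Set.toFinite {L : Subgroup G | IsTwoLocal L}) hN
  exact ⟨L, ⟨hL, fun L' hL' hle => le_antisymm (hmax hL' hle) hle⟩, hNL⟩

theorem elemAb_cj (g : G) {A : Subgroup G} (hA : IsElementaryAbelian 2 A) :
    IsElementaryAbelian 2 (cj g A) := by
  refine ⟨⟨⟨?_⟩⟩, ?_⟩
  · rintro ⟨_, a, ha, rfl⟩ ⟨_, b, hb, rfl⟩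
    refine Subtype.ext ?_
    show _ * _ = _ * _
    rw [← map_mul, ← map_mul, elemAb_comm hA ha hb]
  · rintro _ ⟨a, ha, rfl⟩
    rw [← map_pow, hA.2 a ha, map_one]

namespace Duo

variable {T : Subgroup G} {K : Bool → Subgroup G} (D : Duo T K)
include D

theorem normalizer_le {b : Bool} {R : Subgroup G} (hR : IsPGroup 2 R) (hR1 : R ≠ ⊥)
    (h : K b ⊔ T ≤ normalizer (R : Set G)) :
    normalizer (R : Set G) ≤ normalizer (K b : Set G) := by
  obtain ⟨L, hL, hle⟩ := exists_maximalTwoLocal (⟨R, hR, hR1, rfl⟩ : IsTwoLocal (normalizer (R : Set G)))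
  rw [← (D.max b).2 L hL ((sup_le_sup_left (thompsonOf_le T) _).trans (h.trans hle))]
  exact hle

theorem normalizer_Y (b : Bool) : normalizer (Yof T (K b) : Set G) = normalizer (K b : Set G) := by
  refine le_antisymm (D.normalizer_le (elemAb_isPGroup (D.pair.side b).elemY) (fun e => ?_)
    (D.pair.side b).P_le_normY) ?_
  · have h := (D.pair.side b).cardW
    rw [le_bot_iff.1 ((le_sup_right : wOf (K b) ≤ Yof T (K b)).trans e.le), Subgroup.card_bot] at h
    omega
  · rw [D.pair.normalizer_eq D.ncomm b]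
    exact (D.pair.side b).P_le_normY

/-- `K` is generated by the elements of odd order of its normalizer. -/
theorem eq_oddGen (b : Bool) :
    K b = closure {g : G | g ∈ normalizer (K b : Set G) ∧ Odd (orderOf g)} := by
  set s := D.pair.side b
  refine le_antisymm ?_ ((closure_le _).2 ?_)
  · conv_lhs => rw [← s.pre.gen]
    exact closure_mono fun g hg => ⟨le_normalizer hg.1, hg.2⟩
  rintro g ⟨hgN, hodd⟩
  rw [SetLike.mem_coe]
  set P := normalizer (K b : Set G)
  haveI : ((K b).subgroupOf P).Normal := normal_in_normalizer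
  have hidx : ((K b).subgroupOf P).index ∣ Nat.card T := by
    have htop : T.subgroupOf P ⊔ (K b).subgroupOf P = ⊤ := by
      rw [← subgroupOf_sup s.T_le_normK le_normalizer, subgroupOf_eq_top, sup_comm]
      exact (D.pair.normalizer_eq D.ncomm b).le
    rw [← relIndex_top_right, ← htop, relIndex_sup_right]
    exact (relIndex_dvd_card _ _).trans
      (Nat.card_congr (subgroupOfEquivOfLe s.T_le_normK).toEquiv).dvd
  have h1 := Subgroup.pow_index_mem ((K b).subgroupOf P) ⟨g, hgN⟩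
  rw [mem_subgroupOf, Subgroup.coe_pow] at h1
  haveI : Fact (Nat.Prime 2) := ⟨Nat.prime_two⟩
  obtain ⟨k, hk⟩ := IsPGroup.iff_card.1 s.pT
  have hco : Nat.Coprime ((K b).subgroupOf P).index (orderOf g) :=
    Nat.Coprime.coprime_dvd_left (hk ▸ hidx) ((Nat.coprime_two_left.2 hodd).pow_left k)
  obtain ⟨m, hm⟩ := exists_pow_eq_self_of_coprime hco
  rw [← hm]
  exact pow_mem h1 m

end Duo

/-- The subgroup `W₁ W₂`. -/
abbrev Dof (K : Bool → Subgroup G) : Subgroup G := wOf (K false) ⊔ wOf (K true)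

/-- The amalgam with centres of order two. -/
structure Four (T : Subgroup G) (K : Bool → Subgroup G) : Prop where
  duo : Duo T K
  card_two : Nat.card (Zc T (K false)) = 2

namespace Four

variable {T : Subgroup G} {K : Bool → Subgroup G} (F : Four T K)
include F

theorem hZ : T ≤ centralizer (Zof T : Set G) := F.duo.pair.T_centralizes

theorem side (b : Bool) : Side T (K b) := F.duo.pair.side b

theorem card_Zof : Nat.card (Zof T) = 4 := by
  rw [(F.side false).card_Z, F.card_two]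

theorem card_Zc (b : Bool) : Nat.card (Zc T (K b)) = 2 := by
  have h1 := (F.side b).card_Z
  have h2 := F.card_Zof
  omega

theorem not_comm (b : Bool) : ¬ wOf (K (!b)) ≤ centralizer (wOf (K b) : Set G) := by
  cases b
  · exact fun e => F.duo.ncomm (le_centralizer_iff.1 e)
  · exact F.duo.ncomm

theorem Wz_eq (b : Bool) : Wz T (K b) = Wz T (K false) := by
  cases b
  · rfl
  · exact (Wz_eq_of_noncomm (F.side false) (F.side true) F.hZ (F.not_comm false)).symm

theorem Q_eq (b : Bool) : Qof T (K b) = Yof T (K b) := F.duo.pair.Q_eq_Y F.duo.ncomm b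

theorem sqY {b : Bool} {x : G} (hx : x ∈ Yof T (K b)) : x * x = 1 := by
  rw [← pow_two]; exact (F.side b).elemY.2 x hx

theorem Zof_le (b : Bool) : Zof T ≤ Yof T (K b) := le_sup_left

theorem mem_Zof {b : Bool} {x : G} (hx : x ∈ Yof T (K b)) (hx' : x ∈ Yof T (K (!b))) :
    x ∈ Zof T := by
  obtain ⟨v, hv, hvc⟩ := SetLike.not_le_iff_exists.1 (F.not_comm b)
  exact (F.side b).fixed_mem_Z F.hZ ((F.side (!b)).W_le_T hv) (fun e => hvc e.2) hx
    (mul_inv_eq_iff_eq_mul.2 (elemAb_comm (F.side (!b)).elemY (mem_sup_right hv) hx'))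

theorem not_commute {b : Bool} {x y : G} (hx : x ∈ Yof T (K b)) (hx' : x ∉ Yof T (K (!b)))
    (hy : y ∈ Yof T (K (!b))) (hy' : y ∉ Yof T (K b)) : y * x ≠ x * y := fun e =>
  hx' (F.Zof_le _ ((F.side b).fixed_mem_Z F.hZ ((F.side (!b)).Y_le_T hy)
    (by rw [F.Q_eq]; exact hy') hx (mul_inv_eq_iff_eq_mul.2 e)))

theorem sq_ne_one {b : Bool} {x y : G} (hx : x ∈ Yof T (K b)) (hx' : x ∉ Yof T (K (!b)))
    (hy : y ∈ Yof T (K (!b))) (hy' : y ∉ Yof T (K b)) : y * x * (y * x) ≠ 1 := fun e => by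
  refine F.not_commute hx hx' hy hy' ?_
  rw [← inv_eq_of_mul_eq_one_right e, mul_inv_rev, inv_eq_of_mul_eq_one_right (F.sqY hx),
    inv_eq_of_mul_eq_one_right (F.sqY hy)]

theorem decomp {t : G} (ht : t ∈ T) (h0 : t ∉ Yof T (K false)) (h1 : t ∉ Yof T (K true)) :
    ∃ y ∈ Yof T (K true), ∃ a ∈ Yof T (K false),
      y ∉ Yof T (K false) ∧ a ∉ Yof T (K true) ∧ t = y * a := by
  obtain ⟨a, ha, ha'⟩ := F.duo.pair.exists_mem_Q_not_mem false
  simp only [Bool.not_false, F.Q_eq] at ha ha'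
  have hy : t * a ∈ Yof T (K true) := by
    rw [← F.Q_eq]
    exact (F.side true).mul_mem_Q ht ((F.side false).Y_le_T ha) (by rw [F.Q_eq]; exact h1)
      (by rw [F.Q_eq]; exact ha')
  exact ⟨_, hy, a, ha, fun e => h0 ((mul_mem_cancel_right ha).1 e), ha',
    by rw [mul_assoc, F.sqY ha, mul_one]⟩

theorem invol_cases {x : G} (hx : x ∈ T) (hx2 : x * x = 1) :
    ∃ b, x ∈ Yof T (K b) := by
  by_cases h0 : x ∈ Yof T (K false)
  · exact ⟨false, h0⟩
  by_cases h1 : x ∈ Yof T (K true)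
  · exact ⟨true, h1⟩
  obtain ⟨y, hy, a, ha, hy', ha', rfl⟩ := F.decomp hx h0 h1
  exact absurd hx2 (F.sq_ne_one (b := false) ha ha' hy hy')

theorem sq_mem {t : G} (ht : t ∈ T) : t * t ∈ Wz T (K false) := by
  by_cases h0 : t ∈ Yof T (K false)
  · rw [F.sqY h0]; exact one_mem _
  by_cases h1 : t ∈ Yof T (K true)
  · rw [F.sqY h1]; exact one_mem _
  obtain ⟨y, hy, a, ha, -, -, rfl⟩ := F.decomp ht h0 h1
  have h := (F.side false).commutator_mem F.hZ ((F.side true).Y_le_T hy) ha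
  rwa [commutatorElement_def, inv_eq_of_mul_eq_one_right (F.sqY hy),
    inv_eq_of_mul_eq_one_right (F.sqY ha), mul_assoc] at h

theorem point_eq {x y : G} (hx : x ∈ Wz T (K false)) (hx1 : x ≠ 1) (hy : y ∈ Wz T (K false))
    (hy1 : y ≠ 1) : x = y := by
  obtain ⟨w, hw, -, hz, -, -⟩ := (F.side false).exists_point
  rw [hz] at hx hy
  rw [(mem_zpowers_of_sq ((F.side false).sqW w hw) hx).resolve_left hx1,
    (mem_zpowers_of_sq ((F.side false).sqW w hw) hy).resolve_left hy1]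

theorem exists_ab : ∃ a ∈ wOf (K false), a ∉ Yof T (K true) := by
  obtain ⟨a, ha, hac⟩ := SetLike.not_le_iff_exists.1 (F.not_comm true)
  refine ⟨a, ha, fun e => hac ?_⟩
  rw [← F.Q_eq] at e
  exact e.2

theorem elem_cases {E : Subgroup G} (hE : IsElementaryAbelian 2 E) (hET : E ≤ T)
    (h8 : Nat.card E = 8) : ∃ b, E = Yof T (K b) := by
  have hY : ∀ b, Nat.card (Yof T (K b)) = 8 := fun b => by rw [(F.side b).card_Y, F.card_Zc]
  suffices h : ∃ b, E ≤ Yof T (K b) by
    obtain ⟨b, hb⟩ := h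
    exact ⟨b, eq_of_le_of_card_ge hb (by rw [hY, h8])⟩
  by_contra! hcon
  obtain ⟨x, hx, hx1⟩ := SetLike.not_le_iff_exists.1 (hcon true)
  obtain ⟨y, hy, hy0⟩ := SetLike.not_le_iff_exists.1 (hcon false)
  have hcase : ∀ e ∈ E, ∃ b, e ∈ Yof T (K b) := fun e he =>
    F.invol_cases (hET he) (by rw [← pow_two]; exact hE.2 e he)
  obtain ⟨bx, hbx⟩ := hcase x hx
  obtain ⟨bz, hbz⟩ := hcase y hy
  cases bx
  · cases bz
    · exact hy0 hbz
    · exact F.not_commute (b := false) hbx hx1 hbz hy0 (elemAb_comm hE hy hx)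
  · exact hx1 hbx

theorem W_le_D (b : Bool) : wOf (K b) ≤ Dof K := by
  cases b
  exacts [le_sup_left, le_sup_right]

theorem D_le_T : Dof K ≤ T := sup_le (F.side false).W_le_T (F.side true).W_le_T

theorem z_not_mem_D {b : Bool} {z : G} (hz : z ∈ Zc T (K b)) (hz1 : z ≠ 1) : z ∉ Dof K := by
  intro h
  obtain ⟨a, ha, c, hc, e⟩ := CfsgLib.Comp.exists_mul_of_mem_sup
    ((F.side true).W_le_T.trans (le_sup_right.trans (F.side false).P_le_normW)) h
  have hc0 : c ∈ Yof T (K false) := (mul_mem_cancel_left (mem_sup_right ha)).1 (e ▸ F.Zof_le _ hz.1)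
  have hcW : c ∈ Wz T (K false) :=
    F.Wz_eq true ▸ mem_inf.2 ⟨F.mem_Zof (b := false) hc0 (mem_sup_right hc), hc⟩
  have hzW : z ∈ Wz T (K b) := by
    rw [F.Wz_eq]
    exact mem_inf.2 ⟨hz.1, e ▸ mul_mem ha hcW.2⟩
  exact hz1 (mem_bot.1 ((F.side b).inf_Zc_Wz.le ⟨hz, hzW⟩))

theorem exists_z (b : Bool) : ∃ z ∈ Zc T (K b), z ≠ 1 := by
  by_contra! h
  have h1 : Zc T (K b) = ⊥ := (Subgroup.eq_bot_iff_forall _).2 h
  have h2 := F.card_Zc b
  rw [h1, Subgroup.card_bot] at h2
  omega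

theorem card_T : Nat.card T = 16 := by
  rw [F.duo.pair.card_T F.duo.ncomm, F.card_Zof]

theorem card_D : Nat.card ↥(Dof K) = 8 := by
  have h1 := card_mul_le_card_sup_mul_inf (wOf (K false)) (wOf (K true))
  have h2 : wOf (K false) ⊓ wOf (K true) ≤ Wz T (K false) := fun x hx =>
    mem_inf.2 ⟨F.mem_Zof (b := false) (mem_sup_right hx.1) (mem_sup_right hx.2), hx.1⟩
  have h3 := Subgroup.card_le_of_le h2
  rw [(F.side false).card_Wz] at h3
  rw [(F.side false).cardW, (F.side true).cardW] at h1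
  have h1' : 8 ≤ Nat.card ↥(Dof K) := by nlinarith
  have hd : Nat.card ↥(Dof K) ∣ 2 ^ 4 :=
    (Subgroup.card_dvd_of_le F.D_le_T).trans (by rw [F.card_T]; norm_num)
  obtain ⟨k, hk, e⟩ := (Nat.dvd_prime_pow Nat.prime_two).1 hd
  obtain ⟨z, hz, hz1⟩ := F.exists_z false
  have hne : Nat.card ↥(Dof K) ≠ 16 := fun e16 => F.z_not_mem_D hz hz1 (by
    rw [eq_of_le_of_card_ge F.D_le_T (by rw [e16, F.card_T])]
    exact (F.side false).Z_le_T hz.1)
  interval_cases k <;> omega

theorem T_cases {b : Bool} {z : G} (hz : z ∈ Zc T (K b)) (hz1 : z ≠ 1) {t : G} (ht : t ∈ T) :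
    t ∈ Dof K ∨ t * z ∈ Dof K := by
  have h2 : ((Dof K).subgroupOf T).index = 2 := by
    show (Dof K).relIndex T = 2
    have h := relIndex_mul_relIndex ⊥ (Dof K) T bot_le F.D_le_T
    rw [relIndex_bot_left, relIndex_bot_left, F.card_D, F.card_T] at h
    omega
  refine or_iff_not_imp_left.2 fun hn => ?_
  have := (Subgroup.mul_mem_iff_of_index_two h2 (a := (⟨t, ht⟩ : T))
    (b := ⟨z, (F.side b).Z_le_T hz.1⟩)).2
      ⟨fun h => absurd h hn, fun h => absurd h (F.z_not_mem_D hz hz1)⟩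
  exact mem_subgroupOf.1 this

theorem sup_Y : Yof T (K false) ⊔ Yof T (K true) = T := by
  refine le_antisymm (sup_le (F.side false).Y_le_T (F.side true).Y_le_T) fun t ht => ?_
  obtain ⟨z, hz, hz1⟩ := F.exists_z false
  have hle : Dof K ≤ Yof T (K false) ⊔ Yof T (K true) := sup_le_sup le_sup_right le_sup_right
  rcases F.T_cases hz hz1 ht with h | h
  · exact hle h
  · exact (mul_mem_cancel_right (mem_sup_left (F.Zof_le _ hz.1))).1 (hle h)

theorem invol_D {x : G} (hx : x ∈ Dof K) (hx2 : x * x = 1) : ∃ b, x ∈ wOf (K b) := by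
  obtain ⟨a, ha, c, hc, rfl⟩ := CfsgLib.Comp.exists_mul_of_mem_sup
    ((F.side true).W_le_T.trans (le_sup_right.trans (F.side false).P_le_normW)) hx
  obtain ⟨b, hb⟩ := F.invol_cases (F.D_le_T hx) hx2
  cases b
  · have hc0 : c ∈ Yof T (K false) := (mul_mem_cancel_left (mem_sup_right ha)).1 hb
    have hcW : c ∈ Wz T (K false) :=
      F.Wz_eq true ▸ mem_inf.2 ⟨F.mem_Zof (b := false) hc0 (mem_sup_right hc), hc⟩
    exact ⟨false, mul_mem ha hcW.2⟩
  · have ha0 : a ∈ Yof T (K true) := (mul_mem_cancel_right (mem_sup_right hc)).1 hb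
    have haW : a ∈ Wz T (K true) :=
      (F.Wz_eq true).symm ▸ mem_inf.2 ⟨F.mem_Zof (b := false) (mem_sup_right ha) ha0, ha⟩
    exact ⟨true, mul_mem haW.2 hc⟩

theorem conj_point {x c : G} (hx : x ∈ Dof K) (hx2 : x * x = 1) (hx1 : x ≠ 1)
    (hc : c ∈ Wz T (K false)) (hc1 : c ≠ 1) : ∃ q : G, q * c * q⁻¹ = x := by
  obtain ⟨b, hb⟩ := F.invol_D hx hx2
  obtain ⟨q, -, hq⟩ := (F.side b).exists_conj_point ((F.Wz_eq b).symm ▸ hc) hc1 hb hx1
  exact ⟨q, hq⟩

theorem P_centralizes (b : Bool) : K b ⊔ T ≤ centralizer (Zc T (K b) : Set G) :=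
  sup_le (le_centralizer_iff.1 inf_le_right)
    (F.hZ.trans (centralizer_le (SetLike.coe_subset_coe.2 inf_le_left)))

theorem centralizer_z_le {b : Bool} {z : G} (hz : z ∈ Zc T (K b)) (hz1 : z ≠ 1) :
    centralizer ({z} : Set G) ≤ normalizer (K b : Set G) := by
  have h0 : Zc T (K b) = zpowers z := (eq_of_le_of_card_ge (zpowers_le.2 hz) (by
    rw [F.card_Zc, Nat.card_zpowers, orderOf_eq_prime
      ((elemAb_omegaCenterOf _).2 z hz.1) hz1])).symm
  have h1 : centralizer ({z} : Set G) ≤ centralizer (Zc T (K b) : Set G) := by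
    rw [le_centralizer_iff, h0, zpowers_le]
    exact fun g hg => mem_centralizer_singleton_iff.1 hg
  refine (h1.trans (centralizer_le_normalizer _)).trans (F.duo.normalizer_le
    (elemAb_isPGroup (elemAb_mono (elemAb_omegaCenterOf _) inf_le_left))
    (fun e => hz1 (mem_bot.1 (e ▸ hz))) ((F.P_centralizes b).trans (centralizer_le_normalizer _)))

/-- An element moving `Y_b` to `Y_c` moves `W_b` to `W_c`. -/
theorem cj_W {u : G} {b c : Bool} (h : cj u (Yof T (K b)) = Yof T (K c)) :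
    cj u (wOf (K b)) = wOf (K c) := by
  have hN : cj u (normalizer (K b : Set G)) = normalizer (K c : Set G) := by
    rw [← F.duo.normalizer_Y, ← F.duo.normalizer_Y, cj_normalizer, h]
  have hK : cj u (K b) = K c := by
    rw [F.duo.eq_oddGen b, F.duo.eq_oddGen c, ← hN, cj, MonoidHom.map_closure]
    congr 1
    ext g
    constructor
    · rintro ⟨x, ⟨hx, hodd⟩, rfl⟩
      exact ⟨⟨x, hx, rfl⟩, by rw [MulEquiv.coe_toMonoidHom, MulEquiv.orderOf_eq]; exact hodd⟩
    · rintro ⟨⟨x, hx, rfl⟩, hodd⟩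
      exact ⟨x, ⟨hx, by rwa [MulEquiv.coe_toMonoidHom, MulEquiv.orderOf_eq] at hodd⟩, rfl⟩
  rw [cj_wOf, hK]

theorem cj_Y_mem {u : G} (h : cj u (Yof T (K false)) ≤ T) :
    ∃ b, cj u (Yof T (K false)) = Yof T (K b) :=
  F.elem_cases (elemAb_cj u (F.side false).elemY) h
    (by rw [card_cj, (F.side false).card_Y, F.card_two])

theorem fix_point {u c : G} (hu : u ∈ normalizer (T : Set G)) (hc : c ∈ Wz T (K false))
    (hc1 : c ≠ 1) : u * c * u⁻¹ = c := by
  obtain ⟨a, ha, ha'⟩ := F.exists_ab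
  obtain ⟨y, hy, hy'⟩ := F.duo.pair.exists_mem_Q_not_mem true
  simp only [Bool.not_true, F.Q_eq] at hy hy'
  set t := y * a with htdef
  have htT : t ∈ T := mul_mem ((F.side true).Y_le_T hy) ((F.side false).W_le_T ha)
  have ht2 : t * t ≠ 1 := F.sq_ne_one (b := false) (mem_sup_right ha) ha' hy hy'
  have e : t * t = c := F.point_eq (F.sq_mem htT) ht2 hc hc1
  have e' : u * t * u⁻¹ * (u * t * u⁻¹) = u * c * u⁻¹ := by rw [← e]; group
  refine F.point_eq (e' ▸ F.sq_mem ((mem_normalizer_iff.1 hu t).1 htT)) ?_ hc hc1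
  exact fun h => hc1 (conj_eq_one_iff.1 h)

variable {P : Sylow 2 G} (hTP : T ≤ (P : Subgroup G))
include hTP

theorem mem_T_of_mem_normalizer {b : Bool} {u : G} (huP : u ∈ (P : Subgroup G))
    (hu : u ∈ normalizer (K b : Set G)) : u ∈ T := by
  have h1 := sylowTwoIn_eq (F.side b).syl
    (P.isPGroup'.to_le (sup_le hTP (zpowers_le.2 huP))) le_sup_left
    (sup_le (F.side b).syl.1 (zpowers_le.2 hu))
  exact h1 ▸ mem_sup_right (mem_zpowers u)

theorem swap {u : G} (huP : u ∈ (P : Subgroup G)) (huN : u ∈ normalizer (T : Set G))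
    (huT : u ∉ T) (b : Bool) : cj u (Yof T (K b)) = Yof T (K (!b)) := by
  obtain ⟨c, hc⟩ := F.elem_cases (elemAb_cj u (F.side b).elemY)
    ((cj_mono (F.side b).Y_le_T).trans (cj_eq_self huN).le)
    (by rw [card_cj, (F.side b).card_Y, F.card_Zc])
  rcases Bool.eq_or_eq_not c b with e | e
  · subst e
    refine absurd (F.mem_T_of_mem_normalizer hTP huP (b := c) ?_) huT
    rw [← F.duo.normalizer_Y]
    exact mem_normalizer_of_cj hc
  · rw [hc, e]

theorem mul_mem_T {u v : G} (huP : u ∈ (P : Subgroup G)) (huN : u ∈ normalizer (T : Set G))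
    (huT : u ∉ T) (hvP : v ∈ (P : Subgroup G)) (hvN : v ∈ normalizer (T : Set G)) (hvT : v ∉ T) :
    u * v ∈ T := by
  refine F.mem_T_of_mem_normalizer hTP (b := false) (mul_mem huP hvP) ?_
  rw [← F.duo.normalizer_Y]
  refine mem_normalizer_of_cj ?_
  rw [← cj_cj, F.swap hTP hvP hvN hvT, F.swap hTP huP huN huT]
  rfl

theorem conj_z {u z c : G} (huP : u ∈ (P : Subgroup G)) (huN : u ∈ normalizer (T : Set G))
    (huT : u ∉ T) (hz : z ∈ Zc T (K false)) (hz1 : z ≠ 1) (hc : c ∈ Wz T (K false))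
    (hc1 : c ≠ 1) : u * z * u⁻¹ = z * c := by
  have hne : u * z * u⁻¹ ≠ z := fun e => huT (F.mem_T_of_mem_normalizer hTP huP
    (F.centralizer_z_le hz hz1 (mem_centralizer_singleton_iff.2 (mul_inv_eq_iff_eq_mul.1 e))))
  have hsq : ∀ x ∈ Zof T, x * x = 1 := fun x hx => F.sqY (b := false) (F.Zof_le _ hx)
  have hm : ∀ b, u * z * u⁻¹ ∈ Yof T (K (!b)) := fun b => by
    rw [← F.swap hTP huP huN huT b]
    exact conj_mem_cj (F.Zof_le _ hz.1)
  have hzc : z ≠ c := fun e => hz1 (mem_bot.1 ((F.side false).inf_Zc_Wz.le ⟨hz, e ▸ hc⟩))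
  rcases four_cases F.card_Zof hsq hz.1 hc.1 hz1 hc1 hzc
      (F.mem_Zof (b := false) (hm true) (hm false)) with e | e | e | e
  · exact absurd (conj_eq_one_iff.1 e) hz1
  · exact absurd e hne
  · rw [← F.fix_point huN hc hc1] at e
    exact absurd (mul_left_cancel (mul_right_cancel e)) hzc
  · exact e

theorem elem_le_T {E : Subgroup G} (hE : IsElementaryAbelian 2 E) (h8 : Nat.card E = 8)
    (hEP : E ≤ (P : Subgroup G) ⊓ normalizer (T : Set G)) : E ≤ T := by
  by_contra hne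
  obtain ⟨u, hu, huT⟩ := SetLike.not_le_iff_exists.1 hne
  obtain ⟨huP, huN⟩ := mem_inf.1 (hEP hu)
  obtain ⟨z, hz, hz1⟩ := F.exists_z false
  obtain ⟨c, hc, hc1, hcz, -, -⟩ := (F.side false).exists_point
  have hcW : c ∈ Wz T (K false) := hcz ▸ mem_zpowers c
  have hidx : (T.subgroupOf E).index = 2 := by
    rw [index_eq_two_iff]
    refine ⟨⟨u, hu⟩, fun b => ?_⟩
    simp only [mem_subgroupOf, Subgroup.coe_mul]
    by_cases hb : (b : G) ∈ T
    · exact Or.inr ⟨hb, fun hbu => huT ((mul_mem_cancel_left hb).1 hbu)⟩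
    · exact Or.inl ⟨F.mul_mem_T hTP (hEP b.2).1 (hEP b.2).2 hb huP huN huT, fun h => hb h⟩
  have hle : E ⊓ T ≤ zpowers c := by
    intro e he
    obtain ⟨he1, he2⟩ := mem_inf.1 he
    obtain ⟨b, hb⟩ := F.invol_cases he2 (by rw [← pow_two]; exact hE.2 e he1)
    have hfix : u * e * u⁻¹ = e := mul_inv_eq_iff_eq_mul.2 (elemAb_comm hE hu he1)
    have hb' : e ∈ Yof T (K (!b)) := by
      rw [← F.swap hTP huP huN huT b, ← hfix]
      exact conj_mem_cj hb
    have hzc : z ≠ c := fun e' => hz1 (mem_bot.1 ((F.side false).inf_Zc_Wz.le ⟨hz, e' ▸ hcW⟩))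
    have hconj := F.conj_z hTP huP huN huT hz hz1 hcW hc1
    rcases four_cases F.card_Zof (fun x hx => F.sqY (b := false) (F.Zof_le _ hx)) hz.1 hcW.1 hz1
        hc1 hzc (F.mem_Zof hb hb') with r | r | r | r
    · rw [r]; exact one_mem _
    · rw [r] at hfix
      exact absurd (mul_eq_left.1 (hconj.symm.trans hfix)) hc1
    · rw [r]; exact mem_zpowers c
    · exfalso
      subst r
      have h3 : u * z * u⁻¹ * (u * c * u⁻¹) = z * c := by rw [← hfix]; group
      rw [F.fix_point huN hcW hc1] at h3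
      exact hc1 (mul_eq_left.1 (hconj.symm.trans (mul_right_cancel h3)))
  have h1 := Subgroup.card_le_of_le hle
  rw [Nat.card_zpowers, orderOf_eq_prime
    (by rw [pow_two]; exact (F.side false).sqW c hc) hc1] at h1
  have h2 : Nat.card (T.subgroupOf E) * 2 = 8 := by
    rw [← hidx, card_mul_index, h8]
  have h3 : Nat.card (T.subgroupOf E) = Nat.card ↥(E ⊓ T) := by
    rw [← Nat.card_congr (subgroupOfEquivOfLe (inf_le_left : E ⊓ T ≤ E)).toEquiv,
      inf_subgroupOf_left]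
  omega

theorem P_le_normalizer : (P : Subgroup G) ≤ normalizer (T : Set G) := by
  have h : (P : Subgroup G) ⊓ normalizer (T : Set G) = (P : Subgroup G) := by
    refine eq_of_normalizer_inf_le P.isPGroup' inf_le_left fun g hg => mem_inf.2 ⟨hg.1, ?_⟩
    have hY : ∀ b, cj g (Yof T (K b)) ≤ T := fun b => by
      refine F.elem_le_T hTP (elemAb_cj g (F.side b).elemY)
        (by rw [card_cj, (F.side b).card_Y, F.card_Zc]) ?_
      exact (cj_mono (le_inf ((F.side b).Y_le_T.trans hTP)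
        ((F.side b).Y_le_T.trans le_normalizer))).trans (cj_eq_self hg.2).le
    refine mem_normalizer_of_cj (eq_of_le_of_card_ge ?_ (card_cj g T).ge)
    conv_lhs => rw [← F.sup_Y, cj_sup]
    exact sup_le (hY false) (hY true)
  exact h.ge.trans inf_le_right

theorem mem_normalizer_T {g : G} (hg : g ∈ normalizer ((P : Subgroup G) : Set G)) :
    g ∈ normalizer (T : Set G) := by
  have hY : ∀ b, cj g (Yof T (K b)) ≤ T := fun b =>
    F.elem_le_T hTP (elemAb_cj g (F.side b).elemY)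
      (by rw [card_cj, (F.side b).card_Y, F.card_Zc])
      (le_inf ((cj_mono ((F.side b).Y_le_T.trans hTP)).trans (cj_eq_self hg).le)
        (((cj_mono ((F.side b).Y_le_T.trans hTP)).trans (cj_eq_self hg).le).trans
          (F.P_le_normalizer hTP)))
  refine mem_normalizer_of_cj (eq_of_le_of_card_ge ?_ (card_cj g T).ge)
  conv_lhs => rw [← F.sup_Y, cj_sup]
  exact sup_le (hY false) (hY true)

theorem P_normalizes_D : (P : Subgroup G) ≤ normalizer (Dof K : Set G) := by
  intro u hu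
  by_cases huT : u ∈ T
  · refine mem_normalizer_of_cj ?_
    rw [cj_sup, cj_eq_self ((F.side false).P_le_normW (mem_sup_right huT)),
      cj_eq_self ((F.side true).P_le_normW (mem_sup_right huT))]
  · refine mem_normalizer_of_cj ?_
    have h := F.swap hTP hu (F.P_le_normalizer hTP hu) huT
    rw [cj_sup, F.cj_W (h false), F.cj_W (h true)]
    exact sup_comm _ _

theorem relIndex_D : (Dof K).relIndex (P : Subgroup G) ≤ 4 := by
  have h1 := relIndex_mul_relIndex (Dof K) T (P : Subgroup G) F.D_le_T hTP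
  have hDT : (Dof K).relIndex T = 2 := by
    have h := relIndex_mul_relIndex ⊥ (Dof K) T bot_le F.D_le_T
    rw [relIndex_bot_left, relIndex_bot_left, F.card_D, F.card_T] at h
    omega
  have hTle : T.relIndex (P : Subgroup G) ≤ 2 := by
    by_cases hall : (P : Subgroup G) ≤ T
    · rw [relIndex_eq_one.2 hall]; omega
    · obtain ⟨u, hu, huT⟩ := SetLike.not_le_iff_exists.1 hall
      refine le_of_eq ?_
      rw [relIndex, index_eq_two_iff]
      refine ⟨⟨u, hu⟩, fun b => ?_⟩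
      simp only [mem_subgroupOf, Subgroup.coe_mul]
      by_cases hb : (b : G) ∈ T
      · exact Or.inr ⟨hb, fun hbu => huT ((mul_mem_cancel_left hb).1 hbu)⟩
      · exact Or.inl ⟨F.mul_mem_T hTP b.2 (F.P_le_normalizer hTP b.2) hb hu
          (F.P_le_normalizer hTP hu) huT, fun h => hb h⟩
  rw [← h1, hDT]
  omega

theorem omegaCenterOf_le_point {c : G} (hc : c ∈ Wz T (K false)) (hc1 : c ≠ 1) {u : G}
    (huP : u ∈ (P : Subgroup G)) (huT : u ∉ T) :
    omegaCenterOf (P : Subgroup G) ≤ zpowers c := by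
  obtain ⟨z, hz, hz1⟩ := F.exists_z false
  have hzc : z ≠ c := fun e' => hz1 (mem_bot.1 ((F.side false).inf_Zc_Wz.le ⟨hz, e' ▸ hc⟩))
  have hzP : z ∈ (P : Subgroup G) := hTP ((F.side false).Z_le_T hz.1)
  have hN := F.P_le_normalizer hTP
  have hconj := F.conj_z hTP huP (hN huP) huT hz hz1 hc hc1
  refine (closure_le _).2 fun e he => ?_
  obtain ⟨heP, hec⟩ := mem_inf.1 he.1
  have he2 : e * e = 1 := by rw [← pow_two]; exact he.2
  have heT : e ∈ T := by
    by_contra heT
    have h1 := F.conj_z hTP heP (hN heP) heT hz hz1 hc hc1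
    rw [mul_inv_eq_iff_eq_mul.2 (hec z hzP).symm] at h1
    exact hc1 (mul_eq_left.1 h1.symm)
  obtain ⟨b, hb⟩ := F.invol_cases heT he2
  have hfix : u * e * u⁻¹ = e := mul_inv_eq_iff_eq_mul.2 (hec u huP)
  have hb' : e ∈ Yof T (K (!b)) := by
    rw [← F.swap hTP huP (hN huP) huT b, ← hfix]
    exact conj_mem_cj hb
  rw [SetLike.mem_coe]
  rcases four_cases F.card_Zof (fun x hx => F.sqY (b := false) (F.Zof_le _ hx)) hz.1 hc.1 hz1
      hc1 hzc (F.mem_Zof hb hb') with r | r | r | r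
  · rw [r]; exact one_mem _
  · rw [r] at hfix
    exact absurd (mul_eq_left.1 (hconj.symm.trans hfix)) hc1
  · rw [r]; exact mem_zpowers c
  · exfalso
    subst r
    have h3 : u * z * u⁻¹ * (u * c * u⁻¹) = z * c := by rw [← hfix]; group
    rw [F.fix_point (hN huP) hc hc1] at h3
    exact hc1 (mul_eq_left.1 (hconj.symm.trans (mul_right_cancel h3)))

theorem not_conj_point {z c : G} (hz : z ∈ Zc T (K false)) (hz1 : z ≠ 1)
    (hc : c ∈ Wz T (K false)) (hc1 : c ≠ 1) (g : G) : g * c * g⁻¹ ≠ z := by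
  intro e
  have hle : cj g (P : Subgroup G) ≤ normalizer (K false : Set G) := by
    refine le_trans ?_ (F.centralizer_z_le hz hz1)
    rintro _ ⟨x, hx, rfl⟩
    have hf := mul_inv_eq_iff_eq_mul.1 (F.fix_point (F.P_le_normalizer hTP hx) hc hc1)
    rw [mem_centralizer_singleton_iff]
    show g * x * g⁻¹ * z = z * (g * x * g⁻¹)
    rw [← e]
    calc g * x * g⁻¹ * (g * c * g⁻¹) = g * (x * c) * g⁻¹ := by group
      _ = g * (c * x) * g⁻¹ := by rw [hf]
      _ = _ := by group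
  obtain ⟨m, hm, hgm⟩ := exists_cj_of_isSylowTwoIn (F.side false).syl
    (isPGroup_cj g P.isPGroup') hle
  have hPT : T = (P : Subgroup G) := eq_of_le_of_card_ge hTP (by
    have := Subgroup.card_le_of_le hgm
    rwa [card_cj, card_cj] at this)
  rw [← hPT] at hgm
  have hmg : m⁻¹ * g ∈ normalizer (T : Set G) := mem_normalizer_of_cj (by
    rw [← cj_cj, eq_of_le_of_card_ge hgm (by rw [card_cj, card_cj]), cj_inv_cj])
  have hmz : m⁻¹ * z * m = z := by
    rw [F.duo.pair.normalizer_eq F.duo.ncomm] at hm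
    rw [mul_assoc, F.P_centralizes false hm z hz, inv_mul_cancel_left]
  have h1 := F.fix_point hmg hc hc1
  rw [show m⁻¹ * g * c * (m⁻¹ * g)⁻¹ = m⁻¹ * (g * c * g⁻¹) * m by group, e, hmz] at h1
  exact hz1 (mem_bot.1 ((F.side false).inf_Zc_Wz.le ⟨hz, h1 ▸ hc⟩))

/-- The conjugates of `z` in `P` lie in `T`. -/
theorem conj_mem_T (hcen : centralizer (omegaCenterOf (P : Subgroup G) : Set G) ≤
      normalizer ((P : Subgroup G) : Set G)) {z g : G} (hz : z ∈ Zc T (K false)) (hz1 : z ≠ 1)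
    (hy : g⁻¹ * z * g ∈ (P : Subgroup G)) : g⁻¹ * z * g ∈ T := by
  by_contra hyT
  set y := g⁻¹ * z * g with hydef
  have hN := F.P_le_normalizer hTP
  obtain ⟨c, hcW', hc1, hcz, -, -⟩ := (F.side false).exists_point
  have hc : c ∈ Wz T (K false) := hcz ▸ mem_zpowers c
  have hsw := F.swap hTP hy (hN hy) hyT
  have hy2 : y * y = 1 := by
    rw [hydef, show g⁻¹ * z * g * (g⁻¹ * z * g) = g⁻¹ * (z * z) * g by group,
      F.sqY (b := false) (F.Zof_le _ hz.1)]
    group
  have hyi : y⁻¹ = y := inv_eq_of_mul_eq_one_right hy2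
  obtain ⟨a, ha, ha'⟩ := F.exists_ab
  set b := y * a * y⁻¹ with hbdef
  have hb : b ∈ Yof T (K true) := (hsw false).le (conj_mem_cj (mem_sup_right ha))
  have hyb : y * b * y⁻¹ = a := by
    rw [hbdef, show y * (y * a * y⁻¹) * y⁻¹ = (y * y) * a * (y * y)⁻¹ by group, hy2]
    group
  have hb' : b ∉ Yof T (K false) := fun e => ha' (hyb ▸ (hsw false).le (conj_mem_cj e))
  set f := b * a with hfdef
  have hfT : f ∈ T := mul_mem ((F.side true).Y_le_T hb) ((F.side false).W_le_T ha)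
  have hf2 : f * f = c :=
    F.point_eq (F.sq_mem hfT) (F.sq_ne_one (b := false) (mem_sup_right ha) ha' hb hb') hc hc1
  have hfy : y * f * y⁻¹ = f⁻¹ := by
    rw [hfdef, show y * (b * a) * y⁻¹ = (y * b * y⁻¹) * (y * a * y⁻¹) by group, hyb, ← hbdef,
      mul_inv_rev, inv_eq_of_mul_eq_one_right (F.sqY (b := false) (mem_sup_right ha : a ∈ _)),
      inv_eq_of_mul_eq_one_right (F.sqY hb)]
  have hc2 : c * c = 1 := F.sqY (b := false) (F.Zof_le _ hc.1)
  have hzc : z * c = c * z := elemAb_comm (elemAb_omegaCenterOf _) hz.1 hc.1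
  set f' := f * z with hf'def
  have hfix : y * f' * y⁻¹ = f' := by
    rw [hf'def, show y * (f * z) * y⁻¹ = (y * f * y⁻¹) * (y * z * y⁻¹) by group, hfy,
      F.conj_z hTP hy (hN hy) hyT hz hz1 hc hc1]
    have hfi : f⁻¹ = f * c := by
      refine inv_eq_of_mul_eq_one_right ?_
      rw [← mul_assoc, hf2, hc2]
    rw [hfi, hzc, ← mul_assoc, mul_assoc f c c, hc2, mul_one]
  have hzf : z * f = f * z := F.hZ hfT z hz.1
  have hf'2 : f' * f' = c := by
    rw [hf'def, mul_assoc, ← mul_assoc z f z, hzf, mul_assoc f z z,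
      F.sqY (b := false) (F.Zof_le _ hz.1), mul_one, hf2]
  set R := (P : Subgroup G) ⊓ centralizer ({y} : Set G)
  have hRle : cj g R ≤ normalizer (K false : Set G) := by
    refine le_trans ?_ (F.centralizer_z_le hz hz1)
    rintro _ ⟨x, hx, rfl⟩
    have hx' := mem_centralizer_singleton_iff.1 (mem_inf.1 hx).2
    rw [mem_centralizer_singleton_iff]
    show g * x * g⁻¹ * z = z * (g * x * g⁻¹)
    rw [show z = g * y * g⁻¹ by rw [hydef]; group]
    calc g * x * g⁻¹ * (g * y * g⁻¹) = g * (x * y) * g⁻¹ := by group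
      _ = g * (y * x) * g⁻¹ := by rw [hx']
      _ = _ := by group
  obtain ⟨m, hm, hgm⟩ := exists_cj_of_isSylowTwoIn (F.side false).syl
    (isPGroup_cj g (P.isPGroup'.to_le inf_le_left)) hRle
  have hf'R : f' ∈ R := mem_inf.2 ⟨mul_mem (hTP hfT) (hTP ((F.side false).Z_le_T hz.1)),
    mem_centralizer_singleton_iff.2 (mul_inv_eq_iff_eq_mul.1 hfix).symm⟩
  set h := m⁻¹ * g with hhdef
  have hfh : h * f' * h⁻¹ ∈ T := by
    have h1 := mem_cj.1 (hgm (conj_mem_cj hf'R))
    rwa [hhdef, show m⁻¹ * g * f' * (m⁻¹ * g)⁻¹ = m⁻¹ * (g * f' * g⁻¹) * m by group]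
  have hch : h * c * h⁻¹ = c := by
    refine F.point_eq ?_ (fun e => hc1 (conj_eq_one_iff.1 e)) hc hc1
    have := F.sq_mem hfh
    rwa [show h * f' * h⁻¹ * (h * f' * h⁻¹) = h * (f' * f') * h⁻¹ by group, hf'2] at this
  have hyh : h * y * h⁻¹ = z := by
    rw [F.duo.pair.normalizer_eq F.duo.ncomm] at hm
    rw [hhdef, hydef, show m⁻¹ * g * (g⁻¹ * z * g) * (m⁻¹ * g)⁻¹ = m⁻¹ * z * m by group,
      mul_assoc, F.P_centralizes false hm z hz, inv_mul_cancel_left]
  have hhP : h ∈ normalizer ((P : Subgroup G) : Set G) := by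
    refine hcen (centralizer_le (SetLike.coe_subset_coe.2
      (F.omegaCenterOf_le_point hTP hc hc1 hy hyT)) ?_)
    intro x hx
    rcases mem_zpowers_of_sq hc2 hx with rfl | rfl
    · simp
    · exact (mul_inv_eq_iff_eq_mul.1 hch).symm
  refine hyT ((mem_normalizer_iff.1 (F.mem_normalizer_T hTP hhP) y).2 ?_)
  rw [hyh]
  exact (F.side false).Z_le_T hz.1

theorem z_not_mem_oddGen (hcen : centralizer (omegaCenterOf (P : Subgroup G) : Set G) ≤
      normalizer ((P : Subgroup G) : Set G)) {z : G} (hz : z ∈ Zc T (K false)) (hz1 : z ≠ 1) :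
    z ∉ closure {g : G | Odd (orderOf g)} := by
  have hz2 : z * z = 1 := F.sqY (b := false) (F.Zof_le _ hz.1)
  refine not_mem_oddGen_of_fusion P (F.P_normalizes_D hTP) (F.relIndex_D hTP)
    (hTP ((F.side false).Z_le_T hz.1)) hz2 (F.z_not_mem_D hz hz1) fun g hg => ?_
  rcases F.T_cases hz hz1 (F.conj_mem_T hTP hcen hz hz1 hg) with h | h
  · exfalso
    obtain ⟨c, -, hc1, hcz, -, -⟩ := (F.side false).exists_point
    have hc : c ∈ Wz T (K false) := hcz ▸ mem_zpowers c
    obtain ⟨q, hq⟩ := F.conj_point h (by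
      rw [show g⁻¹ * z * g * (g⁻¹ * z * g) = g⁻¹ * (z * z) * g by group, hz2]; group)
      (fun e => hz1 (by
        calc z = g * (g⁻¹ * z * g) * g⁻¹ := by group
          _ = 1 := by rw [e]; group)) hc hc1
    refine F.not_conj_point hTP hz hz1 hc hc1 (g * q) ?_
    rw [show g * q * c * (g * q)⁻¹ = g * (q * c * q⁻¹) * g⁻¹ by group, hq]
    group
  · rwa [inv_eq_of_mul_eq_one_right hz2]

end Four

end CfsgLib.ClassK.ZN
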