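import Cfsg.Agent.Lib.ClassK.ZNZero
import Cfsg.Agent.Lib.Comp.Subnormal

/-!
A component for a conjugate of `T` lying subnormally in `⟨K, J(T)⟩ ≤ L` is a component for `T`.
-/

set_option autoImplicit false
set_option linter.unusedSectionVars false

namespace CfsgLib.ClassK.ZN

open Cfsg Subgroup CfsgLib.PLocal
open scoped commutatorElement

universe u

/-- Elements of odd order of `K R` lie in `K`, for `K` subnormal and `R` a normal `2`-subgroup. -/
theorem mem_of_odd_subnormal {H : Type u} [Group H] [Finite H] {K R : Subgroup H}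
    (hK : K.IsSubnormal) [R.Normal] (hR : IsPGroup 2 R) {x : H} (hx : x ∈ K ⊔ R)
    (hxo : Odd (orderOf x)) : x ∈ K := by
  induction hK with
  | top => exact mem_top x
  | step A B hle hB hn ih =>
    have hxB : x ∈ B := ih (sup_le_sup_right hle R hx)
    rw [sup_comm] at hx
    obtain ⟨r, hr, a, ha, rfl⟩ :=
      CfsgLib.Comp.exists_mul_of_mem_sup (normalizer_eq_top (H := R) ▸ le_top :
        A ≤ normalizer (R : Set H)) hx
    refine mem_of_odd_of_sup ((inf_le_right : R ⊓ B ≤ B).trans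
      ((normal_subgroupOf_iff_le_normalizer hle).1 hn)) (hR.to_le inf_le_left) ?_ hxo
    exact mul_mem (mem_sup_right ⟨hr, (mul_mem_cancel_right (hle ha)).1 hxB⟩) (mem_sup_left ha)

variable {G : Type u} [Group G] [Finite G]

namespace Frame

variable {T L P : Subgroup G} {ι : Type u} {a d : ι → G}
variable (hf : Frame T L P a d) (h : Over T L)

local notation "O" => pCoreOf 2 L
local notation "V" => Vof L
local notation "X" => Xof L

include hf h

/-- An element of `L` preserving a coordinate preserves its plane. -/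
theorem mem_normalizer_plane {i : ι} {g : G} (hg : g ∈ L)
    (hgd : g * d i * g⁻¹ ∈ X ⊔ zpowers (d i)) :
    g ∈ normalizer ((⁅V, zpowers (d i)⁆ : Subgroup G) : Set G) := by
  refine mem_normalizer_of_cj (eq_of_le_of_card_ge ?_ (card_cj _ _).ge)
  rw [cj, map_le_iff_le_comap]
  refine commutator_le.2 fun v hv z hz => ?_
  show g * ⁅v, z⁆ * g⁻¹ ∈ ⁅V, zpowers (d i)⁆
  rw [show g * ⁅v, z⁆ * g⁻¹ = ⁅g * v * g⁻¹, g * z * g⁻¹⁆ by simp only [commutatorElement_def]; group]
  refine hf.comm_le_plane h ?_ ((mem_normalizer_iff.1 (h.L_le_normV hg) v).1 hv)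
  have h0 : zpowers (d i) ≤ (X ⊔ zpowers (d i)).comap (MulAut.conj g).toMonoidHom :=
    zpowers_le.2 hgd
  exact h0 hz

theorem P_le_normalizer_plane (i : ι) : P ≤ normalizer ((⁅V, zpowers (d i)⁆ : Subgroup G) : Set G) := fun g hg => by
  refine hf.mem_normalizer_plane h (hf.P_le hg) ?_
  rw [show g * d i * g⁻¹ = ⁅g, d i⁆ * d i by rw [commutatorElement_def]; group]
  exact mul_mem (mem_sup_left (hf.comm g hg _ (hf.d_mem i))) (mem_sup_right (mem_zpowers _))

theorem JL_le_normalizer_plane (i : ι) :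
    thompsonSubgroupOf 2 L ≤ normalizer ((⁅V, zpowers (d i)⁆ : Subgroup G) : Set G) := fun g hg => by
  refine hf.mem_normalizer_plane h (thompsonOf_le L hg) ?_
  rcases hf.stable i g hg with e | e
  · have := mul_mem (mem_sup_left e : _ ∈ X ⊔ zpowers (d i)) (mem_sup_right (mem_zpowers (d i)))
    rwa [inv_mul_cancel_right] at this
  · have := mul_mem (mem_sup_left e : _ ∈ X ⊔ zpowers (d i))
      (mem_sup_right (inv_mem (mem_zpowers (d i))))
    rwa [mul_inv_cancel_right] at this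

/-- An element over a coordinate but outside `X` fixes no involution of the plane. -/
theorem fix_plane_of_mem {i : ι} {c u : G} (hc : c ∈ X ⊔ zpowers (d i)) (hcX : c ∉ X)
    (hu : u ∈ ⁅V, zpowers (d i)⁆) (hfix : c * u * c⁻¹ = u) : u = 1 := by
  refine hf.fix_plane h i hu ?_
  have hle : X ⊔ zpowers c ≤ centralizer ({u} : Set G) := by
    refine sup_le (inf_le_right.trans (centralizer_le ?_)) (zpowers_le.2 ?_)
    · exact Set.singleton_subset_iff.2 (hf.plane_le h i hu)
    · rwa [mem_centralizer_singleton_iff, ← mul_inv_eq_iff_eq_mul]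
  rw [mul_inv_eq_iff_eq_mul]
  exact mem_centralizer_singleton_iff.1 (hle (hf.d_mem_of_mem h hc hcX))

end Frame

section Main

variable {T L K : Subgroup G}

theorem le_normalizer_wOf_of_subnormal (h : Over T L) (hKL : K ≤ L)
    (hsn : (K.subgroupOf (K ⊔ thompsonSubgroupOf 2 T)).IsSubnormal)
    {T' : Subgroup G} (hT' : IsPGroup 2 T') (hK : IsJComponent T' K) :
    thompsonSubgroupOf 2 T ≤ normalizer (wOf K : Set G) := by
  set J := thompsonSubgroupOf 2 T
  set M₀ := K ⊔ J with hM₀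
  set R₀ := pCoreOf 2 M₀ with hR₀
  have hc := pre_of_isJComponent hT' hK
  have hJp : IsPGroup 2 J := h.pT.to_le (thompsonOf_le T)
  have hM₀L : M₀ ≤ L := sup_le hKL h.J_le_L
  have hR₀p : IsPGroup 2 R₀ := CfsgLib.Amalgam.isPGroup_pCoreOf M₀
  have hR₀M : R₀ ≤ M₀ := CfsgLib.Amalgam.pCoreOf_le M₀
  have hMR : M₀ ≤ normalizer (R₀ : Set G) := CfsgLib.Amalgam.le_normalizer_pCoreOf M₀
  -- subnormal `2`-subgroups of `⟨K, J⟩` lie in its `2`-core
  have hsub : ∀ Z : Subgroup G, Z ≤ M₀ → IsPGroup 2 Z → (Z.subgroupOf M₀).IsSubnormal → Z ≤ R₀ := by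
    intro Z hZ hZp hZs z hz
    exact ⟨⟨z, hZ hz⟩, CfsgLib.Comp.le_pCore_of_isSubnormal hZs hZp.comap_subtype hz, rfl⟩
  have hstep : ∀ A B : Subgroup G, A ≤ B → B ≤ normalizer (A : Set G) →
      ((A.subgroupOf M₀).subgroupOf (B.subgroupOf M₀)).Normal := by
    intro A B _ hn
    refine CfsgLib.Coprime.normal_subgroupOf_of_le_normalizer fun x hx => ?_
    refine mem_normalizer_iff.2 fun y => ?_
    simp only [mem_subgroupOf, Subgroup.coe_mul, Subgroup.coe_inv]
    exact mem_normalizer_iff.1 (hn hx) _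
  -- the core normalizes `K`
  have hodd : ∀ x ∈ K ⊔ R₀, Odd (orderOf x) → x ∈ K := by
    intro x hx hxo
    have hmap : (K.subgroupOf M₀ ⊔ pCore 2 M₀).map M₀.subtype = K ⊔ R₀ := by
      rw [Subgroup.map_sup, map_subgroupOf_eq_of_le le_sup_left]; rfl
    rw [← hmap] at hx
    obtain ⟨y, hy, rfl⟩ := hx
    exact mem_of_odd_subnormal hsn CfsgLib.Amalgam.isPGroup_pCore hy
      (by rwa [Subgroup.coe_subtype, orderOf_coe] at hxo)
  have hRK : R₀ ≤ normalizer (K : Set G) := fun r hr => by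
    refine mem_normalizer_of_cj (eq_of_le_of_card_ge ?_ (card_cj _ _).ge)
    rw [cj, map_le_iff_le_comap]
    refine hc.le_of_odd_le fun x hx hxo => hodd _ ?_ (by
      rwa [MulEquiv.coe_toMonoidHom, MulEquiv.orderOf_eq])
    show r * x * r⁻¹ ∈ K ⊔ R₀
    exact mul_mem (mul_mem (mem_sup_right hr) (mem_sup_left hx)) (mem_sup_right (inv_mem hr))
  by_cases hJR : J ≤ R₀
  · exact (hJR.trans hRK).trans (normalizer_le_normalizer_wOf K)
  obtain ⟨ι, -, -, P, a, d, hf⟩ := h.exists_frame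
  -- some element of `P` in `⟨K, J⟩` acts on a plane
  obtain ⟨hh, ⟨hhM, hhP⟩, hhX⟩ : ∃ q ∈ M₀ ⊓ P, q ∉ Xof L := by
    by_contra! hcon
    set Y := M₀ ⊓ (thompsonSubgroupOf 2 L ⊔ pCoreOf 2 L) with hY
    have hJY : J ≤ Y := le_inf le_sup_right (h.J_le_JL.trans le_sup_left)
    have hYJ : Y ≤ normalizer (J : Set G) := fun y hy => by
      have hPJ : thompsonSubgroupOf 2 L ⊔ pCoreOf 2 L ≤ P ⊔ J :=
        sup_le hf.JL_le (hf.O_le.trans le_sup_left)
      obtain ⟨p, hp, j, hj, rfl⟩ := CfsgLib.Comp.exists_mul_of_mem_sup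
        (h.J_le_L.trans hf.L_le_normP) (hPJ hy.2)
      refine mul_mem (h.X_fix_J (hcon p ⟨?_, hp⟩)) (le_normalizer hj)
      exact (mul_mem_cancel_right (mem_sup_right hj : j ∈ M₀)).1 hy.1
    have hMY : M₀ ≤ normalizer (Y : Set G) := by
      refine le_trans (le_inf le_normalizer (hM₀L.trans ?_)) inf_normalizer_le_normalizer_inf
      intro g hg
      exact mem_normalizer_of_cj (by
        rw [cj_sup, cj_eq_self (h.L_le_normJL hg), cj_eq_self (h.L_le_normO hg)])
    refine hJR (hsub J le_sup_right hJp (IsSubnormal.step _ (Y.subgroupOf M₀)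
      (fun x hx => hJY hx) ?_ (hstep J Y hJY hYJ)))
    exact (CfsgLib.Coprime.normal_subgroupOf_of_le_normalizer hMY).isSubnormal
  obtain ⟨i, hi⟩ : ∃ i, ⁅hh, a i⁆ ∉ Xof L := by
    by_contra! hcon
    exact hhX (hf.sep hh hhP hcon)
  set c := ⁅hh, a i⁆ with hcdef
  set U := ⁅Vof L, zpowers (d i)⁆ with hU
  have hcM : c ∈ M₀ := by
    have haM : a i ∈ M₀ := mem_sup_right (hf.a_mem i)
    exact mul_mem (mul_mem (mul_mem hhM haM) (inv_mem hhM)) (inv_mem haM)
  have hcP : c ∈ P := by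
    rw [hcdef, commutatorElement_def, show hh * a i * hh⁻¹ * (a i)⁻¹ =
      hh * (a i * hh⁻¹ * (a i)⁻¹) by group]
    exact mul_mem hhP
      ((mem_normalizer_iff.1 (hf.L_le_normP (h.J_le_L (hf.a_mem i))) _).1 (inv_mem hhP))
  have hcD : c ∈ Xof L ⊔ zpowers (d i) := by
    obtain ⟨n, hn⟩ := hf.coord hh hhP i
    have := mul_mem (mem_sup_left hn : _ ∈ Xof L ⊔ zpowers (d i))
      (mem_sup_right (inv_mem (zpow_mem (mem_zpowers (d i)) n)))
    rwa [mul_inv_cancel_right] at this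
  have hU4 : Nat.card U = 4 := hf.plane i
  have hUV : U ≤ Vof L := hf.plane_le h i
  have hU2 : ∀ u ∈ U, u * u = 1 := fun u hu => by rw [← pow_two]; exact h.elemV.2 u (hUV hu)
  have hcfix : ∀ u ∈ U, c * u * c⁻¹ = u → u = 1 := fun u hu e => hf.fix_plane_of_mem h hcD hi hu e
  have hcU : c ∈ normalizer (U : Set G) := hf.P_le_normalizer_plane h i hcP
  have hJU : J ≤ normalizer (U : Set G) := h.J_le_JL.trans (hf.JL_le_normalizer_plane h i)
  -- the fixed point of `J` on the plane lies in `J`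
  obtain ⟨u₀, hu₀, hu₀1, hu₀fix, -⟩ := four_fixed hU4 hU2 hJp hJU
  have hu₀J : u₀ ∈ J := by
    obtain ⟨A, hA⟩ := exists_maxElemIn 2 T
    refine le_thompsonOf hA (mem_maxElemIn_of_centralizes hA (h.O_le_T (h.V_le_O (hUV hu₀)))
      (by rw [pow_two]; exact hU2 u₀ hu₀) fun x hx => ?_)
    exact mul_inv_eq_iff_eq_mul.1 (hu₀fix x (le_thompsonOf hA hx))
  have hUM : U ≤ M₀ := four_le_zpowers_sup hU4 hU2 hu₀ ((mem_normalizer_iff.1 hcU u₀).1 hu₀) hu₀1
    (fun e => hu₀1 (conj_eq_one_iff.1 e)) (fun e => hu₀1 (hcfix u₀ hu₀ e.symm))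
    (mem_sup_right hu₀J) (mul_mem (mul_mem hcM (mem_sup_right hu₀J)) (inv_mem hcM))
  have hUR : U ≤ R₀ :=
    (le_inf hUM (hUV.trans h.V_le_O)).trans (CfsgLib.Amalgam.le_pCoreOf inf_le_left
      (le_trans (le_inf le_normalizer (hM₀L.trans h.L_le_normO)) inf_normalizer_le_normalizer_inf)
      (h.pO.to_le inf_le_right))
  -- the core centralizes the plane
  have hRC : R₀ ≤ centralizer (U : Set G) := by
    have hrc : ∀ r ∈ R₀, ⁅r, c⁆ ∈ Xof L := by
      intro r hr
      refine h.O_le_X (hf.two _ (hR₀p.to_le inf_le_left) inf_le_right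
        (mem_inf.2 ⟨?_, ?_⟩ : ⁅r, c⁆ ∈ R₀ ⊓ P))
      · rw [commutatorElement_def, show r * c * r⁻¹ * c⁻¹ = r * (c * r⁻¹ * c⁻¹) by group]
        exact mul_mem hr ((mem_normalizer_iff.1 (hMR hcM) _).1 (inv_mem hr))
      · exact mul_mem ((mem_normalizer_iff.1 (hf.L_le_normP (hM₀L (hR₀M hr))) c).1 hcP)
          (inv_mem hcP)
    have hRU : R₀ ≤ normalizer (U : Set G) := fun r hr => by
      have hrL : r ∈ L := hM₀L (hR₀M hr)
      refine hf.mem_normalizer_plane h hrL ?_
      have h0 : Xof L ⊔ zpowers c ≤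
          (Xof L ⊔ zpowers (d i)).comap (MulAut.conj r).toMonoidHom := by
        refine sup_le (fun x hx => mem_sup_left ((mem_normalizer_iff.1 (h.L_le_normX hrL) x).1 hx))
          (zpowers_le.2 ?_)
        show r * c * r⁻¹ ∈ Xof L ⊔ zpowers (d i)
        rw [show r * c * r⁻¹ = ⁅r, c⁆ * c by rw [commutatorElement_def]; group]
        exact mul_mem (mem_sup_left (hrc r hr)) hcD
      exact h0 (hf.d_mem_of_mem h hcD hi)
    obtain ⟨u, hu, hu1, hufix, -⟩ := four_fixed hU4 hU2 hR₀p hRU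
    intro r hr
    have hu' := (mem_normalizer_iff.1 hcU u).1 hu
    refine mem_centralizer_four hU4 hU2 hu hu' hu1 (fun e => hu1 (conj_eq_one_iff.1 e))
      (fun e => hu1 (hcfix u hu e.symm)) (hufix r hr) ?_
    calc r * (c * u * c⁻¹) * r⁻¹ = ⁅r, c⁆ * (c * (r * u * r⁻¹) * c⁻¹) * ⁅r, c⁆⁻¹ := by
          rw [commutatorElement_def]; group
      _ = c * u * c⁻¹ := by
          rw [hufix r hr]
          exact mul_inv_eq_iff_eq_mul.2 ((hrc r hr).2 _ (hUV hu')).symm
  set V₁ := omegaCenterOf R₀ with hV₁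
  have hV₁e : IsElementaryAbelian 2 V₁ := elemAb_omegaCenterOf R₀
  have hUV₁ : U ≤ V₁ :=
    le_omegaCenterOf (elemAb_mono h.elemV hUV) hUR (le_centralizer_iff.1 hRC)
  have hMV₁ : M₀ ≤ normalizer (V₁ : Set G) := hMR.trans (normalizer_le_normalizer_omegaCenterOf R₀)
  have hQR : pCoreOf 2 K ≤ R₀ := hsub _ (hc.Q_le.trans le_sup_left) hc.pQ
    (IsSubnormal.step _ (K.subgroupOf M₀) (fun x hx => hc.Q_le hx) hsn
      (hstep _ _ hc.Q_le hc.K_le_normQ))
  obtain ⟨e, he, he3, heQ⟩ := hc.exists_d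
  have heM : e ∈ M₀ := mem_sup_left he
  have heL : e ∈ L := hKL he
  have he_cube : e ^ 3 = 1 := by rw [← he3, pow_orderOf_eq_one]
  -- `[V₁, e] ≤ W`
  have hcomm : ∀ v ∈ V₁, ⁅e, v⁆ ∈ wOf K := by
    intro v hv
    rw [show ⁅e, v⁆ = ⁅v, e⁆⁻¹ from (commutatorElement_inv v e).symm]
    refine inv_mem ?_
    have h1 : ⁅v, e⁆ ∈ ⁅⁅V₁, zpowers e⁆, zpowers e⁆ := by
      obtain ⟨n, hn⟩ := (elemAb_isPGroup hV₁e).exists_card_eq
      rw [CfsgLib.Coprime.commutator_commutator_eq (zpowers_le.2 (hMV₁ heM))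
        (by rw [hn, Nat.card_zpowers, he3]; exact Nat.Coprime.pow_right n (by norm_num))
        (Or.inr (by haveI := (elemAb_isPGroup hV₁e).isNilpotent; infer_instance))]
      exact commutator_mem_commutator hv (mem_zpowers _)
    refine commutator_mono ?_ (zpowers_le.2 he) h1
    refine commutator_le.2 fun v hv z hz => ?_
    have hzK : z ∈ K := zpowers_le.2 he hz
    have hvR : v ∈ R₀ := omegaCenterOf_le _ hv
    have hmem : ⁅v, z⁆ ∈ V₁ ⊓ K := by
      refine mem_inf.2 ⟨?_, ?_⟩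
      · rw [commutatorElement_def, show v * z * v⁻¹ * z⁻¹ = v * (z * v⁻¹ * z⁻¹) by group]
        exact mul_mem hv ((mem_normalizer_iff.1 (hMV₁ (mem_sup_left hzK)) _).1 (inv_mem hv))
      · exact mul_mem ((mem_normalizer_iff.1 (hRK hvR) z).1 hzK) (inv_mem hzK)
    refine le_omegaCenterOf (elemAb_mono hV₁e inf_le_left)
      (hc.le_Q ((elemAb_isPGroup hV₁e).to_le inf_le_left) inf_le_right) ?_ hmem
    exact inf_le_left.trans (le_centralizer_iff.1 (hQR.trans (le_centralizer_self_omegaCenterOf R₀)))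
  by_cases heU : e ∈ normalizer (U : Set G)
  · by_cases heC : e ∈ centralizer (U : Set G)
    · -- `⟨K, J⟩` would centralize `u₀`
      exfalso
      refine hu₀1 (hcfix u₀ hu₀ (mul_inv_eq_iff_eq_mul.2 ?_))
      have hle : M₀ ≤ centralizer ({u₀} : Set G) := by
        refine sup_le ?_ fun j hj => ?_
        · rw [← hc.K_eq he heQ]
          exact (sup_le (hQR.trans hRC) (zpowers_le.2 heC)).trans
            (centralizer_le (Set.singleton_subset_iff.2 hu₀))
        · rw [mem_centralizer_singleton_iff, ← mul_inv_eq_iff_eq_mul]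
          exact hu₀fix j hj
      exact mem_centralizer_singleton_iff.1 (hle hcM)
    · -- the plane is `W`
      have hodd' : Odd (orderOf e) := by rw [he3]; decide
      have hfix : ∀ u ∈ U, e * u * e⁻¹ = u → u = 1 := fun u hu e' => by
        by_contra hu1
        exact heC (four_odd_fix hU4 hU2 heU hodd' hu hu1 e')
      have hw : ⁅e, u₀⁆ ∈ U ⊓ wOf K :=
        mem_inf.2 ⟨mul_mem ((mem_normalizer_iff.1 heU u₀).1 hu₀) (inv_mem hu₀),
          hcomm u₀ (hUV₁ hu₀)⟩
      obtain ⟨hwU, hwW⟩ := mem_inf.1 hw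
      set w := ⁅e, u₀⁆
      have hw1 : w ≠ 1 := fun e' => hu₀1 (hfix u₀ hu₀ (by
        rw [mul_inv_eq_iff_eq_mul]; exact commutatorElement_eq_one_iff_mul_comm.1 e'))
      have hle : U ≤ wOf K := four_le_zpowers_sup hU4 hU2 hwU ((mem_normalizer_iff.1 heU w).1 hwU)
        hw1 (fun e' => hw1 (conj_eq_one_iff.1 e')) (fun e' => hw1 (hfix w hwU e'.symm)) hwW
        ((mem_normalizer_iff.1 (hc.KJ_le_normW (mem_sup_left he)) w).1 hwW)
      rwa [← eq_of_le_of_card_ge hle (by rw [hU4, Comp.cardW hT' hK])]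
  · -- three different planes
    exfalso
    have hother : ∀ g ∈ L, g ∉ normalizer (U : Set G) → ∀ u ∈ U,
        c * (g * u * g⁻¹) * c⁻¹ = g * u * g⁻¹ := by
      intro g hg hgU u hu
      set U' := cj g U
      have hcU' : c ∈ normalizer (U' : Set G) := by
        refine mem_normalizer_of_cj ?_
        rw [cj_cj, show c * g = g * (g⁻¹ * c * g) by group, ← cj_cj,
          cj_eq_self (hf.P_le_normalizer_plane h i ?_)]
        simpa using (mem_normalizer_iff.1 (hf.L_le_normP (inv_mem hg)) c).1 hcP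
      set v := g * u * g⁻¹
      have hv' : v ∈ U' := conj_mem_cj hu
      have hvV : v ∈ Vof L := (mem_normalizer_iff.1 (h.L_le_normV hg) u).1 (hUV hu)
      have h1 : ⁅v, c⁆ ∈ U := hf.comm_le_plane h hcD hvV
      have h2 : ⁅v, c⁆ ∈ U' := by
        rw [commutatorElement_def, show v * c * v⁻¹ * c⁻¹ = v * (c * v⁻¹ * c⁻¹) by group]
        exact mul_mem hv' ((mem_normalizer_iff.1 hcU' _).1 (inv_mem hv'))
      by_contra hne
      have h3 : ⁅v, c⁆ ≠ 1 := fun e' => hne (mul_inv_eq_iff_eq_mul.2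
        (commutatorElement_eq_one_iff_mul_comm.1 e').symm)
      have hle : U ≤ U' := four_le_zpowers_sup hU4 hU2 h1 ((mem_normalizer_iff.1 hcU _).1 h1) h3
        (fun e' => h3 (conj_eq_one_iff.1 e')) (fun e' => h3 (hcfix _ h1 e'.symm)) h2
        ((mem_normalizer_iff.1 hcU' _).1 h2)
      exact hgU (mem_normalizer_of_cj (eq_of_le_of_card_ge hle (card_cj g U).le).symm)
    have hee : e * e ∉ normalizer (U : Set G) := fun h2 => heU (by
      have := inv_mem h2
      rwa [show (e * e)⁻¹ = e from inv_eq_of_mul_eq_one_right (by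
        rw [← he_cube, pow_succ, pow_two])] at this)
    have hfixe : ∀ u ∈ U, e * u * e⁻¹ = u → u = 1 := fun u hu e' =>
      hcfix u hu (by rw [← e']; exact hother e heL heU u hu)
    let f : U → wOf K := fun u => ⟨⁅e, (u : G)⁆, hcomm u (hUV₁ u.2)⟩
    have hinj : Function.Injective f := by
      intro u v huv
      have e1 : ⁅e, (u : G)⁆ = ⁅e, (v : G)⁆ := congrArg Subtype.val huv
      refine Subtype.ext (inv_mul_eq_one.1 (hfixe _ (mul_mem (inv_mem v.2) u.2) ?_)).symm
      calc e * ((v : G)⁻¹ * u) * e⁻¹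
          = (v : G)⁻¹ * ⁅e, (v : G)⁆⁻¹ * ⁅e, (u : G)⁆ * u := by
            simp only [commutatorElement_def]; group
        _ = _ := by rw [e1]; group
    have hbij : Function.Bijective f :=
      hinj.bijective_of_nat_card_le (by rw [hU4, Comp.cardW hT' hK])
    have hwe : e * ⁅e, u₀⁆ * e⁻¹ ∈ wOf K :=
      (mem_normalizer_iff.1 (hc.KJ_le_normW (mem_sup_left he)) _).1 (hcomm u₀ (hUV₁ hu₀))
    obtain ⟨v, hv⟩ := hbij.2 ⟨_, hwe⟩
    have hv' : ⁅e, (v : G)⁆ = e * ⁅e, u₀⁆ * e⁻¹ := congrArg Subtype.val hv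
    have hve : (v : G) = (e * ⁅e, u₀⁆ * e⁻¹)⁻¹ * (e * v * e⁻¹) := by
      rw [← hv', commutatorElement_def]; group
    -- `c` fixes `v`
    have hcv : c * (v : G) * c⁻¹ = v := by
      conv_lhs => rw [hve]
      conv_rhs => rw [hve]
      have p1 := hother e heL heU v v.2
      have p2 := hother e heL heU u₀ hu₀
      have p3 := hother (e * e) (mul_mem heL heL) hee u₀ hu₀
      rw [show e * ⁅e, u₀⁆ * e⁻¹ = (e * e * u₀ * (e * e)⁻¹) * (e * u₀ * e⁻¹)⁻¹ by
        rw [commutatorElement_def]; group]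
      conv_rhs => rw [← p1, ← p2, ← p3]
      group
    have hv1 : (v : G) = 1 := hcfix v v.2 hcv
    rw [hv1, commutatorElement_one_right, eq_comm, conj_eq_one_iff] at hv'
    exact hu₀1 (hfixe u₀ hu₀ (mul_inv_eq_iff_eq_mul.2
      (commutatorElement_eq_one_iff_mul_comm.1 hv')))

theorem isJComponent_of_subnormal (hL : IsCharacteristicTwoType G)
    (hN : ∀ N : Subgroup G, IsTwoLocal N → Group.IsSolvable ↥N)
    (hZ : ∀ S : Sylow 2 G, centralizer (omegaCenterOf (S : Subgroup G) : Set G) ≤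
      normalizer ((S : Subgroup G) : Set G))
    (h : Over T L) (hKL : K ≤ L)
    (hsn : (K.subgroupOf (K ⊔ thompsonSubgroupOf 2 T)).IsSubnormal) {g : G}
    (hK : K ∈ jComponentsZero (cj g T)) : IsJComponent T K := by
  have hT' := isPGroup_cj g h.pT
  have h1 := le_normalizer_wOf_of_subnormal h hKL hsn hT' hK.1
  have h2 := isJComponent_of_conj_le hL hN hZ hT' hK (g := g⁻¹) (by rwa [cj_inv_cj])
  rwa [cj_inv_cj] at h2

end Main

end CfsgLib.ClassK.ZN
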