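import Cfsg.Agent.Lib.ClassK.ZNCompW
import Cfsg.Agent.Lib.PLength.DerivedBound
import Cfsg.Prelude.Def_Local

/-!
Overgroups `L ∈ 𝓛(T)`: the kernel of the action on `Ω₁(Z(O₂(L)))`.
-/

set_option autoImplicit false
set_option linter.unusedSectionVars false

namespace CfsgLib.ClassK.ZN

open Cfsg Subgroup CfsgLib.PLocal
open scoped commutatorElement

variable {G : Type*} [Group G]

/-- `Ω₁(Z(O₂(L)))`. -/
abbrev Vof (L : Subgroup G) : Subgroup G := omegaCenterOf (pCoreOf 2 L)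

/-- `C_L(Ω₁(Z(O₂(L))))`. -/
abbrev Xof (L : Subgroup G) : Subgroup G := L ⊓ centralizer (Vof L : Set G)

/-- A member of `𝓛(T)` whose kernel on `Ω₁(Z(O₂(L)))` normalizes `T`. -/
structure Over (T L : Subgroup G) : Prop where
  mem : L ∈ jOvergroups T
  sol : Group.IsSolvable L
  fixT : Xof L ≤ normalizer (T : Set G)

variable [Finite G]

theorem pCoreOf_ne_bot_of_mem {T L : Subgroup G} (h : L ∈ jOvergroups T) (hT1 : T ≠ ⊥) :
    pCoreOf 2 L ≠ ⊥ := by
  intro e
  have h1 := h.2.2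
  rw [e, le_bot_iff] at h1
  have h2 : centralizer ((⊥ : Subgroup G) : Set G) = ⊤ := by
    rw [eq_top_iff]
    intro g _ x hx
    simp [show x = 1 from hx]
  exact hT1 ((Subgroup.eq_bot_iff_forall _).2 fun x _ => by
    have : x ∈ (⊥ : Subgroup G) := h1.le (by rw [h2]; exact mem_top x)
    exact mem_bot.1 this)

theorem le_sylowTwoIn_core {T L : Subgroup G} (h : IsSylowTwoIn T L) : pCoreOf 2 L ≤ T :=
  le_sylowTwoIn h (CfsgLib.Amalgam.isPGroup_pCoreOf L) (CfsgLib.Amalgam.pCoreOf_le L)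
    (CfsgLib.Amalgam.le_normalizer_pCoreOf L)

/-- `Ω₁(Z(S)) ≤ Ω₁(Z(O₂(L)))` for a Sylow `2`-subgroup `S` of `G` containing `T`. -/
theorem omegaCenter_sylow_le {T L : Subgroup G} (h : L ∈ jOvergroups T) (S : Sylow 2 G)
    (hTS : T ≤ (S : Subgroup G)) : omegaCenterOf (S : Subgroup G) ≤ Vof L := by
  have hc : omegaCenterOf (S : Subgroup G) ≤ centralizer (pCoreOf 2 L : Set G) :=
    le_centralizer_iff.1 (((le_sylowTwoIn_core h.1).trans hTS).trans
      (le_centralizer_self_omegaCenterOf _))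
  exact le_omegaCenterOf (elemAb_omegaCenterOf _) (hc.trans h.2.2) hc

theorem over_of_zn (hN : ∀ N : Subgroup G, IsTwoLocal N → Group.IsSolvable ↥N)
    (hZ : ∀ S : Sylow 2 G, centralizer (omegaCenterOf (S : Subgroup G) : Set G) ≤
      normalizer ((S : Subgroup G) : Set G))
    {T L : Subgroup G} (h : L ∈ jOvergroups T) (hT1 : T ≠ ⊥) : Over T L := by
  refine ⟨h, ?_, ?_⟩
  · exact CfsgLib.Coprime.isSolvable_of_le
      (hN _ ⟨pCoreOf 2 L, CfsgLib.Amalgam.isPGroup_pCoreOf L, pCoreOf_ne_bot_of_mem h hT1, rfl⟩)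
      (CfsgLib.Amalgam.le_normalizer_pCoreOf L)
  · obtain ⟨S, hS⟩ := h.1.2.1.exists_le_sylow
    have hT : (S : Subgroup G) ⊓ L = T :=
      sylowTwoIn_eq h.1 (S.isPGroup'.to_le inf_le_left) (le_inf hS h.1.1) inf_le_right
    conv_rhs => rw [← hT]
    refine le_trans ?_ Subgroup.inf_normalizer_le_normalizer_inf
    exact le_inf ((inf_le_right.trans (centralizer_le (omegaCenter_sylow_le h S hS))).trans (hZ S))
      (inf_le_left.trans le_normalizer)

namespace Over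

variable {T L : Subgroup G} (h : Over T L)

local notation "O" => pCoreOf 2 L
local notation "V" => Vof L
local notation "X" => Xof L
local notation "J" => thompsonSubgroupOf 2 T

include h

theorem pT : IsPGroup 2 T := h.mem.1.2.1

theorem T_le : T ≤ L := h.mem.1.1

theorem J_le_L : J ≤ L := (thompsonOf_le T).trans h.T_le

theorem pO : IsPGroup 2 O := CfsgLib.Amalgam.isPGroup_pCoreOf L

theorem O_le_T : O ≤ T := le_sylowTwoIn_core h.mem.1

theorem O_le_X : O ≤ X :=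
  le_inf (CfsgLib.Amalgam.pCoreOf_le L) (le_centralizer_self_omegaCenterOf _)

theorem L_le_normO : L ≤ normalizer (O : Set G) := CfsgLib.Amalgam.le_normalizer_pCoreOf L

theorem L_le_normV : L ≤ normalizer (V : Set G) :=
  h.L_le_normO.trans (normalizer_le_normalizer_omegaCenterOf O)

theorem L_le_normX : L ≤ normalizer (X : Set G) := by
  refine le_trans ?_ Subgroup.inf_normalizer_le_normalizer_inf
  exact le_inf le_normalizer
    (h.L_le_normV.trans (CfsgLib.Comp.normalizer_le_normalizer_centralizer _))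

theorem elemV : IsElementaryAbelian 2 V := elemAb_omegaCenterOf O

theorem V_le_O : V ≤ O := omegaCenterOf_le O

theorem V_le_L : V ≤ L := h.V_le_O.trans (CfsgLib.Amalgam.pCoreOf_le L)

theorem T_inf_X : T ⊓ X = O := by
  refine le_antisymm ?_ (le_inf h.O_le_T h.O_le_X)
  have h1 : T ⊓ X ≤ pCoreOf 2 X := by
    refine CfsgLib.Amalgam.le_pCoreOf inf_le_right ?_ (h.pT.to_le inf_le_left)
    exact le_trans (le_inf h.fixT le_normalizer) Subgroup.inf_normalizer_le_normalizer_inf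
  refine h1.trans (CfsgLib.Amalgam.le_pCoreOf ((CfsgLib.Amalgam.pCoreOf_le _).trans inf_le_left)
    (h.L_le_normX.trans (normalizer_le_normalizer_pCoreOf 2 _))
    (CfsgLib.Amalgam.isPGroup_pCoreOf _))

theorem le_O_of_le_X {R : Subgroup G} (hR : IsPGroup 2 R) (hRX : R ≤ X) : R ≤ O := by
  obtain ⟨g, hg, hgR⟩ := exists_cj_of_isSylowTwoIn h.mem.1 hR (hRX.trans inf_le_left)
  have h1 : R ≤ cj g T ⊓ cj g X := le_inf hgR (by rwa [cj_eq_self (h.L_le_normX hg)])
  rwa [← cj_inf, h.T_inf_X, cj_eq_self (h.L_le_normO hg)] at h1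

theorem X_fix_J : X ≤ normalizer (J : Set G) :=
  h.fixT.trans (normalizer_le_normalizer_thompsonOf T)

theorem commutator_X_T {x t : G} (hx : x ∈ X) (ht : t ∈ T) : ⁅x, t⁆ ∈ O := by
  rw [← h.T_inf_X]
  refine mem_inf.2 ⟨mul_mem ((mem_normalizer_iff.1 (h.fixT hx) t).1 ht) (inv_mem ht), ?_⟩
  rw [commutatorElement_def, show x * t * x⁻¹ * t⁻¹ = x * (t * x⁻¹ * t⁻¹) by group]
  exact mul_mem hx ((mem_normalizer_iff.1 (h.L_le_normX (h.T_le ht)) _).1 (inv_mem hx))

theorem commutator_X_cj {x t g : G} (hx : x ∈ X) (hg : g ∈ L) (ht : t ∈ cj g T) : ⁅x, t⁆ ∈ O := by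
  have h1 := h.commutator_X_T
    (x := g⁻¹ * x * g) (by simpa using (mem_normalizer_iff.1 (h.L_le_normX (inv_mem hg)) x).1 hx)
    (mem_cj.1 ht)
  have h2 := (mem_normalizer_iff.1 (h.L_le_normO hg) _).1 h1
  convert h2 using 1
  simp only [commutatorElement_def]
  group

theorem aOrd_L : maxElemAbelianOrder L = maxElemAbelianOrder T := by
  refine le_antisymm ?_ (aOrd_le_of_thompson_le ((thompsonOf_le T).trans h.T_le))
  obtain ⟨A, hA⟩ := exists_maxElemIn 2 L
  obtain ⟨g, -, hg⟩ := exists_cj_of_isSylowTwoIn h.mem.1 (elemAb_isPGroup hA.2.1) hA.1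
  rw [← card_eq_aOrd hA, ← aOrd_cj g T]
  exact card_le_aOrd hg hA.2.1

theorem maxElemIn_L {A : Subgroup G} (hA : A ∈ maxElemIn 2 T) : A ∈ maxElemIn 2 L :=
  mem_maxElemIn_of_card (hA.1.trans h.T_le) hA.2.1 (by rw [h.aOrd_L, card_eq_aOrd hA])

theorem thompson_sylow {g : G} (hJ : J ≤ cj g T) : thompsonSubgroupOf 2 (cj g T) = J :=
  thompson_cj_of_le hJ

theorem exists_maxElemIn_cj {A : Subgroup G} (hA : A ∈ maxElemIn 2 L) :
    ∃ g ∈ L, A ≤ cj g J := by
  obtain ⟨g, hg, hAg⟩ := exists_cj_of_isSylowTwoIn h.mem.1 (elemAb_isPGroup hA.2.1) hA.1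
  refine ⟨g, hg, ?_⟩
  rw [cj_thompson]
  exact le_thompsonOf (mem_maxElemIn_of_card hAg hA.2.1
    (by rw [aOrd_cj, ← h.aOrd_L, card_eq_aOrd hA]))

theorem J_le_JL : J ≤ thompsonSubgroupOf 2 L := by
  rw [thompsonOf_eq T]
  exact sSup_le fun A hA => le_thompsonOf (h.maxElemIn_L hA)

theorem L_le_normJL : L ≤ normalizer (thompsonSubgroupOf 2 L : Set G) :=
  le_normalizer.trans (normalizer_le_normalizer_thompsonOf L)

/-- Frattini: the conjugates of `J(T)` in `L` are conjugate under the Thompson subgroup of `L`. -/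
theorem exists_cj_J {g : G} (hg : g ∈ L) :
    ∃ j ∈ thompsonSubgroupOf 2 L, cj g J = cj j J := by
  set JL := thompsonSubgroupOf 2 L
  have hJL : JL ≤ L := thompsonOf_le L
  have hsyl : ∀ x ∈ L, IsSylowTwoIn (cj x (T ⊓ JL)) JL := by
    intro x hx
    have hle : cj x (T ⊓ JL) ≤ JL := by
      rw [cj_inf, cj_eq_self (h.L_le_normJL hx)]; exact inf_le_right
    obtain ⟨S', hS', hS'le⟩ := exists_isSylowTwoIn (isPGroup_cj x (h.pT.to_le inf_le_left)) hle
    obtain ⟨y, hy, hy'⟩ := exists_cj_of_isSylowTwoIn h.mem.1 hS'.2.1 (hS'.1.trans hJL)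
    have h2 : S' ≤ cj y (T ⊓ JL) := by
      rw [cj_inf, cj_eq_self (h.L_le_normJL hy)]; exact le_inf hy' hS'.1
    have h3 : cj x (T ⊓ JL) = S' := eq_of_le_of_card_ge hS'le (by
      rw [card_cj, ← card_cj y (T ⊓ JL)]; exact card_le_of_le h2)
    rw [h3]; exact hS'
  have h1 := hsyl 1 (one_mem L)
  rw [cj_one] at h1
  obtain ⟨j, hj, hjg⟩ := isSylowTwoIn_conj h1 (hsyl g hg)
  refine ⟨j, hj, ?_⟩
  have hJ : thompsonSubgroupOf 2 (T ⊓ JL) = J :=
    thompsonOf_eq_of_le (le_inf (thompsonOf_le T) h.J_le_JL) inf_le_left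
  rw [← hJ, cj_thompson, cj_thompson, hjg]

theorem not_J_le_X : ¬ J ≤ X := fun hle => h.mem.2.1 (h.le_O_of_le_X (h.pT.to_le (thompsonOf_le T)) hle)

/-- `L / C_L(V)` has no normal `2`-subgroup. -/
theorem eq_X_of_normal {P : Subgroup G} (hXP : X ≤ P) (hP : P ≤ X ⊔ T)
    (hn : L ≤ normalizer (P : Set G)) : P = X := by
  refine le_antisymm ?_ hXP
  have hPT : X ⊔ T ≤ normalizer (T : Set G) := sup_le h.fixT le_normalizer
  have hPL : P ≤ L := hP.trans (sup_le inf_le_left h.T_le)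
  have h1 : T ⊓ P ≤ pCoreOf 2 P := by
    refine CfsgLib.Amalgam.le_pCoreOf inf_le_right ?_ (h.pT.to_le inf_le_left)
    exact le_trans (le_inf (hP.trans hPT) le_normalizer) Subgroup.inf_normalizer_le_normalizer_inf
  have h2 : T ⊓ P ≤ O := h1.trans (CfsgLib.Amalgam.le_pCoreOf
    ((CfsgLib.Amalgam.pCoreOf_le P).trans hPL) (hn.trans (normalizer_le_normalizer_pCoreOf 2 P))
    (CfsgLib.Amalgam.isPGroup_pCoreOf P))
  intro p hp
  obtain ⟨x, hx, t, ht, rfl⟩ :=
    CfsgLib.Comp.exists_mul_of_mem_sup (h.T_le.trans h.L_le_normX) (hP hp)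
  exact mul_mem hx (h.O_le_X (h2 ⟨ht, (mul_mem_cancel_left (hXP hx)).1 hp⟩))

end Over

end CfsgLib.ClassK.ZN
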