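import Cfsg.Agent.Lib.ClassK.ZNAtoms

/-!
`J(T)`-components inside a member `L` of `𝓛(T)`: each lies over one coordinate of the frame, is
normalized by the Thompson subgroup of `L`, is determined by its coordinate, and every coordinate
carries one.
-/

set_option autoImplicit false
set_option linter.unusedSectionVars false

namespace CfsgLib.ClassK.ZN

open Cfsg Subgroup CfsgLib.PLocal
open scoped commutatorElement

universe u

variable {G : Type u} [Group G] [Finite G]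

theorem le_normalizer_of_common {K J Q : Subgroup G} (hgen : closure {g : G | g ∈ K ∧ Odd (orderOf g)} = K)
    (hKJ : ⁅K, J⁆ = K) (hJ : IsPGroup 2 J) (hQ1 : K ⊔ J ≤ normalizer (Q : Set G))
    (hQ2 : Q ≤ normalizer (J : Set G)) : Q ≤ normalizer (K : Set G) := by
  have hJK := le_normalizer_of_commutator_eq hKJ
  have hQJ : ∀ q ∈ Q, ∀ j ∈ J, q * j * q⁻¹ ∈ J := fun q hq j hj => (mem_normalizer_iff.1 (hQ2 hq) j).1 hj
  have key : ∀ q ∈ Q, ∀ k ∈ K, q * k * q⁻¹ ∈ K := by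
    intro q hq k hk
    have hle : K ≤ (K ⊔ J).comap (MulAut.conj q).toMonoidHom := by
      conv_lhs => rw [← hKJ]
      refine commutator_le.2 fun a ha b hb => ?_
      show q * (a * b * a⁻¹ * b⁻¹) * q⁻¹ ∈ K ⊔ J
      have hx : a⁻¹ * q * a * q⁻¹ ∈ Q := by
        have h1 := (mem_normalizer_iff.1 (hQ1 (mem_sup_left (inv_mem ha))) q).1 hq
        rw [inv_inv] at h1
        exact mul_mem h1 (inv_mem hq)
      rw [show q * (a * b * a⁻¹ * b⁻¹) * q⁻¹ = a * ((a⁻¹ * q * a * q⁻¹) * (q * b * q⁻¹) *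
        (a⁻¹ * q * a * q⁻¹)⁻¹) * a⁻¹ * (q * b * q⁻¹)⁻¹ by group]
      have hb' := hQJ q hq b hb
      exact mul_mem (mul_mem (mul_mem (mem_sup_left ha) (mem_sup_right (hQJ _ hx _ hb')))
        (mem_sup_left (inv_mem ha))) (mem_sup_right (inv_mem hb'))
    have h2 : K ≤ K.comap (MulAut.conj q).toMonoidHom := by
      conv_lhs => rw [← hgen]
      rw [closure_le]
      rintro x ⟨hx, hxo⟩
      refine mem_of_odd_of_sup hJK hJ (hle hx) ?_
      rwa [MulEquiv.coe_toMonoidHom, MulEquiv.orderOf_eq]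
    exact h2 hk
  intro q hq
  refine mem_normalizer_iff.2 fun k => ⟨key q hq k, fun hk => ?_⟩
  have := key q⁻¹ (inv_mem hq) _ hk
  simpa [mul_assoc] using this

/-- The elements commuting with `a` modulo `X`. -/
def commMod (X : Subgroup G) (a : G) : Subgroup G where
  carrier := {g | g ∈ normalizer (X : Set G) ∧ ⁅g, a⁆ ∈ X}
  one_mem' := ⟨one_mem _, by rw [commutatorElement_one_left]; exact one_mem _⟩
  mul_mem' := fun {g k} hg hk => ⟨mul_mem hg.1 hk.1, by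
    rw [show ⁅g * k, a⁆ = g * ⁅k, a⁆ * g⁻¹ * ⁅g, a⁆ by simp only [commutatorElement_def]; group]
    exact mul_mem ((mem_normalizer_iff.1 hg.1 _).1 hk.2) hg.2⟩
  inv_mem' := fun {g} hg => ⟨inv_mem hg.1, by
    rw [show ⁅g⁻¹, a⁆ = g⁻¹ * ⁅g, a⁆⁻¹ * (g⁻¹)⁻¹ by simp only [commutatorElement_def]; group]
    exact (mem_normalizer_iff.1 (inv_mem hg.1) _).1 (inv_mem hg.2)⟩

theorem le_commMod {X : Subgroup G} {a : G} (ha : a ∈ normalizer (X : Set G)) : X ≤ commMod X a :=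
  fun x hx => ⟨le_normalizer hx, by
    rw [commutatorElement_def, show x * a * x⁻¹ * a⁻¹ = x * (a * x⁻¹ * a⁻¹) by group]
    exact mul_mem hx ((mem_normalizer_iff.1 ha _).1 (inv_mem hx))⟩

namespace Over

variable {T L : Subgroup G} (h : Over T L)

local notation "O" => pCoreOf 2 L
local notation "V" => Vof L
local notation "X" => Xof L
local notation "J" => thompsonSubgroupOf 2 T
local notation "JL" => thompsonSubgroupOf 2 L

include h

theorem commutator_X_JL {x g : G} (hx : x ∈ X) (hg : g ∈ JL ⊔ O) : ⁅x, g⁆ ∈ O := by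
  let N : Subgroup G :=
    { carrier := {g | g ∈ L ∧ ∀ x ∈ X, ⁅x, g⁆ ∈ O}
      one_mem' := ⟨one_mem _, fun x _ => by rw [commutatorElement_one_right]; exact one_mem _⟩
      mul_mem' := fun {g k} hg hk => ⟨mul_mem hg.1 hk.1, fun x hx => by
        rw [show ⁅x, g * k⁆ = ⁅x, g⁆ * (g * ⁅x, k⁆ * g⁻¹) by simp only [commutatorElement_def]; group]
        exact mul_mem (hg.2 x hx) ((mem_normalizer_iff.1 (h.L_le_normO hg.1) _).1 (hk.2 x hx))⟩
      inv_mem' := fun {g} hg => ⟨inv_mem hg.1, fun x hx => by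
        rw [show ⁅x, g⁻¹⁆ = g⁻¹ * ⁅x, g⁆⁻¹ * (g⁻¹)⁻¹ by simp only [commutatorElement_def]; group]
        exact (mem_normalizer_iff.1 (h.L_le_normO (inv_mem hg.1)) _).1 (inv_mem (hg.2 x hx))⟩ }
  have hle : JL ⊔ O ≤ N := by
    refine sup_le ?_ fun o ho => ⟨CfsgLib.Amalgam.pCoreOf_le L ho, fun y hy =>
      h.commutator_X_T hy (h.O_le_T ho)⟩
    rw [thompsonOf_eq]
    refine sSup_le fun A hA b hb => ⟨hA.1 hb, fun y hy => ?_⟩
    obtain ⟨g, hg, hAg⟩ := h.exists_maxElemIn_cj hA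
    exact h.commutator_X_cj hy hg (cj_mono (thompsonOf_le T) (hAg hb))
  exact (hle hg).2 x hx

theorem mem_of_odd_O {Y : Subgroup G} (hY : O ≤ normalizer (Y : Set G)) {x : G} (hx : x ∈ Y ⊔ O)
    (hxo : Odd (orderOf x)) : x ∈ Y := mem_of_odd_of_sup hY h.pO hx hxo

theorem O_le_normJ : O ≤ normalizer (J : Set G) :=
  (h.O_le_T.trans le_normalizer).trans (normalizer_le_normalizer_thompsonOf T)

section Component

variable {K : Subgroup G} (hK : IsJComponent T K) (hKL : K ≤ L)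
include hK hKL

theorem K_le_JL : K ≤ JL := by
  conv_lhs => rw [← hK.2.1]
  refine commutator_le.2 fun k hk j hj => ?_
  exact mul_mem ((mem_normalizer_iff.1 (h.L_le_normJL (hKL hk)) j).1 (h.J_le_JL hj))
    (inv_mem (h.J_le_JL hj))

theorem O_le_normK : O ≤ normalizer (K : Set G) :=
  le_normalizer_of_common hK.1 hK.2.1 (h.pT.to_le (thompsonOf_le T))
    ((sup_le hKL h.J_le_L).trans h.L_le_normO) h.O_le_normJ

theorem Q_le_O_of_le {P : Subgroup G} {ι : Type u} {a d : ι → G} (hf : Frame T L P a d)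
    (hKP : K ≤ P) : pCoreOf 2 K ≤ O :=
  hf.two _ (CfsgLib.Amalgam.isPGroup_pCoreOf K) ((CfsgLib.Amalgam.pCoreOf_le K).trans hKP)

end Component

end Over

namespace Frame

variable {T L P : Subgroup G} {ι : Type u} {a d : ι → G}
variable (hf : Frame T L P a d) (h : Over T L)

local notation "O" => pCoreOf 2 L
local notation "V" => Vof L
local notation "X" => Xof L
local notation "J" => thompsonSubgroupOf 2 T
local notation "JL" => thompsonSubgroupOf 2 L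

include hf h

theorem a_normX (i : ι) : a i ∈ normalizer (X : Set G) := h.L_le_normX (h.J_le_L (hf.a_mem i))

theorem sq_notMem (i : ι) : d i * d i ∉ X := by
  intro h2
  apply hf.d_not i
  have := mul_mem (inv_mem h2) (hf.d_cube i)
  rwa [show (d i * d i)⁻¹ * d i ^ 3 = d i by rw [pow_succ, pow_two]; group] at this

theorem d_notMem_commMod (i : ι) : d i ∉ commMod X (a i) := by
  rintro ⟨-, hc⟩
  apply hf.sq_notMem h i
  have := mul_mem hc (hf.inv i)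
  rwa [show ⁅d i, a i⁆ * (a i * d i * (a i)⁻¹ * d i) = d i * d i by
    rw [commutatorElement_def]; group] at this

theorem coordSub_le (i k : ι) (hne : i ≠ k) : X ⊔ zpowers (d i) ≤ commMod X (a k) :=
  sup_le (le_commMod (hf.a_normX h k))
    (zpowers_le.2 ⟨h.L_le_normX (hf.P_le (hf.d_mem i)), hf.other i k hne⟩)

theorem d_mem_of_mem {i : ι} {c : G} (hc : c ∈ X ⊔ zpowers (d i)) (hcX : c ∉ X) :
    d i ∈ X ⊔ zpowers c := by
  obtain ⟨x, hx, y, hy, rfl⟩ := CfsgLib.Comp.exists_mul_of_mem_sup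
    (zpowers_le.2 (h.L_le_normX (hf.P_le (hf.d_mem i)))) hc
  obtain ⟨n, rfl⟩ := hy
  have hc1 : d i ^ n ∈ X ⊔ zpowers (x * d i ^ n) := by
    have := mul_mem (mem_sup_left (inv_mem hx) : x⁻¹ ∈ X ⊔ zpowers (x * d i ^ n))
      (mem_sup_right (mem_zpowers _))
    rwa [inv_mul_cancel_left] at this
  have hdm : d i ^ n = d i ^ (n % 3) * (d i ^ 3) ^ (n / 3) := by
    rw [← zpow_natCast (d i) 3, ← zpow_mul, ← zpow_add]
    congr 1
    omega
  have h3 : (d i ^ 3) ^ (n / 3) ∈ X := zpow_mem (hf.d_cube i) _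
  have hc2 : d i ^ (n % 3) ∈ X ⊔ zpowers (x * d i ^ n) := by
    have h4 := mul_mem hc1 (mem_sup_left (inv_mem h3))
    have h5 : d i ^ (n % 3) = d i ^ n * ((d i ^ 3) ^ (n / 3))⁻¹ := by
      rw [hdm, mul_inv_cancel_right]
    rwa [← h5] at h4
  have hcases : n % 3 = 0 ∨ n % 3 = 1 ∨ n % 3 = 2 := by omega
  rcases hcases with e | e | e
  · exfalso
    apply hcX
    refine mul_mem hx ?_
    show d i ^ n ∈ X
    rw [hdm, e, zpow_zero, one_mul]
    exact h3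
  · simpa [e] using hc2
  · rw [e] at hc2
    have h4 := mul_mem (inv_mem hc2) (mem_sup_left (hf.d_cube i))
    rwa [show (d i ^ (2 : ℤ))⁻¹ * d i ^ 3 = d i by
      rw [zpow_ofNat, pow_succ (d i) 2, inv_mul_cancel_left]] at h4

theorem coord_unique {i k : ι} {c : G} (hi : c ∈ X ⊔ zpowers (d i)) (hk : c ∈ X ⊔ zpowers (d k))
    (hc : c ∉ X) : i = k := by
  by_contra hne
  have h1 : c ∈ commMod X (a k) := hf.coordSub_le h i k hne hi
  have h2 : d k ∈ commMod X (a k) :=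
    (sup_le (le_commMod (hf.a_normX h k)) (zpowers_le.2 h1)) (hf.d_mem_of_mem h hk hc)
  exact hf.d_notMem_commMod h k h2

/-! ### planes -/

/-- The plane of a coordinate. -/
theorem fix_plane (i : ι) {u : G} (hu : u ∈ ⁅V, zpowers (d i)⁆)
    (hfix : d i * u * (d i)⁻¹ = u) : u = 1 := by
  obtain ⟨n, hn⟩ := (elemAb_isPGroup h.elemV).exists_card_eq
  have h1 := CfsgLib.Coprime.commutator_inf_centralizer_eq_bot h.elemV.1
    (zpowers_le.2 (h.L_le_normV (hf.P_le (hf.d_mem i))))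
    (by rw [hn, Nat.card_zpowers]; exact Nat.Coprime.pow_right n (hf.d_odd i).coprime_two_right)
  rw [← mem_bot, ← h1]
  refine ⟨hu, ?_⟩
  show u ∈ centralizer (zpowers (d i) : Set G)
  rw [zpowers_eq_closure, centralizer_closure, mem_centralizer_singleton_iff]
  exact (mul_inv_eq_iff_eq_mul.1 hfix).symm

theorem plane_le (i : ι) : ⁅V, zpowers (d i)⁆ ≤ V :=
  le_normalizer_iff_commutator_le_left.1 (zpowers_le.2 (h.L_le_normV (hf.P_le (hf.d_mem i))))

theorem comm_le_plane {i : ι} {g v : G} (hg : g ∈ X ⊔ zpowers (d i)) (hv : v ∈ V) :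
    ⁅v, g⁆ ∈ ⁅V, zpowers (d i)⁆ := by
  obtain ⟨x, hx, y, hy, rfl⟩ := CfsgLib.Comp.exists_mul_of_mem_sup
    (zpowers_le.2 (h.L_le_normX (hf.P_le (hf.d_mem i)))) hg
  have h1 : y * v⁻¹ * y⁻¹ ∈ V := (mem_normalizer_iff.1
    (zpowers_le.2 (h.L_le_normV (hf.P_le (hf.d_mem i))) hy) _).1 (inv_mem hv)
  rw [show ⁅v, x * y⁆ = v * (x * (y * v⁻¹ * y⁻¹) * x⁻¹) by rw [commutatorElement_def]; group,
    mul_inv_eq_iff_eq_mul.2 (hx.2 _ h1).symm,
    show v * (y * v⁻¹ * y⁻¹) = ⁅v, y⁆ by rw [commutatorElement_def]; group]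
  exact commutator_mem_commutator hv hy

/-- Two different coordinates act on different planes, and each fixes the plane of the other. -/
theorem plane_other {i k : ι} (hne : i ≠ k) {u : G} (hu : u ∈ ⁅V, zpowers (d i)⁆) :
    d k * u * (d k)⁻¹ = u := by
  set Ui := ⁅V, zpowers (d i)⁆ with hUi
  set Uk := ⁅V, zpowers (d k)⁆ with hUk
  have hUV : Ui ≤ V := hf.plane_le h i
  have hcomm : ∀ v ∈ V, d k * (d i * v * (d i)⁻¹) * (d k)⁻¹ = d i * (d k * v * (d k)⁻¹) * (d i)⁻¹ := by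
    intro v hv
    have hx := hf.comm _ (hf.d_mem k) _ (hf.d_mem i)
    have h1 : d i * (d k * v * (d k)⁻¹) * (d i)⁻¹ ∈ V :=
      (mem_normalizer_iff.1 (h.L_le_normV (hf.P_le (hf.d_mem i))) _).1
        ((mem_normalizer_iff.1 (h.L_le_normV (hf.P_le (hf.d_mem k))) v).1 hv)
    calc d k * (d i * v * (d i)⁻¹) * (d k)⁻¹
        = ⁅d k, d i⁆ * (d i * (d k * v * (d k)⁻¹) * (d i)⁻¹) * ⁅d k, d i⁆⁻¹ := by
          rw [commutatorElement_def]; group
      _ = _ := mul_inv_eq_iff_eq_mul.2 (hx.2 _ h1).symm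
  have hdkU : d k ∈ normalizer (Ui : Set G) := by
    refine mem_normalizer_of_cj (eq_of_le_of_card_ge ?_ (card_cj _ _).ge)
    rw [cj, map_le_iff_le_comap, hUi]
    refine commutator_le.2 fun v hv z hz => ?_
    obtain ⟨m, rfl⟩ := hz
    show d k * ⁅v, d i ^ m⁆ * (d k)⁻¹ ∈ Ui
    have hv' : d k * v * (d k)⁻¹ ∈ V := (mem_normalizer_iff.1 (h.L_le_normV (hf.P_le (hf.d_mem k))) v).1 hv
    rw [show d k * ⁅v, d i ^ m⁆ * (d k)⁻¹ = ⁅d k * v * (d k)⁻¹, d k * d i ^ m * (d k)⁻¹⁆ by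
      simp only [commutatorElement_def]; group]
    refine hf.comm_le_plane h ?_ hv'
    have hx := hf.comm _ (hf.d_mem k) _ (zpow_mem (hf.d_mem i) m)
    rw [show d k * d i ^ m * (d k)⁻¹ = ⁅d k, d i ^ m⁆ * d i ^ m by rw [commutatorElement_def]; group]
    exact mul_mem (mem_sup_left hx) (mem_sup_right (zpow_mem (mem_zpowers _) m))
  by_contra hmove
  -- the planes coincide
  have hW4 : Nat.card Ui = 4 := hf.plane i
  have hW2 : ∀ w ∈ Ui, w * w = 1 := fun w hw => by rw [← pow_two]; exact h.elemV.2 w (hUV hw)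
  have hdkc : d k ∉ centralizer (Ui : Set G) := fun hc =>
    hmove (mul_inv_eq_iff_eq_mul.2 (hc u hu).symm)
  have hle : Ui ≤ Uk := by
    have hu1 : u ≠ 1 := fun e => hmove (by rw [e]; group)
    have hc1 : ⁅u, d k⁆ ∈ Uk := commutator_mem_commutator (hUV hu) (mem_zpowers _)
    have hu' := (mem_normalizer_iff.1 hdkU u).1 hu
    have hcU : ⁅u, d k⁆ ∈ Ui := by
      rw [commutatorElement_def, show u * d k * u⁻¹ * (d k)⁻¹ = u * (d k * u⁻¹ * (d k)⁻¹) by group]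
      exact mul_mem hu ((mem_normalizer_iff.1 hdkU _).1 (inv_mem hu))
    -- `u, d u d⁻¹` and their commutator
    have hsq : d k * u * (d k)⁻¹ ≠ d k * (d k * u * (d k)⁻¹) * (d k)⁻¹ := fun e =>
      hmove (mul_left_cancel (mul_right_cancel e)).symm
    have hc2 : ⁅d k * u * (d k)⁻¹, d k⁆ ∈ Uk := commutator_mem_commutator (hUV hu') (mem_zpowers _)
    have hcU2 : ⁅d k * u * (d k)⁻¹, d k⁆ ∈ Ui := by
      rw [commutatorElement_def, show d k * u * (d k)⁻¹ * d k * (d k * u * (d k)⁻¹)⁻¹ * (d k)⁻¹ =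
        (d k * u * (d k)⁻¹) * (d k * (d k * u * (d k)⁻¹)⁻¹ * (d k)⁻¹) by group]
      exact mul_mem hu' ((mem_normalizer_iff.1 hdkU _).1 (inv_mem hu'))
    have hcne : ∀ {v : G}, d k * v * (d k)⁻¹ ≠ v → ⁅v, d k⁆ ≠ 1 := fun hv e =>
      hv (mul_inv_eq_iff_eq_mul.2 (commutatorElement_eq_one_iff_mul_comm.1 e).symm)
    refine four_le_zpowers_sup hW4 hW2 hcU hcU2 (hcne hmove) (hcne hsq.symm) ?_ hc1 hc2
    intro e
    -- then `d` would fix a nonzero point, hence everything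
    have e2 : d k * ⁅u, d k⁆ * (d k)⁻¹ = ⁅u, d k⁆ := by
      calc d k * ⁅u, d k⁆ * (d k)⁻¹ = ⁅d k * u * (d k)⁻¹, d k⁆ := by
            simp only [commutatorElement_def]; group
        _ = _ := e.symm
    exact hdkc (four_odd_fix hW4 hW2 hdkU (hf.d_odd k) hcU (hcne hmove) e2)
  have heq : Ui = Uk := eq_of_le_of_card_ge hle (by rw [hW4, hf.plane k])
  -- the involution `a k` moves the plane and commutes with `d i`
  have haV : a k ∈ normalizer (V : Set G) := h.L_le_normV (h.J_le_L (hf.a_mem k))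
  have hakU : a k ∈ normalizer (Ui : Set G) := by
    rw [heq]
    refine mem_normalizer_of_cj (eq_of_le_of_card_ge ?_ (card_cj _ _).ge)
    rw [cj, map_le_iff_le_comap, hUk]
    refine commutator_le.2 fun v hv z hz => ?_
    show a k * ⁅v, z⁆ * (a k)⁻¹ ∈ Uk
    have hv' : a k * v * (a k)⁻¹ ∈ V := (mem_normalizer_iff.1 haV v).1 hv
    rw [show a k * ⁅v, z⁆ * (a k)⁻¹ = ⁅a k * v * (a k)⁻¹, a k * z * (a k)⁻¹⁆ by
      simp only [commutatorElement_def]; group]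
    refine hf.comm_le_plane h ?_ hv'
    have hbase : a k * d k * (a k)⁻¹ ∈ X ⊔ zpowers (d k) := by
      rw [show a k * d k * (a k)⁻¹ = a k * d k * (a k)⁻¹ * d k * (d k)⁻¹ by group]
      exact mul_mem (mem_sup_left (hf.inv k)) (mem_sup_right (inv_mem (mem_zpowers _)))
    obtain ⟨m, rfl⟩ := hz
    show a k * d k ^ m * (a k)⁻¹ ∈ _
    rw [← conj_zpow]
    exact zpow_mem hbase m
  have hdiU : d i ∈ normalizer (Ui : Set G) :=
    normalizer_commutator_ge_right V (zpowers (d i)) (mem_zpowers _)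
  have hac : a k ∉ centralizer (Ui : Set G) := by
    intro hc
    rw [heq] at hc
    have hu1 : u ≠ 1 := fun e => hmove (by rw [e]; group)
    have huk : u ∈ Uk := hle hu
    have hdk : d k ∈ normalizer (Uk : Set G) :=
      normalizer_commutator_ge_right V (zpowers (d k)) (mem_zpowers _)
    have h2 := hf.inv k
    have h3 : ∀ w ∈ Uk, (a k * d k * (a k)⁻¹ * d k) * w * (a k * d k * (a k)⁻¹ * d k)⁻¹ = w :=
      fun w hw => mul_inv_eq_iff_eq_mul.2 (h2.2 w (hf.plane_le h k hw)).symm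
    have h4 : d k * (d k * u * (d k)⁻¹) * (d k)⁻¹ = u := by
      have e := h3 u huk
      have hu' := (mem_normalizer_iff.1 hdk u).1 huk
      have hu'' := (mem_normalizer_iff.1 hdk _).1 hu'
      calc d k * (d k * u * (d k)⁻¹) * (d k)⁻¹
          = a k * (d k * (d k * u * (d k)⁻¹) * (d k)⁻¹) * (a k)⁻¹ :=
            (mul_inv_eq_iff_eq_mul.2 (hc _ hu'').symm).symm
        _ = a k * (d k * ((a k)⁻¹ * (d k * u * (d k)⁻¹) * ((a k)⁻¹)⁻¹) * (d k)⁻¹) * (a k)⁻¹ := by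
            rw [mul_inv_eq_iff_eq_mul.2 ((inv_mem hc : (a k)⁻¹ ∈ centralizer (Uk : Set G)) _ hu').symm]
        _ = _ := by
            conv_rhs => rw [← e]
            group
    apply hu1
    apply hf.fix_plane h k huk
    have h5 : (d k) ^ 2 ∈ centralizer ({u} : Set G) := by
      rw [mem_centralizer_singleton_iff, ← mul_inv_eq_iff_eq_mul]
      calc (d k) ^ 2 * u * ((d k) ^ 2)⁻¹ = d k * (d k * u * (d k)⁻¹) * (d k)⁻¹ := by
            rw [pow_two]; group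
        _ = u := h4
    obtain ⟨m, hm⟩ := exists_pow_eq_self_of_coprime (n := 2) (x := d k) (hf.d_odd k).coprime_two_left
    have h6 := pow_mem h5 m
    rw [hm, mem_centralizer_singleton_iff] at h6
    exact mul_inv_eq_iff_eq_mul.2 h6
  obtain ⟨⟨w, hw, hwa⟩, hw1⟩ := Subgroup.ne_bot_iff_exists_ne_one.1
    (CfsgLib.Amalgam.inf_centralizer_ne_bot
      (elemAb_isPGroup (elemAb_zpowers (p := 2) (x := a k) (by rw [pow_two]; exact hf.a_sq k)))
      ((elemAb_isPGroup h.elemV).to_le hUV)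
      (fun e => by rw [e, Subgroup.card_bot] at hW4; omega)
      (zpowers_le.2 hakU))
  replace hw1 : w ≠ 1 := fun e => hw1 (Subtype.ext e)
  have haw : a k * w * (a k)⁻¹ = w := mul_inv_eq_iff_eq_mul.2 (hwa (a k) (mem_zpowers _))
  have hw' := (mem_normalizer_iff.1 hdiU w).1 hw
  have haw' : a k * (d i * w * (d i)⁻¹) * (a k)⁻¹ = d i * w * (d i)⁻¹ := by
    have hx := hf.other i k hne
    calc a k * (d i * w * (d i)⁻¹) * (a k)⁻¹
        = ⁅d i, a k⁆⁻¹ * (d i * (a k * w * (a k)⁻¹) * (d i)⁻¹) * ⁅d i, a k⁆ := by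
          rw [commutatorElement_def]; group
      _ = _ := by rw [haw, ← (inv_mem hx : ⁅d i, a k⁆⁻¹ ∈ X).2 _ (hUV hw')]; group
  by_cases heqw : d i * w * (d i)⁻¹ = w
  · exact hw1 (hf.fix_plane h i hw heqw)
  · exact hac (mem_centralizer_four hW4 hW2 hw hw' hw1 (fun e => hw1 (conj_eq_one_iff.1 e))
      (Ne.symm heqw) haw haw')

theorem plane_inf {i k : ι} (hne : i ≠ k) :
    ⁅V, zpowers (d i)⁆ ⊓ ⁅V, zpowers (d k)⁆ = ⊥ :=
  (Subgroup.eq_bot_iff_forall _).2 fun _ hu => hf.fix_plane h k hu.2 (hf.plane_other h hne hu.1)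

/-! ### components -/

section Component

variable {K : Subgroup G} (hK : IsJComponent T K) (hKL : K ≤ L)
include hK hKL

theorem K_le_P : K ≤ P := by
  have hc := pre_of_isJComponent h.pT hK
  refine hc.le_of_odd_le fun x hx hxo => ?_
  exact mem_of_odd_of_sup (h.J_le_L.trans hf.L_le_normP) hc.pJ (hf.JL_le (h.K_le_JL hK hKL hx)) hxo

theorem Q_le_O : pCoreOf 2 K ≤ O := h.Q_le_O_of_le hK hKL hf (hf.K_le_P h hK hKL)

theorem not_le_X : ¬ K ≤ X := by
  intro hle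
  have hc := pre_of_isJComponent h.pT hK
  obtain ⟨d, hd, -, hdQ⟩ := hc.exists_d
  refine hdQ (hc.le_Q (h.pO.to_le ?_) le_rfl hd)
  conv_lhs => rw [← hc.comm]
  exact commutator_le.2 fun k hk j hj => h.commutator_X_T (hle hk) (thompsonOf_le T hj)

theorem mem_X_iff {k : G} (hk : k ∈ K) : k ∈ X ↔ k ∈ pCoreOf 2 K := by
  have hc := pre_of_isJComponent h.pT hK
  refine ⟨fun hkX => ?_, fun hq => h.O_le_X (hf.Q_le_O h hK hKL hq)⟩
  by_contra hkQ
  apply hf.not_le_X h hK hKL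
  rw [← hc.K_eq hk hkQ]
  exact sup_le ((hf.Q_le_O h hK hKL).trans h.O_le_X) (zpowers_le.2 hkX)

/-- Every component sits over one coordinate. -/
theorem exists_coord : ∃ i, K ≤ X ⊔ zpowers (d i) := by
  have hc := pre_of_isJComponent h.pT hK
  obtain ⟨e, he, he3, heQ⟩ := hc.exists_d
  by_contra! hcon
  refine heQ ((hf.mem_X_iff h hK hKL he).1 (hf.sep _ (hf.K_le_P h hK hKL he) fun i => ?_))
  by_contra hout
  have hcK : ⁅e, a i⁆ ∈ K := by
    rw [← hc.comm]; exact commutator_mem_commutator he (hf.a_mem i)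
  obtain ⟨n, hn⟩ := hf.coord _ (hf.K_le_P h hK hKL he) i
  have hci : ⁅e, a i⁆ ∈ X ⊔ zpowers (d i) := by
    have := mul_mem (mem_sup_left hn : ⁅e, a i⁆ * d i ^ n ∈ X ⊔ zpowers (d i))
      (mem_sup_right (inv_mem (zpow_mem (mem_zpowers (d i)) n)))
    rwa [mul_inv_cancel_right] at this
  refine hcon i ?_
  rw [← hc.K_eq hcK (fun hq => hout ((hf.mem_X_iff h hK hKL hcK).2 hq))]
  exact sup_le (((hf.Q_le_O h hK hKL).trans h.O_le_X).trans le_sup_left) (zpowers_le.2 hci)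

theorem W_le_V : wOf K ≤ V := by
  have hc := pre_of_isJComponent h.pT hK
  have hO := h.O_le_normK hK hKL
  have hOW : O ≤ normalizer (wOf K : Set G) := hO.trans (normalizer_le_normalizer_wOf K)
  have hW4 := Comp.cardW h.pT hK
  have hW2 := Comp.sqW h.pT hK
  obtain ⟨w, hw, hw1, hfix, -⟩ := four_fixed hW4 hW2 h.pO hOW
  obtain ⟨e, he, he3, -⟩ := hc.exists_d
  have hew := (mem_normalizer_iff.1 (hc.KJ_le_normW (mem_sup_left he)) w).1 hw
  refine le_omegaCenterOf hc.elemW (hc.W_le_Q.trans (hf.Q_le_O h hK hKL)) (le_centralizer_iff.1 ?_)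
  intro o ho
  refine mem_centralizer_four hW4 hW2 hw hew hw1 (fun e' => hw1 (conj_eq_one_iff.1 e'))
    (fun e' => hw1 (hc.fix_eq_one he he3 hw e'.symm)) (hfix o ho) ?_
  have hq : ⁅e, o⁆ ∈ pCoreOf 2 K := by
    refine hc.le_Q (h.pO.to_le inf_le_right) inf_le_left (mem_inf.2 ⟨?_, ?_⟩ : ⁅e, o⁆ ∈ K ⊓ O)
    · rw [commutatorElement_def, show e * o * e⁻¹ * o⁻¹ = e * (o * e⁻¹ * o⁻¹) by group]
      exact mul_mem he ((mem_normalizer_iff.1 (hO ho) _).1 (inv_mem he))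
    · exact mul_mem ((mem_normalizer_iff.1 (h.L_le_normO (hKL he)) o).1 ho) (inv_mem ho)
  have h2 := hc.Q_centralizes_W (inv_mem hq) _ hew
  calc o * (e * w * e⁻¹) * o⁻¹ = ⁅e, o⁆⁻¹ * (e * (o * w * o⁻¹) * e⁻¹) * ⁅e, o⁆ := by
        rw [commutatorElement_def]; group
    _ = e * w * e⁻¹ := by rw [hfix o ho, ← h2]; group

theorem W_eq_plane {i : ι} (hi : K ≤ X ⊔ zpowers (d i)) : wOf K = ⁅V, zpowers (d i)⁆ := by
  have hc := pre_of_isJComponent h.pT hK
  refine eq_of_le_of_card_ge (fun w hw => ?_) (by rw [hf.plane i, Comp.cardW h.pT hK])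
  obtain ⟨e, he, he3, -⟩ := hc.exists_d
  let f : wOf K → wOf K := fun v => ⟨⁅(v : G), e⁆, by
    rw [commutatorElement_def, show (v : G) * e * (v : G)⁻¹ * e⁻¹ = (v : G) * (e * (v : G)⁻¹ * e⁻¹) by group]
    exact mul_mem v.2 ((mem_normalizer_iff.1 (hc.KJ_le_normW (mem_sup_left he)) _).1 (inv_mem v.2))⟩
  have hinj : Function.Injective f := by
    intro u v huv
    have e1 : ⁅(u : G), e⁆ = ⁅(v : G), e⁆ := congrArg Subtype.val huv
    have hfix : e * ((v : G)⁻¹ * u) * e⁻¹ = (v : G)⁻¹ * u := by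
      calc e * ((v : G)⁻¹ * u) * e⁻¹ = (v : G)⁻¹ * ⁅(v : G), e⁆ * ⁅(u : G), e⁆⁻¹ * u := by
            simp only [commutatorElement_def]; group
        _ = _ := by rw [e1]; group
    exact Subtype.ext (inv_mul_eq_one.1 (hc.fix_eq_one he he3 (mul_mem (inv_mem v.2) u.2) hfix)).symm
  obtain ⟨v, hv⟩ := (Finite.injective_iff_surjective.1 hinj) ⟨w, hw⟩
  rw [← show ⁅(v : G), e⁆ = w from congrArg Subtype.val hv]
  exact hf.comm_le_plane h (hi he) (hf.W_le_V h hK hKL v.2)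

/-- `P` normalizes every component inside `L`. -/
theorem P_le_normK : P ≤ normalizer (K : Set G) := by
  have hc := pre_of_isJComponent h.pT hK
  obtain ⟨e, he, he3, heQ⟩ := hc.exists_d
  obtain ⟨i, hi⟩ := hf.exists_coord h hK hKL
  have hKP := hf.K_le_P h hK hKL
  have heX : e ∉ X := fun hx => heQ ((hf.mem_X_iff h hK hKL he).1 hx)
  have haR : a i ∉ pCoreOf 2 (K ⊔ J) := by
    intro haR
    have h1 : ⁅e, a i⁆ ∈ X := (hf.mem_X_iff h hK hKL (hc.Q_le (hc.commutator_mem_Q haR he))).2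
      (hc.commutator_mem_Q haR he)
    exact hf.d_notMem_commMod h i ((sup_le (le_commMod (hf.a_normX h i)) (zpowers_le.2
      (⟨h.L_le_normX (hKL he), h1⟩ : e ∈ commMod X (a i)))) (hf.d_mem_of_mem h (hi he) heX))
  have hinv := hc.inverts (mem_sup_right (hf.a_mem i)) haR he he3
  intro y hy
  -- kill the coordinate of `y`
  obtain ⟨y', hy', m, rfl, hy'a⟩ : ∃ y' ∈ P, ∃ m : ℤ, y = y' * e ^ m ∧ ⁅y', a i⁆ ∈ X := by
    have hdec := hf.d_mem_of_mem h (hi he) heX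
    obtain ⟨n, hn⟩ := hf.coord y hy i
    have hyc : ⁅y, a i⁆ ∈ X ⊔ zpowers e := by
      have h1 : (d i ^ n)⁻¹ ∈ X ⊔ zpowers e := inv_mem (zpow_mem hdec n)
      have := mul_mem (mem_sup_left hn : _ ∈ X ⊔ zpowers e) h1
      rwa [mul_inv_cancel_right] at this
    obtain ⟨x, hx, z, hz, hxz⟩ := CfsgLib.Comp.exists_mul_of_mem_sup
      (zpowers_le.2 (h.L_le_normX (hKL he))) hyc
    obtain ⟨r, rfl⟩ := hz
    refine ⟨y * e ^ r, mul_mem hy (hKP (zpow_mem he r)), -r, by group, ?_⟩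
    -- modulo `X`: `[y e^r, a] = e^(2r) e^r = e^(3r) = 1`
    replace hxz : x * e ^ r = ⁅y, a i⁆ := hxz
    have h3 : e ^ (3 * r) = 1 := by
      rw [zpow_mul, show e ^ (3 : ℤ) = 1 by
        rw [zpow_ofNat, show (3 : ℕ) = orderOf e from he3.symm, pow_orderOf_eq_one], one_zpow]
    have hnX : ∀ g ∈ L, ∀ q ∈ X, g * q * g⁻¹ ∈ X := fun g hg q hq =>
      (mem_normalizer_iff.1 (h.L_le_normX hg) q).1 hq
    have hq : ⁅e ^ r, a i⁆ * e ^ (-(2 * r)) ∈ X := by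
      -- `a e^r a⁻¹ ≡ e^(-r)` modulo `Q`
      have hinvr : ∀ r : ℤ, a i * e ^ r * (a i)⁻¹ * e ^ r ∈ X := by
        intro r
        have hXn : zpowers e ≤ normalizer (X : Set G) := zpowers_le.2 (h.L_le_normX (hKL he))
        have hb : a i * e * (a i)⁻¹ * e ∈ X := h.O_le_X (hf.Q_le_O h hK hKL hinv)
        induction r using Int.induction_on with
        | zero => simp
        | succ r ih =>
          rw [show a i * e ^ ((r : ℤ) + 1) * (a i)⁻¹ * e ^ ((r : ℤ) + 1) =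
            (a i * e * (a i)⁻¹) * (a i * e ^ (r : ℤ) * (a i)⁻¹ * e ^ (r : ℤ)) * (a i * e * (a i)⁻¹)⁻¹ *
              (a i * e * (a i)⁻¹ * e) by group]
          exact mul_mem (hnX _ (mul_mem (mul_mem (h.J_le_L (hf.a_mem i)) (hKL he))
            (inv_mem (h.J_le_L (hf.a_mem i)))) _ ih) hb
        | pred r ih =>
          rw [show a i * e ^ (-(r : ℤ) - 1) * (a i)⁻¹ * e ^ (-(r : ℤ) - 1) =
            (a i * e⁻¹ * (a i)⁻¹) * (a i * e ^ (-(r : ℤ)) * (a i)⁻¹ * e ^ (-(r : ℤ))) *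
              (a i * e⁻¹ * (a i)⁻¹)⁻¹ * (e * (a i * e * (a i)⁻¹ * e)⁻¹ * e⁻¹) by group]
          refine mul_mem (hnX _ (mul_mem (mul_mem (h.J_le_L (hf.a_mem i)) (inv_mem (hKL he)))
            (inv_mem (h.J_le_L (hf.a_mem i)))) _ ih) ?_
          refine (mem_normalizer_iff.1 ?_ _).1 (inv_mem hb)
          exact h.L_le_normX (hKL he)
      rw [show ⁅e ^ r, a i⁆ * e ^ (-(2 * r)) =
          e ^ r * (a i * e ^ (-r) * (a i)⁻¹ * e ^ (-r)) * (e ^ r)⁻¹ by
        simp only [commutatorElement_def]; group]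
      exact hnX _ (hKL (zpow_mem he r)) _ (hinvr (-r))
    have hyL : y ∈ L := hf.P_le hy
    have hs : ⁅y * e ^ r, a i⁆ = y * ⁅e ^ r, a i⁆ * y⁻¹ * ⁅y, a i⁆ := by
      simp only [commutatorElement_def]; group
    rw [hs, ← hxz]
    have hq1 := hnX y hyL _ hq
    have hy2 : ⁅y, e ^ (2 * r)⁆ ∈ X := hf.comm _ hy _ (hKP (zpow_mem he _))
    have e1 : y * ⁅e ^ r, a i⁆ * y⁻¹ * (x * e ^ r) =
        (y * (⁅e ^ r, a i⁆ * e ^ (-(2 * r))) * y⁻¹) * ⁅y, e ^ (2 * r)⁆ *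
          (e ^ (2 * r) * x * (e ^ (2 * r))⁻¹) * e ^ (3 * r) := by
      simp only [commutatorElement_def]; group
    rw [e1, h3, mul_one]
    exact mul_mem (mul_mem hq1 hy2) (hnX _ (hKL (zpow_mem he _)) _ hx)
  refine mul_mem ?_ (le_normalizer (zpow_mem he m))
  -- `[e, y'] ∈ O`
  have hy'L : y' ∈ L := hf.P_le hy'
  have heL : e ∈ L := hKL he
  set c := ⁅y', a i⁆ with hc'
  have hxe : ⁅e, y'⁆ ∈ X := hf.comm _ (hKP he) _ hy'
  have hPJL : P ≤ JL ⊔ O := hf.P_le_JL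
  have hOn : ∀ g ∈ L, ∀ q ∈ O, g * q * g⁻¹ ∈ O := fun g hg q hq =>
    (mem_normalizer_iff.1 (h.L_le_normO hg) q).1 hq
  have haL : a i ∈ L := h.J_le_L (hf.a_mem i)
  set Oq : Subgroup L := (pCoreOf 2 L).subgroupOf L
  haveI : Oq.Normal := CfsgLib.Coprime.normal_subgroupOf_of_le_normalizer h.L_le_normO
  let π := QuotientGroup.mk' Oq
  have hπ : ∀ (g : G) (hg : g ∈ L), π ⟨g, hg⟩ = 1 ↔ g ∈ O := fun g hg => QuotientGroup.eq_one_iff _
  set E : L ⧸ Oq := π ⟨e, heL⟩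
  set Y : L ⧸ Oq := π ⟨y', hy'L⟩
  set A : L ⧸ Oq := π ⟨a i, haL⟩
  have hcent : ∀ (g x : G) (hg : g ∈ L) (hx : x ∈ L), g ∈ X → x ∈ JL ⊔ O →
      π ⟨g, hg⟩ * π ⟨x, hx⟩ = π ⟨x, hx⟩ * π ⟨g, hg⟩ := by
    intro g x hg hx hgX hxJ
    rw [← commutatorElement_eq_one_iff_mul_comm, ← map_commutatorElement]
    exact (hπ _ _).2 (h.commutator_X_JL hgX hxJ)
  have hxeL : ⁅e, y'⁆ ∈ L := hxe.1
  have hcX : c ∈ X := hy'a
  have hcL : c ∈ L := hcX.1
  have haJ : a i ∈ JL ⊔ O := mem_sup_left (h.J_le_JL (hf.a_mem i))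
  have hA1 : A * E * A⁻¹ = E⁻¹ := by
    rw [eq_inv_iff_mul_eq_one]
    show π ⟨a i, haL⟩ * π ⟨e, heL⟩ * (π ⟨a i, haL⟩)⁻¹ * π ⟨e, heL⟩ = 1
    rw [← map_inv, ← map_mul, ← map_mul, ← map_mul]
    exact (hπ _ _).2 (hf.Q_le_O h hK hKL hinv)
  have hA2 : A * Y * A⁻¹ = (π ⟨c, hcL⟩)⁻¹ * Y := by
    show π ⟨a i, haL⟩ * π ⟨y', hy'L⟩ * (π ⟨a i, haL⟩)⁻¹ = (π ⟨c, hcL⟩)⁻¹ * π ⟨y', hy'L⟩
    rw [← map_inv, ← map_inv, ← map_mul, ← map_mul, ← map_mul]
    congr 1
    refine Subtype.ext ?_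
    show a i * y' * (a i)⁻¹ = c⁻¹ * y'
    rw [hc', commutatorElement_def]; group
  set Ex : L ⧸ Oq := π ⟨⁅e, y'⁆, hxeL⟩
  have hEx : Ex = ⁅E, Y⁆ := by
    rw [← map_commutatorElement]
    rfl
  have hfix : A * Ex * A⁻¹ = Ex := by
    rw [mul_inv_eq_iff_eq_mul]; exact (hcent _ _ hxeL haL hxe haJ).symm
  have hEE : E * Ex = Ex * E := (hcent _ _ hxeL heL hxe (hPJL (hKP he))).symm
  have hcE : π ⟨c, hcL⟩ * E = E * π ⟨c, hcL⟩ := hcent _ _ hcL heL hcX (hPJL (hKP he))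
  have hsq : Ex * Ex = 1 := by
    have h1 : A * Ex * A⁻¹ = Ex⁻¹ := by
      calc A * Ex * A⁻¹ = ⁅A * E * A⁻¹, A * Y * A⁻¹⁆ := by
            rw [hEx]; simp only [commutatorElement_def]; group
        _ = ⁅E⁻¹, (π ⟨c, hcL⟩)⁻¹ * Y⁆ := by rw [hA1, hA2]
        _ = (E⁻¹ * (π ⟨c, hcL⟩)⁻¹ * E) * ⁅E⁻¹, Y⁆ * π ⟨c, hcL⟩ := by
            simp only [commutatorElement_def]; group
        _ = (π ⟨c, hcL⟩)⁻¹ * ⁅E⁻¹, Y⁆ * π ⟨c, hcL⟩ := by
            congr 2
            rw [mul_assoc, ← mul_inv_cancel_left E⁻¹ ((π ⟨c, hcL⟩)⁻¹ * E)]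
            rw [show (π ⟨c, hcL⟩)⁻¹ * E = E * (π ⟨c, hcL⟩)⁻¹ from
              (Commute.inv_left (show Commute (π ⟨c, hcL⟩) E from hcE)).eq]
            group
        _ = (π ⟨c, hcL⟩)⁻¹ * (E⁻¹ * Ex⁻¹ * E) * π ⟨c, hcL⟩ := by
            rw [hEx]; simp only [commutatorElement_def]; group
        _ = Ex⁻¹ := by
            have e1 : E⁻¹ * Ex⁻¹ * E = Ex⁻¹ := by
              have hce : Commute Ex⁻¹ E := Commute.inv_left (show Commute Ex E from hEE.symm)
              rw [mul_assoc, hce.eq, inv_mul_cancel_left]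
            rw [e1]
            have := hcent _ _ hcL hxeL hcX (hPJL (hf.L_le_normP heL |> fun _ =>
              mul_mem (mul_mem (mul_mem (hKP he) hy') (inv_mem (hKP he))) (inv_mem hy')))
            have hcc : Commute (π ⟨c, hcL⟩) Ex⁻¹ := Commute.inv_right (show Commute _ Ex from this)
            rw [mul_assoc, ← hcc.eq, inv_mul_cancel_left]
    rw [hfix] at h1
    conv_lhs => arg 2; rw [h1]
    exact mul_inv_cancel Ex
  have heyP : ⁅e, y'⁆ ∈ P :=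
    mul_mem (mul_mem (mul_mem (hKP he) hy') (inv_mem (hKP he))) (inv_mem hy')
  have hey : ⁅e, y'⁆ ∈ O := by
    have h2 : ⁅e, y'⁆ * ⁅e, y'⁆ ∈ O := by
      refine (hπ _ (mul_mem hxeL hxeL)).1 ?_
      rw [show (⟨⁅e, y'⁆ * ⁅e, y'⁆, _⟩ : L) = ⟨⁅e, y'⁆, hxeL⟩ * ⟨⁅e, y'⁆, hxeL⟩ from rfl, map_mul]
      exact hsq
    have hz : IsPGroup 2 ↥(zpowers ⁅e, y'⁆) := by
      obtain ⟨n, hn⟩ := h.pO ⟨_, h2⟩
      rintro ⟨z, m, rfl⟩
      refine ⟨n + 1, Subtype.ext ?_⟩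
      show (⁅e, y'⁆ ^ m) ^ 2 ^ (n + 1) = 1
      rw [← zpow_natCast, ← zpow_mul, mul_comm, zpow_mul, zpow_natCast, pow_succ', pow_mul, pow_two,
        show (⁅e, y'⁆ * ⁅e, y'⁆) ^ 2 ^ n = 1 from congrArg Subtype.val hn, one_zpow]
    exact hf.two _ hz (zpowers_le.2 heyP) (mem_zpowers _)
  refine mem_normalizer_of_cj (eq_of_le_of_card_ge ?_ (card_cj _ _).ge)
  rw [cj, map_le_iff_le_comap]
  refine hc.le_of_odd_le fun z hz hzo => ?_
  have hle : K ≤ (K ⊔ O).comap (MulAut.conj y').toMonoidHom := by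
    refine (hc.K_eq he heQ).ge.trans (sup_le (fun q hq => ?_) (zpowers_le.2 ?_))
    · exact mem_sup_right (hOn y' hy'L q (hf.Q_le_O h hK hKL hq))
    · show y' * e * y'⁻¹ ∈ K ⊔ O
      rw [show y' * e * y'⁻¹ = ⁅e, y'⁆⁻¹ * e by rw [commutatorElement_def]; group]
      exact mul_mem (mem_sup_right (inv_mem hey)) (mem_sup_left he)
  exact h.mem_of_odd_O (h.O_le_normK hK hKL) (hle hz) (by
    rwa [MulEquiv.coe_toMonoidHom, MulEquiv.orderOf_eq])

theorem JL_le_normK : JL ≤ normalizer (K : Set G) :=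
  hf.JL_le.trans (sup_le (hf.P_le_normK h hK hKL) (le_normalizer_of_commutator_eq hK.2.1))

/-- A component is determined by its coordinate. -/
theorem eq_of_coord {K' : Subgroup G} (hK' : IsJComponent T K') (hKL' : K' ≤ L) {i : ι}
    (hi : K ≤ X ⊔ zpowers (d i)) (hi' : K' ≤ X ⊔ zpowers (d i)) : K' ≤ K := by
  have hc := pre_of_isJComponent h.pT hK
  have hc' := pre_of_isJComponent h.pT hK'
  obtain ⟨e, he, -, heQ⟩ := hc.exists_d
  have hdec := hf.d_mem_of_mem h (hi he) (fun hx => heQ ((hf.mem_X_iff h hK hKL he).1 hx))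
  have hle : K' ≤ (X ⊓ P) ⊔ K := fun k hk => by
    obtain ⟨x, hx, z, hz, rfl⟩ := CfsgLib.Comp.exists_mul_of_mem_sup
      (zpowers_le.2 (h.L_le_normX (hKL he)))
      ((sup_le le_sup_left (zpowers_le.2 hdec) : X ⊔ zpowers (d i) ≤ X ⊔ zpowers e) (hi' hk))
    have hzK : z ∈ K := zpowers_le.2 he hz
    exact mul_mem (mem_sup_left ⟨hx, (mul_mem_cancel_right (hf.K_le_P h hK hKL hzK)).1
      (hf.K_le_P h hK' hKL' hk)⟩) (mem_sup_right hzK)
  have hn : X ⊓ P ≤ normalizer (K : Set G) := inf_le_right.trans (hf.P_le_normK h hK hKL)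
  have h2 : K' ≤ K ⊔ O := by
    conv_lhs => rw [← hc'.comm]
    refine commutator_le.2 fun k hk j hj => ?_
    have hk' := hle hk
    rw [sup_comm] at hk'
    obtain ⟨z, hz, x, hx, rfl⟩ := CfsgLib.Comp.exists_mul_of_mem_sup hn hk'
    rw [show ⁅z * x, j⁆ = z * ⁅x, j⁆ * z⁻¹ * ⁅z, j⁆ by simp only [commutatorElement_def]; group]
    refine mul_mem (mul_mem (mul_mem (mem_sup_left hz)
      (mem_sup_right (h.commutator_X_T hx.1 (thompsonOf_le T hj)))) (mem_sup_left (inv_mem hz))) ?_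
    exact mem_sup_left (hc.comm ▸ commutator_mem_commutator hz hj)
  exact hc'.le_of_odd_le fun x hx hxo => h.mem_of_odd_O (h.O_le_normK hK hKL) (h2 hx) hxo

end Component

/-- `L = P N_L(J(T))`. -/
theorem exists_mul {g : G} (hg : g ∈ L) :
    ∃ p ∈ P, ∃ n ∈ L ⊓ normalizer (J : Set G), g = p * n := by
  obtain ⟨j, hj, hgj⟩ := h.exists_cj_J hg
  obtain ⟨p, hp, j0, hj0, rfl⟩ := CfsgLib.Comp.exists_mul_of_mem_sup
    (h.J_le_L.trans hf.L_le_normP) (hf.JL_le hj)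
  refine ⟨p, hp, p⁻¹ * g, mem_inf.2 ⟨mul_mem (inv_mem (hf.P_le hp)) hg, mem_normalizer_of_cj ?_⟩, by group⟩
  rw [← cj_cj, hgj, ← cj_cj p j0, cj_inv_cj, cj_eq_self (le_normalizer hj0)]

end Frame

end CfsgLib.ClassK.ZN
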