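import Cfsg.Agent.Lib.ClassK.ZNSide

/-!
The amalgam of two sides without a common `2`-local subgroup: the four-groups do not commute, and
then both `C_T(W)` are the groups `Ω₁(Z(J(T))) W`.
-/

set_option autoImplicit false
set_option linter.unusedSectionVars false

namespace CfsgLib.ClassK.ZN

open Cfsg Subgroup CfsgLib.PLocal
open scoped commutatorElement

universe u

variable {G : Type u} [Group G]

/-- Two sides with no common `2`-local overgroup. -/
structure Pair (T : Subgroup G) (K : Bool → Subgroup G) : Prop where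
  side : ∀ b, Side T (K b)
  noCommon : ∀ R : Subgroup G, IsPGroup 2 R →
    (∀ b, K b ⊔ T ≤ normalizer (R : Set G)) → R = ⊥
  big : ∃ B : Subgroup G, IsPGroup 2 B ∧ ∀ R : Subgroup G, IsPGroup 2 R →
    R ≤ centralizer (Zof T : Set G) → R ≤ B

variable [Finite G]

/-- Two sides whose four-groups do not commute have the same point. -/
theorem Wz_eq_of_noncomm {T K K' : Subgroup G} (s : Side T K) (s' : Side T K')
    (hZ : T ≤ centralizer (Zof T : Set G)) (h : ¬ wOf K' ≤ centralizer (wOf K : Set G)) :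
    Wz T K = Wz T K' := by
  obtain ⟨t, ht, htc⟩ := SetLike.not_le_iff_exists.1 h
  obtain ⟨r, hr, hne⟩ : ∃ r ∈ wOf K, ⁅t, r⁆ ≠ 1 := by
    by_contra! hcon
    exact htc fun r hr => (commutatorElement_eq_one_iff_mul_comm.1 (hcon r hr)).symm
  have h1 := s.commutator_mem hZ (s'.W_le_T ht) (mem_sup_right hr : r ∈ Yof T K)
  have h2 : ⁅t, r⁆ ∈ Wz T K' := by
    rw [← commutatorElement_inv]
    exact inv_mem (s'.commutator_mem hZ (s.W_le_T hr) (mem_sup_right ht : t ∈ Yof T K'))
  have hg : ∀ L : Subgroup G, Nat.card L = 2 → ⁅t, r⁆ ∈ L → zpowers ⁅t, r⁆ = L := fun L hL hm =>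
    eq_of_le_of_card_ge (zpowers_le.2 hm) (by
      rw [hL, Nat.card_zpowers]
      have h0 := orderOf_pos ⁅t, r⁆
      rcases Nat.lt_or_ge (orderOf ⁅t, r⁆) 2 with h3 | h3
      · exact absurd (orderOf_eq_one_iff.1 (by omega)) hne
      · exact h3)
  rw [← hg _ s.card_Wz h1, hg _ s'.card_Wz h2]

namespace Pair

variable {T : Subgroup G} {K : Bool → Subgroup G} (p : Pair T K)

local notation "Γ" => (K false ⊔ T) ⊔ (K true ⊔ T)

include p

theorem inf_Zc (b : Bool) : Zc T (K b) ⊓ Zc T (K (!b)) = ⊥ := by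
  refine p.noCommon _ ((elemAb_isPGroup (elemAb_omegaCenterOf _)).to_le
    (inf_le_left.trans inf_le_left)) fun c => ?_
  have hT : ∀ x : Bool, T ≤ normalizer (Zc T (K x) : Set G) := fun x =>
    le_trans (le_inf (p.side x).T_le_normZ ((p.side x).T_le_normK.trans
      (CfsgLib.Comp.normalizer_le_normalizer_centralizer _))) inf_normalizer_le_normalizer_inf
  refine sup_le ?_ (le_trans (le_inf (hT b) (hT !b)) inf_normalizer_le_normalizer_inf)
  refine le_trans ?_ (centralizer_le_normalizer _)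
  rw [le_centralizer_iff]
  cases b <;> cases c
  exacts [inf_le_left.trans inf_le_right, inf_le_right.trans inf_le_right,
    inf_le_right.trans inf_le_right, inf_le_left.trans inf_le_right]

theorem card_Zc_le (b : Bool) : Nat.card (Zc T (K b)) ≤ 2 := by
  have h0 : ∀ x, Nat.card (Zof T) = 2 * Nat.card (Zc T (K x)) := fun x => (p.side x).card_Z
  have h1 := card_mul_le_card_sup_mul_inf (Zc T (K b)) (Zc T (K (!b)))
  rw [p.inf_Zc b, Subgroup.card_bot, mul_one] at h1
  have h2 : Nat.card ↥(Zc T (K b) ⊔ Zc T (K (!b))) ≤ Nat.card (Zof T) :=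
    card_le_of_le (sup_le inf_le_left inf_le_left)
  have h4 := h1.trans h2
  have e1 := h0 b
  have e2 := h0 (!b)
  have h6 : Nat.card (Zc T (K b)) = Nat.card (Zc T (K (!b))) := by omega
  rw [← h6, e1] at h4
  exact Nat.le_of_mul_le_mul_right h4 Nat.card_pos

theorem T_centralizes : T ≤ centralizer (Zof T : Set G) :=
  (p.side true).card_Zc_le_two_centralizes (p.card_Zc_le true)

/-- A `2`-group centralizing a conjugate of `Ω₁(Z(J(T))) W` lies in that conjugate of `C_T(W)`. -/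
theorem le_Qof {b : Bool} {R : Subgroup G} (hR : IsPGroup 2 R) {g : G}
    (h : R ≤ centralizer (cj g (Yof T (K b)) : Set G)) : R ≤ cj g (Qof T (K b)) := by
  set s := p.side b
  have hZ := p.T_centralizes
  suffices key : ∀ R : Subgroup G, IsPGroup 2 R → R ≤ centralizer (Yof T (K b) : Set G) →
      R ≤ Qof T (K b) by
    have h1 : cj g⁻¹ R ≤ centralizer (Yof T (K b) : Set G) := by
      have := cj_mono (g := g⁻¹) h
      rwa [cj_centralizer, cj_inv_cj] at this
    have h2 := cj_mono (g := g) (key _ (isPGroup_cj _ hR) h1)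
    rwa [cj_cj_inv] at h2
  intro R hR h
  obtain ⟨B, hB, hBle⟩ := p.big
  have hQ : Qof T (K b) ≤ centralizer (Yof T (K b) : Set G) := s.Q_centralizes_Y hZ
  have hQp : IsPGroup 2 (Qof T (K b)) := s.pT.to_le inf_le_left
  have hCZ : centralizer (Yof T (K b) : Set G) ≤ centralizer (Zof T : Set G) :=
    centralizer_le (SetLike.coe_subset_coe.2 le_sup_left)
  set U := R ⊔ Qof T (K b)
  have hUp : IsPGroup 2 U :=
    hB.to_le (sup_le (hBle R hR (h.trans hCZ)) (hBle _ hQp (hQ.trans hCZ)))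
  have hUC : U ≤ centralizer (wOf (K b) : Set G) :=
    (sup_le h hQ).trans (centralizer_le (SetLike.coe_subset_coe.2 le_sup_right))
  have hUN : U ≤ normalizer (K b : Set G) :=
    (hUC.trans (centralizer_le_normalizer _)).trans s.normW
  obtain ⟨y, hy, hUy⟩ := exists_cj_of_isSylowTwoIn s.syl hUp hUN
  have h2 : U ≤ cj y (Qof T (K b)) := by
    rw [cj_inf, cj_centralizer, cj_eq_self (normalizer_le_normalizer_wOf (K b) hy)]
    exact le_inf hUy hUC
  have h3 : Qof T (K b) = U :=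
    eq_of_le_of_card_ge le_sup_right ((card_le_of_le h2).trans (card_cj _ _).le)
  exact le_sup_left.trans h3.ge

theorem exists_mem_Q_not_mem (b : Bool) : ∃ q ∈ Qof T (K b), q ∉ Qof T (K (!b)) := by
  by_contra! hcon
  have hle : Qof T (K b) ≤ Qof T (K (!b)) := hcon
  have h1 := (p.side b).card_T
  have h2 := (p.side (!b)).card_T
  have heq : Qof T (K b) = Qof T (K (!b)) := eq_of_le_of_card_ge hle (by omega)
  have h3 : Qof T (K b) = ⊥ := by
    refine p.noCommon _ ((p.side b).pT.to_le inf_le_left) fun c => ?_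
    cases b <;> cases c
    · exact (p.side false).P_le_normQ
    · rw [heq]; exact (p.side true).P_le_normQ
    · rw [heq]; exact (p.side false).P_le_normQ
    · exact (p.side true).P_le_normQ
  obtain ⟨w, hw, hw1, -⟩ := (p.side b).exists_point
  refine hw1 (mem_bot.1 (h3 ▸ ?_))
  exact (p.side b).Y_le_Q p.T_centralizes (mem_sup_right hw)

theorem mem_of_side {c : Bool} {g : G} (hg : g ∈ K c ⊔ T) : g ∈ Γ := by
  cases c
  exacts [mem_sup_left hg, mem_sup_right hg]

/-- A word in the two sides moving one `Ω₁(Z(J(T))) W` off the centralizer of one. -/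
theorem exists_failing_word :
    ∃ l : List G, (∀ x ∈ l, ∃ c, x ∈ K c ⊔ T) ∧
      ∃ i j, ¬ cj l.prod (Yof T (K j)) ≤ centralizer (Yof T (K i) : Set G) := by
  by_contra! hcon
  let H : Subgroup G :=
    { carrier := {g | ∃ l : List G, (∀ x ∈ l, ∃ c, x ∈ K c ⊔ T) ∧ g = l.prod}
      one_mem' := ⟨[], by simp, rfl⟩
      mul_mem' := by
        rintro _ _ ⟨l, hl, rfl⟩ ⟨l', hl', rfl⟩
        exact ⟨l ++ l', fun x hx => (List.mem_append.1 hx).elim (hl x) (hl' x), List.prod_append.symm⟩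
      inv_mem' := by
        rintro _ ⟨l, hl, rfl⟩
        refine ⟨(l.map (·⁻¹)).reverse, fun x hx => ?_, List.prod_inv_reverse l⟩
        rw [List.mem_reverse, List.mem_map] at hx
        obtain ⟨y, hy, rfl⟩ := hx
        exact (hl y hy).imp fun c => inv_mem }
  have hΓ : Γ ≤ H := sup_le
    (fun x hx => ⟨[x], fun y hy => ⟨false, by rwa [List.mem_singleton.1 hy]⟩, by simp⟩)
    (fun x hx => ⟨[x], fun y hy => ⟨true, by rwa [List.mem_singleton.1 hy]⟩, by simp⟩)
  set Y : Subgroup G := ⨆ q : ↥(Γ) × Bool, cj (q.1 : G) (Yof T (K q.2)) with hY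
  have hYab : Y ≤ centralizer (Y : Set G) := by
    refine iSup_le fun q => ?_
    rw [le_centralizer_iff]
    refine iSup_le fun q' => ?_
    obtain ⟨l, hl, hle⟩ := hΓ (mul_mem (inv_mem q.1.2) q'.1.2)
    have h1 := cj_mono (g := (q.1 : G)) (hcon l hl q.2 q'.2)
    rwa [← hle, cj_cj, mul_inv_cancel_left, cj_centralizer] at h1
  have hYe : IsElementaryAbelian 2 Y := by
    refine ⟨⟨⟨fun a b => Subtype.ext (hYab b.2 a a.2)⟩⟩, ?_⟩
    let Sq : Subgroup G :=
      { carrier := {x | x ∈ Y ∧ x ^ 2 = 1}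
        one_mem' := ⟨one_mem _, one_pow 2⟩
        mul_mem' := fun {a b} ha hb => ⟨mul_mem ha.1 hb.1, by
          rw [(show Commute a b from hYab hb.1 a ha.1).mul_pow, ha.2, hb.2, one_mul]⟩
        inv_mem' := fun {a} ha => ⟨inv_mem ha.1, by rw [inv_pow, ha.2, inv_one]⟩ }
    have hle : Y ≤ Sq := iSup_le fun q x hx => by
      refine ⟨(le_iSup (fun q : ↥(Γ) × Bool => cj (q.1 : G) (Yof T (K q.2))) q) hx, ?_⟩
      exact (elemAb_map _ (p.side q.2).elemY).2 x hx
    exact fun x hx => (hle hx).2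
  have hn : ∀ g ∈ Γ, g ∈ normalizer (Y : Set G) := by
    intro g hg
    refine mem_normalizer_of_cj (eq_of_le_of_card_ge ?_ (card_cj _ _).ge)
    rw [hY, cj, Subgroup.map_iSup]
    refine iSup_le fun q => ?_
    refine le_trans ?_ (le_iSup (fun q : ↥(Γ) × Bool => cj (q.1 : G) (Yof T (K q.2)))
      (⟨g * q.1, mul_mem hg q.1.2⟩, q.2))
    exact (cj_cj g q.1 _).le
  have h0 := p.noCommon Y (elemAb_isPGroup hYe) fun c x hx => hn x (p.mem_of_side hx)
  obtain ⟨w, hw, hw1, -⟩ := (p.side true).exists_point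
  refine hw1 (mem_bot.1 (h0 ▸ ?_))
  refine (le_iSup (fun q : ↥(Γ) × Bool => cj (q.1 : G) (Yof T (K q.2))) (⟨1, one_mem _⟩, true)) ?_
  show w ∈ cj 1 (Yof T (K true))
  rw [cj_one]
  exact mem_sup_right hw

/-- `Q_b = Ω₁(Z(J(T))) W_b` when the four-groups do not commute. -/
theorem Q_eq_Y (h : ¬ wOf (K false) ≤ centralizer (wOf (K true) : Set G)) (b : Bool) :
    Qof T (K b) = Yof T (K b) := by
  have hZ := p.T_centralizes
  have hnc : ¬ wOf (K (!b)) ≤ centralizer (wOf (K b) : Set G) := by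
    cases b
    · exact fun e => h (le_centralizer_iff.1 e)
    · exact h
  set D := Qof T (K false) ⊓ Qof T (K true)
  -- `D` has index two in both
  have hdec : ∀ c, ∃ r ∈ Qof T (K c), r * r = 1 ∧ (∀ q ∈ Qof T (K c), r * q = q * r) ∧
      ∀ q ∈ Qof T (K c), q ∈ D ∨ r * q ∈ D := by
    intro c
    have hnc' : ¬ wOf (K c) ≤ centralizer (wOf (K (!c)) : Set G) := by
      cases c
      · exact h
      · exact fun e => h (le_centralizer_iff.1 e)
    obtain ⟨r, hr, hrc⟩ := SetLike.not_le_iff_exists.1 hnc'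
    have hrQ : r ∈ Qof T (K c) := (p.side c).Y_le_Q hZ (mem_sup_right hr)
    refine ⟨r, hrQ, (p.side c).sqW r hr, fun q hq => hq.2 r hr, fun q hq => ?_⟩
    by_cases hq' : q ∈ Qof T (K (!c))
    · left
      cases c
      exacts [⟨hq, hq'⟩, ⟨hq', hq⟩]
    · right
      have h1 := (p.side (!c)).mul_mem_Q hrQ.1 hq.1 (fun e => hrc e.2) hq'
      cases c
      exacts [⟨mul_mem hrQ hq, h1⟩, ⟨h1, mul_mem hrQ hq⟩]
  set F := closure {x : G | ∃ q ∈ D, x = q * q}
  have hF : ∀ c, F = closure {x : G | ∃ q ∈ Qof T (K c), x = q * q} := by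
    intro c
    refine le_antisymm (closure_mono ?_) ((closure_le _).2 ?_)
    · rintro _ ⟨q, hq, rfl⟩
      refine ⟨q, ?_, rfl⟩
      cases c
      exacts [hq.1, hq.2]
    · rintro _ ⟨q, hq, rfl⟩
      obtain ⟨r, -, hr2, hrc, hcase⟩ := hdec c
      rcases hcase q hq with h1 | h1
      · exact subset_closure ⟨q, h1, rfl⟩
      · refine subset_closure ⟨r * q, h1, ?_⟩
        rw [show r * q * (r * q) = r * (q * r) * q by group, ← hrc q hq, ← mul_assoc, hr2, one_mul]
  have hF1 : F = ⊥ := by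
    refine p.noCommon F ((p.side false).pT.to_le ((closure_le _).2 ?_)) fun c g hg => ?_
    · rintro _ ⟨q, hq, rfl⟩
      exact mul_mem hq.1.1 hq.1.1
    · rw [hF c]
      refine mem_normalizer_of_cj (eq_of_le_of_card_ge ?_ (card_cj _ _).ge)
      rw [cj, MonoidHom.map_closure]
      refine closure_mono ?_
      rintro _ ⟨_, ⟨q, hq, rfl⟩, rfl⟩
      exact ⟨g * q * g⁻¹, (mem_normalizer_iff.1 ((p.side c).P_le_normQ hg) q).1 hq, map_mul _ _ _⟩
  have hsq : ∀ c, ∀ q ∈ Qof T (K c), q * q = 1 := fun c q hq => by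
    rw [← mem_bot, ← hF1, hF c]
    exact subset_closure ⟨q, hq, rfl⟩
  have hab : ∀ c, ∀ a ∈ Qof T (K c), ∀ b ∈ Qof T (K c), a * b = b * a := fun c a ha b hb => by
    have e := hsq c _ (mul_mem ha hb)
    have ea : a⁻¹ = a := inv_eq_of_mul_eq_one_right (hsq c a ha)
    have eb : b⁻¹ = b := inv_eq_of_mul_eq_one_right (hsq c b hb)
    rw [← inv_eq_of_mul_eq_one_right e, mul_inv_rev, ea, eb]
  -- `T = C_T(W_b) W_o`
  obtain ⟨v, hv, hvc⟩ := SetLike.not_le_iff_exists.1 hnc
  have hvT : v ∈ T := (p.side (!b)).W_le_T hv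
  have hvQ : v ∉ Qof T (K b) := fun e => hvc e.2
  have hvQ' : v ∈ Qof T (K (!b)) := (p.side (!b)).Y_le_Q hZ (mem_sup_right hv)
  have hDc : ∀ x ∈ D, ∀ t ∈ T, t * x = x * t := by
    intro x hx t ht
    have hx' : ∀ c, x ∈ Qof T (K c) := fun c => by
      cases c
      exacts [hx.1, hx.2]
    by_cases htQ : t ∈ Qof T (K b)
    · exact hab b t htQ x (hx' b)
    · have h1 : t * v ∈ Qof T (K b) := (p.side b).mul_mem_Q ht hvT htQ hvQ
      have e1 := hab b _ h1 x (hx' b)
      have e2 := hab (!b) v hvQ' x (hx' !b)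
      refine mul_right_cancel (b := v) ?_
      calc t * x * v = t * (v * x) := by rw [mul_assoc, e2]
        _ = x * (t * v) := by rw [← mul_assoc, e1]
        _ = x * t * v := by rw [mul_assoc]
  have hDZ : D ≤ Zof T := by
    intro x hx
    have hx2 : x ^ 2 = 1 := by rw [pow_two]; exact hsq false x hx.1
    obtain ⟨A, hA⟩ := exists_maxElemIn 2 T
    refine mem_omegaCenterOf (le_thompsonOf hA (mem_maxElemIn_of_centralizes hA hx.1.1 hx2
      fun y hy => hDc x hx y (hA.1 hy))) hx2 fun y hy => hDc x hx y (thompsonOf_le T hy)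
  refine le_antisymm (fun q hq => ?_) ((p.side b).Y_le_Q hZ)
  obtain ⟨r, hr, hrc⟩ := SetLike.not_le_iff_exists.1
    (show ¬ wOf (K b) ≤ centralizer (wOf (K (!b)) : Set G) from fun e => hnc (le_centralizer_iff.1 e))
  have hrQ : r ∈ Qof T (K b) := (p.side b).Y_le_Q hZ (mem_sup_right hr)
  by_cases hq' : q ∈ Qof T (K (!b))
  · refine mem_sup_left (hDZ ?_)
    cases b
    exacts [⟨hq, hq'⟩, ⟨hq', hq⟩]
  · have h1 := (p.side (!b)).mul_mem_Q hrQ.1 hq.1 (fun e => hrc e.2) hq'
    have h2 : r * q ∈ D := by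
      cases b
      exacts [⟨mul_mem hrQ hq, h1⟩, ⟨h1, mul_mem hrQ hq⟩]
    have := mul_mem (inv_mem (mem_sup_right hr : r ∈ Yof T (K b))) (mem_sup_left (hDZ h2))
    rwa [inv_mul_cancel_left] at this

end Pair

end CfsgLib.ClassK.ZN
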