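import Cfsg.Agent.Lib.ClassK.ZNFamilies

/-!
The small amalgam, and the pair of components attached to `T < S`.
-/

set_option autoImplicit false
set_option linter.unusedSectionVars false

namespace CfsgLib.ClassK.ZN

open Cfsg Subgroup CfsgLib.PLocal
open scoped commutatorElement

universe u

variable {G : Type u} [Group G] [Finite G]

theorem le_or_le_of_le_union {E A B : Subgroup G} (h : ∀ x ∈ E, x ∈ A ∨ x ∈ B) : E ≤ A ∨ E ≤ B := by
  by_contra! hcon
  obtain ⟨a, ha, haA⟩ := SetLike.not_le_iff_exists.1 hcon.1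
  obtain ⟨b, hb, hbB⟩ := SetLike.not_le_iff_exists.1 hcon.2
  have haB : a ∈ B := (h a ha).resolve_left haA
  have hbA : b ∈ A := (h b hb).resolve_right hbB
  rcases h (a * b) (mul_mem ha hb) with e | e
  · exact haA ((mul_mem_cancel_right hbA).1 e)
  · exact hbB ((mul_mem_cancel_left haB).1 e)

namespace Pair

variable {T : Subgroup G} {K : Bool → Subgroup G} (p : Pair T K)
  (h : ¬ wOf (K false) ≤ centralizer (wOf (K true) : Set G))
include p h

theorem Wz_eq : Wz T (K true) = Wz T (K false) :=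
  Wz_eq_of_noncomm (p.side true) (p.side false) p.T_centralizes h

theorem exists_outer : ∃ v ∈ wOf (K true), v ∉ Qof T (K false) ∧ v ∈ T := by
  obtain ⟨v, hv, hvc⟩ := SetLike.not_le_iff_exists.1
    (show ¬ wOf (K true) ≤ centralizer (wOf (K false) : Set G) from fun e => h (le_centralizer_iff.1 e))
  exact ⟨v, hv, fun e => hvc e.2, (p.side true).W_le_T hv⟩

theorem mem_mul_of {x : G} (hx : x ∈ T) (hxQ : x ∉ Qof T (K false)) {v : G} (hv : v ∈ wOf (K true))
    (hvQ : v ∉ Qof T (K false)) : ∃ y ∈ Yof T (K false), x = y * v := by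
  have h1 := (p.side false).mul_mem_Q hx ((p.side true).W_le_T hv) hxQ hvQ
  rw [p.Q_eq_Y h false] at h1
  refine ⟨x * v, h1, ?_⟩
  rw [mul_assoc, (p.side true).sqW v hv, mul_one]

/-- `T` is generated by the two groups `Ω₁(Z(J(T))) W`, hence equals `J(T)`. -/
theorem thompson_eq : thompsonSubgroupOf 2 T = T := by
  refine le_antisymm (thompsonOf_le T) fun x hx => ?_
  have hY : ∀ b, Yof T (K b) ≤ thompsonSubgroupOf 2 T := fun b =>
    sup_le (omegaCenterOf_le _) (Comp.W_le_J (p.side b).pT (p.side b).comp)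
  by_cases hxQ : x ∈ Qof T (K false)
  · exact hY false ((p.Q_eq_Y h false).le hxQ)
  obtain ⟨v, hv, hvQ, -⟩ := p.exists_outer h
  obtain ⟨y, hy, rfl⟩ := p.mem_mul_of h hx hxQ hv hvQ
  exact mul_mem (hY false hy) (hY true (mem_sup_right hv))

theorem mem_Y_of_sq {x : G} (hx : x ∈ T) (hx2 : x * x = 1) :
    x ∈ Yof T (K false) ∨ x ∈ Yof T (K true) := by
  by_cases hxQ : x ∈ Qof T (K false)
  · exact Or.inl ((p.Q_eq_Y h false).le hxQ)
  obtain ⟨v, hv, hvQ, hvT⟩ := p.exists_outer h
  obtain ⟨y, hy, rfl⟩ := p.mem_mul_of h hx hxQ hv hvQ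
  refine Or.inr (mul_mem (mem_sup_left ?_) (mem_sup_right hv))
  refine (p.side false).fixed_mem_Z p.T_centralizes hvT hvQ hy ?_
  have hv2 := (p.side true).sqW v hv
  have hy2 : y * y = 1 := by rw [← pow_two]; exact (p.side false).elemY.2 y hy
  calc v * y * v⁻¹ = y⁻¹ * ((y * v) * (y * v)) * (v * v)⁻¹ := by group
    _ = y := by rw [hx2, hv2, inv_eq_of_mul_eq_one_right hy2]; group

theorem elem_le {E : Subgroup G} (hE : IsElementaryAbelian 2 E) (hET : E ≤ T) :
    E ≤ Yof T (K false) ∨ E ≤ Yof T (K true) :=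
  le_or_le_of_le_union fun x hx => p.mem_Y_of_sq h (hET hx) (by rw [← pow_two]; exact hE.2 x hx)

theorem Y_inf : Yof T (K false) ⊓ Yof T (K true) = Zof T := by
  refine le_antisymm ?_ (le_inf le_sup_left le_sup_left)
  rintro x ⟨hx, hx'⟩
  obtain ⟨v, hv, hvQ, hvT⟩ := p.exists_outer h
  refine (p.side false).fixed_mem_Z p.T_centralizes hvT hvQ hx ?_
  exact mul_inv_eq_iff_eq_mul.2
    (elemAb_comm (p.side true).elemY (mem_sup_right hv) hx')

theorem card_T : Nat.card T = 4 * Nat.card (Zof T) := by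
  rw [(p.side false).card_T, p.Q_eq_Y h false, (p.side false).card_Y, (p.side false).card_Z]
  ring

end Pair

/-- The pair `K`, `x K x⁻¹` attached to `T < S`. -/
structure LtPair (S : Sylow 2 G) (T K : Subgroup G) (M : Subgroup G) (x : G) : Prop where
  x_mem : x ∈ (S : Subgroup G)
  x_norm : x ∈ normalizer (T : Set G)
  x_not : x ∉ T
  x_sq : x * x ∈ T
  mem₁ : Mem T (outP M) K
  mem₂ : Mem T (outP M) (cj x K)
  inv₁ : T ≤ normalizer (K : Set G)
  inv₂ : T ≤ normalizer (cj x K : Set G)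
  ne : cj x K ≠ K
  nshare : ¬ Share T K (cj x K)
  pair : Pair T (fun b => if b then cj x K else K)
  ncomm : ¬ wOf K ≤ centralizer (wOf (cj x K) : Set G)

theorem exists_ltPair {S : Sylow 2 G} {M T : Subgroup G} (c : Setup G S M)
    (hT : T ∈ maxStraddlingTwoSubgroups M) (hlt : T < (S : Subgroup G)) {K : Subgroup G}
    (hK : Mem T (outP M) K) (hTK : T ≤ normalizer (K : Set G)) :
    ∃ x, LtPair S T K M x := by
  classical
  have W := c.world_out hT hlt.le
  have hns := c.noShare_out_of_lt hT hlt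
  obtain ⟨u, hu, huT⟩ := SetLike.exists_of_lt (lt_inf_normalizer_of_lt S.isPGroup' hlt)
  have hex : ∃ k : ℕ, u ^ 2 ^ k ∈ T := by
    obtain ⟨k, hk⟩ := S.isPGroup' ⟨u, hu.1⟩
    exact ⟨k, by rw [show u ^ 2 ^ k = 1 from congrArg Subtype.val hk]; exact one_mem T⟩
  obtain ⟨x, hxS, hxN, hxT, hx2⟩ : ∃ x, x ∈ (S : Subgroup G) ∧ x ∈ normalizer (T : Set G) ∧
      x ∉ T ∧ x * x ∈ T := by
    obtain ⟨k, hk⟩ : ∃ k, Nat.find hex = k + 1 := by
      refine Nat.exists_eq_succ_of_ne_zero fun e => huT ?_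
      have := Nat.find_spec hex
      rwa [e, pow_zero, pow_one] at this
    refine ⟨u ^ 2 ^ k, pow_mem hu.1 _, pow_mem hu.2 _, fun e => Nat.find_min hex (by omega) e, ?_⟩
    rw [← pow_add, ← two_mul, ← pow_succ', ← hk]
    exact Nat.find_spec hex
  have hxJ : x ∈ normalizer (thompsonSubgroupOf 2 T : Set G) :=
    normalizer_le_normalizer_thompsonOf T hxN
  have hK2 := W.mem_cj_of hxJ hK
  have hne : cj x K ≠ K := by
    intro e
    have hxK : x ∈ normalizer (K : Set G) := mem_normalizer_of_cj e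
    have s := W.side hK hTK
    have h1 := sylowTwoIn_eq s.syl (S.isPGroup'.to_le (sup_le hlt.le (zpowers_le.2 hxS)))
      le_sup_left (sup_le hTK (zpowers_le.2 hxK))
    exact hxT (h1 ▸ mem_sup_right (mem_zpowers x))
  have hTK2 : T ≤ normalizer (cj x K : Set G) := by
    rw [← cj_normalizer, ← cj_eq_self hxN]
    exact cj_mono hTK
  have hnsh : ¬ Share T K (cj x K) := fun e => hne (hns _ _ hK hK2 e).symm
  have P := W.pair hnsh (W.side hK hTK) (W.side hK2 hTK2)
  have hmem : ∀ b : Bool, Mem T (outP M) (if b then cj x K else K) := fun b => by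
    cases b <;> simpa
  have hx2K : cj (x * x) K = K := cj_eq_self (hTK hx2)
  have hncomm : ¬ wOf K ≤ centralizer (wOf (cj x K) : Set G) := by
    have key := W.not_commute_pair (K := fun b => if b then cj x K else K) hmem P hns
    simp only [Bool.false_eq_true, if_false, if_true] at key
    refine key fun i hb => Or.inl ?_
    have htr : ∀ A B : Subgroup G, Wz T A ≤ centralizer (B : Set G) →
        Wz T (cj x A) ≤ centralizer (cj x B : Set G) := fun A B e => by
      rw [← W.cj_Wz hxJ, ← cj_centralizer]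
      exact cj_mono e
    cases i
    · refine ⟨cj x K, hK2, ?_⟩
      have h1 := htr _ _ hb
      simp only [Bool.not_false, if_true, Bool.false_eq_true, if_false] at h1 ⊢
      rwa [cj_cj, hx2K] at h1
    · refine ⟨K, hK, ?_⟩
      have h1 := htr _ _ hb
      simp only [Bool.not_true, if_true, Bool.false_eq_true, if_false] at h1 ⊢
      rwa [cj_cj, hx2K] at h1
  exact ⟨x, hxS, hxN, hxT, hx2, hK, hK2, hTK, hTK2, hne, hnsh, P, hncomm⟩

namespace LtPair

variable {S : Sylow 2 G} {M T K : Subgroup G} {x : G} (q : LtPair S T K M x) (c : Setup G S M)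
  (hT : T ∈ maxStraddlingTwoSubgroups M) (hlt : T < (S : Subgroup G))
include q c hT hlt

theorem x_normJ : x ∈ normalizer (thompsonSubgroupOf 2 T : Set G) :=
  normalizer_le_normalizer_thompsonOf T q.x_norm

theorem cj_Y₁ : cj x (Yof T K) = Yof T (cj x K) :=
  (c.world_out hT hlt.le).cj_Yof (q.x_normJ c hT hlt) K

theorem point_fix : ∀ w ∈ Wz T K, x * w * x⁻¹ = w := by
  intro w hw
  have hW : cj x (Wz T K) = Wz T K := by
    rw [(c.world_out hT hlt.le).cj_Wz (q.x_normJ c hT hlt)]
    exact q.pair.Wz_eq q.ncomm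
  by_cases hw1 : w = 1
  · subst hw1; group
  have hsq : w * w = 1 := by rw [← pow_two]; exact (elemAb_omegaCenterOf _).2 w hw.1
  have h1 : zpowers w = Wz T K := eq_of_le_of_card_ge (zpowers_le.2 hw) (by
    rw [((c.world_out hT hlt.le).exists_point q.mem₁).1, Nat.card_zpowers,
      orderOf_eq_prime (by rw [pow_two]; exact hsq) hw1])
  have h2 : x * w * x⁻¹ ∈ zpowers w := by
    rw [h1]; rw [← hW]; exact conj_mem_cj hw
  exact (mem_zpowers_of_sq hsq h2).resolve_left fun e => hw1 (conj_eq_one_iff.1 e)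

end LtPair

end CfsgLib.ClassK.ZN
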