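import Cfsg.Agent.Lib.ClassK.ZNZero

/-!
One side of the amalgam: a component `K` normalized by `T` with `T` Sylow in `N(K) = N(W_K)`.
-/

set_option autoImplicit false
set_option linter.unusedSectionVars false

namespace CfsgLib.ClassK.ZN

open Cfsg Subgroup CfsgLib.PLocal
open scoped commutatorElement

universe u

variable {G : Type u} [Group G]

/-- `Ω₁(Z(J(T)))`. -/
abbrev Zof (T : Subgroup G) : Subgroup G := omegaCenterOf (thompsonSubgroupOf 2 T)

/-- The part of `Ω₁(Z(J(T)))` centralized by `K`. -/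
abbrev Zc (T K : Subgroup G) : Subgroup G := Zof T ⊓ centralizer (K : Set G)

/-- The point of `W_K` in `Ω₁(Z(J(T)))`. -/
abbrev Wz (T K : Subgroup G) : Subgroup G := Zof T ⊓ wOf K

/-- `Ω₁(Z(J(T))) W_K`. -/
abbrev Yof (T K : Subgroup G) : Subgroup G := Zof T ⊔ wOf K

/-- `C_T(W_K)`. -/
abbrev Qof (T K : Subgroup G) : Subgroup G := T ⊓ centralizer (wOf K : Set G)

/-- One side of the amalgam. -/
structure Side (T K : Subgroup G) : Prop where
  pT : IsPGroup 2 T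
  comp : IsJComponent T K
  normW : normalizer (wOf K : Set G) ≤ normalizer (K : Set G)
  syl : IsSylowTwoIn T (normalizer (K : Set G))
  cen : centralizer (pCoreOf 2 (normalizer (K : Set G)) : Set G) ≤
    pCoreOf 2 (normalizer (K : Set G))

theorem comm_mem_zpowers_of {w a b : G} (hw : w * w = 1) (h : a = 1 ∨ a = w) (hb : b ∈ zpowers w) :
    a * b ∈ zpowers w := by
  rcases h with rfl | rfl
  exacts [by simpa using hb, mul_mem (mem_zpowers _) hb]

theorem mem_zpowers_of_sq {w a : G} (hw : w * w = 1) (h : a ∈ zpowers w) : a = 1 ∨ a = w := by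
  obtain ⟨n, rfl⟩ := h
  rcases Int.even_or_odd n with ⟨m, rfl⟩ | ⟨m, rfl⟩
  · left
    show w ^ (m + m) = 1
    rw [← two_mul, zpow_mul, zpow_two, hw, one_zpow]
  · right
    show w ^ (2 * m + 1) = w
    rw [zpow_add, zpow_mul, zpow_two, hw, one_zpow, one_mul, zpow_one]

variable [Finite G]

namespace Side

variable {T K : Subgroup G} (s : Side T K)
include s

theorem pre : Pre T K := pre_of_isJComponent s.pT s.comp

theorem T_le_normK : T ≤ normalizer (K : Set G) := s.syl.1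

theorem cardW : Nat.card (wOf K) = 4 := Comp.cardW s.pT s.comp

theorem sqW : ∀ w ∈ wOf K, w * w = 1 := Comp.sqW s.pT s.comp

theorem W_le_T : wOf K ≤ T := Comp.W_le_T s.pT s.comp

theorem P_le_normK : K ⊔ T ≤ normalizer (K : Set G) := sup_le le_normalizer s.T_le_normK

theorem P_le_normW : K ⊔ T ≤ normalizer (wOf K : Set G) :=
  s.P_le_normK.trans (normalizer_le_normalizer_wOf K)

theorem QK_le_T : pCoreOf 2 K ≤ T :=
  le_sylowTwoIn s.syl s.pre.pQ (s.pre.Q_le.trans le_normalizer)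
    (normalizer_le_normalizer_pCoreOf 2 K)

theorem decompZ : Zc T K ⊔ Wz T K = Zof T := by
  refine le_antisymm (sup_le inf_le_left inf_le_left) ((Comp.Z0_decomp s.pT s.comp).ge.trans
    (sup_le_sup_right ?_ _))
  exact inf_le_inf_left _ (inf_le_right.trans (centralizer_le (SetLike.coe_subset_coe.2 le_sup_left)))

theorem T_le_normZ : T ≤ normalizer (Zof T : Set G) :=
  (le_normalizer.trans (normalizer_le_normalizer_thompsonOf T)).trans
    (normalizer_le_normalizer_omegaCenterOf _)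

theorem W_le_centralizerZ : wOf K ≤ centralizer (Zof T : Set G) :=
  (Comp.W_le_J s.pT s.comp).trans (le_centralizer_self_omegaCenterOf _)

theorem elemY : IsElementaryAbelian 2 (Yof T K) :=
  elemAb_sup (elemAb_omegaCenterOf _) s.pre.elemW (le_centralizer_iff.1 s.W_le_centralizerZ)

theorem Z_le_T : Zof T ≤ T := (omegaCenterOf_le _).trans (thompsonOf_le T)

theorem Y_le_T : Yof T K ≤ T := sup_le s.Z_le_T s.W_le_T

theorem inf_Zc_W : Zc T K ⊓ wOf K = ⊥ := by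
  refine (Subgroup.eq_bot_iff_forall _).2 fun v hv => ?_
  obtain ⟨d, hd, hd3, -⟩ := s.pre.exists_d
  exact s.pre.fix_eq_one hd hd3 hv.2 (mul_inv_eq_iff_eq_mul.2 (hv.1.2 d hd))

theorem card_Wz : Nat.card (Wz T K) = 2 := by
  show Nat.card ↥(Zof T ⊓ wOf K) = 2
  rw [Comp.Z0_inf_W s.pT s.comp]
  exact Comp.card_inf_centralizer_J s.pT s.comp

theorem inf_Zc_Wz : Zc T K ⊓ Wz T K = ⊥ :=
  le_bot_iff.1 ((inf_le_inf_left _ inf_le_right).trans s.inf_Zc_W.le)

theorem card_Z : Nat.card (Zof T) = 2 * Nat.card (Zc T K) := by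
  conv_lhs => rw [← s.decompZ]
  rw [CfsgLib.Coprime.card_sup_of_inf_eq_bot ?_ ((inf_comm _ _).trans s.inf_Zc_Wz), s.card_Wz, mul_comm]
  exact ((inf_le_left : Wz T K ≤ Zof T).trans (elemAb_le_centralizer (elemAb_omegaCenterOf _))).trans
    ((centralizer_le inf_le_left).trans (centralizer_le_normalizer _))

theorem Y_eq : Zc T K ⊔ wOf K = Yof T K := by
  refine le_antisymm (sup_le_sup_right inf_le_left _) (sup_le ?_ le_sup_right)
  exact s.decompZ.ge.trans (sup_le_sup_left inf_le_right _)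

theorem card_Y : Nat.card (Yof T K) = 4 * Nat.card (Zc T K) := by
  rw [← s.Y_eq, CfsgLib.Coprime.card_sup_of_inf_eq_bot ?_ ((inf_comm _ _).trans s.inf_Zc_W), s.cardW, mul_comm]
  exact s.W_le_centralizerZ.trans
    ((centralizer_le inf_le_left).trans (centralizer_le_normalizer _))

/-- The involution of `W_K` fixed by `T`. -/
theorem exists_point : ∃ w ∈ wOf K, w ≠ 1 ∧ Wz T K = zpowers w ∧ (∀ t ∈ T, t * w * t⁻¹ = w) ∧
    ∀ t ∈ T, t ∉ Qof T K → ∀ v ∈ wOf K, t * v * t⁻¹ = v → v = 1 ∨ v = w := by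
  obtain ⟨w, hw, hw1, hfix, huniq⟩ :=
    four_fixed s.cardW s.sqW s.pT (le_sup_right.trans s.P_le_normW)
  refine ⟨w, hw, hw1, ?_, hfix, fun t ht htQ => huniq t ht fun hc => htQ ⟨ht, hc⟩⟩
  refine (eq_of_le_of_card_ge (zpowers_le.2 ?_) ?_).symm
  · refine mem_inf.2 ⟨?_, hw⟩
    refine mem_omegaCenterOf (Comp.W_le_J s.pT s.comp hw) (by rw [pow_two]; exact s.sqW w hw) ?_
    exact fun x hx => mul_inv_eq_iff_eq_mul.1 (hfix x (thompsonOf_le T hx))
  · rw [s.card_Wz, Nat.card_zpowers, orderOf_eq_prime (by rw [pow_two]; exact s.sqW w hw) hw1]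

theorem exists_not_mem_Q : ∃ t ∈ T, t ∉ Qof T K := by
  obtain ⟨A, hA, a, ha, haR⟩ := s.pre.exists_not_mem_R
  exact ⟨a, thompsonOf_le T (le_thompsonOf hA ha), fun h =>
    Comp.not_mem_centralizer_of_not_mem_R s.pT s.comp (mem_sup_right (le_thompsonOf hA ha)) haR h.2⟩

theorem exists_mul {g : G} (hg : g ∈ K ⊔ T) : ∃ k ∈ K, ∃ t ∈ T, g = k * t := by
  obtain ⟨k, hk, t, ht, rfl⟩ := CfsgLib.Comp.exists_mul_of_mem_sup s.T_le_normK hg
  exact ⟨k, hk, t, ht, rfl⟩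

/-- `T` is the stabilizer of the point in `⟨K, T⟩`. -/
theorem mem_T_of_fix {w g : G} (hw : w ∈ Wz T K) (hw1 : w ≠ 1) (hg : g ∈ K ⊔ T)
    (hfix : g * w * g⁻¹ = w) : g ∈ T := by
  obtain ⟨w₀, -, -, hz, hfix₀, -⟩ := s.exists_point
  have hww : w = w₀ := (mem_zpowers_of_sq (s.sqW w₀ (by
    have : w₀ ∈ Wz T K := hz ▸ mem_zpowers w₀
    exact this.2)) (hz ▸ hw)).resolve_left hw1
  subst hww
  obtain ⟨k, hk, t, ht, rfl⟩ := s.exists_mul hg
  refine mul_mem ?_ ht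
  have hkw : k * w * k⁻¹ = w := by
    calc k * w * k⁻¹ = k * (t * w * t⁻¹) * k⁻¹ := by rw [hfix₀ t ht]
      _ = k * t * w * (k * t)⁻¹ := by group
      _ = w := hfix
  obtain ⟨d, hd, hd3, hdQ⟩ := s.pre.exists_d
  have hQfix : ∀ q ∈ pCoreOf 2 K, ∀ v ∈ wOf K, q * v * q⁻¹ = v := fun q hq v hv =>
    mul_inv_eq_iff_eq_mul.2 (s.pre.Q_centralizes_W hq v hv).symm
  rcases s.pre.coset_cases hd hd3 hdQ hk with hq | hq | hq
  · exact s.QK_le_T hq
  · refine absurd (s.pre.fix_eq_one hd hd3 hw.2 ?_) hw1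
    calc d * w * d⁻¹ = (k * d⁻¹) * (d * w * d⁻¹) * (k * d⁻¹)⁻¹ :=
          (hQfix _ hq _ ((mem_normalizer_iff.1 (s.P_le_normW (mem_sup_left hd)) w).1 hw.2)).symm
      _ = k * w * k⁻¹ := by group
      _ = w := hkw
  · refine absurd (s.pre.fix_eq_one hd hd3 hw.2 ?_) hw1
    have hv : d⁻¹ * w * d ∈ wOf K := by
      simpa using (mem_normalizer_iff.1 (s.P_le_normW (mem_sup_left (inv_mem hd))) w).1 hw.2
    have e : d⁻¹ * w * d = w := by
      calc d⁻¹ * w * d = (k * d) * (d⁻¹ * w * d) * (k * d)⁻¹ := (hQfix _ hq _ hv).symm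
        _ = k * w * k⁻¹ := by group
        _ = w := hkw
    conv_lhs => rw [← e]
    group

theorem Q_eq : Qof T K = (K ⊔ T) ⊓ centralizer (wOf K : Set G) := by
  refine le_antisymm (inf_le_inf_right _ le_sup_right) fun g hg => ⟨?_, hg.2⟩
  obtain ⟨w, hw, hw1, hz, -, -⟩ := s.exists_point
  exact s.mem_T_of_fix (hz ▸ mem_zpowers w) hw1 hg.1 (mul_inv_eq_iff_eq_mul.2 (hg.2 w hw).symm)

theorem P_le_normQ : K ⊔ T ≤ normalizer (Qof T K : Set G) := by
  rw [s.Q_eq]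
  refine le_trans (le_inf le_normalizer ?_) inf_normalizer_le_normalizer_inf
  exact s.P_le_normW.trans (CfsgLib.Comp.normalizer_le_normalizer_centralizer _)

theorem P_le_normY : K ⊔ T ≤ normalizer (Yof T K : Set G) := by
  refine sup_le (fun k hk => mem_normalizer_of_cj ?_) fun t ht => mem_normalizer_of_cj ?_
  · rw [← s.Y_eq, cj_sup, cj_eq_self (s.P_le_normW (mem_sup_left hk)),
      cj_eq_self (centralizer_le_normalizer _
        ((le_centralizer_iff.1 (inf_le_right : Zc T K ≤ centralizer (K : Set G))) hk))]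
  · rw [cj_sup, cj_eq_self (s.T_le_normZ ht), cj_eq_self (s.P_le_normW (mem_sup_right ht))]

theorem mul_mem_Q {x y : G} (hx : x ∈ T) (hy : y ∈ T) (hxQ : x ∉ Qof T K) (hyQ : y ∉ Qof T K) :
    x * y ∈ Qof T K := by
  obtain ⟨w, hw, hw1, -, hfix, -⟩ := s.exists_point
  exact mem_inf.2 ⟨mul_mem hx hy, four_mul_mem s.cardW s.sqW (s.P_le_normW (mem_sup_right hx))
    (s.P_le_normW (mem_sup_right hy)) hw hw1 (hfix x hx) (hfix y hy) (fun h => hxQ ⟨hx, h⟩)
    (fun h => hyQ ⟨hy, h⟩)⟩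

theorem card_T : Nat.card T = 2 * Nat.card (Qof T K) := by
  obtain ⟨t, ht, htQ⟩ := s.exists_not_mem_Q
  have h1 := relIndex_mul_relIndex ⊥ (Qof T K) T bot_le inf_le_left
  rw [relIndex_bot_left, relIndex_bot_left] at h1
  rw [← h1, mul_comm]
  congr 1
  rw [relIndex, index_eq_two_iff]
  refine ⟨⟨t, ht⟩, fun b => ?_⟩
  simp only [mem_subgroupOf, Subgroup.coe_mul]
  by_cases hb : (b : G) ∈ Qof T K
  · exact Or.inr ⟨hb, fun hbt => htQ ((mul_mem_cancel_left hb).1 hbt)⟩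
  · exact Or.inl ⟨s.mul_mem_Q b.2 ht hb htQ, fun hb' => hb hb'⟩

theorem core_le_Q : pCoreOf 2 (normalizer (K : Set G)) ≤ Qof T K := by
  refine le_inf (le_sylowTwoIn_core s.syl) fun r hr => ?_
  by_contra hc
  obtain ⟨w, hw, hw1, -, hfix, huniq⟩ := s.exists_point
  obtain ⟨d, hd, hd3, -⟩ := s.pre.exists_d
  have hrT : r ∈ T := le_sylowTwoIn_core s.syl hr
  have hdw := (mem_normalizer_iff.1 (s.P_le_normW (mem_sup_left hd)) w).1 hw
  have hq : ⁅d, r⁆ ∈ pCoreOf 2 K := by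
    refine s.pre.le_Q ((CfsgLib.Amalgam.isPGroup_pCoreOf _).to_le inf_le_right) inf_le_left
      (mem_inf.2 ⟨?_, ?_⟩ : ⁅d, r⁆ ∈ K ⊓ pCoreOf 2 (normalizer (K : Set G)))
    · rw [commutatorElement_def, show d * r * d⁻¹ * r⁻¹ = d * (r * d⁻¹ * r⁻¹) by group]
      exact mul_mem hd ((mem_normalizer_iff.1 (s.T_le_normK hrT) _).1 (inv_mem hd))
    · exact mul_mem ((mem_normalizer_iff.1
        (CfsgLib.Amalgam.le_normalizer_pCoreOf _ (le_normalizer hd)) r).1 hr) (inv_mem hr)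
  have e : r * (d * w * d⁻¹) * r⁻¹ = d * w * d⁻¹ := by
    calc r * (d * w * d⁻¹) * r⁻¹ = ⁅d, r⁆⁻¹ * (d * (r * w * r⁻¹) * d⁻¹) * ⁅d, r⁆ := by
          rw [commutatorElement_def]; group
      _ = d * w * d⁻¹ := by
          rw [hfix r hrT, ← s.pre.Q_centralizes_W (inv_mem hq) _ hdw]; group
  rcases huniq r hrT (fun h => hc h.2) _ hdw e with h | h
  · exact hw1 (conj_eq_one_iff.1 h)
  · exact hw1 (s.pre.fix_eq_one hd hd3 hw h)

theorem centralizer_Q_le : centralizer (Qof T K : Set G) ≤ Qof T K :=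
  ((centralizer_le s.core_le_Q).trans s.cen).trans s.core_le_Q

theorem card_Zc_le_two_centralizes (hcard : Nat.card (Zc T K) ≤ 2) :
    T ≤ centralizer (Zof T : Set G) := by
  intro t ht
  obtain ⟨w, -, -, hz, hfix, -⟩ := s.exists_point
  have hle : Zof T ≤ centralizer ({t} : Set G) := by
    rw [← s.decompZ]
    refine sup_le (fun x hx => ?_) ?_
    · have hx' : t * x * t⁻¹ ∈ Zc T K := by
        refine mem_inf.2 ⟨(mem_normalizer_iff.1 (s.T_le_normZ ht) x).1 hx.1, ?_⟩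
        exact (mem_normalizer_iff.1 (CfsgLib.Comp.normalizer_le_normalizer_centralizer _
          (s.T_le_normK ht)) x).1 hx.2
      rw [mem_centralizer_singleton_iff]
      by_cases hx1 : x = 1
      · subst hx1; group
      have h1 : zpowers x = Zc T K := eq_of_le_of_card_ge (zpowers_le.2 hx) (by
        rw [Nat.card_zpowers, orderOf_eq_prime ((elemAb_omegaCenterOf _).2 x hx.1) hx1]; exact hcard)
      rcases mem_zpowers_of_sq (by rw [← pow_two]; exact (elemAb_omegaCenterOf _).2 x hx.1)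
        (h1 ▸ hx') with e | e
      · exact absurd (conj_eq_one_iff.1 e) hx1
      · exact (mul_inv_eq_iff_eq_mul.1 e).symm
    · rw [hz, zpowers_le, mem_centralizer_singleton_iff]
      exact (mul_inv_eq_iff_eq_mul.1 (hfix t ht)).symm
  exact fun z hz => mem_centralizer_singleton_iff.1 (hle hz)

/-- An element of `K` outside its core fixing a point of `Ω₁(Z(J(T)))` centralizes it with `K`. -/
theorem mem_Zc_of_fix {e z : G} (he : e ∈ K) (heQ : e ∉ pCoreOf 2 K) (hz : z ∈ Zof T)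
    (hfix : e * z * e⁻¹ = z) : z ∈ Zc T K := by
  have hQ : pCoreOf 2 K ≤ centralizer (Zof T : Set G) := by
    refine le_centralizer_iff.1 (s.decompZ.ge.trans (sup_le ?_ ?_))
    · exact inf_le_right.trans (centralizer_le s.pre.Q_le)
    · exact inf_le_right.trans (le_centralizer_iff.1 s.pre.Q_centralizes_W)
  have hK : K ≤ centralizer ({z} : Set G) := by
    rw [← s.pre.K_eq he heQ]
    refine sup_le (hQ.trans (centralizer_le (Set.singleton_subset_iff.2 hz))) (zpowers_le.2 ?_)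
    rw [mem_centralizer_singleton_iff]
    exact mul_inv_eq_iff_eq_mul.1 hfix
  exact ⟨hz, fun k hk => mem_centralizer_singleton_iff.1 (hK hk)⟩

section Central

variable (hZ : T ≤ centralizer (Zof T : Set G))
include hZ

theorem Y_le_Q : Yof T K ≤ Qof T K :=
  le_inf s.Y_le_T (sup_le (le_centralizer_iff.1 s.W_le_centralizerZ)
    (elemAb_le_centralizer s.pre.elemW))

theorem Q_centralizes_Y : Qof T K ≤ centralizer (Yof T K : Set G) :=
  le_centralizer_iff.1 (sup_le (le_centralizer_iff.1 (inf_le_left.trans hZ))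
    (le_centralizer_iff.1 inf_le_right))

theorem exists_coord {y : G} (hy : y ∈ Yof T K) : ∃ z ∈ Zof T, ∃ v ∈ wOf K, y = z * v := by
  obtain ⟨z, hz, v, hv, rfl⟩ := CfsgLib.Comp.exists_mul_of_mem_sup
    (s.W_le_T.trans s.T_le_normZ) hy
  exact ⟨z, hz, v, hv, rfl⟩

/-- Commutators of `T` with `Ω₁(Z(J(T))) W` lie in the point. -/
theorem commutator_mem {t y : G} (ht : t ∈ T) (hy : y ∈ Yof T K) : ⁅t, y⁆ ∈ Wz T K := by
  obtain ⟨w, hw, hw1, hz, hfix, -⟩ := s.exists_point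
  obtain ⟨z, hzZ, v, hv, rfl⟩ := s.exists_coord hZ hy
  have h1 : t * z * t⁻¹ = z := mul_inv_eq_iff_eq_mul.2 (hZ ht z hzZ).symm
  have htN := s.P_le_normW (mem_sup_right ht : t ∈ K ⊔ T)
  have h2 : ⁅t, z * v⁆ = z * ⁅t, v⁆ * z⁻¹ := by
    calc ⁅t, z * v⁆ = (t * z * t⁻¹) * (t * v * t⁻¹ * v⁻¹) * z⁻¹ := by
          rw [commutatorElement_def]; group
      _ = _ := by rw [h1, ← commutatorElement_def]
  have hW : ⁅t, v⁆ ∈ wOf K := mul_mem ((mem_normalizer_iff.1 htN v).1 hv) (inv_mem hv)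
  rw [h2, mul_inv_eq_iff_eq_mul.2 (s.W_le_centralizerZ hW z hzZ), hz]
  by_cases hv1 : v = 1 ∨ v = w
  · rw [show ⁅t, v⁆ = 1 from ?_]
    · exact one_mem _
    rw [commutatorElement_eq_one_iff_mul_comm, ← mul_inv_eq_iff_eq_mul]
    rcases hv1 with rfl | rfl
    · group
    · exact hfix t ht
  rw [not_or] at hv1
  by_cases htc : t ∈ centralizer (wOf K : Set G)
  · rw [show ⁅t, v⁆ = 1 from commutatorElement_eq_one_iff_mul_comm.2 (htc v hv).symm]
    exact one_mem _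
  rw [commutatorElement_def, four_move s.cardW s.sqW htN hw hw1 hv hv1.1 hv1.2 (hfix t ht) htc,
    mul_inv_cancel_right]
  exact mem_zpowers _

theorem commutator_eq {w t v : G} (hw : w ∈ Wz T K) (hw1 : w ≠ 1) (ht : t ∈ T) (htQ : t ∉ Qof T K)
    (hv : v ∈ wOf K) (hvZ : v ∉ Zof T) : ⁅t, v⁆ = w := by
  obtain ⟨w₀, hw₀, hw₀1, hz, hfix, huniq⟩ := s.exists_point
  have hsq : w₀ * w₀ = 1 := s.sqW w₀ hw₀
  have hww : w = w₀ := (mem_zpowers_of_sq hsq (hz ▸ hw)).resolve_left hw1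
  have h := s.commutator_mem hZ ht (mem_sup_right hv : v ∈ Yof T K)
  rw [hz] at h
  refine hww ▸ (mem_zpowers_of_sq hsq h).resolve_left fun e => hvZ ?_
  rcases huniq t ht htQ v hv
    (mul_inv_eq_iff_eq_mul.2 (commutatorElement_eq_one_iff_mul_comm.1 e)) with h1 | h1
  · rw [h1]; exact one_mem _
  · rw [h1, ← hww]; exact hw.1

theorem fixed_mem_Z {t y : G} (ht : t ∈ T) (htQ : t ∉ Qof T K) (hy : y ∈ Yof T K)
    (hfix : t * y * t⁻¹ = y) : y ∈ Zof T := by
  obtain ⟨w, hw, -, hz, -, huniq⟩ := s.exists_point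
  obtain ⟨z, hzZ, v, hv, rfl⟩ := s.exists_coord hZ hy
  have h1 : t * z * t⁻¹ = z := mul_inv_eq_iff_eq_mul.2 (hZ ht z hzZ).symm
  have h2 : t * v * t⁻¹ = v := by
    have e : t * z * t⁻¹ * (t * v * t⁻¹) = z * v := by
      rw [← hfix]; group
    rw [h1] at e
    exact mul_left_cancel e
  refine mul_mem hzZ ?_
  rcases huniq t ht htQ v hv h2 with rfl | rfl
  · exact one_mem _
  · have : v ∈ Wz T K := hz ▸ mem_zpowers v
    exact this.1

/-- The key step: if the orbit of `u` commutes with some `v ∉ C(W)` modulo `Y`, then some element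
of `K` outside its core does. -/
theorem exists_commutator_mem {u v : G} (hv : v ∈ T) (hvQ : v ∉ Qof T K)
    (hp : ∀ p ∈ K ⊔ T, ⁅p * u * p⁻¹, v⁆ ∈ Yof T K) :
    ∃ e ∈ K, e ∉ pCoreOf 2 K ∧ ⁅e, u⁆ ∈ Yof T K := by
  have hY : ∀ g ∈ K ⊔ T, ∀ y ∈ Yof T K, g * y * g⁻¹ ∈ Yof T K := fun g hg y hy =>
    (mem_normalizer_iff.1 (s.P_le_normY hg) y).1 hy
  let N : Subgroup G :=
    { carrier := {g | g ∈ K ⊔ T ∧ ∀ p ∈ K ⊔ T, ⁅g, p * u * p⁻¹⁆ ∈ Yof T K}
      one_mem' := ⟨one_mem _, fun p _ => by rw [commutatorElement_one_left]; exact one_mem _⟩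
      mul_mem' := fun {g k} hg hk => ⟨mul_mem hg.1 hk.1, fun p hp' => by
        rw [show ⁅g * k, p * u * p⁻¹⁆ = g * ⁅k, p * u * p⁻¹⁆ * g⁻¹ * ⁅g, p * u * p⁻¹⁆ by
          simp only [commutatorElement_def]; group]
        exact mul_mem (hY g hg.1 _ (hk.2 p hp')) (hg.2 p hp')⟩
      inv_mem' := fun {g} hg => ⟨inv_mem hg.1, fun p hp' => by
        rw [show ⁅g⁻¹, p * u * p⁻¹⁆ = g⁻¹ * ⁅g, p * u * p⁻¹⁆⁻¹ * g⁻¹⁻¹ by
          simp only [commutatorElement_def]; group]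
        exact hY _ (inv_mem hg.1) _ (inv_mem (hg.2 p hp'))⟩ }
  have hnN : ∀ g ∈ K ⊔ T, ∀ x ∈ N, g * x * g⁻¹ ∈ N := fun g hg x hx =>
    ⟨mul_mem (mul_mem hg hx.1) (inv_mem hg), fun p hp' => by
      rw [show ⁅g * x * g⁻¹, p * u * p⁻¹⁆ = g * ⁅x, g⁻¹ * p * u * (g⁻¹ * p)⁻¹⁆ * g⁻¹ by
        simp only [commutatorElement_def]; group]
      exact hY g hg _ (hx.2 _ (mul_mem (inv_mem hg) hp'))⟩
  have hvN : v ∈ N := ⟨mem_sup_right hv, fun p hp' => by
    rw [← commutatorElement_inv]; exact inv_mem (hp p hp')⟩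
  obtain ⟨d, hd, hd3, hdQ⟩ := s.pre.exists_d
  have he : ⁅d, v⁆ ∈ K := by
    rw [commutatorElement_def, show d * v * d⁻¹ * v⁻¹ = d * (v * d⁻¹ * v⁻¹) by group]
    exact mul_mem hd ((mem_normalizer_iff.1 (s.T_le_normK hv) _).1 (inv_mem hd))
  refine ⟨⁅d, v⁆, he, fun heQ => ?_, by
    simpa [commutatorElement_def] using (N.mul_mem (hnN d (mem_sup_left hd) v hvN) (N.inv_mem hvN) : ⁅d, v⁆ ∈ N).2 1 (one_mem _)⟩
  obtain ⟨w, hw, hw1, -, hfix, huniq⟩ := s.exists_point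
  have hdw := (mem_normalizer_iff.1 (s.P_le_normW (mem_sup_left hd)) w).1 hw
  have e : v * (d * w * d⁻¹) * v⁻¹ = d * w * d⁻¹ := by
    calc v * (d * w * d⁻¹) * v⁻¹ = ⁅d, v⁆⁻¹ * (d * (v * w * v⁻¹) * d⁻¹) * ⁅d, v⁆ := by
          rw [commutatorElement_def]; group
      _ = d * w * d⁻¹ := by
          rw [hfix v hv, ← s.pre.Q_centralizes_W (inv_mem heQ) _ hdw]; group
  rcases huniq v hv hvQ _ hdw e with h | h
  · exact hw1 (conj_eq_one_iff.1 h)
  · exact hw1 (s.pre.fix_eq_one hd hd3 hw h)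

end Central

/-- Double cosets: two elements outside `T` differ by factors in `T`. -/
theorem exists_double_coset {p q : G} (hp : p ∈ K ⊔ T) (hq : q ∈ K ⊔ T) (hpT : p ∉ T) (hqT : q ∉ T) :
    ∃ t ∈ T, ∃ t' ∈ T, p = t * q * t' := by
  obtain ⟨w, hw, hw1, hz, hfix, -⟩ := s.exists_point
  have hwz : w ∈ Wz T K := hz ▸ mem_zpowers w
  have hpw := (mem_normalizer_iff.1 (s.P_le_normW hp) w).1 hw
  have hqw := (mem_normalizer_iff.1 (s.P_le_normW hq) w).1 hw
  have hpne : p * w * p⁻¹ ≠ w := fun e => hpT (s.mem_T_of_fix hwz hw1 hp e)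
  have hqne : q * w * q⁻¹ ≠ w := fun e => hqT (s.mem_T_of_fix hwz hw1 hq e)
  obtain ⟨t, ht, htw⟩ : ∃ t ∈ T, t * (q * w * q⁻¹) * t⁻¹ = p * w * p⁻¹ := by
    rcases four_cases s.cardW s.sqW hw hqw hw1 (fun e => hw1 (conj_eq_one_iff.1 e)) (Ne.symm hqne)
      hpw with h | h | h | h
    · exact absurd (conj_eq_one_iff.1 h) hw1
    · exact absurd h hpne
    · exact ⟨1, one_mem _, by rw [h]; group⟩
    · obtain ⟨t, ht, htQ⟩ := s.exists_not_mem_Q
      refine ⟨t, ht, ?_⟩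
      rw [h]
      exact four_move s.cardW s.sqW (s.P_le_normW (mem_sup_right ht)) hw hw1 hqw
        (fun e => hw1 (conj_eq_one_iff.1 e)) hqne (hfix t ht) fun hc => htQ ⟨ht, hc⟩
  refine ⟨t, ht, (t * q)⁻¹ * p, s.mem_T_of_fix hwz hw1
    (mul_mem (inv_mem (mul_mem (mem_sup_right ht) hq)) hp) ?_, by group⟩
  calc (t * q)⁻¹ * p * w * ((t * q)⁻¹ * p)⁻¹ = (t * q)⁻¹ * (p * w * p⁻¹) * (t * q) := by group
    _ = (t * q)⁻¹ * (t * (q * w * q⁻¹) * t⁻¹) * (t * q) := by rw [htw]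
    _ = w := by group

end Side

end CfsgLib.ClassK.ZN
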