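import Cfsg.Agent.Lib.ClassK.ZNFour

/-!
Two maximal `2`-locals `S₄` inside the subgroup generated by the elements of odd order.
-/

set_option autoImplicit false
set_option linter.unusedSectionVars false

namespace CfsgLib.ClassK.ZN

open Cfsg Subgroup CfsgLib.PLocal
open scoped commutatorElement

universe u

variable {G : Type u} [Group G] [Finite G]

/-- The subgroup generated by the elements of odd order. -/
abbrev oddGen (G : Type u) [Group G] : Subgroup G := closure {g : G | Odd (orderOf g)}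

theorem perm_four_center : ∀ a : Equiv.Perm (Fin 4), (∀ b, a * b = b * a) → a = 1 := by decide

theorem multZModTwo_cases : ∀ a b : Multiplicative (ZMod 2), a ≠ 1 → b = 1 ∨ b = a := by decide

theorem normalizer_subgroupOf {A H : Subgroup G} (hA : A ≤ H) :
    normalizer ((A.subgroupOf H : Subgroup H) : Set H) = (normalizer (A : Set G)).subgroupOf H := by
  ext g
  rw [mem_subgroupOf, mem_normalizer_iff, mem_normalizer_iff]
  constructor
  · intro h x
    constructor
    · intro hx
      exact mem_subgroupOf.1 ((h ⟨x, hA hx⟩).1 (mem_subgroupOf.2 hx))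
    · intro hx
      have hxH : x ∈ H := by
        have := H.mul_mem (H.mul_mem (H.inv_mem g.2) (hA hx)) g.2
        rwa [show (g : G)⁻¹ * ((g : G) * x * (g : G)⁻¹) * g = x by group] at this
      exact mem_subgroupOf.1 ((h ⟨x, hxH⟩).2 (mem_subgroupOf.2 hx))
  · intro h x
    exact h x

namespace Duo

variable {T : Subgroup G} {K : Bool → Subgroup G} (D : Duo T K)
include D

theorem swap : Duo T (fun b => K (!b)) where
  pair := D.pair.swap
  ncomm := D.pair.ncomm_swap D.ncomm
  ne := D.ne.symm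
  max := fun b => D.max (!b)
  Zbot := fun b => D.Zbot (!b)

theorem K_le_oddGen (b : Bool) : K b ≤ oddGen G := by
  conv_lhs => rw [← (D.pair.side b).pre.gen]
  exact closure_mono fun g hg => hg.2

theorem W_le_oddGen (b : Bool) : wOf (K b) ≤ oddGen G :=
  (D.pair.side b).pre.W_le_K.trans (D.K_le_oddGen b)

theorem D_le_oddGen : Dof K ≤ oddGen G := sup_le (D.W_le_oddGen false) (D.W_le_oddGen true)

theorem normalizer_W (b : Bool) : normalizer (wOf (K b) : Set G) = normalizer (K b : Set G) :=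
  le_antisymm (D.pair.side b).normW (normalizer_le_normalizer_wOf _)

theorem Dof_le_normalizer (b : Bool) : Dof K ≤ normalizer (K b : Set G) :=
  (sup_le (D.pair.side false).W_le_T (D.pair.side true).W_le_T).trans (D.pair.side b).T_le_normK

theorem card_one_data (h1 : Nat.card (Zc T (K false)) = 1) :
    Nat.card ↥(Dof K) = 8 ∧ T ≤ oddGen G := by
  have hcW : ∀ b, Nat.card (wOf (K b)) = 4 := fun b => (D.pair.side b).cardW
  have hlt : wOf (K false) ⊓ wOf (K true) < wOf (K false) := by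
    refine lt_of_le_of_ne inf_le_left fun e => D.ncomm ?_
    exact (inf_eq_left.1 e).trans (elemAb_le_centralizer (D.pair.side true).pre.elemW)
  have hinf : Nat.card ↥(wOf (K false) ⊓ wOf (K true)) ≤ 2 := by
    have hd := Subgroup.card_dvd_of_le hlt.le
    have hne : Nat.card ↥(wOf (K false) ⊓ wOf (K true)) ≠ 4 := fun e =>
      hlt.ne (eq_of_le_of_card_ge hlt.le (by rw [e, hcW]))
    rw [hcW] at hd
    have hle := Nat.le_of_dvd (by norm_num) hd
    interval_cases (Nat.card ↥(wOf (K false) ⊓ wOf (K true))) <;> omega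
  have h2 := card_mul_le_card_sup_mul_inf (wOf (K false)) (wOf (K true))
  rw [hcW, hcW] at h2
  have hT : Nat.card T = 8 := by
    rw [D.pair.card_T D.ncomm, (D.pair.side false).card_Z, h1]
  have hle : Dof K ≤ T := sup_le (D.pair.side false).W_le_T (D.pair.side true).W_le_T
  have h3 : 8 ≤ Nat.card ↥(Dof K) := by nlinarith
  have heq : Dof K = T := eq_of_le_of_card_ge hle (by omega)
  exact ⟨heq ▸ hT, heq ▸ D.D_le_oddGen⟩

theorem card_Zc_cases :
    Nat.card (Zc T (K false)) = 1 ∨ Nat.card (Zc T (K false)) = 2 := by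
  have h1 : 0 < Nat.card (Zc T (K false)) := Nat.card_pos
  have h2 := D.pair.card_Zc_le false
  omega

theorem card_Zc_eq (b : Bool) : Nat.card (Zc T (K b)) = Nat.card (Zc T (K false)) := by
  have h1 := (D.pair.side b).card_Z
  have h2 := (D.pair.side false).card_Z
  omega

theorem card_Dof : Nat.card ↥(Dof K) = 8 := by
  rcases D.card_Zc_cases with h | h
  · exact (D.card_one_data h).1
  · exact (Four.mk D h).card_D

variable (hcen : ∀ P : Sylow 2 G, centralizer (omegaCenterOf (P : Subgroup G) : Set G) ≤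
  normalizer ((P : Subgroup G) : Set G))
include hcen

theorem Zc_inter_oddGen (b : Bool) {z : G} (hz : z ∈ Zc T (K b)) (hzH : z ∈ oddGen G) : z = 1 := by
  by_contra hz1
  rcases D.card_Zc_cases with h | h
  · rw [← D.card_Zc_eq b] at h
    rw [Subgroup.card_eq_one.1 h, mem_bot] at hz
    exact hz1 hz
  obtain ⟨P, hP⟩ := (D.pair.side b).pT.exists_le_sylow
  cases b
  · exact (Four.mk D h).z_not_mem_oddGen hP (hcen P) hz hz1 hzH
  · exact (Four.mk D.swap (show Nat.card (Zc T (K true)) = 2 by rw [D.card_Zc_eq, h])).z_not_mem_oddGen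
      hP (hcen P) hz hz1 hzH

theorem exists_mul_mem_oddGen (b : Bool) {g : G} (hg : g ∈ normalizer (K b : Set G)) :
    ∃ x ∈ Zc T (K b), g * x ∈ oddGen G := by
  rw [D.pair.normalizer_eq D.ncomm] at hg
  obtain ⟨k, hk, t, ht, rfl⟩ := (D.pair.side b).exists_mul hg
  rcases D.card_Zc_cases with h | h
  · exact ⟨1, one_mem _, by
      rw [mul_one]; exact mul_mem (D.K_le_oddGen b hk) ((D.card_one_data h).2 ht)⟩
  obtain ⟨z, hz, hz1⟩ := (Four.mk D h).exists_z b
  rcases (Four.mk D h).T_cases hz hz1 ht with h' | h'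
  · exact ⟨1, one_mem _, by rw [mul_one]; exact mul_mem (D.K_le_oddGen b hk) (D.D_le_oddGen h')⟩
  · exact ⟨z, hz, by rw [mul_assoc]; exact mul_mem (D.K_le_oddGen b hk) (D.D_le_oddGen h')⟩

theorem iso_inter (b : Bool) :
    Nonempty (↥(normalizer (K b : Set G) ⊓ oddGen G) ≃* Equiv.Perm (Fin 4)) := by
  have hN := D.pair.normalizer_eq D.ncomm b
  rcases D.card_Zc_cases with h | h
  · have hle : normalizer (K b : Set G) ≤ oddGen G :=
      hN.le.trans (sup_le (D.K_le_oddGen b) (D.card_one_data h).2)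
    obtain ⟨e⟩ := (D.pair.iso D.ncomm b).1 (by rw [D.card_Zc_eq, h])
    exact ⟨(MulEquiv.subgroupCongr ((inf_eq_left.2 hle).trans hN)).trans e⟩
  have F := Four.mk D h
  obtain ⟨e⟩ := (D.pair.iso D.ncomm b).2 (by rw [D.card_Zc_eq, h])
  obtain ⟨z, hz, hz1⟩ := F.exists_z b
  have hzP : z ∈ K b ⊔ T := mem_sup_right ((D.pair.side b).Z_le_T hz.1)
  have hzH : z ∉ oddGen G := fun hh => hz1 (D.Zc_inter_oddGen hcen b hz hh)
  have hcz : ∀ g : ↥(K b ⊔ T), g * ⟨z, hzP⟩ = ⟨z, hzP⟩ * g := fun g =>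
    Subtype.ext (F.P_centralizes b g.2 z hz).symm
  have hzfst : (e ⟨z, hzP⟩).1 = 1 := perm_four_center _ fun σ => by
    have := congrArg (fun x => (e x).1) (hcz (e.symm (σ, 1)))
    simpa using this.symm
  have hle : normalizer (K b : Set G) ⊓ oddGen G ≤ K b ⊔ T := inf_le_left.trans hN.le
  let f : ↥(normalizer (K b : Set G) ⊓ oddGen G) →* Equiv.Perm (Fin 4) :=
    (MonoidHom.fst _ _).comp (e.toMonoidHom.comp (inclusion hle))
  refine ⟨MulEquiv.ofBijective f ⟨?_, fun σ => ?_⟩⟩
  · rw [← MonoidHom.ker_eq_bot_iff]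
    refine (Subgroup.eq_bot_iff_forall _).2 fun x hx => ?_
    have hx1 : (e (inclusion hle x)).1 = 1 := hx
    have hzsnd : (e ⟨z, hzP⟩).2 ≠ 1 := fun hh => hz1 (congrArg Subtype.val
      (e.injective (show e ⟨z, hzP⟩ = e 1 by rw [map_one]; exact Prod.ext hzfst hh)))
    rcases multZModTwo_cases _ (e (inclusion hle x)).2 hzsnd with hh | hh
    · have e1 : inclusion hle x = 1 :=
        e.injective (by rw [map_one]; exact Prod.ext hx1 hh)
      have e2 : (x : G) = 1 := congrArg Subtype.val e1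
      exact Subtype.ext e2
    · refine absurd ?_ hzH
      have e1 : inclusion hle x = ⟨z, hzP⟩ :=
        e.injective (Prod.ext (hx1.trans hzfst.symm) hh)
      have e2 : (x : G) = z := congrArg Subtype.val e1
      exact e2 ▸ x.2.2
  · set g := e.symm (σ, 1)
    have hgN : (g : G) ∈ normalizer (K b : Set G) := hN.ge g.2
    obtain ⟨x, hx, hgx⟩ := D.exists_mul_mem_oddGen hcen b hgN
    have hxP : x ∈ K b ⊔ T := mem_sup_right ((D.pair.side b).Z_le_T hx.1)
    refine ⟨⟨(g : G) * x, mem_inf.2 ⟨mul_mem hgN (hN.ge hxP), hgx⟩⟩, ?_⟩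
    show (e (g * ⟨x, hxP⟩)).1 = σ
    have hxfst : (e ⟨x, hxP⟩).1 = 1 := perm_four_center _ fun τ => by
      have := congrArg (fun y => (e y).1) (show e.symm (τ, 1) * ⟨x, hxP⟩ = ⟨x, hxP⟩ * e.symm (τ, 1)
        from Subtype.ext (F.P_centralizes b (e.symm (τ, 1)).2 x hx).symm)
      simpa using this.symm
    rw [map_mul, Prod.fst_mul, hxfst, mul_one, MulEquiv.apply_symm_apply]

/-- A `2`-subgroup of `H` normalized by the side inside `H` is the four-group of the side. -/
theorem eq_W_of_normalized (b : Bool) {R : Subgroup G} (hR : IsPGroup 2 R) (hR1 : R ≠ ⊥)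
    (hRH : R ≤ oddGen G)
    (hN : normalizer (K b : Set G) ⊓ oddGen G ≤ normalizer (R : Set G)) : R = wOf (K b) := by
  set s := D.pair.side b
  have hPeq := D.pair.normalizer_eq D.ncomm b
  have hWH : wOf (K b) ≤ normalizer (K b : Set G) ⊓ oddGen G :=
    le_inf (s.pre.W_le_K.trans le_normalizer) (D.W_le_oddGen b)
  set X := R ⊓ normalizer (wOf (K b) : Set G)
  have hXP : X ≤ normalizer (K b : Set G) := inf_le_right.trans (D.normalizer_W b).le
  have hXn : normalizer (K b : Set G) ≤ normalizer (X : Set G) := by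
    intro g hg
    obtain ⟨x, hx, hgx⟩ := D.exists_mul_mem_oddGen hcen b hg
    have hxP : x ∈ normalizer (K b : Set G) := hPeq.ge (mem_sup_right (s.Z_le_T hx.1))
    have hgxP : g * x ∈ normalizer (K b : Set G) := mul_mem hg hxP
    have h1 : g * x ∈ normalizer (X : Set G) := inf_normalizer_le_normalizer_inf
      ⟨hN (mem_inf.2 ⟨hgxP, hgx⟩),
        le_normalizer (show g * x ∈ normalizer (wOf (K b) : Set G) by rw [D.normalizer_W]; exact hgxP)⟩
    have h2 : x ∈ normalizer (X : Set G) := centralizer_le_normalizer _ fun y hy => by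
      have hyP : y ∈ K b ⊔ T := hPeq.le (hXP hy)
      exact ((sup_le (le_centralizer_iff.1 inf_le_right)
        (D.pair.T_centralizes.trans (centralizer_le (SetLike.coe_subset_coe.2 inf_le_left))) :
          K b ⊔ T ≤ centralizer (Zc T (K b) : Set G)) hyP x hx).symm
    exact (mul_mem_cancel_right h2).1 h1
  have hXW : X ≤ wOf (K b) := by
    intro x hx
    have h1 : x ∈ pCoreOf 2 (K b ⊔ T) := by
      rw [← hPeq]
      exact CfsgLib.Amalgam.le_pCoreOf hXP hXn (hR.to_le inf_le_left) hx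
    rw [s.core_P, D.pair.Q_eq_Y D.ncomm, ← s.Y_eq] at h1
    obtain ⟨a, ha, v, hv, e⟩ := CfsgLib.Comp.exists_mul_of_mem_sup
      (s.W_le_centralizerZ.trans ((centralizer_le (SetLike.coe_subset_coe.2 inf_le_left)).trans
        (centralizer_le_normalizer _))) h1
    have haH : a ∈ oddGen G :=
      (mul_mem_cancel_right (D.W_le_oddGen b hv)).1 (e ▸ hRH hx.1)
    rw [← e, D.Zc_inter_oddGen hcen b ha haH, one_mul]
    exact hv
  have hWR : wOf (K b) ≤ normalizer (R : Set G) := hWH.trans hN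
  have hU : IsPGroup 2 ↥(R ⊔ wOf (K b)) :=
    IsPGroup.to_sup_of_normal_left' hR (elemAb_isPGroup s.pre.elemW) hWR
  have heq : wOf (K b) = R ⊔ wOf (K b) := by
    refine eq_of_normalizer_inf_le hU le_sup_right fun g hg => ?_
    obtain ⟨r, hr, w, hw, rfl⟩ := CfsgLib.Comp.exists_mul_of_mem_sup hWR hg.1
    exact mul_mem (hXW ⟨hr, (mul_mem_cancel_right (le_normalizer hw)).1 hg.2⟩) hw
  have hle : R ≤ wOf (K b) := le_sup_left.trans heq.ge
  refine eq_of_le_of_card_ge hle ?_
  rw [s.cardW]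
  obtain ⟨⟨v, hv⟩, hv1⟩ := Subgroup.ne_bot_iff_exists_ne_one.1 hR1
  replace hv1 : v ≠ 1 := fun e => hv1 (Subtype.ext e)
  obtain ⟨d, hd, hd3, -⟩ := s.pre.exists_d
  have hdv : d * v * d⁻¹ ∈ R := (mem_normalizer_iff.1
    (hN (mem_inf.2 ⟨le_normalizer hd, D.K_le_oddGen b hd⟩)) v).1 hv
  have hne : d * v * d⁻¹ ≠ v := fun e => hv1 (s.pre.fix_eq_one hd hd3 (hle hv) e)
  have h3 : 3 ≤ Nat.card R := by
    rw [show Nat.card R = (R : Set G).ncard from Nat.card_coe_set_eq _]
    refine le_trans ?_ (Set.ncard_le_ncard (s := {1, v, d * v * d⁻¹}) ?_ (Set.toFinite _))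
    · refine Set.ncard_eq_three.2 ⟨_, _, _, Ne.symm hv1, ?_, Ne.symm hne, rfl⟩ |>.ge
      exact fun e => hv1 (conj_eq_one_iff.1 e.symm)
    · rintro y (rfl | rfl | rfl)
      exacts [one_mem R, hv, hdv]
  have hd := Subgroup.card_dvd_of_le hle
  rw [s.cardW] at hd
  have h4 := Nat.le_of_dvd (by norm_num) hd
  interval_cases hk : Nat.card R <;> omega

/-- The two sides inside `H`. -/
theorem exists_symFour :
    ∃ M₁ M₂ : Subgroup (oddGen G), M₁ ≠ M₂ ∧ IsMaximalTwoLocal M₁ ∧ IsMaximalTwoLocal M₂ ∧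
      Nonempty (M₁ ≃* Equiv.Perm (Fin 4)) ∧ Nonempty (M₂ ≃* Equiv.Perm (Fin 4)) ∧
        Nat.card ↥(M₁ ⊓ M₂) = 8 := by
  classical
  set H := oddGen G
  let M : Bool → Subgroup H := fun b => (normalizer (K b : Set G)).subgroupOf H
  have hW : ∀ b, normalizer (((wOf (K b)).subgroupOf H : Subgroup H) : Set H) = M b := fun b => by
    rw [normalizer_subgroupOf (D.W_le_oddGen b), D.normalizer_W]
  have hiso : ∀ b, Nonempty (M b ≃* Equiv.Perm (Fin 4)) := fun b => by
    obtain ⟨e⟩ := D.iso_inter hcen b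
    exact ⟨(MulEquiv.subgroupCongr (inf_subgroupOf_right _ _).symm).trans
      ((subgroupOfEquivOfLe (inf_le_right : normalizer (K b : Set G) ⊓ H ≤ H)).trans e)⟩
  have hrec : ∀ (b : Bool) (R : Subgroup H), IsPGroup 2 R → R ≠ ⊥ →
      M b ≤ normalizer (R : Set H) → R.map H.subtype = wOf (K b) := fun b R hR hR1 hle => by
    refine D.eq_W_of_normalized hcen b (hR.map _) (fun e => hR1 ?_) (map_subtype_le R) fun g hg => ?_
    · exact (Subgroup.map_eq_bot_iff_of_injective _ H.subtype_injective).1 e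
    · have h1 := hle (mem_subgroupOf.2 hg.1 : (⟨g, hg.2⟩ : H) ∈ M b)
      exact le_normalizer_map H.subtype ⟨_, h1, rfl⟩
  have hWp : ∀ b, IsPGroup 2 ↥((wOf (K b)).subgroupOf H) := fun b =>
    (elemAb_isPGroup (D.pair.side b).pre.elemW).of_equiv (subgroupOfEquivOfLe (D.W_le_oddGen b)).symm
  have hWne : ∀ b, (wOf (K b)).subgroupOf H ≠ ⊥ := fun b e => by
    have h4 := (D.pair.side b).cardW
    rw [← Nat.card_congr (subgroupOfEquivOfLe (D.W_le_oddGen b)).toEquiv, e, Subgroup.card_bot] at h4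
    omega
  have hloc : ∀ b, IsTwoLocal (M b) := fun b => ⟨_, hWp b, hWne b, (hW b).symm⟩
  have hmax : ∀ b, IsMaximalTwoLocal (M b) := fun b => by
    refine ⟨hloc b, fun L hL hle => ?_⟩
    obtain ⟨R, hR, hR1, rfl⟩ := hL
    have h1 := hrec b R hR hR1 hle
    rw [← hW b, ← h1, subgroupOf, comap_map_eq_self_of_injective H.subtype_injective]
  have hcard : ∀ b, Nat.card (M b) = 24 := fun b => by
    obtain ⟨e⟩ := hiso b
    rw [Nat.card_congr e.toEquiv, Nat.card_perm, Nat.card_fin]
    rfl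
  have hne : M false ≠ M true := fun e => by
    have h1 := hrec false _ (hWp true) (hWne true) (e.le.trans (hW true).ge)
    rw [map_subgroupOf_eq_of_le (D.W_le_oddGen true)] at h1
    exact D.ncomm (h1.ge.trans (elemAb_le_centralizer (D.pair.side true).pre.elemW))
  refine ⟨M false, M true, hne, hmax false, hmax true, hiso false, hiso true, ?_⟩
  have h8 : Nat.card ↥((Dof K).subgroupOf H) = 8 := by
    rw [Nat.card_congr (subgroupOfEquivOfLe D.D_le_oddGen).toEquiv, D.card_Dof]
  have hle : (Dof K).subgroupOf H ≤ M false ⊓ M true :=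
    le_inf (fun x hx => D.Dof_le_normalizer false hx) (fun x hx => D.Dof_le_normalizer true hx)
  have h1 := Subgroup.card_dvd_of_le hle
  have h2 := Subgroup.card_dvd_of_le (inf_le_left : M false ⊓ M true ≤ M false)
  rw [h8] at h1
  rw [hcard] at h2
  have hne24 : Nat.card ↥(M false ⊓ M true) ≠ 24 := fun e => hne (by
    have ha := eq_of_le_of_card_ge (inf_le_left : M false ⊓ M true ≤ M false) (by rw [e, hcard])
    have hb := eq_of_le_of_card_ge (inf_le_right : M false ⊓ M true ≤ M true) (by rw [e, hcard])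
    exact ha.symm.trans hb)
  obtain ⟨q, hq⟩ := h1
  have h3 := Nat.le_of_dvd (by norm_num) h2
  rw [hq] at h2 h3 hne24 ⊢
  have h4 : q ≤ 3 := by omega
  interval_cases q <;> omega

end Duo

end CfsgLib.ClassK.ZN
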