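import Cfsg.Agent.Lib.ClassK.ZNDegenerate

/-!
An outside component determines a unique maximal `2`-local.
-/

set_option autoImplicit false
set_option linter.unusedSectionVars false

namespace CfsgLib.ClassK.ZN

open Cfsg Subgroup CfsgLib.PLocal
open scoped commutatorElement

universe u

variable {G : Type u} [Group G] [Finite G]

theorem outside_unique {S : Sylow 2 G} {M T K : Subgroup G} (c : Setup G S M)
    (hT : T ∈ maxStraddlingTwoSubgroups M) (hK : K ∈ jComponentsOutside M T) :
    T ≤ normalizer (K : Set G) ∧ IsSylowTwoIn T (normalizer (K : Set G)) ∧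
      IsMaximalTwoLocal (normalizer (K : Set G)) ∧
      ∀ L' : Subgroup G, IsMaximalTwoLocal L' → K ⊔ thompsonSubgroupOf 2 T ≤ L' →
        L' = normalizer (K : Set G) := by
  obtain ⟨S', c', hTS, -⟩ := c.exists_setup (c.pT hT) (c.T_le_M hT)
  have W := c'.world_out hT hTS
  have hns := c'.noShare_out hT hTS
  have hm : Mem T (outP M) K := ⟨hK.1.1, hK.2.1⟩
  have hTK := W.T_le_normalizer_of_core hns hm hK.2.2
  exact ⟨hTK, (W.side hm hTK).syl, W.isMaximal hns hm⟩

end CfsgLib.ClassK.ZN
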