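import Cfsg.Agent.Lib.ClassK.ZNAmalgam

/-!
A family of `J(T)`-components with `J(T)` controlling every `2`-local around one of them: two
distinct members share a `2`-local only if all do.
-/

set_option autoImplicit false
set_option linter.unusedSectionVars false

namespace CfsgLib.ClassK.ZN

open Cfsg Subgroup CfsgLib.PLocal
open scoped commutatorElement

universe u

variable {G : Type u} [Group G]

theorem cj_normalizer (g : G) (H : Subgroup G) :
    cj g (normalizer (H : Set G)) = normalizer (cj g H : Set G) := by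
  refine le_antisymm (fun x hx => mem_normalizer_of_cj ?_) fun x hx => mem_cj.2 (mem_normalizer_of_cj ?_)
  · rw [cj_cj, show x * g = g * (g⁻¹ * x * g) by group, ← cj_cj, cj_eq_self (mem_cj.1 hx)]
  · rw [← cj_cj, ← cj_cj, cj_eq_self hx, cj_inv_cj]

/-- The standing properties of a family `p` of `J(T)`-components, with `Z ≤ Ω₁(Z(J(T)))`. -/
structure World (T : Subgroup G) (p : Subgroup G → Prop) (Z : Subgroup G) : Prop where
  char2 : IsCharacteristicTwoType G
  sol : ∀ N : Subgroup G, IsTwoLocal N → Group.IsSolvable ↥N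
  cen : ∀ P : Sylow 2 G, centralizer (omegaCenterOf (P : Subgroup G) : Set G) ≤
    normalizer ((P : Subgroup G) : Set G)
  pT : IsPGroup 2 T
  T_ne : T ≠ ⊥
  pcj : ∀ n ∈ normalizer (thompsonSubgroupOf 2 T : Set G), ∀ K, p K → p (cj n K)
  thompson : ∀ N : Subgroup G, IsTwoLocal N → ∀ K, IsJComponent T K → p K → K ≤ N →
    ∀ T₁, thompsonSubgroupOf 2 T ≤ T₁ → IsSylowTwoIn T₁ N →
      thompsonSubgroupOf 2 T₁ = thompsonSubgroupOf 2 T
  syl : ∀ N : Subgroup G, IsTwoLocal N → ∀ K, IsJComponent T K → p K → K ≤ N → T ≤ N →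
    IsSylowTwoIn T N
  Z_ne : Z ≠ ⊥
  Z_le : Z ≤ Zof T
  T_cen : T ≤ centralizer (Z : Set G)
  Z_not : ∀ K, IsJComponent T K → p K → ¬ K ≤ centralizer (Z : Set G)
  big : ∃ B : Subgroup G, IsPGroup 2 B ∧ ∀ R : Subgroup G, IsPGroup 2 R →
    R ≤ centralizer (Z : Set G) → R ≤ B

/-- A member of the family. -/
def Mem (T : Subgroup G) (p : Subgroup G → Prop) (K : Subgroup G) : Prop := IsJComponent T K ∧ p K

/-- `K`, `K'` and `J(T)` lie in a common `2`-local. -/
def Share (T K K' : Subgroup G) : Prop :=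
  ∃ N : Subgroup G, IsTwoLocal N ∧ K ≤ N ∧ K' ≤ N ∧ thompsonSubgroupOf 2 T ≤ N

/-- All members share `2`-locals pairwise. -/
def AllShare (T : Subgroup G) (p : Subgroup G → Prop) : Prop :=
  ∀ K K', Mem T p K → Mem T p K' → Share T K K'

/-- No two different members share a `2`-local. -/
def NoShare (T : Subgroup G) (p : Subgroup G → Prop) : Prop :=
  ∀ K K', Mem T p K → Mem T p K' → Share T K K' → K = K'

theorem Share.symm {T K K' : Subgroup G} (h : Share T K K') : Share T K' K := by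
  obtain ⟨N, h1, h2, h3, h4⟩ := h; exact ⟨N, h1, h3, h2, h4⟩

variable [Finite G]

namespace World

variable {T Z : Subgroup G} {p : Subgroup G → Prop} (W : World T p Z)

local notation "J" => thompsonSubgroupOf 2 T

include W

theorem mem_cj_of {n : G} (hn : n ∈ normalizer (J : Set G)) {K : Subgroup G} (hK : Mem T p K) :
    Mem T p (cj n K) :=
  ⟨isJComponent_congr (by rw [← cj_thompson, cj_eq_self hn]) (isJComponent_cj n hK.1),
    W.pcj n hn K hK.2⟩

theorem Zof_cj {n : G} (hn : n ∈ normalizer (J : Set G)) : cj n (Zof T) = Zof T :=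
  cj_eq_self (normalizer_le_normalizer_omegaCenterOf _ hn)

theorem cj_Wz {n : G} (hn : n ∈ normalizer (J : Set G)) (K : Subgroup G) :
    cj n (Wz T K) = Wz T (cj n K) := by
  rw [cj_inf, W.Zof_cj hn, cj_wOf]

theorem cj_Zc {n : G} (hn : n ∈ normalizer (J : Set G)) (K : Subgroup G) :
    cj n (Zc T K) = Zc T (cj n K) := by
  rw [cj_inf, W.Zof_cj hn, cj_centralizer]

theorem cj_Yof {n : G} (hn : n ∈ normalizer (J : Set G)) (K : Subgroup G) :
    cj n (Yof T K) = Yof T (cj n K) := by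
  rw [cj_sup, W.Zof_cj hn, cj_wOf]

theorem zero {K : Subgroup G} (hK : Mem T p K) : K ∈ jComponentsZero T := by
  have hc := pre_of_isJComponent W.pT hK.1
  exact ⟨hK.1, fun S hJS hS => W.thompson _
    ⟨_, elemAb_isPGroup hc.elemW, Comp.W_ne_bot W.pT hK.1, rfl⟩ K hK.1 hK.2
    (le_sup_left.trans hc.KJ_le_normW) S hJS hS⟩

theorem normalizer_eq {K : Subgroup G} (hK : Mem T p K) :
    normalizer (K : Set G) = normalizer (wOf K : Set G) :=
  normalizer_component_eq W.char2 W.sol W.cen W.pT (W.zero hK)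

theorem isTwoLocal_normalizer {K : Subgroup G} (hK : Mem T p K) :
    IsTwoLocal (normalizer (K : Set G)) :=
  ⟨wOf K, elemAb_isPGroup (pre_of_isJComponent W.pT hK.1).elemW, Comp.W_ne_bot W.pT hK.1,
    W.normalizer_eq hK⟩

theorem exists_over {N : Subgroup G} (hN : IsTwoLocal N) {K : Subgroup G} (hK : Mem T p K)
    (hKN : K ≤ N) (hJN : J ≤ N) :
    ∃ T₁, thompsonSubgroupOf 2 T₁ = J ∧ Over T₁ N := by
  have hc := pre_of_isJComponent W.pT hK.1
  obtain ⟨T₁, hT₁, hJT⟩ := exists_isSylowTwoIn hc.pJ hJN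
  have hJ := W.thompson N hN K hK.1 hK.2 hKN T₁ hJT hT₁
  refine ⟨T₁, hJ, over_of_zn W.sol W.cen ⟨hT₁, fun hle => ?_, ?_⟩ ?_⟩
  · have h1 : thompsonSubgroupOf 2 (pCoreOf 2 N) = J := by
      rw [thompsonOf_eq_of_le hle (le_sylowTwoIn_core hT₁), hJ]
    obtain ⟨d, hd, -, hdQ⟩ := hc.exists_d
    refine hdQ (hc.le_Q (hc.pJ.to_le ?_) le_rfl hd)
    conv_lhs => rw [← hc.comm]
    refine le_normalizer_iff_commutator_le_right.1 ?_
    rw [← h1]
    exact hKN.trans ((CfsgLib.Amalgam.le_normalizer_pCoreOf N).trans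
      (normalizer_le_normalizer_thompsonOf _))
  · obtain ⟨R, hR, hR1, rfl⟩ := hN
    exact centralizer_core_le W.char2 hR hR1
  · exact fun e => Comp.W_ne_bot W.pT hK.1
      (le_bot_iff.1 (((Comp.W_le_J W.pT hK.1).trans hJT).trans e.le))

theorem share_props {K K' : Subgroup G} (hK : Mem T p K) (hK' : Mem T p K') (hne : K ≠ K')
    (h : Share T K K') :
    wOf K ⊓ wOf K' = ⊥ ∧ K ≤ centralizer (wOf K' : Set G) := by
  obtain ⟨N, hN, hKN, hKN', hJN⟩ := h
  obtain ⟨T₁, hJ, ho⟩ := W.exists_over hN hK hKN hJN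
  have h1 := isJComponent_congr hJ hK.1
  have h2 := isJComponent_congr hJ hK'.1
  refine ⟨?_, ?_⟩
  · by_contra hint
    exact hne (eq_of_common_point ho h1 hKN h2 hKN' hint).symm
  obtain ⟨ι, -, -, P, a, d, hf⟩ := ho.exists_frame
  obtain ⟨i, hi⟩ := hf.exists_coord ho h1 hKN
  obtain ⟨k, hk⟩ := hf.exists_coord ho h2 hKN'
  have hik : k ≠ i := by
    rintro rfl
    exact hne (le_antisymm (hf.eq_of_coord ho h2 hKN' h1 hKN hk hi)
      (hf.eq_of_coord ho h1 hKN h2 hKN' hi hk))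
  rw [hf.W_eq_plane ho h2 hKN' hk]
  refine hi.trans (sup_le (inf_le_right.trans (centralizer_le ?_)) (zpowers_le.2 fun u hu => ?_))
  · exact SetLike.coe_subset_coe.2 (hf.plane_le ho k)
  · exact (mul_inv_eq_iff_eq_mul.1 (hf.plane_other ho hik hu)).symm

theorem Wz_le_Zc_of_share {K K' : Subgroup G} (hK : Mem T p K) (hK' : Mem T p K') (hne : K ≠ K')
    (h : Share T K K') : Wz T K' ≤ Zc T K :=
  inf_le_inf_left _ (le_centralizer_iff.1 (W.share_props hK hK' hne h).2)

theorem share_of_Zc {K K' : Subgroup G} (h : Zc T K ⊓ Zc T K' ≠ ⊥) : Share T K K' := by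
  set R := Zc T K ⊓ Zc T K'
  refine ⟨normalizer (R : Set G), ⟨R, (elemAb_isPGroup (elemAb_omegaCenterOf _)).to_le
    (inf_le_left.trans inf_le_left), h, rfl⟩, ?_, ?_, ?_⟩
  · exact (le_centralizer_iff.1 (inf_le_left.trans inf_le_right : R ≤ _)).trans
      (centralizer_le_normalizer _)
  · exact (le_centralizer_iff.1 (inf_le_right.trans inf_le_right : R ≤ _)).trans
      (centralizer_le_normalizer _)
  · exact (le_centralizer_self_omegaCenterOf J).trans
      ((centralizer_le (SetLike.coe_subset_coe.2 (inf_le_left.trans inf_le_left))).trans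
        (centralizer_le_normalizer _))

theorem exists_point {K : Subgroup G} (hK : Mem T p K) :
    Nat.card (Wz T K) = 2 ∧ Zc T K ⊓ Wz T K = ⊥ ∧ Nat.card (Zof T) = 2 * Nat.card (Zc T K) ∧
      Zc T K ⊔ Wz T K = Zof T := by
  have hc := pre_of_isJComponent W.pT hK.1
  have h1 : Nat.card (Wz T K) = 2 := by
    show Nat.card ↥(Zof T ⊓ wOf K) = 2
    rw [Comp.Z0_inf_W W.pT hK.1]; exact Comp.card_inf_centralizer_J W.pT hK.1
  have h2 : Zc T K ⊓ Wz T K = ⊥ := by
    refine (Subgroup.eq_bot_iff_forall _).2 fun v hv => ?_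
    obtain ⟨d, hd, hd3, -⟩ := hc.exists_d
    exact hc.fix_eq_one hd hd3 hv.2.2 (mul_inv_eq_iff_eq_mul.2 (hv.1.2 d hd))
  have h4 : Zc T K ⊔ Wz T K = Zof T := by
    refine le_antisymm (sup_le inf_le_left inf_le_left) ((Comp.Z0_decomp W.pT hK.1).ge.trans
      (sup_le_sup_right ?_ _))
    exact inf_le_inf_left _ (inf_le_right.trans (centralizer_le (SetLike.coe_subset_coe.2 le_sup_left)))
  refine ⟨h1, h2, ?_, h4⟩
  conv_lhs => rw [← h4]
  rw [CfsgLib.Coprime.card_sup_of_inf_eq_bot ?_ ((inf_comm _ _).trans h2), h1, mul_comm]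
  exact ((inf_le_left : Wz T K ≤ Zof T).trans (elemAb_le_centralizer (elemAb_omegaCenterOf _))).trans
    ((centralizer_le (SetLike.coe_subset_coe.2 inf_le_left)).trans (centralizer_le_normalizer _))

theorem card_Zc_eq {K K' : Subgroup G} (hK : Mem T p K) (hK' : Mem T p K') :
    Nat.card (Zc T K) = Nat.card (Zc T K') := by
  have := (W.exists_point hK).2.2.1
  have := (W.exists_point hK').2.2.1
  omega

/-- With `|Ω₁(Z(J(T)))| ≤ 4` a member is determined by the point it centralizes. -/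
theorem eq_of_Zc_eq {K K' : Subgroup G} (hK : Mem T p K) (hK' : Mem T p K')
    (hc : Nat.card (Zc T K) = 2) (h : Zc T K = Zc T K') : K = K' := by
  by_contra hne
  have hne0 : Zc T K ⊓ Zc T K' ≠ ⊥ := by
    rw [← h, inf_idem]
    intro e; rw [e, Subgroup.card_bot] at hc; omega
  have h1 := W.Wz_le_Zc_of_share hK hK' hne (W.share_of_Zc hne0)
  rw [h] at h1
  obtain ⟨hc', hd, -, -⟩ := W.exists_point hK'
  rw [inf_eq_right.2 h1] at hd
  rw [hd, Subgroup.card_bot] at hc'
  omega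

theorem Zc_card_le_two (hA : ¬ AllShare T p) {K : Subgroup G} (hK : Mem T p K) :
    Nat.card (Zc T K) ≤ 2 := by
  unfold AllShare at hA
  push Not at hA
  obtain ⟨K₁, K₂, hK₁, hK₂, hns⟩ := hA
  have hd : Zc T K₁ ⊓ Zc T K₂ = ⊥ := by_contra fun e => hns (W.share_of_Zc e)
  have h1 := card_mul_le_card_sup_mul_inf (Zc T K₁) (Zc T K₂)
  rw [hd, Subgroup.card_bot, mul_one] at h1
  have h2 : Nat.card ↥(Zc T K₁ ⊔ Zc T K₂) ≤ Nat.card (Zof T) :=
    card_le_of_le (sup_le inf_le_left inf_le_left)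
  have h4 := h1.trans h2
  rw [← W.card_Zc_eq hK hK₁, ← W.card_Zc_eq hK hK₂, (W.exists_point hK).2.2.1] at h4
  exact Nat.le_of_mul_le_mul_right h4 Nat.card_pos

/-- If `T` centralizes `Ω₁(Z(J(T)))` of order `4`, it normalizes every member. -/
theorem T_le_normalizer (hZ : T ≤ centralizer (Zof T : Set G)) {K : Subgroup G} (hK : Mem T p K)
    (hc : Nat.card (Zc T K) = 2) : T ≤ normalizer (K : Set G) := fun t ht => by
  have htJ : t ∈ normalizer (J : Set G) := normalizer_le_normalizer_thompsonOf T (le_normalizer ht)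
  refine mem_normalizer_of_cj ?_
  have hm := W.mem_cj_of htJ hK
  refine W.eq_of_Zc_eq hm hK (by rw [← W.cj_Zc htJ, card_cj]; exact hc) ?_
  rw [← W.cj_Zc htJ]
  exact cj_eq_self (centralizer_le_normalizer _
    (centralizer_le (SetLike.coe_subset_coe.2 inf_le_left) (hZ ht)))

theorem side {K : Subgroup G} (hK : Mem T p K) (hTK : T ≤ normalizer (K : Set G)) : Side T K :=
  ⟨W.pT, hK.1, (W.normalizer_eq hK).ge,
    W.syl _ (W.isTwoLocal_normalizer hK) K hK.1 hK.2 le_normalizer hTK, by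
    rw [W.normalizer_eq hK]
    exact centralizer_core_le W.char2 (elemAb_isPGroup (pre_of_isJComponent W.pT hK.1).elemW)
      (Comp.W_ne_bot W.pT hK.1)⟩

theorem big_Zof : ∃ B : Subgroup G, IsPGroup 2 B ∧ ∀ R : Subgroup G, IsPGroup 2 R →
    R ≤ centralizer (Zof T : Set G) → R ≤ B := by
  obtain ⟨B, hB, h⟩ := W.big
  exact ⟨B, hB, fun R hR hle => h R hR (hle.trans (centralizer_le (SetLike.coe_subset_coe.2 W.Z_le)))⟩

theorem pair {K K' : Subgroup G} (hns : ¬ Share T K K')
    (s : Side T K) (s' : Side T K') : Pair T (fun b => if b then K' else K) where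
  side := fun b => by cases b <;> simpa
  noCommon := fun R hR h => by
    by_contra hR1
    have h1 : K ⊔ T ≤ normalizer (R : Set G) := h false
    have h2 : K' ⊔ T ≤ normalizer (R : Set G) := h true
    exact hns ⟨_, ⟨R, hR, hR1, rfl⟩, le_sup_left.trans h1, le_sup_left.trans h2,
      (thompsonOf_le T).trans (le_sup_right.trans h1)⟩
  big := W.big_Zof

/-- Either all members share or no two different ones do. -/
theorem noShare_of_not_allShare (hA : ¬ AllShare T p) : NoShare T p := by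
  intro K K' hK hK' hs
  by_contra hne
  have h1 := W.Wz_le_Zc_of_share hK hK' hne hs
  have h1' := W.Wz_le_Zc_of_share hK' hK (Ne.symm hne) hs.symm
  have hw := (W.exists_point hK').1
  have hw' := (W.exists_point hK).1
  have hc : ∀ M, Mem T p M → Nat.card (Zc T M) = 2 := fun M hM => by
    have h2 := W.Zc_card_le_two hA hM
    have h3 := card_le_of_le h1
    have h4 := W.card_Zc_eq hM hK
    omega
  have eK : Wz T K' = Zc T K := eq_of_le_of_card_ge h1 (by rw [hc K hK, hw])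
  have eK' : Wz T K = Zc T K' := eq_of_le_of_card_ge h1' (by rw [hc K' hK', hw'])
  -- a third member
  obtain ⟨M, hM, hMK, hMK'⟩ : ∃ M, Mem T p M ∧ M ≠ K ∧ M ≠ K' := by
    by_contra! hcon
    apply hA
    intro A B hA' hB'
    by_cases eA : A = K <;> by_cases eB : B = K
    · subst eA; subst eB
      obtain ⟨N, h2, h3, -, h5⟩ := hs
      exact ⟨N, h2, h3, h3, h5⟩
    · rw [eA, hcon B hB' eB]; exact hs
    · rw [eB, hcon A hA' eA]; exact hs.symm
    · rw [hcon A hA' eA, hcon B hB' eB]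
      obtain ⟨N, h2, -, h4, h5⟩ := hs
      exact ⟨N, h2, h4, h4, h5⟩
  have hcard : Nat.card (Zof T) = 4 := by rw [(W.exists_point hK).2.2.1, hc K hK]
  -- every point is centralized by a member
  obtain ⟨a, ha, ha1, haz⟩ : ∃ a ∈ Zc T K, a ≠ 1 ∧ zpowers a = Zc T K := by
    obtain ⟨⟨a, ha⟩, ha1⟩ := Subgroup.ne_bot_iff_exists_ne_one.1
      (fun e => by have := hc K hK; rw [e, Subgroup.card_bot] at this; omega : Zc T K ≠ ⊥)
    refine ⟨a, ha, fun e => ha1 (Subtype.ext e), eq_of_le_of_card_ge (zpowers_le.2 ha) ?_⟩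
    rw [hc K hK, Nat.card_zpowers, orderOf_eq_prime ((elemAb_omegaCenterOf _).2 a ha.1)
      fun e => ha1 (Subtype.ext e)]
  obtain ⟨b, hb, hb1, hbz⟩ : ∃ b ∈ Zc T K', b ≠ 1 ∧ zpowers b = Zc T K' := by
    obtain ⟨⟨b, hb⟩, hb1⟩ := Subgroup.ne_bot_iff_exists_ne_one.1
      (fun e => by have := hc K' hK'; rw [e, Subgroup.card_bot] at this; omega : Zc T K' ≠ ⊥)
    refine ⟨b, hb, fun e => hb1 (Subtype.ext e), eq_of_le_of_card_ge (zpowers_le.2 hb) ?_⟩
    rw [hc K' hK', Nat.card_zpowers, orderOf_eq_prime ((elemAb_omegaCenterOf _).2 b hb.1)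
      fun e => hb1 (Subtype.ext e)]
  obtain ⟨m, hm, hm1, hmz⟩ : ∃ m ∈ Zc T M, m ≠ 1 ∧ zpowers m = Zc T M := by
    obtain ⟨⟨m, hm⟩, hm1⟩ := Subgroup.ne_bot_iff_exists_ne_one.1
      (fun e => by have := hc M hM; rw [e, Subgroup.card_bot] at this; omega : Zc T M ≠ ⊥)
    refine ⟨m, hm, fun e => hm1 (Subtype.ext e), eq_of_le_of_card_ge (zpowers_le.2 hm) ?_⟩
    rw [hc M hM, Nat.card_zpowers, orderOf_eq_prime ((elemAb_omegaCenterOf _).2 m hm.1)
      fun e => hm1 (Subtype.ext e)]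
  have hsq : ∀ x ∈ Zof T, x * x = 1 := fun x hx => by
    rw [← pow_two]; exact (elemAb_omegaCenterOf _).2 x hx
  have hab : a ≠ b := fun e => hne (W.eq_of_Zc_eq hK hK' (hc K hK) (by rw [← haz, ← hbz, e]))
  have hma : m ≠ a := fun e => hMK (W.eq_of_Zc_eq hM hK (hc M hM) (by rw [← haz, ← hmz, e]))
  have hmb : m ≠ b := fun e => hMK' (W.eq_of_Zc_eq hM hK' (hc M hM) (by rw [← hbz, ← hmz, e]))
  have hmab : m = a * b :=
    (four_cases hcard hsq ha.1 hb.1 ha1 hb1 hab hm.1).resolve_left hm1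
      |>.resolve_left hma |>.resolve_left hmb
  -- hence `T` centralizes `Ω₁(Z(J(T)))`
  have hZT : T ≤ centralizer (Zof T : Set G) := by
    obtain ⟨⟨z, hz⟩, hz1⟩ := Subgroup.ne_bot_iff_exists_ne_one.1 W.Z_ne
    obtain ⟨z', hz', hz'z⟩ : ∃ z' ∈ Z, z' ∉ zpowers z := by
      by_contra! hcon
      have hZz : Z = zpowers z := le_antisymm hcon (zpowers_le.2 hz)
      have hz0 : z ≠ 1 := fun e => hz1 (Subtype.ext e)
      obtain ⟨N₀, hN₀, hN₀z⟩ : ∃ N₀, Mem T p N₀ ∧ z ∈ Zc T N₀ := by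
        rcases four_cases hcard hsq ha.1 hb.1 ha1 hb1 hab (W.Z_le hz) with e | e | e | e
        · exact absurd e hz0
        · exact ⟨K, hK, e ▸ ha⟩
        · exact ⟨K', hK', e ▸ hb⟩
        · exact ⟨M, hM, by rw [e, ← hmab]; exact hm⟩
      refine W.Z_not N₀ hN₀.1 hN₀.2 ?_
      rw [hZz, le_centralizer_iff, zpowers_le]
      exact hN₀z.2
    have hz0 : z ≠ 1 := fun e => hz1 (Subtype.ext e)
    have hle : Zof T ≤ Z := four_le_zpowers_sup hcard hsq (W.Z_le hz) (W.Z_le hz') hz0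
      (fun e => hz'z (e ▸ one_mem _)) (fun e => hz'z (e ▸ mem_zpowers _)) hz hz'
    exact W.T_cen.trans (centralizer_le (SetLike.coe_subset_coe.2 hle))
  have hsd : ∀ A, Mem T p A → Side T A := fun A hA' =>
    W.side hA' (W.T_le_normalizer hZT hA' (hc A hA'))
  -- the point of the third member is one of the two others
  have main : ∀ A B, Mem T p A → Mem T p B → A ≠ B → Share T A B → Zc T A = Wz T B →
      Zc T B = Wz T A → Zc T M ≠ Zc T A → Zc T M ≠ Zc T B → Wz T M = Wz T A → False := by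
    intro A B hA' hB' hAB hsAB eA eB hMA hMB eM
    have hAM : A ≠ M := fun e => hMA (by rw [e])
    have hns : ¬ Share T A M := fun e => by
      have h2 := W.Wz_le_Zc_of_share hM hA' hAM.symm e.symm
      have h3 : Wz T A = Zc T M := eq_of_le_of_card_ge h2 (by rw [hc M hM, (W.exists_point hA').1])
      exact hMB (by rw [← h3, eB])
    have P := W.pair hns (hsd A hA') (hsd M hM)
    have hcom : ¬ wOf A ≤ centralizer (wOf M : Set G) := by
      refine P.not_commute fun i j hb _ _ _ _ => ?_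
      exfalso
      cases i
      · have h4 : Wz T M ≤ Zc T A := le_inf inf_le_left hb
        rw [eM, ← inf_eq_right, (W.exists_point hA').2.1] at h4
        have := (W.exists_point hA').1
        rw [← h4, Subgroup.card_bot] at this
        omega
      · have h4 : Wz T A ≤ Zc T M := le_inf inf_le_left hb
        rw [← eM, ← inf_eq_right, (W.exists_point hM).2.1] at h4
        have := (W.exists_point hM).1
        rw [← h4, Subgroup.card_bot] at this
        omega
    have hQ : Qof T A = Yof T A := P.Q_eq_Y hcom false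
    obtain ⟨hd, hAW⟩ := W.share_props hB' hA' hAB.symm hsAB.symm
    have hBQ : wOf B ≤ Qof T A := by
      refine le_inf (hsd B hB').W_le_T ?_
      exact ((pre_of_isJComponent W.pT hB'.1).W_le_K).trans hAW
    have h5 : wOf A ⊔ wOf B ≤ Yof T A := sup_le le_sup_right (hQ ▸ hBQ)
    have h6 := card_le_of_le h5
    rw [(hsd A hA').card_Y, hc A hA', CfsgLib.Coprime.card_sup_of_inf_eq_bot
      ((hBQ.trans inf_le_right).trans (centralizer_le_normalizer _)) hd, (hsd A hA').cardW,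
      (hsd B hB').cardW] at h6
    omega
  obtain ⟨hcM, hdM, -, -⟩ := W.exists_point hM
  obtain ⟨⟨x, hx⟩, hx1⟩ := Subgroup.ne_bot_iff_exists_ne_one.1
    (fun e => by rw [e, Subgroup.card_bot] at hcM; omega : Wz T M ≠ ⊥)
  have hx0 : x ≠ 1 := fun e => hx1 (Subtype.ext e)
  have hWM : ∀ L : Subgroup G, Nat.card L = 2 → x ∈ L → Wz T M = L := fun L hL hxL => by
    have e1 : zpowers x = Wz T M := eq_of_le_of_card_ge (zpowers_le.2 hx) (by
      rw [hcM, Nat.card_zpowers, orderOf_eq_prime (by rw [pow_two]; exact hsq x hx.1) hx0])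
    have e2 : zpowers x = L := eq_of_le_of_card_ge (zpowers_le.2 hxL) (by
      rw [hL, Nat.card_zpowers, orderOf_eq_prime (by rw [pow_two]; exact hsq x hx.1) hx0])
    rw [← e1, e2]
  rcases four_cases hcard hsq ha.1 hb.1 ha1 hb1 hab hx.1 with e | e | e | e
  · exact hx0 e
  · refine main K' K hK' hK (Ne.symm hne) hs.symm eK'.symm eK.symm
      (fun e' => hMK' (W.eq_of_Zc_eq hM hK' (hc M hM) e'))
      (fun e' => hMK (W.eq_of_Zc_eq hM hK (hc M hM) e')) ?_
    rw [eK]; exact hWM _ (hc K hK) (e ▸ ha)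
  · refine main K K' hK hK' hne hs eK.symm eK'.symm
      (fun e' => hMK (W.eq_of_Zc_eq hM hK (hc M hM) e'))
      (fun e' => hMK' (W.eq_of_Zc_eq hM hK' (hc M hM) e')) ?_
    rw [eK']; exact hWM _ (hc K' hK') (e ▸ hb)
  · rw [← hmab] at e
    have : x ∈ Zc T M ⊓ Wz T M := ⟨e ▸ hm, hx⟩
    rw [hdM] at this
    exact hx0 (mem_bot.1 this)

/-- Without sharing, the `2`-locals over a member and `J(T)` lie in its normalizer. -/
theorem le_normalizer_of_noShare (hns : NoShare T p) {K : Subgroup G} (hK : Mem T p K)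
    {N : Subgroup G} (hN : IsTwoLocal N) (hKN : K ≤ N) (hJN : J ≤ N) :
    N ≤ normalizer (K : Set G) := by
  obtain ⟨T₁, hJ, ho⟩ := W.exists_over hN hK hKN hJN
  obtain ⟨ι, -, -, P, a, d, hf⟩ := ho.exists_frame
  intro g hg
  obtain ⟨q, hq, n, hn, rfl⟩ := hf.exists_mul ho hg
  refine mul_mem (hf.P_le_normK ho (isJComponent_congr hJ hK.1) hKN hq) ?_
  obtain ⟨hnN, hnJ⟩ := mem_inf.1 hn
  rw [hJ] at hnJ
  refine mem_normalizer_of_cj (hns _ _ (W.mem_cj_of hnJ hK) hK ⟨N, hN, ?_, hKN, hJN⟩)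
  rw [← cj_eq_self (le_normalizer hnN)]
  exact cj_mono hKN

/-- A member with a nontrivial `O₂(⟨K, T⟩)` is invariant under `T`. -/
theorem T_le_normalizer_of_core (hns : NoShare T p) {K : Subgroup G} (hK : Mem T p K)
    (h : pCoreOf 2 (K ⊔ T) ≠ ⊥) : T ≤ normalizer (K : Set G) := by
  have hle : K ⊔ T ≤ normalizer (pCoreOf 2 (K ⊔ T) : Set G) :=
    CfsgLib.Amalgam.le_normalizer_pCoreOf _
  exact (le_sup_right.trans hle).trans (W.le_normalizer_of_noShare hns hK
    ⟨_, CfsgLib.Amalgam.isPGroup_pCoreOf _, h, rfl⟩ (le_sup_left.trans hle)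
    ((thompsonOf_le T).trans (le_sup_right.trans hle)))

theorem isMaximal (hns : NoShare T p) {K : Subgroup G} (hK : Mem T p K) :
    IsMaximalTwoLocal (normalizer (K : Set G)) ∧
      ∀ L' : Subgroup G, IsMaximalTwoLocal L' → K ⊔ J ≤ L' → L' = normalizer (K : Set G) := by
  have hc := pre_of_isJComponent W.pT hK.1
  refine ⟨⟨W.isTwoLocal_normalizer hK, fun N hN hle => le_antisymm (W.le_normalizer_of_noShare hns hK
    hN (le_normalizer.trans hle) (hc.J_le_normK.trans hle)) hle⟩, fun L' hL' hle => ?_⟩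
  exact (hL'.2 _ (W.isTwoLocal_normalizer hK)
    (W.le_normalizer_of_noShare hns hK hL'.1 (le_sup_left.trans hle) (le_sup_right.trans hle))).symm

end World

end CfsgLib.ClassK.ZN
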