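import Cfsg.Agent.Lib.ClassK.ZNExist
import Cfsg.Prelude.Def_CaseTheorems

/-!
`J(T)`-components: subnormality, determination by a point of the four-group, and the normalizer of a
component for which `J(T)` controls the normalizer of its four-group.
-/

set_option autoImplicit false
set_option linter.unusedSectionVars false

namespace CfsgLib.ClassK.ZN

open Cfsg Subgroup CfsgLib.PLocal
open scoped commutatorElement

universe u

variable {G : Type u} [Group G] [Finite G]

theorem centralizer_core_le (hL : IsCharacteristicTwoType G) {U : Subgroup G} (hU : IsPGroup 2 U)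
    (hU1 : U ≠ ⊥) :
    centralizer (pCoreOf 2 (normalizer (U : Set G)) : Set G) ≤
      pCoreOf 2 (normalizer (U : Set G)) := by
  intro x hx
  have hUO : U ≤ pCoreOf 2 (normalizer (U : Set G)) :=
    CfsgLib.Amalgam.le_pCoreOf le_normalizer le_rfl hU
  have hxN : x ∈ normalizer (U : Set G) := centralizer_le_normalizer _ (centralizer_le hUO hx)
  exact ⟨⟨x, hxN⟩, hL.2 U hU hU1 (fun y hy => Subtype.ext (hx _ ⟨y, hy, rfl⟩)), rfl⟩

/-- A component inside a member of `𝓛(T)` is subnormal there. -/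
theorem isSubnormal_of_over {T L K : Subgroup G} (h : Over T L) (hK : IsJComponent T K)
    (hKL : K ≤ L) : (K.subgroupOf L).IsSubnormal := by
  obtain ⟨ι, -, -, P, a, d, hf⟩ := h.exists_frame
  have h1 : K ≤ thompsonSubgroupOf 2 L := h.K_le_JL hK hKL
  have hJL : thompsonSubgroupOf 2 L ≤ L := thompsonOf_le L
  refine IsSubnormal.step _ ((thompsonSubgroupOf 2 L).subgroupOf L) (fun x hx => h1 hx) ?_ ?_
  · exact (CfsgLib.Coprime.normal_subgroupOf_of_le_normalizer h.L_le_normJL).isSubnormal
  · refine CfsgLib.Coprime.normal_subgroupOf_of_le_normalizer fun x hx => ?_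
    refine mem_normalizer_iff.2 fun y => ?_
    simp only [mem_subgroupOf, Subgroup.coe_mul, Subgroup.coe_inv]
    exact mem_normalizer_iff.1 (hf.JL_le_normK h hK hKL hx) _

/-- Two components inside a member of `𝓛(T)` whose four-groups meet are equal. -/
theorem eq_of_common_point {T L K K' : Subgroup G} (h : Over T L) (hK : IsJComponent T K)
    (hKL : K ≤ L) (hK' : IsJComponent T K') (hKL' : K' ≤ L) (hne : wOf K ⊓ wOf K' ≠ ⊥) :
    K' = K := by
  obtain ⟨ι, -, -, P, a, d, hf⟩ := h.exists_frame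
  obtain ⟨i, hi⟩ := hf.exists_coord h hK hKL
  obtain ⟨k, hk⟩ := hf.exists_coord h hK' hKL'
  by_cases hik : i = k
  · subst hik
    exact le_antisymm (hf.eq_of_coord h hK hKL hK' hKL' hi hk)
      (hf.eq_of_coord h hK' hKL' hK hKL hk hi)
  · refine absurd ?_ hne
    rw [hf.W_eq_plane h hK hKL hi, hf.W_eq_plane h hK' hKL' hk]
    exact hf.plane_inf h hik

theorem le_normalizer_component {T L K : Subgroup G} (h : Over T L) (hK : IsJComponent T K)
    (hKL : K ≤ L) (hZW : T ⊓ centralizer (T : Set G) ⊓ wOf K ≠ ⊥) :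
    T ≤ normalizer (K : Set G) := by
  intro t ht
  have hK' : IsJComponent T (cj t K) := by
    have := isJComponent_cj t hK
    rwa [cj_eq_self (le_normalizer ht)] at this
  refine mem_normalizer_of_cj (eq_of_common_point h hK hKL hK' ?_ ?_)
  · rw [← cj_eq_self (le_normalizer (h.T_le ht))]
    exact cj_mono hKL
  · refine ne_bot_of_le_ne_bot hZW ?_
    rintro w ⟨⟨-, hwc⟩, hw⟩
    refine ⟨hw, ?_⟩
    rw [← cj_wOf]
    refine mem_cj.2 ?_
    have e : t⁻¹ * w * t = w := by rw [mul_assoc, ← hwc t ht, inv_mul_cancel_left]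
    rwa [e]

/-- The local subgroup `N(W_K)` of a component in `jComponentsZero T`. -/
theorem exists_over_normalizer (hL : IsCharacteristicTwoType G)
    (hN : ∀ N : Subgroup G, IsTwoLocal N → Group.IsSolvable ↥N)
    (hZ : ∀ S : Sylow 2 G, centralizer (omegaCenterOf (S : Subgroup G) : Set G) ≤
      normalizer ((S : Subgroup G) : Set G))
    {T K : Subgroup G} (hT : IsPGroup 2 T) (hK : K ∈ jComponentsZero T) :
    ∃ S : Subgroup G, thompsonSubgroupOf 2 S = thompsonSubgroupOf 2 T ∧
      IsJComponent S K ∧ Over S (normalizer (wOf K : Set G)) := by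
  have hc := pre_of_isJComponent hT hK.1
  set N := normalizer (wOf K : Set G) with hNdef
  have hW1 : wOf K ≠ ⊥ := Comp.W_ne_bot hT hK.1
  have hWp : IsPGroup 2 (wOf K) := elemAb_isPGroup hc.elemW
  have hJN : thompsonSubgroupOf 2 T ≤ N := le_sup_right.trans hc.KJ_le_normW
  have hKN : K ≤ N := le_sup_left.trans hc.KJ_le_normW
  obtain ⟨S, hS, hJS⟩ := exists_isSylowTwoIn hc.pJ hJN
  have hJ : thompsonSubgroupOf 2 S = thompsonSubgroupOf 2 T := hK.2 S hJS hS
  have hmem : N ∈ jOvergroups S := by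
    refine ⟨hS, fun hle => ?_, centralizer_core_le hL hWp hW1⟩
    have h1 : thompsonSubgroupOf 2 (pCoreOf 2 N) = thompsonSubgroupOf 2 T := by
      rw [thompsonOf_eq_of_le hle (le_sylowTwoIn_core hS), hJ]
    have hKJ : K ≤ thompsonSubgroupOf 2 T := by
      conv_lhs => rw [← hc.comm]
      refine le_normalizer_iff_commutator_le_right.1 ?_
      rw [← h1]
      exact hKN.trans ((CfsgLib.Amalgam.le_normalizer_pCoreOf N).trans
        (normalizer_le_normalizer_thompsonOf _))
    obtain ⟨d, hd, -, hdQ⟩ := hc.exists_d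
    exact hdQ (hc.le_Q (hc.pJ.to_le hKJ) le_rfl hd)
  have hS1 : S ≠ ⊥ := fun e =>
    hW1 (le_bot_iff.1 ((Comp.W_le_J hT hK.1).trans (hJS.trans e.le)))
  exact ⟨S, hJ, isJComponent_congr hJ hK.1, over_of_zn hN hZ hmem hS1⟩

theorem normalizer_component_eq (hL : IsCharacteristicTwoType G)
    (hN : ∀ N : Subgroup G, IsTwoLocal N → Group.IsSolvable ↥N)
    (hZ : ∀ S : Sylow 2 G, centralizer (omegaCenterOf (S : Subgroup G) : Set G) ≤
      normalizer ((S : Subgroup G) : Set G))
    {T K : Subgroup G} (hT : IsPGroup 2 T) (hK : K ∈ jComponentsZero T) :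
    normalizer (K : Set G) = normalizer (wOf K : Set G) := by
  refine le_antisymm (normalizer_le_normalizer_wOf K) fun g hg => ?_
  obtain ⟨S, -, hKS, ho⟩ := exists_over_normalizer hL hN hZ hT hK
  obtain ⟨ι, -, -, P, a, d, hf⟩ := ho.exists_frame
  have hKN : K ≤ normalizer (wOf K : Set G) := le_normalizer.trans (normalizer_le_normalizer_wOf K)
  obtain ⟨p, hp, n, hn, rfl⟩ := hf.exists_mul ho hg
  obtain ⟨hnN, hnJ⟩ := mem_inf.1 hn
  refine mul_mem (hf.P_le_normK ho hKS hKN hp) ?_
  have hK' : IsJComponent S (cj n K) :=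
    isJComponent_congr (by rw [← cj_thompson, cj_eq_self hnJ]) (isJComponent_cj n hKS)
  refine mem_normalizer_of_cj (eq_of_common_point ho hKS hKN hK' ?_ ?_)
  · rw [← cj_eq_self (le_normalizer hnN)]
    exact cj_mono hKN
  · rw [← cj_wOf, cj_eq_self hnN, inf_idem]
    exact Comp.W_ne_bot hT hK.1

theorem isJComponent_of_conj_le (hL : IsCharacteristicTwoType G)
    (hN : ∀ N : Subgroup G, IsTwoLocal N → Group.IsSolvable ↥N)
    (hZ : ∀ S : Sylow 2 G, centralizer (omegaCenterOf (S : Subgroup G) : Set G) ≤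
      normalizer ((S : Subgroup G) : Set G))
    {T K : Subgroup G} (hT : IsPGroup 2 T) (hK : K ∈ jComponentsZero T) {g : G}
    (hg : thompsonSubgroupOf 2 (cj g T) ≤ normalizer (wOf K : Set G)) :
    IsJComponent (cj g T) K := by
  obtain ⟨S, hJ, hKS, ho⟩ := exists_over_normalizer hL hN hZ hT hK
  obtain ⟨y, hy, hyS⟩ := exists_cj_of_isSylowTwoIn ho.mem.1
    ((isPGroup_cj g hT).to_le (thompsonOf_le _)) hg
  have h1 : thompsonSubgroupOf 2 (cj y S) = thompsonSubgroupOf 2 (cj g T) := by
    refine thompson_eq_thompson hyS ?_ ?_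
    · rw [aOrd_cj, aOrd_cj, aOrd_congr hJ]
    · rw [← cj_thompson, ← cj_thompson, card_cj, card_cj, hJ]
  have h2 : IsJComponent (cj y S) K := by
    have := isJComponent_cj y hKS
    rwa [cj_eq_self (show y ∈ normalizer (K : Set G) from
      (normalizer_component_eq hL hN hZ hT hK).ge hy)] at this
  exact isJComponent_congr h1.symm h2

end CfsgLib.ClassK.ZN
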